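import Groth.Statements.S4410
import Groth.Agent.AlgGlue.Approx
import Groth.Agent.AlgGlue.ZMT
import Groth.Prelude.Def_Mor2
import Mathlib.AlgebraicGeometry.QuasiAffine
-- import your own Groth.Agent.* helpers here

set_option autoImplicit false
set_option backward.isDefEq.respectTransparency false
set_option backward.isDefEq.respectTransparency.types false
universe u
open CategoryTheory CategoryTheory.Limits AlgebraicGeometry
open EGA2

namespace Groth.Agent.S4410

open CategoryTheory CategoryTheory.Limits AlgebraicGeometry Opposite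
open Groth.Agent.AlgGlue Groth.Agent.QCoh TopologicalSpace

variable {X Y : Scheme.{u}}

theorem isIso_restrict_basicOpen (q : X ⟶ Y) [QuasiCompact q] [QuasiSeparated q] {W : Y.Opens} (hW : IsAffineOpen W)
    (b : Γ(Y, W)) (haff : IsAffineOpen (q ⁻¹ᵁ Y.basicOpen b)) (hinj : Function.Injective (q.app W))
    (hsurj : ∀ z : Γ(X, q ⁻¹ᵁ Y.basicOpen b), ∃ (n : ℕ) (c : Γ(Y, W)),
      res q (Y.basicOpen_le b) (q.app W c) = z * res q (Y.basicOpen_le b) (q.app W b) ^ n) :
    IsIso (q ∣_ Y.basicOpen b) := by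
  haveI : IsAffine (Y.basicOpen b : Scheme.{u}) := hW.basicOpen b
  haveI : IsAffine (q ⁻¹ᵁ Y.basicOpen b : Scheme.{u}) := haff
  suffices h : IsIso (q.app (Y.basicOpen b)) by
    refine (HasAffineProperty.iff_of_isAffine (P := MorphismProperty.isomorphisms Scheme)).mpr
      ⟨inferInstance, ?_⟩
    rw [morphismRestrict_appTop]
    haveI : IsIso (q.app ((Y.basicOpen b).ι ''ᵁ ⊤)) := (Scheme.Opens.ι_image_top _).symm ▸ h
    infer_instance
  rw [ConcreteCategory.isIso_iff_bijective]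
  haveI := hW.isLocalization_basicOpen b
  letI := (res q (Y.basicOpen_le b)).hom.toAlgebra
  haveI hloc := isLocalization_res q hW b
  have key : ∀ (c : Γ(Y, W)), q.app (Y.basicOpen b) (rf Y (Y.basicOpen_le b) c) =
      res q (Y.basicOpen_le b) (q.app W c) := fun c => (res_app q _ c).symm
  refine ⟨(injective_iff_map_eq_zero _).mpr fun z hz => ?_, fun z => ?_⟩
  · obtain ⟨⟨c, ⟨_, n, rfl⟩⟩, hc⟩ := IsLocalization.surj (Submonoid.powers b) z
    have h0 : res q (Y.basicOpen_le b) (q.app W c) = 0 := by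
      rw [← key]
      refine (congrArg (q.app (Y.basicOpen b)) hc.symm).trans ?_
      rw [map_mul, hz, zero_mul]
    obtain ⟨⟨_, m, rfl⟩, hm⟩ := IsLocalization.exists_of_eq (M := Submonoid.powers (q.app W b))
      (S := Γ(X, q ⁻¹ᵁ Y.basicOpen b)) (x := q.app W c) (y := 0) (h0.trans (map_zero _).symm)
    have h2 : b ^ m * c = 0 := hinj (by rw [map_mul, map_pow, map_zero]; simpa using hm)
    have hu : IsUnit (algebraMap Γ(Y, W) Γ(Y, Y.basicOpen b) (b ^ m) *
        algebraMap Γ(Y, W) Γ(Y, Y.basicOpen b) (b ^ n)) :=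
      (IsLocalization.map_units _ (⟨_, m, rfl⟩ : Submonoid.powers b)).mul
        (IsLocalization.map_units _ (⟨_, n, rfl⟩ : Submonoid.powers b))
    refine hu.mul_right_eq_zero.mp ?_
    rw [mul_assoc, mul_comm _ z, hc, ← map_mul, h2, map_zero]
  · obtain ⟨n, c, hc⟩ := hsurj z
    refine ⟨IsLocalization.mk' _ c (⟨_, n, rfl⟩ : Submonoid.powers b), ?_⟩
    have h1 := congrArg (q.app (Y.basicOpen b))
      (IsLocalization.mk'_spec Γ(Y, Y.basicOpen b) c (⟨_, n, rfl⟩ : Submonoid.powers b))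
    rw [map_mul] at h1
    have h2 := h1.trans ((key c).trans hc)
    have hk : q.app (Y.basicOpen b) (algebraMap Γ(Y, W) Γ(Y, Y.basicOpen b) (b ^ n)) =
        res q (Y.basicOpen_le b) (q.app W b) ^ n := by
      rw [← map_pow, ← map_pow]; exact key (b ^ n)
    rw [hk] at h2
    have hu : IsUnit (res q (Y.basicOpen_le b) (q.app W b) ^ n) := by
      rw [← key]; exact (((isUnit_rf_basicOpen b).map (q.app (Y.basicOpen b)).hom)).pow n
    exact hu.mul_left_injective h2

theorem isSeparated_of_isQuasiAffine (f : X ⟶ Y) (h : Mor2.IsQuasiAffine f) : IsSeparated f := by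
  refine (IsZariskiLocalAtTarget.iff_of_iSup_eq_top (P := @IsSeparated) (fun V : Y.affineOpens => V.1)
    (iSup_affineOpens_eq_top Y)).2 fun V => ?_
  haveI := h.2 V.1 V.2
  haveI : (f ⁻¹ᵁ V.1 : Scheme.{u}).IsSeparated :=
    (Scheme.isSeparated_iff _).2 (by
      rw [← terminal.comp_from (f ⁻¹ᵁ V.1).toScheme.toSpecΓ]
      infer_instance)
  exact inferInstanceAs (IsSeparated (f ∣_ V.1))

theorem exists_factor [CompactSpace Y] [QuasiSeparatedSpace Y] {N₀ : Scheme.{u}} (ν : N₀ ⟶ Y)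
    [QuasiCompact ν] [QuasiSeparated ν] [LocallyOfFiniteType ν]
    (hqa : ∀ V : Y.Opens, IsAffineOpen V → Scheme.IsQuasiAffine (ν ⁻¹ᵁ V : Scheme.{u})) :
    ∃ (T : Scheme.{u}) (g : T ⟶ Y) (j : N₀ ⟶ T), IsAffineHom g ∧ LocallyOfFiniteType g ∧ IsImmersion j ∧ j ≫ g = ν := by
  classical
  haveI : CompactSpace N₀ := QuasiCompact.compactSpace_of_compactSpace ν
  have hpt : ∀ x : N₀, ∃ (V : Y.affineOpens) (g : Γ(N₀, ν ⁻¹ᵁ V.1)),
      x ∈ N₀.basicOpen g ∧ IsAffineOpen (N₀.basicOpen g) := by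
    intro x
    obtain ⟨_, ⟨V, hV, rfl⟩, hxV, -⟩ := Y.isBasis_affineOpens.exists_subset_of_mem_open
      (Set.mem_univ (ν x)) isOpen_univ
    haveI := hqa V hV
    obtain ⟨_, ⟨_, ⟨r, hr, rfl⟩, rfl⟩, hxr, -⟩ := (Scheme.IsQuasiAffine.isBasis_basicOpen
      (ν ⁻¹ᵁ V : Scheme.{u})).exists_subset_of_mem_open (Set.mem_univ (⟨x, hxV⟩ : (ν ⁻¹ᵁ V : Scheme.{u}))) isOpen_univ
    refine ⟨⟨V, hV⟩, (ν ⁻¹ᵁ V).topIso.hom r, ?_, ?_⟩
    all_goals rw [show N₀.basicOpen ((ν ⁻¹ᵁ V).topIso.hom r) =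
        (ν ⁻¹ᵁ V).ι ''ᵁ ((ν ⁻¹ᵁ V : Scheme.{u}).basicOpen r) by
      rw [Scheme.image_basicOpen, Scheme.Opens.topIso_hom, Scheme.Opens.ι_appIso]; exact Scheme.basicOpen_res_eq _ _ _]
    · exact ⟨_, hxr, rfl⟩
    · exact hr.image_of_isOpenImmersion _
  choose V g hxg hgaff using hpt
  obtain ⟨t, ht⟩ := isCompact_univ.elim_finite_subcover
    (fun x : N₀ => (N₀.basicOpen (g x) : Set N₀)) (fun x => (N₀.basicOpen (g x)).isOpen)
    (fun x _ => Set.mem_iUnion.mpr ⟨x, hxg x⟩)
  -- each basic open has finitely generated functions, with chosen numerators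
  have hnum : ∀ x : N₀, ∃ s : Set Γ(N₀, ν ⁻¹ᵁ (V x).1), s.Finite ∧ g x ∈ s ∧
      ∀ (B : Subring Γ(N₀, ν ⁻¹ᵁ (V x).1)), Set.range (ν.app (V x).1) ⊆ B → s ⊆ B →
        ∀ z : Γ(N₀, N₀.basicOpen (g x)), ∃ (n : ℕ), ∃ c ∈ B,
          rf N₀ (N₀.basicOpen_le (g x)) c = z * rf N₀ (N₀.basicOpen_le (g x)) (g x) ^ n := by
    intro x
    let D := N₀.basicOpen (g x)
    let L := Γ(N₀, D)
    letI algD : Algebra Γ(N₀, ν ⁻¹ᵁ (V x).1) Γ(N₀, N₀.basicOpen (g x)) :=
      (N₀.presheaf.map (homOfLE (N₀.basicOpen_le (g x))).op).hom.toAlgebra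
    haveI : IsLocalization.Away (g x) Γ(N₀, N₀.basicOpen (g x)) :=
      isLocalization_basicOpen_of_qcqs (ν.isCompact_preimage (V x).2.isCompact)
        (ν.isQuasiSeparated_preimage (V x).2.isQuasiSeparated) (g x)
    have hle : D ≤ ν ⁻¹ᵁ (V x).1 := N₀.basicOpen_le _
    let φ := ν.appLE (V x).1 D hle
    have hft : φ.hom.FiniteType :=
      LocallyOfFiniteType.finiteType_appLE (f := ν) (V x).2 (hgaff x) hle
    algebraize [φ.hom]
    obtain ⟨gens, hgens⟩ := (RingHom.finiteType_algebraMap (A := Γ(Y, (V x).1)) (B := L)).mp hft |>.out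
    choose num hnum' using fun z : L => IsLocalization.surj (Submonoid.powers (g x)) z
    refine ⟨insert (g x) ((fun z => (num z).1) '' (gens : Set L)),
      (gens.finite_toSet.image _).insert _, Set.mem_insert _ _, fun B hB hs z => ?_⟩
    have hz : z ∈ Algebra.adjoin Γ(Y, (V x).1) (gens : Set L) := by rw [hgens]; trivial
    have hgB : g x ∈ B := hs (Set.mem_insert _ _)
    induction hz using Algebra.adjoin_induction with
    | mem z hz =>
      obtain ⟨n, hn⟩ := (num z).2.2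
      refine ⟨n, (num z).1, hs (Set.mem_insert_of_mem _ ⟨z, hz, rfl⟩), ?_⟩
      have := hnum' z
      rw [← hn, map_pow] at this
      exact this.symm
    | algebraMap r =>
      refine ⟨0, ν.app (V x).1 r, hB ⟨r, rfl⟩, ?_⟩
      rw [pow_zero, mul_one]
      rfl
    | add z w _ _ hz hw =>
      obtain ⟨n, c, hc, hcz⟩ := hz
      obtain ⟨m, d, hd, hdw⟩ := hw
      refine ⟨n + m, c * g x ^ m + d * g x ^ n, add_mem (mul_mem hc (pow_mem hgB _))
        (mul_mem hd (pow_mem hgB _)), ?_⟩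
      simp only [rf, map_add, map_mul, map_pow] at hcz hdw ⊢
      rw [hcz, hdw]; ring
    | mul z w _ _ hz hw =>
      obtain ⟨n, c, hc, hcz⟩ := hz
      obtain ⟨m, d, hd, hdw⟩ := hw
      refine ⟨n + m, c * d, mul_mem hc hd, ?_⟩
      simp only [rf, map_mul] at hcz hdw ⊢
      rw [hcz, hdw]; ring
  choose s hsfin hgs hsB using hnum
  obtain ⟨N, hN, hsN⟩ := exists_ftFamily ν (fun x : t => V x.1) (fun x => s x.1) (fun x => hsfin x.1)
  let T := space ν N hN
  let q := toSpace ν N hN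
  let π := proj ν N hN
  haveI : LocallyOfFiniteType π := locallyOfFiniteType_proj ν N hN
  haveI : QuasiCompact (q ≫ π) := by rw [show q ≫ π = ν from toSpace_proj ν N hN]; infer_instance
  haveI : QuasiSeparated (q ≫ π) := by rw [show q ≫ π = ν from toSpace_proj ν N hN]; infer_instance
  haveI : QuasiCompact q := QuasiCompact.of_comp q π
  haveI : QuasiSeparated q := QuasiSeparated.of_comp q π
  have hU : ∀ x : t, ∃ O : T.Opens, IsIso (q ∣_ O) ∧ q ⁻¹ᵁ O = N₀.basicOpen (g x.1) := by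
    intro x
    let VV := V x.1
    have hpre : q ⁻¹ᵁ π ⁻¹ᵁ VV.1 = ν ⁻¹ᵁ VV.1 := by
      rw [← Scheme.Hom.comp_preimage]; exact congrArg (· ⁻¹ᵁ VV.1) (toSpace_proj ν N hN)
    let e := N₀.presheaf.map (eqToHom hpre).op
    have hlift : ∀ c ∈ sub ν N VV.1, ∃ b, q.app (π ⁻¹ᵁ VV.1) b = e c := fun c hc =>
      mem_range_toSpace_app ν N hN VV hc
    obtain ⟨b, hb⟩ := hlift (g x.1) (hsN x (hgs x.1))
    have hbg : q ⁻¹ᵁ T.basicOpen b = N₀.basicOpen (g x.1) := by
      rw [Scheme.preimage_basicOpen, hb]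
      exact Scheme.basicOpen_res_eq _ _ _
    refine ⟨T.basicOpen b, isIso_restrict_basicOpen q (VV.2.preimage π) b (hbg ▸ hgaff x.1)
      (toSpace_app_injective ν N hN VV) fun z => ?_, hbg⟩
    let z' : Γ(N₀, N₀.basicOpen (g x.1)) := N₀.presheaf.map (eqToHom hbg.symm).op z
    obtain ⟨n, c, hc, hcz⟩ := hsB x.1 (sub ν N VV.1)
      (by rintro _ ⟨a, rfl⟩; exact app_mem ν N VV.1 a) (hsN x) z'
    obtain ⟨c', hc'⟩ := hlift c hc
    refine ⟨n, c', ?_⟩
    have h3 := congrArg (N₀.presheaf.map (eqToHom hbg).op) hcz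
    rw [map_mul, map_pow] at h3
    have comb : ∀ a : Γ(N₀, ν ⁻¹ᵁ VV.1), res q (T.basicOpen_le b) (e a) =
        N₀.presheaf.map (eqToHom hbg).op (rf N₀ (N₀.basicOpen_le (g x.1)) a) := fun a => by
      simp only [res, rf, e, ← ConcreteCategory.comp_apply, ← Functor.map_comp]
      rfl
    rw [hc', hb, comb, comb, h3]
    congr 1
    simp only [z', ← ConcreteCategory.comp_apply, ← Functor.map_comp]
    simp
  choose O hO hOpre using hU
  let Oall : T.Opens := ⨆ x, O x
  haveI : IsIso (q ∣_ Oall) := by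
    refine IsZariskiLocalAtTarget.of_iSup_eq_top (P := MorphismProperty.isomorphisms Scheme.{u})
      (fun x => Oall.ι ⁻¹ᵁ O x) ?_ fun x => ?_
    · refine top_le_iff.1 fun y _ => ?_
      obtain ⟨x, hx⟩ := Opens.mem_iSup.1 y.2
      exact Opens.mem_iSup.2 ⟨x, hx⟩
    · refine ((MorphismProperty.isomorphisms Scheme.{u}).arrow_mk_iso_iff
        (morphismRestrictRestrict q Oall _ ≪≫ morphismRestrictEq q ?_)).2 (hO x)
      rw [Scheme.Hom.image_preimage_eq_opensRange_inf, Scheme.Opens.opensRange_ι, inf_eq_right]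
      exact le_iSup O x
  have htop : q ⁻¹ᵁ Oall = ⊤ := top_le_iff.1 fun y _ => by
    obtain ⟨x, hx, hyx⟩ := Set.mem_iUnion₂.1 (ht (Set.mem_univ y))
    have : y ∈ q ⁻¹ᵁ O ⟨x, hx⟩ := by rw [hOpre]; exact hyx
    exact Opens.mem_iSup.2 ⟨⟨x, hx⟩, this⟩
  haveI : IsIso (q ⁻¹ᵁ Oall).ι := by rw [htop]; exact N₀.topIso.isIso_hom
  have hq : q = inv (q ⁻¹ᵁ Oall).ι ≫ (q ∣_ Oall) ≫ Oall.ι := by
    rw [morphismRestrict_ι, IsIso.inv_hom_id_assoc]
  haveI : IsOpenImmersion q := by rw [hq]; infer_instance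
  exact ⟨T, π, q, inferInstance, inferInstance, inferInstance, toSpace_proj ν N hN⟩


/-- Let Y be a quasi-compact separated scheme and f : X → Y a quasi-affine morphism of finite type. Then
there are a scheme X'', an affine morphism of finite type g : X'' → Y and an immersion j : X → X''
with j ≫ g = f. (The published statement also allows Y to be a scheme whose underlying space is
Noetherian; this row assumes it quasi-compact and separated. The published statement realises X'' as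
the relative spectrum of a quasi-coherent sub-algebra of finite type of f_*O_X, and says every
larger such sub-algebra also works; only the resulting factorisation is stated here.) -/
theorem result {X Y : Scheme.{u}} [CompactSpace Y] [Y.IsSeparated]
    (f : X ⟶ Y) (hf : Mor2.IsQuasiAffine f) [LocallyOfFiniteType f] :
    ∃ (X'' : Scheme.{u}) (g : X'' ⟶ Y) (j : X ⟶ X''), IsAffineHom g ∧ LocallyOfFiniteType g ∧ IsImmersion j ∧ j ≫ g = f := by
  haveI : IsSeparated f := isSeparated_of_isQuasiAffine f hf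
  haveI := hf.1
  exact exists_factor f hf.2

end Groth.Agent.S4410
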