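import Groth.Statements.S4414
import Groth.Agent.SymX.HEmbed
import Groth.Agent.SymX.AmplePower
import Groth.Agent.SymX.FiniteImm

set_option autoImplicit false
set_option backward.isDefEq.respectTransparency false
set_option backward.isDefEq.respectTransparency.types false
universe u
open CategoryTheory CategoryTheory.Limits AlgebraicGeometry
open EGA2

namespace Groth.Agent.S4414

/-- Let Y be a quasi-compact separated scheme possessing an ample invertible O_Y-module, and f : X → Y a
morphism. Then f is quasi-projective (of finite type with some O_X-module ample relative to f) if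
and only if f is of finite type and there are r ≥ 0 and an immersion i of X into projective r-space
over Y with i followed by the projection equal to f. -/
theorem result {X Y : Scheme.{u}} [CompactSpace Y] [Y.IsSeparated]
    (hY : ∃ M : Y.Modules, CohB1.IsAmple M) (f : X ⟶ Y) :
    RelProj.IsQuasiProjective f ↔
      (LocallyOfFiniteType f ∧ QuasiCompact f ∧
        ∃ (r : ℕ) (i : X ⟶ CohB1.ProjSpaceOver r Y), IsImmersion i ∧ i ≫ CohB1.ProjSpaceOver.toBase r Y = f) := by
  obtain ⟨M, hM⟩ := hY
  refine ⟨fun ⟨h1, h2, L, hL⟩ => ⟨h1, h2, ?_⟩, fun ⟨h1, h2, r, i, hi, hif⟩ => ?_⟩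
  · haveI := h1; haveI := h2
    have hinv : PicF.IsInvertible L := AmpleX.isInvertible_of_isRelAmple hL
    obtain ⟨n₀, -, hn⟩ := SymX.eventually_isRelVeryAmple_pow hinv hL
    obtain ⟨E, A, j, hE, hft, hj, hjp, -⟩ := SymX.exists_ft_immersion (Or.inl ⟨inferInstance, inferInstance⟩) f
      (InvX.isInvertible_tensorPow hinv n₀) (hn n₀ le_rfl)
    obtain ⟨r, i, hi, hif⟩ := SymX.exists_immersion_projSpaceOver hM A hE hft j
    exact ⟨r, i, hi, hif.trans hjp⟩
  · haveI := hi
    haveI : IsProper (CohB1.ProjSpace.toSpec r (ULift.{u} ℤ)) := PnCoh.Chow.isProper_toSpec r _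
    haveI : IsProper (CohB1.ProjSpaceOver.toBase r Y) := MorphismProperty.pullback_snd _ _ inferInstance
    haveI : QuasiCompact (i ≫ CohB1.ProjSpaceOver.toBase r Y) := hif ▸ h2
    haveI : QuasiCompact i := QuasiCompact.of_comp i (CohB1.ProjSpaceOver.toBase r Y)
    exact ChowX.isQuasiProjective_of_immersion i f hif

end Groth.Agent.S4414
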