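import Groth.Statements.S4425
import Groth.Agent.SymX.ImageProj
import Groth.Agent.SymX.FiniteImm
import Groth.Agent.SymX.AmplePower
import Groth.Agent.ProjX.TwistAmple
import Groth.Agent.AmpleX.Comp

set_option autoImplicit false
set_option backward.isDefEq.respectTransparency false
set_option backward.isDefEq.respectTransparency.types false
universe u
open CategoryTheory CategoryTheory.Limits AlgebraicGeometry
open EGA2

namespace Groth.Agent.S4425

/-- (a) ⇔ (c): let Y be a quasi-compact separated scheme and f : X → Y a morphism. Then f is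
quasi-projective if and only if f is of finite type and there are a quasi-coherent graded
O_Y-algebra 𝒮, generated by its degree-one part with that part of finite type, a relative
homogeneous spectrum p : P → Y of 𝒮 (given with its charts over affine opens), and an open immersion
j : X → P with dense image such that j ≫ p = f. (The published statement also allows Y whose
underlying space is Noetherian, and adds a third equivalent condition, an immersion into some P(E);
this row assumes Y quasi-compact and separated and states only the equivalence of the other two.) -/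
theorem result {X Y : Scheme.{u}} [CompactSpace Y] [Y.IsSeparated] (f : X ⟶ Y) :
    RelProj.IsQuasiProjective f ↔
      (LocallyOfFiniteType f ∧ QuasiCompact f ∧
        ∃ (𝒮 : RelProj.QCGrAlg Y) (P : Scheme.{u}) (p : P ⟶ Y)
          (chart : ∀ (U : Y.Opens) (hU : IsAffineOpen U), ((p ⁻¹ᵁ U : P.Opens) : Scheme.{u}) ≅ Proj (𝒮.deg U hU))
          (j : X ⟶ P), 𝒮.IsGenDegOne ∧ 𝒮.IsFTDeg 1 ∧ RelProj.IsRelProj 𝒮 p chart ∧
            IsOpenImmersion j ∧ Dense (Set.range j.base) ∧ j ≫ p = f) := by
  constructor
  · rintro ⟨hlft, hqc, L, hL⟩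
    have hY : (CompactSpace Y ∧ Y.IsSeparated) ∨ TopologicalSpace.NoetherianSpace Y :=
      Or.inl ⟨inferInstance, inferInstance⟩
    have hLi := AmpleX.isInvertible_of_isRelAmple hL
    obtain ⟨n₀, -, h⟩ := SymX.eventually_isRelVeryAmple_pow hLi hL
    obtain ⟨E, A, i, hE, hft, hi, hip, -⟩ :=
      SymX.exists_ft_immersion hY f (InvX.isInvertible_tensorPow hLi n₀) (h n₀ le_rfl)
    haveI : IsSeparated A.p := Proj16.isSeparated A.isRelProj
    haveI : QuasiCompact (i ≫ A.p) := hip.symm ▸ inferInstance
    haveI : QuasiCompact i := QuasiCompact.of_comp i A.p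
    obtain ⟨𝒮, P, p, chart, O1, lam, j, hgen, hft1, hP, -, hj, hd, hjp, -⟩ :=
      SymX.exists_dense_openImmersion A hE hft i
    exact ⟨hlft, hqc, 𝒮, P, p, chart, j, hgen, hft1, hP, hj, hd, hjp.trans hip⟩
  · rintro ⟨hlft, hqc, 𝒮, P, p, chart, j, hgen, hft1, hP, hj, -, rfl⟩
    haveI := (Proj16.locallyOfFiniteType_of_genDegOne hP hgen hft1).2
    haveI : IsSeparated p := Proj16.isSeparated hP
    haveI : QuasiCompact j := QuasiCompact.of_comp j p
    obtain ⟨L, lam, hL⟩ := ProjX.exists_isRelTwist hP 1
    exact ⟨hlft, hqc, _, AmpleX.isRelAmple_pullback_embedding p j j.isEmbedding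
      (ProjX.isRelAmple_twist hP hgen hft1 hL)⟩

end Groth.Agent.S4425
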