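import Groth.Statements.S4432
import Mathlib.RingTheory.Polynomial.IsIntegral
import Mathlib.LinearAlgebra.Charpoly.ToMatrix

set_option autoImplicit false
universe u
open EGA2

namespace Groth.Agent.S4432

/-- `Y - Z` divides `q(Y) - q(Z)`. -/
abbrev charpoly_aux {R B : Type*} [CommRing R] [Ring B] [Algebra R B] (Y Z : B) (q : Polynomial R) : Prop :=
  Y - Z ∣ Polynomial.aeval Y q - Polynomial.aeval Z q

theorem charpoly_aux_proof {R B : Type*} [CommRing R] [Ring B] [Algebra R B] (Y Z : B)
    (h : Commute Y Z) (q : Polynomial R) : charpoly_aux Y Z q := by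
  unfold charpoly_aux
  induction q using Polynomial.induction_on' with
  | add p q hp hq => rw [map_add, map_add, add_sub_add_comm]; exact dvd_add hp hq
  | monomial n c =>
    obtain ⟨Q, hQ⟩ := h.sub_dvd_pow_sub_pow n
    refine ⟨algebraMap R B c * Q, ?_⟩
    rw [Polynomial.aeval_monomial, Polynomial.aeval_monomial, ← mul_sub, hQ, ← mul_assoc, ← mul_assoc,
      Algebra.commutes]

/-- Let A be a reduced Noetherian ring, K its total ring of fractions, and E a finitely generated
A-module with K ⊗_A E free over K. The A-subalgebra of K generated by the coefficients of the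
characteristic polynomials of v ⊗ 1 (v running through all endomorphisms of E), i.e. by all
elementary symmetric functions of all endomorphisms of E, is a finitely generated A-module. -/
theorem result (A : Type u) [CommRing A] [IsNoetherianRing A] [IsReduced A]
    (E : Type u) [AddCommGroup E] [Module A E] [Module.Finite A E]
    [Module.Free (FractionRing A) (TensorProduct A (FractionRing A) E)] :
    (Algebra.adjoin A {c : FractionRing A | ∃ (v : E →ₗ[A] E) (j : ℕ),
        c = ((v.baseChange (FractionRing A)).charpoly).coeff j}).toSubmodule.FG := by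
  let K := FractionRing A
  let W := TensorProduct A K E
  haveI : Module.Finite K W := Module.Finite.base_change A K E
  let b := Module.Free.chooseBasis K W
  let ι := Module.Free.ChooseBasisIndex K W
  classical
  let φ : (E →ₗ[A] E) → Matrix ι ι K := fun v => LinearMap.toMatrix b b (v.baseChange K)
  have hadd : ∀ v w, φ (v + w) = φ v + φ w := fun v w => by simp [φ, LinearMap.baseChange_add]
  have hsmul : ∀ (a : A) v, φ (a • v) = algebraMap A K a • φ v := fun a v => by
    simp only [φ, LinearMap.baseChange_smul]
    rw [← algebraMap_smul K a (v.baseChange K), map_smul]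
  haveI : IsNoetherian A E := inferInstance
  haveI : Module.Finite A (E →ₗ[A] E) := Module.IsNoetherian.finite A _
  obtain ⟨m, gv, hgv⟩ := Module.Finite.exists_fin (R := A) (M := E →ₗ[A] E)
  let G : Matrix ι ι (MvPolynomial (Fin m) K) :=
    ∑ i, (MvPolynomial.X i : MvPolynomial (Fin m) K) • (φ (gv i)).map MvPolynomial.C
  let T : Finset K := (Finset.range (Fintype.card ι + 1)).biUnion fun j =>
    (G.charpoly.coeff j).support.image fun d => (G.charpoly.coeff j).coeff d
  set S := {c : K | ∃ (v : E →ₗ[A] E) (j : ℕ), c = ((v.baseChange K).charpoly).coeff j} with hS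
  have hint : ∀ c ∈ S, IsIntegral A c := by
    rintro c ⟨v, j, rfl⟩
    obtain ⟨p, hp, hpv⟩ := Algebra.IsIntegral.isIntegral (R := A) v
    let M := φ v
    have hpM : Polynomial.aeval M (p.map (algebraMap A K)) = 0 := by
      rw [Polynomial.aeval_map_algebraMap]
      have h : Polynomial.aeval (v.baseChange K) p = 0 := by
        rw [show v.baseChange K = Module.End.baseChangeHom A K E v from rfl,
          Polynomial.aeval_algHom_apply, show Polynomial.aeval v p = 0 from hpv, map_zero]
      have := congrArg ((LinearMap.toMatrixAlgEquiv b).toAlgHom.restrictScalars A) h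
      rw [map_zero, ← Polynomial.aeval_algHom_apply] at this
      exact this
    set q := p.map (algebraMap A K)
    let Y : Matrix ι ι (Polynomial K) := algebraMap (Polynomial K) _ Polynomial.X
    let Z : Matrix ι ι (Polynomial K) := (Polynomial.CAlgHom (R := K)).mapMatrix M
    have hYZ : charpoly_aux Y Z q := ?_
    · have hY : Polynomial.aeval Y q = algebraMap (Polynomial K) (Matrix ι ι (Polynomial K)) q := by
        rw [show Y = (IsScalarTower.toAlgHom K (Polynomial K) (Matrix ι ι (Polynomial K))) Polynomial.X from rfl,
          Polynomial.aeval_algHom_apply, Polynomial.aeval_X_left_apply]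
        rfl
      have hZ : Polynomial.aeval Z q = 0 := by
        rw [show Z = (Polynomial.CAlgHom (R := K)).mapMatrix M from rfl, Polynomial.aeval_algHom_apply, hpM, map_zero]
      have hcm : Matrix.charmatrix M = Y - Z := by
        ext i k
        by_cases h : i = k
        · subst h; simp [Matrix.charmatrix_apply_eq, Y, Z, Matrix.algebraMap_matrix_apply]
        · simp [Matrix.charmatrix_apply_ne _ _ _ h, Y, Z, Matrix.algebraMap_matrix_apply, h]
      have hdvd : M.charpoly ∣ (p ^ Fintype.card ι).map (algebraMap A K) := by
        obtain ⟨Q, hQ⟩ := hYZ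
        rw [hY, hZ, sub_zero] at hQ
        refine ⟨Q.det, ?_⟩
        rw [Matrix.charpoly, hcm, ← Matrix.det_mul, ← hQ, Matrix.algebraMap_eq_diagonal, Matrix.det_diagonal]
        simp [q, Polynomial.map_pow]
      have := Polynomial.isIntegral_coeff_of_dvd (R := A) (S := K) (p ^ Fintype.card ι) M.charpoly
        (hp.pow _) (Matrix.charpoly_monic M) hdvd j
      rwa [LinearMap.charpoly_toMatrix] at this
    exact charpoly_aux_proof Y Z (Algebra.commutes _ _) q
  have hspan : S ⊆ Submodule.span A (T : Set K) := by
    rintro c ⟨v, j, rfl⟩
    have hv : v ∈ Submodule.span A (Set.range gv) := by rw [hgv]; trivial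
    obtain ⟨a, ha⟩ := (Submodule.mem_span_range_iff_exists_fun A).1 hv
    let ev : MvPolynomial (Fin m) K →+* K := MvPolynomial.eval fun i => algebraMap A K (a i)
    let φl : (E →ₗ[A] E) →+ Matrix ι ι K := AddMonoidHom.mk' φ hadd
    have hG : G.map ev = φ v := by
      rw [← ha, show φ (∑ i, a i • gv i) = φl (∑ i, a i • gv i) from rfl, map_sum]
      ext i k
      simp [G, φl, hsmul, ev, Matrix.sum_apply, map_sum]
      exact Finset.sum_congr rfl fun x _ => (Algebra.smul_def (a x) (φ (gv x) i k)).symm
    rw [← LinearMap.charpoly_toMatrix (v.baseChange K) b, show LinearMap.toMatrix b b (v.baseChange K) = φ v from rfl,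
      ← hG, Matrix.charpoly_map, Polynomial.coeff_map]
    by_cases hj : j ≤ Fintype.card ι
    · rw [MvPolynomial.as_sum (G.charpoly.coeff j)]
      rw [map_sum]
      refine Submodule.sum_mem _ fun d hd => ?_
      have e : ev (MvPolynomial.monomial d ((G.charpoly.coeff j).coeff d)) =
          (∏ i ∈ d.support, a i ^ d i) • (G.charpoly.coeff j).coeff d := by
        rw [Algebra.smul_def]
        simp [ev, MvPolynomial.eval_monomial, Finsupp.prod, map_prod, mul_comm]
      rw [e]
      refine Submodule.smul_mem _ _ (Submodule.subset_span ?_)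
      simp only [T, Finset.coe_biUnion, Finset.coe_image, Finset.coe_range, Set.mem_iUnion, Set.mem_image]
      exact ⟨j, by simp; omega, d, hd, rfl⟩
    · by_cases hne : (0 : K) = 1
      · have : ev (G.charpoly.coeff j) = 0 := (eq_zero_of_zero_eq_one hne) _
        rw [this]; exact Submodule.zero_mem _
      rw [Polynomial.coeff_eq_zero_of_natDegree_lt, map_zero]
      · exact Submodule.zero_mem _
      · rcases subsingleton_or_nontrivial (FractionRing A) with h | h
        · exact absurd (Subsingleton.elim _ _) hne
        rw [Matrix.charpoly_natDegree_eq_dim]; exact Nat.lt_of_not_le hj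
  haveI : IsNoetherian A (Submodule.span A (T : Set K)) :=
    isNoetherian_of_fg_of_noetherian _ ⟨T, rfl⟩
  have hfg : (Submodule.span A S).FG := by
    haveI : IsNoetherian A (Submodule.span A S) :=
      isNoetherian_of_le (Submodule.span_le.2 hspan)
    exact Module.Finite.iff_fg.1 inferInstance
  obtain ⟨g, hg⟩ := hfg
  have hadj : Algebra.adjoin A S = Algebra.adjoin A (g : Set K) := by
    refine le_antisymm (Algebra.adjoin_le fun x hx => ?_) (Algebra.adjoin_le fun x hx => ?_)
    · exact Algebra.span_le_adjoin A _ (by rw [hg]; exact Submodule.subset_span hx)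
    · exact Algebra.span_le_adjoin A _ (by rw [← hg]; exact Submodule.subset_span hx)
  rw [hadj]
  refine fg_adjoin_of_finite g.finite_toSet fun x hx => ?_
  have hle : Submodule.span A S ≤ Subalgebra.toSubmodule (integralClosure A K) := Submodule.span_le.2 hint
  exact hle (by rw [← hg]; exact Submodule.subset_span hx)

end Groth.Agent.S4432
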