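import Groth.Statements.S4437
import Groth.Agent.Algz7.ClopenProper

set_option autoImplicit false
set_option backward.isDefEq.respectTransparency false
set_option backward.isDefEq.respectTransparency.types false
universe u
open CategoryTheory CategoryTheory.Limits AlgebraicGeometry
open EGA2

namespace Groth.Agent.S4437

/-- Let A be a complete Noetherian local ring and f : X ⟶ Spec A a separated quasi-finite morphism (of
finite type with discrete fibres). Then X splits as a disjoint sum of two open subschemes, one
finite over Spec A and containing the fibre over the closed point, the other not meeting that fibre: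
there is an open and closed U ⊆ X, finite over Spec A, containing every point lying over the closed
point. -/
theorem result (A : Type u) [CommRing A] [IsLocalRing A]
    [IsNoetherianRing A] [IsAdicComplete (IsLocalRing.maximalIdeal A) A] (X : Scheme.{u})
    (f : X ⟶ Spec (CommRingCat.of A)) [LocallyOfFiniteType f] [QuasiCompact f] [IsSeparated f] [LocallyQuasiFinite f] :
    ∃ U : X.Opens, IsClosed (U : Set X) ∧ IsFinite (U.ι ≫ f) ∧
      ∀ x : X, f.base x = IsLocalRing.closedPoint A → x ∈ U := by
  let m := IsLocalRing.maximalIdeal A
  let V : (CohB1.thick f m 0).Opens := ⊤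
  haveI : IsArtinianRing (A ⧸ m ^ (0 + 1)) := by
    haveI : (m ^ (0 + 1)).IsMaximal := by rw [zero_add, pow_one]; infer_instance
    letI := Ideal.Quotient.field (m ^ (0 + 1))
    infer_instance
  haveI : IsArtinianScheme (Spec (CommRingCat.of (A ⧸ m ^ (0 + 1)))) := inferInstance
  haveI : LocallyQuasiFinite (CohB1.thickToBase f m 0) := inferInstance
  haveI : IsFinite (CohB1.thickToBase f m 0) := IsFinite.of_locallyQuasiFinite _
  haveI : IsProper (V.ι ≫ CohB1.thickToBase f m 0) := by
    haveI : IsIso V.ι := (Scheme.topIso _).isIso_hom
    infer_instance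
  obtain ⟨U, hUc, hUp, hUV⟩ := Groth.Agent.Algz7.exists_clopen_proper m f V
  haveI : LocallyQuasiFinite (U.ι ≫ f) := inferInstance
  haveI := hUp
  refine ⟨U, hUc, IsFinite.of_isProper_of_locallyQuasiFinite _, fun x hx => ?_⟩
  obtain ⟨z, rfl⟩ : x ∈ Set.range (CohB1.thickι f m 0) := by
    rw [show Set.range (CohB1.thickι f m 0) = f ⁻¹' Set.range (CohB1.specQuot m 0) from Scheme.Pullback.range_fst _ _,
      show Set.range (CohB1.specQuot m 0) = Set.range (PrimeSpectrum.comap (Ideal.Quotient.mk (m ^ (0 + 1)))) from rfl,
      range_comap_of_surjective _ _ Ideal.Quotient.mk_surjective, Ideal.mk_ker, zero_add, pow_one]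
    show m ≤ (f.base x).asIdeal
    rw [hx]
    exact le_rfl
  exact hUV.ge (trivial : z ∈ V)

end Groth.Agent.S4437
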