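import Groth.Statements.S4445
import Groth.Agent.CodimOneExt.Curve

set_option autoImplicit false
set_option backward.isDefEq.respectTransparency false
set_option backward.isDefEq.respectTransparency.types false
universe u
open CategoryTheory CategoryTheory.Limits AlgebraicGeometry
attribute [local instance] Curv2.stalkAlgebra
open EGA2

namespace Groth.Agent.S4445

/-- Let X be a normal irreducible algebraic curve over a field k with field of rational functions K, and
Y an integral complete (proper over k) algebraic curve with field of rational functions L. Dominant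
k-morphisms X ⟶ Y correspond bijectively to k-embeddings L → K: for every k-algebra homomorphism φ :
L → K there is exactly one k-morphism u : X ⟶ Y mapping the generic point of X to the generic point
of Y and inducing φ on the stalks at the generic points. -/
theorem result (k : Type u) [Field k] (X Y : Scheme.{u})
    [X.Over (Spec (CommRingCat.of k))] [LocallyOfFiniteType (X ↘ (Spec (CommRingCat.of k)))]
    [QuasiCompact (X ↘ (Spec (CommRingCat.of k)))] [IsSeparated (X ↘ (Spec (CommRingCat.of k)))] [IsIntegral X]
    (hX : ∀ x : X, IsClosed ({x} : Set X) → ringKrullDim (X.presheaf.stalk x) = 1) (hnorm : Pi1.IsNormalScheme X)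
    [Y.Over (Spec (CommRingCat.of k))] [IsProper (Y ↘ (Spec (CommRingCat.of k)))] [IsIntegral Y]
    (hY : ∀ y : Y, IsClosed ({y} : Set Y) → ringKrullDim (Y.presheaf.stalk y) = 1)
    (φ : Y.functionField →ₐ[k] X.functionField) :
    ∃! u : X ⟶ Y, u ≫ (Y ↘ (Spec (CommRingCat.of k))) = X ↘ (Spec (CommRingCat.of k)) ∧
      ∃ hu : u.base (genericPoint X) = genericPoint Y,
        (Y.presheaf.stalkSpecializes (specializes_of_eq hu) ≫ u.stalkMap (genericPoint X)).hom = (φ : Y.functionField →+* X.functionField) := by
  haveI : Y.IsSeparated := by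
    constructor
    rw [← terminal.comp_from (Y ↘ Spec (CommRingCat.of k))]
    infer_instance
  let φ' : Y.functionField ⟶ X.functionField := CommRingCat.ofHom (φ : Y.functionField →+* X.functionField)
  let φ₀ : Spec X.functionField ⟶ Y := Spec.map φ' ≫ Y.fromSpecStalk (genericPoint Y)
  have h₀ : φ₀ ≫ (Y ↘ Spec (CommRingCat.of k)) = X.fromSpecStalk _ ≫ (X ↘ Spec (CommRingCat.of k)) := by
    rw [Category.assoc, Groth.Agent.CodimOneExt.fromSpecStalk_over, Groth.Agent.CodimOneExt.fromSpecStalk_over,
      ← Spec.map_comp]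
    congr 1
    exact CommRingCat.hom_ext φ.comp_algebraMap
  obtain ⟨W, hg, H, hT, hH, hH₀⟩ := Groth.Agent.H23.RatExtend.extend (X ↘ Spec (CommRingCat.of k))
    (Y ↘ Spec (CommRingCat.of k)) φ₀ h₀ Set.univ (fun p _ => Groth.Agent.H23.RatExtend.exists_lift _ _ φ₀ h₀ p
      (Groth.Agent.CodimOneExt.valuationRing_stalk k hX hnorm p))
  obtain rfl : W = ⊤ := top_unique fun x _ => hT trivial
  let u : X ⟶ Y := (Scheme.topIso X).inv ≫ H
  have hu₀ : X.fromSpecStalk (genericPoint X) ≫ u = φ₀ := by
    rw [← hH₀, ← Category.assoc]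
    congr 1
    rw [← cancel_mono (Scheme.topIso X).hom, Category.assoc, Iso.inv_hom_id, Category.comp_id, Scheme.topIso_hom,
      Scheme.Opens.fromSpecStalkOfMem_ι]
  have hu : u.base (genericPoint X) = genericPoint Y := by
    have h1 : (X.fromSpecStalk (genericPoint X) ≫ u) (IsLocalRing.closedPoint X.functionField) =
        u (genericPoint X) := congrArg u Scheme.fromSpecStalk_closedPoint
    refine h1.symm.trans ?_
    rw [hu₀]
    show Y.fromSpecStalk _ (Spec.map φ' (IsLocalRing.closedPoint X.functionField)) = _
    rw [show Spec.map φ' (IsLocalRing.closedPoint X.functionField) = IsLocalRing.closedPoint Y.functionField from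
      Subsingleton.elim (α := PrimeSpectrum Y.functionField) _ _]
    exact Scheme.fromSpecStalk_closedPoint
  have key : ∀ (v : X ⟶ Y) (hv : v.base (genericPoint X) = genericPoint Y),
      (Y.presheaf.stalkSpecializes (specializes_of_eq hv) ≫ v.stalkMap (genericPoint X)) = φ' ↔
        X.fromSpecStalk (genericPoint X) ≫ v = φ₀ := fun v hv => by
    rw [← Spec.map_inj, ← cancel_mono (Y.fromSpecStalk (genericPoint Y)), Spec.map_comp, Category.assoc,
      Scheme.SpecMap_stalkSpecializes_fromSpecStalk, Scheme.SpecMap_stalkMap_fromSpecStalk]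
  have huY : u ≫ (Y ↘ Spec (CommRingCat.of k)) = X ↘ Spec (CommRingCat.of k) := by
    rw [Category.assoc, hH, ← Scheme.topIso_hom, Iso.inv_hom_id_assoc]
  refine ⟨u, ⟨huY, hu, congrArg CommRingCat.Hom.hom ((key u hu).2 hu₀)⟩, fun v ⟨hvY, hv, hvφ⟩ => ?_⟩
  haveI := Groth.Agent.H23.RatExtend.isDominant_fromSpecStalk (X := X)
  refine ext_of_isDominant (X.fromSpecStalk (genericPoint X)) ?_
  rw [hu₀, (key v hv).1 (CommRingCat.hom_ext hvφ)]

end Groth.Agent.S4445
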