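import Groth.Statements.S4451
import Groth.Agent.CodimOneExt.Curve

set_option autoImplicit false
set_option backward.isDefEq.respectTransparency false
set_option backward.isDefEq.respectTransparency.types false
universe u
open CategoryTheory CategoryTheory.Limits AlgebraicGeometry
attribute [local instance] Curv2.stalkAlgebra
open EGA2
open TopologicalSpace

namespace Groth.Agent.S4451

/-- Let X be a normal, complete, irreducible algebraic curve over a field k with field of rational
functions K. The set of local rings of X, as subrings of K, consists of K itself (at the generic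
point) and of the valuation rings of K containing k (and distinct from K): every non-generic point
has such a valuation ring as local ring, and every such valuation ring is the local ring of exactly
one point. -/
theorem result (k : Type u) [Field k] (X : Scheme.{u})
    [X.Over (Spec (CommRingCat.of k))] [IsProper (X ↘ (Spec (CommRingCat.of k)))] [IsIntegral X]
    (hX : ∀ x : X, IsClosed ({x} : Set X) → ringKrullDim (X.presheaf.stalk x) = 1) (hnorm : Pi1.IsNormalScheme X) :
    (∀ x : X, x ≠ genericPoint X → ∃ R : ValuationSubring X.functionField, R ≠ ⊤ ∧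
        (R : Set X.functionField) = Set.range (algebraMap (X.presheaf.stalk x) X.functionField)) ∧
      ∀ R : ValuationSubring X.functionField, R ≠ ⊤ → (∀ c : k, algebraMap k X.functionField c ∈ R) →
        ∃! x : X, (R : Set X.functionField) = Set.range (algebraMap (X.presheaf.stalk x) X.functionField) := by
  have hval := Groth.Agent.CodimOneExt.valuationRing_stalk k hX hnorm
  have hdom : ∀ x : X, IsDomain (X.presheaf.stalk x) := fun x => (hnorm x).1
  have hfr : ∀ x : X, Function.Injective (algebraMap (X.presheaf.stalk x) X.functionField) := fun x =>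
    IsFractionRing.injective _ _
  have hmem : ∀ (x : X) (z : X.functionField), z ∈ Set.range (algebraMap (X.presheaf.stalk x) X.functionField) ∨
      z⁻¹ ∈ Set.range (algebraMap (X.presheaf.stalk x) X.functionField) := fun x z => by
    haveI := hval x
    haveI := hdom x
    exact ValuationRing.isInteger_or_isInteger (X.presheaf.stalk x) z
  constructor
  · intro x hx
    let R : ValuationSubring X.functionField :=
      { (algebraMap (X.presheaf.stalk x) X.functionField).range with
        mem_or_inv_mem' := hmem x }
    refine ⟨R, fun hR => hx ?_, rfl⟩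
    haveI := hdom x
    have hsurj : Function.Surjective (algebraMap (X.presheaf.stalk x) X.functionField) := fun z => by
      have hz : z ∈ R := hR ▸ ValuationSubring.mem_top z
      exact hz
    have hf : IsField (X.presheaf.stalk x) :=
      MulEquiv.isField (Field.toIsField X.functionField) (RingEquiv.ofBijective _ ⟨hfr x, hsurj⟩).toMulEquiv
    haveI : IsLocallyNoetherian X := LocallyOfFiniteType.isLocallyNoetherian (X ↘ Spec (CommRingCat.of k))
    have h0 : ringKrullDim (X.presheaf.stalk x) = 0 := by
      letI := hf.toField
      exact ringKrullDim_eq_zero_of_field _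
    rw [ringKrullDim_stalk_eq_coheight, WithBot.coe_eq_zero, Order.coheight_eq_zero] at h0
    exact Inseparable.eq ((genericPoint_specializes x).antisymm (h0 (genericPoint_specializes x : x ≤ genericPoint X))).symm
  · intro R hR hk
    let ρ : k →+* R := ((algebraMap k X.functionField).codRestrict R.toSubring hk)
    have hsq : X.fromSpecStalk (genericPoint X) ≫ (X ↘ Spec (CommRingCat.of k)) =
        Spec.map (CommRingCat.ofHom (algebraMap R X.functionField)) ≫ Spec.map (CommRingCat.ofHom ρ) := by
      rw [Groth.Agent.CodimOneExt.fromSpecStalk_over, ← Spec.map_comp]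
      rfl
    have hE : ValuativeCriterion.Existence (X ↘ Spec (CommRingCat.of k)) := by
      have h := ‹IsProper (X ↘ Spec (CommRingCat.of k))›
      rw [IsProper.eq_valuativeCriterion] at h
      exact h.1.1.1.existence
    let sq : ValuativeCommSq (X ↘ Spec (CommRingCat.of k)) :=
      { R := R
        K := X.functionField
        i₁ := X.fromSpecStalk (genericPoint X)
        i₂ := Spec.map (CommRingCat.ofHom ρ)
        commSq := ⟨hsq⟩ }
    obtain ⟨l, hl₁, hl₂⟩ := (hE sq).exists_lift
    let x : X := l (IsLocalRing.closedPoint R)
    let ψ : X.presheaf.stalk x ⟶ CommRingCat.of R := Scheme.stalkClosedPointTo l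
    let iR : CommRingCat.of R ⟶ X.functionField := CommRingCat.ofHom (algebraMap R X.functionField)
    have hψ : ψ ≫ iR = X.presheaf.stalkSpecializes (genericPoint_specializes x) := by
      apply Spec.map_injective
      rw [← cancel_mono (X.fromSpecStalk x), Scheme.SpecMap_stalkSpecializes_fromSpecStalk, Spec.map_comp,
        Category.assoc, Scheme.Spec_stalkClosedPointTo_fromSpecStalk]
      exact hl₁
    have hψ' : ∀ a, algebraMap (X.presheaf.stalk x) X.functionField a = (ψ a : R).1 := fun a => congr($hψ.symm a)
    have hRx : (R : Set X.functionField) = Set.range (algebraMap (X.presheaf.stalk x) X.functionField) := by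
      refine Set.Subset.antisymm (fun z hz => ?_) (by rintro _ ⟨a, rfl⟩; rw [hψ']; exact (ψ a).2)
      rcases hmem x z with h | ⟨a, ha⟩
      · exact h
      by_cases hz0 : z = 0
      · exact ⟨0, by rw [map_zero, hz0]⟩
      haveI : IsLocalHom ψ.hom := inferInstance
      have hu : IsUnit (ψ a : R) := IsUnit.of_mul_eq_one ⟨z, hz⟩ (Subtype.ext (by
        show (ψ a : R).1 * z = 1
        rw [← hψ', ha, inv_mul_cancel₀ hz0]))
      obtain ⟨v, hv⟩ := isUnit_of_map_unit ψ.hom a hu
      exact ⟨(v⁻¹ : (X.presheaf.stalk x)ˣ), by rw [map_units_inv, hv, ha, inv_inv]⟩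
    refine ⟨x, hRx, fun x' hx' => ?_⟩
    have hin : ∀ a, algebraMap (X.presheaf.stalk x') X.functionField a ∈ R := fun a => by
      rw [← SetLike.mem_coe, hx']; exact ⟨a, rfl⟩
    let e : X.presheaf.stalk x' ⟶ CommRingCat.of R :=
      CommRingCat.ofHom ((algebraMap (X.presheaf.stalk x') X.functionField).codRestrict R.toSubring hin)
    have he : e ≫ iR = X.presheaf.stalkSpecializes (genericPoint_specializes x') := rfl
    haveI : IsLocalHom e.hom := ⟨fun a ha => by
      obtain ⟨v, hv⟩ := ha
      obtain ⟨b, hb⟩ : (v⁻¹ : Rˣ).1.1 ∈ Set.range (algebraMap (X.presheaf.stalk x') X.functionField) :=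
        hx' ▸ (v⁻¹ : Rˣ).1.2
      refine IsUnit.of_mul_eq_one b (hfr x' ?_)
      rw [map_mul, map_one, hb]
      have h1 : (e a : R) * (v⁻¹ : Rˣ).1 = 1 := by
        rw [← hv]; exact v.mul_inv
      exact congrArg Subtype.val h1⟩
    have hl' : Spec.map e ≫ X.fromSpecStalk x' = l := by
      haveI : IsDominant (Spec.map iR) := by
        refine IsDominant.mk ?_
        exact PrimeSpectrum.denseRange_comap_iff_ker_le_nilRadical _ |>.2 (by
          show RingHom.ker (algebraMap R X.functionField) ≤ _
          rw [(RingHom.injective_iff_ker_eq_bot _).1 (IsFractionRing.injective R X.functionField)]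
          exact bot_le)
      refine ext_of_isDominant_of_isSeparated (X ↘ Spec (CommRingCat.of k)) ?_ (Spec.map iR) ?_
      · rw [hl₂, Category.assoc, Groth.Agent.CodimOneExt.fromSpecStalk_over, ← Spec.map_comp]
        refine congrArg Spec.map (CommRingCat.hom_ext (RingHom.ext fun c => Subtype.ext ?_))
        show X.presheaf.stalkSpecializes (genericPoint_specializes x') (Curv2.stalkMap k X x' c) =
          Curv2.stalkMap k X (genericPoint X) c
        exact TopCat.Presheaf.germ_stalkSpecializes_apply X.presheaf (Opens.mem_top x' : x' ∈ (⊤ : X.Opens))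
          (genericPoint_specializes x') _
      · rw [hl₁, ← Spec.map_comp_assoc, he, Scheme.SpecMap_stalkSpecializes_fromSpecStalk]
    show x' = l (IsLocalRing.closedPoint R)
    rw [← hl']
    show x' = X.fromSpecStalk x' (Spec.map e (IsLocalRing.closedPoint R))
    erw [Spec_closedPoint]
    exact Scheme.fromSpecStalk_closedPoint.symm

end Groth.Agent.S4451
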