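import Groth.Statements.S4453
import Groth.Agent.NormX.RelDescent
import Groth.Agent.SymX.AmplePower
import Groth.Agent.SymX.FiniteImm
import Groth.Agent.SymX.ProjectiveClosed
import Groth.Agent.ProjX.TwistAmple
import Groth.Agent.QCoh.ProperOver
import Groth.Agent.AmpleX.Comp

set_option autoImplicit false
universe u
open CategoryTheory CategoryTheory.Limits AlgebraicGeometry
open EGA2

namespace Groth.Agent.S4453

/-- Let Y be a quasi-compact separated scheme or a scheme whose underlying space is Noetherian, f : X ⟶
Y a morphism of finite type and g : X' ⟶ X a finite surjective morphism such that the direct image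
of O_{X'} is a finite locally free O_X-module. Then f is projective if and only if f ∘ g is
projective. (The companion assertion, on quasi-projectivity, is the
existence-of-a-relatively-ample-module equivalence stated separately.) -/
theorem result {X X' Y : Scheme.{u}} (f : X ⟶ Y) [LocallyOfFiniteType f]
    [QuasiCompact f] (g : X' ⟶ X) [IsFinite g] [Surjective g]
    (hfree : FlatMod.IsFinLocFree ((Coh.push g).obj (Coh.structureModule X')))
    (hY : (CompactSpace Y ∧ Y.IsSeparated) ∨ TopologicalSpace.NoetherianSpace Y) :
    RelProj.IsProjective f ↔ RelProj.IsProjective (g ≫ f) := by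
  obtain ⟨hc, hext⟩ := Groth.Agent.SymX.extStep_of_base hY
  constructor
  · intro hp
    haveI := Groth.Agent.ProjX.isProper_of_isProjective hp
    haveI : IsProper g := inferInstance
    haveI : IsProper (g ≫ f) := inferInstance
    obtain ⟨L, hL⟩ := Groth.Agent.ProjX.exists_isRelAmple_of_isProjective hp
    have hL' := Groth.Agent.AmpleX.isRelAmple_pullback_quasiAffine f g
      (Groth.Agent.NormX.mor2_isQuasiAffine_of_isAffineHom g) hL
    have hi := Groth.Agent.AmpleX.isInvertible_of_isRelAmple hL'
    obtain ⟨n, -, hn⟩ := Groth.Agent.SymX.eventually_isRelVeryAmple_pow hi hL'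
    exact Groth.Agent.SymX.isProjective_of_isRelVeryAmple hext (g ≫ f)
      (Groth.Agent.InvX.isInvertible_tensorPow hi n) (hn n le_rfl)
  · intro hp
    haveI := Groth.Agent.ProjX.isProper_of_isProjective hp
    haveI : IsProper f := Groth.Agent.QCoh.isProper_of_comp_surjective g f
    obtain ⟨L', hL'⟩ := Groth.Agent.ProjX.exists_isRelAmple_of_isProjective hp
    obtain ⟨L, hi, hL⟩ := Groth.Agent.NormX.exists_isRelAmple f g hfree hL'
    obtain ⟨n, -, hn⟩ := Groth.Agent.SymX.eventually_isRelVeryAmple_pow hi hL
    exact Groth.Agent.SymX.isProjective_of_isRelVeryAmple hext f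
      (Groth.Agent.InvX.isInvertible_tensorPow hi n) (hn n le_rfl)

end Groth.Agent.S4453
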