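import Groth.Statements.S4464
import Groth.Agent.ZarConn.Components

set_option autoImplicit false
universe u
open Coherent

namespace Groth.Agent.S4464

open AlgebraicGeometry CategoryTheory in
/-- Let X and Y be locally Noetherian integral schemes, f : X → Y a proper dominant morphism, and
suppose that the algebraic closure of the function field R(Y) in R(X) is purely inseparable over
R(Y): every element of R(X) satisfying a nonzero polynomial over R(Y) has a p^e-th power coming from
R(Y), p being the characteristic exponent. Then for every point y of Y whose local ring is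
unibranch, the fibre X_y is connected and nonempty. -/
theorem result {X Y : Scheme.{u}} [IsIntegral X]
    [IsIntegral Y] [IsLocallyNoetherian X] [IsLocallyNoetherian Y] (f : X ⟶ Y) [IsProper f]
    (hdom : f.base (genericPoint X) ⤳ genericPoint Y)
    (hrad : ∀ x : X.functionField,
      (∃ q : Polynomial Y.functionField, q ≠ 0 ∧
        Polynomial.eval₂ (CohIII.stalkToFunctionField f (genericPoint Y) hdom) x q = 0) →
      ∃ e : ℕ, x ^ (ringExpChar X.functionField ^ e) ∈
        Set.range (CohIII.stalkToFunctionField f (genericPoint Y) hdom))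
    (y : Y) (hy : CAlg2.IsUnibranch (Y.presheaf.stalk y)) :
    ConnectedSpace ↥(f.fiber y) := by
  have h : f.base (genericPoint X) ⤳ y := hdom.trans ((genericPoint_spec Y).specializes trivial)
  obtain ⟨F, hF⟩ := ZarConn.exists_embedding_components f y h
  haveI : Nonempty (f.fiber y) := by
    have hc : IsClosed (Set.range f.base) := f.isClosedMap.isClosed_range
    obtain ⟨x, hx⟩ := h.mem_closed hc ⟨_, rfl⟩
    obtain ⟨w, -⟩ := (f.range_fiberι y).ge (show x ∈ f ⁻¹' {y} from hx)
    exact ⟨w⟩
  set ψ := CohIII.stalkToFunctionField f y h with hψ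
  set ι := CohIII.stalkToFunctionField f (genericPoint Y) hdom with hι
  set C := CohIII.integralClosureStalk f y h with hC
  have hcomp : ψ = ι.comp (algebraMap (Y.presheaf.stalk y) Y.functionField) := by
    refine RingHom.ext fun a => ?_
    show (f.stalkMap (genericPoint X)).hom (Y.presheaf.stalkSpecializes h a) =
      (f.stalkMap (genericPoint X)).hom (Y.presheaf.stalkSpecializes hdom
        (Y.presheaf.stalkSpecializes ((genericPoint_spec Y).specializes trivial) a))
    rw [TopCat.Presheaf.stalkSpecializes_comp_apply]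
  have hmemC : ∀ c, c ∈ C ↔ ψ.IsIntegralElem c := fun c => Iff.rfl
  let A := integralClosure (Y.presheaf.stalk y) Y.functionField
  haveI : IsLocalRing A := ZarConn.isLocalRing_integralClosure_of_unibranch _ _ hy
  have hjmem : ∀ k : A, ι k.1 ∈ C := fun k => by
    obtain ⟨P, hP, hP0⟩ := k.2
    refine (hmemC _).2 ⟨P, hP, ?_⟩
    rw [hcomp, ← Polynomial.hom_eval₂, hP0, map_zero]
  let j : A →+* C := (ι.comp A.val.toRingHom).codRestrict C hjmem
  let θ : Y.presheaf.stalk y →+* C := ψ.codRestrict C fun a => (hmemC _).2 (RingHom.isIntegralElem_map ψ)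
  have hθ : θ.IsIntegral := fun c => by
    obtain ⟨P, hP, hP0⟩ := (hmemC c.1).1 c.2
    refine ⟨P, hP, Subtype.ext ?_⟩
    show C.subtype (Polynomial.eval₂ θ c P) = 0
    rw [Polynomial.hom_eval₂]
    exact hP0
  have hθj : θ = j.comp (algebraMap (Y.presheaf.stalk y) A) := RingHom.ext fun a => Subtype.ext (DFunLike.congr_fun hcomp a)
  have hj : j.IsIntegral := RingHom.IsIntegral.tower_top _ _ (hθj ▸ hθ)
  have key : ∀ c : C, ∃ n : ℕ, n ≠ 0 ∧ ∃ k : A, c ^ n = j k := fun c => by
    obtain ⟨P, hP, hP0⟩ := (hmemC c.1).1 c.2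
    obtain ⟨e, k, hk⟩ := hrad c.1 ⟨P.map (algebraMap (Y.presheaf.stalk y) Y.functionField), (hP.map _).ne_zero,
      by rw [Polynomial.eval₂_map, ← hcomp]; exact hP0⟩
    refine ⟨_, pow_ne_zero e ?_, ⟨k, ?_⟩, Subtype.ext hk.symm⟩
    · haveI := ringExpChar.expChar X.functionField
      exact (expChar_pos X.functionField _).ne'
    · obtain ⟨Q, hQ, hQ0⟩ := (hmemC _).1 (pow_mem c.2 (ringExpChar X.functionField ^ e))
      refine ⟨Q, hQ, ι.injective ?_⟩
      rw [Polynomial.hom_eval₂, map_zero, ← hcomp, hk]
      exact hQ0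
  haveI : Subsingleton (MaximalSpectrum C) := ⟨fun M N => by
    refine MaximalSpectrum.ext (Ideal.ext fun c => ?_)
    obtain ⟨n, hn, k, hk⟩ := key c
    have e : ∀ (L : MaximalSpectrum C), c ∈ L.asIdeal ↔ k ∈ IsLocalRing.maximalIdeal A := fun L => by
      haveI := L.isMaximal
      rw [← IsLocalRing.eq_maximalIdeal (Ideal.isMaximal_comap_of_isIntegral_of_isMaximal' j hj L.asIdeal),
        Ideal.mem_comap, ← hk, Ideal.IsPrime.pow_mem_iff_mem inferInstance n (Nat.pos_of_ne_zero hn)]
    rw [e M, e N]⟩
  haveI : Subsingleton (_root_.ConnectedComponents (f.fiber y)) := hF.subsingleton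
  haveI : PreconnectedSpace (f.fiber y) := preconnectedSpace_iff_connectedComponent.2 fun x =>
    Set.eq_univ_of_forall fun z => ConnectedComponents.coe_eq_coe'.1 (Subsingleton.elim _ _)
  exact ⟨inferInstance⟩

end Groth.Agent.S4464
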