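import Groth.Statements.S4468
import Groth.Agent.BirProj.Global
import Groth.Agent.ProjX.Chart
import Groth.Agent.AmpleVan.Pull
import Groth.Agent.S9679

set_option autoImplicit false
universe u
open Coherent
open CategoryTheory CategoryTheory.Limits AlgebraicGeometry
set_option backward.isDefEq.respectTransparency false

namespace Groth.Agent.S4468

open AlgebraicGeometry CategoryTheory in
/-- Let k be a field, X and Y integral schemes projective over k (given with closed immersions into
projective spaces over k) and f : X → Y a birational k-morphism (it sends the generic point of X to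
that of Y and induces a bijection between the function fields). Then X is Y-isomorphic to the
blow-up of Y in a closed subscheme: there is a quasi-coherent ideal sheaf I on Y such that f is a
blowing up of Y in I (universal property of the blow-up). -/
theorem result (k : Type u) [Field k] {X Y : Scheme.{u}} [IsIntegral X] [IsIntegral Y]
    (a b : ℕ) (iX : X ⟶ CohB1.ProjSpace a k) [IsClosedImmersion iX] (iY : Y ⟶ CohB1.ProjSpace b k)
    [IsClosedImmersion iY] (f : X ⟶ Y)
    (hk : f ≫ iY ≫ CohB1.ProjSpace.toSpec b k = iX ≫ CohB1.ProjSpace.toSpec a k)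
    (hgen : f.base (genericPoint X) = genericPoint Y)
    (hbir : Function.Bijective (f.residueFieldMap (genericPoint X)).hom) :
    ∃ I : Y.IdealSheafData, BlowUp.IsBlowUp f I := by
  let gY : Y ⟶ Spec (CommRingCat.of k) := iY ≫ CohB1.ProjSpace.toSpec b k
  haveI hP : ∀ n, IsProper (CohB1.ProjSpace.toSpec n k) := fun n => PnCoh.Chow.isProper_toSpec n k
  haveI hPZ : IsProper (CohB1.ProjSpace.toSpec a (ULift.{u} ℤ)) := PnCoh.Chow.isProper_toSpec a _
  haveI : IsProper (CohB1.ProjSpaceOver.toBase a Y) :=
    MorphismProperty.pullback_snd (P := @IsProper) _ _ inferInstance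
  let i : X ⟶ CohB1.ProjSpaceOver a Y :=
    pullback.lift (iX ≫ ProjX.pmap a (ProjX.zto k)) f (specULiftZIsTerminal.hom_ext _ _)
  let δ : CohB1.ProjSpaceOver a Y ⟶ CohB1.ProjSpace a k :=
    (ProjX.isPullback_pmap a (ProjX.zto k)).lift (pullback.fst _ _)
      (CohB1.ProjSpaceOver.toBase a Y ≫ gY) (specULiftZIsTerminal.hom_ext _ _)
  have hδ : i ≫ δ = iX := by
    refine (ProjX.isPullback_pmap a (ProjX.zto k)).hom_ext ?_ ?_
    · simp only [δ, Category.assoc, IsPullback.lift_fst]
      exact pullback.lift_fst _ _ _
    · simp only [δ, Category.assoc, IsPullback.lift_snd, gY]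
      rw [CohB1.ProjSpaceOver.toBase, pullback.lift_snd_assoc]
      exact hk
  haveI : IsSeparated gY := inferInstance
  haveI : IsSeparated (δ ≫ CohB1.ProjSpace.toSpec a k) := by
    simp only [δ, IsPullback.lift_snd]
    infer_instance
  haveI : IsSeparated δ := IsSeparated.of_comp δ (CohB1.ProjSpace.toSpec a k)
  haveI : IsClosedImmersion (i ≫ δ) := hδ ▸ inferInstance
  haveI : IsClosedImmersion i := IsClosedImmersion.of_comp i δ
  have hi : i ≫ CohB1.ProjSpaceOver.toBase a Y = f := pullback.lift_snd _ _ _
  haveI : IsProper f := hi ▸ inferInstance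
  obtain ⟨M, hM⟩ := AmpleVan.exists_ample_of_closedImmersion_projSpace iY
  refine BirProj.main M hM f a i hi ?_
  -- a birational proper morphism is an isomorphism over a nonempty open
  have hgpX : ∀ x : X, closure {x} ∈ irreducibleComponents ↥X ↔ x = genericPoint X := fun x => by
    rw [irreducibleComponents_eq_singleton, Set.mem_singleton_iff]
    exact ⟨fun h => (genericPoint_spec X).eq (isGenericPoint_def.mpr h) |>.symm,
      fun h => h ▸ genericPoint_spec X⟩
  have hgpY : ∀ x : Y, closure {x} ∈ irreducibleComponents ↥Y ↔ x = genericPoint Y := fun x => by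
    rw [irreducibleComponents_eq_singleton, Set.mem_singleton_iff]
    exact ⟨fun h => (genericPoint_spec Y).eq (isGenericPoint_def.mpr h) |>.symm,
      fun h => h ▸ genericPoint_spec Y⟩
  obtain ⟨V, hV, hVi⟩ := S9679.result f
    (by rw [irreducibleComponents_eq_singleton]; exact Set.finite_singleton _)
    (by rw [irreducibleComponents_eq_singleton]; exact Set.finite_singleton _)
    ⟨fun x hx => (hgpY _).mpr (by rw [(hgpX x).mp hx]; exact hgen),
      fun x hx x' hx' _ => ((hgpX x).mp hx).trans ((hgpX x').mp hx').symm,
      fun y hy => ⟨genericPoint X, (hgpX _).mpr rfl, hgen.trans ((hgpY y).mp hy).symm⟩⟩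
    (fun x hx => by
      obtain rfl := (hgpX x).mp hx
      have hFY : IsField (Y.presheaf.stalk (f (genericPoint X))) := by
        show IsField (Y.presheaf.stalk (f.base (genericPoint X)))
        rw [hgen]
        exact Field.toIsField Y.functionField
      have hFX : IsField (X.presheaf.stalk (genericPoint X)) := Field.toIsField X.functionField
      have hrX : Function.Bijective (X.residue (genericPoint X)).hom := by
        refine ⟨?_, Ideal.Quotient.mk_surjective⟩
        letI := hFX.toField
        exact RingHom.injective _
      have hrY : Function.Bijective (Y.residue (f (genericPoint X))).hom := by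
        refine ⟨?_, Ideal.Quotient.mk_surjective⟩
        letI := hFY.toField
        exact RingHom.injective _
      haveI : IsIso (X.residue (genericPoint X)) := (ConcreteCategory.isIso_iff_bijective _).mpr hrX
      haveI : IsIso (Y.residue (f (genericPoint X))) := (ConcreteCategory.isIso_iff_bijective _).mpr hrY
      haveI : IsIso (f.residueFieldMap (genericPoint X)) :=
        (ConcreteCategory.isIso_iff_bijective _).mpr hbir
      haveI : IsIso (f.stalkMap (genericPoint X) ≫ X.residue (genericPoint X)) := by
        rw [← Scheme.residue_residueFieldMap]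
        infer_instance
      exact IsIso.of_isIso_comp_right (f.stalkMap (genericPoint X)) (X.residue (genericPoint X)))
    (Or.inr inferInstance) (Or.inl ⟨inferInstance, inferInstance⟩)
  exact ⟨V, hV.nonempty, hVi⟩

end Groth.Agent.S4468
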