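import Groth.Statements.S4470
import Groth.Agent.NormX.NiceDescent
import Groth.Agent.AmpleX.RelAffine
import Groth.Agent.NormX.Restrict

set_option autoImplicit false
set_option linter.style.haveILetI false
set_option backward.isDefEq.respectTransparency false
set_option backward.isDefEq.respectTransparency.types false
universe u
open Coherent

namespace Groth.Agent.S4470

open AlgebraicGeometry CategoryTheory in
/-- Let Y be a Noetherian scheme, f : X → Y a morphism of finite type, g : X' → X a finite surjective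
morphism, L an invertible O_X-module and L' = g^* L. Suppose there is a subset Z of X, proper over
Y, such that for every point x of X outside Z either the local ring of X at x is an integrally
closed domain or the stalk of g_* O_{X'} at x is a free module over that local ring. Then L is ample
relative to f if and only if L' is ample relative to g ≫ f. -/
theorem result {X X' Y : Scheme.{u}} (f : X ⟶ Y)
    [IsNoetherian Y] [LocallyOfFiniteType f] [QuasiCompact f] (g : X' ⟶ X) [IsFinite g] [Surjective g]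
    (L : X.Modules) (hL : PicF.IsInvertible L) (Z : Set X) (hZ : ClSub.IsProperOver f Z)
    (hreg : ∀ x : X, x ∉ Z →
      (IsDomain (X.presheaf.stalk x) ∧ IsIntegrallyClosed (X.presheaf.stalk x)) ∨
        Module.Free (X.presheaf.stalk x) (((Coh.push g).obj (Coh.structureModule X')).presheaf.stalk x)) :
    RelAmple.IsRelAmple f L ↔ RelAmple.IsRelAmple (g ≫ f) ((Scheme.Modules.pullback g).obj L) := by
  refine ⟨fun h => Groth.Agent.AmpleX.isRelAmple_pullback_quasiAffine f g
    (Groth.Agent.NormX.mor2_isQuasiAffine_of_isAffineHom g) h, fun h => ⟨inferInstance, fun V => ?_⟩⟩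
  let O := f ⁻¹ᵁ V.1
  haveI : IsFinite (g ∣_ O) := IsZariskiLocalAtTarget.restrict ‹_› O
  haveI : Surjective (g ∣_ O) := IsZariskiLocalAtTarget.restrict ‹_› O
  haveI : IsNoetherianRing Γ(Y, V.1) := IsLocallyNoetherian.component_noetherian V
  let p : (O : Scheme.{u}) ⟶ Spec (CommRingCat.of Γ(Y, V.1)) := (f ∣_ V.1) ≫ V.2.isoSpec.hom
  haveI : LocallyOfFiniteType (f ∣_ V.1) := IsZariskiLocalAtTarget.restrict ‹_› V.1
  haveI : QuasiCompact (f ∣_ V.1) := IsZariskiLocalAtTarget.restrict ‹_› V.1
  haveI : LocallyOfFiniteType p := inferInstance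
  haveI : QuasiCompact p := inferInstance
  obtain ⟨e⟩ := Groth.Agent.NormX.nonempty_pullback_restrict_iso g O L
  have hZc : IsClosed Z := hZ.1
  refine Groth.Agent.NormX.isAmple_of_nice p (g ∣_ O) (O.ι ⁻¹ᵁ ⟨Zᶜ, hZc.isOpen_compl⟩) ?_ (fun x hx => ?_)
    (Groth.Agent.AmpleX.isInvertible_restrict O.ι hL) (Groth.Agent.AmpleX.isAmple_of_iso e.symm (h.2 V))
  · haveI : LocallyOfFiniteType (V.2.isoSpec.hom : (V.1 : Scheme.{u}) ⟶ _) := inferInstance
    have h1 := Groth.Agent.QCoh.IsProperOver.baseChange (isPullback_morphismRestrict f V.1).flip hZ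
    obtain ⟨hc, hp⟩ := h1
    have hset : (((O.ι ⁻¹ᵁ (⟨Zᶜ, hZc.isOpen_compl⟩ : X.Opens)) : Set (O : Scheme.{u}))ᶜ) = ⇑O.ι ⁻¹' Z := by
      show (⇑O.ι ⁻¹' Zᶜ)ᶜ = _
      rw [Set.preimage_compl, compl_compl]
    rw [hset]
    refine ⟨hc, ?_⟩
    haveI := hp
    show IsProper (_ ≫ (f ∣_ V.1) ≫ V.2.isoSpec.hom)
    rw [← Category.assoc]
    infer_instance
  · haveI : IsLocallyNoetherian X := LocallyOfFiniteType.isLocallyNoetherian f
    haveI : IsLocallyNoetherian X' := LocallyOfFiniteType.isLocallyNoetherian g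
    rcases hreg (O.ι x) hx with ⟨h1, h2⟩ | hfree
    · refine Or.inl ?_
      let e := (O.stalkIso x).commRingCatIsoToRingEquiv
      haveI : IsDomain (X.presheaf.stalk x.1) := h1
      haveI : IsIntegrallyClosed (X.presheaf.stalk x.1) := h2
      exact ⟨e.toMulEquiv.isDomain _, IsIntegrallyClosed.of_equiv e.symm⟩
    · refine Or.inr ?_
      haveI := hfree
      obtain ⟨U, n, hxU, ⟨e'⟩⟩ := Groth.Agent.QCoh.exists_free_nhd_of_free_stalk
        (Groth.Agent.KZ.LFRes.isFP_of_isCoh (Groth.Agent.QCoh.isCoh_pushforward_finite g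
          Groth.Agent.QCoh.isCoh_structureModule')) (O.ι x)
      obtain ⟨T, hxT, hT⟩ := Groth.Agent.NormX.exists_free_nhd_baseChange
        (isPullback_morphismRestrict g O).flip e' hxU
      obtain ⟨U', m, hyU', ⟨e''⟩⟩ := hT ⟨x, hxT⟩
      exact ⟨T.ι ''ᵁ U', m, ⟨⟨x, hxT⟩, hyU', rfl⟩, Groth.Agent.NormX.nonempty_restrict_free T e''⟩

end Groth.Agent.S4470
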