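import Groth.Statements.S4472
import Groth.Agent.S4464
import Groth.Agent.S2348
import Groth.Agent.BlowUpLib.Glue

set_option autoImplicit false
universe u
open Coherent

namespace Groth.Agent.S4472

theorem isUnibranch_of_ringEquiv {O O' : Type u} [CommRing O] [CommRing O'] [IsLocalRing O] [IsLocalRing O']
    (e : O ≃+* O') (h : CAlg2.IsUnibranch O) : CAlg2.IsUnibranch O' := by
  haveI := h.1
  haveI := h.2
  let e₀ : CAlg2.red O ≃+* CAlg2.red O' := Ideal.quotientEquiv (nilradical O) (nilradical O') e (by
    ext a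
    rw [show (e : O →+* O') = e.toRingHom from rfl, Ideal.mem_map_iff_of_surjective e.toRingHom e.surjective]
    refine ⟨fun ha => ⟨e.symm a, mem_nilradical.2 ((mem_nilradical.1 ha).map e.symm), e.apply_symm_apply a⟩, ?_⟩
    rintro ⟨b, hb, rfl⟩
    exact mem_nilradical.2 ((mem_nilradical.1 hb).map e))
  haveI : IsDomain (CAlg2.red O') := e₀.toMulEquiv.isDomain_iff.1 h.1
  let φ : FractionRing (CAlg2.red O) ≃+* FractionRing (CAlg2.red O') := IsFractionRing.ringEquivOfRingEquiv e₀
  have hφ : ∀ r, φ (algebraMap _ _ r) = algebraMap _ _ (e₀ r) := fun r =>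
    IsFractionRing.ringEquivOfRingEquiv_algebraMap e₀ r
  have hmem : ∀ c : CAlg2.normRed O, φ c.1 ∈ integralClosure (CAlg2.red O') (FractionRing (CAlg2.red O')) :=
    fun c => by
      obtain ⟨P, hP, hP0⟩ := c.2
      refine ⟨P.map e₀.toRingHom, hP.map _, ?_⟩
      rw [Polynomial.eval₂_map, show (algebraMap (CAlg2.red O') (FractionRing (CAlg2.red O'))).comp e₀.toRingHom =
        φ.toRingHom.comp (algebraMap _ _) from RingHom.ext fun r => (hφ r).symm]
      exact (Polynomial.hom_eval₂ _ _ φ.toRingHom _).symm.trans (by rw [hP0]; exact map_zero φ)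
  refine ⟨inferInstance, IsLocalRing.of_surjective' ((φ.toRingHom.comp
    (integralClosure (CAlg2.red O) (FractionRing (CAlg2.red O))).val.toRingHom).codRestrict
      (integralClosure (CAlg2.red O') (FractionRing (CAlg2.red O'))).toSubring hmem) fun c => ?_⟩
  obtain ⟨P, hP, hP0⟩ := c.2
  refine ⟨⟨φ.symm c.1, P.map e₀.symm.toRingHom, hP.map _, φ.injective ?_⟩, Subtype.ext (φ.apply_symm_apply _)⟩
  rw [Polynomial.eval₂_map, map_zero]
  refine (Polynomial.hom_eval₂ _ _ φ.toRingHom _).trans ?_
  show Polynomial.eval₂ _ (φ (φ.symm c.1)) P = 0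
  rw [φ.apply_symm_apply, show φ.toRingHom.comp ((algebraMap (CAlg2.red O) _).comp e₀.symm.toRingHom) =
    algebraMap (CAlg2.red O') (FractionRing (CAlg2.red O')) from
    RingHom.ext fun a => (hφ _).trans (congrArg _ (e₀.apply_symm_apply a))]
  exact hP0


open AlgebraicGeometry CategoryTheory in
/-- Let A be a unibranch Noetherian local domain (a local domain whose integral closure is a local ring)
with maximal ideal m, let 𝔞 be an ideal of definition of A (𝔞 ⊆ m and m^p ⊆ 𝔞 for some p), and let b
: X → Spec A be a blowing up of Spec A in the ideal sheaf defined by 𝔞. Then the fibre of b over the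
closed point is preconnected. Its underlying space is that of Proj of the associated graded ring ⊕
𝔞^i/𝔞^(i+1), so this says that Proj is connected (possibly empty). -/
theorem result (A : Type u) [CommRing A] [IsDomain A]
    [IsNoetherianRing A] [IsLocalRing A] (hA : CAlg2.IsUnibranch A) (𝔞 : Ideal A)
    (hle : 𝔞 ≤ IsLocalRing.maximalIdeal A)
    (hpow : ∃ p : ℕ, IsLocalRing.maximalIdeal A ^ p ≤ 𝔞) {X : Scheme.{u}}
    (b : X ⟶ Spec (CommRingCat.of A))
    (hb : BlowUp.IsBlowUp b
      (Scheme.IdealSheafData.ofIdealTop (𝔞.map (Scheme.ΓSpecIso (CommRingCat.of A)).inv.hom))) :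
    PreconnectedSpace ↥(b.fiber (IsLocalRing.closedPoint A)) := by
  classical
  let I : (Spec (CommRingCat.of A)).IdealSheafData :=
    Scheme.IdealSheafData.ofIdealTop (𝔞.map (Scheme.ΓSpecIso (CommRingCat.of A)).inv.hom)
  obtain ⟨p, hp⟩ := hpow
  by_cases h0 : 𝔞 = ⊥
  · have hI : I = ⊥ := by
      simp only [I, h0, Ideal.map_bot]
      exact Scheme.IdealSheafData.ext (funext fun U => by simp [Scheme.IdealSheafData.ofIdealTop])
    have hX : IsEmpty X := ⟨fun x => by
      obtain ⟨U, hxU, f, hf, hU⟩ := hb.1 x
      change (I.comap b).ideal U = _ at hU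
      rw [hI, Scheme.IdealSheafData.comap_bot, Scheme.IdealSheafData.ideal_bot, Pi.bot_apply, eq_comm,
        Ideal.span_singleton_eq_bot] at hU
      subst hU
      have h1 : (1 : Γ(X, U.1)) = 0 := mem_nonZeroDivisors_iff_right.1 hf 1 (mul_zero 1)
      have h2 := congrArg (X.presheaf.germ U.1 x hxU).hom h1
      rw [map_one, map_zero] at h2
      exact one_ne_zero h2⟩
    haveI : IsEmpty (b.fiber (IsLocalRing.closedPoint A)) := Function.isEmpty (b.fiberι _)
    infer_instance
  · have hI : I ≠ ⊥ := by
      intro h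
      have h2 := congrArg (fun J : (Spec (CommRingCat.of A)).IdealSheafData => J.ideal ⟨⊤, isAffineOpen_top _⟩) h
      simp [I, Scheme.IdealSheafData.ofIdealTop] at h2
      exact h0 (Ideal.map_eq_bot_iff_of_injective (f := (Scheme.ΓSpecIso (CommRingCat.of A)).inv.hom)
        ((ConcreteCategory.bijective_of_isIso (Scheme.ΓSpecIso (CommRingCat.of A)).inv).1) |>.1 h2)
    haveI : IsIntegral (Spec (CommRingCat.of A)) := inferInstance
    obtain ⟨hXi, hgen, hbir⟩ := S2348.result I hI b hb
    haveI := hXi
    haveI : IsProper b := BlowUpLib.isProper_of_isBlowUp (C := I) hb fun U => by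
      haveI : IsNoetherianRing Γ(Spec (CommRingCat.of A), U.1) := IsLocallyNoetherian.component_noetherian U
      exact IsNoetherian.noetherian _
    haveI : IsLocallyNoetherian X := LocallyOfFiniteType.isLocallyNoetherian b
    have hdom : b.base (genericPoint X) ⤳ genericPoint (Spec (CommRingCat.of A)) := by rw [hgen]
    have hy : CAlg2.IsUnibranch ((Spec (CommRingCat.of A)).presheaf.stalk (IsLocalRing.closedPoint A)) := by
      refine isUnibranch_of_ringEquiv ?_ hA
      exact (AlgebraicGeometry.stalkClosedPointIso (R := CommRingCat.of A)).commRingCatIsoToRingEquiv.symm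
    haveI : ConnectedSpace ↥(b.fiber (IsLocalRing.closedPoint A)) := by
      refine S4464.result b hdom (fun x _ => ⟨0, ?_⟩) _ hy
      rw [pow_zero, pow_one]
      obtain ⟨s, hs⟩ := hbir.2 ((X.residue (genericPoint X)).hom x)
      obtain ⟨t, rfl⟩ := Scheme.residue_surjective _ _ s
      have hx : (b.stalkMap (genericPoint X)).hom t = x := by
        letI : Field (X.presheaf.stalk (genericPoint X)) := inferInstanceAs (Field X.functionField)
        refine (X.residue (genericPoint X)).hom.injective (Eq.trans ?_ hs)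
        exact (RingHom.congr_fun (congrArg CommRingCat.Hom.hom (Scheme.residue_residueFieldMap b (genericPoint X))) t).symm
      refine ⟨(Spec (CommRingCat.of A)).presheaf.stalkSpecializes
        (show genericPoint (Spec (CommRingCat.of A)) ⤳ b.base (genericPoint X) by rw [hgen]) t, ?_⟩
      show (b.stalkMap (genericPoint X)).hom ((Spec (CommRingCat.of A)).presheaf.stalkSpecializes hdom
        ((Spec (CommRingCat.of A)).presheaf.stalkSpecializes _ t)) = x
      rw [TopCat.Presheaf.stalkSpecializes_comp_apply]
      simpa using hx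
    infer_instance

end Groth.Agent.S4472
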