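import Groth.Statements.S4475
import Groth.Agent.H1KoszFree.Cx

set_option autoImplicit false
set_option linter.style.haveILetI false
set_option backward.isDefEq.respectTransparency false
open scoped Groth.Agent.H1KoszFree
universe u
open Koszul3

namespace Groth.Agent.S4475

open CategoryTheory CategoryTheory.Limits in
/-- Let A be a ring, S = A[T_0, …, T_r] the polynomial ring and T = (T_0, …, T_r). Then the direct-limit
Koszul cohomology H^i((T), S), the colimit over n of the Koszul cohomologies H^i(T^n, S), vanishes
for every i ≠ r + 1, and H^(r+1)((T), S) is a free A-module (the source gives an explicit basis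
indexed by the monomials with all exponents positive). -/
theorem result (A : Type u) [CommRing A] (r : ℕ) :
    (∀ i : ℕ, i ≠ r + 1 →
      Subsingleton (CohIII.koszulHLim (List.ofFn (fun j : Fin (r + 1) => (MvPolynomial.X j : MvPolynomial (Fin (r + 1)) A)))
        (ModuleCat.of (MvPolynomial (Fin (r + 1)) A) (MvPolynomial (Fin (r + 1)) A)) i)) ∧
    Module.Free A (RestrictScalars A (MvPolynomial (Fin (r + 1)) A)
      (CohIII.koszulHLim (List.ofFn (fun j : Fin (r + 1) => (MvPolynomial.X j : MvPolynomial (Fin (r + 1)) A)))
        (ModuleCat.of (MvPolynomial (Fin (r + 1)) A) (MvPolynomial (Fin (r + 1)) A)) (r + 1))) := by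
  let S := MvPolynomial (Fin (r + 1)) A
  let M : ModuleCat.{u} S := ModuleCat.of S S
  let fs : List S := List.ofFn (fun j : Fin (r + 1) => (MvPolynomial.X j : S))
  let js : List (Fin (r + 1)) := List.finRange (r + 1)
  have hfs : fs = js.map MvPolynomial.X := List.ofFn_eq_map
  have hlen : fs.length = r + 1 := List.length_ofFn
  obtain ⟨h1, h2⟩ := Groth.Agent.H1KoszFree.goodMod_variables A js (List.nodup_finRange _) 0
  rw [← hfs] at h1 h2
  let E := fun i : ℕ => LinearEquiv.ofBijective _
    (Groth.Agent.KoszulLim.bijective_limMap M fs ((i : ℤ) - fs.length))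
  refine ⟨fun i hi => ?_, ?_⟩
  · haveI := h1 ((i : ℤ) - fs.length) (by omega)
    exact (E i).toEquiv.subsingleton
  · have hq : (((r + 1 : ℕ) : ℤ) - fs.length) = 0 := by omega
    let e : ((Groth.Agent.KoszulLim.D M fs).homology (((r + 1 : ℕ) : ℤ) - fs.length)) ≅
        (Groth.Agent.KoszulLim.D M fs).homology 0 := eqToIso (by rw [hq])
    let E' := (E (r + 1)).trans e.toLinearEquiv
    let N := (Groth.Agent.KoszulLim.D M fs).homology 0
    let F : RestrictScalars A S (CohIII.koszulHLim fs M (r + 1)) ≃ₗ[A] N :=
      { (RestrictScalars.addEquiv A S (CohIII.koszulHLim fs M (r + 1))).trans E'.toAddEquiv with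
        map_smul' := fun a x => by
          show E' (RestrictScalars.addEquiv A S _ (a • x)) =
            algebraMap A S a • E' (RestrictScalars.addEquiv A S _ x)
          rw [RestrictScalars.addEquiv_map_smul]
          exact map_smul E' (algebraMap A S a) _ }
    haveI : Module.Free A N := h2
    exact Module.Free.of_equiv F.symm

end Groth.Agent.S4475
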