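import Groth.Statements.S4483
import Groth.Agent.PnOverVan.Twist

set_option autoImplicit false
set_option backward.isDefEq.respectTransparency false
set_option backward.isDefEq.respectTransparency.types false
universe u
open Coherent

namespace Groth.Agent.S4483

open AlgebraicGeometry CategoryTheory Limits in
open scoped Groth.Agent.H23.PicMul in
/-- Let Y be a scheme, E a locally free O_Y-module of rank r+1, and (π : P → Y, O(1), q : π^*E → O(1)) a
projective bundle P(E) of E, characterised by its universal property; let L be an O_P-module with L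
⊗ O(1) ≅ O_P, playing the role of O(-1). Then the higher direct images R^i π_* O(n) vanish except
possibly for i = 0, n ≥ 0 and for i = r, n ≤ -(r+1): precisely, R^i π_*(O(1)^{⊗ n}) = 0 for all n ≥
0 and i ≠ 0, and R^i π_*(L^{⊗ m}) = 0 for all m ≥ 1 and all i unless i = r and m ≥ r + 1 (higher
direct images of the underlying abelian sheaves). -/
theorem result {Y P : Scheme.{u}} (π : P ⟶ Y) (r : ℕ)
    (E : Y.Modules) (hE : FlatMod.IsFinLocFreeOfRank (r + 1) E) (O1 : P.Modules)
    (q : (Scheme.Modules.pullback π).obj E ⟶ O1) (hP : KRR.IsProjBundle π E O1 q)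
    (L : P.Modules) (hL : ClSub.IsInverseOf L O1) :
    (∀ (n i : ℕ), i ≠ 0 → Limits.IsZero ((Coh.RpushAb π i).obj (Coh.toAb (CohB1.tensorPow O1 n)))) ∧
    (∀ (m i : ℕ), 1 ≤ m → ¬ (i = r ∧ r + 1 ≤ m) →
      Limits.IsZero ((Coh.RpushAb π i).obj (Coh.toAb (CohB1.tensorPow L m)))) := by
  have hinv : PicF.IsInvertible O1 := fun x =>
    let ⟨V, hx, ⟨e⟩⟩ := hP.invertible x
    ⟨V, hx, ⟨e ≪≫ coproductUniqueIso fun _ : Fin 1 => Coh.structureModule (V : Scheme.{u})⟩⟩
  obtain ⟨O, hOinv, hO, hOn⟩ := KPE7.exists_pows hinv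
  let u := (H23.PicMul.isUnit_cl hinv).unit
  have hu : (↑u : PicF.Cl P) = PicF.cl O1 := IsUnit.unit_spec _
  choose C hC using KPE7.exists_Chart hE hP hu hO
  have hvan : ∀ (d : ℤ) (i : ℕ), ¬ ((i = 0 ∧ 0 ≤ d) ∨ (i = r ∧ d ≤ -((r : ℤ) + 1))) →
      KPE7.Van π i (O d) := fun d i h => by
    have hk : ∀ x, KPE7.Van (KRR.pr r ((C x).U : Scheme.{u})) i
        ((Scheme.Modules.pullback (C x).J).obj (O d)) := fun x =>
      KPE7.van_iso _ ((C x).twist d).some.symm (PnOverVan.isZero_RpushAb_twistOver _ r i d h)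
    cases i with
    | zero => exact KPE7.van_zero_of_charts C (fun x => ⟨x, hC x⟩) _ hk
    | succ j => exact KPE7.van_of_charts C (fun x => ⟨x, hC x⟩) _ (ProjUPX.isQCoh_of_isInvertible (hOinv d)) j hk
  refine ⟨fun n i hi => ?_, fun m i hm hi => ?_⟩
  · have h := hvan (n : ℤ) i (fun h => by omega)
    rwa [hOn] at h
  · obtain ⟨e⟩ : Nonempty (O (-(m : ℤ)) ≅ CohB1.tensorPow L m) := H23.PicMul.cl_eq_iff.1 (by
      have hv : PicF.cl L = ↑(H23.PicMul.isUnit_cl hinv).unit⁻¹ := by
        refine Units.eq_inv_of_mul_eq_one_right ?_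
        rw [IsUnit.unit_spec]
        exact (H23.PicMul.cl_tensor _ _).symm.trans (H23.PicMul.cl_eq_iff.2 hL)
      rw [hO, H23.PicMul.cl_tensorPow, hv, zpow_neg, ← inv_zpow, zpow_natCast, Units.val_pow_eq_pow_val])
    exact KPE7.van_iso _ e (hvan _ i (fun h => by omega))

end Groth.Agent.S4483
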