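import Groth.Statements.S4484
import Groth.Agent.ZarConn.Components
import Mathlib

set_option autoImplicit false
universe u
open Coherent

namespace Groth.Agent.S4484

/-- The maximal ideals of the integral closure of a normal local domain in an algebraic extension of its
fraction field are at most as many as the embeddings of that extension. -/
theorem card_maximal_le {A K L C : Type u} [CommRing A] [IsDomain A] [IsLocalRing A] [IsIntegrallyClosed A]
    [Field K] [Algebra A K] [IsFractionRing A K] [Field L] [Algebra K L] [Algebra A L] [IsScalarTower A K L]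
    [Algebra.IsAlgebraic K L] [Finite (Field.Emb K L)] [CommRing C] [Algebra A C] [Algebra.IsIntegral A C]
    (γ : C →ₐ[A] L) (hγ : Function.Injective γ) :
    Finite (MaximalSpectrum C) ∧ Nat.card (MaximalSpectrum C) ≤ Field.finSepDegree K L := by
  classical
  let Ω := AlgebraicClosure L
  haveI : IsScalarTower A K Ω := IsScalarTower.of_algebraMap_eq fun a => by
    rw [IsScalarTower.algebraMap_apply A L Ω, IsScalarTower.algebraMap_apply A K L,
      ← IsScalarTower.algebraMap_apply K L Ω]
  let N := integralClosure A Ω
  have hinjN : Function.Injective (algebraMap A N) := fun a b h => by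
    have h' : algebraMap A Ω a = algebraMap A Ω b := congrArg Subtype.val h
    rw [IsScalarTower.algebraMap_apply A K Ω, IsScalarTower.algebraMap_apply A K Ω] at h'
    exact IsFractionRing.injective A K ((algebraMap K Ω).injective h')
  obtain ⟨Q, -, hQp, hQ⟩ := Ideal.exists_ideal_over_prime_of_isIntegral (S := N) (IsLocalRing.maximalIdeal A) ⊥
    (fun x hx => by
      rw [Ideal.mem_comap, Ideal.mem_bot] at hx
      rw [hinjN (hx.trans (map_zero _).symm)]
      exact zero_mem _)
  haveI := hQp
  let toN : Field.Emb K L → (C →+* N) := fun ψ =>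
    (((ψ.restrictScalars A).comp γ).codRestrict N fun c =>
      ((Algebra.IsIntegral.isIntegral (R := A) c).map γ).map (ψ.restrictScalars A)).toRingHom
  haveI hmax : ∀ ψ, ((Q.comap (toN ψ))).IsMaximal := fun ψ => by
    haveI : (Q.comap (toN ψ)).IsPrime := Ideal.comap_isPrime _ _
    refine Ideal.isMaximal_of_isIntegral_of_isMaximal_comap (R := A) _ ?_
    rw [Ideal.comap_comap, show (toN ψ).comp (algebraMap A C) = algebraMap A N from RingHom.ext fun a =>
      Subtype.ext (((ψ.restrictScalars A).comp γ).commutes a), hQ]
    infer_instance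
  let F : Field.Emb K L → MaximalSpectrum C := fun ψ => ⟨Q.comap (toN ψ), hmax ψ⟩
  have hF : Function.Surjective F := fun M => by
    by_contra hM
    push Not at hM
    haveI := Fintype.ofFinite (Field.Emb K L)
    have hnot : ¬ (M.asIdeal : Set C) ⊆ ⋃ ψ ∈ (↑(Finset.univ : Finset (Field.Emb K L)) : Set (Field.Emb K L)), (Q.comap (toN ψ) : Set C) := by
      rw [Ideal.subset_union_prime default default (fun ψ _ _ _ => (hmax ψ).isPrime)]
      rintro ⟨ψ, -, h⟩
      exact hM ψ (MaximalSpectrum.ext (M.isMaximal.eq_of_le (hmax ψ).ne_top h).symm)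
    obtain ⟨c, hcM, hc⟩ := Set.not_subset.1 hnot
    simp only [Finset.coe_univ, Set.mem_univ, Set.iUnion_true, Set.mem_iUnion, SetLike.mem_coe, Ideal.mem_comap,
      not_exists] at hc
    set x : L := γ c
    have hx : IsIntegral A x := (Algebra.IsIntegral.isIntegral (R := A) c).map γ
    set P := minpoly A x
    have hmin : minpoly K x = P.map (algebraMap A K) := minpoly.isIntegrallyClosed_eq_field_fractions' K hx
    have hroot : ∀ r ∈ P.aroots Ω, ∃ ψ : Field.Emb K L, ψ x = r := fun r hr => by
      have hr' : r ∈ (minpoly K x).rootSet Ω := by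
        rw [Polynomial.rootSet_def, hmin, Polynomial.aroots_map]
        simpa using hr
      rwa [← Algebra.IsAlgebraic.range_eval_eq_rootSet_minpoly (F := K) (K := L) Ω x] at hr'
    have hzero : algebraMap A N (P.coeff 0) ∉ Q := by
      have e : algebraMap A Ω (P.coeff 0) = (-1) ^ P.natDegree * (P.aroots Ω).prod := by
        have h := (IsAlgClosed.splits (P.map (algebraMap A Ω))).coeff_zero_eq_prod_roots_of_monic
          ((minpoly.monic hx).map _)
        rw [Polynomial.coeff_map, (minpoly.monic hx).natDegree_map] at h
        exact h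
      let rs : Multiset N := (P.aroots Ω).attach.map fun r => toN (hroot r.1 r.2).choose c
      have hrs : algebraMap A N (P.coeff 0) = (-1) ^ P.natDegree * rs.prod := by
        refine Subtype.ext ?_
        push_cast
        rw [e, Multiset.map_map]
        congr 1
        conv_lhs => rw [← Multiset.attach_map_val (P.aroots Ω)]
        exact congrArg Multiset.prod (Multiset.map_congr rfl fun r _ => (hroot r.1 r.2).choose_spec.symm)
      rw [hrs]
      intro hmem
      rcases hQp.mem_or_mem hmem with h | h
      · exact hQp.ne_top (Ideal.eq_top_of_isUnit_mem _ (hQp.mem_of_pow_mem _ h) isUnit_one.neg)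
      · obtain ⟨y, hy, hyQ⟩ := (hQp.multiset_prod_mem_iff_exists_mem _).1 h
        obtain ⟨r, -, rfl⟩ := Multiset.mem_map.1 hy
        exact hc _ hyQ
    have hunit : IsUnit (P.coeff 0) := by
      by_contra h
      refine hzero ?_
      have h2 : P.coeff 0 ∈ Q.comap (algebraMap A N) := hQ.ge h
      exact h2
    have h0 : Polynomial.aeval c P = 0 := hγ (by
      rw [← Polynomial.aeval_algHom_apply, map_zero]; exact minpoly.aeval A x)
    have hcoe : algebraMap A C (P.coeff 0) ∈ M.asIdeal := by
      rw [← P.X_mul_divX_add, map_add, map_mul, Polynomial.aeval_X, Polynomial.aeval_C] at h0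
      rw [eq_neg_of_add_eq_zero_right h0]
      exact neg_mem (Ideal.mul_mem_right _ _ hcM)
    exact M.isMaximal.ne_top (Ideal.eq_top_of_isUnit_mem _ hcoe (hunit.map _))
  haveI := Finite.of_surjective F hF
  exact ⟨inferInstance, Nat.card_le_card_of_surjective F hF⟩


open AlgebraicGeometry CategoryTheory in
/-- Let X and Y be locally Noetherian integral schemes and f : X → Y a proper dominant morphism; regard
the function field R(X) as an extension of R(Y) through f. Suppose that the algebraic closure of
R(Y) in R(X) has finite separable degree n over R(Y). Then for every point y of Y whose local ring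
is unibranch, the fibre X_y has finitely many, and at most n, connected components. -/
theorem result {X Y : Scheme.{u}} [IsIntegral X]
    [IsIntegral Y] [IsLocallyNoetherian X] [IsLocallyNoetherian Y] (f : X ⟶ Y) [IsProper f]
    (hdom : f.base (genericPoint X) ⤳ genericPoint Y) [Algebra Y.functionField X.functionField]
    (halg : algebraMap Y.functionField X.functionField = CohIII.stalkToFunctionField f (genericPoint Y) hdom)
    (n : ℕ) (hn0 : 0 < n)
    (hn : Field.finSepDegree Y.functionField ↥(algebraicClosure Y.functionField X.functionField) = n)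
    (y : Y) (hy : CAlg2.IsUnibranch (Y.presheaf.stalk y)) :
    Finite (_root_.ConnectedComponents ↥(f.fiber y)) ∧
      Nat.card (_root_.ConnectedComponents ↥(f.fiber y)) ≤ n := by
  classical
  have h : f.base (genericPoint X) ⤳ y := hdom.trans ((genericPoint_spec Y).specializes trivial)
  set ψ := CohIII.stalkToFunctionField f y h with hψ
  set ι := CohIII.stalkToFunctionField f (genericPoint Y) hdom with hι
  obtain ⟨G₀, hG₀⟩ := ZarConn.exists_embedding_components f y h
  set C := CohIII.integralClosureStalk f y h with hC
  have hcomp : ψ = ι.comp (algebraMap (Y.presheaf.stalk y) Y.functionField) := by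
    refine RingHom.ext fun a => ?_
    show (f.stalkMap (genericPoint X)).hom (Y.presheaf.stalkSpecializes h a) =
      (f.stalkMap (genericPoint X)).hom (Y.presheaf.stalkSpecializes hdom
        (Y.presheaf.stalkSpecializes ((genericPoint_spec Y).specializes trivial) a))
    rw [TopCat.Presheaf.stalkSpecializes_comp_apply]
  letI : Field Y.functionField := inferInstance
  let O := Y.presheaf.stalk y
  let A := integralClosure O Y.functionField
  haveI : IsLocalRing A := ZarConn.isLocalRing_integralClosure_of_unibranch _ _ hy
  haveI : IsFractionRing A Y.functionField := integralClosure.isFractionRing_of_finite_extension Y.functionField Y.functionField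
  haveI : IsIntegrallyClosed A := (isIntegrallyClosed_iff_isIntegrallyClosedIn Y.functionField).2 inferInstance
  let L := algebraicClosure Y.functionField X.functionField
  haveI : Finite (Field.Emb Y.functionField L) := Nat.finite_of_card_ne_zero
    (show Field.finSepDegree Y.functionField L ≠ 0 by rw [hn]; omega)
  have hmemC : ∀ c, c ∈ C ↔ ψ.IsIntegralElem c := fun c => Iff.rfl
  let θ : A →+* C := (ι.comp A.val.toRingHom).codRestrict C fun k => by
    obtain ⟨P, hP, hP0⟩ := k.2
    refine (hmemC _).2 ⟨P, hP, ?_⟩
    show Polynomial.eval₂ ψ (ι k.1) P = 0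
    rw [hcomp, ← Polynomial.hom_eval₂, hP0, map_zero]
  letI : Algebra A C := θ.toAlgebra
  have hθ : θ.IsIntegral := fun c => by
    obtain ⟨P, hP, hP0⟩ := (hmemC c.1).1 c.2
    refine ⟨P.map (algebraMap O A), hP.map _, Subtype.ext ?_⟩
    show C.subtype (Polynomial.eval₂ θ c (P.map (algebraMap O A))) = 0
    rw [Polynomial.hom_eval₂, Polynomial.eval₂_map]
    have e : (C.subtype.comp θ).comp (algebraMap O A) = ψ := by rw [hcomp]; rfl
    rw [e]
    exact hP0
  haveI : Algebra.IsIntegral A C := ⟨hθ⟩
  have hCL : ∀ c : C, c.1 ∈ L := fun c => by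
    obtain ⟨P, hP, hP0⟩ := (hmemC c.1).1 c.2
    rw [mem_algebraicClosure_iff]
    refine ⟨P.map (algebraMap O Y.functionField), (hP.map _).ne_zero, ?_⟩
    rw [Polynomial.aeval_def, halg, Polynomial.eval₂_map, ← hcomp]
    exact hP0
  let γ : C →ₐ[A] L :=
    { toFun := fun c => ⟨c.1, hCL c⟩
      map_one' := rfl
      map_mul' := fun _ _ => rfl
      map_zero' := rfl
      map_add' := fun _ _ => rfl
      commutes' := fun a => Subtype.ext (by
        show ι a.1 = algebraMap Y.functionField X.functionField a.1
        rw [halg]) }
  obtain ⟨hfin, hcard⟩ := card_maximal_le (K := Y.functionField) (L := L) γ fun a b hab =>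
    Subtype.ext (congrArg Subtype.val hab :)
  haveI := hfin
  refine ⟨Finite.of_injective _ hG₀, (Nat.card_le_card_of_injective _ hG₀).trans (hcard.trans hn.le)⟩

end Groth.Agent.S4484
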