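import Groth.Statements.S4487
import Groth.Agent.FlatCxLib.GenericRank

set_option autoImplicit false
set_option backward.isDefEq.respectTransparency false
set_option backward.isDefEq.respectTransparency.types false
universe u
open FlatCx

namespace Groth.Agent.S4487

open CategoryTheory CategoryTheory.Limits in
/-- The case of the homological functor T_p(M) = H_p(P ⊗_A M) of a chain complex P of flat modules over
a commutative ring A. Let A be Noetherian and suppose P_i = 0 for i < i₀ and that every T_n(A) is a
finitely generated A-module. Then for every integer N there is a dense open subset U of Spec A such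
that, for every p ≤ N, the function x ↦ dim_{k(x)} H_p(P ⊗_A k(x)) is locally constant on U. (The
published statement says constant on U; over the product of two fields, with P the projective module
supported on one factor placed in degree 0, the only dense open set is the whole two-point spectrum
and the ranks there are 1 and 0, so locally constant on U is what holds; the argument produces U as
a disjoint union of opens, one dense in each irreducible component, on each of which the functions
are constant.) -/
theorem result {A : Type u} [CommRing A] [IsNoetherianRing A]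
    (P : ChainComplex (ModuleCat.{u} A) ℤ) (hP : ∀ i, Module.Flat A (P.X i)) (i₀ : ℤ)
    (hb : ∀ i < i₀, IsZero (P.X i))
    (hfg : ∀ n : ℤ, Module.Finite A (CohIII.T P n (ModuleCat.of A A))) (N : ℤ) :
    ∃ U : Set (PrimeSpectrum A), IsOpen U ∧ Dense U ∧
      ∀ p ≤ N, IsLocallyConstant (fun x : U => CohIII.dRank P p x) := by
  classical
  let U : Set (PrimeSpectrum A) := {x | ∃ V : Set (PrimeSpectrum A), IsOpen V ∧ x ∈ V ∧
    ∀ q ≤ N, ∀ z ∈ V, CohIII.dRank P q z = CohIII.dRank P q x}
  have hUo : IsOpen U := by
    refine isOpen_iff_forall_mem_open.2 fun x ⟨V, hV, hxV, hc⟩ => ⟨V, fun z hz => ?_, hV, hxV⟩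
    exact ⟨V, hV, hz, fun q hq w hw => (hc q hq w hw).trans (hc q hq z hz).symm⟩
  have hfg' : ∀ n : ℤ, Module.Finite A (P.homology n) := fun n =>
    have := hfg n; Module.Finite.equiv (Groth.Agent.FlatCxLib.tUnitIso (P := P) n).toLinearEquiv
  have hmin : ∀ y : PrimeSpectrum A, y.asIdeal ∈ minimalPrimes A → y ∈ U := by
    intro y hy
    let A' := A ⧸ y.asIdeal
    haveI : Module.Finite A A' := inferInstanceAs (Module.Finite A (A ⧸ y.asIdeal))
    let P' := CohIII.bcCx (algebraMap A A') P
    obtain ⟨g, hg, hgc⟩ := Groth.Agent.FlatCxLib.exists_basicOpen_dRank_eq P'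
      (Groth.Agent.FlatCxLib.flat_bcCx_X P hP) i₀
      (fun i hi => (ModuleCat.extendScalars (algebraMap A A')).map_isZero (hb i hi))
      (fun n =>
        have := Groth.Agent.FlatCxLib.finite_homology_bcCx (B := A') P hP i₀ hb hfg' n
        Module.finitePresentation_of_finite A' _) N
    obtain ⟨g, rfl⟩ := Ideal.Quotient.mk_surjective g
    have hgy : g ∉ y.asIdeal := fun h => hg (Ideal.Quotient.eq_zero_iff_mem.2 h)
    let others := ((minimalPrimes.finite_of_isNoetherianRing A).toFinset).erase y.asIdeal
    obtain ⟨f, hf, hfy⟩ : ∃ f ∈ others.inf id, f ∉ y.asIdeal := by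
      by_contra hcon
      push Not at hcon
      obtain ⟨p, hp, hle⟩ := (Ideal.IsPrime.inf_le' (f := id) y.isPrime).1 (fun z hz => hcon z hz)
      obtain ⟨hne, hp'⟩ := Finset.mem_erase.1 hp
      have hp'' : p ∈ minimalPrimes A := by simpa using hp'
      exact hne (le_antisymm hle (hy.2 hp''.1 hle))
    refine ⟨PrimeSpectrum.basicOpen (f * g), PrimeSpectrum.basicOpen_mul f g ▸
      (PrimeSpectrum.basicOpen f ⊓ PrimeSpectrum.basicOpen g).2, fun h => ?_, fun q hq z hz => ?_⟩
    · exact (y.isPrime.mem_or_mem h).elim hfy hgy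
    · have hzf : f ∉ z.asIdeal := fun h => hz (Ideal.mul_mem_right _ _ h)
      have hzg : g ∉ z.asIdeal := fun h => hz (Ideal.mul_mem_left _ _ h)
      obtain ⟨p, hp, hpz⟩ := Ideal.exists_minimalPrimes_le (bot_le : ⊥ ≤ z.asIdeal)
      have hpy : p = y.asIdeal := by
        by_contra hne
        exact hzf (hpz ((Finset.inf_le (f := id) (Finset.mem_erase.2 ⟨hne, by simpa using (show p ∈ minimalPrimes A from hp)⟩)) hf))
      have hyz : y.asIdeal ≤ z.asIdeal := hpy ▸ hpz
      have hr := range_comap_of_surjective A' (algebraMap A A') Ideal.Quotient.mk_surjective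
      obtain ⟨z', rfl⟩ : z ∈ Set.range (PrimeSpectrum.comap (algebraMap A A')) := by
        rw [hr]
        show (RingHom.ker (algebraMap A A') : Set A) ⊆ z.asIdeal
        rw [show RingHom.ker (algebraMap A A') = y.asIdeal from Ideal.mk_ker]
        exact hyz
      have hy' : PrimeSpectrum.comap (algebraMap A A') ⟨⊥, Ideal.isPrime_bot⟩ = y :=
        PrimeSpectrum.ext Ideal.mk_ker
      conv_rhs => rw [← hy']
      rw [← Groth.Agent.S2440.result P hP q z', ← Groth.Agent.S2440.result P hP q _]
      exact hgc z' hzg q hq
  refine ⟨U, hUo, fun x => ?_, fun p hp => (IsLocallyConstant.iff_eventually_eq _).2 fun x => ?_⟩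
  · obtain ⟨p, hp, hpx⟩ := Ideal.exists_minimalPrimes_le (bot_le : ⊥ ≤ x.asIdeal)
    let y : PrimeSpectrum A := ⟨p, hp.1.1⟩
    have : y ⤳ x := (PrimeSpectrum.le_iff_specializes y x).1 hpx
    exact closure_mono (Set.singleton_subset_iff.2 (hmin y hp)) (specializes_iff_mem_closure.1 this)
  · obtain ⟨V, hV, hxV, hc⟩ := x.2
    filter_upwards [continuous_subtype_val.continuousAt.preimage_mem_nhds (hV.mem_nhds hxV)] with z hz
    exact hc p hp z.1 hz

end Groth.Agent.S4487
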