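import Groth.Statements.S4488
import Groth.Agent.S4485
import Groth.Agent.S2446
import Groth.Agent.FlatCxLib.HomologyBC
import Groth.Agent.FlatCxLib.Reduced

set_option autoImplicit false
set_option backward.isDefEq.respectTransparency false
set_option backward.isDefEq.respectTransparency.types false
universe u
open FlatCx

namespace Groth.Agent.S4488

open CategoryTheory CategoryTheory.Limits in
/-- For the homological functor T_q(M) = H_q(P ⊗_A M) of a chain complex P of flat modules over a
commutative local ring A with residue field k. Suppose P_i = 0 for i < i₀ and that every T_n(A) is a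
finitely presented A-module, and let p be an integer. If T_q takes injections to injections and
surjections to surjections for every q ≤ p, then dim_{k(x)} T_q(k(x)) = dim_k T_q(k) for every point
x of Spec A and every q ≤ p. Conversely, if A is reduced and this equality holds at the generic
point of every irreducible component of Spec A (every minimal prime) for every q ≤ p, then T_q takes
injections to injections and surjections to surjections for every q ≤ p. No Noetherian hypothesis on
A. -/
theorem result {A : Type u} [CommRing A] [IsLocalRing A]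
    (P : ChainComplex (ModuleCat.{u} A) ℤ) (hP : ∀ i, Module.Flat A (P.X i)) (i₀ : ℤ)
    (hb : ∀ i < i₀, IsZero (P.X i))
    (hfp : ∀ n : ℤ, Module.FinitePresentation A (CohIII.T P n (ModuleCat.of A A))) (p : ℤ) :
    ((∀ q ≤ p, (CohIII.TFun P q).PreservesMonomorphisms ∧ (CohIII.TFun P q).PreservesEpimorphisms) →
        ∀ (x : PrimeSpectrum A), ∀ q ≤ p, CohIII.dRank P q x = CohIII.dRank P q (IsLocalRing.closedPoint A)) ∧
      (IsReduced A →
        (∀ x : PrimeSpectrum A, x.asIdeal ∈ minimalPrimes A →
          ∀ q ≤ p, CohIII.dRank P q x = CohIII.dRank P q (IsLocalRing.closedPoint A)) →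
        ∀ q ≤ p, (CohIII.TFun P q).PreservesMonomorphisms ∧ (CohIII.TFun P q).PreservesEpimorphisms) := by
  have hq1 : ∀ q : ℤ, q + 1 = q + 1 := fun _ => rfl
  have hq0 : ∀ q : ℤ, q - 1 + 1 = q := fun q => by lia
  refine ⟨fun h x q hq => ?_, fun hred hmin => ?_⟩
  · have hlc := Groth.Agent.S4485.result P hP q (h q hq) (hfp q)
    obtain ⟨U, hU, hxU, hUc⟩ := (IsLocallyConstant.iff_exists_open _).1 hlc (IsLocalRing.closedPoint A)
    have hs : x ⤳ IsLocalRing.closedPoint A :=
      (PrimeSpectrum.le_iff_specializes _ _).1 (IsLocalRing.le_maximalIdeal x.isPrime.ne_top)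
    exact hUc x (hs.mem_open hU hxU)
  · suffices hfl : ∀ q ≤ p, Module.Flat A ((CohIII.TFun P q).obj (ModuleCat.of A A)) from
      (Groth.Agent.S2446.result P hP i₀ hb p).2 hfl
    suffices h : ∀ (n : ℕ), i₀ - 1 + n ≤ p →
        ∀ q ≤ i₀ - 1 + n, Module.Flat A ((CohIII.TFun P q).obj (ModuleCat.of A A)) by
      intro q hq
      by_cases hlt : q < i₀
      · have hz : IsZero ((CohIII.TFun P q).obj (ModuleCat.of A A)) :=
          (HomologicalComplex.exactAt_iff_isZero_homology _ _).1
            (HomologicalComplex.ExactAt.of_isZero ((MonoidalCategory.tensorRight _).map_isZero (hb _ hlt)))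
        haveI := ModuleCat.isZero_iff_subsingleton.1 hz
        infer_instance
      · exact h (q - i₀ + 1).toNat (by lia) q (by lia)
    intro n
    induction n with
    | zero =>
      intro _ q hq
      have hz : IsZero ((CohIII.TFun P q).obj (ModuleCat.of A A)) :=
        (HomologicalComplex.exactAt_iff_isZero_homology _ _).1
          (HomologicalComplex.ExactAt.of_isZero ((MonoidalCategory.tensorRight _).map_isZero (hb _ (by lia))))
      haveI := ModuleCat.isZero_iff_subsingleton.1 hz
      infer_instance
    | succ n ih =>
      intro hn q hq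
      push_cast at hn hq
      rcases lt_or_eq_of_le hq with hlt | heq
      · exact ih (by lia) q (by lia)
      · have hex := (Groth.Agent.S2446.result P hP i₀ hb (i₀ - 1 + n)).2 (ih (by lia)) (i₀ - 1 + n) le_rfl
        have hq' : (i₀ - 1 + (n : ℤ)) + 1 = q := by lia
        have he := (Groth.Agent.FlatCxLib.preservesEpi_iff_preservesMono hP hq').2 hex.1
        haveI := (Groth.Agent.FlatCxLib.preservesEpi_iff hP (hq0 q)).1 he
        let e := Groth.Agent.FlatCxLib.hom'EquivT (P := P) (hq1 q) (hq0 q)
        haveI : Module.FinitePresentation A (Groth.Agent.FlatCxLib.Hom' P (q + 1) q (q - 1)) :=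
          have := hfp q; Module.FinitePresentation.of_equiv e.symm
        haveI : Module.Free A (Groth.Agent.FlatCxLib.Hom' P (q + 1) q (q - 1)) := by
          refine Groth.Agent.FlatCxLib.free_of_fibreRank_eq _ fun x hx => ?_
          rw [← Groth.Agent.FlatCxLib.dRank_eq_fibreRank P hP (hq1 q) (hq0 q),
            ← Groth.Agent.FlatCxLib.dRank_eq_fibreRank P hP (hq1 q) (hq0 q)]
          exact hmin x hx q (by lia)
        exact Module.Flat.of_linearEquiv e.symm

end Groth.Agent.S4488
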