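import Groth.Statements.S4499
import Groth.Agent.TorBridge.Shift

set_option autoImplicit false
set_option maxHeartbeats 800000
set_option backward.isDefEq.respectTransparency false
set_option backward.isDefEq.respectTransparency.types false
universe u
attribute [local instance] HasDerivedCategory.standard
open FlatCx

namespace Groth.Agent.S4499

/-- The first isomorphism theorem for a map out of a submodule. -/
theorem quotEquiv {R X Y : Type*} [CommRing R] [AddCommGroup X] [Module R X] [AddCommMonoid Y] [Module R Y]
    (K : Submodule R X) (φ : K →ₗ[R] Y) (hφ : Function.Surjective φ) (N : Submodule R K)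
    (h : LinearMap.ker φ = N) : Nonempty ((K ⧸ N) ≃ₗ[R] Y) := by
  letI := Module.addCommMonoidToAddCommGroup R (M := Y)
  exact ⟨(Submodule.quotEquivOfEq _ _ h.symm).trans (φ.quotKerEquivOfSurjective hφ)⟩

/-- Let A be a Noetherian local ring with residue field k, and d : P₁ → P₀ an A-linear map between flat
A-modules, viewed as a two-term chain complex, so that H₁ = Ker d, H₀ = Coker d and H₁ of the
complex tensored with k is Ker(d ⊗ 1_k). Let α : (Ker d) ⊗_A k → P₁ ⊗_A k be the map induced by the
inclusion Ker d → P₁; its image lies in Ker(d ⊗ 1_k). Then there is an exact sequence 0 →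
Tor₂^A(Coker d, k) → (Ker d) ⊗_A k → Ker(d ⊗ 1_k) → Tor₁^A(Coker d, k) → 0 with middle map α, stated
here as: Ker α is isomorphic to Tor₂^A(Coker d, k), and the quotient of Ker(d ⊗ 1_k) by the image of
α is isomorphic to Tor₁^A(Coker d, k) (existence of A-linear isomorphisms only; Tor is Mathlib's,
left derived in the second variable). (In the published statement the cokernel is printed without
its prime, as the module of 0-cycles; the proof is about the cokernel of d.) -/
theorem result {A : Type u} [CommRing A] [IsNoetherianRing A]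
    [IsLocalRing A] {P₁ P₀ : Type u} [AddCommGroup P₁] [Module A P₁] [AddCommGroup P₀] [Module A P₀]
    [Module.Flat A P₁] [Module.Flat A P₀] (d : P₁ →ₗ[A] P₀) :
    Nonempty (LinearMap.ker ((LinearMap.ker d).subtype.rTensor (IsLocalRing.ResidueField A)) ≃ₗ[A]
        DRing.Tor A 2 (P₀ ⧸ LinearMap.range d) (IsLocalRing.ResidueField A)) ∧
      LinearMap.range ((LinearMap.ker d).subtype.rTensor (IsLocalRing.ResidueField A)) ≤
        LinearMap.ker (d.rTensor (IsLocalRing.ResidueField A)) ∧
      Nonempty ((↥(LinearMap.ker (d.rTensor (IsLocalRing.ResidueField A))) ⧸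
          Submodule.comap (LinearMap.ker (d.rTensor (IsLocalRing.ResidueField A))).subtype
            (LinearMap.range ((LinearMap.ker d).subtype.rTensor (IsLocalRing.ResidueField A)))) ≃ₗ[A]
        DRing.Tor A 1 (P₀ ⧸ LinearMap.range d) (IsLocalRing.ResidueField A)) := by
  let k := IsLocalRing.ResidueField A
  let K := LinearMap.ker d
  let ρ : P₁ →ₗ[A] LinearMap.range d := d.rangeRestrict
  have hρ : Function.Surjective ρ := d.surjective_rangeRestrict
  have hex : Function.Exact K.subtype ρ := by
    rw [LinearMap.exact_iff, LinearMap.ker_rangeRestrict, Submodule.range_subtype]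
  have hexk := rTensor_exact k hex hρ
  have hd : d.rTensor k = (LinearMap.range d).subtype.rTensor k ∘ₗ ρ.rTensor k := by
    rw [← LinearMap.rTensor_comp]
    rfl
  refine ⟨?_, ?_, ?_⟩
  · obtain ⟨e1⟩ := Groth.Agent.TorBridge.nonempty_tor_one_quotient K k
    obtain ⟨e2⟩ := Groth.Agent.TorBridge.nonempty_tor_congr d.quotKerEquivRange 1 k
    obtain ⟨e3⟩ := Groth.Agent.TorBridge.nonempty_tor_two_quotient (LinearMap.range d) k
    exact ⟨e1.trans (e2.trans e3)⟩
  · rintro _ ⟨t, rfl⟩
    rw [LinearMap.mem_ker, hd, LinearMap.comp_apply, hexk.apply_apply_eq_zero, map_zero]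
  · obtain ⟨e1⟩ := Groth.Agent.TorBridge.nonempty_tor_one_quotient (LinearMap.range d) k
    let φ : ↥(LinearMap.ker (d.rTensor k)) →ₗ[A] ↥(LinearMap.ker ((LinearMap.range d).subtype.rTensor k)) :=
      ((ρ.rTensor k) ∘ₗ (LinearMap.ker (d.rTensor k)).subtype).codRestrict _ fun z => by
        exact (LinearMap.congr_fun hd z.1).symm.trans z.2
    have hφs : Function.Surjective φ := fun b => by
      obtain ⟨z, hz⟩ := LinearMap.rTensor_surjective k hρ b.1
      exact ⟨⟨z, by rw [LinearMap.mem_ker, hd, LinearMap.comp_apply, hz]; exact b.2⟩, Subtype.ext hz⟩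
    have hφk : LinearMap.ker φ = Submodule.comap (LinearMap.ker (d.rTensor k)).subtype
        (LinearMap.range ((LinearMap.ker d).subtype.rTensor k)) := by
      ext z
      rw [LinearMap.mem_ker, Submodule.mem_comap, LinearMap.mem_range]
      let w : TensorProduct A P₁ k := z.1
      have hv : (φ z).1 = ρ.rTensor k w := rfl
      constructor
      · intro h
        have h' : ρ.rTensor k w = 0 := hv.symm.trans ((congrArg Subtype.val h).trans rfl)
        exact (hexk w).1 h'
      · rintro ⟨t, ht⟩
        have h' : ρ.rTensor k w = 0 := (hexk w).2 ⟨t, ht⟩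
        exact Subtype.ext (hv.trans h')
    obtain ⟨e⟩ := quotEquiv (X := TensorProduct A P₁ k) (LinearMap.ker (d.rTensor k)) φ hφs _ hφk
    exact ⟨e.trans e1⟩

end Groth.Agent.S4499
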