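import Groth.Statements.S4500
import Groth.Agent.HomCorep.Basic
set_option backward.isDefEq.respectTransparency false
set_option backward.isDefEq.respectTransparency.types false

set_option autoImplicit false
universe u
attribute [local instance] HasDerivedCategory.standard
open Coherent

namespace Groth.Agent.S4500

open AlgebraicGeometry CategoryTheory CategoryTheory.Limits Opposite in
/-- The global form over an affine base. Let A be a Noetherian ring, X a proper A-scheme with structure
morphism f, F a coherent O_X-module flat over Spec A, and G an O_X-module admitting a presentation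
E₁ → E₀ → G → 0 with E₀, E₁ finite locally free O_X-modules. Then there are a finitely generated
A-module N and an isomorphism of functors of the A-module M between Hom_{O_X}(G, f^*(M~) ⊗ F) and
Hom_A(N, M) (as abelian-group-valued functors). (N is then unique up to unique isomorphism.) -/
theorem result (A : Type u) [CommRing A] [IsNoetherianRing A]
    (X : Scheme.{u}) [X.Over (Spec (CommRingCat.of A))] [IsProper (X ↘ Spec (CommRingCat.of A))]
    (F : X.Modules) (hF : Coh.IsCoh F) (hfl : FlatMod.IsFlatOver (X ↘ Spec (CommRingCat.of A)) F)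
    (G E₀ E₁ : X.Modules) (h₀ : FlatMod.IsFinLocFree E₀) (h₁ : FlatMod.IsFinLocFree E₁)
    (v : E₁ ⟶ E₀) (π : E₀ ⟶ G) [Epi π] (w : v ≫ π = 0) (hex : (ShortComplex.mk v π w).Exact) :
    ∃ N : ModuleCat.{u} A, Module.Finite A N ∧
      Nonempty (CohIII.tensorAFunctor A F ⋙ preadditiveCoyoneda.obj (op G) ≅
        (linearCoyoneda A (ModuleCat.{u} A)).obj (op N) ⋙ forget₂ (ModuleCat.{u} A) AddCommGrpCat.{u}) := by
  obtain ⟨Q₀, hQ₀, e₀, he₀⟩ := Groth.Agent.HomCorep.exists_natEquiv A hF hfl h₀
  obtain ⟨Q₁, -, e₁, he₁⟩ := Groth.Agent.HomCorep.exists_natEquiv A hF hfl h₁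
  let T := CohIII.tensorAFunctor A F
  let a : Q₁ ⟶ Q₀ := (e₁ Q₀).symm (v ≫ e₀ Q₀ (𝟙 Q₀))
  have key : ∀ (M : ModuleCat.{u} A) (h : Q₀ ⟶ M), e₁ M (a ≫ h) = v ≫ e₀ M h := fun M h => by
    rw [he₁ Q₀ M h a, AddEquiv.apply_symm_apply, Category.assoc, ← he₀ Q₀ M h (𝟙 Q₀), Category.id_comp]
  let E₂ : ∀ M : ModuleCat.{u} A, (Limits.cokernel a ⟶ M) → (G ⟶ T.obj M) := fun M g =>
    hex.desc (e₀ M (Limits.cokernel.π a ≫ g)) (by
      show v ≫ _ = 0
      rw [← key, ← Category.assoc, Limits.cokernel.condition, Limits.zero_comp, map_zero])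
  have hdesc : ∀ (M : ModuleCat.{u} A) (g : Limits.cokernel a ⟶ M),
      π ≫ E₂ M g = e₀ M (Limits.cokernel.π a ≫ g) := fun M g => hex.g_desc _ _
  have hadd : ∀ (M : ModuleCat.{u} A) (g g' : Limits.cokernel a ⟶ M), E₂ M (g + g') = E₂ M g + E₂ M g' :=
    fun M g g' => by
      rw [← cancel_epi π, Preadditive.comp_add, hdesc, hdesc, hdesc, Preadditive.comp_add, map_add]
  have hbij : ∀ M : ModuleCat.{u} A, Function.Bijective (E₂ M) := fun M => by
    refine ⟨fun g g' h => ?_, fun s => ?_⟩
    · have h2 := congrArg (π ≫ ·) h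
      simp only [hdesc] at h2
      exact (cancel_epi (Limits.cokernel.π a)).1 ((e₀ M).injective h2)
    · have hz : a ≫ (e₀ M).symm (π ≫ s) = 0 := (e₁ M).injective (by
        rw [key, AddEquiv.apply_symm_apply, ← Category.assoc, w, Limits.zero_comp, map_zero])
      refine ⟨Limits.cokernel.desc a _ hz, (cancel_epi π).1 ?_⟩
      rw [hdesc, Limits.cokernel.π_desc, AddEquiv.apply_symm_apply]
  refine ⟨Limits.cokernel a, ?_, ⟨(NatIso.ofComponents (fun M =>
    (AddEquiv.mk' (Equiv.ofBijective (E₂ M) (hbij M)) (hadd M)).toAddCommGrpIso) fun {M M'} g => ?_).symm⟩⟩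
  · haveI := hQ₀
    exact Module.Finite.of_surjective (Limits.cokernel.π a).hom ((ModuleCat.epi_iff_surjective _).1 inferInstance)
  · refine AddCommGrpCat.hom_ext (AddMonoidHom.ext fun h => ?_)
    show E₂ M' (h ≫ g) = E₂ M h ≫ T.map g
    rw [← cancel_epi π, ← Category.assoc π, hdesc, hdesc, ← Category.assoc, he₀]

end Groth.Agent.S4500
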