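import Groth.Statements.S4510
import Groth.Agent.EtH0.Residue
import Groth.Agent.QCoh.FlatExchange
import Groth.Agent.CharPTop.Surj
import Groth.Agent.DerBC7.SplitPush

set_option backward.isDefEq.respectTransparency false
set_option backward.isDefEq.respectTransparency.types false
set_option linter.style.haveILetI false
set_option maxHeartbeats 1000000

set_option autoImplicit false
universe u
attribute [local instance] HasDerivedCategory.standard
open Coherent

namespace Groth.Agent.S4510

open AlgebraicGeometry CategoryTheory CategoryTheory.Limits in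
/-- Over a local base (so that the point y is the closed point and cohomological flatness at y is
exactness of T^A_0). Let A be a Noetherian local ring with maximal ideal m, X a proper and flat
A-scheme with structure morphism f, y the closed point of Spec A (the point whose prime ideal is m),
and suppose that the ring of global functions Γ(X_y, O_{X_y}) of the closed fibre is an étale
k(y)-algebra (a finite product of finite separable extensions of k(y)). Then O_X is cohomologically
flat over Spec A in degree 0: the functor M ↦ H^0(X, f^*(M~) ⊗ O_X) of the A-module M takes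
injections to injections and surjections to surjections. -/
theorem result (A : Type u) [CommRing A]
    [IsNoetherianRing A] [IsLocalRing A] (X : Scheme.{u}) [X.Over (Spec (CommRingCat.of A))]
    [IsProper (X ↘ Spec (CommRingCat.of A))] [Flat (X ↘ Spec (CommRingCat.of A))]
    (y : ↥(Spec (CommRingCat.of A))) (hy : y.asIdeal = IsLocalRing.maximalIdeal A)
    (het : Algebra.Etale ((Spec (CommRingCat.of A)).residueField y)
      Γ((X ↘ Spec (CommRingCat.of A)).fiber y, ⊤)) :
    (CohIII.tensorAFunctor A (Coh.structureModule X) ⋙ CohIII.HAb X 0).PreservesMonomorphisms ∧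
      (CohIII.tensorAFunctor A (Coh.structureModule X) ⋙ CohIII.HAb X 0).PreservesEpimorphisms := by
  haveI : CompactSpace X := QuasiCompact.compactSpace_of_compactSpace (X ↘ Spec (CommRingCat.of A))
  haveI : X.IsSeparated := ⟨by
    rw [← Limits.terminal.comp_from (X ↘ Spec (CommRingCat.of A))]
    infer_instance⟩
  haveI : IsLocallyNoetherian X := LocallyOfFiniteType.isLocallyNoetherian (X ↘ Spec (CommRingCat.of A))
  have hfl : FlatMod.IsFlatOver (X ↘ Spec (CommRingCat.of A)) (Coh.structureModule X) :=
    Groth.Agent.DerBC7.isFlatOver_structureModule (X ↘ Spec (CommRingCat.of A))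
  obtain ⟨P, hfin, hfree, -, he, hvan⟩ := Groth.Agent.QCoh.exists_chain_model (Coh.structureModule X)
    (Groth.Agent.CharPTop.isCoh_structureModule X) hfl
  obtain ⟨e⟩ := he 0
  have hP : ∀ i, Module.Flat A (P.X i) := fun i => @Module.Flat.of_free _ _ _ _ _ (hfree i)
  let q : ℤ := -((0 : ℕ) : ℤ)
  have hfl' := Groth.Agent.EtH0.flat_coker_atPrime P hfin hfree e y (Groth.Agent.EtH0.evalSpec y)
    (Groth.Agent.EtH0.ker_evalSpec y) (Groth.Agent.EtH0.exists_frac y)
    (X₀ := (X ↘ Spec (CommRingCat.of A)).fiber y)
    (π₀ := (X ↘ Spec (CommRingCat.of A)).fiberToSpecResidueField y)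
    (g₀ := (X ↘ Spec (CommRingCat.of A)).fiberι y)
    (by rw [Groth.Agent.EtH0.specMap_evalSpec]; exact IsPullback.of_hasPullback _ _)
    (Groth.Agent.EtH0.exists_root_fibre _ y het)
  let C := Groth.Agent.FlatCxLib.Coker P q (q - 1)
  haveI : Module.Flat A C := by
    let R := Localization.AtPrime y.asIdeal
    have hb : Function.Bijective (algebraMap A R) :=
      (IsLocalization.atUnits A y.asIdeal.primeCompl (S := R) (fun a ha => by
        by_contra hu
        exact ha (hy ▸ (IsLocalRing.mem_maximalIdeal a).2 hu))).bijective
    haveI : Module.Flat A R :=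
      Module.Flat.of_linearEquiv (LinearEquiv.ofBijective (Algebra.linearMap A R) hb).symm
    haveI : Module.Flat A (TensorProduct A R C) := Module.Flat.trans A R _
    exact Module.Flat.of_linearEquiv
      ((TensorProduct.congr (LinearEquiv.ofBijective (Algebra.linearMap A R) hb).symm
        (LinearEquiv.refl A C)).trans (TensorProduct.lid A C)).symm
  have hepi : (CohIII.TFun P q).PreservesEpimorphisms :=
    (Groth.Agent.FlatCxLib.preservesEpi_iff hP (show q - 1 + 1 = q by lia)).2 ‹_›
  have hmono : (CohIII.TFun P q).PreservesMonomorphisms :=
    (Groth.Agent.FlatCxLib.preservesEpi_iff_preservesMono hP (show q + 1 = q + 1 from rfl)).1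
      (Groth.Agent.QCoh.isExactT_of_isZero fun M => hvan (q + 1) (by omega) M).2
  constructor
  · haveI := hmono
    exact Functor.preservesMonomorphisms.of_iso e
  · haveI := hepi
    exact Functor.preservesEpimorphisms.of_iso e

end Groth.Agent.S4510
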