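import Groth.Statements.S4533
import Groth.Agent.H1Fields.PSEval

set_option autoImplicit false
universe u
open EGA41

namespace Groth.Agent.S4533

/-- Let A carry the 𝔞-adic topology and let B = A[[T_1, …, T_n]] carry the product topology, i.e. the
adic topology of the ideal 𝔞B + (T_1, …, T_n) (the kernel of the constant-coefficient map added to
the extension of 𝔞). Then B is a formally smooth A-algebra for these topologies. (The published
statement allows any linearly topologized base ring and any set of indeterminates with the product
topology; this row takes an adic base and finitely many indeterminates, where the product topology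
is adic.) -/
theorem result (A : Type u) [CommRing A] (𝔞 : Ideal A) (n : ℕ) :
    EGA41.IsFormallySmoothAdic A 𝔞 (MvPowerSeries (Fin n) A)
      (𝔞.map (MvPowerSeries.C : A →+* MvPowerSeries (Fin n) A) ⊔
        RingHom.ker (MvPowerSeries.constantCoeff : MvPowerSeries (Fin n) A →+* A)) := by
  intro C _ _ J hJ hC u hu
  have hle : PSLib.vars n A ≤ 𝔞.map (MvPowerSeries.C : A →+* MvPowerSeries (Fin n) A) ⊔
      RingHom.ker (MvPowerSeries.constantCoeff : MvPowerSeries (Fin n) A →+* A) :=
    H1Fields.ker_constantCoeff_eq_vars.ge.trans le_sup_right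
  have hnil := H1Fields.isNilpotent_of_kill hle u hu
  choose c hc using fun i => Ideal.Quotient.mk_surjective (u (MvPowerSeries.X i))
  have hcn : ∀ i, IsNilpotent (c i) := fun i => by
    obtain ⟨a, ha⟩ := hnil i
    obtain ⟨b, hb⟩ := hJ
    refine ⟨a * b, ?_⟩
    have h1 : c i ^ a ∈ J := by
      rw [← Ideal.Quotient.eq_zero_iff_mem, map_pow, hc, ha]
    have h2 := Ideal.pow_mem_pow h1 b
    rw [hb, ← pow_mul] at h2
    exact h2
  obtain ⟨v, hv⟩ := H1Fields.exists_hom_nilpotent (A := A) hcn
  exact ⟨v, H1Fields.hom_ext_nilpotent _ u
    (fun i => by simpa [hv, hc] using hnil i) fun i => by simp [hv, hc]⟩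

end Groth.Agent.S4533
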