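import Groth.Statements.S4548
import Groth.Agent.H1PS.Coeff
import Groth.Agent.H1PS.Family

set_option autoImplicit false
universe u
open EGA41

namespace Groth.Agent.S4548

/-- Let k be a field of characteristic p > 0, A = k[[T_1, …, T_r]] and K its field of fractions. Then
there is a decreasing filtered family (A_α) of Noetherian subrings of A (rendered: a nonempty
family, directed downwards for inclusion) such that A is a free A_α-module of finite type for every
α and, K_α denoting the subfield of K generated by A_α (its field of fractions inside K), ⋂_α K_α =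
K^p. -/
theorem result (p : ℕ) [Fact p.Prime] (k : Type u) [Field k] [CharP k p]
    (r : ℕ) :
    ∃ (ι : Type u) (_ : Nonempty ι) (S : ι → Subring (MvPowerSeries (Fin r) k)),
      (∀ a b : ι, ∃ c, S c ≤ S a ⊓ S b) ∧
      (∀ i, IsNoetherianRing (S i) ∧ Module.Free (S i) (MvPowerSeries (Fin r) k) ∧ Module.Finite (S i) (MvPowerSeries (Fin r) k)) ∧
      ((⨅ i, Subfield.closure (algebraMap (MvPowerSeries (Fin r) k) (FractionRing (MvPowerSeries (Fin r) k)) '' (S i)) :
          Set (FractionRing (MvPowerSeries (Fin r) k)))) =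
        Set.range fun x : FractionRing (MvPowerSeries (Fin r) k) => x ^ p := by
  classical
  haveI : ExpChar k p := ExpChar.prime Fact.out
  have hp : p ≠ 0 := (Fact.out : p.Prime).ne_zero
  have hppos : 0 < p := Nat.pos_of_ne_zero hp
  obtain ⟨ι, hι, F, hdir, hfin, hpow, hint⟩ := H1PS.exists_family p k
  have hE := H1PS.isExpSet_dvd (σ := Fin r) p
  let E : Set (Fin r →₀ ℕ) := {m | ∀ s, p ∣ m s}
  have hmulE : ∀ n : Fin r →₀ ℕ, p • n ∈ E := fun n s => ⟨n s, by simp⟩
  have hdivE : ∀ m ∈ E, ∃ n : Fin r →₀ ℕ, p • n = m := fun m hm =>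
    ⟨Finsupp.equivFunOnFinite.symm fun s => m s / p, Finsupp.ext fun s => by
      simp [Nat.mul_div_cancel' (hm s)]⟩
  have hpp : ∀ (g : MvPowerSeries (Fin r) k) i, g ^ p ∈ H1PS.ser (F i) E hE := fun g i m => by
    have h := H1PS.pow_mem_ser 1 p (F i) (fun c => by rw [pow_one]; exact hpow i c) g m
    simp only [pow_one] at h
    exact h
  refine ⟨ι, hι, fun i => H1PS.ser (F i) E hE, fun a b => ?_, fun i => ?_, ?_⟩
  · obtain ⟨c, hc⟩ := hdir a b
    exact ⟨c, le_inf (fun f hf m => ⟨(hc (hf m).1).1, (hf m).2⟩) (fun f hf m => ⟨(hc (hf m).1).2, (hf m).2⟩)⟩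
  · haveI := hfin i
    refine ⟨?_, ?_⟩
    · let φ : MvPowerSeries (Fin r) (F i) →+* H1PS.ser (F i) E hE :=
        RingHom.codRestrict ((MvPowerSeries.expand p hp).toRingHom.comp (MvPowerSeries.map (F i).subtype))
          _ fun g m => by
          by_cases hm : m ∈ E
          · obtain ⟨n, rfl⟩ := hdivE m hm
            refine ⟨?_, fun h => (h hm).elim⟩
            show MvPowerSeries.coeff (p • n) (MvPowerSeries.expand p hp (MvPowerSeries.map (F i).subtype g)) ∈ F i
            rw [MvPowerSeries.coeff_expand_smul, MvPowerSeries.coeff_map]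
            exact SetLike.coe_mem _
          · obtain ⟨s, hs⟩ := not_forall.mp hm
            have h0 : MvPowerSeries.coeff m (MvPowerSeries.expand p hp (MvPowerSeries.map (F i).subtype g)) = 0 :=
              MvPowerSeries.coeff_expand_of_not_dvd _ _ _ hs
            exact ⟨h0 ▸ (F i).zero_mem, fun _ => h0⟩
      refine isNoetherianRing_of_surjective _ _ φ fun f => ?_
      refine ⟨fun n => ⟨MvPowerSeries.coeff (p • n) (f : MvPowerSeries (Fin r) k), (f.2 _).1⟩, Subtype.ext ?_⟩
      ext m
      by_cases hm : m ∈ E
      · obtain ⟨n, rfl⟩ := hdivE m hm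
        show MvPowerSeries.coeff (p • n) (MvPowerSeries.expand p hp _) = _
        rw [MvPowerSeries.coeff_expand_smul]
        rfl
      · obtain ⟨s, hs⟩ := not_forall.mp hm
        show MvPowerSeries.coeff m (MvPowerSeries.expand p hp _) = _
        rw [MvPowerSeries.coeff_expand_of_not_dvd _ _ _ hs]
        exact ((f.2 m).2 hm).symm
    · let b := Module.finBasis (F i) k
      let α := (Fin r → Fin p) × Fin (Module.finrank (F i) k)
      let e : (Fin r → Fin p) → (Fin r →₀ ℕ) := fun a => Finsupp.equivFunOnFinite.symm fun s => (a s : ℕ)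
      let v : α → MvPowerSeries (Fin r) k := fun x => MvPowerSeries.monomial (e x.1) (b x.2)
      let a₀ : (Fin r →₀ ℕ) → (Fin r → Fin p) := fun m s => ⟨m s % p, Nat.mod_lt _ hppos⟩
      have hle : ∀ m, e (a₀ m) ≤ m := fun m s => Nat.mod_le (m s) p
      have hsub : ∀ m, m - e (a₀ m) ∈ E := fun m s => by
        show p ∣ m s - m s % p
        exact Nat.dvd_sub_mod _
      have hea : ∀ n ∈ E, ∀ a, a₀ (n + e a) = a := fun n hn a => funext fun s => Fin.ext (by
        obtain ⟨c, hc⟩ := hn s
        show (n s + (a s : ℕ)) % p = (a s : ℕ)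
        rw [hc, Nat.mul_add_mod, Nat.mod_eq_of_lt (a s).2])
      have hkey : ∀ (g : α → H1PS.ser (F i) E hE) m, MvPowerSeries.coeff m (∑ x, g x • v x) =
          ∑ j, MvPowerSeries.coeff (m - e (a₀ m)) (g (a₀ m, j) : MvPowerSeries (Fin r) k) * b j := by
        intro g m
        rw [map_sum, Fintype.sum_prod_type, Finset.sum_eq_single (a₀ m)]
        · refine Finset.sum_congr rfl fun j _ => ?_
          show MvPowerSeries.coeff m ((g (a₀ m, j) : MvPowerSeries (Fin r) k) * _) = _
          rw [MvPowerSeries.coeff_mul_monomial, if_pos (hle m)]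
        · intro a _ ha
          refine Finset.sum_eq_zero fun j _ => ?_
          show MvPowerSeries.coeff m ((g (a, j) : MvPowerSeries (Fin r) k) * _) = _
          rw [MvPowerSeries.coeff_mul_monomial]
          split_ifs with h
          · have hm : m - e a ∉ E := fun hm => ha (by
              rw [← hea _ hm a, tsub_add_cancel_of_le h])
            rw [((g (a, j)).2 _).2 hm, zero_mul]
          · rfl
        · exact fun h => absurd (Finset.mem_univ _) h
      have hli : LinearIndependent (H1PS.ser (F i) E hE) v := by
        refine Fintype.linearIndependent_iff.mpr fun g hg x => Subtype.ext ?_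
        obtain ⟨a, j⟩ := x
        ext n
        by_cases hn : n ∈ E
        · have h := hkey g (n + e a)
          rw [hg, map_zero, hea n hn a, add_tsub_cancel_right] at h
          have h2 := Fintype.linearIndependent_iff.mp b.linearIndependent
            (fun j' => ⟨_, ((g (a, j')).2 n).1⟩) h.symm j
          exact congrArg Subtype.val h2
        · exact (((g (a, j)).2 n).2 hn).trans (map_zero _).symm
      have hspan : ⊤ ≤ Submodule.span (H1PS.ser (F i) E hE) (Set.range v) := fun f _ => by
        let g : α → H1PS.ser (F i) E hE := fun x =>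
          ⟨fun n => if n ∈ E then (b.repr (MvPowerSeries.coeff (n + e x.1) f) x.2 : k) else 0, fun n => by
            show (if n ∈ E then (b.repr (MvPowerSeries.coeff (n + e x.1) f) x.2 : k) else 0) ∈ F i ∧ _
            split_ifs with h
            · exact ⟨SetLike.coe_mem _, fun hn => (hn h).elim⟩
            · exact ⟨(F i).zero_mem, fun _ => if_neg h⟩⟩
        have hf : f = ∑ x, g x • v x := by
          ext m
          rw [hkey g m]
          conv_lhs => rw [← b.sum_repr (MvPowerSeries.coeff m f)]
          refine Finset.sum_congr rfl fun j _ => ?_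
          show _ = (if m - e (a₀ m) ∈ E then
            (b.repr (MvPowerSeries.coeff (m - e (a₀ m) + e (a₀ m)) f) j : k) else 0) * b j
          rw [if_pos (hsub m), tsub_add_cancel_of_le (hle m)]
          rfl
        rw [hf]
        exact Submodule.sum_mem _ fun x _ => Submodule.smul_mem _ _ (Submodule.subset_span ⟨x, rfl⟩)
      let B := Module.Basis.mk hli hspan
      exact ⟨Module.Free.of_basis B, Module.Finite.of_basis B⟩
  · ext x
    refine ⟨fun hx => ?_, ?_⟩
    · obtain ⟨h, g, hh, rfl⟩ := H1PS.exists_rep F E hE p hp hpp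
        (fun i => by
          have := Set.mem_iInter.mp hx i
          exact this)
      have hroot : ∀ n, ∃ c : k, c ^ p = MvPowerSeries.coeff (p • n) h := fun n => hint _ fun i => (hh i _).1
      choose c hc using hroot
      have hh' : h = (show MvPowerSeries (Fin r) k from c) ^ p := by
        rw [← MvPowerSeries.map_frobenius_expand p hp]
        ext m
        rw [MvPowerSeries.coeff_map]
        by_cases hm : m ∈ E
        · obtain ⟨n, rfl⟩ := hdivE m hm
          rw [MvPowerSeries.coeff_expand_smul]
          exact (hc n).symm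
        · obtain ⟨s, hs⟩ := not_forall.mp hm
          rw [MvPowerSeries.coeff_expand_of_not_dvd _ _ _ hs, map_zero]
          exact (hh hι.some m).2 hm
      refine ⟨algebraMap _ _ (show MvPowerSeries (Fin r) k from c) / algebraMap _ _ g, ?_⟩
      show _ ^ p = _
      rw [div_pow, hh', map_pow, map_pow]
    · rintro ⟨y, rfl⟩
      refine Set.mem_iInter.mpr fun i => ?_
      obtain ⟨f, g, -, rfl⟩ := IsFractionRing.div_surjective (MvPowerSeries (Fin r) k) y
      show (_ / _) ^ p ∈ Subfield.closure _
      rw [div_pow, ← map_pow, ← map_pow]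
      exact div_mem (Subfield.subset_closure ⟨_, hpp f i, rfl⟩) (Subfield.subset_closure ⟨_, hpp g i, rfl⟩)

end Groth.Agent.S4548
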