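import Groth.Statements.S4550
import Groth.Agent.H1PS.Coeff

set_option autoImplicit false
universe u
open EGA41

namespace Groth.Agent.S4550

/-- Let k be a field, (k_α) a decreasing filtered family of subfields of k with intersection k₀, and
suppose there is a power q of the characteristic exponent of k with k^q ⊆ k₀. Then, inside k((T_1,
…, T_r)), one has ⋂_α k_α((T_1, …, T_r)) = k₀((T_1, …, T_r)); here F((T)) is the subfield of the
fraction field of k[[T]] generated by the power series with all coefficients in F. -/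
theorem result {k : Type u} [Field k] {ι : Type u} [Nonempty ι] (F : ι → Subfield k)
    (hdir : ∀ a b : ι, ∃ c, F c ≤ F a ⊓ F b) (e : ℕ) (hq : ∀ x : k, x ^ ringExpChar k ^ e ∈ ⨅ i, F i) (r : ℕ) :
    (⨅ i, Subfield.closure (algebraMap (MvPowerSeries (Fin r) k) (FractionRing (MvPowerSeries (Fin r) k)) ''
        {f | ∀ n, MvPowerSeries.coeff n f ∈ F i})) =
      Subfield.closure (algebraMap (MvPowerSeries (Fin r) k) (FractionRing (MvPowerSeries (Fin r) k)) ''
        {f | ∀ n, MvPowerSeries.coeff n f ∈ ⨅ i, F i}) := by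
  classical
  haveI : ExpChar k (ringExpChar k) := inferInstance
  have hS : ∀ G : Subfield k, {f : MvPowerSeries (Fin r) k | ∀ n, MvPowerSeries.coeff n f ∈ G} =
      ((H1PS.ser G Set.univ H1PS.isExpSet_univ : Subring (MvPowerSeries (Fin r) k)) : Set (MvPowerSeries (Fin r) k)) := fun G =>
    Set.ext fun f => ⟨fun h m => ⟨h m, fun hn => (hn trivial).elim⟩, fun h m => (h m).1⟩
  have hpow : ∀ (g : MvPowerSeries (Fin r) k) (G : Subfield k), (∀ c : k, c ^ ringExpChar k ^ e ∈ G) →
      g ^ ringExpChar k ^ e ∈ H1PS.ser G Set.univ H1PS.isExpSet_univ := fun g G hG m =>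
    ⟨(H1PS.pow_mem_ser e (ringExpChar k) G hG g m).1, fun hn => (hn trivial).elim⟩
  refine le_antisymm (fun x hx => ?_) (le_iInf fun i => ?_)
  · rw [Subfield.mem_iInf] at hx
    obtain ⟨h, g, hh, rfl⟩ := H1PS.exists_rep F Set.univ H1PS.isExpSet_univ (ringExpChar k ^ e)
      (pow_ne_zero _ (expChar_ne_zero k _)) (fun g i => hpow g _ fun c => Subfield.mem_iInf.mp (hq c) i)
      (fun i => hS (F i) ▸ hx i)
    refine div_mem (Subfield.subset_closure ⟨h, fun m => Subfield.mem_iInf.mpr fun i => (hh i m).1, rfl⟩)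
      (Subfield.subset_closure ⟨_, fun m => (hpow g _ hq m).1, rfl⟩)
  · exact Subfield.closure_mono (Set.image_mono fun f hf n => Subfield.mem_iInf.mp (hf n) i)

end Groth.Agent.S4550
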