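import Groth.Statements.S4561
import Mathlib

set_option autoImplicit false
universe u
open EGA41

namespace Groth.Agent.S4561

/-- Let k₀ be a field of characteristic p > 0 with [k₀ : k₀^p] < ∞ and K₀ an extension of k₀. Inside
K₀((T_1, …, T_r)) one has (k₀(K₀^p))((T_1, …, T_r)) = k₀(K₀^p((T_1, …, T_r))); here, for a subfield
F of K₀, F((T)) denotes the subfield of the fraction field of K₀[[T]] generated by the power series
with all coefficients in F. -/
theorem result (p : ℕ) [Fact p.Prime] {k₀ K₀ : Type u} [Field k₀] [Field K₀] [Algebra k₀ K₀] [CharP k₀ p]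
    (hfin : Module.Finite (Subfield.closure (Set.range fun x : k₀ => x ^ p)) k₀) (r : ℕ) :
    Subfield.closure (algebraMap (MvPowerSeries (Fin r) K₀) (FractionRing (MvPowerSeries (Fin r) K₀)) ''
        {f | ∀ n, MvPowerSeries.coeff n f ∈
          Subfield.closure (Set.range (algebraMap k₀ K₀) ∪ Set.range fun y : K₀ => y ^ p)}) =
      Subfield.closure
        (Set.range (algebraMap k₀ (FractionRing (MvPowerSeries (Fin r) K₀))) ∪
          (Subfield.closure (algebraMap (MvPowerSeries (Fin r) K₀) (FractionRing (MvPowerSeries (Fin r) K₀)) ''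
            {f | ∀ n, MvPowerSeries.coeff n f ∈ Subfield.closure (Set.range fun y : K₀ => y ^ p)}) :
            Set (FractionRing (MvPowerSeries (Fin r) K₀)))) := by
  classical
  haveI : CharP K₀ p := charP_of_injective_algebraMap (algebraMap k₀ K₀).injective p
  let A := MvPowerSeries (Fin r) K₀
  let E : Subfield K₀ := Subfield.closure (Set.range fun y : K₀ => y ^ p)
  let F : Subfield K₀ := Subfield.closure (Set.range (algebraMap k₀ K₀) ∪ Set.range fun y : K₀ => y ^ p)
  have hEF : E ≤ F := Subfield.closure_mono Set.subset_union_right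
  apply le_antisymm
  · obtain ⟨s, hs⟩ := hfin.fg_top
    let V : Submodule E K₀ := Submodule.span E (algebraMap k₀ K₀ '' (s : Set k₀))
    have hk : ∀ c : k₀, algebraMap k₀ K₀ c ∈ V := by
      intro c
      have hc : c ∈ Submodule.span (Subfield.closure (Set.range fun x : k₀ => x ^ p)) (s : Set k₀) :=
        hs ▸ Submodule.mem_top
      induction hc using Submodule.span_induction with
      | mem z hz => exact Submodule.subset_span ⟨z, hz, rfl⟩
      | zero => rw [map_zero]; exact zero_mem _
      | add z w _ _ hz hw => rw [map_add]; exact add_mem hz hw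
      | smul a z _ hz =>
        have ha : algebraMap k₀ K₀ (a : k₀) ∈ E := by
          have h1 : Subfield.closure (Set.range fun x : k₀ => x ^ p) ≤ E.comap (algebraMap k₀ K₀) :=
            Subfield.closure_le.2 (by
              rintro _ ⟨x, rfl⟩
              show algebraMap k₀ K₀ (x ^ p) ∈ E
              rw [map_pow]
              exact Subfield.subset_closure ⟨_, rfl⟩)
          exact h1 a.2
        rw [Subfield.smul_def, smul_eq_mul, map_mul]
        exact V.smul_mem (⟨_, ha⟩ : E) hz
    have hV : ∀ x ∈ F, x ∈ V := by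
      intro x hx
      let S : IntermediateField E K₀ := IntermediateField.adjoin E (Set.range (algebraMap k₀ K₀))
      have hxS : x ∈ S.toSubfield := by
        refine (Subfield.closure_le (t := S.toSubfield)).2 ?_ hx
        rintro z (hz | hz)
        · exact IntermediateField.subset_adjoin _ _ hz
        · exact S.algebraMap_mem (⟨z, Subfield.subset_closure hz⟩ : E)
      have halg : ∀ z ∈ Set.range (algebraMap k₀ K₀), IsAlgebraic E z := by
        rintro _ ⟨c, rfl⟩
        refine IsAlgebraic.of_pow (n := p) (Fact.out : p.Prime).pos ?_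
        exact isAlgebraic_algebraMap (⟨_, Subfield.subset_closure ⟨algebraMap k₀ K₀ c, rfl⟩⟩ : E)
      have h2 : x ∈ Algebra.adjoin E (Set.range (algebraMap k₀ K₀)) := by
        rw [← IntermediateField.adjoin_toSubalgebra_of_isAlgebraic halg]
        exact hxS
      rw [← Subalgebra.mem_toSubmodule, Algebra.adjoin_eq_span] at h2
      refine Submodule.span_le.2 ?_ h2
      intro z hz
      obtain ⟨c, rfl⟩ : z ∈ MonoidHom.mrange (algebraMap k₀ K₀ : k₀ →* K₀) := by
        refine Submonoid.closure_le.2 ?_ hz
        rintro _ ⟨c, rfl⟩; exact ⟨c, rfl⟩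
      exact hk c
    rw [Subfield.closure_le]
    rintro _ ⟨f, hf, rfl⟩
    have hex : ∀ n, ∃ w : {z // z ∈ s} → E, ∑ j, (w j : K₀) * algebraMap k₀ K₀ j = MvPowerSeries.coeff n f := by
      intro n
      have hmem : MvPowerSeries.coeff n f ∈ Submodule.span E (Set.range fun j : {z // z ∈ s} => algebraMap k₀ K₀ j) := by
        convert hV _ (hf n) using 2
        ext z
        exact ⟨fun ⟨j, hj⟩ => ⟨j.1, j.2, hj⟩, fun ⟨j, hj, hz⟩ => ⟨⟨j, hj⟩, hz⟩⟩
      obtain ⟨w, hw⟩ := (Submodule.mem_span_range_iff_exists_fun E).1 hmem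
      exact ⟨w, hw⟩
    choose w hw using hex
    let g : {z // z ∈ s} → A := fun j n => (w n j : K₀)
    have hfg : f = ∑ j, MvPowerSeries.C (algebraMap k₀ K₀ j.1) * g j := by
      ext n
      rw [map_sum, ← hw n]
      refine Finset.sum_congr rfl fun j _ => ?_
      rw [MvPowerSeries.coeff_C_mul, mul_comm]
      rfl
    rw [hfg, map_sum]
    refine sum_mem fun j _ => ?_
    rw [map_mul]
    refine mul_mem (Subfield.subset_closure (Or.inl ⟨j.1, ?_⟩)) (Subfield.subset_closure (Or.inr
      (Subfield.subset_closure ⟨g j, fun n => (w n j).2, rfl⟩)))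
    rw [IsScalarTower.algebraMap_apply k₀ A (FractionRing A), MvPowerSeries.algebraMap_apply]
  · rw [Subfield.closure_le]
    rintro z (⟨c, rfl⟩ | hz)
    · refine Subfield.subset_closure ⟨MvPowerSeries.C (algebraMap k₀ K₀ c), fun n => ?_, ?_⟩
      · rw [MvPowerSeries.coeff_C]
        split
        · exact Subfield.subset_closure (Or.inl ⟨c, rfl⟩)
        · exact zero_mem _
      · rw [IsScalarTower.algebraMap_apply k₀ A (FractionRing A), MvPowerSeries.algebraMap_apply]
    · refine (Subfield.closure_mono (Set.image_mono fun g (hg : ∀ n, MvPowerSeries.coeff n g ∈ E) => (fun n => hEF (hg n) : ∀ n, MvPowerSeries.coeff n g ∈ F))) hz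

end Groth.Agent.S4561
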