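import Groth.Statements.S4568
import Groth.Agent.S12124

set_option autoImplicit false
universe u
open CAlg

namespace Groth.Agent.S4568

/-- Let A be a Noetherian domain with fraction field K and A' its integral closure in K. Assume that for
every sub-A-algebra C of A' which is finite over A, every height-one prime of C lies over a
height-one prime of A. Then A' is the intersection in K of the localizations A'_p over the
height-one primes p of A. -/
theorem result {A : Type u} [CommRing A] [IsDomain A] [IsNoetherianRing A]
    (h : ∀ C : Subalgebra A (FractionRing A), C ≤ integralClosure A (FractionRing A) → Module.Finite A C →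
      ∀ (q : Ideal C) [q.IsPrime], q.height = 1 → (q.comap (algebraMap A C)).height = 1) :
    (integralClosure A (FractionRing A) : Set (FractionRing A)) =
      ⋂ (p : PrimeSpectrum A) (_ : p.asIdeal.height = 1),
        {x : FractionRing A | ∃ s : A, s ∉ p.asIdeal ∧
          algebraMap A (FractionRing A) s * x ∈ integralClosure A (FractionRing A)} := by
  classical
  ext x
  simp only [Set.mem_iInter]
  refine ⟨fun hx p _ => ⟨1, fun h1 => p.isPrime.ne_top ((Ideal.eq_top_iff_one _).2 h1), by simpa using hx⟩, fun hx => ?_⟩
  let K := FractionRing A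
  let D : Ideal A :=
    { carrier := {a | IsIntegral A (algebraMap A K a * x)}
      add_mem' := fun {u v} hu hv => by
        show IsIntegral A (algebraMap A K (u + v) * x)
        rw [map_add, add_mul]; exact hu.add hv
      zero_mem' := by
        show IsIntegral A (algebraMap A K 0 * x)
        rw [map_zero, zero_mul]; exact isIntegral_zero
      smul_mem' := fun c u hu => by
        show IsIntegral A (algebraMap A K (c * u) * x)
        rw [map_mul, mul_assoc]; exact isIntegral_algebraMap.mul hu }
  suffices hD : D = ⊤ by
    have h1 : IsIntegral A (algebraMap A K 1 * x) := (Ideal.eq_top_iff_one D).1 hD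
    rwa [map_one, one_mul] at h1
  by_contra hne
  obtain ⟨m, hm, hDm⟩ := Ideal.exists_le_maximal D hne
  let L := Localization.AtPrime m
  have hmle : m.primeCompl ≤ nonZeroDivisors A := m.primeCompl_le_nonZeroDivisors
  letI : Algebra L K := (IsLocalization.lift (M := m.primeCompl) (g := algebraMap A K) fun y =>
      IsUnit.mk0 _ fun h0 => nonZeroDivisors.ne_zero (hmle y.2)
        (IsFractionRing.injective A K (h0.trans (map_zero _).symm))).toAlgebra
  haveI : IsScalarTower A L K := IsScalarTower.of_algebraMap_eq' (IsLocalization.lift_comp _).symm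
  haveI : IsDomain L := IsLocalization.isDomain_localization hmle
  haveI : IsNoetherianRing L := IsLocalization.isNoetherianRing m.primeCompl L inferInstance
  haveI : IsFractionRing L K := IsFractionRing.isFractionRing_of_isDomain_of_isLocalization m.primeCompl L K
  suffices hL : IsIntegral L x by
    obtain ⟨s, hs⟩ := IsIntegral.exists_multiple_integral_of_isLocalization m.primeCompl x hL
    refine s.2 (hDm ?_)
    show IsIntegral A (algebraMap A K (s : A) * x)
    rwa [← Algebra.smul_def]
  obtain ⟨C, hfin, hle, hsep⟩ := UnibConn.exists_separating L K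
  haveI := hfin
  refine S12124.partB C hle hsep x fun p _ hp => ?_
  obtain ⟨G, hG⟩ := (Subalgebra.fg_iff_finiteType C).2 inferInstance
  have hmul : ∀ y : G, ∃ s : m.primeCompl, IsIntegral A (algebraMap A K (s : A) * (y : K)) := fun y => by
    obtain ⟨s, hs⟩ := IsIntegral.exists_multiple_integral_of_isLocalization m.primeCompl (y : K)
      (hle (hG ▸ Algebra.subset_adjoin y.2))
    exact ⟨s, by rwa [← Algebra.smul_def]⟩
  choose s hs using hmul
  let G' : Finset K := G.attach.image fun y => algebraMap A K (s y : A) * (y : K)
  let C0 := Algebra.adjoin A (G' : Set K)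
  have hC0 : C0 ≤ integralClosure A K := Algebra.adjoin_le fun y hy => by
    obtain ⟨z, -, rfl⟩ := Finset.mem_image.1 (Finset.mem_coe.1 hy); exact hs z
  have hsub : C0 ≤ C.restrictScalars A := Algebra.adjoin_le fun y hy => by
    obtain ⟨z, -, rfl⟩ := Finset.mem_image.1 (Finset.mem_coe.1 hy)
    show _ ∈ C
    rw [IsScalarTower.algebraMap_apply A L K]
    exact C.mul_mem (C.algebraMap_mem _) (hG ▸ Algebra.subset_adjoin z.2)
  have hfin0 : Module.Finite A C0 := Module.Finite.of_fg (fg_adjoin_of_finite G'.finite_toSet fun y hy => hC0 (Algebra.subset_adjoin hy))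
  have hden : ∀ c ∈ C, ∃ t : m.primeCompl, algebraMap A K (t : A) * c ∈ C0 := by
    intro c hc
    rw [← hG] at hc
    induction hc using Algebra.adjoin_induction with
    | mem y hy => exact ⟨s ⟨y, hy⟩, Algebra.subset_adjoin (Finset.mem_image.2 ⟨⟨y, hy⟩, Finset.mem_attach _ _, rfl⟩)⟩
    | algebraMap r =>
      obtain ⟨a, t, rfl⟩ := IsLocalization.exists_mk'_eq m.primeCompl r
      refine ⟨t, ?_⟩
      rw [IsScalarTower.algebraMap_apply A L K, ← map_mul, IsLocalization.mk'_spec', ← IsScalarTower.algebraMap_apply]
      exact C0.algebraMap_mem a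
    | add u v _ _ hu hv =>
      obtain ⟨t, ht⟩ := hu
      obtain ⟨t', ht'⟩ := hv
      refine ⟨t * t', ?_⟩
      have e : algebraMap A K ((t * t' : m.primeCompl) : A) * (u + v) =
          algebraMap A K (t' : A) * (algebraMap A K (t : A) * u) + algebraMap A K (t : A) * (algebraMap A K (t' : A) * v) := by
        rw [Submonoid.coe_mul, map_mul]; ring
      rw [e]
      exact C0.add_mem (C0.mul_mem (C0.algebraMap_mem _) ht) (C0.mul_mem (C0.algebraMap_mem _) ht')
    | mul u v _ _ hu hv =>
      obtain ⟨t, ht⟩ := hu
      obtain ⟨t', ht'⟩ := hv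
      refine ⟨t * t', ?_⟩
      have e : algebraMap A K ((t * t' : m.primeCompl) : A) * (u * v) =
          (algebraMap A K (t : A) * u) * (algebraMap A K (t' : A) * v) := by
        rw [Submonoid.coe_mul, map_mul]; ring
      rw [e]
      exact C0.mul_mem ht ht'
  letI : Algebra C0 C :=
    (RingHom.codRestrict (C0.val : C0 →+* K) C.toSubring fun c => hsub c.2).toAlgebra
  have hal : ∀ c : C0, ((algebraMap C0 C c : C) : K) = (c : K) := fun _ => rfl
  let M := Algebra.algebraMapSubmonoid C0 m.primeCompl
  haveI : IsLocalization M C := by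
    constructor; constructor
    · rintro ⟨_, t, ht, rfl⟩
      exact IsUnit.of_mul_eq_one (algebraMap L C (IsLocalization.mk' L 1 ⟨t, ht⟩)) (Subtype.ext (by
        show algebraMap A K t * algebraMap L K (IsLocalization.mk' L 1 ⟨t, ht⟩) = 1
        rw [IsScalarTower.algebraMap_apply A L K, ← map_mul]
        rw [show algebraMap A L t * IsLocalization.mk' L 1 ⟨t, ht⟩ = algebraMap A L 1 from
          IsLocalization.mk'_spec' L 1 ⟨t, ht⟩, map_one, map_one]))
    · rintro ⟨c, hc⟩
      obtain ⟨t, ht⟩ := hden c hc
      refine ⟨⟨⟨_, ht⟩, ⟨algebraMap A C0 t, t, t.2, rfl⟩⟩, Subtype.ext ?_⟩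
      show c * algebraMap A K (t : A) = _
      rw [hal, mul_comm]
    · intro u v huv
      refine ⟨1, ?_⟩
      rw [show u = v from Subtype.ext (by rw [← hal u, ← hal v, huv])]
  let q := p.comap (algebraMap C0 C)
  have hq : q.height = 1 := (IsLocalization.height_under M p).trans hp
  have hP := h C0 hC0 hfin0 q hq
  let P : PrimeSpectrum A := ⟨q.comap (algebraMap A C0), inferInstance⟩
  obtain ⟨t, ht, htx⟩ := hx P hP
  refine ⟨algebraMap C0 C (algebraMap A C0 t), ht, ?_⟩
  exact (show IsIntegral A (algebraMap A K t * x) from htx).tower_top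

end Groth.Agent.S4568
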