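import Groth.Statements.S4579
import Groth.Agent.S4578
import Groth.Agent.S4577
import Groth.Agent.PopescuLib.Unramified
import Mathlib

set_option autoImplicit false
universe u
open EGA41
open TensorProduct

namespace Groth.Agent.S4579

/-- Let k₀ be a field, k a separable (formally smooth) extension field of k₀ and C a k-algebra of finite
type. The following are equivalent: C is formally smooth over k₀ (discrete topologies); every C_p, p
prime, is formally smooth over k₀; every C_m, m maximal, is; C is geometrically regular over k₀.
(Geometric regularity is tested on finite extensions of k₀. The published statement quantifies the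
last condition over all extensions k' of k₀; for infinite ones the base change need not be
Noetherian, so it need not be regular in the Noetherian sense, and the printed proof passes through
the local rings as here.) -/
theorem result {k₀ k C : Type u} [Field k₀] [Field k] [Algebra k₀ k]
    [Algebra.FormallySmooth k₀ k] [CommRing C] [Algebra k C] [Algebra k₀ C] [IsScalarTower k₀ k C]
    [Algebra.FiniteType k C] :
    [Algebra.FormallySmooth k₀ C,
     ∀ (p : Ideal C) [p.IsPrime], Algebra.FormallySmooth k₀ (Localization.AtPrime p),
     ∀ (m : Ideal C) [m.IsMaximal], Algebra.FormallySmooth k₀ (Localization.AtPrime m),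
     CAlg.IsGeometricallyRegular k₀ C].TFAE := by
  haveI : IsNoetherianRing C := Algebra.FiniteType.isNoetherianRing k C
  tfae_have 1 → 2 := by
    intro h p _
    haveI : Algebra.FormallySmooth C (Localization.AtPrime p) :=
      Algebra.FormallySmooth.of_isLocalization p.primeCompl
    exact Algebra.FormallySmooth.comp k₀ C _
  tfae_have 2 → 3 := fun h m hm => h m
  tfae_have 3 → 1 := by
    intro h
    obtain ⟨n, π, hπ⟩ := Algebra.FiniteType.iff_quotient_mvPolynomial''.mp ‹Algebra.FiniteType k C›
    letI : Algebra (MvPolynomial (Fin n) k) C := π.toAlgebra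
    haveI : IsScalarTower k₀ (MvPolynomial (Fin n) k) C := IsScalarTower.of_algebraMap_eq fun r => by
      show _ = π (algebraMap k₀ (MvPolynomial (Fin n) k) r)
      rw [IsScalarTower.algebraMap_apply k₀ k (MvPolynomial (Fin n) k), AlgHom.commutes,
        ← IsScalarTower.algebraMap_apply]
    haveI : Algebra.FormallySmooth k₀ (MvPolynomial (Fin n) k) := Algebra.FormallySmooth.comp k₀ k _
    haveI : Module.Finite (MvPolynomial (Fin n) k) (RingHom.ker (algebraMap (MvPolynomial (Fin n) k) C)) :=
      Module.Finite.of_fg (IsNoetherian.noetherian (RingHom.ker (algebraMap (MvPolynomial (Fin n) k) C)))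
    haveI : Module.Finite (MvPolynomial (Fin n) k) (RingHom.ker (algebraMap (MvPolynomial (Fin n) k) C)).Cotangent :=
      Module.Finite.of_surjective _ (Ideal.toCotangent_surjective _)
    exact (Groth.Agent.S4577.result (A := k₀) (B := MvPolynomial (Fin n) k) (C := C) hπ).mpr h
  tfae_have 2 → 4 := by
    intro h k' _ _ _
    have hN : IsNoetherianRing (k' ⊗[k₀] C) :=
      Groth.Agent.FlatLoc6.isNoetherianRing_tensor_finite k₀ k' C
    haveI : IsNoetherianRing (C ⊗[k₀] k') :=
      isNoetherianRing_of_ringEquiv (k' ⊗[k₀] C) (Algebra.TensorProduct.comm k₀ k' C).toRingEquiv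
    suffices IsRegularRing (C ⊗[k₀] k') from
      IsRegularRing.of_ringEquiv (R := C ⊗[k₀] k') (Algebra.TensorProduct.comm k₀ C k').toRingEquiv
    rw [isRegularRing_iff]
    intro P _
    let p : Ideal C := P.comap (algebraMap C (C ⊗[k₀] k'))
    have hg : CAlg.IsGeometricallyRegular k₀ (Localization.AtPrime p) :=
      ((Groth.Agent.S4578.result (k₀ := k₀) (k := k) p).out 0 3).mp (h p)
    haveI h1 : IsRegularRing (k' ⊗[k₀] Localization.AtPrime p) := hg k' inferInstance
    haveI h2 : IsRegularRing (Localization.AtPrime p ⊗[k₀] k') :=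
      IsRegularRing.of_ringEquiv (R := k' ⊗[k₀] Localization.AtPrime p)
        (Algebra.TensorProduct.comm k₀ k' (Localization.AtPrime p)).toRingEquiv
    haveI h3 : IsRegularRing ((C ⊗[k₀] k') ⊗[C] Localization.AtPrime p) :=
      IsRegularRing.of_ringEquiv (R := Localization.AtPrime p ⊗[k₀] k')
        ((Algebra.TensorProduct.comm C (C ⊗[k₀] k') (Localization.AtPrime p)).toRingEquiv.trans
          (Algebra.TensorProduct.cancelBaseChange k₀ C C (Localization.AtPrime p) k').toRingEquiv).symm
    let M := Algebra.algebraMapSubmonoid (C ⊗[k₀] k') p.primeCompl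
    have hd : Disjoint (M : Set (C ⊗[k₀] k')) (P : Set (C ⊗[k₀] k')) := by
      rw [Set.disjoint_left]
      rintro _ ⟨s, hs, rfl⟩ hP
      exact hs hP
    haveI : (P.map (algebraMap (C ⊗[k₀] k') ((C ⊗[k₀] k') ⊗[C] Localization.AtPrime p))).IsPrime :=
      IsLocalization.isPrime_of_isPrime_disjoint M _ P ‹_› hd
    have h4 := (Groth.Agent.RegLoc6.regular_iff_localization M ((C ⊗[k₀] k') ⊗[C] Localization.AtPrime p)
      (P.map (algebraMap (C ⊗[k₀] k') ((C ⊗[k₀] k') ⊗[C] Localization.AtPrime p)))).mp
        (IsRegularRing.isRegularLocalRing_localization _)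
    have key : ∀ (I : Ideal (C ⊗[k₀] k')) [I.IsPrime], I = P →
        IsRegularLocalRing (Localization.AtPrime I) → IsRegularLocalRing (Localization.AtPrime P) := by
      intro I _ hI h
      subst hI
      exact h
    exact key _ (IsLocalization.under_map_of_isPrime_disjoint M _ ‹_› hd) h4
  tfae_have 4 → 2 := by
    intro h p _
    refine ((Groth.Agent.S4578.result (k₀ := k₀) (k := k) p).out 0 3).mpr ?_
    intro k' _ _ hk'
    haveI := h k' hk'
    exact Groth.Agent.PopescuLib.regular_tensor_localization k' p.primeCompl (Localization.AtPrime p)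
  tfae_finish

end Groth.Agent.S4579
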