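import Groth.Statements.S4581
import Groth.Agent.H1CplRel.Basic

set_option autoImplicit false
universe u
open EGA41

namespace Groth.Agent.S4581

/-- Let A₀ be a semi-local Noetherian ring, A a module-finite A₀-algebra and Â the completion of A for
the adic topology of its Jacobson radical. For the discrete topologies, Â is a formally smooth
A-algebra relative to A₀. -/
theorem result {A₀ A : Type u} [CommRing A₀]
    [IsNoetherianRing A₀] [Finite (MaximalSpectrum A₀)] [CommRing A] [Algebra A₀ A] [Module.Finite A₀ A] :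
    EGA41.IsFormallySmoothRel A₀ A (AdicCompletion (Ideal.jacobson (⊥ : Ideal A)) A) := by
  obtain ⟨Φ, hΦ⟩ := H1CplRel.exists_tensor_equiv (A := A) ((⊥ : Ideal A₀).jacobson)
  obtain ⟨hle, N, hN⟩ := H1CplRel.radical_bounds (R := A₀) (A := A)
  obtain ⟨Ψ, hΨ⟩ := H1CplRel.exists_cofinal_equiv hle hN
  let E := AlgEquiv.ofBijective (Ψ.comp Φ) (hΨ.comp hΦ)
  intro C _ _ _ _ J _ u₀ hu
  obtain ⟨w, hw⟩ := hu
  let v₀ : TensorProduct A₀ A (AdicCompletion ((⊥ : Ideal A₀).jacobson) A₀) →ₐ[A] C :=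
    Algebra.TensorProduct.lift (Algebra.ofId A C)
      ((w.comp (E.toAlgHom.restrictScalars A₀)).comp Algebra.TensorProduct.includeRight)
      fun _ _ => Commute.all _ _
  have hv : (Ideal.Quotient.mkₐ A J).comp v₀ = u₀.comp E.toAlgHom := by
    refine Algebra.TensorProduct.ext (Subsingleton.elim _ _) (AlgHom.ext fun r => ?_)
    show Ideal.Quotient.mk J (v₀ (1 ⊗ₜ r)) = u₀ (E (1 ⊗ₜ r))
    rw [Algebra.TensorProduct.lift_tmul, map_one, one_mul]
    exact AlgHom.congr_fun hw (E (1 ⊗ₜ r))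
  refine ⟨v₀.comp E.symm.toAlgHom, ?_⟩
  rw [← AlgHom.comp_assoc, hv, AlgHom.comp_assoc]
  ext x
  exact congrArg u₀ (E.apply_symm_apply x)

end Groth.Agent.S4581
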