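import Groth.Statements.S4589
import Mathlib
import Groth.Agent.H1JacAbs.Crit

set_option autoImplicit false
universe u
open IsLocalRing
open EGA41

namespace Groth.Agent.S4589

/-- Under the hypotheses of Nagata's Jacobian criterion — k a field of characteristic exponent p with k
finite over k^p, A a complete Noetherian local ring with residue field finite over a separable
extension K₀ of k, A a K₀-algebra formally smooth for its adic topology, q an ideal of A and B = A/q
— the set of primes n of B with B_n formally smooth over k for the adic topology of its maximal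
ideal is open in Spec B. -/
theorem result (p : ℕ) {k K₀ A : Type u} [Field k] [ExpChar k p]
    (hk : p = 1 ∨ Module.Finite (frobenius k p).fieldRange k)
    [Field K₀] [Algebra k K₀] [Algebra.IsGeometricallyReduced k K₀]
    [CommRing A] [IsLocalRing A] [IsNoetherianRing A] [IsAdicComplete (maximalIdeal A) A]
    [Algebra k A] [Algebra K₀ A] [IsScalarTower k K₀ A] [Module.Finite K₀ (ResidueField A)]
    (hA : CAlgX.IsAdicFormallySmooth K₀ A (maximalIdeal A))
    (q : Ideal A) :
    IsOpen {n : PrimeSpectrum (A ⧸ q) |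
      CAlgX.IsAdicFormallySmooth k (Localization.AtPrime n.asIdeal) (maximalIdeal (Localization.AtPrime n.asIdeal))} := by
  classical
  have hcrit : ∀ n : PrimeSpectrum (A ⧸ q),
      CAlgX.IsAdicFormallySmooth k (Localization.AtPrime n.asIdeal) (maximalIdeal (Localization.AtPrime n.asIdeal)) ↔
        ∃ (m : ℕ) (D : Fin m → Derivation k A A) (f : Fin m → A), (∀ i, f i ∈ q) ∧
          (∀ x ∈ q, ∃ u ∉ n.asIdeal.comap (Ideal.Quotient.mk q), u * x ∈ Ideal.span (Set.range f)) ∧
          Matrix.det (Matrix.of fun i j => D i (f j)) ∉ n.asIdeal.comap (Ideal.Quotient.mk q) := by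
    intro n
    have hqn : q ≤ n.asIdeal.comap (Ideal.Quotient.mk q) := fun x hx => by
      show Ideal.Quotient.mk q x ∈ n.asIdeal
      rw [Ideal.Quotient.eq_zero_iff_mem.2 hx]
      exact zero_mem _
    rw [H1JacAbs.nagata_iff p hk hA q (n.asIdeal.comap (Ideal.Quotient.mk q)) hqn n.asIdeal
      (Ideal.map_comap_of_surjective _ Ideal.Quotient.mk_surjective _).symm]
    refine exists_congr fun m => exists_congr fun D => exists_congr fun f => and_congr_right fun hf => ?_
    rw [H1JacAbs.map_eq_span_iff q _ f hf]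
  rw [isOpen_iff_forall_mem_open]
  intro n hn
  obtain ⟨m, D, f, hfq, hgen, hdet⟩ := (hcrit n).1 hn
  obtain ⟨t, ht⟩ := IsNoetherian.noetherian q
  have htq : ∀ x ∈ t, x ∈ q := fun x hx => ht ▸ Submodule.subset_span hx
  choose u hu hu' using fun x : t => hgen x (htq x x.2)
  let w : A := Matrix.det (Matrix.of fun i j => D i (f j)) * ∏ x, u x
  refine ⟨PrimeSpectrum.basicOpen (Ideal.Quotient.mk q w), fun n' hn' => ?_, PrimeSpectrum.isOpen_basicOpen, ?_⟩
  · have hw : w ∉ n'.asIdeal.comap (Ideal.Quotient.mk q) := (PrimeSpectrum.mem_basicOpen _ _).1 hn'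
    refine (hcrit n').2 ⟨m, D, f, hfq, fun x hx => ⟨∏ y, u y, fun h => hw (Ideal.mul_mem_left _ _ h), ?_⟩,
      fun h => hw (Ideal.mul_mem_right _ _ h)⟩
    rw [← ht] at hx
    induction hx using Submodule.span_induction with
    | mem y hy =>
      have hprod : ∏ z, u z = u ⟨y, hy⟩ * ∏ z ∈ Finset.univ.erase ⟨y, hy⟩, u z :=
        (Finset.mul_prod_erase _ _ (Finset.mem_univ _)).symm
      rw [hprod, mul_comm (u ⟨y, hy⟩), mul_assoc]
      exact Ideal.mul_mem_left _ _ (hu' ⟨y, hy⟩)
    | zero => simp
    | add a b _ _ ha hb => rw [mul_add]; exact add_mem ha hb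
    | smul c a _ ha => rw [smul_eq_mul, mul_left_comm]; exact Ideal.mul_mem_left _ _ ha
  · refine (PrimeSpectrum.mem_basicOpen _ _).2 fun h => ?_
    have hp' : (n.asIdeal.comap (Ideal.Quotient.mk q)).IsPrime := Ideal.comap_isPrime _ _
    rcases hp'.mem_or_mem (show w ∈ n.asIdeal.comap (Ideal.Quotient.mk q) from h) with h1 | h1
    · exact hdet h1
    · obtain ⟨x, -, hx⟩ := (hp'.prod_mem_iff).1 h1
      exact hu x hx

end Groth.Agent.S4589
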