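import Groth.Statements.S4601
import Mathlib

set_option autoImplicit false
universe u
open TensorProduct
open CAlg

namespace Groth.Agent.S4601

/-- Let A be a domain with fraction field K, B a Noetherian A-algebra which is flat over A, K' an
extension field of K, B₁ = B_red and R its total ring of fractions. For every sub-A-algebra A' of
K', the map (A' ⊗_A B)_red → (K' ⊗_A R)_red is injective, i.e. an element of A' ⊗_A B with nilpotent
image in K' ⊗_A R is nilpotent. -/
theorem result {A B K' R : Type u} [CommRing A]
    [IsDomain A] [CommRing B] [Algebra A B] [IsNoetherianRing B] [Module.Flat A B]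
    [Field K'] [Algebra A K'] [Algebra (FractionRing A) K'] [IsScalarTower A (FractionRing A) K']
    [CommRing R] [Algebra (B ⧸ nilradical B) R] [IsFractionRing (B ⧸ nilradical B) R]
    [Algebra B R] [IsScalarTower B (B ⧸ nilradical B) R] [Algebra A R] [IsScalarTower A B R]
    (A' : Subalgebra A K') (x : ↥A' ⊗[A] B)
    (hx : IsNilpotent (Algebra.TensorProduct.map A'.val (IsScalarTower.toAlgHom A B R) x)) :
    IsNilpotent x := by
  have : Module.Flat A (FractionRing A) := IsLocalization.flat (FractionRing A) (nonZeroDivisors A)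
  have hK : Module.Flat A K' := Module.Flat.trans A (FractionRing A) K'
  have : IsScalarTower A B (B ⧸ nilradical B) := inferInstance
  have : IsScalarTower A (B ⧸ nilradical B) R := IsScalarTower.of_algebraMap_eq fun a => by
    rw [IsScalarTower.algebraMap_apply A B R, IsScalarTower.algebraMap_apply B (B ⧸ nilradical B) R,
      ← IsScalarTower.algebraMap_apply A B (B ⧸ nilradical B)]
  let q : B →ₐ[A] B ⧸ nilradical B := Ideal.Quotient.mkₐ A (nilradical B)
  let j : (B ⧸ nilradical B) →ₐ[A] R := IsScalarTower.toAlgHom A (B ⧸ nilradical B) R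
  let g₁ := Algebra.TensorProduct.map A'.val (AlgHom.id A B)
  let g₂ := Algebra.TensorProduct.map (AlgHom.id A K') q
  let g₃ := Algebra.TensorProduct.map (AlgHom.id A K') j
  have hcomp : Algebra.TensorProduct.map A'.val (IsScalarTower.toAlgHom A B R) = g₃.comp (g₂.comp g₁) :=
    Algebra.TensorProduct.ext' fun a b => by
      simp only [g₁, g₂, g₃, AlgHom.comp_apply, Algebra.TensorProduct.map_tmul]
      congr 1
      exact IsScalarTower.algebraMap_apply B (B ⧸ nilradical B) R b
  have h₁ : Function.Injective g₁ :=
    Module.Flat.rTensor_preserves_injective_linearMap (M := B) A'.val.toLinearMap Subtype.val_injective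
  have h₃ : Function.Injective g₃ :=
    Module.Flat.lTensor_preserves_injective_linearMap (M := K') j.toLinearMap
      (IsFractionRing.injective (B ⧸ nilradical B) R)
  have h₂ : RingHom.ker g₂ ≤ nilradical (K' ⊗[A] B) := by
    rw [Algebra.TensorProduct.lTensor_ker _ Ideal.Quotient.mk_surjective, Ideal.map_le_iff_le_comap]
    intro b hb
    exact mem_nilradical.2 ((mem_nilradical.1 (Ideal.Quotient.eq_zero_iff_mem.1 hb)).map _)
  obtain ⟨k, hk⟩ := hx
  rw [← map_pow, hcomp, AlgHom.comp_apply, AlgHom.comp_apply, map_eq_zero_iff g₃ h₃] at hk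
  have h := mem_nilradical.1 (h₂ (RingHom.mem_ker.2 hk))
  exact IsNilpotent.of_pow ((IsNilpotent.map_iff h₁).1 h)

end Groth.Agent.S4601
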