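import Groth.Statements.S4610
import Groth.Agent.H1Fields.SeparateMonic

set_option autoImplicit false
universe u
open EGA41

namespace Groth.Agent.S4610

/-- Let A be a nonzero ring and F_1, …, F_r monic one-variable polynomials of degrees d_1, …, d_r; then
A[T_1, …, T_r]/(F_1(T_1), …, F_r(T_r)) is a free A-module of rank ∏ d_i. (The published statement
assumes A local with maximal ideal of square zero and A' local, which this assertion does not use;
its bound [K' : K] ≤ d and part (ii) are not stated.) -/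
theorem result {A : Type u} [CommRing A] [Nontrivial A]
    {r : ℕ} (F : Fin r → Polynomial A) (hF : ∀ i, (F i).Monic) :
    Module.Free A (MvPolynomial (Fin r) A ⧸ Ideal.span (Set.range fun i => Polynomial.aeval (MvPolynomial.X i : MvPolynomial (Fin r) A) (F i))) ∧
      Module.finrank A (MvPolynomial (Fin r) A ⧸ Ideal.span (Set.range fun i => Polynomial.aeval (MvPolynomial.X i : MvPolynomial (Fin r) A) (F i))) =
        Finset.univ.prod fun i => (F i).natDegree := by
  obtain ⟨B, _, _, v, ι, _, b, hcard, hv, hgen, huniv⟩ := H1Fields.exists_universal_model r F hF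
  let I := Ideal.span (Set.range fun i => Polynomial.aeval (MvPolynomial.X i : MvPolynomial (Fin r) A) (F i))
  let π : MvPolynomial (Fin r) A →ₐ[A] MvPolynomial (Fin r) A ⧸ I := Ideal.Quotient.mkₐ A I
  obtain ⟨φ, hφ⟩ := huniv _ (fun i => π (MvPolynomial.X i)) fun i => by
    rw [Polynomial.aeval_algHom_apply]
    exact Ideal.Quotient.eq_zero_iff_mem.mpr (Ideal.subset_span ⟨i, rfl⟩)
  let ψ : (MvPolynomial (Fin r) A ⧸ I) →ₐ[A] B := Ideal.Quotient.liftₐ I (MvPolynomial.aeval v) fun x hx => by
    have : I ≤ RingHom.ker (MvPolynomial.aeval (R := A) v) := by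
      rw [Ideal.span_le]
      rintro _ ⟨i, rfl⟩
      show MvPolynomial.aeval v (Polynomial.aeval (MvPolynomial.X i) (F i)) = 0
      rw [← Polynomial.aeval_algHom_apply, MvPolynomial.aeval_X, hv]
    exact this hx
  have hψ : ∀ i, ψ (π (MvPolynomial.X i)) = v i := fun i => by simp [ψ, π]
  have h1 : ψ.comp φ = AlgHom.id A B := AlgHom.ext_of_adjoin_eq_top hgen (by
    rintro _ ⟨i, rfl⟩; simp [hφ, hψ])
  have h2 : φ.comp ψ = AlgHom.id A _ := Ideal.Quotient.algHom_ext A (MvPolynomial.algHom_ext fun i => by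
    show φ (ψ (π (MvPolynomial.X i))) = π (MvPolynomial.X i)
    rw [hψ, hφ])
  let e : B ≃ₐ[A] (MvPolynomial (Fin r) A ⧸ I) := AlgEquiv.ofAlgHom φ ψ h2 h1
  let bb := b.map e.toLinearEquiv
  exact ⟨Module.Free.of_basis bb, by rw [Module.finrank_eq_card_basis bb, hcard]⟩

end Groth.Agent.S4610
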