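import Groth.Statements.S4612
import Mathlib
import Groth.Agent.H1JacPS.Crit
import Groth.Agent.S2471
import Groth.Agent.S4551
import Groth.Agent.EGA41Lib.FieldFS

set_option autoImplicit false
universe u
open IsLocalRing
open EGA41

namespace Groth.Agent.S4612

set_option backward.isDefEq.respectTransparency false
set_option backward.isDefEq.respectTransparency.types false
theorem H1JacPSMain.resEquiv (k : Type u) {A : Type u} [Field k] [CommRing A] [Algebra k A] (q p : Ideal A)
    [p.IsPrime] (hqp : q ≤ p) [(p.map (Ideal.Quotient.mk q)).IsPrime] (L : Type u) [Field L]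
    [Algebra (A ⧸ p) L] [IsFractionRing (A ⧸ p) L] [Algebra k L] [IsScalarTower k (A ⧸ p) L] :
    Nonempty (L ≃ₐ[k] (p.map (Ideal.Quotient.mk q)).ResidueField) := by
  let e : (A ⧸ p) ≃ₐ[k] ((A ⧸ q) ⧸ p.map (Ideal.Quotient.mk q)) :=
    (DoubleQuot.quotQuotEquivQuotOfLEₐ k hqp).symm
  let φ : L ≃+* (p.map (Ideal.Quotient.mk q)).ResidueField :=
    IsFractionRing.ringEquivOfRingEquiv (A := A ⧸ p) (B := (A ⧸ q) ⧸ p.map (Ideal.Quotient.mk q))
      (K := L) (L := (p.map (Ideal.Quotient.mk q)).ResidueField) e.toRingEquiv
  refine ⟨AlgEquiv.ofRingEquiv (f := φ) fun c => ?_⟩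
  rw [IsScalarTower.algebraMap_apply k (A ⧸ p) L, IsFractionRing.ringEquivOfRingEquiv_algebraMap,
    IsScalarTower.algebraMap_apply k ((A ⧸ q) ⧸ p.map (Ideal.Quotient.mk q))
      (p.map (Ideal.Quotient.mk q)).ResidueField]
  exact congrArg _ (e.commutes c)

open TensorProduct KaehlerDifferential in
theorem H1JacPSMain.injective_lTensor (k B : Type u) [Field k] [CommRing B] [IsLocalRing B] [Algebra k B]
    [Algebra.FormallySmooth k (ResidueField B)] :
    Function.Injective ((mapBaseChange ℤ k B).lTensor (ResidueField B)) := by
  have hinj : Function.Injective (mapBaseChange ℤ k (ResidueField B)) := by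
    rw [injective_iff_map_eq_zero]
    intro x hx
    obtain ⟨y, rfl⟩ := (Algebra.H1Cotangent.exact_δ_mapBaseChange ℤ k (ResidueField B) x).1 hx
    rw [Subsingleton.elim y 0, map_zero]
  let ψ : (ResidueField B) ⊗[B] Ω[B⁄ℤ] →ₗ[ResidueField B] Ω[ResidueField B⁄ℤ] := mapBaseChange ℤ B (ResidueField B)
  let c : (ResidueField B) ⊗[B] (B ⊗[k] Ω[k⁄ℤ]) ≃ₗ[ResidueField B] (ResidueField B) ⊗[k] Ω[k⁄ℤ] :=
    AlgebraTensorModule.cancelBaseChange k B (ResidueField B) (ResidueField B) Ω[k⁄ℤ]
  have key : ∀ z, ψ ((mapBaseChange ℤ k B).lTensor (ResidueField B) z)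
      = mapBaseChange ℤ k (ResidueField B) (c z) := by
    intro z
    induction z using TensorProduct.induction_on with
    | zero => simp
    | add a b ha hb => simp only [map_add, ha, hb]
    | tmul x w =>
      induction w using TensorProduct.induction_on with
      | zero => simp
      | add a b ha hb => simp only [TensorProduct.tmul_add, map_add, ha, hb]
      | tmul y w =>
        simp only [LinearMap.lTensor_tmul, mapBaseChange_tmul, c, ψ,
          AlgebraTensorModule.cancelBaseChange_tmul, map_smul]
        rw [show map ℤ ℤ B (ResidueField B) (map ℤ ℤ k B w) = map ℤ ℤ k (ResidueField B) w from ?_]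
        · rw [algebra_compatible_smul (ResidueField B) y, smul_smul, Algebra.smul_def y x, mul_comm]
        · have hg : w ∈ Submodule.span k (Set.range (D ℤ k)) := by rw [span_range_derivation]; trivial
          induction hg using Submodule.span_induction with
          | mem d hd =>
            obtain ⟨t, rfl⟩ := hd
            simp only [map_D]
            rw [← IsScalarTower.algebraMap_apply]
          | zero => simp
          | add a b _ _ ha hb => simp only [map_add, ha, hb]
          | smul t a _ ha =>
            rw [map_smul, ← algebraMap_smul B t (map ℤ ℤ k B a), map_smul, ha, algebraMap_smul, map_smul]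
  intro a b hab
  apply c.injective
  apply hinj
  rw [← key, ← key, hab]

/-- Nagata's Jacobian criterion for quotients of power series rings: let k be a field, A = k[[T_1, …,
T_r]], q ⊆ p ideals of A with p prime, B = A/q. Suppose A/p contains a sub-k-algebra isomorphic to a
power series algebra k[[X_1, …, X_s]] over which A/p is finite and such that the fraction field L of
A/p is a separable extension of the fraction field L' of k[[X_1, …, X_s]]; here this is given as an
injective k-algebra map k[[X_1, …, X_s]] → A/p making A/p a finite module, with fraction fields L',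
L and a compatible L'-algebra structure on L. Then the following are equivalent: B_p is formally
smooth over k for the adic topology of its maximal ideal; there are k-derivations D_1, …, D_m of A
into itself and f_1, …, f_m ∈ q generating qA_p with det(D_i f_j) ∉ p; B_p is a regular local ring.
(The published statement remarks that the hypothesis on A/p always holds when k has characteristic
zero.) -/
theorem result {k : Type u} [Field k] (r : ℕ)
    (q p : Ideal (MvPowerSeries (Fin r) k)) [p.IsPrime] (hqp : q ≤ p) [(p.map (Ideal.Quotient.mk q)).IsPrime]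
    (s : ℕ) [Algebra (MvPowerSeries (Fin s) k) (MvPowerSeries (Fin r) k ⧸ p)]
    [IsScalarTower k (MvPowerSeries (Fin s) k) (MvPowerSeries (Fin r) k ⧸ p)]
    [Module.Finite (MvPowerSeries (Fin s) k) (MvPowerSeries (Fin r) k ⧸ p)]
    (hinj : Function.Injective (algebraMap (MvPowerSeries (Fin s) k) (MvPowerSeries (Fin r) k ⧸ p)))
    {L' L : Type u} [Field L'] [Field L]
    [Algebra (MvPowerSeries (Fin s) k) L'] [IsFractionRing (MvPowerSeries (Fin s) k) L']
    [Algebra (MvPowerSeries (Fin r) k ⧸ p) L] [IsFractionRing (MvPowerSeries (Fin r) k ⧸ p) L]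
    [Algebra L' L] [Algebra (MvPowerSeries (Fin s) k) L]
    [IsScalarTower (MvPowerSeries (Fin s) k) (MvPowerSeries (Fin r) k ⧸ p) L]
    [IsScalarTower (MvPowerSeries (Fin s) k) L' L] [Algebra.IsSeparable L' L] :
    [CAlgX.IsAdicFormallySmooth k (Localization.AtPrime (p.map (Ideal.Quotient.mk q)))
        (maximalIdeal (Localization.AtPrime (p.map (Ideal.Quotient.mk q)))),
     ∃ (m : ℕ) (D : Fin m → Derivation k (MvPowerSeries (Fin r) k) (MvPowerSeries (Fin r) k))
        (f : Fin m → MvPowerSeries (Fin r) k), (∀ i, f i ∈ q) ∧
        q.map (algebraMap (MvPowerSeries (Fin r) k) (Localization.AtPrime p)) =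
          Ideal.span (Set.range fun i => algebraMap (MvPowerSeries (Fin r) k) (Localization.AtPrime p) (f i)) ∧
        Matrix.det (Matrix.of fun i j => D i (f j)) ∉ p,
     IsRegularLocalRing (Localization.AtPrime (p.map (Ideal.Quotient.mk q)))].TFAE := by
  classical
  have h32 := H1JacPS.regular_iff q p L hinj L' hqp
  tfae_have 1 → 3 := fun h => ((Groth.Agent.S2471.result).1 h).1
  tfae_have 3 ↔ 2 := h32
  tfae_have 3 → 1 := by
    intro hreg
    refine (Groth.Agent.S2471.result).2 ⟨hreg, ?_⟩
    -- the field `L` is formally smooth over `k`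
    letI : Algebra k L' := ((algebraMap (MvPowerSeries (Fin s) k) L').comp (algebraMap k (MvPowerSeries (Fin s) k))).toAlgebra
    letI : Algebra k L := ((algebraMap L' L).comp (algebraMap k L')).toAlgebra
    haveI : IsScalarTower k L' L := IsScalarTower.of_algebraMap_eq' rfl
    haveI : IsScalarTower k (MvPowerSeries (Fin s) k) L' := IsScalarTower.of_algebraMap_eq' rfl
    haveI := Groth.Agent.S4551.result k s
    haveI : Algebra.IsGeometricallyReduced k L' :=
      Algebra.IsGeometricallyReduced.of_injective
        (((FractionRing.algEquiv (MvPowerSeries (Fin s) k) L').symm.restrictScalars k).toAlgHom)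
        (AlgEquiv.injective _)
    haveI := Groth.Agent.EGA41Lib.FieldFS.formallySmooth_of_isGeometricallyReduced k L'
    haveI : Algebra.FormallyEtale L' L := Algebra.FormallyEtale.of_isSeparable L' L
    haveI : Algebra.FormallySmooth k L := Algebra.FormallySmooth.comp k L' L
    -- the residue field of the localization is `L`
    let P := p.map (Ideal.Quotient.mk q)
    haveI : IsScalarTower k (MvPowerSeries (Fin r) k ⧸ p) L :=
      IsScalarTower.of_algebraMap_eq (R := k) (S := MvPowerSeries (Fin r) k ⧸ p) (A := L) fun c => by
      change algebraMap L' L (algebraMap (MvPowerSeries (Fin s) k) L' (algebraMap k (MvPowerSeries (Fin s) k) c)) = _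
      rw [← IsScalarTower.algebraMap_apply (MvPowerSeries (Fin s) k) L' L,
        IsScalarTower.algebraMap_apply (MvPowerSeries (Fin s) k) (MvPowerSeries (Fin r) k ⧸ p) L,
        ← IsScalarTower.algebraMap_apply k (MvPowerSeries (Fin s) k) (MvPowerSeries (Fin r) k ⧸ p)]
    haveI : Algebra.FormallySmooth k P.ResidueField :=
      Algebra.FormallySmooth.of_equiv (H1JacPSMain.resEquiv k q p hqp L).some
    exact H1JacPSMain.injective_lTensor k (Localization.AtPrime P)
  tfae_finish

end Groth.Agent.S4612
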