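import Groth.Statements.S4614
import Groth.Agent.H1Red.Basic

set_option autoImplicit false
universe u
open TensorProduct AlgebraicGeometry
open CAlg

namespace Groth.Agent.S4614

/-- Let A be a domain with fraction field K, B a Noetherian flat A-algebra with B/q Japanese for every
minimal prime q, K' a finite extension of K, and consider the sub-A-algebras C of K' finite over A
with fraction field K' (a filtered family with union the integral closure A' of A in K'). (i) Some
member C_α is such that for every member C ⊇ C_α the map (C_α ⊗_A B)_red → (C ⊗_A B)_red is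
bijective. (ii) If B is faithfully flat over A then Spec A' → Spec C_α is radicial. -/
theorem result {A B K' : Type u} [CommRing A]
    [IsDomain A] [CommRing B] [Algebra A B] [IsNoetherianRing B] [Module.Flat A B]
    (hJ : ∀ (q : Ideal B) [q.IsPrime], q ∈ minimalPrimes B → CAlg.IsN2 (B ⧸ q))
    [Field K'] [Algebra A K'] [Algebra (FractionRing A) K'] [IsScalarTower A (FractionRing A) K']
    [FiniteDimensional (FractionRing A) K'] :
    let P : Subalgebra A K' → Prop := fun C : Subalgebra A K' => Module.Finite A C ∧ ∀ x : K', ∃ a b : C, (b : K') ≠ 0 ∧ x * b = a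
    ∃ Cα : Subalgebra A K', P Cα ∧
      (∀ C : Subalgebra A K', P C → ∀ hle : Cα ≤ C,
        (∀ x : ↥Cα ⊗[A] B, IsNilpotent (Algebra.TensorProduct.map (Subalgebra.inclusion hle) (AlgHom.id A B) x) →
          IsNilpotent x) ∧
        (∀ y : ↥C ⊗[A] B, ∃ x : ↥Cα ⊗[A] B,
          IsNilpotent (Algebra.TensorProduct.map (Subalgebra.inclusion hle) (AlgHom.id A B) x - y))) ∧
      (Module.FaithfullyFlat A B → ∀ hint : Cα ≤ integralClosure A K',
        UniversallyInjective (Spec.map (CommRingCat.ofHom (Subalgebra.inclusion hint).toRingHom))) := by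
  classical
  intro P
  obtain ⟨N, hN, hxN⟩ := Groth.Agent.H1Red.exists_noetherian_submodule (A := A) (B := B) (K' := K') hJ
  let π := Ideal.Quotient.mk (nilradical (B ⊗[A] K'))
  let e : ∀ C : Subalgebra A K', ↥C ⊗[A] B →ₐ[A] B ⊗[A] K' := fun C =>
    (Algebra.TensorProduct.map (AlgHom.id A B) C.val).comp
      (Algebra.TensorProduct.comm A C B).toAlgHom
  have he : ∀ C, Function.Injective (e C) := fun C =>
    (Module.Flat.lTensor_preserves_injective_linearMap (R := A) (M := B) C.val.toLinearMap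
      Subtype.val_injective).comp (Algebra.TensorProduct.comm A C B).injective
  have hcomp : ∀ (C D : Subalgebra A K') (h : C ≤ D),
      (e D).comp (Algebra.TensorProduct.map (Subalgebra.inclusion h) (AlgHom.id A B)) = e C := by
    intro C D h
    ext x <;> simp [e]
  let im : Subalgebra A K' → Submodule B ((B ⊗[A] K') ⧸ nilradical (B ⊗[A] K')) := fun C =>
    Submodule.span B ((fun x : K' => π ((1 : B) ⊗ₜ[A] x)) '' (C : Set K'))
  have him1 : ∀ (C : Subalgebra A K') (y : ↥C ⊗[A] B), π (e C y) ∈ im C := by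
    intro C y
    induction y with
    | zero => simp
    | add x y hx hy => rw [map_add, map_add]; exact add_mem hx hy
    | tmul x b =>
      have : π (e C (x ⊗ₜ[A] b)) = b • π ((1 : B) ⊗ₜ[A] (x : K')) := by
        show π (b ⊗ₜ[A] (x : K')) = π (b • ((1 : B) ⊗ₜ[A] (x : K')))
        rw [TensorProduct.smul_tmul', smul_eq_mul, mul_one]
      rw [this]
      exact Submodule.smul_mem _ _ (Submodule.subset_span ⟨x.1, x.2, rfl⟩)
  have him2 : ∀ (C : Subalgebra A K') (z), z ∈ im C → ∃ y : ↥C ⊗[A] B, π (e C y) = z := by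
    intro C z hz
    induction hz using Submodule.span_induction with
    | mem z hz =>
      obtain ⟨x, hx, rfl⟩ := hz
      exact ⟨(⟨x, hx⟩ : C) ⊗ₜ[A] (1 : B), by simp [e]⟩
    | zero => exact ⟨0, by simp⟩
    | add a b _ _ ha hb =>
      obtain ⟨a, rfl⟩ := ha
      obtain ⟨b, rfl⟩ := hb
      exact ⟨a + b, by simp⟩
    | smul c a _ ha =>
      obtain ⟨a, rfl⟩ := ha
      refine ⟨((1 : C) ⊗ₜ[A] c) * a, ?_⟩
      rw [map_mul, map_mul]
      show π (c ⊗ₜ[A] (1 : K')) * _ = _
      rw [Algebra.smul_def]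
      congr 1
  have himN : ∀ C : Subalgebra A K', Module.Finite A C → im C ≤ N := by
    intro C hC
    rw [Submodule.span_le]
    rintro _ ⟨x, hx, rfl⟩
    refine hxN x ?_
    have : IsIntegral A (⟨x, hx⟩ : C) := IsIntegral.of_finite A _
    exact this.map C.val
  obtain ⟨s, bs, hbs⟩ := FiniteDimensional.exists_is_basis_integral A (FractionRing A) K'
  let C₀ : Subalgebra A K' := Algebra.adjoin A (Set.range bs)
  have hC₀fin : Module.Finite A C₀ :=
    Module.Finite.iff_fg.mpr (fg_adjoin_of_finite (Set.finite_range bs)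
      (by rintro _ ⟨i, rfl⟩; exact hbs i))
  have hC₀ : P C₀ := by
    refine ⟨hC₀fin, fun x => ?_⟩
    obtain ⟨⟨d, hd⟩, hd'⟩ := IsLocalization.exist_integer_multiples_of_finset
      (nonZeroDivisors A) (Finset.univ.image fun i => bs.repr x i)
    have hmem : x * algebraMap A K' d ∈ C₀ := by
      rw [← bs.sum_repr x, Finset.sum_mul]
      refine sum_mem fun i _ => ?_
      obtain ⟨a, ha⟩ := hd' (bs.repr x i) (Finset.mem_image_of_mem _ (Finset.mem_univ i))
      have : bs.repr x i • bs i * algebraMap A K' d = algebraMap A K' a * bs i := by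
        rw [IsScalarTower.algebraMap_apply A (FractionRing A) K' a, ha, Algebra.smul_def d,
          map_mul, ← IsScalarTower.algebraMap_apply, Algebra.smul_def]
        ring
      rw [this]
      exact mul_mem (C₀.algebraMap_mem _) (Algebra.subset_adjoin ⟨i, rfl⟩)
    refine ⟨⟨_, hmem⟩, ⟨_, C₀.algebraMap_mem d⟩, ?_, rfl⟩
    simp only [ne_eq]
    rw [IsScalarTower.algebraMap_apply A (FractionRing A) K', map_eq_zero,
      IsFractionRing.to_map_eq_zero_iff]
    exact nonZeroDivisors.ne_zero hd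
  let T : Set (Submodule B N) :=
    {W | ∃ C : Subalgebra A K', P C ∧ W = (im C).comap N.subtype}
  obtain ⟨W, ⟨Cα, hCα, rfl⟩, hmax⟩ := set_has_maximal_iff_noetherian.mpr hN T ⟨_, C₀, hC₀, rfl⟩
  have heq : ∀ C : Subalgebra A K', Module.Finite A C → Cα ≤ C → im C = im Cα := by
    intro C hC hle
    have hsub : im Cα ≤ im C := Submodule.span_mono (Set.image_mono hle)
    have hPC : P C := ⟨hC, fun x => by
      obtain ⟨a, b, hb, hab⟩ := hCα.2 x
      exact ⟨⟨a, hle a.2⟩, ⟨b, hle b.2⟩, hb, hab⟩⟩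
    have := hmax ((im C).comap N.subtype) ⟨C, hPC, rfl⟩
    have h2 : (im Cα).comap N.subtype = (im C).comap N.subtype :=
      eq_of_le_of_not_lt (Submodule.comap_mono hsub) this
    refine le_antisymm (fun z hz => ?_) hsub
    exact (SetLike.ext_iff.mp h2 ⟨z, himN C hC hz⟩).mpr hz
  have hpart : ∀ C : Subalgebra A K', Module.Finite A C → ∀ hle : Cα ≤ C, ∀ y : ↥C ⊗[A] B,
      ∃ x : ↥Cα ⊗[A] B,
      IsNilpotent (Algebra.TensorProduct.map (Subalgebra.inclusion hle) (AlgHom.id A B) x - y) := by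
    intro C hC hle y
    obtain ⟨x, hx⟩ := him2 Cα (π (e C y)) (heq C hC hle ▸ him1 C y)
    refine ⟨x, ?_⟩
    refine (IsNilpotent.map_iff (f := e C) (he C)).mp ?_
    rw [map_sub, ← AlgHom.comp_apply, hcomp, ← mem_nilradical]
    exact Ideal.Quotient.eq.mp hx
  refine ⟨Cα, hCα, fun C hC hle => ⟨fun x hx => ?_, hpart C hC.1 hle⟩, ?_⟩
  · refine (IsNilpotent.map_iff (f := e Cα) (he Cα)).mp ?_
    rw [← hcomp Cα C hle]
    exact hx.map (e C)
  intro hff hint
  refine ((tfae_universallyInjective _).out 0 1 :).mpr ?_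
  intro F instF g₁ g₂ hg
  obtain ⟨g₁, rfl⟩ := Spec.map_surjective g₁
  obtain ⟨g₂, rfl⟩ := Spec.map_surjective g₂
  simp only [← Spec.map_comp] at hg
  have hg' := Spec.map_injective hg
  congr 1
  ext ⟨x, hx⟩
  letI : Algebra A F :=
    ((g₁.hom : integralClosure A K' →+* F).comp (algebraMap A (integralClosure A K'))).toAlgebra
  have h12 : ∀ c, g₁.hom (Subalgebra.inclusion hint c) = g₂.hom (Subalgebra.inclusion hint c) :=
    fun c => congrArg (fun φ => CommRingCat.Hom.hom φ c) hg'
  let C : Subalgebra A K' := Cα ⊔ Algebra.adjoin A {x}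
  haveI := hCα.1
  haveI : Module.Finite A (Algebra.adjoin A {x}) :=
    Module.Finite.iff_fg.mpr hx.fg_adjoin_singleton
  have hC : Module.Finite A C := Subalgebra.finite_sup _ _
  have hCint : C ≤ integralClosure A K' :=
    sup_le hint (Algebra.adjoin_le (by simpa using hx))
  let γ₁ : integralClosure A K' →ₐ[A] F :=
    { g₁.hom with commutes' := fun a => rfl }
  let γ₂ : integralClosure A K' →ₐ[A] F :=
    { g₂.hom with commutes' := fun a => (h12 (algebraMap A Cα a)).symm }
  let G₁ : ↥C ⊗[A] B →ₐ[A] (F : Type _) ⊗[A] B :=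
    Algebra.TensorProduct.map (γ₁.comp (Subalgebra.inclusion hCint)) (AlgHom.id A B)
  let G₂ : ↥C ⊗[A] B →ₐ[A] (F : Type _) ⊗[A] B :=
    Algebra.TensorProduct.map (γ₂.comp (Subalgebra.inclusion hCint)) (AlgHom.id A B)
  let xC : C := ⟨x, le_sup_right (a := Cα) (Algebra.self_mem_adjoin_singleton A x)⟩
  obtain ⟨y, hy⟩ := hpart C hC le_sup_left (xC ⊗ₜ[A] (1 : B))
  have hG : G₁.comp (Algebra.TensorProduct.map (Subalgebra.inclusion le_sup_left) (AlgHom.id A B))
      = G₂.comp (Algebra.TensorProduct.map (Subalgebra.inclusion le_sup_left) (AlgHom.id A B)) := by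
    refine Algebra.TensorProduct.ext' fun c b => ?_
    show g₁.hom (Subalgebra.inclusion hint c) ⊗ₜ[A] b = g₂.hom (Subalgebra.inclusion hint c) ⊗ₜ[A] b
    rw [h12]
  have hn : IsNilpotent (((g₁.hom ⟨x, hx⟩ : F) - g₂.hom ⟨x, hx⟩) ⊗ₜ[A] (1 : B)) := by
    have h1 := hy.map G₁
    have h2 := hy.map G₂
    have := (Commute.all _ _).isNilpotent_sub h2 h1
    rw [map_sub, map_sub, ← AlgHom.comp_apply, ← AlgHom.comp_apply, hG, sub_sub_sub_cancel_left] at this
    rw [TensorProduct.sub_tmul]
    exact this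
  obtain ⟨m, hm⟩ := hn
  haveI := hff
  haveI : Nontrivial ((F : Type _) ⊗[A] B) := inferInstance
  have hinj := (Algebra.TensorProduct.includeLeft (R := A) (S := A) (A := (F : Type _)) (B := B)).toRingHom.injective
  rw [Algebra.TensorProduct.tmul_pow, one_pow] at hm
  have h0 := hinj (a₁ := ((g₁.hom ⟨x, hx⟩ : F) - g₂.hom ⟨x, hx⟩) ^ m) (a₂ := 0)
    (by simpa using hm)
  exact sub_eq_zero.mp (IsReduced.eq_zero _ ⟨m, h0⟩)

end Groth.Agent.S4614
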