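import Groth.Statements.S4653
import Groth.Agent.SuppTensor.GoingDown

set_option autoImplicit false
attribute [-instance] CategoryTheory.catToReflQuiver
set_option backward.isDefEq.respectTransparency false
set_option backward.isDefEq.respectTransparency.types false
open CategoryTheory AlgebraicGeometry
universe u
open FDesc

namespace Groth.Agent.S4653

/-- Let f : X → Y be a morphism of schemes, F a quasi-coherent O_X-module of finite type which is flat
over Y, E a quasi-coherent O_Y-module of finite type, and x a point of X with image y. Then x is a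
maximal point of the support of f^*E ⊗ F (a point of the support admitting no proper generization in
it) if and only if y is a maximal point of Supp E and x, viewed in the fibre f⁻¹(y), is a maximal
point of the support of the restriction of F to that fibre. -/
theorem result {X Y : Scheme.{u}} (f : X ⟶ Y) (F : X.Modules) (hF : Coh.IsCoh F)
    (hfl : FlatMod.IsFlatOver f F) (E : Y.Modules) (hE : Coh.IsCoh E) (x : X) :
    (x ∈ CohB1.support (CohB1.tensorMod ((Scheme.Modules.pullback f).obj E) F) ∧
        ∀ z ∈ CohB1.support (CohB1.tensorMod ((Scheme.Modules.pullback f).obj E) F), z ⤳ x → z = x) ↔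
      ((f x ∈ CohB1.support E ∧ ∀ w ∈ CohB1.support E, w ⤳ f x → w = f x) ∧
        (f.asFiber x ∈ CohB1.support ((Scheme.Modules.pullback (f.fiberι (f x))).obj F) ∧
          ∀ z ∈ CohB1.support ((Scheme.Modules.pullback (f.fiberι (f x))).obj F), z ⤳ f.asFiber x → z = f.asFiber x)) := by

  rw [Groth.Agent.SuppTensor.support_pullback_tensor f F hF E hE,
    Groth.Agent.QCoh.support_pullback (f.fiberι (f x)) hF.1 hF.2]
  simp only [Set.mem_inter_iff, Set.mem_preimage, Scheme.Hom.fiberι_asFiber]
  constructor
  · rintro ⟨⟨hxE, hxF⟩, hmax⟩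
    refine ⟨⟨hxE, fun w hw hwx => ?_⟩, hxF, fun z hz hzx => ?_⟩
    · obtain ⟨z, hzF, hzx, rfl⟩ :=
        Groth.Agent.SuppTensor.exists_specializes_of_isFlatOver f F hF hfl hxF hwx
      rw [hmax z ⟨hw, hzF⟩ hzx]
    · have hfz : f (f.fiberι (f x) z) = f x := by
        have := Set.mem_range_self (f := f.fiberι (f x)) z
        rwa [f.range_fiberι, Set.mem_preimage, Set.mem_singleton_iff] at this
      have hzx' : f.fiberι (f x) z ⤳ x := by
        have := hzx.map (f.fiberι (f x)).continuous
        rwa [f.fiberι_asFiber] at this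
      exact (f.fiberι (f x)).isEmbedding.injective
        ((hmax _ ⟨by rw [hfz]; exact hxE, hz⟩ hzx').trans (f.fiberι_asFiber x).symm)
  · rintro ⟨⟨hxE, hEmax⟩, hxF, hFmax⟩
    refine ⟨⟨hxE, hxF⟩, fun z hz hzx => ?_⟩
    have hfz : f z = f x := hEmax _ hz.1 (hzx.map f.continuous)
    have hzr : z ∈ Set.range (f.fiberι (f x)) := by
      rw [f.range_fiberι]; exact hfz
    obtain ⟨z', rfl⟩ := hzr
    have h : z' = f.asFiber x := hFmax z' hz.2
      ((f.fiberι (f x)).isEmbedding.isInducing.specializes_iff.1 (by rw [f.fiberι_asFiber]; exact hzx))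
    rw [h, f.fiberι_asFiber]

end Groth.Agent.S4653
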