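import Groth.Statements.S4679
import Groth.Agent.S4678
import Groth.Agent.S4680
import Mathlib.RingTheory.Flat.FaithfullyFlat.Basic

set_option autoImplicit false
set_option backward.isDefEq.respectTransparency false
set_option backward.isDefEq.respectTransparency.types false
open CategoryTheory AlgebraicGeometry
universe u
open FDesc

namespace Groth.Agent.S4679

open TensorProduct in
theorem flat_right (A B : Type*) (M N : Type u) [CommRing A] [CommRing B] [Algebra A B]
    [AddCommGroup M] [AddCommGroup N] [Module B M] [Module B N] [Module A M] [Module A N]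
    [IsScalarTower A B M] [IsScalarTower A B N] [Module.FaithfullyFlat B M] [Module.Flat A (M ⊗[B] N)] :
    Module.Flat A N := by
  rw [Module.Flat.iff_lTensor_preserves_injective_linearMap]
  intro P Q _ _ _ _ φ hφ
  let φ' : N ⊗[A] P →ₗ[B] N ⊗[A] Q := AlgebraTensorModule.lTensor B N φ
  let eP := AlgebraTensorModule.assoc A B B M N P
  let eQ := AlgebraTensorModule.assoc A B B M N Q
  have hc : ∀ t, eQ (LinearMap.lTensor (M ⊗[B] N) φ t) = LinearMap.lTensor M φ' (eP t) := by
    intro t
    induction t using TensorProduct.induction_on with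
    | zero => simp
    | add a b ha hb => simp [ha, hb]
    | tmul mn p =>
      induction mn using TensorProduct.induction_on with
      | zero => simp
      | add a b ha hb => simp only [TensorProduct.add_tmul, map_add, ha, hb]
      | tmul m n => simp [eP, eQ, φ']
  have h3 : Function.Injective (LinearMap.lTensor M φ') := fun a b hab => by
    obtain ⟨a, rfl⟩ := eP.surjective a
    obtain ⟨b, rfl⟩ := eP.surjective b
    rw [← hc, ← hc] at hab
    rw [Module.Flat.lTensor_preserves_injective_linearMap (M := M ⊗[B] N) φ hφ (eQ.injective hab)]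
  intro a b hab
  exact (Module.FaithfullyFlat.lTensor_injective_iff_injective B M φ').1 h3 hab

open TensorProduct in
theorem smul_top_iff (A B : Type*) (M N : Type u) [CommRing A] [CommRing B] [Algebra A B]
    [AddCommGroup M] [AddCommGroup N] [Module B M] [Module B N] [Module A M] [Module A N]
    [IsScalarTower A B M] [IsScalarTower A B N] [Module.FaithfullyFlat B M] (I : Ideal A) :
    I • (⊤ : Submodule A (M ⊗[B] N)) = ⊤ ↔ I • (⊤ : Submodule A N) = ⊤ := by
  constructor
  · intro h
    by_contra hN
    let K : Submodule B N := I.map (algebraMap A B) • ⊤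
    have hK : ∀ n, n ∈ K ↔ n ∈ I • (⊤ : Submodule A N) := fun n => by
      rw [← Submodule.restrictScalars_mem A, Ideal.smul_restrictScalars, Submodule.restrictScalars_top]
    haveI : Nontrivial (N ⧸ K) := by
      rw [Submodule.Quotient.nontrivial_iff]
      intro hK'
      exact hN (Submodule.eq_top_iff'.2 fun n => (hK n).1 (hK' ▸ Submodule.mem_top))
    haveI : Nontrivial (M ⊗[B] (N ⧸ K)) := Module.FaithfullyFlat.lTensor_nontrivial B M (N ⧸ K)
    let π := (LinearMap.lTensor M K.mkQ).restrictScalars A
    have hπ : Function.Surjective π := LinearMap.lTensor_surjective M (Submodule.mkQ_surjective K)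
    have h0 : ∀ t, π t = 0 := fun t => by
      have ht : t ∈ I • (⊤ : Submodule A (M ⊗[B] N)) := (Submodule.eq_top_iff'.1 h) _
      induction ht using Submodule.smul_induction_on' with
      | smul a ha n _ =>
        clear t
        rw [map_smul]
        induction n using TensorProduct.induction_on with
        | zero => simp
        | add u v hu hv => rw [map_add, smul_add, hu Submodule.mem_top, hv Submodule.mem_top, add_zero]
        | tmul m n =>
          show a • (m ⊗ₜ[B] K.mkQ n) = 0
          rw [← algebraMap_smul B a (m ⊗ₜ[B] K.mkQ n), ← tmul_smul, algebraMap_smul, ← LinearMap.map_smul_of_tower,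
            Submodule.mkQ_apply, (Submodule.Quotient.mk_eq_zero K).2 ((hK _).2 (Submodule.smul_mem_smul ha Submodule.mem_top)),
            tmul_zero]
      | add u _ v _ hu hv => rw [map_add, hu, hv, add_zero]
    obtain ⟨a, b, hab⟩ := exists_pair_ne (M ⊗[B] (N ⧸ K))
    obtain ⟨a, rfl⟩ := hπ a
    obtain ⟨b, rfl⟩ := hπ b
    exact hab (by rw [h0, h0])
  · intro h
    refine Submodule.eq_top_iff'.2 fun t => ?_
    induction t using TensorProduct.induction_on with
    | zero => exact zero_mem _
    | add u v hu hv => exact add_mem hu hv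
    | tmul m n =>
      have hn : n ∈ I • (⊤ : Submodule A N) := (Submodule.eq_top_iff'.1 h) _
      induction hn using Submodule.smul_induction_on' with
      | smul a ha n _ =>
        rw [← algebraMap_smul B a n, tmul_smul, algebraMap_smul]
        exact Submodule.smul_mem_smul ha Submodule.mem_top
      | add u _ v _ hu hv => rw [tmul_add]; exact add_mem hu hv


open scoped TensorProduct

open CategoryTheory.Limits in
/-- Let f : X → Y, g : Y' → Y and h : Y' → Z be morphisms of schemes and X' = X ×_Y Y' with projections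
p : X' → X, q : X' → Y'. Call a quasi-coherent module M on a scheme T faithfully flat relative to a
morphism t : T → B when M is flat over B and for every point b of B there is a point u of T over b
with M_u ⊗ κ(b) ≠ 0. Let F be a quasi-coherent O_X-module which is faithfully flat relative to Y and
G' a quasi-coherent O_{Y'}-module. Then G' is flat over Z if and only if p^*F ⊗ q^*G' is flat over Z
(for q followed by h); and G' is faithfully flat relative to Z if and only if p^*F ⊗ q^*G' is
faithfully flat relative to Z. -/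
theorem result {X Y Y' Z : Scheme.{u}} (f : X ⟶ Y) (g : Y' ⟶ Y)
    (h : Y' ⟶ Z) (F : X.Modules) (hF : Coh.IsQCoh F) (hFfl : FlatMod.IsFlatOver f F)
    (hFff : ∀ y : ↥Y, ∃ x : ↥X, f x = y ∧
      letI := FlatMod.moduleStalkOver f F x
      IsLocalRing.maximalIdeal (Y.presheaf.stalk (f x)) • (⊤ : Submodule (Y.presheaf.stalk (f x)) (F.presheaf.stalk x)) ≠ ⊤)
    (G' : Y'.Modules) (hG' : Coh.IsQCoh G') :
    (FlatMod.IsFlatOver h G' ↔ FlatMod.IsFlatOver (pullback.snd f g ≫ h) (CohB1.tensorMod ((Scheme.Modules.pullback (pullback.fst f g)).obj F) ((Scheme.Modules.pullback (pullback.snd f g)).obj G'))) ∧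
    ((FlatMod.IsFlatOver h G' ∧ ∀ z : ↥Z, ∃ y' : ↥Y', h y' = z ∧
        letI := FlatMod.moduleStalkOver h G' y'
        IsLocalRing.maximalIdeal (Z.presheaf.stalk (h y')) • (⊤ : Submodule (Z.presheaf.stalk (h y')) (G'.presheaf.stalk y')) ≠ ⊤) ↔
      (FlatMod.IsFlatOver (pullback.snd f g ≫ h) (CohB1.tensorMod ((Scheme.Modules.pullback (pullback.fst f g)).obj F) ((Scheme.Modules.pullback (pullback.snd f g)).obj G')) ∧
        ∀ z : ↥Z, ∃ x' : ↥(pullback f g), (pullback.snd f g ≫ h) x' = z ∧
          letI := FlatMod.moduleStalkOver (pullback.snd f g ≫ h) (CohB1.tensorMod ((Scheme.Modules.pullback (pullback.fst f g)).obj F) ((Scheme.Modules.pullback (pullback.snd f g)).obj G')) x'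
          IsLocalRing.maximalIdeal (Z.presheaf.stalk ((pullback.snd f g ≫ h) x')) •
            (⊤ : Submodule (Z.presheaf.stalk ((pullback.snd f g ≫ h) x')) ((CohB1.tensorMod ((Scheme.Modules.pullback (pullback.fst f g)).obj F) ((Scheme.Modules.pullback (pullback.snd f g)).obj G')).presheaf.stalk x')) ≠ ⊤)) := by

  obtain ⟨hF'fl, hF'ff⟩ := Groth.Agent.S4680.result f g F hF hFfl hFff
  let q := pullback.snd f g
  let F' := (Scheme.Modules.pullback (pullback.fst f g)).obj F
  let N := CohB1.tensorMod F' ((Scheme.Modules.pullback q).obj G')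
  have key : ∀ x' : ↥(pullback f g),
      (FlatMod.IsFlatOverAt h G' (q x') → FlatMod.IsFlatOverAt (q ≫ h) N x') ∧
      ((letI := FlatMod.moduleStalkOver (q ≫ h) N x'
        IsLocalRing.maximalIdeal (Z.presheaf.stalk ((q ≫ h) x')) •
          (⊤ : Submodule (Z.presheaf.stalk ((q ≫ h) x')) (N.presheaf.stalk x')) ≠ ⊤) →
        (letI := FlatMod.moduleStalkOver h G' (q x')
         IsLocalRing.maximalIdeal (Z.presheaf.stalk (h (q x'))) •
          (⊤ : Submodule (Z.presheaf.stalk (h (q x'))) (G'.presheaf.stalk (q x'))) ≠ ⊤)) ∧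
      ((letI := FlatMod.moduleStalkOver q F' x'
        IsLocalRing.maximalIdeal (Y'.presheaf.stalk (q x')) •
          (⊤ : Submodule (Y'.presheaf.stalk (q x')) (F'.presheaf.stalk x')) ≠ ⊤) →
        (FlatMod.IsFlatOverAt (q ≫ h) N x' → FlatMod.IsFlatOverAt h G' (q x')) ∧
        ((letI := FlatMod.moduleStalkOver h G' (q x')
          IsLocalRing.maximalIdeal (Z.presheaf.stalk (h (q x'))) •
            (⊤ : Submodule (Z.presheaf.stalk (h (q x'))) (G'.presheaf.stalk (q x'))) ≠ ⊤) →
          (letI := FlatMod.moduleStalkOver (q ≫ h) N x'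
           IsLocalRing.maximalIdeal (Z.presheaf.stalk ((q ≫ h) x')) •
            (⊤ : Submodule (Z.presheaf.stalk ((q ≫ h) x')) (N.presheaf.stalk x')) ≠ ⊤))) := by
    intro x'
    let B := Y'.presheaf.stalk (q x')
    let O' := (pullback f g).presheaf.stalk x'
    let A := Z.presheaf.stalk (h (q x'))
    letI : Algebra B O' := (q.stalkMap x').hom.toAlgebra
    letI : Algebra A B := (h.stalkMap (q x')).hom.toAlgebra
    letI : Algebra A O' := ((q ≫ h).stalkMap x').hom.toAlgebra
    haveI : IsScalarTower A B O' := IsScalarTower.of_algebraMap_eq fun a => by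
      show (q ≫ h).stalkMap x' a = q.stalkMap x' (h.stalkMap (q x') a)
      rw [Scheme.Hom.stalkMap_comp]
      rfl
    letI : Module B (F'.presheaf.stalk x') := FlatMod.moduleStalkOver q F' x'
    haveI : IsScalarTower B O' (F'.presheaf.stalk x') := IsScalarTower.of_algebraMap_smul fun _ _ => rfl
    letI : Module A (F'.presheaf.stalk x') := FlatMod.moduleStalkOver (q ≫ h) F' x'
    haveI : IsScalarTower A O' (F'.presheaf.stalk x') := IsScalarTower.of_algebraMap_smul fun _ _ => rfl
    haveI : IsScalarTower A B (F'.presheaf.stalk x') := IsScalarTower.to₁₂₄ A B O' _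
    letI : Module A (G'.presheaf.stalk (q x')) := FlatMod.moduleStalkOver h G' (q x')
    haveI : IsScalarTower A B (G'.presheaf.stalk (q x')) := IsScalarTower.of_algebraMap_smul fun _ _ => rfl
    letI : Module A (N.presheaf.stalk x') := FlatMod.moduleStalkOver (q ≫ h) N x'
    haveI : IsScalarTower A O' (N.presheaf.stalk x') := IsScalarTower.of_algebraMap_smul fun _ _ => rfl
    haveI : Module.Flat B (F'.presheaf.stalk x') := hF'fl x'
    obtain ⟨e₀⟩ := Groth.Agent.S4678.exists_tensor_stalkEquiv q F' G' hG' x'
    let e := e₀.restrictScalars A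
    have htop : IsLocalRing.maximalIdeal A • (⊤ : Submodule A (N.presheaf.stalk x')) = ⊤ ↔
        IsLocalRing.maximalIdeal A •
          (⊤ : Submodule A (F'.presheaf.stalk x' ⊗[B] G'.presheaf.stalk (q x'))) = ⊤ := by
      rw [← (Submodule.map_injective_of_injective (f := e.toLinearMap) e.injective).eq_iff,
        Submodule.map_smul'', Submodule.map_top, LinearMap.range_eq_top.2 e.surjective]
    refine ⟨fun hG => ?_, fun hN hG => hN (htop.2 ?_), fun hne => ?_⟩
    · haveI : Module.Flat A (G'.presheaf.stalk (q x')) := hG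
      have k : Module.Flat A (F'.presheaf.stalk x' ⊗[B] G'.presheaf.stalk (q x')) :=
        Groth.Agent.S4678.flat_tensor_trans A B _ _
      show Module.Flat A (N.presheaf.stalk x')
      exact Module.Flat.of_linearEquiv e
    · refine Submodule.eq_top_iff'.2 fun t => ?_
      induction t using TensorProduct.induction_on with
      | zero => exact zero_mem _
      | add u v hu hv => exact add_mem hu hv
      | tmul m n =>
        have hn : n ∈ IsLocalRing.maximalIdeal A • (⊤ : Submodule A (G'.presheaf.stalk (q x'))) :=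
          (Submodule.eq_top_iff'.1 hG) n
        induction hn using Submodule.smul_induction_on' with
        | smul a ha n _ =>
          rw [← algebraMap_smul B a n, TensorProduct.tmul_smul, algebraMap_smul]
          exact Submodule.smul_mem_smul ha Submodule.mem_top
        | add u _ v _ hu hv => rw [TensorProduct.tmul_add]; exact add_mem hu hv
    · haveI : Module.FaithfullyFlat B (F'.presheaf.stalk x') :=
        ⟨fun {m} hm => by rw [IsLocalRing.eq_maximalIdeal hm]; exact hne⟩
      refine ⟨fun hN => ?_, fun hG hN => hG ((smul_top_iff A B _ _ _).1 (htop.1 hN))⟩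
      haveI : Module.Flat A (N.presheaf.stalk x') := hN
      haveI := Module.Flat.of_linearEquiv e.symm
      exact flat_right A B (F'.presheaf.stalk x') (G'.presheaf.stalk (q x'))
  have hiff : FlatMod.IsFlatOver h G' ↔ FlatMod.IsFlatOver (q ≫ h) N := by
    refine ⟨fun hG x' => (key x').1 (hG _), fun hN y' => ?_⟩
    obtain ⟨x', rfl, hne⟩ := hF'ff y'
    exact ((key x').2.2 hne).1 (hN x')
  refine ⟨hiff, fun ⟨hG, hz⟩ => ⟨hiff.1 hG, fun z => ?_⟩, fun ⟨hN, hz⟩ => ⟨hiff.2 hN, fun z => ?_⟩⟩
  · obtain ⟨y', rfl, hy⟩ := hz z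
    obtain ⟨x', rfl, hne⟩ := hF'ff y'
    exact ⟨x', rfl, ((key x').2.2 hne).2 hy⟩
  · obtain ⟨x', rfl, hx⟩ := hz z
    exact ⟨q x', rfl, (key x').2.1 hx⟩

end Groth.Agent.S4679
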