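import Groth.Statements.S4682
import Groth.Agent.FBaseLib.Product
import Groth.Agent.H23.RedSub

set_option autoImplicit false
open CategoryTheory AlgebraicGeometry
universe u
open CategoryTheory.Limits
open FBase

namespace Groth.Agent.S4682

/-- Let Y be a scheme over a field K', let K be an extension field of K' which is separable over K'
(Spec K → Spec K' is geometrically reduced), let g : Y ⊗_{K'} K → Y be the projection and T a closed
subset of Y ⊗_{K'} K. Then T is defined over K' as a closed subset, that is T = g⁻¹(T') for some
closed subset T' of Y, if and only if the reduced closed subscheme of Y ⊗_{K'} K with support T is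
defined over K', that is, there is a quasi-coherent ideal sheaf of O_Y whose inverse image in Y
⊗_{K'} K is the vanishing ideal sheaf of T. -/
theorem result {K' K : Type u} [Field K'] [Field K] [Algebra K' K]
    {Y : Scheme.{u}} (fY : Y ⟶ Spec (CommRingCat.of K'))
    [GeometricallyReduced (Spec.map (CommRingCat.ofHom (algebraMap K' K)))]
    (T : TopologicalSpace.Closeds ↥(FBase.bc fY K)) :
    (∃ T' : TopologicalSpace.Closeds ↥Y, (T : Set ↥(FBase.bc fY K)) = ⇑(FBase.bcπ fY K) ⁻¹' (T' : Set ↥Y)) ↔
      ∃ J : Y.IdealSheafData, J.comap (FBase.bcπ fY K) = Scheme.IdealSheafData.vanishingIdeal T := by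
  let π := FBase.bcπ fY K
  constructor
  · rintro ⟨T', hT⟩
    refine ⟨Scheme.IdealSheafData.vanishingIdeal T', ?_⟩
    let J := Scheme.IdealSheafData.vanishingIdeal T'
    let σ := Spec.map (CommRingCat.ofHom (algebraMap K' K))
    haveI : AlgebraicGeometry.IsReduced J.subscheme := Groth.Agent.H23.RedSub.isReduced_vanishingIdeal T'
    haveI : AlgebraicGeometry.IsReduced (pullback σ (J.subschemeι ≫ fY)) :=
      Groth.Agent.FBaseLib.isReduced_pullback σ (J.subschemeι ≫ fY)
    haveI : AlgebraicGeometry.IsReduced (J.comap π).subscheme :=
      isReduced_of_isOpenImmersion ((J.comapIso π ≪≫ pullbackSymmetry _ _ ≪≫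
        pullbackRightPullbackFstIso fY σ J.subschemeι ≪≫ pullbackSymmetry _ _).hom)
    have hrad : (J.comap π).radical = J.comap π := by
      ext U : 2
      exact (Groth.Agent.H23.RedSub.isRadical_of_isReduced_subscheme U).radical
    show J.comap π = _
    rw [← hrad, ← Scheme.IdealSheafData.vanishingIdeal_support]
    congr 1
    apply SetLike.coe_injective
    rw [Scheme.IdealSheafData.support_comap, TopologicalSpace.Closeds.coe_preimage,
      Scheme.IdealSheafData.coe_support_vanishingIdeal, hT]
  · rintro ⟨J, hJ⟩
    refine ⟨J.support, ?_⟩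
    have h1 : ((J.comap π).support : Set ↥(FBase.bc fY K)) = ⇑π ⁻¹' (J.support : Set ↥Y) := by
      rw [Scheme.IdealSheafData.support_comap]; rfl
    rw [← h1, show J.comap π = _ from hJ, Scheme.IdealSheafData.coe_support_vanishingIdeal]

end Groth.Agent.S4682
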