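import Groth.Statements.S4691
import Groth.Agent.FlatDvr.DimFibre
import Groth.Agent.FibDim.LocDim

set_option autoImplicit false
universe u
open EGA4

namespace Groth.Agent.S4691

open AlgebraicGeometry CategoryTheory in
/-- Let Y be a locally Noetherian scheme, f : X → Y a morphism locally of finite type and n a natural
number such that every fibre of f has dimension at most n. Then dim X ≤ dim Y + n. -/
theorem result {X Y : Scheme.{u}} (f : X ⟶ Y) [IsLocallyNoetherian Y]
    [LocallyOfFiniteType f] (n : ℕ) (h : ∀ y : Y, topologicalKrullDim (f.fiber y) ≤ n) :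
    topologicalKrullDim X ≤ topologicalKrullDim Y + n := by
  haveI : IsLocallyNoetherian X := LocallyOfFiniteType.isLocallyNoetherian f
  rw [FibDim.topologicalKrullDim_eq_iSup_codim]
  refine iSup_le fun x => ?_
  refine (DimFormula.ringKrullDim_stalk x).symm.le.trans ?_
  refine (FlatDvr.ringKrullDim_stalk_le f x).trans (add_le_add ?_ ?_)
  · rw [ringKrullDim_stalk_eq_coheight, topologicalKrullDim, Order.krullDim_eq_of_orderIso (irreducibleSetEquivPoints (α := ↥Y))]
    exact Order.coheight_le_krullDim (f x)
  · refine le_trans ?_ (h (f x))
    rw [ringKrullDim_stalk_eq_coheight, topologicalKrullDim,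
      Order.krullDim_eq_of_orderIso (irreducibleSetEquivPoints (α := ↥(f.fiber (f x))))]
    exact Order.coheight_le_krullDim (f.asFiber x)

end Groth.Agent.S4691
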