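import Groth.Statements.S4692
import Groth.Agent.H1Dim.Basic

set_option autoImplicit false
universe u
open EGA4

namespace Groth.Agent.S4692

open AlgebraicGeometry CategoryTheory in
/-- Let Y be a locally Noetherian scheme all of whose local rings are universally catenary, X an
irreducible scheme, f : X → Y a morphism locally of finite type and n a natural number. If every
fibre of f has dimension at least n then dim X ≥ dim Y + n; if every fibre has dimension exactly n
then dim X = dim Y + n. (The empty scheme has dimension ⊥, so either hypothesis forces f to be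
surjective.) -/
theorem result {X Y : Scheme.{u}} (f : X ⟶ Y) [IsLocallyNoetherian Y]
    [LocallyOfFiniteType f] [IrreducibleSpace X] (hY : ∀ y : Y, CAlg.IsUniversallyCatenary (Y.presheaf.stalk y))
    (n : ℕ) :
    ((∀ y : Y, (n : WithBot ℕ∞) ≤ topologicalKrullDim (f.fiber y)) →
        topologicalKrullDim Y + n ≤ topologicalKrullDim X) ∧
      ((∀ y : Y, topologicalKrullDim (f.fiber y) = n) →
        topologicalKrullDim X = topologicalKrullDim Y + n) := by
  have key : ((∀ y : Y, (n : WithBot ℕ∞) ≤ topologicalKrullDim (f.fiber y))) →
      ∃ e : ℕ, topologicalKrullDim X = topologicalKrullDim Y + (e : WithBot ℕ∞) ∧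
        ∃ y : Y, topologicalKrullDim (f.fiber y) = (e : WithBot ℕ∞) := by
    intro h
    have hs : Function.Surjective f.base := fun y => by
      by_contra hy
      haveI : IsEmpty ↥(f.fiber y) := ⟨fun w => hy ⟨_, FibDim.fiber_apply_fiberι f w⟩⟩
      have := h y
      rw [topologicalKrullDim, Order.krullDim_eq_bot_iff.2 ⟨fun Z => Z.isIrreducible.nonempty.elim fun w _ => isEmptyElim w⟩] at this
      exact absurd this (by simp)
    haveI : IrreducibleSpace Y := by
      haveI : Nonempty Y := ⟨f.base (genericPoint X)⟩
      refine irreducibleSpace_def _ |>.2 ?_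
      show IsIrreducible (Set.univ : Set Y)
      rw [← Set.range_eq_univ.2 hs]
      exact Set.image_univ ▸ (IrreducibleSpace.isIrreducible_univ X).image f.base f.continuous.continuousOn
    haveI : IsDominant f := ⟨hs.denseRange⟩
    refine ⟨FibDim.rd f (genericPoint X), ?_, genericPoint Y, (DimFormula.generic_fibre_dim f).2⟩
    have h2 : (⨆ y ∈ Set.range f.base, ringKrullDim (Y.presheaf.stalk y)) = topologicalKrullDim Y := by
      simp only [Set.range_eq_univ.2 hs, Set.mem_univ, iSup_pos, DimFormula.ringKrullDim_stalk]
      exact (FibDim.topologicalKrullDim_eq_iSup_codim).symm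
    rw [H1Dim.dim_eq f hY, h2]
    rfl
  refine ⟨fun h => ?_, fun h => ?_⟩
  · obtain ⟨e, he, y, hy⟩ := key h
    rw [he]
    exact add_le_add le_rfl ((h y).trans hy.le)
  · obtain ⟨e, he, y, hy⟩ := key fun y => (h y).ge
    rw [he, ← hy, h y]

end Groth.Agent.S4692
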