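import Groth.Statements.S4693
import Groth.Agent.S5769
import Groth.Agent.FlatLoc6.Supp

set_option autoImplicit false
universe u
open EGA4

namespace Groth.Agent.S4693

/-- Let A → B be a local homomorphism of Noetherian local rings such that the closed fibre ring B/m_A B
has Krull dimension 0 (that is, m_A B is an ideal of definition of B). Then dim B ≤ dim A. If
moreover some finite B-module which is flat over A has support equal to all of Spec B (for instance
if B is flat over A), then dim B = dim A. -/
theorem result (A B : Type u) [CommRing A] [CommRing B] [IsNoetherianRing A]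
    [IsNoetherianRing B] [IsLocalRing A] [IsLocalRing B] [Algebra A B] [IsLocalHom (algebraMap A B)]
    (h0 : ringKrullDim (EGA4.FibRing A B) = 0) :
    ringKrullDim B ≤ ringKrullDim A ∧
      (∀ (N : Type u) [AddCommGroup N] [Module B N] [Module A N] [IsScalarTower A B N] [Module.Finite B N]
          [Module.Flat A N], Module.support B N = Set.univ → ringKrullDim B = ringKrullDim A) := by
  refine ⟨(S5769.result A B).trans (le_of_eq ?_), ?_⟩
  · show ringKrullDim A + ringKrullDim (EGA4.FibRing A B) = ringKrullDim A
    rw [h0, add_zero]
  intro N _ _ _ _ _ _ hsupp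
  have hN : Nontrivial N := Module.nonempty_support_iff.1 (hsupp ▸ Set.univ_nonempty)
  have h := FlatLoc6.supportDim_tensor (A := A) (B := B) (N := N) (M := A)
  rw [Module.supportDim_eq_of_equiv (TensorProduct.AlgebraTensorModule.rid A B N),
    Module.supportDim_self_eq_ringKrullDim] at h
  have hB : Module.supportDim B N = ringKrullDim B := by
    rw [Module.supportDim, hsupp]
    exact Order.krullDim_eq_of_orderIso OrderIso.Set.univ
  rw [hB] at h
  rw [h]
  suffices h1 : Module.supportDim B (N ⧸ FlatLoc6.mN A B N) = 0 by rw [h1, add_zero]
  have hmN : FlatLoc6.mN A B N = EGA4.mB A B • (⊤ : Submodule B N) := rfl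
  have hmax : EGA4.mB A B ≤ IsLocalRing.maximalIdeal B :=
    Ideal.map_le_iff_le_comap.2 fun a ha => map_nonunit (algebraMap A B) a ha
  have hne : Nontrivial (N ⧸ FlatLoc6.mN A B N) := Submodule.Quotient.nontrivial_iff.mpr fun h2 =>
    Submodule.top_ne_ideal_smul_of_le_jacobson_annihilator
      (hmax.trans (IsLocalRing.maximalIdeal_le_jacobson _)) (h2.symm.trans hmN)
  refine le_antisymm ?_ ?_
  · rw [← h0, Module.supportDim_eq_ringKrullDim_quotient_annihilator]
    have hle : EGA4.mB A B ≤ Module.annihilator B (N ⧸ FlatLoc6.mN A B N) := by
      intro b hb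
      rw [Module.mem_annihilator]
      intro x
      obtain ⟨x, rfl⟩ := Submodule.Quotient.mk_surjective _ x
      rw [← Submodule.Quotient.mk_smul, Submodule.Quotient.mk_eq_zero, hmN]
      exact Submodule.smul_mem_smul hb Submodule.mem_top
    exact ringKrullDim_le_of_surjective _ (Ideal.Quotient.factor_surjective hle)
  · have : Nonempty (Module.support B (N ⧸ FlatLoc6.mN A B N)) :=
      (Module.nonempty_support_iff.mpr hne).to_subtype
    exact Order.krullDim_nonneg

end Groth.Agent.S4693
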