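import Groth.Statements.S4694
import Groth.Agent.S2062
import Groth.Agent.S5752

set_option autoImplicit false
universe u
open EGA4

namespace Groth.Agent.S4694

open TensorProduct in
/-- Let A → B be a local homomorphism of Noetherian local rings, M a finite A-module and N a nonzero
finite B-module, flat over A, whose closed-fibre module N/m_A N has finite length. Then the depth of
the B-module N ⊗_A M equals the depth of the A-module M. (The companion equality of codepths in the
published item is not restated.) -/
theorem result {A B M N : Type u} [CommRing A] [CommRing B]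
    [IsNoetherianRing A] [IsNoetherianRing B] [IsLocalRing A] [IsLocalRing B] [Algebra A B]
    [IsLocalHom (algebraMap A B)] [AddCommGroup M] [Module A M] [Module.Finite A M]
    [AddCommGroup N] [Module B N] [Module A N] [IsScalarTower A B N] [Module.Finite B N] [Nontrivial N]
    [Module.Flat A N] (hN : IsFiniteLength B (EGA4.FibMod A B N)) :
    LocCoh.depth B (N ⊗[A] M) = LocCoh.depth A M := by
  rw [S2062.result (R := A) (S := B) (M := M) (N := N)]
  suffices h : LocCoh.depth B (N ⧸ (IsLocalRing.maximalIdeal A).map (algebraMap A B) • (⊤ : Submodule B N)) = 0 by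
    rw [h, add_zero]
  let Q := N ⧸ (IsLocalRing.maximalIdeal A).map (algebraMap A B) • (⊤ : Submodule B N)
  have hle : (IsLocalRing.maximalIdeal A).map (algebraMap A B) ≤ IsLocalRing.maximalIdeal B :=
    Ideal.map_le_iff_le_comap.2 fun a ha => map_nonunit (algebraMap A B) a ha
  have : Nontrivial Q := Submodule.Quotient.nontrivial_iff.mpr fun h =>
    Submodule.top_ne_ideal_smul_of_le_jacobson_annihilator
      (hle.trans (IsLocalRing.maximalIdeal_le_jacobson _)) h.symm
  rw [S5752.result]
  obtain ⟨P, hP⟩ := associatedPrimes.nonempty B Q
  have hP' : P.IsPrime := IsAssociatedPrime.isPrime hP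
  obtain ⟨f, hf⟩ := (isAssociatedPrime_iff_exists_injective_linearMap P Q).1 hP |>.2
  have : IsArtinian B Q := (isFiniteLength_iff_isNoetherian_isArtinian.1 hN).2
  have : IsArtinian B (B ⧸ P) := isArtinian_of_injective f hf
  have : IsArtinianRing (B ⧸ P) := isArtinian_of_tower B this
  have : P.IsMaximal := Ideal.Quotient.maximal_of_isField _ (IsArtinianRing.isField_of_isDomain (B ⧸ P))
  exact (IsLocalRing.eq_maximalIdeal this) ▸ hP

end Groth.Agent.S4694
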