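import Groth.Statements.S4702
import Groth.Agent.H1Dim.Basic

set_option autoImplicit false
universe u
open EGA4

namespace Groth.Agent.S4702

open AlgebraicGeometry CategoryTheory in
/-- Let Y be an irreducible locally Noetherian scheme of dimension 1, X an irreducible scheme and f : X
→ Y a dominant morphism of finite type. Then for every point y in the image of f, every irreducible
component of the fibre of f at y has dimension equal to the dimension of the generic fibre. -/
theorem result {X Y : Scheme.{u}} (f : X ⟶ Y) [IsLocallyNoetherian Y]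
    [IrreducibleSpace Y] [IrreducibleSpace X] (hY : topologicalKrullDim Y = 1) [LocallyOfFiniteType f]
    [QuasiCompact f] (hf : DenseRange f.base) (y : Y) (hy : y ∈ Set.range f.base)
    (Z : Set ↥(f.fiber y)) (hZ : Z ∈ irreducibleComponents ↥(f.fiber y)) :
    topologicalKrullDim Z = topologicalKrullDim ↥(f.fiber (genericPoint Y)) := by
  haveI : IsDominant f := ⟨hf⟩
  haveI := LocallyOfFiniteType.isLocallyNoetherian f
  obtain ⟨hgen, hdim⟩ := DimFormula.generic_fibre_dim f
  obtain ⟨z, ⟨hz, hmax⟩, hzZ⟩ := (FibDim.fiber_component_dims f y).le ⟨Z, hZ, rfl⟩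
  dsimp only at hzZ
  rw [← hzZ, hdim]
  have hsp : genericPoint X ⤳ z := (genericPoint_spec X).specializes (Set.mem_univ z)
  suffices FibDim.rd f z = FibDim.rd f (genericPoint X) by rw [this]
  by_cases h0 : y = genericPoint Y
  · rw [hmax _ hsp (by rw [hgen, hz, h0])]
  refine le_antisymm ?_ ?_
  · have h1 := (H1Dim.codim_add_rd_le f z).1
    have h2 : DimFormula.codim (f z) ≤ 1 := by
      have h3 := le_iSup (fun t : Y => ((DimFormula.codim t : ℕ∞) : WithBot ℕ∞)) (f z)
      rw [← FibDim.topologicalKrullDim_eq_iSup_codim, hY] at h3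
      exact_mod_cast h3
    have h4 : DimFormula.codim z ≠ 0 := fun h => h0 (by
      rw [← hgen, DimFormula.codim_eq_zero_iff.1 h _ hsp]
      exact hz.symm)
    omega
  · have h1 := FibDim.fibreDimAt_ge_rd f hsp
    rw [FibDim.fibreDimAt_eq_rd f hmax] at h1
    exact_mod_cast h1

end Groth.Agent.S4702
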