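import Groth.Statements.S4712
import Groth.Agent.Goldman.Scheme

set_option autoImplicit false
universe u
open EGA4

namespace Groth.Agent.S4712

open AlgebraicGeometry in
/-- Let X be a locally Noetherian scheme and x a point such that {x} is locally closed in X. Then the
closure of {x} has dimension at most 1, and every point of that closure other than x is a closed
point of X. -/
theorem result (X : Scheme.{u}) [IsLocallyNoetherian X] (x : X)
    (hx : IsLocallyClosed ({x} : Set X)) :
    topologicalKrullDim (closure ({x} : Set X)) ≤ 1 ∧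
      ∀ y ∈ closure ({x} : Set X), y ≠ x → IsClosed ({y} : Set X) := by
  have h2 : ∀ y ∈ closure ({x} : Set X), y ≠ x → IsClosed ({y} : Set X) := fun y hy hne =>
    Goldman.isClosed_of_specializes hx (specializes_iff_mem_closure.mpr hy) hne
  refine ⟨?_, h2⟩
  rw [topologicalKrullDim, Order.krullDim_le_one_iff]
  intro Z
  have himg : IsIrreducible (Subtype.val '' (Z : Set (closure ({x} : Set X)))) :=
    Z.isIrreducible'.image _ continuous_subtype_val.continuousOn
  have hcl : IsClosed (Subtype.val '' (Z : Set (closure ({x} : Set X)))) :=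
    (isClosed_closure.isClosedEmbedding_subtypeVal).isClosedMap _ Z.isClosed'
  obtain ⟨r, hr⟩ := QuasiSober.sober himg hcl
  obtain ⟨r', hr', hrr⟩ : r ∈ Subtype.val '' (Z : Set (closure ({x} : Set X))) := hr.mem
  by_cases hrx : r = x
  · right
    intro W hW
    intro w hw
    have hwx : (w : X) ∈ closure ({r} : Set X) := by rw [hrx]; exact w.2
    rw [hr.def] at hwx
    obtain ⟨w', hw', hww⟩ := hwx
    rwa [← Subtype.ext hww]
  · left
    intro W hW w hw
    have hrc : IsClosed ({r} : Set X) := h2 r (hrr ▸ r'.2) hrx
    have hZr : ∀ z ∈ (Z : Set (closure ({x} : Set X))), (z : X) = r := fun z hz => by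
      have : (z : X) ∈ closure ({r} : Set X) := by rw [hr.def]; exact ⟨z, hz, rfl⟩
      rwa [hrc.closure_eq] at this
    obtain ⟨v, hv⟩ := W.isIrreducible'.nonempty
    have : w = v := Subtype.ext ((hZr w hw).trans (hZr v (hW hv)).symm)
    rwa [this]

end Groth.Agent.S4712
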