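import Groth.Statements.S4714
import Groth.Agent.H1Dim.Cut

set_option autoImplicit false
universe u
open EGA4

namespace Groth.Agent.S4714

open AlgebraicGeometry CategoryTheory in
/-- For a section of the structure sheaf: let X be a scheme locally of finite type over a field k and f
a global section of O_X whose zero locus Y is nowhere dense in X. Then dim Y + 1 ≤ dim X. If
moreover some irreducible component of X has dimension equal to dim X and Y meets every such
component, then dim Y + 1 = dim X. (The published statement is for a section of an invertible sheaf;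
the existence of a component of maximal dimension, implicit in the published wording, is made a
hypothesis of the equality clause.) -/
theorem result (k : Type u) [Field k] (X : Scheme.{u}) (p : X ⟶ Spec (CommRingCat.of k))
    [LocallyOfFiniteType p] (f : Γ(X, ⊤)) (hY : interior (X.zeroLocus (U := ⊤) {f}) = ∅) :
    topologicalKrullDim (X.zeroLocus (U := ⊤) {f}) + 1 ≤ topologicalKrullDim X ∧
      ((∃ Z ∈ irreducibleComponents (X : Type u), topologicalKrullDim Z = topologicalKrullDim X) →
        (∀ Z ∈ irreducibleComponents (X : Type u), topologicalKrullDim Z = topologicalKrullDim X →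
          (Z ∩ X.zeroLocus (U := ⊤) {f}).Nonempty) →
        topologicalKrullDim (X.zeroLocus (U := ⊤) {f}) + 1 = topologicalKrullDim X) := by
  haveI := LocallyOfFiniteType.isLocallyNoetherian p
  haveI := FibDim.subsingleton_spec_field k
  haveI : JacobsonSpace X := LocallyOfFiniteType.jacobsonSpace p
  have hYc : IsClosed (X.zeroLocus (U := ⊤) {f}) := X.zeroLocus_isClosed _
  rw [H1Dim.dim_closed p hYc, FibDim.topologicalKrullDim_eq_iSup_rd p]
  have hd : Dense (X.zeroLocus (U := ⊤) {f})ᶜ := by
    rwa [← interior_eq_empty_iff_dense_compl]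
  have h1 : (⨆ z : ↥(X.zeroLocus (U := ⊤) {f}), ((FibDim.rd p z.1 : ℕ∞) : WithBot ℕ∞)) + 1 ≤
      ⨆ x : X, ((FibDim.rd p x : ℕ∞) : WithBot ℕ∞) := by
    rcases (X.zeroLocus (U := ⊤) {f}).eq_empty_or_nonempty with h | ⟨y, hy⟩
    · haveI : IsEmpty ↥(X.zeroLocus (U := ⊤) {f}) := Set.isEmpty_coe_sort.2 h
      rw [iSup_of_empty, WithBot.bot_add]
      exact bot_le
    haveI : Nonempty ↥(X.zeroLocus (U := ⊤) {f}) := ⟨⟨y, hy⟩⟩
    refine (H1Dim.coe_iSup_add _ 1).ge.trans (iSup_le fun z => ?_)
    obtain ⟨η, hη, hmax⟩ := FibDim.exists_maximal_generization z.1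
    have hηY := DimFormula.dense_mem_maximal hYc.isOpen_compl hd hmax
    have e := H1Dim.cd_add_rd p hη
    have hne : DimFormula.cd η z.1 ≠ 0 := fun h => hηY (((DimFormula.cd_eq_zero_iff hη).1 h) ▸ z.2)
    refine le_trans ?_ (le_iSup _ η)
    exact_mod_cast (show FibDim.rd p z.1 + 1 ≤ FibDim.rd p η by omega)
  refine ⟨h1, ?_⟩
  rintro ⟨Z, hZ, hdim⟩ hmeet
  refine le_antisymm h1 ?_
  obtain ⟨η, rfl, hmax⟩ := FDescent.exists_maximal_of_mem_irreducibleComponents hZ
  obtain ⟨x, hxη, hx⟩ := hmeet _ hZ hdim
  obtain ⟨y, hy, hle⟩ := H1Dim.exists_rd_le_add_one p f (specializes_iff_mem_closure.2 hxη) hx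
  rw [FibDim.topologicalKrullDim_closure p] at hdim
  rw [← hdim]
  refine le_trans ?_ (add_le_add (le_iSup _ ⟨y, hy⟩) le_rfl)
  exact_mod_cast hle

end Groth.Agent.S4714
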