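import Groth.Statements.S4715
import Mathlib

set_option autoImplicit false
universe u
open EGA4

namespace Groth.Agent.S4715

open AlgebraicGeometry CategoryTheory in
/-- Let f : X → Y be a quasi-finite morphism (of finite type with discrete fibres) of locally Noetherian
schemes. Then dim X is at most the dimension of the closure of f(X), which is at most dim Y. -/
theorem result {X Y : Scheme.{u}} (f : X ⟶ Y) [IsLocallyNoetherian X] [IsLocallyNoetherian Y]
    [LocallyQuasiFinite f] [LocallyOfFiniteType f] [QuasiCompact f] :
    topologicalKrullDim X ≤ topologicalKrullDim (closure (Set.range f.base)) ∧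
      topologicalKrullDim (closure (Set.range f.base)) ≤ topologicalKrullDim Y := by
  refine ⟨?_, topologicalKrullDim_subspace_le Y _⟩
  have hgen : ∀ Z : TopologicalSpace.IrreducibleCloseds X, ∃ z : X, IsGenericPoint z (Z : Set X) := fun Z =>
    QuasiSober.sober Z.isIrreducible' Z.isClosed'
  choose g hg using hgen
  have hmem : ∀ Z, f.base (g Z) ∈ closure (Set.range f.base) := fun Z => subset_closure ⟨_, rfl⟩
  let φ : TopologicalSpace.IrreducibleCloseds X → TopologicalSpace.IrreducibleCloseds (closure (Set.range f.base)) := fun Z =>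
    ⟨closure {(⟨f.base (g Z), hmem Z⟩ : closure (Set.range f.base))}, isIrreducible_singleton.closure, isClosed_closure⟩
  refine Order.krullDim_le_of_strictMono φ fun Z W hZW => ?_
  have hle : (Z : Set X) ⊆ (W : Set X) := hZW.le
  have hs : g W ⤳ g Z := (hg W).specializes (hle (hg Z).mem)
  have hsub : φ Z ≤ φ W := fun y hy =>
    closure_minimal (Set.singleton_subset_iff.mpr
      (specializes_iff_mem_closure.mp (subtype_specializes_iff _ _ |>.mpr (hs.map f.continuous)))) isClosed_closure hy
  refine lt_of_le_of_ne hsub fun heq => hZW.ne ?_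
  have hW : (⟨f.base (g W), hmem W⟩ : closure (Set.range f.base)) ∈ ((φ Z : TopologicalSpace.IrreducibleCloseds _) : Set (closure (Set.range f.base))) := by
    rw [heq]; exact subset_closure rfl
  have h1 : f.base (g Z) ⤳ f.base (g W) := (subtype_specializes_iff _ _).mp (specializes_iff_mem_closure.mpr hW)
  have h2 : f.base (g Z) = f.base (g W) := h1.antisymm (hs.map f.continuous) |>.eq
  have h3 : g W = g Z := by
    have hd : _root_.IsDiscrete (f.base ⁻¹' {f.base (g Z)}) := f.isDiscrete_preimage_singleton _
    haveI := hd.to_subtype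
    have h' : (⟨g W, h2.symm⟩ : (f.base ⁻¹' {f.base (g Z)} : Set X)) ⤳ ⟨g Z, rfl⟩ := (subtype_specializes_iff _ _).2 hs
    exact congrArg Subtype.val h'.eq
  apply SetLike.coe_injective
  rw [← (hg Z).def, ← (hg W).def, h3]

end Groth.Agent.S4715
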