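import Groth.Statements.S4718
import Groth.Statements.S4718
import Groth.Agent.S2669
import Groth.Agent.Alg6.LocLoc
import Groth.Agent.LC.ExtDim
set_option linter.style.haveILetI false

set_option autoImplicit false
universe u
open EGA4

namespace Groth.Agent.S4718

/-- Let A be a Noetherian local ring, B a Noetherian ring, A → B a ring homomorphism and M a nonzero
B-module which is finite as an A-module. Then M is a Cohen–Macaulay A-module if and only if, for all
primes q of B lying over the maximal ideal of A and belonging to the support of M, the B_q-module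
M_q is Cohen–Macaulay and all these modules M_q have the same dimension. -/
theorem result (A B : Type u) [CommRing A] [CommRing B]
    [IsNoetherianRing A] [IsLocalRing A] [IsNoetherianRing B] [Algebra A B]
    (M : Type u) [AddCommGroup M] [Module B M] [Module A M] [IsScalarTower A B M] [Module.Finite A M]
    [Nontrivial M] :
    LocCoh.IsCohenMacaulayModule A M ↔
      (∀ q ∈ {q : PrimeSpectrum B | q.asIdeal.comap (algebraMap A B) = IsLocalRing.maximalIdeal A ∧
          q ∈ Module.support B M},
        LocCoh.IsCohenMacaulayModule (Localization.AtPrime q.asIdeal) (LocalizedModule q.asIdeal.primeCompl M)) ∧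
      (∀ q ∈ {q : PrimeSpectrum B | q.asIdeal.comap (algebraMap A B) = IsLocalRing.maximalIdeal A ∧
          q ∈ Module.support B M},
        ∀ q' ∈ {q : PrimeSpectrum B | q.asIdeal.comap (algebraMap A B) = IsLocalRing.maximalIdeal A ∧
          q ∈ Module.support B M},
          Module.supportDim (Localization.AtPrime q.asIdeal) (LocalizedModule q.asIdeal.primeCompl M) =
            Module.supportDim (Localization.AtPrime q'.asIdeal) (LocalizedModule q'.asIdeal.primeCompl M)) := by
  haveI : Module.Finite B M := Module.Finite.of_restrictScalars_finite A B M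
  set m : Ideal A := IsLocalRing.maximalIdeal A with hmdef
  set Q : Set (PrimeSpectrum B) := {q : PrimeSpectrum B | q.asIdeal.comap (algebraMap A B) = m ∧
      q ∈ Module.support B M} with hQ
  have hu : ∀ s : m.primeCompl, IsUnit (s : A) := fun s => by
    by_contra h
    exact s.2 ((IsLocalRing.mem_maximalIdeal _).mpr h)
  have hbij : Function.Bijective (LocalizedModule.mkLinearMap m.primeCompl M) := by
    refine ⟨fun x y hxy => ?_, fun z => ?_⟩
    · rw [LocalizedModule.mkLinearMap_apply, LocalizedModule.mkLinearMap_apply, LocalizedModule.mk_eq] at hxy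
      obtain ⟨c, hc⟩ := hxy
      simp only [Submonoid.smul_def, one_smul] at hc
      exact (hu c).smul_left_cancel.mp hc
    · induction z using LocalizedModule.induction_on with
      | h x s =>
        refine ⟨((hu s).unit⁻¹ : Aˣ) • x, ?_⟩
        rw [LocalizedModule.mkLinearMap_apply, LocalizedModule.mk_eq]
        refine ⟨1, ?_⟩
        simp only [Submonoid.smul_def, one_smul]
        exact smul_inv_smul (hu s).unit x
  have hσ : Function.Surjective (algebraMap A (Localization.AtPrime m)) := fun z => by
    obtain ⟨⟨a, s⟩, hz⟩ := IsLocalization.surj m.primeCompl z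
    refine ⟨a * ((hu s).unit⁻¹ : Aˣ), ?_⟩
    rw [map_mul, ← hz, mul_assoc, ← map_mul, IsUnit.mul_val_inv (hu s), map_one, mul_one]
  let e := (LinearEquiv.ofBijective _ hbij).toAddEquiv
  have he : ∀ (r : A) (x : M), e (r • x) = algebraMap A (Localization.AtPrime m) r • e x := fun r x => by
    rw [algebraMap_smul]
    exact (LinearEquiv.ofBijective _ hbij).map_smul r x
  have hdim := Alg6.supportDim_eq_of_semilinear (M := M) (N := LocalizedModule m.primeCompl M) _ hσ e he
  have hdep := Alg6.depth_eq_of_semilinear (M := M) (N := LocalizedModule m.primeCompl M) _ hσ e he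
  obtain ⟨h1, h2⟩ := Groth.Agent.S2669.result A B M m
  rw [← hdim] at h1
  rw [← hdep] at h2
  change _ = ⨆ q ∈ Q, _ at h1
  change _ = ⨅ q ∈ Q, _ at h2
  have hle : ∀ q ∈ Q, ((LocCoh.depth (Localization.AtPrime q.asIdeal)
        (LocalizedModule q.asIdeal.primeCompl M) : ℕ∞) : WithBot ℕ∞) ≤
      Module.supportDim (Localization.AtPrime q.asIdeal) (LocalizedModule q.asIdeal.primeCompl M) := by
    rintro q ⟨_, hq⟩
    haveI : Nontrivial (LocalizedModule q.asIdeal.primeCompl M) := Module.mem_support_iff.mp hq
    exact LC.depth_le_supportDim (LocalizedModule q.asIdeal.primeCompl M)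
  unfold LocCoh.IsCohenMacaulayModule
  constructor
  · intro hCM
    have key : ∀ q ∈ Q, Module.supportDim (Localization.AtPrime q.asIdeal)
          (LocalizedModule q.asIdeal.primeCompl M) = ((LocCoh.depth A M : ℕ∞) : WithBot ℕ∞) ∧
        LocCoh.depth (Localization.AtPrime q.asIdeal) (LocalizedModule q.asIdeal.primeCompl M) =
          LocCoh.depth A M := by
      intro q hq
      have a1 : Module.supportDim (Localization.AtPrime q.asIdeal) (LocalizedModule q.asIdeal.primeCompl M)
          ≤ ((LocCoh.depth A M : ℕ∞) : WithBot ℕ∞) := by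
        rw [← hCM, h1]
        exact le_iSup₂ (f := fun q (_ : q ∈ Q) => Module.supportDim (Localization.AtPrime q.asIdeal)
          (LocalizedModule q.asIdeal.primeCompl M)) q hq
      have a2 : LocCoh.depth A M ≤
          LocCoh.depth (Localization.AtPrime q.asIdeal) (LocalizedModule q.asIdeal.primeCompl M) := by
        rw [h2]
        exact iInf₂_le (f := fun q (_ : q ∈ Q) => LocCoh.depth (Localization.AtPrime q.asIdeal)
          (LocalizedModule q.asIdeal.primeCompl M)) q hq
      have a3 := le_antisymm (WithBot.coe_le_coe.mp ((hle q hq).trans a1)) a2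
      exact ⟨le_antisymm a1 (by rw [← a3]; exact hle q hq), a3⟩
    exact ⟨fun q hq => by rw [(key q hq).1, (key q hq).2],
      fun q hq q' hq' => by rw [(key q hq).1, (key q' hq').1]⟩
  · rintro ⟨hA, hB⟩
    obtain ⟨q0, hq0⟩ : Q.Nonempty := by
      by_contra h
      rw [Set.not_nonempty_iff_eq_empty] at h
      have : Module.supportDim A M = ⊥ := by
        rw [h1, h]
        simp
      exact Module.supportDim_ne_bot_of_nontrivial A M this
    have d1 : Module.supportDim A M = Module.supportDim (Localization.AtPrime q0.asIdeal)
        (LocalizedModule q0.asIdeal.primeCompl M) := by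
      rw [h1]
      exact le_antisymm (iSup₂_le fun q hq => (hB q hq q0 hq0).le)
        (le_iSup₂ (f := fun q (_ : q ∈ Q) => Module.supportDim (Localization.AtPrime q.asIdeal)
          (LocalizedModule q.asIdeal.primeCompl M)) q0 hq0)
    have d2 : LocCoh.depth A M = LocCoh.depth (Localization.AtPrime q0.asIdeal)
        (LocalizedModule q0.asIdeal.primeCompl M) := by
      rw [h2]
      refine le_antisymm (iInf₂_le (f := fun q (_ : q ∈ Q) => LocCoh.depth (Localization.AtPrime q.asIdeal)
          (LocalizedModule q.asIdeal.primeCompl M)) q0 hq0) (le_iInf₂ fun q hq => ?_)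
      have := (hA q0 hq0).symm.trans ((hB q0 hq0 q hq).trans (hA q hq))
      exact (WithBot.coe_inj.mp this).le
    rw [d1, d2]
    exact hA q0 hq0

end Groth.Agent.S4718
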