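import Groth.Statements.S4719
import Groth.Statements.S4719
import Groth.Agent.S2669

set_option autoImplicit false
universe u
open EGA4

namespace Groth.Agent.S4719

/-- Let A → B be a homomorphism of Noetherian rings and M a B-module which is finite as an A-module. (i)
If M satisfies (S_k) as an A-module, it satisfies (S_k) as a B-module. (ii) If for every two primes
q, q' of B in the support of M having the same contraction to A the modules M_q and M_{q'} have the
same dimension, then (S_k) for M as a B-module implies (S_k) for M as an A-module. (The published
statement asks the equal-dimension condition for all pairs of primes of B with the same contraction;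
this row asks it only for primes in the support of M, which is all its proof uses.) -/
theorem result (k : ℕ) (A B : Type u) [CommRing A] [CommRing B] [IsNoetherianRing A]
    [IsNoetherianRing B] [Algebra A B] (M : Type u) [AddCommGroup M] [Module B M] [Module A M]
    [IsScalarTower A B M] [Module.Finite A M] :
    (LocCoh.HasSk k A M → LocCoh.HasSk k B M) ∧
      ((∀ q ∈ Module.support B M, ∀ q' ∈ Module.support B M,
          q.asIdeal.comap (algebraMap A B) = q'.asIdeal.comap (algebraMap A B) →
            Module.supportDim (Localization.AtPrime q.asIdeal) (LocalizedModule q.asIdeal.primeCompl M) =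
              Module.supportDim (Localization.AtPrime q'.asIdeal) (LocalizedModule q'.asIdeal.primeCompl M)) →
        LocCoh.HasSk k B M → LocCoh.HasSk k A M) := by
  haveI : Module.Finite B M := Module.Finite.of_restrictScalars_finite A B M
  constructor
  · intro h q _
    by_cases hq : (⟨q, inferInstance⟩ : PrimeSpectrum B) ∈ Module.support B M
    · obtain ⟨h1, h2⟩ := Groth.Agent.S2669.result A B M (q.comap (algebraMap A B))
      refine le_trans (le_trans (min_le_min_left _ ?_) (h (q.comap (algebraMap A B)))) (WithBot.coe_le_coe.mpr ?_)
      · rw [h1]
        exact le_iSup₂ (f := fun r (_ : r ∈ {r : PrimeSpectrum B | r.asIdeal.comap (algebraMap A B) =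
            q.comap (algebraMap A B) ∧ r ∈ Module.support B M}) => Module.supportDim
              (Localization.AtPrime r.asIdeal) (LocalizedModule r.asIdeal.primeCompl M)) ⟨q, inferInstance⟩ ⟨rfl, hq⟩
      · rw [h2]
        exact iInf₂_le (f := fun r (_ : r ∈ {r : PrimeSpectrum B | r.asIdeal.comap (algebraMap A B) =
            q.comap (algebraMap A B) ∧ r ∈ Module.support B M}) => LocCoh.depth
              (Localization.AtPrime r.asIdeal) (LocalizedModule r.asIdeal.primeCompl M)) ⟨q, inferInstance⟩ ⟨rfl, hq⟩
    · rw [Module.notMem_support_iff] at hq
      haveI := hq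
      rw [Module.supportDim_eq_bot_of_subsingleton]
      exact (min_le_right _ _).trans bot_le
  · intro heq h p _
    obtain ⟨h1, h2⟩ := Groth.Agent.S2669.result A B M p
    set Q : Set (PrimeSpectrum B) :=
      {r : PrimeSpectrum B | r.asIdeal.comap (algebraMap A B) = p ∧ r ∈ Module.support B M} with hQ
    by_cases hne : Q.Nonempty
    · obtain ⟨q0, hq0⟩ := hne
      have d1 : Module.supportDim (Localization.AtPrime p) (LocalizedModule p.primeCompl M) =
          Module.supportDim (Localization.AtPrime q0.asIdeal) (LocalizedModule q0.asIdeal.primeCompl M) := by
        rw [h1]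
        exact le_antisymm (iSup₂_le fun q hq => (heq q hq.2 q0 hq0.2 (hq.1.trans hq0.1.symm)).le)
          (le_iSup₂ (f := fun r (_ : r ∈ Q) => Module.supportDim
              (Localization.AtPrime r.asIdeal) (LocalizedModule r.asIdeal.primeCompl M)) q0 hq0)
      haveI : Nontrivial (LocalizedModule q0.asIdeal.primeCompl M) := Module.mem_support_iff.mp hq0.2
      have hnb : min (k : WithBot ℕ∞) (Module.supportDim (Localization.AtPrime p) (LocalizedModule p.primeCompl M)) ≠ ⊥ := by
        rw [d1]
        intro hb
        rcases min_choice (k : WithBot ℕ∞) (Module.supportDim (Localization.AtPrime q0.asIdeal)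
          (LocalizedModule q0.asIdeal.primeCompl M)) with hc | hc
        · rw [hc] at hb; exact absurd hb (by simp)
        · rw [hc] at hb; exact Module.supportDim_ne_bot_of_nontrivial _ _ hb
      obtain ⟨c, hc⟩ := WithBot.ne_bot_iff_exists.mp hnb
      rw [← hc, h2]
      refine WithBot.coe_le_coe.mpr (le_iInf₂ fun q hq => WithBot.coe_le_coe.mp ?_)
      rw [hc, d1, heq q0 hq0.2 q hq.2 (hq0.1.trans hq.1.symm)]
      exact h q.asIdeal
    · rw [Set.not_nonempty_iff_eq_empty] at hne
      have : Module.supportDim (Localization.AtPrime p) (LocalizedModule p.primeCompl M) = ⊥ := by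
        rw [h1, hne]
        simp
      rw [this]
      exact (min_le_right _ _).trans bot_le

end Groth.Agent.S4719
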