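import Groth.Statements.S4726
import Mathlib

set_option autoImplicit false
universe u
open EGA4

namespace Groth.Agent.S4726

open TensorProduct in
/-- Let (A_i) be a directed system of commutative rings with direct limit A and M a finitely presented
A-module. Then there exist an index i and a finitely presented A_i-module M_i such that M is
isomorphic, as an A-module, to A ⊗_{A_i} M_i (A being an A_i-algebra through the canonical map). -/
theorem result (ι : Type u) [Preorder ι] [Nonempty ι] [IsDirectedOrder ι]
    (G : ι → Type u) [∀ i, CommRing (G i)] (f : ∀ i j, i ≤ j → G i →+* G j)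
    [DirectedSystem G (fun i j h ↦ f i j h)] (M : Type u) [AddCommGroup M]
    [Module (Ring.DirectLimit G (fun i j h ↦ f i j h)) M]
    [Module.FinitePresentation (Ring.DirectLimit G (fun i j h ↦ f i j h)) M] :
    ∃ (i : ι) (Mi : Type u) (_ : AddCommGroup Mi) (_ : Module (G i) Mi), Module.FinitePresentation (G i) Mi ∧
      letI : Algebra (G i) (Ring.DirectLimit G (fun i j h ↦ f i j h)) :=
        (Ring.DirectLimit.of G (fun i j h ↦ f i j h) i).toAlgebra
      Nonempty (M ≃ₗ[Ring.DirectLimit G (fun i j h ↦ f i j h)] (Ring.DirectLimit G (fun i j h ↦ f i j h)) ⊗[G i] Mi) := by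
  classical
  let A := Ring.DirectLimit G (fun i j h ↦ f i j h)
  obtain ⟨n, π, hπ⟩ := Module.Finite.exists_fin' A M
  obtain ⟨r, v, hv⟩ := Submodule.fg_iff_exists_fin_generating_family.1 (Module.FinitePresentation.fg_ker π hπ)
  choose ii xx hxx using fun p : Fin r × Fin n => Ring.DirectLimit.exists_of (v p.1 p.2)
  obtain ⟨i, hi⟩ := Finset.exists_le (Finset.univ.image ii)
  have hle : ∀ p, ii p ≤ i := fun p => hi _ (Finset.mem_image_of_mem ii (Finset.mem_univ p))
  letI : Algebra (G i) A := (Ring.DirectLimit.of G (fun i j h ↦ f i j h) i).toAlgebra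
  let w : Fin r → (Fin n → G i) := fun l k => f _ i (hle (l, k)) (xx (l, k))
  let N : Submodule (G i) (Fin n → G i) := Submodule.span (G i) (Set.range w)
  refine ⟨i, (Fin n → G i) ⧸ N, inferInstance, inferInstance,
    Module.finitePresentation_of_surjective _ N.mkQ_surjective (by
      rw [Submodule.ker_mkQ]; exact Submodule.fg_span (Set.finite_range w)), ?_⟩
  let e : A ⊗[G i] (Fin n → G i) ≃ₗ[A] (Fin n → A) := TensorProduct.piScalarRight (G i) A A (Fin n)
  have he : ∀ l, e ((1 : A) ⊗ₜ[G i] w l) = v l := fun l => funext fun k => by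
    rw [TensorProduct.piScalarRight_apply, TensorProduct.piScalarRightHom_tmul]
    show f _ i (hle (l, k)) (xx (l, k)) • (1 : A) = v l k
    rw [Algebra.smul_def, mul_one]
    show Ring.DirectLimit.of G _ i (f _ i (hle (l, k)) (xx (l, k))) = v l k
    rw [Ring.DirectLimit.of_f, hxx]
  let p : A ⊗[G i] (Fin n → G i) →ₗ[A] A ⊗[G i] ((Fin n → G i) ⧸ N) := N.mkQ.baseChange A
  have hp : Function.Surjective p := LinearMap.lTensor_surjective A N.mkQ_surjective
  have hspan : LinearMap.ker p = Submodule.span A (Set.range fun l => (1 : A) ⊗ₜ[G i] w l) := by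
    refine le_antisymm (fun z hz => ?_) (Submodule.span_le.2 ?_)
    · obtain ⟨y, rfl⟩ := (lTensor_exact A (LinearMap.exact_subtype_mkQ N) N.mkQ_surjective z).1 hz
      have hmem : ∀ m ∈ N, ∀ a : A,
          a ⊗ₜ[G i] m ∈ Submodule.span A (Set.range fun l => (1 : A) ⊗ₜ[G i] w l) := by
        intro m hm
        induction hm using Submodule.span_induction with
        | mem m hm =>
          obtain ⟨l, rfl⟩ := hm
          intro a
          have hs := Submodule.smul_mem _ a
            (Submodule.subset_span (R := A) (s := Set.range fun l => (1 : A) ⊗ₜ[G i] w l) ⟨l, rfl⟩)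
          simpa [TensorProduct.smul_tmul'] using hs
        | zero => simp
        | add m m' _ _ h h' => intro a; rw [TensorProduct.tmul_add]; exact add_mem (h a) (h' a)
        | smul c m _ h => intro a; rw [TensorProduct.tmul_smul, TensorProduct.smul_tmul']; exact h _
      clear hz
      induction y using TensorProduct.induction_on with
      | zero => simp
      | tmul a m => exact hmem m.1 m.2 a
      | add y y' h h' => rw [map_add]; exact add_mem h h'
    · rintro _ ⟨l, rfl⟩
      show (1 : A) ⊗ₜ[G i] N.mkQ (w l) = 0
      rw [show N.mkQ (w l) = 0 from (Submodule.Quotient.mk_eq_zero _).2 (Submodule.subset_span ⟨l, rfl⟩),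
        TensorProduct.tmul_zero]
  have hker : (LinearMap.ker p).map e.toLinearMap = LinearMap.ker π := by
    rw [hspan, Submodule.map_span, ← hv, ← Set.range_comp]
    exact congrArg _ (congrArg Set.range (funext he))
  exact ⟨((p.quotKerEquivOfSurjective hp).symm.trans
    ((Submodule.Quotient.equiv _ _ e hker).trans (π.quotKerEquivOfSurjective hπ))).symm⟩

end Groth.Agent.S4726
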