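import Groth.Statements.S4728
import Groth.Agent.FlatLoc6.NormalFibre
import Mathlib.RingTheory.TensorProduct.Quotient
import Mathlib.RingTheory.LocalRing.ResidueField.Ideal
import Mathlib.RingTheory.Ideal.KrullsHeightTheorem
import Mathlib.RingTheory.Flat.TorsionFree

set_option autoImplicit false
universe u
open EGA4

namespace Groth.Agent.S4728

theorem isDomain_of_isNormalRing (F : Type u) [CommRing F] [IsLocalRing F] (hF : EGA4.IsNormalRing F) :
    IsDomain F := by
  haveI := (hF (IsLocalRing.maximalIdeal F)).1
  refine MulEquiv.isDomain (B := Localization.AtPrime (IsLocalRing.maximalIdeal F))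
    (IsLocalization.atUnits F (IsLocalRing.maximalIdeal F).primeCompl fun x hx => ?_).toRingEquiv.toMulEquiv
  exact IsLocalRing.notMem_maximalIdeal.mp hx

open scoped TensorProduct in
theorem closedFibre_isPrime (A A' : Type u) [CommRing A] [CommRing A'] [IsLocalRing A] [IsLocalRing A']
    [Algebra A A'] [IsLocalHom (algebraMap A A')] (h : EGA4.IsNormalHom A A') :
    ((IsLocalRing.maximalIdeal A).map (algebraMap A A')).IsPrime := by
  let m := IsLocalRing.maximalIdeal A
  have h1 := h.2 m m.ResidueField inferInstance
  let ι : (A ⧸ m) ≃ₐ[A] m.ResidueField :=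
    AlgEquiv.ofBijective (IsScalarTower.toAlgHom A (A ⧸ m) m.ResidueField)
      m.bijective_algebraMap_quotient_residueField
  let e : (m.ResidueField ⊗[m.ResidueField] m.Fiber A') ≃+* A' ⧸ m.map (algebraMap A A') :=
    (Algebra.TensorProduct.lid m.ResidueField (m.Fiber A')).toRingEquiv.trans
      ((Algebra.TensorProduct.congr ι.symm AlgEquiv.refl).toRingEquiv.trans
        (Algebra.TensorProduct.quotIdealMapEquivQuotTensor A' m).symm.toRingEquiv)
  haveI : Nontrivial (A' ⧸ m.map (algebraMap A A')) := by
    refine Ideal.Quotient.nontrivial_iff.mpr fun htop => (IsLocalRing.maximalIdeal.isMaximal A').ne_top ?_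
    exact top_le_iff.mp (htop.ge.trans (((IsLocalRing.local_hom_TFAE (algebraMap A A')).out 0 2).mp ‹IsLocalHom (algebraMap A A')›))
  haveI : IsLocalRing (A' ⧸ m.map (algebraMap A A')) :=
    IsLocalRing.of_surjective' _ Ideal.Quotient.mk_surjective
  exact (Ideal.Quotient.isDomain_iff_prime _).mp
    (isDomain_of_isNormalRing _ (FlatLoc6.isNormalRing_of_ringEquiv e h1))

theorem main (A A' : Type u) [CommRing A] [CommRing A']
    [IsNoetherianRing A] [IsNoetherianRing A'] [IsLocalRing A] [IsLocalRing A'] [IsDomain A]
    (hA : ringKrullDim A = 1) [Algebra A A'] [IsLocalHom (algebraMap A A')] (h : EGA4.IsNormalHom A A') :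
    ((IsLocalRing.maximalIdeal A).map (algebraMap A A')).IsPrime ∧
      ((IsLocalRing.maximalIdeal A).map (algebraMap A A')).height = 1 := by
  haveI hprime := closedFibre_isPrime A A' h
  haveI := h.1
  refine ⟨hprime, ?_⟩
  let m := IsLocalRing.maximalIdeal A
  obtain ⟨a, ham, ha0⟩ : ∃ a ∈ m, a ≠ 0 := Submodule.exists_mem_ne_zero_of_ne_bot fun hm => by
    have := (IsLocalRing.isField_iff_maximalIdeal_eq (R := A)).mpr hm
    rw [ringKrullDim_eq_zero_of_isField this] at hA
    exact zero_ne_one hA
  haveI : Ring.KrullDimLE 1 A := (Ring.krullDimLE_iff (n := 1)).mpr (le_of_eq hA)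
  have hrad : m ≤ (Ideal.span {a}).radical := by
    rw [Ideal.radical_eq_sInf]
    refine le_sInf fun q hq => ?_
    haveI := hq.2
    have hq0 : q ≠ ⊥ := fun h0 => ha0 (Ideal.mem_bot.mp (h0 ▸ hq.1 (Ideal.mem_span_singleton_self a)))
    exact (IsLocalRing.eq_maximalIdeal (Ring.krullDimLE_one_iff_of_noZeroDivisors.mp inferInstance q hq0 ‹_›)).ge
  refine le_antisymm ?_ (Order.one_le_iff_pos.mpr (pos_iff_ne_zero.mpr fun h0 => ?_))
  · haveI : (Ideal.span {algebraMap A A' a}).IsPrincipal := ⟨⟨_, rfl⟩⟩
    refine Ideal.height_le_one_of_isPrincipal_of_mem_minimalPrimes (Ideal.span {algebraMap A A' a}) _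
      ⟨⟨hprime, (Ideal.span_singleton_le_iff_mem _).mpr (Ideal.mem_map_of_mem _ ham)⟩, fun q hq _ => ?_⟩
    haveI := hq.1
    refine Ideal.map_le_iff_le_comap.mpr (hrad.trans ?_)
    rw [Ideal.IsRadical.radical_le_iff (Ideal.IsPrime.isRadical inferInstance)]
    exact (Ideal.span_singleton_le_iff_mem _).mpr (hq.2 (Ideal.mem_span_singleton_self _))
  · rw [Ideal.height_eq_zero_iff] at h0
    have hreg : IsSMulRegular A' (algebraMap A A' a) := by
      have : IsSMulRegular A' a :=
        Module.Flat.isSMulRegular_of_isRegular (IsRegular.of_ne_zero ha0)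
      intro x y hxy
      refine this ?_
      simpa [Algebra.smul_def] using hxy
    exact Set.disjoint_left.mp (Ideal.disjoint_nonZeroDivisors_of_mem_minimalPrimes h0)
      (Ideal.mem_map_of_mem _ ham)
      (mem_nonZeroDivisors_iff_right.mpr fun x hx => hreg (by simpa [mul_comm] using hx))

/-- Let A be a Noetherian local domain of dimension 1 with maximal ideal m, A' a Noetherian local ring
and A → A' a local homomorphism which is normal (flat, with geometrically normal fibres). Then the
ideal m A' of A' is prime and the local ring of A' at m A' has dimension 1. (The remaining clauses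
of the published item, describing A' inside its total ring of fractions, are not restated.) -/
theorem result (A A' : Type u) [CommRing A] [CommRing A']
    [IsNoetherianRing A] [IsNoetherianRing A'] [IsLocalRing A] [IsLocalRing A'] [IsDomain A]
    (hA : ringKrullDim A = 1) [Algebra A A'] [IsLocalHom (algebraMap A A')] (h : EGA4.IsNormalHom A A') :
    ((IsLocalRing.maximalIdeal A).map (algebraMap A A')).IsPrime ∧
      ((IsLocalRing.maximalIdeal A).map (algebraMap A A')).height = 1 := by
  exact main A A' hA h

end Groth.Agent.S4728
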