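import Groth.Statements.S4730
import Mathlib.RingTheory.AlgebraicIndependent.TranscendenceBasis
import Mathlib.RingTheory.Ideal.KrullsHeightTheorem

set_option autoImplicit false
universe u
open EGA4

namespace Groth.Agent.S4730

open Polynomial in
attribute [local instance] Polynomial.algebra Polynomial.isLocalization in
lemma height_eq_one {D : Type u} [CommRing D] [IsDomain D] (P : Ideal D[X]) [P.IsPrime] (h0 : P ≠ ⊥)
    (hC : P.comap C = ⊥) : P.height = 1 := by
  have disj : Disjoint ((nonZeroDivisors D).map C : Set D[X]) P := by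
    refine Set.disjoint_left.2 fun a ⟨b, hb, hba⟩ ha => nonZeroDivisors.ne_zero hb ?_
    have : b ∈ P.comap C := by rw [Ideal.mem_comap, hba]; exact ha
    rwa [hC, Ideal.mem_bot] at this
  let K := FractionRing D
  have hPr : (P.map (algebraMap D[X] K[X])).IsPrime := IsLocalization.isPrime_of_isPrime_disjoint ((nonZeroDivisors D).map C) K[X] P ‹_› disj
  rw [← IsLocalization.height_map_of_disjoint ((nonZeroDivisors D).map C) P disj (S := K[X])]
  have hne : P.map (algebraMap D[X] K[X]) ≠ ⊥ := fun h => h0 <| by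
    rw [Ideal.map_eq_bot_iff_of_injective (Polynomial.map_injective _ (IsFractionRing.injective D K))] at h
    exact h
  have : (P.map (algebraMap D[X] K[X])).IsMaximal := IsPrime.to_maximal_ideal (hpi := hPr) hne
  exact IsPrincipalIdealRing.height_eq_one_of_isMaximal _ (Polynomial.not_isField K)

open Polynomial in
/-- Let A be a Noetherian ring, p a prime ideal of A and q a prime ideal of the polynomial ring A[T]
lying over p. Then ht(p) + 1 = ht(q) + deg.tr_{κ(p)} κ(q), the transcendence degree being that of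
the domain A[T]/q over the domain A/p. -/
theorem result (A : Type u) [CommRing A] [IsNoetherianRing A]
    (p : Ideal A) [p.IsPrime] (q : Ideal A[X]) [q.IsPrime] [q.LiesOver p] :
    (p.height : Cardinal.{u}) + 1 = (q.height : Cardinal.{u}) + Algebra.trdeg (A ⧸ p) (A[X] ⧸ q) := by
  let _ : IsDomain (A ⧸ p) := Ideal.Quotient.isDomain p
  have hqp : p = q.comap C := by rw [Ideal.LiesOver.over (P := q) (p := p)]; rfl
  have hle : p.map (algebraMap A A[X]) ≤ q := Ideal.map_le_iff_le_comap.2 hqp.le
  have hmem : ∀ a, C a ∈ q → a ∈ p := fun a h => by rw [hqp]; exact h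
  let φ : (A ⧸ p)[X] →ₐ[A ⧸ p] A[X] ⧸ q := aeval (Ideal.Quotient.mk q X)
  have hφ : ∀ F : A[X], φ (F.map (Ideal.Quotient.mk p)) = Ideal.Quotient.mk q F := by
    intro F
    simp only [φ, aeval_def, eval₂_map]
    conv_rhs => rw [← eval₂_C_X (p := F), hom_eval₂]
    rfl
  have hsurj : Function.Surjective φ := fun y => by
    obtain ⟨F, rfl⟩ := Ideal.Quotient.mk_surjective y
    exact ⟨_, hφ F⟩
  let π : A[X] →+* (A ⧸ p)[X] := mapRingHom (Ideal.Quotient.mk p)
  have hπ : Function.Surjective π := map_surjective _ Ideal.Quotient.mk_surjective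
  have hker : RingHom.ker π = p.map C := by
    rw [ker_mapRingHom, Ideal.mk_ker]
  have hP : (q.map π).IsPrime := Ideal.map_isPrime_of_surjective hπ (hker.le.trans hle)
  have hPC : (q.map π).comap C = ⊥ := by
    rw [eq_bot_iff]
    intro d hd
    obtain ⟨a, rfl⟩ := Ideal.Quotient.mk_surjective d
    have : C a ∈ (q.map π).comap π := by simpa [π] using hd
    rw [Ideal.comap_map_of_surjective' π hπ, hker, sup_eq_left.2 (show p.map C ≤ q from hle)] at this
    exact Ideal.Quotient.eq_zero_iff_mem.2 (hmem a this)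
  have hheight : q.height = p.height + (q.map π).height := by
    rw [Ideal.height_eq_height_add_of_liesOver_of_hasGoingDown p]
    congr 1
    let e := (Ideal.polynomialQuotientEquivQuotientPolynomial p).symm
    rw [← RingEquiv.height_map e (q.map _), ← Ideal.map_coe e]
    refine congrArg Ideal.height ((Ideal.map_map _ _).trans (congrArg (fun g => Ideal.map g q) ?_))
    ext <;> simp [e, π, Ideal.polynomialQuotientEquivQuotientPolynomial]
  rw [hheight]
  by_cases h0 : q.map π = ⊥
  · have hinj : Function.Injective φ := by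
      rw [injective_iff_map_eq_zero]
      intro f hf
      obtain ⟨F, rfl⟩ := hπ f
      have hF : F ∈ q := Ideal.Quotient.eq_zero_iff_mem.1 ((hφ F).symm.trans hf)
      exact (Submodule.mem_bot _).1 (h0 ▸ Ideal.mem_map_of_mem π hF)
    rw [h0, Ideal.height_bot, add_zero, ← (AlgEquiv.ofBijective φ ⟨hinj, hsurj⟩).trdeg_eq,
      Polynomial.trdeg_of_isDomain]
  · have hh : (q.map π).height = 1 := height_eq_one _ h0 hPC
    obtain ⟨f, hf, hf0⟩ := Submodule.exists_mem_ne_zero_of_ne_bot h0
    obtain ⟨F, hF, rfl⟩ := (Ideal.mem_map_iff_of_surjective π hπ).1 hf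
    have halg : Algebra.IsAlgebraic (A ⧸ p) (A[X] ⧸ q) := by
      have hx : IsAlgebraic (A ⧸ p) (Ideal.Quotient.mk q X) :=
        ⟨π F, hf0, (hφ F).trans (Ideal.Quotient.eq_zero_iff_mem.2 hF)⟩
      refine ⟨fun y => ?_⟩
      obtain ⟨g, rfl⟩ := hsurj y
      simp only [φ]
      induction g using Polynomial.induction_on' with
      | add a b ha hb => rw [map_add]; exact ha.add hb
      | monomial n a => rw [aeval_monomial]; exact (isAlgebraic_algebraMap a).mul (hx.pow n)
    rw [hh, trdeg_eq_zero, add_zero, Cardinal.ofENat_add, Cardinal.ofENat_one]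

end Groth.Agent.S4730
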