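import Groth.Statements.S4731
import Mathlib.RingTheory.Noetherian.Basic
import Mathlib.RingTheory.Ideal.Quotient.Operations
import Mathlib.RingTheory.Finiteness.Basic
import Mathlib.LinearAlgebra.Quotient.Pi
import Mathlib.Algebra.Module.Torsion.Basic

set_option autoImplicit false
universe u
open EGA4

namespace Groth.Agent.S4731

/-- Let S → R be an injective homomorphism of commutative rings making R a finite S-module, with R
Noetherian; let c be the conductor of S in R, the ideal of those s in S with s R contained in (the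
image of) S. If S/c is Noetherian, then every increasing sequence of ideals of S contained in c is
eventually constant. -/
theorem result (S R : Type u) [CommRing S] [CommRing R] [Algebra S R]
    [FaithfulSMul S R] [IsNoetherianRing R] [Module.Finite S R] (c : Ideal S)
    (hc : ∀ s : S, s ∈ c ↔ ∀ r : R, ∃ s' : S, algebraMap S R s' = algebraMap S R s * r)
    [IsNoetherianRing (S ⧸ c)] (a : ℕ →o Ideal S) (ha : ∀ n, a n ≤ c) :
    ∃ N : ℕ, ∀ n, N ≤ n → a n = a N := by
  classical
  haveI hNc : IsNoetherian S (S ⧸ c) := by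
    refine ⟨fun N => ?_⟩
    let I : Ideal S := Submodule.comap (Submodule.mkQ c) N
    let I' : Ideal (S ⧸ c) := I.map (Ideal.Quotient.mk c)
    obtain ⟨t, ht⟩ := IsNoetherian.noetherian I'
    refine ⟨t, le_antisymm (Submodule.span_le.2 fun x hx => ?_) fun x hx => ?_⟩
    · have : x ∈ I' := ht ▸ Submodule.subset_span hx
      obtain ⟨y, hy, rfl⟩ := (Ideal.mem_map_iff_of_surjective _ Ideal.Quotient.mk_surjective).1 this
      exact hy
    · obtain ⟨y, rfl⟩ := Ideal.Quotient.mk_surjective x
      have : Ideal.Quotient.mk c y ∈ Submodule.span (S ⧸ c) (t : Set (S ⧸ c)) :=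
        ht ▸ Ideal.mem_map_of_mem _ hx
      rw [← Submodule.restrictScalars_mem S,
        Submodule.restrictScalars_span S (S ⧸ c) Ideal.Quotient.mk_surjective] at this
      exact this
  let φ := algebraMap S R
  obtain ⟨N0, hN0⟩ := monotone_stabilizes_iff_noetherian.2 (inferInstance : IsNoetherian R R)
    ⟨fun n => (a n).map φ, fun i j h => Ideal.map_mono (a.monotone h)⟩
  let J : Submodule S R := (((a N0).map φ : Ideal R) : Submodule R R).restrictScalars S
  let K : Submodule S ↥J := c • ⊤
  haveI : Module.Finite R ↥((a N0).map φ) := Module.Finite.of_fg (IsNoetherian.noetherian _)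
  haveI : Module.Finite S ↥((a N0).map φ) := Module.Finite.trans R _
  haveI : Module.Finite S ↥J := ‹Module.Finite S ↥((a N0).map φ)›
  -- `K` lies in every `a n`, `n ≥ N0`
  have hKle : ∀ z : ↥J, z ∈ K → ∃ s ∈ a N0, φ s = (z : R) := by
    intro z hz
    refine Submodule.smul_induction_on (p := fun z : ↥J => ∃ s ∈ a N0, φ s = (z : R)) hz ?_ ?_
    · intro s hs w hw
      show ∃ s' ∈ a N0, φ s' = ((s • w : ↥J) : R)
      have hw' : (w : R) ∈ (a N0).map φ := w.2
      have key : ∀ y ∈ (a N0).map φ, ∀ r : R, ∃ s' ∈ a N0, φ s' = r * (φ s * y) := by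
        intro y hy
        induction hy using Submodule.span_induction with
        | mem y hy =>
          obtain ⟨b, hb, rfl⟩ := hy
          intro r
          obtain ⟨s', hs'⟩ := (hc s).1 hs r
          exact ⟨s' * b, Ideal.mul_mem_left _ _ hb, by rw [map_mul, show φ s' = φ s * r from hs']; ring⟩
        | zero => exact fun r => ⟨0, zero_mem _, by simp⟩
        | add x y _ _ hx hy =>
          intro r
          obtain ⟨s1, h1, e1⟩ := hx r; obtain ⟨s2, h2, e2⟩ := hy r
          exact ⟨s1 + s2, add_mem h1 h2, by rw [map_add, e1, e2]; ring⟩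
        | smul r' x _ hx =>
          intro r
          obtain ⟨s1, h1, e1⟩ := hx (r * r')
          exact ⟨s1, h1, by rw [e1, smul_eq_mul]; ring⟩
      obtain ⟨s', h', e'⟩ := key _ hw' 1
      exact ⟨s', h', by rw [e', one_mul, SetLike.val_smul, Algebra.smul_def]⟩
    · intro x y hx hy
      obtain ⟨s1, h1, e1⟩ := hx; obtain ⟨s2, h2, e2⟩ := hy
      exact ⟨s1 + s2, add_mem h1 h2, by rw [map_add, e1, e2]; rfl⟩
  haveI : IsNoetherian S (↥J ⧸ K) := by
    obtain ⟨k, g, hg⟩ := Module.Finite.exists_fin' S ↥J
    let G : (Fin k → S) →ₗ[S] (↥J ⧸ K) := K.mkQ ∘ₗ g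
    have hG : Function.Surjective G := (Submodule.mkQ_surjective K).comp hg
    have hker : Submodule.pi Set.univ (fun _ : Fin k => (c : Submodule S S)) ≤ LinearMap.ker G := by
      intro v hv
      rw [LinearMap.mem_ker, show G v = K.mkQ (g v) from rfl]
      refine (Submodule.Quotient.mk_eq_zero _).2 ?_
      rw [show v = ∑ i, v i • (Pi.single i (1 : S) : Fin k → S) by
        ext j; simp [Pi.single_apply], map_sum]
      exact Submodule.sum_mem _ fun i _ => by
        rw [map_smul]; exact Submodule.smul_mem_smul (hv i trivial) trivial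
    haveI : IsNoetherian S ((Fin k → S) ⧸ Submodule.pi Set.univ (fun _ : Fin k => (c : Submodule S S))) :=
      isNoetherian_of_linearEquiv (Submodule.quotientPi (fun _ : Fin k => (c : Submodule S S))).symm
    exact isNoetherian_of_surjective (Submodule.liftQ _ G hker) (by
      rw [LinearMap.range_eq_top]
      intro z; obtain ⟨v, rfl⟩ := hG z; exact ⟨Submodule.Quotient.mk v, rfl⟩)
  let F : ℕ →o Submodule S (↥J ⧸ K) :=
    ⟨fun n => ((Submodule.map (Algebra.linearMap S R) (a n)).comap J.subtype).map K.mkQ,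
      fun i j h => Submodule.map_mono (Submodule.comap_mono (Submodule.map_mono (a.monotone h)))⟩
  obtain ⟨N1, hN1⟩ := monotone_stabilizes_iff_noetherian.2 ‹IsNoetherian S (↥J ⧸ K)› F
  refine ⟨max N0 N1, fun n hn => le_antisymm (fun x hx => ?_) (a.monotone hn)⟩
  have hxJ : φ x ∈ J := by
    show φ x ∈ (a N0).map φ
    have : (a N0).map φ = (a n).map φ := hN0 n (le_trans (le_max_left _ _) hn)
    rw [this]; exact Ideal.mem_map_of_mem _ hx
  have h1 : K.mkQ ⟨φ x, hxJ⟩ ∈ F (max N0 N1) := by
    rw [← hN1 _ (le_max_right _ _), hN1 n (le_trans (le_max_right _ _) hn)]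
    exact Submodule.mem_map_of_mem ⟨x, hx, rfl⟩
  obtain ⟨z, ⟨y, hy, hyz⟩, hz⟩ := h1
  obtain ⟨s, hs, hsz⟩ := hKle _ ((Submodule.Quotient.eq K).1 hz.symm)
  have : x = y + s := FaithfulSMul.algebraMap_injective S R (by
    have hyz' : φ y = (z : R) := hyz
    show φ x = φ (y + s)
    rw [map_add, hsz, hyz']; show φ x = (z : R) + (φ x - (z : R)); ring)
  rw [this]; exact add_mem hy (a.monotone (le_max_left _ _) hs)

end Groth.Agent.S4731
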