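import Groth.Statements.S4732
import Mathlib

set_option autoImplicit false
universe u
open EGA4

namespace Groth.Agent.S4732

open AlgebraicGeometry CategoryTheory in
/-- Let k be a field, X a scheme locally of finite type over k and x a point of X. Then there are an
open neighbourhood U of x, a k-scheme Y all of whose local rings are regular, and an immersion U → Y
compatible with the structure morphisms to Spec k. -/
theorem result (k : Type u) [Field k] {X : Scheme.{u}}
    (f : X ⟶ Spec (CommRingCat.of k)) [LocallyOfFiniteType f] (x : X) :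
    ∃ (U : X.Opens) (_ : x ∈ U) (Y : Scheme.{u}) (g : Y ⟶ Spec (CommRingCat.of k)) (i : (U : Scheme.{u}) ⟶ Y),
      IsImmersion i ∧ i ≫ g = U.ι ≫ f ∧ ∀ y : Y, IsRegularLocalRing (Y.presheaf.stalk y) := by
  obtain ⟨U, hU, hxU, -⟩ := exists_isAffineOpen_mem_and_subset (show x ∈ (⊤ : X.Opens) from trivial)
  let φ : CommRingCat.of k ⟶ Γ(X, U) := Spec.preimage (hU.fromSpec ≫ f)
  have hφ : Spec.map φ = hU.fromSpec ≫ f := Spec.map_preimage _
  have hft : φ.hom.FiniteType := by
    have : LocallyOfFiniteType (Spec.map φ) := by rw [hφ]; infer_instance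
    exact (HasRingHomProperty.Spec_iff (P := @LocallyOfFiniteType)).1 this
  letI : Algebra k Γ(X, U) := φ.hom.toAlgebra
  haveI : Algebra.FiniteType k Γ(X, U) := hft
  obtain ⟨n, π, hπ⟩ := Algebra.FiniteType.iff_quotient_mvPolynomial''.1 ‹Algebra.FiniteType k Γ(X, U)›
  let P := CommRingCat.of (MvPolynomial (Fin n) k)
  haveI : IsClosedImmersion (Spec.map (CommRingCat.ofHom π.toRingHom) : Spec Γ(X, U) ⟶ Spec P) :=
    IsClosedImmersion.spec_of_surjective _ hπ
  refine ⟨U, hxU, Spec P, Spec.map (CommRingCat.ofHom (MvPolynomial.C : k →+* MvPolynomial (Fin n) k)),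
    hU.isoSpec.hom ≫ Spec.map (CommRingCat.ofHom π.toRingHom), inferInstance, ?_, fun y => ?_⟩
  · rw [Category.assoc, ← Spec.map_comp,
      show CommRingCat.ofHom (MvPolynomial.C : k →+* MvPolynomial (Fin n) k) ≫ CommRingCat.ofHom π.toRingHom = φ from
        CommRingCat.hom_ext (RingHom.ext fun c => π.commutes c),
      hφ, ← Category.assoc]
    congr 1
    exact hU.isoSpec_hom_fromSpec
  · let e := (IsLocalization.algEquiv y.asIdeal.primeCompl (Localization.AtPrime y.asIdeal)
      ((Spec.structureSheaf (MvPolynomial (Fin n) k)).presheaf.stalk y)).toRingEquiv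
    haveI := IsRegularRing.isRegularLocalRing_localization (R := MvPolynomial (Fin n) k) y.asIdeal
    exact IsRegularLocalRing.of_ringEquiv e

end Groth.Agent.S4732
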