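import Groth.Statements.S4734
import Groth.Agent.GenNFlat.Main
import Groth.Agent.H1GenDepth.Basic
import Groth.Agent.S2612
import Groth.Agent.Alg6.LocLoc

set_option autoImplicit false
universe u
open EGA4

namespace Groth.Agent.S4734

theorem normallyFlat_localization {A L N : Type u} [CommRing A] [CommRing L] [Algebra A L] [AddCommGroup N]
    [Module A N] [Module L N] [IsScalarTower A L N] (I : Ideal A) (M : Type u) [AddCommGroup M] [Module A M]
    (S : Submonoid A) [IsLocalization S L] (f : M →ₗ[A] N) [IsLocalizedModule S f]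
    (h : EGA4.IsNormallyFlat I M) : EGA4.IsNormallyFlat (I.map (algebraMap A L)) N := by
  intro k
  let p' := I.map (algebraMap A L)
  letI : Algebra (A ⧸ I) (L ⧸ p') := (Ideal.quotientMap p' (algebraMap A L) Ideal.le_comap_map).toAlgebra
  haveI : IsScalarTower A (A ⧸ I) (L ⧸ p') := IsScalarTower.of_algebraMap_eq fun _ => rfl
  let S' := Algebra.algebraMapSubmonoid (A ⧸ I) S
  haveI : IsLocalization S' (L ⧸ p') :=
    IsLocalization.of_surjective S L (Ideal.Quotient.mk I) Ideal.Quotient.mk_surjective
      (Ideal.Quotient.mk p') Ideal.Quotient.mk_surjective rfl (by rw [Ideal.mk_ker, Ideal.mk_ker])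
  haveI := Groth.Agent.NFlat6.isLocalizedModule_pcMap (R := I) S f k
  let φ : Groth.Agent.NFlat6.Pc I M k →ₗ[A ⧸ I] Groth.Agent.NFlat6.Pc I N k :=
    LinearMap.extendScalarsOfSurjective Ideal.Quotient.mk_surjective (Groth.Agent.NFlat6.pcMap f k)
  haveI : IsLocalizedModule S (φ.restrictScalars A) := by
    rw [show φ.restrictScalars A = Groth.Agent.NFlat6.pcMap f k from LinearMap.ext fun _ => rfl]
    infer_instance
  haveI hφ : IsLocalizedModule S' φ := IsLocalizedModule.of_restrictScalars (A := A ⧸ I) S φ
  haveI : Module.Flat (A ⧸ I) (Groth.Agent.NFlat6.Pc I M k) := h k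
  haveI : Module.Flat (A ⧸ I) (Localization S') := IsLocalization.flat _ S'
  haveI : Module.Flat (A ⧸ I) (Groth.Agent.NFlat6.Pc I N k) :=
    Module.Flat.of_linearEquiv ((IsLocalizedModule.iso S' φ).symm.trans
      ((IsLocalizedModule.isBaseChange S' (Localization S')
        (LocalizedModule.mkLinearMap S' (Groth.Agent.NFlat6.Pc I M k))).equiv.restrictScalars (A ⧸ I)).symm)
  let P' := ↥(p' ^ k • (⊤ : Submodule L N)) ⧸ (p' • (⊤ : Submodule L ↥(p' ^ k • (⊤ : Submodule L N))))
  letI : Module (A ⧸ I) P' := Module.compHom P' (algebraMap (A ⧸ I) (L ⧸ p'))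
  haveI : IsScalarTower (A ⧸ I) (L ⧸ p') P' := IsScalarTower.of_algebraMap_smul fun _ _ => rfl
  let e : P' ≃ₗ[A ⧸ I] Groth.Agent.NFlat6.Pc I N k :=
    { Groth.Agent.GenNFlat.pieceEquiv I k with
      map_smul' := fun c z => by
        obtain ⟨a, rfl⟩ := Ideal.Quotient.mk_surjective c
        exact Groth.Agent.GenNFlat.pieceEquiv_smul I k a z }
  haveI : Module.Flat (A ⧸ I) P' := Module.Flat.of_linearEquiv e
  exact (Module.flat_iff_of_isLocalization (L ⧸ p') S' P').mpr ‹_›

theorem dim_depth_eq {A : Type u} [CommRing A] [IsNoetherianRing A] (I : Ideal A) (hI : IsNilpotent I)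
    (M : Type u) [AddCommGroup M] [Module A M] [Module.Finite A M]
    (hsupp : Module.support A M = Set.univ) (hM : EGA4.IsNormallyFlat I M) (q : Ideal A) [q.IsPrime] :
    Module.supportDim (Localization.AtPrime q) (LocalizedModule q.primeCompl M) =
        Module.supportDim (Localization.AtPrime q) (LocalizedModule q.primeCompl (A ⧸ I)) ∧
      LocCoh.depth (Localization.AtPrime q) (LocalizedModule q.primeCompl M) =
        LocCoh.depth (Localization.AtPrime q) (LocalizedModule q.primeCompl (A ⧸ I)) := by
  haveI : Nontrivial (LocalizedModule q.primeCompl M) := by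
    have : (⟨q, inferInstance⟩ : PrimeSpectrum A) ∈ Module.support A M := hsupp ▸ Set.mem_univ _
    exact not_subsingleton_iff_nontrivial.1 fun h => (Module.notMem_support_iff.2 h) this
  obtain ⟨N, hN⟩ := hI
  have hI' : IsNilpotent (I.map (algebraMap A (Localization.AtPrime q))) :=
    ⟨N, by rw [← Ideal.map_pow, hN, Ideal.zero_eq_bot, Ideal.map_bot, ← Ideal.zero_eq_bot]⟩
  have h := Groth.Agent.S2612.result (Localization.AtPrime q) (I.map (algebraMap A (Localization.AtPrime q))) hI'
    (LocalizedModule q.primeCompl M)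
    (normallyFlat_localization I M q.primeCompl (LocalizedModule.mkLinearMap q.primeCompl M) hM)
  obtain ⟨e⟩ := Groth.Agent.H1GenDepth.exists_equiv_quot I q
  refine ⟨?_, h.2.trans (Groth.Agent.LC.idealDepth_congr _ e).symm⟩
  rw [Module.supportDim_eq_of_equiv e, Module.supportDim_quotient_eq_ringKrullDim]
  exact h.1

theorem hasSkAt_congr (n : ℕ) {A : Type u} [CommRing A] [IsNoetherianRing A] {M N : Type u} [AddCommGroup M]
    [Module A M] [AddCommGroup N] [Module A N]
    (key : ∀ (q : Ideal A) [q.IsPrime],
      Module.supportDim (Localization.AtPrime q) (LocalizedModule q.primeCompl M) =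
          Module.supportDim (Localization.AtPrime q) (LocalizedModule q.primeCompl N) ∧
        LocCoh.depth (Localization.AtPrime q) (LocalizedModule q.primeCompl M) =
          LocCoh.depth (Localization.AtPrime q) (LocalizedModule q.primeCompl N))
    (p : Ideal A) [p.IsPrime] : EGA4.HasSkAt n A M p ↔ EGA4.HasSkAt n A N p := by
  rw [EGA4.HasSkAt, EGA4.HasSkAt, Groth.Agent.Alg6.hasSk_localization_iff,
    Groth.Agent.Alg6.hasSk_localization_iff]
  refine forall_congr' fun r => forall_congr' fun _ => ?_
  rw [(key r).1, (key r).2]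

/-- Let A be a Noetherian ring, I a nilpotent ideal of A and M a finite A-module whose support is all of
Spec A and which is normally flat along I. Then for every prime p of A: M satisfies Serre's
condition (S_n) at p if and only if the A-module A/I does; and the codepth of M_p is at most n if
and only if the codepth of the A_p-module (A/I)_p is at most n (codepth written additively as dim ≤
depth + n). -/
theorem result (n : ℕ) (A : Type u) [CommRing A] [IsNoetherianRing A]
    (I : Ideal A) (hI : IsNilpotent I) (M : Type u) [AddCommGroup M] [Module A M] [Module.Finite A M]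
    (hsupp : Module.support A M = Set.univ) (hM : EGA4.IsNormallyFlat I M) (p : Ideal A) [p.IsPrime] :
    (EGA4.HasSkAt n A M p ↔ EGA4.HasSkAt n A (A ⧸ I) p) ∧
      (Module.supportDim (Localization.AtPrime p) (LocalizedModule p.primeCompl M) ≤
          ((LocCoh.depth (Localization.AtPrime p) (LocalizedModule p.primeCompl M) : ℕ∞) : WithBot ℕ∞) + n ↔
        Module.supportDim (Localization.AtPrime p) (LocalizedModule p.primeCompl (A ⧸ I)) ≤
          ((LocCoh.depth (Localization.AtPrime p) (LocalizedModule p.primeCompl (A ⧸ I)) : ℕ∞) : WithBot ℕ∞) + n) := by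
  have key : ∀ (q : Ideal A) [q.IsPrime],
      Module.supportDim (Localization.AtPrime q) (LocalizedModule q.primeCompl M) =
          Module.supportDim (Localization.AtPrime q) (LocalizedModule q.primeCompl (A ⧸ I)) ∧
        LocCoh.depth (Localization.AtPrime q) (LocalizedModule q.primeCompl M) =
          LocCoh.depth (Localization.AtPrime q) (LocalizedModule q.primeCompl (A ⧸ I)) :=
    fun q _ => dim_depth_eq I hI M hsupp hM q
  refine ⟨?_, ?_⟩
  · exact hasSkAt_congr n key p
  · rw [(key p).1, (key p).2]

end Groth.Agent.S4734
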