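import Groth.Statements.S4777
import Groth.Agent.AlgGlue.LfpCrit

set_option backward.isDefEq.respectTransparency false

set_option autoImplicit false
universe u
open CategoryTheory
open Lim8

namespace Groth.Agent.S4777

/-- Let B be an algebra over a commutative ring A. If, for every inductive system (C_λ) of A-algebras
indexed by a nonempty directed preordered set, the canonical map colim Hom_A(B, C_λ) → Hom_A(B,
colim C_λ) is bijective (that is, Hom_A(B, -) preserves the colimit of the system), then B is an
A-algebra of finite presentation. (This is the necessity half of the characterization of algebras of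
finite presentation by this property; the converse is standard.) -/
theorem result {A B : CommRingCat.{u}} (f : A ⟶ B)
    (h : ∀ (J : Type u) [Preorder J] [IsDirected J (· ≤ ·)] [Nonempty J] (F : J ⥤ Under A),
      Limits.PreservesColimit F (coyoneda.obj (Opposite.op (Under.mk f)))) :
    f.hom.FinitePresentation := by
  refine Groth.Agent.AlgGlue.LfpCrit.finitePresentation_of_lifts ?_
  intro J _ _ _ F c hc g
  haveI := h J F
  have := Limits.Types.jointly_surjective_of_isColimit
    (Limits.isColimitOfPreserves (coyoneda.obj (Opposite.op (Under.mk f))) hc) g
  obtain ⟨j, g', hg'⟩ := this
  exact ⟨j, g', hg'⟩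

end Groth.Agent.S4777
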