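import Groth.Statements.S4778
import Groth.Agent.AlgGlue.LfpCrit

set_option backward.isDefEq.respectTransparency false

set_option autoImplicit false
universe u
open CategoryTheory AlgebraicGeometry
open Lim8

namespace Groth.Agent.S4778

/-- Let f : X ⟶ S be a morphism of schemes. Suppose that for every affine open U of S and every
projective system (Z_λ) of U-schemes indexed by a nonempty directed preordered set, with every Z_λ
an affine scheme, the functor Hom_S(-, X) takes the limit of the system to the colimit of the
Hom_S(Z_λ, X) (the canonical map from the colimit is bijective). Then f is locally of finite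
presentation. -/
theorem result {X S : Scheme.{u}} (f : X ⟶ S)
    (h : ∀ (U : S.Opens), IsAffineOpen U →
      ∀ (J : Type u) [Preorder J] [IsDirected J (· ≤ ·)] [Nonempty J] (Z : Jᵒᵖ ⥤ Over (U : Scheme.{u})),
      (∀ j, IsAffine (Z.obj j).left) →
      Limits.PreservesColimit (Z ⋙ Over.map U.ι).op (yoneda.obj (Over.mk f))) :
    LocallyOfFinitePresentation f := by
  refine Groth.Agent.AlgGlue.LfpCrit.locallyOfFinitePresentation_of_affine_lifts f ?_
  intro U hU J _ _ _ D t c hc hD g hg
  let j₀ : Jᵒᵖ := Opposite.op (Classical.arbitrary J)
  let Z : Jᵒᵖ ⥤ Over (U : Scheme.{u}) :=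
    { obj := fun j => Over.mk (t.app j)
      map := fun {i k} a => Over.homMk (D.map a) ((t.naturality a).trans (Category.comp_id _))
      map_id := fun i => Over.OverMorphism.ext (D.map_id i)
      map_comp := fun a b => Over.OverMorphism.ext (D.map_comp a b) }
  haveI := h U hU J Z hD
  let E := Z ⋙ Over.map U.ι
  haveI : IsConnected Jᵒᵖ := IsCofiltered.isConnected _
  let s : Limits.Cone E :=
    { pt := Over.mk (g ≫ f)
      π :=
        { app := fun j => Over.homMk (c.π.app j) (hg j).symm
          naturality := fun i k a => Over.OverMorphism.ext (c.π.naturality a) } }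
  have hs : Limits.IsLimit s := by
    apply Limits.isLimitOfReflects (Over.forget S)
    exact Limits.IsLimit.ofIsoLimit hc (Limits.Cone.ext (Iso.refl _) fun j => (Category.id_comp _).symm)
  have := Limits.Types.jointly_surjective_of_isColimit
    (Limits.isColimitOfPreserves (yoneda.obj (Over.mk f)) hs.op) (Over.homMk g rfl : s.pt ⟶ Over.mk f)
  obtain ⟨j, g', hg'⟩ := this
  exact ⟨j.unop, g'.left, Over.w g', congrArg CommaMorphism.left hg'⟩

end Groth.Agent.S4778
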