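import Groth.Statements.S4783
import Groth.Agent.RGLib.LimOpenImm
import Groth.Agent.MorLib.LimPoints

set_option autoImplicit false
universe u
open CategoryTheory AlgebraicGeometry
open Lim8

namespace Groth.Agent.S4783

/-- Let S = lim S_i be a cofiltered limit of schemes whose transition maps are open immersions (in
particular affine), and let S_{i₀} be a Noetherian stage. Then S is integral if and only if there is
an index i over i₀ such that S_j is integral for every j over i. -/
theorem result {I : Type u} [SmallCategory I] [IsCofiltered I]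
    (D : I ⥤ Scheme.{u}) (c : Limits.Cone D) (hc : Limits.IsLimit c)
    [∀ (i j : I) (f : i ⟶ j), IsAffineHom (D.map f)] (i₀ : I)
    [IsNoetherian (D.obj i₀)] (hoi : ∀ (i j : I) (φ : i ⟶ j), IsOpenImmersion (D.map φ)) :
    IsIntegral c.pt ↔ ∃ (i : I) (_ : i ⟶ i₀), ∀ (j : I) (_ : j ⟶ i), IsIntegral (D.obj j) := by
  haveI : ∀ {a b : I} (f : a ⟶ b), IsAffineHom (D.map f) := fun {a b} f => inferInstance
  constructor
  · intro h
    have hN : ∀ U : (D.obj i₀).affineOpens, (nilradical Γ(D.obj i₀, U)).FG := fun U =>
      haveI := IsLocallyNoetherian.component_noetherian (X := D.obj i₀) U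
      IsNoetherian.noetherian _
    obtain ⟨a, α, ha⟩ := Groth.Agent.RGLib.exists_isReduced_of_isReduced hc hoi hN
    obtain ⟨b, β, hb⟩ := Groth.Agent.RGLib.exists_irreducibleSpace (i₀ := i₀) hc hoi
    refine ⟨IsCofiltered.min a b, IsCofiltered.minToLeft a b ≫ α, fun j g => ?_⟩
    haveI := ha j (g ≫ IsCofiltered.minToLeft a b)
    haveI := hb j (g ≫ IsCofiltered.minToRight a b)
    exact isIntegral_of_irreducibleSpace_of_isReduced _
  · rintro ⟨i, φ, hi⟩
    haveI := hi i (𝟙 i)
    haveI : IrreducibleSpace c.pt := Groth.Agent.RGLib.irreducibleSpace_of_eventually hc hoi i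
      fun j g => by haveI := hi j g; infer_instance
    haveI : IsReduced c.pt := by
      by_contra hn
      obtain ⟨k, hk⟩ := Groth.Agent.MorLib.LimPts.not_isReduced hc hn
      haveI := hi (IsCofiltered.min k i) (IsCofiltered.minToRight k i)
      exact hk _ (IsCofiltered.minToLeft k i) inferInstance
    exact isIntegral_of_irreducibleSpace_of_isReduced _

end Groth.Agent.S4783
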