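import Groth.Statements.S4790
import Groth.Agent.RGLib.Lim8Hom

set_option autoImplicit false
universe u
open CategoryTheory AlgebraicGeometry
open Lim8

namespace Groth.Agent.S4790

/-- Let S = lim S_i be a cofiltered limit of schemes with affine transition maps and S_{i₀} a
quasi-compact quasi-separated stage; let F₀ and G₀ be quasi-coherent O-modules of finite
presentation on S_{i₀}. Then the pullbacks of F₀ and G₀ along S ⟶ S_{i₀} are isomorphic if and only
if, for some index j over i₀, their pullbacks along S_j ⟶ S_{i₀} are isomorphic. -/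
theorem result {I : Type u} [SmallCategory I] [IsCofiltered I]
    (D : I ⥤ Scheme.{u}) (c : Limits.Cone D) (hc : Limits.IsLimit c)
    [∀ (i j : I) (f : i ⟶ j), IsAffineHom (D.map f)] (i₀ : I) [CompactSpace (D.obj i₀)]
    [QuasiSeparatedSpace (D.obj i₀)] (F₀ G₀ : (D.obj i₀).Modules)
    [Coh.IsQCoh F₀] (hF₀fp : CohB1.IsFP F₀)
    [Coh.IsQCoh G₀] (hG₀fp : CohB1.IsFP G₀) :
    Nonempty ((Scheme.Modules.pullback (c.π.app i₀)).obj F₀ ≅ (Scheme.Modules.pullback (c.π.app i₀)).obj G₀) ↔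
      ∃ (j : I) (φ : j ⟶ i₀),
        Nonempty ((Scheme.Modules.pullback (D.map φ)).obj F₀ ≅ (Scheme.Modules.pullback (D.map φ)).obj G₀) := by
  open Groth.Agent.RGLib.Lim8 in
  constructor
  · rintro ⟨e⟩
    obtain ⟨j, φ, hj, he⟩ := exists_hom_descend D c hc hF₀fp inferInstance inferInstance e.hom
    let eF := (Scheme.Modules.pullbackComp (c.π.app j) (D.map φ) ≪≫ Scheme.Modules.pullbackCongr (π_eq D c φ)).app F₀
    let eG := (Scheme.Modules.pullbackComp (c.π.app j) (D.map φ) ≪≫ Scheme.Modules.pullbackCongr (π_eq D c φ)).app G₀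
    have h1 : (Scheme.Modules.pullback (c.π.app j)).map hj = eF.hom ≫ e.hom ≫ eG.inv := by
      rw [← he]
      simp [eF, eG]
    haveI : CompactSpace (D.obj j) := QuasiCompact.compactSpace_of_compactSpace (D.map φ)
    have hi : IsIso ((Scheme.Modules.pullback (c.π.app j)).map hj) := by rw [h1]; infer_instance
    have hFq := Groth.Agent.QCoh.isQCoh_pullback (D.map φ) (M := F₀) inferInstance
    have hGq := Groth.Agent.QCoh.isQCoh_pullback (D.map φ) (M := G₀) inferInstance
    obtain ⟨k, ψ, hk⟩ := (ev_isIso D c hc hFq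
      (Groth.Agent.QCoh.isFT_of_isFP (isFP_pullback (D.map φ) inferInstance hF₀fp)) hGq
      (isFP_pullback (D.map φ) inferInstance hG₀fp) hj hi).exists_stage
    refine ⟨k, ψ ≫ φ, ⟨?_⟩⟩
    exact ((Scheme.Modules.pullbackComp (D.map ψ) (D.map φ) ≪≫ Scheme.Modules.pullbackCongr (D.map_comp ψ φ).symm).app F₀).symm ≪≫
      @asIso _ _ _ _ _ hk ≪≫
      (Scheme.Modules.pullbackComp (D.map ψ) (D.map φ) ≪≫ Scheme.Modules.pullbackCongr (D.map_comp ψ φ).symm).app G₀
  · rintro ⟨j, φ, ⟨e⟩⟩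
    let eF := (Scheme.Modules.pullbackComp (c.π.app j) (D.map φ) ≪≫ Scheme.Modules.pullbackCongr (π_eq D c φ)).app F₀
    let eG := (Scheme.Modules.pullbackComp (c.π.app j) (D.map φ) ≪≫ Scheme.Modules.pullbackCongr (π_eq D c φ)).app G₀
    exact ⟨eF.symm ≪≫ (Scheme.Modules.pullback (c.π.app j)).mapIso e ≪≫ eG⟩

end Groth.Agent.S4790
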