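import Groth.Statements.S4806
import Groth.Agent.S2803

set_option autoImplicit false
universe u
open CategoryTheory AlgebraicGeometry
open Lim8

namespace Groth.Agent.S4806

/-- Let f : X ⟶ Y be a proper morphism of finite presentation. Then f is a closed immersion if and only
if, for every point y of Y, the scheme-theoretic fibre of f at y is empty or its structure morphism
to Spec κ(y) is an isomorphism. -/
theorem result {X Y : Scheme.{u}} (f : X ⟶ Y) [IsProper f]
    [LocallyOfFinitePresentation f] :
    IsClosedImmersion f ↔ ∀ y : Y, IsEmpty (f.fiber y) ∨ IsIso (f.fiberToSpecResidueField y) := by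
  refine ⟨fun h y => ?_, fun h => ?_⟩
  · haveI := h
    exact ((Groth.Agent.S2803.result f y).1 ⟨⊤, trivial, inferInstance⟩).1
  · have hl : ∀ y, ∃ U : Y.Opens, y ∈ U ∧ IsClosedImmersion (f ∣_ U) := fun y =>
      (Groth.Agent.S2803.result f y).2 ⟨h y, ⊤, trivial, inferInstance⟩
    choose U hyU hU using hl
    exact IsZariskiLocalAtTarget.of_iSup_eq_top (P := @IsClosedImmersion) U
      (top_unique fun y _ => TopologicalSpace.Opens.mem_iSup.2 ⟨y, hyU y⟩) hU

end Groth.Agent.S4806
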