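import Groth.Statements.S4807
import Groth.Agent.AlgGlue.FiniteModels
import Groth.Agent.MorLib.EventuallyCI

set_option autoImplicit false
set_option backward.isDefEq.respectTransparency false
set_option linter.style.haveILetI false
attribute [-instance] CategoryTheory.catToReflQuiver
attribute [local instance] CategoryTheory.isConnected_of_hasTerminal
universe u
open CategoryTheory AlgebraicGeometry
open Lim8

namespace Groth.Agent.S4807
open TopologicalSpace CategoryTheory.Limits

/-- Let Y be a quasi-compact quasi-separated scheme and f : X ⟶ Y a separated morphism of finite type.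
Let X' be the relative normalization of Y in X, the spectrum of the integral closure of O_Y in
f_*O_X, with its canonical morphism g : X ⟶ X'. Then f admits a factorization X ⟶ Y' ⟶ Y into an
immersion followed by a finite morphism if and only if g is an immersion. -/
theorem result {X Y : Scheme.{u}} (f : X ⟶ Y)
    [CompactSpace Y] [QuasiSeparatedSpace Y] [IsSeparated f] [LocallyOfFiniteType f] [QuasiCompact f] :
    (∃ (Y' : Scheme.{u}) (f' : X ⟶ Y') (u : Y' ⟶ Y), IsImmersion f' ∧ IsFinite u ∧ f' ≫ u = f) ↔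
      IsImmersion f.toNormalization := by
  constructor
  · rintro ⟨Y', f', u, hf', hu, hfu⟩
    haveI : IsImmersion (f.toNormalization ≫ f.normalizationDesc f' u hfu.symm) := by
      rw [Scheme.Hom.toNormalization_normalizationDesc]; exact hf'
    exact IsImmersion.of_comp f.toNormalization (f.normalizationDesc f' u hfu.symm)
  · intro himm
    haveI := himm
    obtain ⟨J, _, _, _, E, c, hc, hE, ⟨e⟩⟩ := AlgGlue.exists_finite_fp_system f.fromNormalization
    haveI : ∀ (i k : Jᵒᵖ) (a : i ⟶ k), IsAffineHom ((E ⋙ Over.forget Y).map a) := fun i k a => by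
      haveI := (hE k).1
      haveI : IsAffineHom ((E.map a).left ≫ (E.obj k).hom) := by
        rw [Over.w]; haveI := (hE i).1; infer_instance
      exact IsAffineHom.of_comp (E.map a).left (E.obj k).hom
    haveI : ∀ i, CompactSpace ((E ⋙ Over.forget Y).obj i) := fun i => by
      haveI := (hE i).1
      exact QuasiCompact.compactSpace_of_compactSpace (E.obj i).hom
    let C := (Over.forget Y).mapCone c
    have hC : IsLimit C := isLimitOfPreserves (Over.forget Y) hc
    haveI : IsIso e.inv.left := inferInstanceAs (IsIso ((Over.forget Y).map e.inv))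
    let j : X ⟶ C.pt := f.toNormalization ≫ e.inv.left
    have hew : e.inv.left ≫ c.pt.hom = f.fromNormalization := Over.w e.inv
    haveI : IsImmersion j := inferInstanceAs (IsImmersion (f.toNormalization ≫ e.inv.left))
    haveI : CompactSpace X := QuasiCompact.compactSpace_of_compactSpace f
    obtain ⟨U, hUc, hjU, hUb⟩ : ∃ U : C.pt.Opens, IsCompact (U : Set C.pt) ∧
        Set.range j ⊆ U ∧ U ≤ j.coborderRange := by
      have hsub : Set.range j ⊆ (j.coborderRange : Set C.pt) := fun x hx => subset_coborder hx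
      have hx : ∀ x ∈ Set.range j, ∃ V : C.pt.Opens, IsAffineOpen V ∧ x ∈ V ∧ V ≤ j.coborderRange :=
        fun x hx => exists_isAffineOpen_mem_and_subset (hsub hx)
      choose! V hV hxV hVb using hx
      obtain ⟨t, ht, htf, htU⟩ := (isCompact_range j.continuous).elim_finite_subcover_image
        (fun x _ => (V x).2) (fun x hx => Set.mem_biUnion hx (hxV x hx))
      refine ⟨⨆ x : t, V x.1, ?_, fun x hx => ?_, iSup_le fun x => hVb _ (ht x.2)⟩
      · rw [Opens.coe_iSup]
        haveI := htf.to_subtype
        exact isCompact_iUnion fun x => (hV _ (ht x.2)).isCompact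
      · obtain ⟨y, hy, hxy⟩ := Set.mem_iUnion₂.1 (htU hx)
        exact Opens.mem_iSup.2 ⟨⟨y, hy⟩, hxy⟩
    obtain ⟨i, V, hV, rfl⟩ := exists_preimage_eq (E ⋙ Over.forget Y) C hC U hUc
    let D' := opensDiagram (E ⋙ Over.forget Y) i V
    let C' := opensCone (E ⋙ Over.forget Y) C i V
    have hC' : IsLimit C' := isLimitOpensCone (E ⋙ Over.forget Y) C hC i V
    let h : X ⟶ C'.pt := IsOpenImmersion.lift (C.π.app i ⁻¹ᵁ V).ι j
      (hjU.trans (Scheme.Opens.range_ι (C.π.app i ⁻¹ᵁ V)).ge)
    have hh : h ≫ (C.π.app i ⁻¹ᵁ V).ι = j := IsOpenImmersion.lift_fac _ _ _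
    haveI : IsPreimmersion (h ≫ (C.π.app i ⁻¹ᵁ V).ι) := by rw [hh]; infer_instance
    haveI : IsPreimmersion h := IsPreimmersion.of_comp h (C.π.app i ⁻¹ᵁ V).ι
    haveI : IsClosedImmersion h := by
      refine IsClosedImmersion.of_isPreimmersion h ?_
      have hcl : IsClosed (Set.range j.liftCoborder) := j.liftCoborder.isClosedEmbedding.isClosed_range
      let q : C'.pt ⟶ j.coborderRange.toScheme :=
        IsOpenImmersion.lift j.coborderRange.ι (C.π.app i ⁻¹ᵁ V).ι
          ((Scheme.Opens.range_ι (C.π.app i ⁻¹ᵁ V)).le.trans (Set.Subset.trans hUb (Scheme.Opens.range_ι j.coborderRange).ge))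
      have hq : q ≫ j.coborderRange.ι = (C.π.app i ⁻¹ᵁ V).ι := IsOpenImmersion.lift_fac _ _ _
      have hhq : h ≫ q = j.liftCoborder := by
        rw [← cancel_mono j.coborderRange.ι, Category.assoc, hq, hh, Scheme.Hom.liftCoborder_ι]
      have : Set.range h = q ⁻¹' Set.range j.liftCoborder := by
        haveI : Mono q := mono_of_mono_fac hq
        haveI : IsOpenImmersion (q ≫ j.coborderRange.ι) := by rw [hq]; infer_instance
        haveI : IsOpenImmersion q := IsOpenImmersion.of_comp q j.coborderRange.ι
        ext z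
        constructor
        · rintro ⟨x, rfl⟩
          exact ⟨x, by rw [← hhq, Scheme.Hom.comp_apply]⟩
        · rintro ⟨x, hx⟩
          refine ⟨x, q.isOpenEmbedding.injective ?_⟩
          rw [← hx, ← hhq, Scheme.Hom.comp_apply]
      rw [this]
      exact hcl.preimage q.continuous
    haveI : CompactSpace (D'.obj (Over.mk (𝟙 i))) := by
      rw [← isCompact_univ_iff]
      refine (Scheme.Opens.ι _).isOpenEmbedding.isInducing.isCompact_iff.2 ?_
      rw [Set.image_univ, Scheme.Opens.range_ι]
      have h0 : (E ⋙ Over.forget Y).map (𝟙 i) ⁻¹ᵁ V = V := by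
        rw [CategoryTheory.Functor.map_id]; rfl
      exact (congrArg (fun W : ((E ⋙ Over.forget Y).obj i).Opens => IsCompact (W : Set ((E ⋙ Over.forget Y).obj i))) h0).mpr hV
    let t : D'.obj (Over.mk (𝟙 i)) ⟶ Y :=
      (opensDiagramι (E ⋙ Over.forget Y) i V).app (Over.mk (𝟙 i)) ≫ (E.obj i).hom
    have hproj : ∀ k : Over i, h ≫ C'.π.app k ≫ (opensDiagramι (E ⋙ Over.forget Y) i V).app k ≫ (E.obj k.left).hom = f := by
      intro k
      show h ≫ (C.π.app k.left).resLE _ _ _ ≫ Scheme.Opens.ι _ ≫ (E.obj k.left).hom = f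
      rw [Scheme.Hom.resLE_comp_ι_assoc]
      refine ((Category.assoc h _ _).symm.trans (congrArg (· ≫ _) hh)).trans ?_
      show (f.toNormalization ≫ e.inv.left) ≫ (c.π.app k.left).left ≫ (E.obj k.left).hom = f
      rw [Over.w, Category.assoc]
      exact (congrArg (f.toNormalization ≫ ·) hew).trans f.toNormalization_fromNormalization
    haveI : LocallyOfFiniteType (h ≫ C'.π.app (Over.mk (𝟙 i)) ≫ t) := by
      show LocallyOfFiniteType (h ≫ C'.π.app (Over.mk (𝟙 i)) ≫
        (opensDiagramι (E ⋙ Over.forget Y) i V).app (Over.mk (𝟙 i)) ≫ (E.obj i).hom)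
      exact (congrArg (fun m => LocallyOfFiniteType m) (hproj (Over.mk (𝟙 i)))).mpr inferInstance
    haveI : ∀ {a b : Over i} (φ : a ⟶ b), IsAffineHom (D'.map φ) := by
      intro a b φ
      have hpb : IsPullback (D'.map φ) ((opensDiagramι (E ⋙ Over.forget Y) i V).app a)
          ((opensDiagramι (E ⋙ Over.forget Y) i V).app b) ((E ⋙ Over.forget Y).map φ.left) := by
        refine IsOpenImmersion.isPullback _ _ _ _ ?_ ?_
        · exact ((opensDiagramι (E ⋙ Over.forget Y) i V).naturality φ).symm
        · show _ ⁻¹ᵁ Scheme.Hom.opensRange (Scheme.Opens.ι _) = Scheme.Hom.opensRange (Scheme.Opens.ι _)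
          rw [Scheme.Opens.opensRange_ι, Scheme.Opens.opensRange_ι, ← Scheme.Hom.comp_preimage,
            ← Functor.map_comp, Over.w φ]
      exact MorphismProperty.of_isPullback (P := @IsAffineHom) hpb.flip inferInstance
    obtain ⟨k, hk⟩ := MorLib.EvCI.exists_isClosedImmersion hC' (Over.mk (𝟙 i)) t h
    haveI := hk k (𝟙 k)
    refine ⟨(E.obj k.left.left).left, (h ≫ C'.π.app k.left) ≫ (opensDiagramι (E ⋙ Over.forget Y) i V).app k.left,
      (E.obj k.left.left).hom, inferInstance, (hE _).1, ?_⟩
    rw [Category.assoc, Category.assoc]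
    exact hproj k.left

end Groth.Agent.S4807
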