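import Groth.Statements.S4822
import Groth.Agent.AmpleX.FibreCrit
import Groth.Agent.AlgSpPts.Sep

set_option autoImplicit false
open CategoryTheory AlgebraicGeometry
universe u
open Cons9

namespace Groth.Agent.S4822

open CategoryTheory.Limits in
/-- Let g : Y ⟶ S and f : X ⟶ Y be morphisms such that X and Y are of finite presentation over S
(locally of finite presentation, quasi-compact and quasi-separated) and f is proper, and let L be an
invertible O_X-module. For each point s of S let f_s : X_s ⟶ Y_s be the morphism induced on the
fibres over s and L_s the pullback of L to X_s. Then the set of s for which L_s is ample relative to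
f_s is locally constructible in S. This is the case of relative ampleness (the very ample case is
not stated here). -/
theorem result {X Y S : Scheme.{u}} (f : X ⟶ Y) (g : Y ⟶ S)
    [LocallyOfFinitePresentation g] [QuasiCompact g] [QuasiSeparated g]
    [LocallyOfFinitePresentation (f ≫ g)] [QuasiCompact (f ≫ g)] [QuasiSeparated (f ≫ g)] [IsProper f]
    (L : X.Modules) (hL : PicF.IsInvertible L) :
    Topology.IsLocallyConstructible {s : S |
      RelAmple.IsRelAmple
        (pullback.lift (pullback.fst (f ≫ g) (S.fromSpecResidueField s) ≫ f) (pullback.snd (f ≫ g) (S.fromSpecResidueField s))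
          ((Category.assoc _ _ _).trans pullback.condition) :
          pullback (f ≫ g) (S.fromSpecResidueField s) ⟶ pullback g (S.fromSpecResidueField s))
        ((Scheme.Modules.pullback (pullback.fst (f ≫ g) (S.fromSpecResidueField s))).obj L)} := by
  haveI : LocallyOfFinitePresentation f := Groth.Agent.AlgSpPts.locallyOfFinitePresentation_of_comp f g
  have key : ∀ s : S, RelAmple.IsRelAmple
          (pullback.lift (pullback.fst (f ≫ g) (S.fromSpecResidueField s) ≫ f) (pullback.snd (f ≫ g) (S.fromSpecResidueField s))
            ((Category.assoc _ _ _).trans pullback.condition) :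
            pullback (f ≫ g) (S.fromSpecResidueField s) ⟶ pullback g (S.fromSpecResidueField s))
          ((Scheme.Modules.pullback (pullback.fst (f ≫ g) (S.fromSpecResidueField s))).obj L) ↔
        ∀ y, g y = s → y ∈ Groth.Agent.AmpleX.ampleLocus f L := fun s => by
    set fs : pullback (f ≫ g) (S.fromSpecResidueField s) ⟶ pullback g (S.fromSpecResidueField s) :=
      pullback.lift (pullback.fst (f ≫ g) (S.fromSpecResidueField s) ≫ f) (pullback.snd (f ≫ g) (S.fromSpecResidueField s))
        ((Category.assoc _ _ _).trans pullback.condition)
    have hP : IsPullback (pullback.fst (f ≫ g) (S.fromSpecResidueField s)) fs f (pullback.fst g (S.fromSpecResidueField s)) := by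
      refine IsPullback.of_bot ?_ (pullback.lift_fst _ _ _).symm (IsPullback.of_hasPullback g (S.fromSpecResidueField s))
      rw [pullback.lift_snd]
      exact IsPullback.of_hasPullback (f ≫ g) _
    haveI : IsProper fs := MorphismProperty.of_isPullback hP ‹IsProper f›
    haveI : LocallyOfFinitePresentation fs := MorphismProperty.of_isPullback hP ‹LocallyOfFinitePresentation f›
    rw [Groth.Agent.AmpleX.isRelAmple_iff_forall_fibre fs (Groth.Agent.PicClLib.isInvertible_pullback _ hL),
      Groth.Agent.AmpleX.ampleLocus_preimage hL hP]
    constructor
    · intro h y hy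
      obtain ⟨z, rfl⟩ := (Scheme.Pullback.range_fst g (S.fromSpecResidueField s)).ge
        (show y ∈ g ⁻¹' Set.range (S.fromSpecResidueField s) by rw [Scheme.range_fromSpecResidueField]; exact hy)
      exact h z
    · intro h z
      refine h _ ?_
      have h1 : g (pullback.fst g (S.fromSpecResidueField s) z) =
          S.fromSpecResidueField s (pullback.snd g (S.fromSpecResidueField s) z) := by
        rw [← Scheme.Hom.comp_apply, pullback.condition, Scheme.Hom.comp_apply]
      rw [h1, Scheme.fromSpecResidueField_apply]
  simp only [key]
  exact Groth.Agent.AmpleX.isLocallyConstructible_setOf_forall_fibre f hL g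

end Groth.Agent.S4822
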