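import Groth.Statements.S4828
import Groth.Agent.H1GeomRk.BaseCons
set_option backward.isDefEq.respectTransparency false
set_option backward.isDefEq.respectTransparency.types false

set_option autoImplicit false
open CategoryTheory AlgebraicGeometry
universe u
open Cons9

namespace Groth.Agent.S4828

/-- Let f : X ⟶ S be a morphism of finite presentation (locally of finite presentation, quasi-compact
and quasi-separated) and k a natural number. Then the set of points s of S whose fibre X_s has the
geometric property (R_k), i.e. such that for every extension field K of κ(s) all local rings of X_s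
⊗_{κ(s)} K satisfy Serre's condition (R_k), is locally constructible in S. -/
theorem result {X S : Scheme.{u}} (f : X ⟶ S)
    [LocallyOfFinitePresentation f] [QuasiCompact f] [QuasiSeparated f] (k : ℕ) :
    Topology.IsLocallyConstructible {s : S |
      ∀ (K : Type u) [Field K] [Algebra (IsLocalRing.ResidueField (S.presheaf.stalk s)) K]
        (x' : ↥(FBase.bc (f.fiberToSpecResidueField s) K)),
        LocCoh.HasRk k ((FBase.bc (f.fiberToSpecResidueField s) K).presheaf.stalk x')} := by
  convert Groth.Agent.H1GeomRk.isLocallyConstructible_base f
    (fun s w => ∀ (K : Type u) [Field K] [Algebra (IsLocalRing.ResidueField (S.presheaf.stalk s)) K]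
      (x' : ↥(FBase.bc (f.fiberToSpecResidueField s) K)), (FBase.bcπ (f.fiberToSpecResidueField s) K).base x' = w →
        LocCoh.HasRk k ((FBase.bc (f.fiberToSpecResidueField s) K).presheaf.stalk x')) ?_ using 1
  · ext s
    exact ⟨fun h w K _ _ x' _ => h K x', fun h K _ _ x' => h _ K x' rfl⟩
  convert Groth.Agent.H1GeomRk.isLocallyConstructible_grkP f k using 1
  ext x
  haveI := Groth.Agent.FibreLoc5.lfp_fibre f (f.base x)
  exact Groth.Agent.H1GeomRk.forall_iff (f.fiberToSpecResidueField (f.base x)) k (f.asFiber x)

end Groth.Agent.S4828
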