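import Groth.Statements.S4847
import Groth.Agent.S0392
import Groth.Agent.QCoh.Stalk
import Groth.Agent.QCoh.FT
set_option backward.isDefEq.respectTransparency false
set_option backward.isDefEq.respectTransparency.types false
set_option maxHeartbeats 1000000
open TensorProduct

set_option autoImplicit false
universe u
open EGA43

namespace Groth.Agent.S4847

open AlgebraicGeometry CategoryTheory Limits in
/-- Case 1° (fibrewise flatness criterion for locally Noetherian schemes): let S, X and Y be locally
Noetherian schemes, f : X ⟶ Y and h : Y ⟶ S arbitrary morphisms, F a coherent O_X-module and x a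
point of X with images y in Y and s in S, such that the stalk F_x is nonzero. Then F is flat over S
at x and F_x / m_s F_x is flat over O_{Y,y} / m_s O_{Y,y} (that is, the fibre module F_s is flat
over the fibre Y_s at x) if and only if h is flat at y and F is flat over Y at x. No finiteness
hypothesis on f or h is required in this case. -/
theorem result {X Y S : Scheme.{u}}
    [IsLocallyNoetherian X] [IsLocallyNoetherian Y] [IsLocallyNoetherian S]
    (f : X ⟶ Y) (h : Y ⟶ S) (F : X.Modules) (hF : Coh.IsCoh F) (x : X)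
    (hx : Nontrivial ↑(F.presheaf.stalk x)) :
    letI := FlatMod.moduleStalkOver f F x
    (FlatMod.IsFlatOverAt (f ≫ h) F x ∧
      Module.Flat (↑(Y.presheaf.stalk (f x)) ⧸ Ideal.map (h.stalkMap (f x)).hom (IsLocalRing.maximalIdeal ↑(S.presheaf.stalk (h (f x)))))
        (↑(F.presheaf.stalk x) ⧸ (Ideal.map (h.stalkMap (f x)).hom (IsLocalRing.maximalIdeal ↑(S.presheaf.stalk (h (f x)))) •
          (⊤ : Submodule ↑(Y.presheaf.stalk (f x)) ↑(F.presheaf.stalk x))))) ↔
    ((h.stalkMap (f x)).hom.Flat ∧ FlatMod.IsFlatOverAt f F x) := by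
  letI := FlatMod.moduleStalkOver f F x
  let R := S.presheaf.stalk (h (f x))
  let B := Y.presheaf.stalk (f x)
  let C := X.presheaf.stalk x
  letI : Algebra R B := (h.stalkMap (f x)).hom.toAlgebra
  letI : Algebra B C := (f.stalkMap x).hom.toAlgebra
  letI : Algebra R C := ((f.stalkMap x).hom.comp (h.stalkMap (f x)).hom).toAlgebra
  haveI : IsScalarTower R B C := IsScalarTower.of_algebraMap_eq fun _ => rfl
  haveI : IsScalarTower B C (F.presheaf.stalk x) := IsScalarTower.of_algebraMap_smul fun _ _ => rfl
  letI : Module R (F.presheaf.stalk x) := Module.compHom _ (h.stalkMap (f x)).hom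
  haveI : IsScalarTower R B (F.presheaf.stalk x) := IsScalarTower.of_algebraMap_smul fun _ _ => rfl
  haveI : IsLocalHom (algebraMap R B) := (inferInstance : IsLocalHom (h.stalkMap (f x)).hom)
  haveI : IsLocalHom (algebraMap B C) := (inferInstance : IsLocalHom (f.stalkMap x).hom)
  haveI : Module.Finite C (F.presheaf.stalk x) := QCoh.finite_stalk_of_isFT hF.1 hF.2 x
  haveI : Nontrivial (F.presheaf.stalk x) := hx
  have hcomp : ((f ≫ h).stalkMap x).hom = (f.stalkMap x).hom.comp (h.stalkMap (f x)).hom := by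
    rw [Scheme.Hom.stalkMap_comp]
    rfl
  have hov : FlatMod.IsFlatOverAt (f ≫ h) F x ↔ Module.Flat R (F.presheaf.stalk x) := by
    have hmod : FlatMod.moduleStalkOver (f ≫ h) F x = (inferInstance : Module R (F.presheaf.stalk x)) :=
      Module.ext' _ _ fun r m => by
        show ((f ≫ h).stalkMap x).hom r • m = _
        rw [hcomp]
        rfl
    exact iff_of_eq (congrArg (fun I => @Module.Flat R (F.presheaf.stalk x) _ _ I) hmod)
  let 𝔞 := (IsLocalRing.maximalIdeal R).map (algebraMap R B)
  let e : (B ⧸ 𝔞) ⊗[B] F.presheaf.stalk x ≃ₗ[B ⧸ 𝔞] F.presheaf.stalk x ⧸ 𝔞 • (⊤ : Submodule B (F.presheaf.stalk x)) :=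
    { (TensorProduct.quotTensorEquivQuotSMul (F.presheaf.stalk x) 𝔞) with
      map_smul' := fun c z => by
        obtain ⟨c, rfl⟩ := Ideal.Quotient.mk_surjective c
        show TensorProduct.quotTensorEquivQuotSMul (F.presheaf.stalk x) 𝔞 (algebraMap B (B ⧸ 𝔞) c • z) =
          algebraMap B (B ⧸ 𝔞) c • TensorProduct.quotTensorEquivQuotSMul (F.presheaf.stalk x) 𝔞 z
        rw [algebraMap_smul, algebraMap_smul, map_smul] }
  refine ⟨fun hh => ?_, fun hh => ?_⟩
  · haveI := hov.1 hh.1
    haveI : Module.Flat (B ⧸ 𝔞) (F.presheaf.stalk x ⧸ 𝔞 • (⊤ : Submodule B (F.presheaf.stalk x))) := hh.2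
    exact Groth.Agent.S0392.result (R := R) (S := B) (S' := C) (M := F.presheaf.stalk x) (Module.Flat.of_linearEquiv e)
  · haveI : Module.Flat R B := hh.1
    haveI : Module.Flat B (F.presheaf.stalk x) := hh.2
    refine ⟨hov.2 (Module.Flat.trans R B _), ?_⟩
    show Module.Flat (B ⧸ 𝔞) (F.presheaf.stalk x ⧸ 𝔞 • (⊤ : Submodule B (F.presheaf.stalk x)))
    exact Module.Flat.of_linearEquiv e.symm

end Groth.Agent.S4847
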