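import Groth.Statements.S4851
import Groth.Agent.H1FibInj.Chart
import Groth.Agent.H1FibInj.OpenLocus
set_option backward.isDefEq.respectTransparency false
set_option backward.isDefEq.respectTransparency.types false
set_option maxHeartbeats 1000000

set_option autoImplicit false
universe u
open EGA43

namespace Groth.Agent.S4851

open AlgebraicGeometry CategoryTheory Limits in
/-- Let f : X ⟶ Y be locally of finite presentation, F and F' quasi-coherent O_X-modules of finite
presentation and u : F' ⟶ F a homomorphism. Then the set of points x of X at which the stalk map u_x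
is injective and Coker u is f-flat at x is open in X. (No flatness hypothesis on F is made; the form
of this openness statement in which F is moreover assumed f-flat is a special case.) -/
theorem result {X Y : Scheme.{u}} (f : X ⟶ Y)
    [LocallyOfFinitePresentation f] (F F' : X.Modules) [Coh.IsQCoh F] [Coh.IsQCoh F']
    (hF : CohB1.IsFP F) (hF' : CohB1.IsFP F') (u : F' ⟶ F) :
    IsOpen {x : X | Function.Injective ((TopCat.Presheaf.stalkFunctor Ab x).map (Scheme.Modules.Hom.mapPresheaf u)) ∧
      FlatMod.IsFlatOverAt f (cokernel u) x} := by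
  rw [isOpen_iff_forall_mem_open]
  intro x hx
  obtain ⟨V, hV, hxV, -⟩ := exists_isAffineOpen_mem_and_subset (U := (⊤ : Y.Opens)) (x := f x) trivial
  obtain ⟨U, hU, hxU, hUV⟩ := exists_isAffineOpen_mem_and_subset (U := f ⁻¹ᵁ V) (x := x) hxV
  letI : Algebra Γ(Y, V) Γ(X, U) := (f.appLE V U hUV).hom.toAlgebra
  haveI : Algebra.FinitePresentation Γ(Y, V) Γ(X, U) := f.finitePresentation_appLE hV hU hUV
  haveI := QCoh.finitePresentation_of_isFP hF hU
  haveI := QCoh.finitePresentation_of_isFP hF' hU
  letI : Module Γ(Y, V) Γ(F, U) := Module.compHom _ (f.appLE V U hUV).hom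
  haveI : IsScalarTower Γ(Y, V) Γ(X, U) Γ(F, U) := IsScalarTower.of_algebraMap_smul fun _ _ => rfl
  have key := fun z (hz : z ∈ U) =>
    (H1FibInj.chart f u (F := F) (F' := F') inferInstance inferInstance hU hV hUV hz).1
  refine ⟨hU.fromSpec '' {q | H1FibInj.Concl Γ(Y, V) (QCoh.appLin u U) q}, ?_,
    hU.fromSpec.isOpenEmbedding.isOpenMap _ (H1FibInj.isOpen_concl (QCoh.appLin u U)), ?_⟩
  · rintro _ ⟨q, hq, rfl⟩
    have hz : hU.fromSpec q ∈ U := (Set.ext_iff.1 hU.range_fromSpec _).1 (Set.mem_range_self q)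
    refine (key _ hz).2 ?_
    have he : hU.primeIdealOf ⟨hU.fromSpec q, hz⟩ = q :=
      hU.fromSpec.isOpenEmbedding.injective (hU.fromSpec_primeIdealOf ⟨_, hz⟩)
    exact he.symm ▸ hq
  · exact ⟨hU.primeIdealOf ⟨x, hxU⟩, (key x hxU).1 hx, hU.fromSpec_primeIdealOf ⟨x, hxU⟩⟩

end Groth.Agent.S4851
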