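import Groth.Statements.S4864
import Groth.Agent.S4863
import Groth.Agent.FDescent.QuasiFlat

set_option autoImplicit false
universe u
open EGA43

namespace Groth.Agent.S4864

open AlgebraicGeometry CategoryTheory Limits in
/-- Let f : X ⟶ Y and g : Y ⟶ Z be morphisms of finite presentation and F a quasi-coherent O_X-module of
finite presentation. Then the set U of points y of Y such that, for every generization y' of y, F is
(f ≫ g)-flat at every point of X above y', is open in Y. -/
theorem result {X Y Z : Scheme.{u}} (f : X ⟶ Y) (g : Y ⟶ Z)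
    [LocallyOfFinitePresentation f] [QuasiCompact f] [QuasiSeparated f]
    [LocallyOfFinitePresentation g] [QuasiCompact g] [QuasiSeparated g]
    (F : X.Modules) [Coh.IsQCoh F] (hF : CohB1.IsFP F) :
    IsOpen {y : Y | ∀ y' : Y, y' ⤳ y → ∀ x : X, f x = y' → FlatMod.IsFlatOverAt (f ≫ g) F x} := by
  haveI : LocallyOfFinitePresentation (f ≫ g) := inferInstance
  let C : TopologicalSpace.Closeds X :=
    ⟨{x : X | FlatMod.IsFlatOverAt (f ≫ g) F x}ᶜ, (Groth.Agent.S4863.result (f ≫ g) F hF).isClosed_compl⟩
  let J := Scheme.IdealSheafData.vanishingIdeal C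
  have hrange : Set.range J.subschemeι = (C : Set X) := by
    rw [Scheme.IdealSheafData.range_subschemeι, Scheme.IdealSheafData.coe_support_vanishingIdeal]
  rw [← isClosed_compl_iff]
  refine isClosed_of_closure_subset fun y hy hmem => ?_
  have hsub : {y : Y | ∀ y' : Y, y' ⤳ y → ∀ x : X, f x = y' → FlatMod.IsFlatOverAt (f ≫ g) F x}ᶜ ⊆
      closure (Set.range (J.subschemeι ≫ f)) := by
    intro z hz
    simp only [Set.mem_compl_iff, Set.mem_setOf_eq, not_forall] at hz
    obtain ⟨y', hy', x, hx, hnf⟩ := hz
    obtain ⟨c, hc⟩ : x ∈ Set.range J.subschemeι := hrange.ge hnf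
    refine hy'.mem_closed isClosed_closure (subset_closure ⟨c, ?_⟩)
    rw [Scheme.Hom.comp_apply, hc, hx]
  obtain ⟨c, hzy⟩ := Groth.Agent.FDescent.exists_specializes_of_mem_closure_range (J.subschemeι ≫ f)
    (closure_minimal hsub isClosed_closure hy)
  exact hrange.le ⟨c, rfl⟩ (hmem _ hzy (J.subschemeι c) (Scheme.Hom.comp_apply _ _ _).symm)

end Groth.Agent.S4864
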