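import Groth.Statements.S4866
import Groth.Agent.H1FibInj.Chart2
import Groth.Agent.KZ.LFRes
set_option backward.isDefEq.respectTransparency false
set_option backward.isDefEq.respectTransparency.types false
set_option maxHeartbeats 1000000

set_option autoImplicit false
universe u
open EGA43

namespace Groth.Agent.S4866

open AlgebraicGeometry CategoryTheory Limits in
/-- Let Y be a locally Noetherian scheme, f : X ⟶ Y locally of finite type, F a coherent f-flat
O_X-module and g₁, …, gₙ sections of O_X over X. Then the set of points x of X, with y = f x, such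
that the germs (gᵢ)_x form a weakly regular sequence on the fibre module F_x / m_y F_x (each gᵢ is a
non-zero-divisor on the quotient by the preceding ones; the quotient by all of them may be zero) is
open in X. -/
theorem result {X Y : Scheme.{u}} [IsLocallyNoetherian Y] (f : X ⟶ Y)
    [LocallyOfFiniteType f] (F : X.Modules) (hF : Coh.IsCoh F) (hflat : FlatMod.IsFlatOver f F)
    (n : ℕ) (g : Fin n → Γ(X, ⊤)) :
    IsOpen {x : X |
      RingTheory.Sequence.IsWeaklyRegular
        (↑(F.presheaf.stalk x) ⧸ (Ideal.map (f.stalkMap x).hom (IsLocalRing.maximalIdeal ↑(Y.presheaf.stalk (f x))) •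
          (⊤ : Submodule ↑(X.presheaf.stalk x) ↑(F.presheaf.stalk x))))
        (List.ofFn fun i => (X.presheaf.germ ⊤ x trivial) (g i))} := by
  haveI : IsLocallyNoetherian X := LocallyOfFiniteType.isLocallyNoetherian f
  haveI : LocallyOfFinitePresentation f :=
    LocallyOfFinitePresentation.iff_locallyOfFiniteType.2 inferInstance
  have hfp : CohB1.IsFP F := KZ.LFRes.isFP_of_isCoh hF
  have hM : Coh.IsQCoh F := QCoh.isQCoh_of_isFP hfp
  rw [isOpen_iff_forall_mem_open]
  intro x hx
  obtain ⟨V, hV, hxV, -⟩ := exists_isAffineOpen_mem_and_subset (U := (⊤ : Y.Opens)) (x := f x) trivial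
  obtain ⟨U, hU, hxU, hUV⟩ := exists_isAffineOpen_mem_and_subset (U := f ⁻¹ᵁ V) (x := x) hxV
  letI : Algebra Γ(Y, V) Γ(X, U) := (f.appLE V U hUV).hom.toAlgebra
  haveI : Algebra.FinitePresentation Γ(Y, V) Γ(X, U) := f.finitePresentation_appLE hV hU hUV
  letI : Module Γ(Y, V) Γ(F, U) := Module.compHom _ (f.appLE V U hUV).hom
  haveI : IsScalarTower Γ(Y, V) Γ(X, U) Γ(F, U) := IsScalarTower.of_algebraMap_smul fun _ _ => rfl
  haveI := QCoh.finitePresentation_of_isFP hfp hU
  haveI : Module.Flat Γ(Y, V) Γ(F, U) := (QCoh.flat_appLE_iff f hM hU hV hUV).2 fun z _ => hflat z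
  let g' : List Γ(X, U) := List.ofFn fun i => X.presheaf.map (homOfLE le_top).op (g i)
  have key : ∀ z (hz : z ∈ U),
      (List.ofFn fun i => (X.presheaf.germ ⊤ z trivial) (g i)) = g'.map (X.presheaf.germ U z hz).hom := fun z hz => by
    rw [List.map_ofFn]
    congr 1
    funext i
    exact (X.presheaf.germ_res_apply (homOfLE le_top) z hz (g i)).symm
  refine ⟨hU.fromSpec '' {q | RingTheory.Sequence.IsWeaklyRegular
      (TensorProduct Γ(Y, V) (LocalizedModule q.asIdeal.primeCompl Γ(F, U))
        (q.asIdeal.comap (algebraMap Γ(Y, V) Γ(X, U))).ResidueField) g'}, ?_,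
    hU.fromSpec.isOpenEmbedding.isOpenMap _ (H1FibInj.isOpen_fibre_weaklyRegular g'), ?_⟩
  · rintro _ ⟨q, hq, rfl⟩
    have hz : hU.fromSpec q ∈ U := (Set.ext_iff.1 hU.range_fromSpec _).1 (Set.mem_range_self q)
    show RingTheory.Sequence.IsWeaklyRegular _ _
    rw [key _ hz]
    refine (H1FibInj.fibre_weaklyRegular_iff f hM hU hV hUV hz g').2 ?_
    have he : hU.primeIdealOf ⟨hU.fromSpec q, hz⟩ = q :=
      hU.fromSpec.isOpenEmbedding.injective (hU.fromSpec_primeIdealOf ⟨_, hz⟩)
    exact he.symm ▸ hq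
  · refine ⟨hU.primeIdealOf ⟨x, hxU⟩, (H1FibInj.fibre_weaklyRegular_iff f hM hU hV hUV hxU g').1 ?_,
      hU.fromSpec_primeIdealOf ⟨x, hxU⟩⟩
    rw [← key x hxU]
    exact hx

end Groth.Agent.S4866
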