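import Groth.Statements.S4867
import Groth.Agent.H1FlatLimit.Noeth

set_option autoImplicit false
universe u
open CategoryTheory AlgebraicGeometry
open EGA43
open Groth.Agent.ConsPropLib
set_option backward.isDefEq.respectTransparency false
set_option backward.isDefEq.respectTransparency.types false
set_option maxHeartbeats 1000000

namespace Groth.Agent.S4867

/-- Let A be a commutative ring, f : X ⟶ Spec A a morphism of finite presentation, F a quasi-coherent
O_X-module of finite presentation and x a point of X. If F is f-flat at x, then there are a finitely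
generated subring A₀ of A, a morphism of finite type f₀ : X₀ ⟶ Spec A₀, a coherent O_{X₀}-module F₀
and a cartesian square q : X ⟶ X₀ over Spec A ⟶ Spec A₀ together with an isomorphism q^*F₀ ≅ F, such
that F₀ is f₀-flat at q x; and if F is f-flat, F₀ can be chosen f₀-flat. -/
theorem result {A : Type u} [CommRing A] {X : Scheme.{u}}
    (f : X ⟶ Spec (CommRingCat.of A)) [LocallyOfFinitePresentation f] [QuasiCompact f] [QuasiSeparated f]
    (F : X.Modules) [Coh.IsQCoh F] (hF : CohB1.IsFP F) (x : X) :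
    (FlatMod.IsFlatOverAt f F x →
      ∃ (A₀ : Subalgebra ℤ A) (_ : A₀.FG) (X₀ : Scheme.{u}) (f₀ : X₀ ⟶ Spec (CommRingCat.of ↥A₀))
        (_ : LocallyOfFiniteType f₀) (_ : QuasiCompact f₀) (F₀ : X₀.Modules) (_ : Coh.IsCoh F₀) (q : X ⟶ X₀)
        (_ : IsPullback q f f₀ (Spec.map (CommRingCat.ofHom A₀.val.toRingHom)))
        (_ : (Scheme.Modules.pullback q).obj F₀ ≅ F),
        FlatMod.IsFlatOverAt f₀ F₀ (q x)) ∧
    (FlatMod.IsFlatOver f F →
      ∃ (A₀ : Subalgebra ℤ A) (_ : A₀.FG) (X₀ : Scheme.{u}) (f₀ : X₀ ⟶ Spec (CommRingCat.of ↥A₀))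
        (_ : LocallyOfFiniteType f₀) (_ : QuasiCompact f₀) (F₀ : X₀.Modules) (_ : Coh.IsCoh F₀) (q : X ⟶ X₀)
        (_ : IsPullback q f f₀ (Spec.map (CommRingCat.ofHom A₀.val.toRingHom)))
        (_ : (Scheme.Modules.pullback q).obj F₀ ≅ F),
        FlatMod.IsFlatOver f₀ F₀) := by
  obtain ⟨s, X₁, f₁, g₁, G, hlfp, hqc, _, hX, hG, hGft, hGfp, ⟨ψ⟩⟩ :=
    Groth.Agent.H1FlatLimit.exists_noetherian_descent f F hF
  let D := NoethApprox.diagram (CommRingCat.of A)
  let c : Limits.Cone D := NoethApprox.cone (CommRingCat.of A)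
  haveI := hlfp
  haveI := hqc
  haveI : LocallyOfFiniteType f₁ := inferInstance
  haveI : ∀ (i j : (Finset A)ᵒᵖ) (φ : i ⟶ j), IsAffineHom (D.map φ) := fun i j φ =>
    Groth.Agent.ConsPropLib.NoethApprox.isAffineHom_map _ φ
  haveI : ∀ i, IsAffine (D.obj i) := fun i => Groth.Agent.ConsPropLib.NoethApprox.isAffine_obj _ i
  have hc : Limits.IsLimit c := NoethApprox.isLimit (CommRingCat.of A)
  refine ⟨fun h => ?_, fun h => ?_⟩
  · obtain ⟨j, X₀, f₀, h₁, h₂, F₀, h₃, q, h₄, e, hflat⟩ :=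
      Groth.Agent.H1FlatLimit.exists_model_flatAt (D := D) (c := c) f₁ g₁ hX ‹_› hG hGft ψ hc hGfp x h
    exact ⟨Algebra.adjoin ℤ ((j.left.unop : Finset A) : Set A), Subalgebra.fg_adjoin_finset _, X₀, f₀, h₁, h₂, F₀, h₃,
      q, h₄, e, hflat⟩
  · obtain ⟨j, X₀, f₀, h₁, h₂, F₀, h₃, q, h₄, e, hflat⟩ :=
      Groth.Agent.H1FlatLimit.exists_model_flatOver (D := D) (c := c) f₁ g₁ hX ‹_› hG hGft ψ hc hGfp h
    exact ⟨Algebra.adjoin ℤ ((j.left.unop : Finset A) : Set A), Subalgebra.fg_adjoin_finset _, X₀, f₀, h₁, h₂, F₀, h₃,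
      q, h₄, e, hflat⟩

end Groth.Agent.S4867
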