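import Groth.Statements.S4886
import Groth.Agent.ZetaLib.SchemeCount
import Mathlib

set_option autoImplicit false
universe u
open CategoryTheory AlgebraicGeometry
open EGA43

namespace Groth.Agent.S4886

/-- Let Y be a scheme of finite type over ℤ. (i) A point y of Y is closed if and only if the residue
field k(y) is finite. (ii) For every prime number p and every integer d ≥ 1, the set of points y of
Y such that k(y) is an extension of 𝔽_p of degree dividing d, i.e. admits a ring homomorphism into
the field with p^d elements, is finite. -/
theorem result (Y : Scheme.{u}) [CompactSpace Y]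
    [LocallyOfFiniteType (Limits.IsTerminal.from specULiftZIsTerminal Y)] :
    (∀ y : Y, IsClosed ({y} : Set Y) ↔ Finite ↑(Y.residueField y)) ∧
    ∀ (p d : ℕ) [Fact p.Prime], 0 < d →
      {y : Y | Nonempty (↑(Y.residueField y) →+* GaloisField p d)}.Finite := by
  let f := Limits.IsTerminal.from specULiftZIsTerminal Y
  haveI : QuasiCompact f := inferInstance
  refine ⟨fun y => ⟨fun hy => Groth.Agent.ZetaLib.finite_residueField f hy, fun hy => ?_⟩, fun p d _ hd => ?_⟩
  · haveI := hy
    haveI : LocallyOfFiniteType (Y.fromSpecResidueField y ≫ f) := by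
      rw [← Spec.map_preimage (Y.fromSpecResidueField y ≫ f), HasRingHomProperty.Spec_iff (P := @LocallyOfFiniteType)]
      exact Groth.Agent.ZetaLib.finiteType_of_finite _
    haveI := locallyOfFiniteType_of_comp (Y.fromSpecResidueField y) f
    haveI := Groth.Agent.ZetaLib.isJacobsonRing_int
    haveI : IsJacobsonRing (ULift.{u} ℤ) := (isJacobsonRing_iso (ULift.ringEquiv (R := ℤ))).2 inferInstance
    haveI : JacobsonSpace ↥(Spec (CommRingCat.of (ULift.{u} ℤ))) := inferInstanceAs (JacobsonSpace (PrimeSpectrum _))
    haveI : JacobsonSpace ↥Y := LocallyOfFiniteType.jacobsonSpace f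
    let pt : ↥(Spec (Y.residueField y)) := IsLocalRing.closedPoint (Y.residueField y)
    have hpt : pt ∈ closedPoints (Spec (Y.residueField y)) := IsLocalRing.isClosed_singleton_closedPoint _
    have := (Y.fromSpecResidueField y).closePoints_subset_preimage_closedPoints hpt
    rwa [Set.mem_preimage, mem_closedPoints_iff, Scheme.fromSpecResidueField_apply] at this
  · obtain ⟨n, A, j, hj, hft, -, hcov⟩ := Groth.Agent.ZetaLib.exists_affine_cover f
    haveI := hj
    haveI : Finite (GaloisField p d) := inferInstance
    let F := ULift.{u} (GaloisField p d)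
    have hfin := (Groth.Agent.ZetaLib.card_points_le j hcov F fun i => by
      haveI := hft i
      exact Groth.Agent.ZetaLib.finite_ringHom F).1
    haveI := hfin
    refine (Set.finite_range fun t : Spec (CommRingCat.of F) ⟶ Y => t (IsLocalRing.closedPoint F)).subset ?_
    rintro y ⟨e⟩
    let e' : (Y.residueField y : Type u) →+* F := (ULift.ringEquiv (R := GaloisField p d)).symm.toRingHom.comp e
    refine ⟨Spec.map (CommRingCat.ofHom e') ≫ Y.fromSpecResidueField y, ?_⟩
    exact (Scheme.Hom.comp_apply _ _ _).trans (Scheme.fromSpecResidueField_apply _ _)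

end Groth.Agent.S4886
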