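import Groth.Statements.S4889
import Groth.Agent.DimFormula.JacobsonLocal
import Groth.Agent.QCoh.AnnIdeal
import Groth.Agent.QCoh.Stalk
import Groth.Agent.FDescent.StalkFinite

set_option autoImplicit false
universe u
open CategoryTheory AlgebraicGeometry
open EGA43

namespace Groth.Agent.S4889

/-- The support of a stalk is the trace of the support. -/
theorem mem_support_stalk {X : Scheme.{u}} (F : X.Modules) (hF : Coh.IsCoh F) (x : X)
    (P : PrimeSpectrum (X.presheaf.stalk x)) :
    P ∈ Module.support (X.presheaf.stalk x) (F.presheaf.stalk x) ↔ X.fromSpecStalk x P ∈ CohB1.support F := by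
  obtain ⟨V, hV, hxV, -⟩ := exists_isAffineOpen_mem_and_subset (x := x) (U := ⊤) trivial
  letI := Groth.Agent.QCoh.stalkAlg (X := X) hxV
  letI := Groth.Agent.QCoh.stalkModule F hxV
  haveI := Groth.Agent.QCoh.isScalarTower_stalk F hxV
  haveI := Groth.Agent.QCoh.isLocalization_stalk' hV hxV
  haveI := Groth.Agent.QCoh.isLocalizedModule_germLin hF.1 hV hxV
  haveI := Groth.Agent.QCoh.finite_sections hF hV
  obtain ⟨y, hyV, hy⟩ := Groth.Agent.QCoh.exists_point hV
    (PrimeSpectrum.comap (algebraMap Γ(X, V) (X.presheaf.stalk x)) P)
  rw [Groth.Agent.QCoh.mem_support_baseChange (IsLocalizedModule.isBaseChange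
      (hV.primeIdealOf ⟨x, hxV⟩).asIdeal.primeCompl (X.presheaf.stalk x) (Groth.Agent.QCoh.germLin F hxV)) P,
    ← hy, Groth.Agent.QCoh.mem_moduleSupport_iff hF.1 hV hyV]
  have hpt : X.fromSpecStalk x P = y := by
    rw [← hV.fromSpecStalk_eq_fromSpecStalk hxV]
    show hV.fromSpec (PrimeSpectrum.comap (X.presheaf.germ V x hxV).hom P) = y
    rw [show PrimeSpectrum.comap (X.presheaf.germ V x hxV).hom P = hV.primeIdealOf ⟨y, hyV⟩ from hy.symm,
      hV.fromSpec_primeIdealOf]
  rw [hpt]

theorem supportDim_stalk_eq_gen {X : Scheme.{u}} [IsLocallyNoetherian X] (F : X.Modules) (hF : Coh.IsCoh F) (x : X) :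
    Module.supportDim (X.presheaf.stalk x) (F.presheaf.stalk x) =
      topologicalKrullDim ↥{t : X | t ∈ CohB1.support F ∧ t ⤳ x} := by
  haveI : SheafOfModules.IsFiniteType (R := X.ringCatSheaf) F := hF.2
  haveI := Groth.Agent.FDescent.finite_stalk F x
  let R := X.presheaf.stalk x
  let I := Module.annihilator R (F.presheaf.stalk x)
  have h1 : ((X.fromSpecStalk x) ⁻¹' (CohB1.support F) : Set (PrimeSpectrum R)) =
      PrimeSpectrum.zeroLocus (I : Set R) := by
    rw [← Module.support_eq_zeroLocus]
    ext P
    exact (mem_support_stalk F hF x P).symm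
  let e : ↥((X.fromSpecStalk x) ⁻¹' (CohB1.support F)) ≃ₜ ↥{t : X | t ∈ CohB1.support F ∧ t ⤳ x} :=
    ((X.fromSpecStalk x).isEmbedding.homeomorphImage _).trans (Homeomorph.setCongr (by
      rw [Set.image_preimage_eq_inter_range, Scheme.range_fromSpecStalk]; rfl))
  have hc := PrimeSpectrum.isClosedEmbedding_comap_of_surjective (S := R ⧸ I) (Ideal.Quotient.mk I)
    Ideal.Quotient.mk_surjective
  have e2 : PrimeSpectrum (R ⧸ I) ≃ₜ ↥((X.fromSpecStalk x) ⁻¹' (CohB1.support F)) :=
    hc.isEmbedding.toHomeomorph.trans (Homeomorph.setCongr (by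
      refine (range_comap_of_surjective _ _ Ideal.Quotient.mk_surjective).trans ?_
      rw [Ideal.mk_ker]; exact h1.symm))
  rw [Module.supportDim_eq_ringKrullDim_quotient_annihilator, ← PrimeSpectrum.topologicalKrullDim_eq_ringKrullDim,
    e2.isHomeomorph.topologicalKrullDim_eq, e.isHomeomorph.topologicalKrullDim_eq]

/-- Stated as the dimension equality to which its two-line proof reduces it: let S be a locally
Noetherian Jacobson scheme whose local rings are universally catenary and whose irreducible
components are equidimensional (for every irreducible component S' and every closed point s of S',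
dim S' equals the dimension of the space of generizations of s in S'); let g : X ⟶ S be a morphism
locally of finite type, F a coherent O_X-module, Y its support and x a point of Y. Then dim(cl{x}) +
dim(F_x) = dim_x(Y), where dim(F_x) is the Krull dimension of the O_{X,x}-module F_x (the Krull
dimension of its support in Spec O_{X,x}) and dim_x(Y) is the local dimension of Y at x. (The
published statement reads prof*_x(F) = dim_x(Y) − coprof(F_x), with the rectified depth prof*_x(F) =
prof(F_x) + dim cl{x} and the codepth coprof(F_x) = dim(F_x) − prof(F_x); for the nonzero finitely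
generated module F_x this is the equality stated here. The published form of the special case in
which the base is X itself assumes only the Jacobson and universally-catenary conditions; this row
keeps the equidimensionality of the irreducible components of the base, which the proof uses and
without which the formula fails.) -/
theorem result {X S : Scheme.{u}} [IsLocallyNoetherian S]
    [JacobsonSpace S] (h2 : ∀ s : S, CAlg.IsUniversallyCatenary (S.presheaf.stalk s))
    (h3 : ∀ S' ∈ irreducibleComponents (S : Type u), ∀ s ∈ S', IsClosed ({s} : Set S) →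
      topologicalKrullDim (↥S' : Type u) = topologicalKrullDim ↥{t : S | t ∈ S' ∧ t ⤳ s})
    (g : X ⟶ S) [LocallyOfFiniteType g] (F : X.Modules) (hF : Coh.IsCoh F) (x : X) (hx : x ∈ CohB1.support F) :
    topologicalKrullDim ↥(closure ({x} : Set X)) + Module.supportDim ↑(X.presheaf.stalk x) ↑(F.presheaf.stalk x) =
      FlatMor.localDim ↥(CohB1.support F) ⟨x, hx⟩ := by
  haveI := LocallyOfFiniteType.isLocallyNoetherian g
  haveI : JacobsonSpace X := LocallyOfFiniteType.jacobsonSpace g
  have hX := (Groth.Agent.DimFormula.dimGood_of_locallyOfFiniteType g (Groth.Agent.DimFormula.dimGood_of h2 h3) h2).1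
  have hY : IsClosed (CohB1.support F) := Groth.Agent.QCoh.isClosed_support_of_isFT hF.1 hF.2
  obtain ⟨η, hη, hηx, -, hloc, hgen⟩ := hX.exists_top hY hx
  rw [hloc, supportDim_stalk_eq_gen F hF x, hgen, hX.dim_closure, hX.dd_add hηx]
  push_cast
  rfl

end Groth.Agent.S4889
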