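import Groth.Statements.S4896
import Groth.Agent.H1RectDepth.Basic

set_option autoImplicit false
universe u
open CategoryTheory AlgebraicGeometry
open EGA43

namespace Groth.Agent.S4896

/-- Let S be locally Noetherian, Jacobson and regular with equidimensional irreducible components, g : X
⟶ S locally of finite type and F a coherent O_X-module. For every point x of X the rectified depth
prof*_x(F) = prof(F_x) + dim cl{x} is the unique n (a natural number or ∞) such that, for some open
neighbourhood U of x, prof(F_{x'}) = n for every point x' of U ∩ cl{x} which is closed in U. -/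
theorem result {X S : Scheme.{u}} [IsLocallyNoetherian S] [JacobsonSpace S]
    (hreg : ∀ s : S, IsRegularLocalRing ↑(S.presheaf.stalk s))
    (h3 : ∀ S' ∈ irreducibleComponents (S : Type u), ∀ s ∈ S', IsClosed ({s} : Set S) →
      topologicalKrullDim (↥S' : Type u) = topologicalKrullDim ↥{t : S | t ∈ S' ∧ t ⤳ s})
    (g : X ⟶ S) [LocallyOfFiniteType g] (F : X.Modules) (hF : Coh.IsCoh F) (x : X) :
    letI pstar : WithBot ℕ∞ :=
      ((LocCoh.depth ↑(X.presheaf.stalk x) ↑(F.presheaf.stalk x) : ℕ∞) : WithBot ℕ∞) +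
        topologicalKrullDim ↥(closure ({x} : Set X))
    ∀ n : ℕ∞,
      (∃ U : X.Opens, x ∈ U ∧ ∀ x' : ↥U, (x' : X) ∈ closure ({x} : Set X) → IsClosed ({x'} : Set ↥U) →
        LocCoh.depth ↑(X.presheaf.stalk (x' : X)) ↑(F.presheaf.stalk (x' : X)) = n) ↔
      ((n : WithBot ℕ∞) = pstar) := by
  haveI := LocallyOfFiniteType.isLocallyNoetherian g
  haveI : JacobsonSpace X := LocallyOfFiniteType.jacobsonSpace g
  have h := Groth.Agent.H1RectDepth.dimGood_of_regular hreg h3 g
  intro n
  rw [← Groth.Agent.H1RectDepth.coe_rdep F h x, WithBot.coe_inj]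
  obtain ⟨W, hW, H⟩ := Groth.Agent.H1RectDepth.exists_rdep_eq F h hreg g hF x
  have hzero : ∀ y : X, IsClosed ({y} : Set X) →
      Groth.Agent.H1RectDepth.rdep F y = LocCoh.depth (X.presheaf.stalk y) (F.presheaf.stalk y) := fun y hy => by
    rw [Groth.Agent.H1RectDepth.rdep, h.dd_eq specializes_rfl hy, Groth.Agent.DimFormula.cd_self,
      Nat.cast_zero, add_zero]
  constructor
  · rintro ⟨U, hxU, HU⟩
    obtain ⟨y, ⟨⟨hyU, hyW⟩, hyx⟩, hy⟩ := nonempty_inter_closedPoints
      (Z := ((U : Set X) ∩ (W : Set X)) ∩ closure ({x} : Set X))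
      ⟨x, ⟨hxU, hW⟩, subset_closure rfl⟩
      ((U.2.inter W.2).isLocallyClosed.inter isClosed_closure.isLocallyClosed)
    have h1 := HU ⟨y, hyU⟩ hyx (by
      have : ({⟨y, hyU⟩} : Set ↥U) = Subtype.val ⁻¹' ({y} : Set X) := by
        ext z; exact ⟨fun hz => congrArg Subtype.val hz, fun hz => Subtype.ext hz⟩
      rw [this]
      exact (mem_closedPoints_iff.1 hy).preimage continuous_subtype_val)
    rw [← h1, ← H y hyW (specializes_iff_mem_closure.2 hyx)]
    exact (hzero y (mem_closedPoints_iff.1 hy)).symm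
  · rintro rfl
    refine ⟨W, hW, fun y hyx hy => ?_⟩
    rw [← H y.1 y.2 (specializes_iff_mem_closure.2 hyx)]
    refine (hzero y.1 ?_).symm
    exact W.2.isOpenEmbedding_subtypeVal.preimage_closedPoints.ge hy

end Groth.Agent.S4896
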