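import Groth.Statements.S4947
import Groth.Agent.DomDVR.Main

set_option autoImplicit false
universe u
open EGA43

namespace Groth.Agent.S4947

/-- Let A be a regular local ring which is not a field, K its fraction field and k its residue field.
Then there is a discrete valuation ring V between A and K, with fraction field K, dominating A,
whose residue field is a purely transcendental extension of k: for some ring map from k compatible
with A → V there is an algebraically independent family generating the residue field of V as a field
over k. -/
theorem result (A : Type u) [CommRing A] [IsRegularLocalRing A]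
    (hA : ¬ IsField A) :
    ∃ (V : Subalgebra A (FractionRing A)) (_ : IsDomain V) (_ : IsDiscreteValuationRing V), IsFractionRing V (FractionRing A) ∧
      (IsLocalRing.maximalIdeal V).comap (algebraMap A V) = IsLocalRing.maximalIdeal A ∧
      ∃ (φ : IsLocalRing.ResidueField A →+* IsLocalRing.ResidueField V),
        φ.comp (IsLocalRing.residue A) = (IsLocalRing.residue V).comp (algebraMap A V) ∧
        letI := φ.toAlgebra
        ∃ (ι : Type u) (t : ι → IsLocalRing.ResidueField V), AlgebraicIndependent (IsLocalRing.ResidueField A) t ∧
          IntermediateField.adjoin (IsLocalRing.ResidueField A) (Set.range t) = ⊤ := by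
  obtain ⟨m, hm⟩ : ∃ m, (IsLocalRing.maximalIdeal A).spanFinrank = m + 1 := by
    refine Nat.exists_eq_succ_of_ne_zero fun h => hA ?_
    rw [IsLocalRing.isField_iff_maximalIdeal_eq,
      ← (Submodule.spanFinrank_eq_zero_iff_eq_bot (Submodule.FG.of_finite)).mp h]
  have fin := Submodule.FG.finite_generators
    (IsLocalRing.maximalIdeal A).fg_of_isNoetherianRing
  have hcard : fin.toFinset.toList.length = m + 1 := by
    rw [Finset.length_toList, ← Set.ncard_eq_toFinset_card _ fin, ← hm]
    exact Submodule.FG.generators_ncard (IsLocalRing.maximalIdeal A).fg_of_isNoetherianRing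
  let a : Fin (m + 1) → A := fun i => fin.toFinset.toList[i.1]'(hcard.symm ▸ i.2 : i.1 < _)
  have hrs : List.ofFn a = fin.toFinset.toList :=
    List.ext_getElem (by rw [List.length_ofFn, hcard]) fun i h1 h2 => by rw [List.getElem_ofFn]
  have hspan : Ideal.span (Set.range a) = IsLocalRing.maximalIdeal A := by
    rw [← Groth.Agent.CAlgGlobalDim.ofList_ofFn, hrs, Ideal.ofList]
    refine (congrArg Ideal.span ?_).trans (Submodule.span_generators _)
    ext y
    exact Finset.mem_toList.trans fin.mem_toFinset
  have hreg := Groth.Agent.CAlgGlobalDim.isWeaklyRegular_of_generators (m + 1) A (List.ofFn a)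
    List.length_ofFn (by rw [Groth.Agent.CAlgGlobalDim.ofList_ofFn, hspan]) hm.ge
  haveI := Groth.Agent.RegLoc6.isDomain_of_isRegularLocalRing A
  have h0 : a 0 ≠ 0 := fun h => by
    have h1 := hreg
    rw [List.ofFn_succ, RingTheory.Sequence.isWeaklyRegular_cons_iff, h] at h1
    exact one_ne_zero (α := A) (h1.1 (by simp : (0 : A) • (1 : A) = (0 : A) • (0 : A)))
  exact Groth.Agent.DomDVR.main a h0 hreg hspan

end Groth.Agent.S4947
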