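import Groth.Statements.S4951
import Mathlib

set_option autoImplicit false
universe u
open EGA43

namespace Groth.Agent.S4951

/-- Let X be a locally Noetherian topological space in which every irreducible closed subset has a
unique generic point (X quasi-sober and T₀), and Z a closed nowhere dense subset of X such that for
every point x of Z the set of generizations of x distinct from x is connected (possibly empty). If X
is connected, then X − Z is connected. (Uniqueness of generic points, automatic for the underlying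
space of a scheme, is needed: in the four-point space {u, v, z₁, z₂} whose open sets are ∅, {u},
{v}, {u, v} and the whole space, the closed nowhere dense set Z = {z₁, z₂} satisfies the hypothesis,
since z₂ is a generization of z₁ and conversely, yet X − Z = {u, v} is not connected.) -/
theorem result {X : Type u} [TopologicalSpace X]
    [QuasiSober X] [T0Space X] (hloc : ∀ x : X, ∃ U ∈ nhds x, TopologicalSpace.NoetherianSpace ↥U) [ConnectedSpace X]
    (Z : Set X) (hZ : IsClosed Z) (hZn : IsNowhereDense Z)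
    (hgen : ∀ x ∈ Z, IsPreconnected ({x' : X | x' ⤳ x} \ {x})) :
    IsConnected Zᶜ := by
  have hd : Dense Zᶜ := by
    rw [← interior_eq_empty_iff_dense_compl]
    rw [IsNowhereDense, hZ.closure_eq] at hZn
    exact hZn
  refine ⟨hd.nonempty, ?_⟩
  intro U V hU hV hcov ⟨a, ha, haU⟩ ⟨b, hb, hbV⟩
  by_contra hne
  let A : Set X := Zᶜ ∩ U
  let B : Set X := Zᶜ ∩ V
  have hAo : IsOpen A := hZ.isOpen_compl.inter hU
  have hBo : IsOpen B := hZ.isOpen_compl.inter hV
  have hAB : ∀ t, t ∈ A → t ∈ B → False := fun t h1 h2 => hne ⟨t, h1.1, h1.2, h2.2⟩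
  -- points of the closure of an open set have generisations in it
  have hgenz : ∀ (O : Set X), IsOpen O → ∀ z ∈ closure O, ∃ o ∈ O, o ⤳ z := by
    intro O hO z hz
    obtain ⟨W, hW, hWn⟩ := hloc z
    obtain ⟨W', hW', hW'o, hzW'⟩ := mem_nhds_iff.1 hW
    have hopen : IsOpen (W' ∩ O) := hW'o.inter hO
    haveI := hWn
    haveI : TopologicalSpace.NoetherianSpace ↥(W' ∩ O) :=
      (Topology.IsEmbedding.inclusion (Set.inter_subset_left.trans hW')).isInducing.noetherianSpace
    haveI : QuasiSober ↥(W' ∩ O) := hopen.isOpenEmbedding_subtypeVal.quasiSober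
    have hzc : z ∈ closure (W' ∩ O) := hW'o.inter_closure ⟨hzW', hz⟩
    have hfin : (genericPoints ↥(W' ∩ O)).Finite :=
      genericPoints.finite TopologicalSpace.NoetherianSpace.finite_irreducibleComponents
    have hsub : W' ∩ O ⊆ ⋃ g ∈ genericPoints ↥(W' ∩ O), closure {(g : X)} := by
      intro t ht
      let c : genericPoints ↥(W' ∩ O) := genericPoints.ofComponent
        ⟨_, irreducibleComponent_mem_irreducibleComponents (⟨t, ht⟩ : ↥(W' ∩ O))⟩
      have h1 : c.1 ⤳ (⟨t, ht⟩ : ↥(W' ∩ O)) := (genericPoints.isGenericPoint_ofComponent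
        ⟨_, irreducibleComponent_mem_irreducibleComponents (⟨t, ht⟩ : ↥(W' ∩ O))⟩).specializes
          mem_irreducibleComponent
      exact Set.mem_biUnion c.2 (h1.map continuous_subtype_val).mem_closure
    have hz' := closure_minimal hsub (hfin.isClosed_biUnion fun _ _ => isClosed_closure) hzc
    obtain ⟨g, -, hg⟩ := Set.mem_iUnion₂.1 hz'
    exact ⟨g.1, g.2.2, specializes_iff_mem_closure.2 hg⟩
  -- the closures cover, hence meet
  have hcl : closure A ∪ closure B = Set.univ := by
    rw [← closure_union, ← Set.inter_union_distrib_left, Set.inter_eq_left.2 hcov]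
    exact hd.closure_eq
  obtain ⟨w, -, hwA, hwB⟩ : (Set.univ ∩ (closure A ∩ closure B)).Nonempty :=
    isPreconnected_closed_iff.1 isPreconnected_univ _ _ isClosed_closure isClosed_closure hcl.ge
      ⟨a, trivial, subset_closure ⟨ha, haU⟩⟩ ⟨b, trivial, subset_closure ⟨hb, hbV⟩⟩
  let C : Set X := closure A ∩ closure B
  haveI : QuasiSober C := (isClosed_closure.inter isClosed_closure).isClosedEmbedding_subtypeVal.quasiSober
  let z : genericPoints C :=
    genericPoints.ofComponent ⟨_, irreducibleComponent_mem_irreducibleComponents (⟨w, hwA, hwB⟩ : C)⟩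
  have hmax : ∀ s ∈ C, s ⤳ (z.1 : X) → s = z.1 := by
    intro s hs hsz
    have h1 : (⟨s, hs⟩ : C) ⤳ z.1 := (subtype_specializes_iff _ _).2 hsz
    have h2 := z.2.2 isIrreducible_singleton.closure h1.closure_subset
    exact congrArg Subtype.val
      (h1.antisymm (specializes_iff_mem_closure.2 (h2 (subset_closure rfl)))).eq
  have hzZ : (z.1 : X) ∈ Z := by
    by_contra hz
    obtain ⟨⟨o, ho, hoz⟩, hzU⟩ : (∃ o ∈ A, o ⤳ (z.1 : X)) ∧ ((z.1 : X) ∈ U ∨ (z.1 : X) ∈ V) :=
      ⟨hgenz A hAo _ z.1.2.1, hcov hz⟩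
    rcases hzU with h | h
    · obtain ⟨o', ho', ho'z⟩ := hgenz B hBo _ z.1.2.2
      exact hAB o' ⟨ho'.1, ho'z.mem_open hU h⟩ ho'
    · exact hAB o ho ⟨ho.1, hoz.mem_open hV h⟩
  have hS := hgen _ hzZ
  let S : Set X := {x' : X | x' ⤳ (z.1 : X)} \ {(z.1 : X)}
  obtain ⟨o, ho, hoz⟩ := hgenz A hAo _ z.1.2.1
  obtain ⟨o', ho', ho'z⟩ := hgenz B hBo _ z.1.2.2
  obtain ⟨s, ⟨hs, hsne⟩, hsA, hsB⟩ := isPreconnected_closed_iff.1 hS _ _ isClosed_closure isClosed_closure
    (fun t _ => hcl.ge trivial)
    ⟨o, ⟨hoz, fun h => ho.1 (Set.mem_singleton_iff.1 h ▸ hzZ)⟩, subset_closure ho⟩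
    ⟨o', ⟨ho'z, fun h => ho'.1 (Set.mem_singleton_iff.1 h ▸ hzZ)⟩, subset_closure ho'⟩
  exact hsne (hmax s ⟨hsA, hsB⟩ hs)

end Groth.Agent.S4951
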