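import Groth.Statements.S4957
import Groth.Agent.H1Proper.Section
import Groth.Agent.FibDim.Semicont
set_option backward.isDefEq.respectTransparency false
set_option backward.isDefEq.respectTransparency.types false

set_option autoImplicit false
open CategoryTheory AlgebraicGeometry
universe u v w
open EGA43

namespace Groth.Agent.S4957

/-- Let f : X ⟶ Y be a separated morphism of finite presentation with a section g : Y ⟶ X, and X_z^0 the
connected component of f⁻¹(z) containing g z. Let y be a point such that X_y^0, as an open subscheme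
of the fibre X_y, is proper over κ(y). Then for every generization y' of y one has dim X_{y'}^0 ≤
dim X_y^0. -/
theorem result {X Y : Scheme.{u}} (f : X ⟶ Y) [IsSeparated f]
    [LocallyOfFinitePresentation f] [QuasiCompact f] [QuasiSeparated f] (g : Y ⟶ X) (hg : g ≫ f = 𝟙 Y) (y : Y)
    (hop : IsOpen ((f.fiberι y).base ⁻¹' connectedComponentIn (f.base ⁻¹' {y}) (g.base y)))
    (hprop : IsProper (Scheme.Opens.ι (⟨(f.fiberι y).base ⁻¹' connectedComponentIn (f.base ⁻¹' {y}) (g.base y), hop⟩ : (f.fiber y).Opens) ≫
      f.fiberToSpecResidueField y))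
    (y' : Y) (hy' : y' ⤳ y) :
    topologicalKrullDim ↥(connectedComponentIn (f.base ⁻¹' {y'}) (g.base y')) ≤ topologicalKrullDim ↥(connectedComponentIn (f.base ⁻¹' {y}) (g.base y)) := by
  obtain ⟨U, hyU, C, c, c', -, hc', hcc, hr⟩ :=
    Groth.Agent.H1Proper.properAt_sectionComponents f g hg y hop hprop
  haveI := hc'
  have hy'U : y' ∈ U := hy'.mem_open U.isOpen hyU
  set C' := connectedComponentIn (f.base ⁻¹' {y'}) (g.base y')
  have hsub' : C' ⊆ Set.range (f.fiberι y') := by
    rw [Scheme.Hom.range_fiberι]; exact connectedComponentIn_subset (f.base ⁻¹' {y'}) (g.base y')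
  obtain ⟨a, ha⟩ : g.base y' ∈ Set.range (f.fiberι y') := by
    rw [Scheme.Hom.range_fiberι]; exact Groth.Agent.H1Proper.apply_sec hg y'
  have hS : f.fiberι y' ⁻¹' C' = connectedComponent a := by
    refine Set.Subset.antisymm ?_ ?_
    · refine IsPreconnected.subset_connectedComponent ?_ (show f.fiberι y' a ∈ C' from ?_)
      · refine (f.fiberι y').isEmbedding.isInducing.isPreconnected_image.1 ?_
        rw [Set.image_preimage_eq_of_subset hsub']
        exact isPreconnected_connectedComponentIn
      · rw [ha]; exact mem_connectedComponentIn (Groth.Agent.H1Proper.apply_sec hg y')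
    · rw [← Set.image_subset_iff]
      refine (isPreconnected_connectedComponent.image _ (f.fiberι y').continuous.continuousOn).subset_connectedComponentIn
        ⟨a, mem_connectedComponent, ha⟩ ?_
      rw [← Scheme.Hom.range_fiberι]
      exact Set.image_subset_range _ _
  have hd : topologicalKrullDim ↥C' = topologicalKrullDim ↥(f.fiberι y' ⁻¹' C') := by
    rw [((f.fiberι y').isEmbedding.homeomorphImage _).isHomeomorph.topologicalKrullDim_eq,
      Set.image_preimage_eq_of_subset hsub']
  refine hd.trans_le ?_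
  rw [hS, VarDim.topologicalKrullDim_set_eq_iSup_deg (k := Y.residueField y') (f.fiberToSpecResidueField y')
    isClosed_connectedComponent]
  refine iSup_le fun w => ?_
  let z := f.fiberι y' w.1
  have hz : z ∈ C' := (Set.ext_iff.1 hS w.1).2 w.2
  have hfz : f z = y' := FibDim.fiber_apply_fiberι f w.1
  obtain ⟨k, hk⟩ : z ∈ Set.range c := hr.ge ⟨(Groth.Agent.H1Proper.sc_mem_iff f g hfz).2 hz,
    show f z ∈ U by rw [hfz]; exact hy'U⟩
  have hUk : ∀ t, U.ι (c' t) = f (c t) := fun t => by
    rw [← Scheme.Hom.comp_apply, hcc, Scheme.Hom.comp_apply]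
  have hspec : c' k ⤳ (⟨y, hyU⟩ : U.toScheme) :=
    U.ι.isOpenEmbedding.isInducing.specializes_iff.1 (by
      rw [hUk, hk, hfz]
      exact hy')
  obtain ⟨t, htk, ht⟩ := hspec.mem_closed (c'.isClosedMap _ isClosed_closure)
    ⟨k, subset_closure (Set.mem_singleton k), rfl⟩
  have hft : f (c t) = y := by rw [← hUk, ht]; rfl
  have hzt : z ⤳ c t := hk ▸ (specializes_iff_mem_closure.2 htk).map c.continuous
  have htC : c t ∈ connectedComponentIn (f.base ⁻¹' {y}) (g.base y) :=
    (Groth.Agent.H1Proper.sc_mem_iff f g hft).1 (hr.le ⟨t, rfl⟩).1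
  obtain ⟨x', -, hx't, hfx', hrd⟩ := FibDim.exists_rd_ge f hzt
  have hsub : closure {x'} ∩ f ⁻¹' {f x'} ⊆ connectedComponentIn (f.base ⁻¹' {y}) (g.base y) := by
    rw [connectedComponentIn_eq htC]
    refine IsPreconnected.subset_connectedComponentIn (isPreconnected_singleton.subset_closure
      (Set.singleton_subset_iff.2 ⟨subset_closure rfl, rfl⟩) Set.inter_subset_left)
      ⟨hx't.mem_closure, hfx'.symm⟩ fun v hv => ?_
    show f v = y
    rw [← hft, ← hfx']
    exact hv.2
  refine le_trans ?_ (Topology.IsEmbedding.inclusion hsub).isInducing.topologicalKrullDim_le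
  rw [FibDim.dim_closure_inter f x', FibDim.deg_fiber f]
  exact_mod_cast hrd

end Groth.Agent.S4957
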