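import Groth.Statements.S4966
import Groth.Agent.H1AssDim.Proper

set_option autoImplicit false
open CategoryTheory AlgebraicGeometry
universe u v w
open EGA43

namespace Groth.Agent.S4966

/-- Let f : X ⟶ Y be a proper morphism of finite presentation and F a finitely presented O_X-module
which is f-flat; for y in Y write F_y for the restriction of F to the fibre X_y. Let Φ be a finite
set of natural numbers. Then the set of points y of Y such that F_y has no embedded associated point
and the set of dimensions of the irreducible components of Supp(F_y) is exactly Φ is open in Y. -/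
theorem result {X Y : Scheme.{u}} (f : X ⟶ Y) [IsProper f]
    [LocallyOfFinitePresentation f] (F : X.Modules) (hF : CohB1.IsFP F) (hflat : FlatMod.IsFlatOver f F) (Φ : Finset ℕ) :
    IsOpen {y : Y | AssSch.NoEmbedded ((Scheme.Modules.pullback (f.fiberι y)).obj F) ∧
      (fun Z : Set ↥{z : ↥(f.fiber y) | Nontrivial (((Scheme.Modules.pullback (f.fiberι y)).obj F).presheaf.stalk z)} => topologicalKrullDim ↥Z) '' irreducibleComponents ↥{z : ↥(f.fiber y) | Nontrivial (((Scheme.Modules.pullback (f.fiberι y)).obj F).presheaf.stalk z)} =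
        (fun n : ℕ => (n : WithBot ℕ∞)) '' (Φ : Set ℕ)} := by
  convert ((Groth.Agent.H1AssDim.isOpen_base_noEmb f F hF hflat).inter
    (Groth.Agent.H1AssDim.isOpen_base_assDims f F hF hflat Φ)).inter
    (Groth.Agent.H1AssDim.isOpen_compDims_supset f F hF hflat Φ) using 1
  ext y
  constructor
  · rintro ⟨hne, heq⟩
    exact ⟨⟨hne, (Groth.Agent.H1AssDim.assDims_of_noEmb f F hF y hne Φ).2 heq.le⟩,
      fun n hn => heq.ge ⟨n, hn, rfl⟩⟩
  · rintro ⟨⟨hne, hA⟩, hS⟩
    exact ⟨hne, Set.Subset.antisymm ((Groth.Agent.H1AssDim.assDims_of_noEmb f F hF y hne Φ).1 hA)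
      (by rintro _ ⟨n, hn, rfl⟩; exact hS n hn)⟩

end Groth.Agent.S4966
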