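import Groth.Statements.S4973
import Mathlib

set_option autoImplicit false
open CategoryTheory AlgebraicGeometry
universe u v w
open EGA43

namespace Groth.Agent.S4973

open CategoryTheory.Limits in
/-- Let Y₀ and Y be integral schemes, g : Y ⟶ Y₀ a dominant morphism, f₀ : X₀ ⟶ Y₀ a dominant morphism
whose fibre over the generic point of Y₀ is irreducible, and X'₀ an irreducible component of X₀
meeting that generic fibre (it is unique), regarded as a reduced closed subscheme of X₀. If X = X₀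
×_{Y₀} Y is an integral scheme, then the morphism X'₀ ×_{Y₀} Y ⟶ X induced by the inclusion of X'₀
is an isomorphism. -/
theorem result {X₀ Y₀ Y : Scheme.{u}} [IsIntegral Y₀] [IsIntegral Y]
    (g : Y ⟶ Y₀) [IsDominant g] (f₀ : X₀ ⟶ Y₀) [IsDominant f₀]
    (hirr : IsIrreducible (f₀.base ⁻¹' {genericPoint Y₀}))
    (C : TopologicalSpace.Closeds X₀) (hC : (C : Set X₀) ∈ irreducibleComponents (X₀ : Type u))
    (hCη : ((C : Set X₀) ∩ f₀.base ⁻¹' {genericPoint Y₀}).Nonempty) [IsIntegral (pullback f₀ g)]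
    (e₁ : ((Scheme.IdealSheafData.vanishingIdeal C).subschemeι ≫ f₀) ≫ 𝟙 Y₀ =
      (Scheme.IdealSheafData.vanishingIdeal C).subschemeι ≫ f₀) (e₂ : g ≫ 𝟙 Y₀ = 𝟙 Y ≫ g) :
    IsIso (pullback.map ((Scheme.IdealSheafData.vanishingIdeal C).subschemeι ≫ f₀) g f₀ g
      (Scheme.IdealSheafData.vanishingIdeal C).subschemeι (𝟙 Y) (𝟙 Y₀) e₁ e₂) := by
  set ι := (Scheme.IdealSheafData.vanishingIdeal C).subschemeι with hι
  have hrange : Set.range ι = (C : Set X₀) := by
    rw [hι, Scheme.IdealSheafData.range_subschemeι, Scheme.IdealSheafData.coe_support_vanishingIdeal]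
  have hpb : IsPullback (pullback.map (ι ≫ f₀) g f₀ g ι (𝟙 Y) (𝟙 Y₀) e₁ e₂)
      (pullback.fst (ι ≫ f₀) g) (pullback.fst f₀ g) ι := by
    refine IsPullback.of_right (h₁₂ := pullback.snd f₀ g) (v₁₃ := g) (h₂₂ := f₀) ?_ ?_
      (IsPullback.of_hasPullback f₀ g).flip
    · rw [pullback.lift_snd, Category.comp_id]
      exact (IsPullback.of_hasPullback (ι ≫ f₀) g).flip
    · exact pullback.lift_fst _ _ _
  have : IsClosedImmersion (pullback.map (ι ≫ f₀) g f₀ g ι (𝟙 Y) (𝟙 Y₀) e₁ e₂) :=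
    MorphismProperty.of_isPullback hpb.flip (inferInstance : IsClosedImmersion ι)
  obtain ⟨z, hzC, hzη⟩ := hCη
  have hg : g.base (genericPoint Y) = genericPoint Y₀ :=
    ((genericPoint_spec Y).image g.continuous).eq (by
      rw [Set.image_univ, g.denseRange.closure_range]; exact genericPoint_spec Y₀)
  obtain ⟨w, hw₁, hw₂⟩ := Scheme.Pullback.exists_preimage_pullback (f := f₀) (g := g) z (genericPoint Y)
    (hzη.trans hg.symm)
  have hξw : genericPoint ↥(pullback f₀ g) ⤳ w := genericPoint_specializes w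
  have hξ : (pullback.snd f₀ g).base (genericPoint ↥(pullback f₀ g)) = genericPoint Y := by
    have h1 := hξw.map (pullback.snd f₀ g).continuous
    rw [hw₂] at h1
    exact (h1.antisymm (genericPoint_specializes _)).eq
  have hξ₀ : f₀.base ((pullback.fst f₀ g).base (genericPoint ↥(pullback f₀ g))) = genericPoint Y₀ := by
    rw [← hg, ← hξ, ← Scheme.Hom.comp_apply, pullback.condition, Scheme.Hom.comp_apply]
  have hC' : f₀.base ⁻¹' {genericPoint Y₀} ⊆ (C : Set X₀) := by
    obtain ⟨c, hc⟩ : ∃ c, IsGenericPoint c (C : Set X₀) :=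
      ⟨hC.1.genericPoint, hC.1.isGenericPoint_genericPoint C.isClosed⟩
    have hcf : f₀.base c = genericPoint Y₀ := by
      have h1 := (hc.specializes hzC).map f₀.continuous
      rw [Set.mem_singleton_iff.mp hzη] at h1
      exact (h1.antisymm (genericPoint_specializes _)).eq
    have hle : (C : Set X₀) ⊆ closure (f₀.base ⁻¹' {genericPoint Y₀}) :=
      hc.def ▸ closure_mono (Set.singleton_subset_iff.mpr (show c ∈ _ from hcf))
    exact subset_closure.trans (hC.2 hirr.closure hle)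
  have hmem : genericPoint ↥(pullback f₀ g) ∈
      Set.range (pullback.map (ι ≫ f₀) g f₀ g ι (𝟙 Y) (𝟙 Y₀) e₁ e₂) := by
    have h0 : (pullback.fst f₀ g).base (genericPoint ↥(pullback f₀ g)) ∈ Set.range ι :=
      hrange ▸ hC' hξ₀
    obtain ⟨c, hc⟩ := h0
    obtain ⟨v, hv, -⟩ := Scheme.exists_preimage_of_isPullback hpb _ c hc.symm
    exact ⟨v, hv⟩
  have : Surjective (pullback.map (ι ≫ f₀) g f₀ g ι (𝟙 Y) (𝟙 Y₀) e₁ e₂) := ⟨fun x => by
    have hcl := (pullback.map (ι ≫ f₀) g f₀ g ι (𝟙 Y) (𝟙 Y₀) e₁ e₂).isClosedEmbedding.isClosed_range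
    have := closure_minimal (Set.singleton_subset_iff.mpr hmem) hcl
    rw [(genericPoint_spec ↥(pullback f₀ g)).def] at this
    exact this (Set.mem_univ x)⟩
  exact isIso_of_isClosedImmersion_of_surjective _

end Groth.Agent.S4973
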