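import Groth.Statements.S4975
import Groth.Agent.H1W.Open
import Groth.Agent.S5927

set_option autoImplicit false
open CategoryTheory AlgebraicGeometry
universe u v w
open EGA43

namespace Groth.Agent.S4975

/-- Let f : X ⟶ Y be a morphism locally of finite type with Y locally Noetherian, g : Y ⟶ X a section of
f, X_y^0 the connected component of f⁻¹(y) containing g y, and X^0 ⊆ X their union. Suppose every
X_y^0 is geometrically integral over κ(y) (its preimage in X_y ⊗ K is irreducible and has reduced
local rings, for every field extension K of κ(y)). Then y ↦ dim X_y^0 is locally constant on Y if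
and only if f is universally open at every point of X^0; and when this holds, X^0 is open in X. (The
published statement also lists, as a further equivalent condition, flatness of the base change of f
to the reduced closed subscheme Y_red at the points of X^0; that condition is not stated here.) -/
theorem result {X Y : Scheme.{u}}
    [IsLocallyNoetherian Y] (f : X ⟶ Y) [LocallyOfFiniteType f] (g : Y ⟶ X) (hg : g ≫ f = 𝟙 Y)
    (hint : ∀ y : Y, (∀ (K : Type u) [Field K] [Algebra (IsLocalRing.ResidueField (Y.presheaf.stalk y)) K],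
        IsIrreducible ((FBase.bcπ (f.fiberToSpecResidueField y) K ≫ f.fiberι y).base ⁻¹' connectedComponentIn (f.base ⁻¹' {y}) (g.base y)) ∧
        ∀ x' : ↥(FBase.bc (f.fiberToSpecResidueField y) K),
          (FBase.bcπ (f.fiberToSpecResidueField y) K ≫ f.fiberι y).base x' ∈ connectedComponentIn (f.base ⁻¹' {y}) (g.base y) →
          _root_.IsReduced ((FBase.bc (f.fiberToSpecResidueField y) K).presheaf.stalk x'))) :
    (IsLocallyConstant (fun y : Y => topologicalKrullDim ↥(connectedComponentIn (f.base ⁻¹' {y}) (g.base y))) ↔ ∀ x ∈ MoreMor.sectionComponents f g, EGA43.IsUnivOpenAt f x) ∧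
      (IsLocallyConstant (fun y : Y => topologicalKrullDim ↥(connectedComponentIn (f.base ⁻¹' {y}) (g.base y))) → IsOpen (MoreMor.sectionComponents f g)) := by
  have hgi : ∀ (y : Y) (K : Type u) [Field K] [Algebra (IsLocalRing.ResidueField (Y.presheaf.stalk y)) K],
      IsIrreducible ((FBase.bcπ (f.fiberToSpecResidueField y) K ≫ f.fiberι y).base ⁻¹' connectedComponentIn (f.base ⁻¹' {y}) (g.base y)) :=
    fun y K _ _ => (hint y K).1
  have hgr : ∀ y, ∀ a : ↥(f.fiber y), f.fiberι y a ∈ connectedComponentIn (f.base ⁻¹' {y}) (g.base y) →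
      FBase.IsGeomReducedAt (f.fiberToSpecResidueField y) a := fun y a ha K _ _ x' hx' =>
    (hint y K).2 x' (by rw [← hx'] at ha; exact ha)
  have hred : ∀ x : X, x ∈ MoreMor.sectionComponents f g →
      FBase.IsGeomReducedAt (f.fiberToSpecResidueField (f x)) (f.asFiber x) := fun x hx =>
    hgr (f x) _ (by rw [f.fiberι_asFiber]; exact (Groth.Agent.H1Sect.mem_sectionComponents_iff_of_eq f g rfl).1 hx)
  have hdim : ∀ x : X, IsLocallyConstant (fun y : Y => topologicalKrullDim ↥(connectedComponentIn (f.base ⁻¹' {y}) (g.base y))) →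
      ∀ y', y' ⤳ f x → topologicalKrullDim ↥(connectedComponentIn (f.base ⁻¹' {f x}) (g.base (f x))) ≤
        topologicalKrullDim ↥(connectedComponentIn (f.base ⁻¹' {y'}) (g.base y')) := by
    intro x hc y' hy'
    obtain ⟨U, hU, hxU, hUc⟩ := (IsLocallyConstant.iff_exists_open _).1 hc (f x)
    exact (hUc y' (hy'.mem_open hU hxU)).ge
  refine ⟨⟨fun hc x hx => ?_, fun hu => ?_⟩, fun hc => ?_⟩
  · exact Groth.Agent.UnivOpen.isUnivOpenAt_sectionComponent f hg hgi (fun y' hy' =>
      (hdim x hc y' hy')) ((Groth.Agent.H1Sect.mem_sectionComponents_iff_of_eq f g rfl).1 hx)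
  · refine (IsLocallyConstant.iff_eventually_eq _).2 fun y => ?_
    have hgy : f (g y) = y := Groth.Agent.UnivOpen.apply_section hg y
    have hmem : ∀ z ∈ connectedComponentIn (f.base ⁻¹' {y}) (g.base y), z ∈ MoreMor.sectionComponents f g :=
      fun z hz => Groth.Agent.H1Sect.isPreconnected_subset_sectionComponents f g hg y hz
    obtain ⟨V, hV, hVc⟩ := Groth.Agent.S5927.result f g hg hgi y (fun ξ hξ _ => hu ξ (hmem ξ hξ))
      (Or.inl (hred _ (hmem _ (mem_connectedComponentIn hgy))))
    filter_upwards [hV] with z hz using hVc z hz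
  · refine isOpen_iff_mem_nhds.2 fun x hx => Groth.Agent.H1W.sectionComponents_mem_nhds f g hg hgi (f x) (fun y' hy' =>
      (hdim x hc y' hy')) ((Groth.Agent.H1Sect.mem_sectionComponents_iff_of_eq f g rfl).1 hx) (hred x hx)

end Groth.Agent.S4975
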