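import Groth.Statements.S4980
import Groth.Agent.H1SumLen.Basic
import Groth.Agent.H23.C1Comm
import Groth.Agent.ZClosLib.CohDescent

set_option autoImplicit false
open CategoryTheory AlgebraicGeometry
universe u v w
open EGA43

namespace Groth.Agent.S4980

/-- Let A be a discrete valuation ring, Y = Spec A with closed point y and generic point y', f : X ⟶ Y a
proper morphism and F a coherent O_X-module which is f-flat; write F_y, F_{y'} for the restrictions
of F to the two fibres and suppose F_y has no embedded associated point. Then the sum, over the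
maximal points z' of Supp(F_{y'}), of the lengths of the stalks (F_{y'})_{z'} is at most the sum,
over the maximal points z of Supp(F_y), of the lengths of the stalks (F_y)_z (lengths over the local
rings of the fibres). -/
theorem result {A : Type u} [CommRing A] [IsDomain A]
    [IsDiscreteValuationRing A] {X : Scheme.{u}} (f : X ⟶ Spec (CommRingCat.of A)) [IsProper f] (F : X.Modules)
    (hF : Coh.IsCoh F) (hflat : FlatMod.IsFlatOver f F)
    (hemb : AssSch.NoEmbedded ((Scheme.Modules.pullback (f.fiberι (IsLocalRing.closedPoint A))).obj F)) :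
    letI y : ↥(Spec (CommRingCat.of A)) := IsLocalRing.closedPoint A
    letI y' : ↥(Spec (CommRingCat.of A)) := genericPoint (Spec (CommRingCat.of A))
    ∑ᶠ z' : {v : ↥(f.fiber y') // Nontrivial (((Scheme.Modules.pullback (f.fiberι y')).obj F).presheaf.stalk v) ∧
        ∀ w : ↥(f.fiber y'), Nontrivial (((Scheme.Modules.pullback (f.fiberι y')).obj F).presheaf.stalk w) → v ∈ closure {w} → w = v},
        Module.length ((f.fiber y').presheaf.stalk z'.1) (((Scheme.Modules.pullback (f.fiberι y')).obj F).presheaf.stalk z'.1) ≤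
      ∑ᶠ z : {v : ↥(f.fiber y) // Nontrivial (((Scheme.Modules.pullback (f.fiberι y)).obj F).presheaf.stalk v) ∧
        ∀ w : ↥(f.fiber y), Nontrivial (((Scheme.Modules.pullback (f.fiberι y)).obj F).presheaf.stalk w) → v ∈ closure {w} → w = v},
        Module.length ((f.fiber y).presheaf.stalk z.1) (((Scheme.Modules.pullback (f.fiberι y)).obj F).presheaf.stalk z.1) := by
  let y : ↥(Spec (CommRingCat.of A)) := IsLocalRing.closedPoint A
  let y' : ↥(Spec (CommRingCat.of A)) := genericPoint (Spec (CommRingCat.of A))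
  classical
  haveI : IsLocallyNoetherian X := LocallyOfFiniteType.isLocallyNoetherian f
  haveI : ∀ s, IsLocallyNoetherian (f.fiber s) := fun s =>
    LocallyOfFiniteType.isLocallyNoetherian (f.fiberToSpecResidueField s)
  haveI : CompactSpace X := QuasiCompact.compactSpace_of_compactSpace f
  obtain ⟨ϖ, hϖ⟩ := IsDiscreteValuationRing.exists_irreducible A
  have hC : IsClosed (CohB1.support F) := QCoh.isClosed_support_of_isFT hF.1 hF.2
  have hgen : ∀ s, y' ⤳ s := fun s => (genericPoint_spec _).specializes (Set.mem_univ s)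
  have hcl : ∀ x : X, f x = y → ∃ t ∈ IsLocalRing.maximalIdeal (X.presheaf.stalk x),
      Codepth5.fibIdeal f x = Ideal.span {t} ∧ IsSMulRegular (F.presheaf.stalk x) t := fun x hx => by
    let O := (Spec (CommRingCat.of A)).presheaf.stalk (f x)
    letI : Algebra A O := StructureSheaf.stalkAlgebra A (f x)
    haveI : IsLocalization.AtPrime O (f x).asIdeal :=
      StructureSheaf.IsLocalization.to_stalk A (f x)
    letI := FlatMod.moduleStalkOver f F x
    haveI : Module.Flat O (F.presheaf.stalk x) := hflat x
    have hmax : (f x).asIdeal = IsLocalRing.maximalIdeal A := by rw [hx]; rfl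
    have hm : IsLocalRing.maximalIdeal O = Ideal.span {algebraMap A O ϖ} := by
      rw [← IsLocalization.AtPrime.map_eq_maximalIdeal (f x).asIdeal O, hmax, hϖ.maximalIdeal_eq,
        Ideal.map_span, Set.image_singleton]
    have hJ : Codepth5.fibIdeal f x = Ideal.span {(f.stalkMap x).hom (algebraMap A O ϖ)} := by
      rw [Codepth5.fibIdeal]
      erw [hm]
      rw [Ideal.map_span, Set.image_singleton]
    refine ⟨_, H1SumLen.fibIdeal_le f x (hJ ▸ Ideal.mem_span_singleton_self _), hJ, ?_⟩
    have hinj : Function.Injective (algebraMap A O) :=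
      IsLocalization.injective O (f x).asIdeal.primeCompl_le_nonZeroDivisors
    haveI : IsDomain O := IsLocalization.isDomain_of_le_nonZeroDivisors O (f x).asIdeal.primeCompl_le_nonZeroDivisors
    have hne : algebraMap A O ϖ ≠ 0 := fun h => hϖ.ne_zero (hinj (h.trans (map_zero _).symm))
    have := Module.Flat.isSMulRegular_of_nonZeroDivisors (M := F.presheaf.stalk x)
      (mem_nonZeroDivisors_of_ne_zero hne)
    intro a b hab
    exact this hab
  have hgp : ∀ x : X, f x = y' → Codepth5.fibIdeal f x = ⊥ := fun x hx => by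
    have hm : IsLocalRing.maximalIdeal ((Spec (CommRingCat.of A)).presheaf.stalk (f x)) = ⊥ := by
      have h0 : IsField ((Spec (CommRingCat.of A)).presheaf.stalk (f x)) := by
        rw [hx]
        exact Field.toIsField (Spec (CommRingCat.of A)).functionField
      exact IsLocalRing.isField_iff_maximalIdeal_eq.1 h0
    rw [Codepth5.fibIdeal, hm, Ideal.map_bot]
  let j := f.fiberι y
  let j' := f.fiberι y'
  have hjy : ∀ w, f (j w) = y := fun w => FlatDvr.fiberι_apply_eq f w
  have hjy' : ∀ w, f (j' w) = y' := fun w => FlatDvr.fiberι_apply_eq f w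
  have hex : ∀ (s : ↥(Spec (CommRingCat.of A))) (x : X), f x = s → ∃ w, f.fiberι s w = x := fun s x hx => by
    have : x ∈ Set.range (f.fiberι s) := by rw [Scheme.Hom.range_fiberι]; exact hx
    exact this
  let T' : Set ↥(f.fiber y') := {v | Nontrivial (((Scheme.Modules.pullback j').obj F).presheaf.stalk v) ∧
    ∀ w : ↥(f.fiber y'), Nontrivial (((Scheme.Modules.pullback j').obj F).presheaf.stalk w) → v ∈ closure {w} → w = v}
  let T : Set ↥(f.fiber y) := {v | Nontrivial (((Scheme.Modules.pullback j).obj F).presheaf.stalk v) ∧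
    ∀ w : ↥(f.fiber y), Nontrivial (((Scheme.Modules.pullback j).obj F).presheaf.stalk w) → v ∈ closure {w} → w = v}
  have hT' : ∀ v ∈ T', j' v ∈ CohB1.support F ∧ ∀ u ∈ CohB1.support F, u ⤳ j' v → u = j' v := fun v hv => by
    refine ⟨(H1SumLen.nontrivial_fibre_stalk f F y' v hF).1 hv.1, fun u hu huv => ?_⟩
    have h1 : f u ⤳ y' := hjy' v ▸ huv.map f.continuous
    obtain ⟨w, rfl⟩ := hex y' u (h1.antisymm (hgen _)).eq
    exact congrArg _ (hv.2 w ((H1SumLen.nontrivial_fibre_stalk f F y' w hF).2 hu)
      (specializes_iff_mem_closure.1 ((f.fiberι y').isEmbedding.isInducing.specializes_iff.1 huv)))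
  have hsel : ∀ v : T', ∃ z : T, j' v.1 ⤳ j z.1 := fun v => by
    obtain ⟨hv1, hv2⟩ := hT' v.1 v.2
    have hne : (closure {j' v.1} ∩ f ⁻¹' {y}).Nonempty := by
      have hcl : IsClosed (f '' closure {j' v.1}) := f.isClosedMap _ isClosed_closure
      have h1 : y ∈ f '' closure {j' v.1} :=
        (hgen y).mem_closed hcl ⟨j' v.1, subset_closure rfl, hjy' v.1⟩
      obtain ⟨x, hx, hxy⟩ := h1
      exact ⟨x, hx, hxy⟩
    let C : Set X := closure {j' v.1} ∩ f ⁻¹' {y}
    have hCc : IsClosed C := isClosed_closure.inter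
      (((PrimeSpectrum.isClosed_singleton_iff_isMaximal _).2 (IsLocalRing.maximalIdeal.isMaximal A)).preimage f.continuous)
    haveI : Nonempty C := hne.to_subtype
    haveI : QuasiSober C := hCc.isClosedEmbedding_subtypeVal.quasiSober
    let c₀ : C := Classical.arbitrary C
    obtain ⟨x₁, hx₁⟩ := QuasiSober.sober (isIrreducible_irreducibleComponent (x := c₀))
      (isClosed_irreducibleComponent (x := c₀))
    have hxm : ∀ u : C, u ⤳ x₁ → u = x₁ := fun u hu => by
      have hsub : irreducibleComponent c₀ ⊆ closure {u} := by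
        rw [← hx₁.def]
        exact closure_minimal (Set.singleton_subset_iff.2 (specializes_iff_mem_closure.1 hu)) isClosed_closure
      have heq : closure {u} = irreducibleComponent c₀ :=
        (irreducibleComponent_mem_irreducibleComponents c₀).eq_of_ge
          isIrreducible_singleton.closure hsub
      exact (hu.antisymm (hx₁.specializes (heq ▸ subset_closure rfl))).eq
    have hv1x : j' v.1 ⤳ x₁.1 := specializes_iff_mem_closure.2 x₁.2.1
    obtain ⟨z, hz⟩ := hex y x₁.1 x₁.2.2
    have hxs : x₁.1 ∈ CohB1.support F := hv1x.mem_closed hC hv1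
    refine ⟨⟨z, (H1SumLen.nontrivial_fibre_stalk f F y z hF).2 (hz.symm ▸ hxs), fun w hw hwz => ?_⟩,
      hz.symm ▸ hv1x⟩
    have hass : z ∈ AssSch.Ass ((Scheme.Modules.pullback j).obj F) := by
      refine H1SumLen.mem_ass_fibre f F y z ?_
      obtain ⟨t, ht, hJ, hreg⟩ := hcl (j z) (hjy z)
      rw [hJ]
      haveI := QCoh.finite_stalk_of_isFT hF.1 hF.2 (j z)
      have hvz : j' v.1 ⤳ j z := by rw [hz]; exact hv1x
      have hlen := H23.CapSheaf.length_stalk_eq hF.1 hvz
      have hsup : CDiv6.primeOf hvz ∈ Module.support (X.presheaf.stalk (j z)) (F.presheaf.stalk (j z)) := by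
        rw [Module.mem_support_iff, ← not_subsingleton_iff_nontrivial, ← Module.length_eq_zero_iff
          (R := Localization.AtPrime (CDiv6.primeOf hvz).asIdeal), hlen, Module.length_eq_zero_iff]
        exact hv1
      have hmin : (CDiv6.primeOf hvz).asIdeal ∈
          (Module.annihilator (X.presheaf.stalk (j z)) (F.presheaf.stalk (j z))).minimalPrimes := by
        refine ⟨⟨(CDiv6.primeOf hvz).2, Module.annihilator_le_of_mem_support hsup⟩, fun q hq hle => ?_⟩
        haveI := hq.1
        obtain ⟨u, hu, rfl⟩ := H23.StalkPrimes.exists_point q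
        have hus : u ∈ CohB1.support F := by
          show ¬ Subsingleton _
          rw [← Module.length_eq_zero_iff (R := X.presheaf.stalk u), ← H23.CapSheaf.length_stalk_eq hF.1 hu,
            Module.length_eq_zero_iff, not_subsingleton_iff_nontrivial, ← Module.mem_support_iff,
            Module.support_eq_zeroLocus]
          exact hq.2
        obtain rfl := hv2 u hus ((H23.StalkPrimes.primeOf_le_iff hvz hu).1 hle)
        exact le_rfl
      refine H1SumLen.max_mem_associatedPrimes ht hreg
        (Module.associatedPrimes.minimalPrimes_annihilator_subset_associatedPrimes _ _ hmin) fun q hq hle htq => ?_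
      haveI := hq
      obtain ⟨u, hu, rfl⟩ := H23.StalkPrimes.exists_point q
      have hvu : j' v.1 ⤳ u := (H23.StalkPrimes.primeOf_le_iff hu hvz).1 hle
      have hfu : f u = y := by
        have h1 : (Codepth5.fibIdeal f (j z)) ≤ (CDiv6.primeOf hu).asIdeal := by
          rw [hJ, Ideal.span_singleton_le_iff_mem]; exact htq
        rw [Codepth5.fibIdeal, ← H23.ZeroSec.primeOf_refl' (f (j z)), H23.StalkPrimes.map_le_iff f hu] at h1
        have h2 : f u ⤳ f (j z) := hu.map f.continuous
        rw [hjy z] at h1 h2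
        exact (h2.antisymm h1).eq
      have hu1 : (⟨u, specializes_iff_mem_closure.1 hvu, hfu⟩ : C) = x₁ :=
        hxm _ ((subtype_specializes_iff _ _).2 (show u ⤳ x₁.1 by rw [← hz]; exact hu))
      obtain rfl : u = j z := (congrArg Subtype.val hu1).trans hz.symm
      exact H23.ZeroSec.primeOf_refl' (j z)
    haveI : IsLocallyNoetherian (f.fiber y) := inferInstance
    obtain ⟨a, ha, haw⟩ := AssLib.exists_ass_specializes (M := (Scheme.Modules.pullback j).obj F)
      (ZClosLib.isCoh_pullback j hF).1 (x := w) (not_subsingleton_iff_nontrivial.2 hw)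
    have hwz' : w ⤳ z := specializes_iff_mem_closure.2 hwz
    obtain rfl := hemb z hass a ha (haw.trans hwz')
    exact (hwz'.antisymm haw).eq
  choose sel hselspec using hsel
  haveI hfT' : Finite T' := by
    have h := H23.C1Comm.finite_maximal_inter hC (isCompact_univ (X := X))
    haveI := h.to_subtype
    exact Finite.of_injective (fun v : T' => (⟨j' v.1, (hT' v.1 v.2).1, fun u hu huv => (hT' v.1 v.2).2 u hu huv,
      Set.mem_univ _⟩ : {ξ : X | ξ ∈ CohB1.support F ∧ (∀ w ∈ CohB1.support F, w ⤳ ξ → w = ξ) ∧ ξ ∈ Set.univ}))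
      fun a b h => Subtype.ext ((f.fiberι y').isEmbedding.injective (congrArg Subtype.val h))
  haveI hfT : Finite T := by
    let C : Set X := CohB1.support F ∩ f ⁻¹' {y}
    have hCc : IsClosed C := hC.inter
      (((PrimeSpectrum.isClosed_singleton_iff_isMaximal _).2 (IsLocalRing.maximalIdeal.isMaximal A)).preimage f.continuous)
    haveI := (H23.C1Comm.finite_maximal_inter hCc (isCompact_univ (X := X))).to_subtype
    refine Finite.of_injective (fun v : T => (⟨j v.1, ⟨(H1SumLen.nontrivial_fibre_stalk f F y v.1 hF).1 v.2.1, hjy v.1⟩,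
      fun u hu huv => ?_, Set.mem_univ _⟩ : {ξ : X | ξ ∈ C ∧ (∀ w ∈ C, w ⤳ ξ → w = ξ) ∧ ξ ∈ Set.univ}))
      fun a b h => Subtype.ext ((f.fiberι y).isEmbedding.injective (congrArg Subtype.val h))
    obtain ⟨w, rfl⟩ := hex y u hu.2
    exact congrArg _ (v.2.2 w ((H1SumLen.nontrivial_fibre_stalk f F y w hF).2 hu.1)
      (specializes_iff_mem_closure.1 ((f.fiberι y).isEmbedding.isInducing.specializes_iff.1 huv)))
  letI := Fintype.ofFinite T'
  letI := Fintype.ofFinite T
  show (∑ᶠ v : T', Module.length ((f.fiber y').presheaf.stalk v.1)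
      (((Scheme.Modules.pullback j').obj F).presheaf.stalk v.1)) ≤
    ∑ᶠ z : T, Module.length ((f.fiber y).presheaf.stalk z.1) (((Scheme.Modules.pullback j).obj F).presheaf.stalk z.1)
  rw [finsum_eq_sum_of_fintype, finsum_eq_sum_of_fintype, ← Finset.sum_fiberwise Finset.univ sel]
  refine Finset.sum_le_sum fun z _ => ?_
  obtain ⟨t, ht, hJ, hreg⟩ := hcl (j z.1) (hjy z.1)
  have h1 : ∀ v : T', Module.length ((f.fiber y').presheaf.stalk v.1)
      (((Scheme.Modules.pullback j').obj F).presheaf.stalk v.1) =
        Module.length (X.presheaf.stalk (j' v.1)) (F.presheaf.stalk (j' v.1)) := fun v => by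
    rw [H1SumLen.length_fibre_stalk, hgp _ (hjy' v.1)]
    exact ((Submodule.quotEquivOfEq _ ⊥ (Submodule.bot_smul _)).trans (Submodule.quotEquivOfEqBot ⊥ rfl)).length_eq
  rw [H1SumLen.length_fibre_stalk, hJ, Finset.sum_congr rfl fun v _ => h1 v]
  have hy : y ≠ y' := fun h => by
    have h1 : IsLocalRing.maximalIdeal A = ⊥ := by
      have := congrArg PrimeSpectrum.asIdeal h
      rw [show y.asIdeal = IsLocalRing.maximalIdeal A from rfl, show y' = genericPoint _ from rfl,
        genericPoint_eq_bot_of_affine] at this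
      exact this
    exact IsDiscreteValuationRing.not_a_field A h1
  refine H1SumLen.sum_length_le F hF ht _ (fun v : T' => j' v.1) (fun v hv => ?_)
    (fun a _ b _ h => Subtype.ext ((f.fiberι y').isEmbedding.injective h)) (fun v _ h => ?_)
    (fun v _ => (hT' v.1 v.2).1) (fun v _ => (hT' v.1 v.2).2)
  · rw [← (Finset.mem_filter.1 hv).2]
    exact hselspec v
  · exact hy (by rw [← hjy z.1, ← hjy' v.1]; exact congrArg (fun x => f x) h.symm)

end Groth.Agent.S4980
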