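import Groth.Statements.S4996
import Groth.Agent.PopescuLib.Field
import Groth.Agent.S9408

set_option autoImplicit false
universe u
open Unram17

namespace Groth.Agent.S4996

open TensorProduct in
/-- Let B be a finitely presented algebra over a commutative ring A. Then B is smooth over A if and only
if B is flat over A and every fibre ring κ(p) ⊗_A B, p a prime of A, is geometrically regular over
the residue field κ(p), i.e. stays a regular ring after base change to any finite extension of κ(p). -/
theorem result (A B : Type u) [CommRing A] [CommRing B]
    [Algebra A B] [Algebra.FinitePresentation A B] :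
    Algebra.Smooth A B ↔
      Module.Flat A B ∧ ∀ (p : Ideal A) [p.IsPrime], CAlg.IsGeometricallyRegular p.ResidueField (p.Fiber B) := by
  constructor
  · intro h
    refine ⟨Algebra.Smooth.flat A B, fun p _ => ?_⟩
    refine Groth.Agent.S9408.result p.ResidueField p.ResidueField (p.Fiber B) ?_
    intro K _ _ _
    exact IsRegularRing.of_ringEquiv (Algebra.TensorProduct.rid p.ResidueField p.ResidueField K).toRingEquiv.symm
  · rintro ⟨hfl, h⟩
    refine Algebra.Smooth.of_formallySmooth_fiber fun p hp => ?_
    haveI : IsNoetherianRing (p.Fiber B) := Algebra.FiniteType.isNoetherianRing p.ResidueField _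
    haveI : Algebra.FinitePresentation p.ResidueField (p.Fiber B) := Algebra.FinitePresentation.of_finiteType.1 inferInstance
    obtain ⟨S, _, _, hS, g, k, hk⟩ := Groth.Agent.PopescuLib.indSmooth_field (h p) (p.Fiber B) inferInstance (AlgHom.id _ _)
    haveI := hS
    refine Algebra.FormallySmooth.of_comp_surjective fun P _ _ I hI ψ => ?_
    obtain ⟨l, hl⟩ := Algebra.FormallySmooth.comp_surjective (R := p.ResidueField) (A := S) I hI (ψ.comp k)
    exact ⟨l.comp g, by rw [← AlgHom.comp_assoc, hl, AlgHom.comp_assoc, hk, AlgHom.comp_id]⟩

end Groth.Agent.S4996
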