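import Groth.Statements.S4999
import Groth.Agent.SmoothReg.GenPt

set_option autoImplicit false
universe u
open Unram17

namespace Groth.Agent.S4999

/-- Let A be an algebra of finite type over a field k. Then A is smooth over k if and only if the module
of differentials of A over k is projective (locally free) and, at every minimal prime p of A, the
local ring A_p is geometrically reduced over k, which for this Artinian local ring says that A_p is
a field and a separable (not necessarily algebraic) extension of k. -/
theorem result (k A : Type u) [Field k] [CommRing A]
    [Algebra k A] [Algebra.FiniteType k A] :
    Algebra.Smooth k A ↔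
      Module.Projective A (KaehlerDifferential k A) ∧
        ∀ (p : Ideal A) [p.IsPrime], p ∈ minimalPrimes A →
          Algebra.IsGeometricallyReduced k (Localization.AtPrime p) := by
  constructor
  · intro h
    refine ⟨inferInstance, fun p _ hp => Groth.Agent.SmoothReg.geomRed_of_isSmoothAt k A p ?_⟩
    exact Algebra.FormallySmooth.comp k A (Localization.AtPrime p)
  · rintro ⟨hproj, hgr⟩
    exact Groth.Agent.SmoothReg.smooth_of_generic k A fun η _ hη =>
      haveI := hgr η hη
      Groth.Agent.SmoothReg.isSmoothAt_of_geomRed k A η hη

end Groth.Agent.S4999
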