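import Groth.Statements.S5001
import Groth.Agent.S2790
import Mathlib

set_option autoImplicit false
universe u
open Unram17

set_option backward.isDefEq.respectTransparency false

namespace Groth.Agent.S5001

/-- Let k be a field, A a k-algebra of finite type equipped with a k-algebra map from the polynomial
ring in n variables, with images g_i of the variables, and p a prime of A such that Spec A has local
dimension n at p, the residue field of p is a finite separable extension of k, and every g_i lies in
p. Then A is etale over the polynomial ring at p if and only if the images of the g_i generate the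
maximal ideal of the local ring A_p. -/
theorem result (k A : Type u) [Field k] [CommRing A] [Algebra k A]
    [Algebra.FiniteType k A] (n : ℕ) [Algebra (MvPolynomial (Fin n) k) A]
    [IsScalarTower k (MvPolynomial (Fin n) k) A] (p : Ideal A) [p.IsPrime]
    (hn : FlatMor.localDim (PrimeSpectrum A) ⟨p, inferInstance⟩ = (n : WithBot ℕ∞))
    [Module.Finite k p.ResidueField] [Algebra.IsSeparable k p.ResidueField]
    (hg : ∀ i : Fin n, algebraMap (MvPolynomial (Fin n) k) A (MvPolynomial.X i) ∈ p) :
    Algebra.IsEtaleAt (MvPolynomial (Fin n) k) p ↔
      Ideal.span (Set.range fun i : Fin n =>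
        algebraMap A (Localization.AtPrime p) (algebraMap (MvPolynomial (Fin n) k) A (MvPolynomial.X i))) =
        IsLocalRing.maximalIdeal (Localization.AtPrime p) := by
  rw [Groth.Agent.S2790.result k A n p hn]
  let T := Localization.AtPrime p
  let κ := p.ResidueField
  haveI : IsNoetherianRing A := Algebra.FiniteType.isNoetherianRing k A
  haveI : IsNoetherianRing T := IsLocalization.isNoetherianRing p.primeCompl T inferInstance
  haveI : Module.Finite T Ω[T⁄k] := by
    haveI : Algebra.EssFiniteType k T := Algebra.EssFiniteType.comp k A T
    infer_instance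
  haveI : Algebra.FormallyUnramified k κ := Algebra.FormallyUnramified.of_isSeparable k κ
  haveI : Algebra.FormallyEtale k κ := Algebra.FormallyEtale.of_isSeparable k κ
  have hsurj : Function.Surjective (algebraMap T κ) := Ideal.Quotient.mk_surjective
  let x : Fin n → T := fun i => algebraMap A T (algebraMap (MvPolynomial (Fin n) k) A (MvPolynomial.X i))
  have hxm : ∀ i, x i ∈ IsLocalRing.maximalIdeal T := fun i =>
    (IsLocalization.AtPrime.to_map_mem_maximal_iff T p _).2 (hg i)
  let c := KaehlerDifferential.kerCotangentToTensor k T κ
  have hc : Function.Surjective c := by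
    rw [← LinearMap.range_eq_top, KaehlerDifferential.range_kerCotangentToTensor k T κ hsurj]
    exact Submodule.restrictScalars_eq_top_iff _ _ _ |>.2 (LinearMap.ker_eq_top.2 (LinearMap.ext fun z => Subsingleton.elim _ _))
  have hker : RingHom.ker (algebraMap T κ) = IsLocalRing.maximalIdeal T := Ideal.mk_ker
  let y : Fin n → RingHom.ker (algebraMap T κ) := fun i => ⟨x i, hker.ge (hxm i)⟩
  have hcy : ∀ i, c (Ideal.toCotangent _ (y i)) = TensorProduct.mk T κ Ω[T⁄k] 1 (KaehlerDifferential.D k T (x i)) :=
    fun i => rfl
  have h1 : Ideal.span (Set.range x) = IsLocalRing.maximalIdeal T ↔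
      Submodule.span T (Set.range fun i => Ideal.toCotangent _ (y i)) = ⊤ := by
    have e1 : Submodule.span T (Set.range fun i => Ideal.toCotangent _ (y i)) =
        (Submodule.span T (Set.range y)).map (Ideal.toCotangent _) := by
      rw [Submodule.map_span, ← Set.range_comp]; rfl
    rw [e1]
    constructor
    · intro h
      have : Submodule.span T (Set.range y) = ⊤ := by
        apply Submodule.map_injective_of_injective (RingHom.ker (algebraMap T κ)).subtype_injective
        rw [Submodule.map_span, ← Set.range_comp, Submodule.map_top, Submodule.range_subtype]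
        exact h.trans hker.symm
      rw [this, Submodule.map_top, Ideal.toCotangent_range]
    · intro h
      refine le_antisymm (Ideal.span_le.2 (by rintro _ ⟨i, rfl⟩; exact hxm i)) ?_
      refine Submodule.le_of_le_smul_of_le_jacobson_bot (IsNoetherian.noetherian _)
        (IsLocalRing.jacobson_eq_maximalIdeal _ bot_ne_top).ge ?_
      intro z hz
      obtain ⟨w, hw, hwz⟩ := (h.ge Submodule.mem_top :
        Ideal.toCotangent _ (⟨z, hker.ge hz⟩ : RingHom.ker (algebraMap T κ)) ∈ _)
      rw [Ideal.toCotangent_eq] at hwz
      have hwx : (w : T) ∈ Ideal.span (Set.range x) := by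
        have := Submodule.apply_mem_span_image_of_mem_span (RingHom.ker (algebraMap T κ)).subtype hw
        rwa [← Set.range_comp] at this
      rw [← sub_sub_cancel (w : T) z]
      exact Submodule.mem_sup.2 ⟨w, hwx, -((w : T) - z), neg_mem (by
          have h9 := (pow_left_mono 2 (le_of_eq hker)) hwz
          simp only [pow_two, ← smul_eq_mul] at h9
          exact h9),
        (sub_eq_add_neg _ _).symm⟩
  show _ ↔ Ideal.span (Set.range x) = IsLocalRing.maximalIdeal T
  rw [h1]
  have h2 : ∀ (S : Submodule T (RingHom.ker (algebraMap T κ)).Cotangent), S = ⊤ → S.map c = ⊤ := by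
    rintro S rfl
    rw [Submodule.map_top, LinearMap.range_eq_top.2 hc]
  have e2 : (Submodule.span T (Set.range fun i => Ideal.toCotangent _ (y i))).map c =
      (Submodule.span T (Set.range fun i => KaehlerDifferential.D k T (x i))).map (TensorProduct.mk T κ Ω[T⁄k] 1) := by
    rw [Submodule.map_span, Submodule.map_span, ← Set.range_comp, ← Set.range_comp]
    exact congrArg _ (congrArg Set.range (funext hcy))
  constructor
  · intro h
    have het : Algebra.IsEtaleAt (MvPolynomial (Fin n) k) p := (Groth.Agent.S2790.result k A n p hn).2 h
    haveI : Algebra.FormallySmooth k T := by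
      haveI : Algebra.FormallyEtale (MvPolynomial (Fin n) k) T := het
      exact Algebra.FormallySmooth.comp k (MvPolynomial (Fin n) k) T
    obtain ⟨l, hl⟩ := (Algebra.FormallySmooth.iff_split_injection (R := k) (P := T) (A := κ) hsurj).1 inferInstance
    have hinj : Function.Injective c := Function.LeftInverse.injective (g := l) fun z => LinearMap.congr_fun hl z
    apply Submodule.map_injective_of_injective hinj
    rw [e2, h2 ⊤ rfl, show Submodule.span T (Set.range fun i => KaehlerDifferential.D k T (x i)) = ⊤ from h,
      Submodule.map_top, LinearMap.range_eq_top]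
    exact TensorProduct.mk_surjective T _ κ hsurj
  · intro h
    show Submodule.span T (Set.range fun i => KaehlerDifferential.D k T (x i)) = ⊤
    rw [← IsLocalRing.map_tensorProduct_mk_eq_top]
    exact e2.symm.trans (h2 _ h)

end Groth.Agent.S5001
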