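import Groth.Statements.S5012
import Groth.Agent.SmoothReg.GenPt

set_option autoImplicit false
universe u
open Unram17

namespace Groth.Agent.S5012

/-- Let A be an algebra of finite type over a field k. Then Spec A has a dense open subset consisting of
points at which A is smooth over k if and only if, for every minimal prime p of A, the local ring
A_p is geometrically reduced over k (that is, A_p is a field and a separable extension of k). -/
theorem result (k A : Type u) [Field k] [CommRing A] [Algebra k A]
    [Algebra.FiniteType k A] :
    (∃ U : TopologicalSpace.Opens (PrimeSpectrum A), Dense (U : Set (PrimeSpectrum A)) ∧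
        ∀ p ∈ U, Algebra.IsSmoothAt k p.asIdeal) ↔
      ∀ (p : Ideal A) [p.IsPrime], p ∈ minimalPrimes A →
        Algebra.IsGeometricallyReduced k (Localization.AtPrime p) := by
  haveI : IsNoetherianRing A := Algebra.FiniteType.isNoetherianRing k A
  haveI : Algebra.FinitePresentation k A := Algebra.FinitePresentation.of_finiteType.mp inferInstance
  constructor
  · rintro ⟨U, hd, hU⟩ p _ hp
    exact Groth.Agent.SmoothReg.geomRed_of_isSmoothAt k A p
      (hU _ (Groth.Agent.SmoothReg.mem_of_dense_open A p hp U.2 hd))
  · intro hgr
    refine ⟨⟨Algebra.smoothLocus k A, Algebra.isOpen_smoothLocus⟩, ?_, fun p hp => hp⟩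
    intro x
    obtain ⟨Q, hQ, hQx⟩ := Ideal.exists_minimalPrimes_le (bot_le : ⊥ ≤ x.asIdeal)
    haveI := hQ.1.1
    haveI := hgr Q hQ
    have hmem : (⟨Q, inferInstance⟩ : PrimeSpectrum A) ∈ Algebra.smoothLocus k A :=
      Groth.Agent.SmoothReg.isSmoothAt_of_geomRed k A Q hQ
    exact ((PrimeSpectrum.le_iff_specializes ⟨Q, inferInstance⟩ x).1 hQx).mem_closed isClosed_closure
      (subset_closure hmem)

end Groth.Agent.S5012
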