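import Groth.Statements.S5013
import Groth.Agent.SmNhd17.Fibre
import Groth.Agent.S2561
import Groth.Agent.S4939
import Groth.Agent.S2595

set_option autoImplicit false
set_option backward.isDefEq.respectTransparency false
set_option backward.isDefEq.respectTransparency.types false
attribute [-instance] CategoryTheory.catToReflQuiver
universe u
open CategoryTheory CategoryTheory.Limits AlgebraicGeometry TopologicalSpace
open Unram17

namespace Groth.Agent.S5013

/-- Let Y be locally Noetherian, f : X ⟶ Y locally of finite type, x a point of X with image y, and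
suppose the local ring of Y at y is reduced and geometrically unibranch. Then f is smooth on an open
neighbourhood of x if and only if f is equidimensional at x and the local ring of the fibre at x
(the quotient of the local ring of X at x by the extension of the maximal ideal at y) is
geometrically regular over the residue field κ(y). -/
theorem result {X Y : Scheme.{u}} (f : X ⟶ Y)
    [IsLocallyNoetherian Y] [LocallyOfFiniteType f] (x : ↥X)
    (hred : IsReduced ↑(Y.presheaf.stalk (f.base x)))
    (hgu : CAlg2.IsGeomUnibranch ↑(Y.presheaf.stalk (f.base x))) :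
    letI φ := (f.stalkMap x).hom
    letI 𝔪 := IsLocalRing.maximalIdeal ↑(Y.presheaf.stalk (f.base x))
    letI : Algebra (IsLocalRing.ResidueField ↑(Y.presheaf.stalk (f.base x))) (↑(X.presheaf.stalk x) ⧸ 𝔪.map φ) :=
      (Ideal.quotientMap (𝔪.map φ) φ Ideal.le_comap_map).toAlgebra
    (∃ U : X.Opens, x ∈ U ∧ Smooth (U.ι ≫ f)) ↔
      EGA43.IsEquidimAt f x ∧
        CAlg.IsGeometricallyRegular (IsLocalRing.ResidueField ↑(Y.presheaf.stalk (f.base x)))
          (↑(X.presheaf.stalk x) ⧸ 𝔪.map φ) := by
  constructor
  · intro h
    obtain ⟨-, hflat, hfib⟩ := Groth.Agent.SmNhd17.of_smooth_nhd f x h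
    refine ⟨Groth.Agent.S2595.result f x hflat ?_, (Groth.Agent.SmNhd17.fibre_smooth_iff f x).1 hfib⟩
    haveI : LocallyOfFinitePresentation (f.fiberToSpecResidueField (f.base x)) :=
      Groth.Agent.SmNhd17.lfp_fibre f _
    exact Groth.Agent.SmNhd17.cohenMacaulay_of_smooth _ hfib
  · rintro ⟨heq, hreg⟩
    have hfib := (Groth.Agent.SmNhd17.fibre_smooth_iff f x).2 hreg
    haveI : LocallyOfFinitePresentation (f.fiberToSpecResidueField (f.base x)) :=
      Groth.Agent.SmNhd17.lfp_fibre f _
    have hiff := (Groth.Agent.S4939.result f x hgu).out 0 2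
    have hopen := (hiff.1 heq).2
    exact Groth.Agent.SmNhd17.smooth_nhd_of_flat f x
      (Groth.Agent.S2561.result f x hopen (Groth.Agent.SmNhd17.isGeomReducedAt_of_smooth _ hfib) hred) hfib

end Groth.Agent.S5013
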