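import Groth.Statements.S5023
import Groth.Agent.Synt29.OmegaBC
import Groth.Agent.KFlatLib.Scheme.Exact
import Mathlib

set_option backward.isDefEq.respectTransparency false
set_option linter.style.haveILetI false
set_option maxHeartbeats 1000000

set_option autoImplicit false
universe u
open CategoryTheory CategoryTheory.Limits AlgebraicGeometry TopologicalSpace
open Nrm16

namespace Groth.Agent.S5023

open Groth.Agent.Synt29.OmegaStalk

theorem congr_comp {P : Scheme.{u}} {x y w : P} (h₁ : x = y) (h₂ : w = y) {T : CommRingCat.{u}}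
    (φ : P.presheaf.stalk w ⟶ T) (h₃ : x = w) :
    (P.presheaf.stalkCongr (.of_eq h₁)).hom ≫ (P.presheaf.stalkCongr (.of_eq h₂)).inv ≫ φ =
      (P.presheaf.stalkCongr (.of_eq h₃)).hom ≫ φ := by
  subst h₁
  subst h₂
  simp

theorem stalk_comp {Z X S : Scheme.{u}} (p : Z ⟶ X) (a : X ⟶ S) (h : Z ⟶ S) (w : p ≫ a = h) (z : Z) :
    a.stalkMap (p z) ≫ p.stalkMap z =
      (S.presheaf.stalkCongr (.of_eq (show a (p z) = h z by rw [← Scheme.Hom.comp_apply, w]))).hom ≫
        h.stalkMap z := by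
  subst w
  simp [Scheme.Hom.stalkMap_comp]

theorem split {R RA RB A B T : CommRingCat.{u}} {φA : RA ⟶ A} {φB : RB ⟶ B} {φT : R ⟶ T}
    {ρA : RA ⟶ R} {ρB : RB ⟶ R} {σA : R ⟶ A} {σB : R ⟶ B} {ψA : A ⟶ T} {ψB : B ⟶ T}
    (hA : φA ≫ ψA = ρA ≫ φT) (hB : φB ≫ ψB = ρB ≫ φT) (hσA : σA ≫ ψA = φT) (hσB : σB ≫ ψB = φT)
    (hφA : ρA ≫ σA = φA) (hφB : ρB ≫ σB = φB)
    (eA : φA ≫ ψA = (ρA ≫ σB) ≫ ψB) (eB : φB ≫ ψB = (ρB ≫ σA) ≫ ψA)
    (hPA : IsIso (squareMap (ρA ≫ σB) ψB φA ψA eA)) (hPB : IsIso (squareMap (ρB ≫ σA) ψA φB ψB eB)) :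
    ∃ (vA : CommRingCat.KaehlerDifferential φT ⟶
        (ModuleCat.extendScalars ψA.hom).obj (CommRingCat.KaehlerDifferential φA))
      (vB : CommRingCat.KaehlerDifferential φT ⟶
        (ModuleCat.extendScalars ψB.hom).obj (CommRingCat.KaehlerDifferential φB)),
      squareMap ρA φT φA ψA hA ≫ vA = 𝟙 _ ∧ squareMap ρA φT φA ψA hA ≫ vB = 0 ∧
      squareMap ρB φT φB ψB hB ≫ vB = 𝟙 _ ∧ squareMap ρB φT φB ψB hB ≫ vA = 0 ∧
      vA ≫ squareMap ρA φT φA ψA hA + vB ≫ squareMap ρB φT φB ψB hB = 𝟙 _ := by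
  let gA := squareMap ρA φT φA ψA hA
  let gB := squareMap ρB φT φB ψB hB
  let PA := squareMap (ρA ≫ σB) ψB φA ψA eA
  let PB := squareMap (ρB ≫ σA) ψA φB ψB eB
  let cA : CommRingCat.KaehlerDifferential φT ⟶ CommRingCat.KaehlerDifferential ψB :=
    (congrBase hσB.symm).hom ≫ changeBase σB ψB
  let cB : CommRingCat.KaehlerDifferential φT ⟶ CommRingCat.KaehlerDifferential ψA :=
    (congrBase hσA.symm).hom ≫ changeBase σA ψA
  have hcA : ∀ t, cA (CommRingCat.KaehlerDifferential.d t) = CommRingCat.KaehlerDifferential.d t := fun t => by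
    rw [ModuleCat.comp_apply, congrBase_d, changeBase_d]
  have hcB : ∀ t, cB (CommRingCat.KaehlerDifferential.d t) = CommRingCat.KaehlerDifferential.d t := fun t => by
    rw [ModuleCat.comp_apply, congrBase_d, changeBase_d]
  have extA : ∀ {M : ModuleCat.{u} T}
      (u v : (ModuleCat.extendScalars ψA.hom).obj (CommRingCat.KaehlerDifferential φA) ⟶ M),
      (∀ x : A, u (((ModuleCat.extendRestrictScalarsAdj ψA.hom).unit.app _).hom (CommRingCat.KaehlerDifferential.d x)) =
        v (((ModuleCat.extendRestrictScalarsAdj ψA.hom).unit.app _).hom (CommRingCat.KaehlerDifferential.d x))) →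
      u = v := fun u v huv => by
    apply ((ModuleCat.extendRestrictScalarsAdj ψA.hom).homEquiv _ _).injective
    refine CommRingCat.KaehlerDifferential.ext fun x => ?_
    rw [Adjunction.homEquiv_unit, Adjunction.homEquiv_unit, ModuleCat.comp_apply, ModuleCat.comp_apply]
    exact huv x
  have extB : ∀ {M : ModuleCat.{u} T}
      (u v : (ModuleCat.extendScalars ψB.hom).obj (CommRingCat.KaehlerDifferential φB) ⟶ M),
      (∀ x : B, u (((ModuleCat.extendRestrictScalarsAdj ψB.hom).unit.app _).hom (CommRingCat.KaehlerDifferential.d x)) =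
        v (((ModuleCat.extendRestrictScalarsAdj ψB.hom).unit.app _).hom (CommRingCat.KaehlerDifferential.d x))) →
      u = v := fun u v huv => by
    apply ((ModuleCat.extendRestrictScalarsAdj ψB.hom).homEquiv _ _).injective
    refine CommRingCat.KaehlerDifferential.ext fun x => ?_
    rw [Adjunction.homEquiv_unit, Adjunction.homEquiv_unit, ModuleCat.comp_apply, ModuleCat.comp_apply]
    exact huv x
  have gAc : gA ≫ cA = PA := extA _ _ fun x => by
    rw [ModuleCat.comp_apply, squareMap_unit, hcA, squareMap_unit]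
  have gBc : gB ≫ cB = PB := extB _ _ fun x => by
    rw [ModuleCat.comp_apply, squareMap_unit, hcB, squareMap_unit]
  have gA0 : gA ≫ cB = 0 := extA _ _ fun x => by
    rw [ModuleCat.comp_apply, squareMap_unit, hcB]
    exact (CommRingCat.KaehlerDifferential.D ψA).d_map x
  have gB0 : gB ≫ cA = 0 := extB _ _ fun x => by
    rw [ModuleCat.comp_apply, squareMap_unit, hcA]
    exact (CommRingCat.KaehlerDifferential.D ψB).d_map x
  refine ⟨cA ≫ inv PA, cB ≫ inv PB, ?_, ?_, ?_, ?_, ?_⟩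
  · rw [reassoc_of% gAc, IsIso.hom_inv_id]
  · rw [reassoc_of% gA0, zero_comp]
  · rw [reassoc_of% gBc, IsIso.hom_inv_id]
  · rw [reassoc_of% gB0, zero_comp]
  let u : CommRingCat.KaehlerDifferential φT ⟶ CommRingCat.KaehlerDifferential φT :=
    𝟙 _ - ((cA ≫ inv PA) ≫ gA + (cB ≫ inv PB) ≫ gB)
  suffices hu : u = 0 from (sub_eq_zero.mp hu).symm
  have hAu : gA ≫ u = 0 := by
    simp only [u, Preadditive.comp_sub, Preadditive.comp_add, Category.assoc, reassoc_of% gAc,
      reassoc_of% gA0, IsIso.hom_inv_id_assoc, zero_comp, Category.comp_id, add_zero, sub_self]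
  have hBu : gB ≫ u = 0 := by
    simp only [u, Preadditive.comp_sub, Preadditive.comp_add, Category.assoc, reassoc_of% gBc,
      reassoc_of% gB0, IsIso.hom_inv_id_assoc, zero_comp, Category.comp_id, zero_add, sub_self]
  let δ : (CommRingCat.KaehlerDifferential φT).Derivation ψA :=
    ModuleCat.Derivation.mk (fun t => u (CommRingCat.KaehlerDifferential.d t))
      (fun t t' => by
        show u _ = _
        rw [show CommRingCat.KaehlerDifferential.d (f := φT) (t + t') = _ from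
          (CommRingCat.KaehlerDifferential.D φT).d_add t t']
        exact map_add _ _ _)
      (fun t t' => by
        show u _ = _
        rw [show CommRingCat.KaehlerDifferential.d (f := φT) (t * t') = _ from
          (CommRingCat.KaehlerDifferential.D φT).d_mul t t']
        exact (map_add _ _ _).trans (congrArg₂ (· + ·) (map_smul _ _ _) (map_smul _ _ _)))
      (fun x => by
        show u (CommRingCat.KaehlerDifferential.d (ψA x)) = 0
        rw [← squareMap_unit ρA φT φA ψA hA x]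
        exact congr($hAu (((ModuleCat.extendRestrictScalarsAdj ψA.hom).unit.app _).hom
          (CommRingCat.KaehlerDifferential.d x))))
  have hδ0 : PB ≫ δ.desc = 0 := extB _ _ fun x => by
    rw [ModuleCat.comp_apply, squareMap_unit, ModuleCat.Derivation.desc_d]
    show u (CommRingCat.KaehlerDifferential.d (ψB x)) = 0
    rw [← squareMap_unit ρB φT φB ψB hB x]
    exact congr($hBu (((ModuleCat.extendRestrictScalarsAdj ψB.hom).unit.app _).hom
      (CommRingCat.KaehlerDifferential.d x)))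
  have hdz : δ.desc = 0 := (cancel_epi PB).mp (hδ0.trans comp_zero.symm)
  refine CommRingCat.KaehlerDifferential.ext fun t => ?_
  have h0 := δ.desc_d t
  rw [hdz] at h0
  exact h0.symm

open Groth.Agent.KFlatLib in
theorem stalk_square {X Y X' Y' : Scheme.{u}} {f : X ⟶ Y} {f' : X' ⟶ Y'} {h : X' ⟶ X}
    {Ω : X.Modules} {d : OmegaSh.Der f Ω} (hd : OmegaSh.IsUniversal d)
    {Ω' : X'.Modules} {d' : OmegaSh.Der f' Ω'}
    (c : (Scheme.Modules.pullback h).obj Ω ⟶ Ω') (hc : OmegaSh.IsDiffCompat h d d' c) (x : X')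
    (φ : Y.presheaf.stalk (f (h x)) ⟶ X.presheaf.stalk (h x)) (eφ : φ = f.stalkMap (h x))
    {φ' : Y'.presheaf.stalk (f' x) ⟶ X'.presheaf.stalk x}
    (i₂ : CommRingCat.KaehlerDifferential φ' ≅ St Ω' x)
    (hi₂ : ∀ b, i₂.hom (CommRingCat.KaehlerDifferential.d b) = (stalkD d' x).d b) :
    ∃ (i₁ : (ModuleCat.extendScalars (h.stalkMap x).hom).obj (CommRingCat.KaehlerDifferential φ) ≅
          St ((Scheme.Modules.pullback h).obj Ω) x),
      ∀ γ : (ModuleCat.extendScalars (h.stalkMap x).hom).obj (CommRingCat.KaehlerDifferential φ) ⟶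
          CommRingCat.KaehlerDifferential φ',
        (∀ b : X.presheaf.stalk (h x),
          γ (((ModuleCat.extendRestrictScalarsAdj (h.stalkMap x).hom).unit.app _).hom
              (CommRingCat.KaehlerDifferential.d b)) =
            CommRingCat.KaehlerDifferential.d (h.stalkMap x b)) →
        i₁.hom ≫ (DerSch.stalkFunctor X' x).map c = γ ≫ i₂.hom := by
  obtain ⟨j, hj⟩ := exists_iso_of_eq hd (h x) φ eφ
  let P := (stalkPullbackIso h x).app Ω
  let E := (ModuleCat.extendScalars (h.stalkMap x).hom).mapIso j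
  let adj := ModuleCat.extendRestrictScalarsAdj (h.stalkMap x).hom
  refine ⟨E ≪≫ P.symm, fun γ hγ => ?_⟩
  apply (adj.homEquiv _ _).injective
  refine CommRingCat.KaehlerDifferential.ext fun b => ?_
  rw [Adjunction.homEquiv_unit, Adjunction.homEquiv_unit, ModuleCat.comp_apply,
    ModuleCat.comp_apply]
  show (DerSch.stalkFunctor X' x).map c (P.inv (E.hom ((adj.unit.app _).hom
      (CommRingCat.KaehlerDifferential.d b)))) =
    i₂.hom (γ ((adj.unit.app _).hom (CommRingCat.KaehlerDifferential.d b)))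
  rw [hγ, hi₂]
  have h1 : E.hom ((adj.unit.app _).hom (CommRingCat.KaehlerDifferential.d b)) =
      (adj.unit.app (St Ω (h x))).hom ((stalkD d (h x)).d b) := by
    rw [← hj b]
    exact (congr($(adj.unit.naturality j.hom) (CommRingCat.KaehlerDifferential.d b))).symm
  rw [h1]
  obtain ⟨U, hU, s, rfl⟩ := X.presheaf.exists_germ_eq (x := h x) b
  have hU' : x ∈ h ⁻¹ᵁ U := hU
  have h2 : P.inv ((adj.unit.app (St Ω (h x))).hom
      ((stalkD d (h x)).d (X.presheaf.germ U (h x) hU s))) =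
      gm _ hU' (OmegaSh.pullSect h Ω U (d.app U s)) := by
    rw [stalkD_germ]
    have h3 : (adj.unit.app (St Ω (h x))).hom (gm Ω hU (d.app U s)) =
        P.hom (gm _ hU' (OmegaSh.pullSect h Ω U (d.app U s))) :=
      (stalkPullbackIso_gm h Ω x hU' _).symm
    rw [h3, Iso.hom_inv_id_apply]
  rw [h2, Scheme.Hom.germ_stalkMap_apply]
  refine (DerSch.stalkFunctor_map_germ x c _ hU' _).trans ?_
  rw [hc U s]
  exact (stalkD_germ d' (h ⁻¹ᵁ U) hU' _).symm

/-- Let a : X ⟶ S and b : Y ⟶ S be morphisms and Z a fibre product of X and Y over S with projections p,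
q and structure morphism h. Given sheaves of differentials (universal derivations) of X, Y and Z
over S and the canonical compatible maps c₁ : p^*Ω_X ⟶ Ω_Z and c₂ : q^*Ω_Y ⟶ Ω_Z, the induced map
from the coproduct p^*Ω_X ⨿ q^*Ω_Y to Ω_Z is an isomorphism. -/
theorem result {X Y S Z : Scheme.{u}} (a : X ⟶ S) (b : Y ⟶ S)
    (p : Z ⟶ X) (q : Z ⟶ Y) (h : Z ⟶ S) (wp : p ≫ a = h) (wq : q ≫ b = h) (hZ : IsPullback p q a b)
    (ΩX : X.Modules) (dX : OmegaSh.Der a ΩX) (hX : OmegaSh.IsUniversal dX)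
    (ΩY : Y.Modules) (dY : OmegaSh.Der b ΩY) (hY : OmegaSh.IsUniversal dY)
    (ΩZ : Z.Modules) (dZ : OmegaSh.Der h ΩZ) (hZu : OmegaSh.IsUniversal dZ)
    (c₁ : (Scheme.Modules.pullback p).obj ΩX ⟶ ΩZ) (hc₁ : OmegaSh.IsDiffCompat p dX dZ c₁)
    (c₂ : (Scheme.Modules.pullback q).obj ΩY ⟶ ΩZ) (hc₂ : OmegaSh.IsDiffCompat q dY dZ c₂) :
    IsIso (coprod.desc c₁ c₂) := by
  classical
  open Groth.Agent.Synt29.OmegaStalk in
  suffices hb : IsIso (biprod.desc c₁ c₂) by
    haveI : IsIso (coprod.desc (biprod.inl : (Scheme.Modules.pullback p).obj ΩX ⟶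
        (Scheme.Modules.pullback p).obj ΩX ⊞ (Scheme.Modules.pullback q).obj ΩY) biprod.inr) :=
      ⟨biprod.desc coprod.inl coprod.inr, by apply coprod.hom_ext <;> simp, by apply biprod.hom_ext' <;> simp⟩
    have : coprod.desc c₁ c₂ = coprod.desc (biprod.inl : (Scheme.Modules.pullback p).obj ΩX ⟶
        (Scheme.Modules.pullback p).obj ΩX ⊞ (Scheme.Modules.pullback q).obj ΩY) biprod.inr ≫ biprod.desc c₁ c₂ := by
      apply coprod.hom_ext
      · rw [coprod.inl_desc, ← Category.assoc]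
        erw [coprod.inl_desc, biprod.inl_desc]
      · rw [coprod.inr_desc, ← Category.assoc]
        erw [coprod.inr_desc, biprod.inr_desc]
    rw [this]
    infer_instance
  refine Groth.Agent.KFlatLib.isIso_of_stalk _ fun z => ?_
  let φA := a.stalkMap (p z)
  let φB := b.stalkMap (q z)
  let φT := h.stalkMap z
  have exA : a (p z) = h z := by rw [← Scheme.Hom.comp_apply, wp]
  have exB : b (q z) = h z := by rw [← Scheme.Hom.comp_apply, wq]
  let ρA := (S.presheaf.stalkCongr (.of_eq exA)).hom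
  let ρB := (S.presheaf.stalkCongr (.of_eq exB)).hom
  let σA := (S.presheaf.stalkCongr (.of_eq exA)).inv ≫ φA
  let σB := (S.presheaf.stalkCongr (.of_eq exB)).inv ≫ φB
  have hA : φA ≫ p.stalkMap z = ρA ≫ φT := stalk_comp p a h wp z
  have hB : φB ≫ q.stalkMap z = ρB ≫ φT := stalk_comp q b h wq z
  have hσA : σA ≫ p.stalkMap z = φT := by
    show ((S.presheaf.stalkCongr (.of_eq exA)).inv ≫ φA) ≫ _ = _
    rw [Category.assoc, hA, Iso.inv_hom_id_assoc]
  have hσB : σB ≫ q.stalkMap z = φT := by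
    show ((S.presheaf.stalkCongr (.of_eq exB)).inv ≫ φB) ≫ _ = _
    rw [Category.assoc, hB, Iso.inv_hom_id_assoc]
  have hbA : ρA ≫ σB = baseStalk hZ z := congr_comp exA exB φB (exA.trans exB.symm)
  have hbB : ρB ≫ σA = baseStalk hZ.flip z := congr_comp exB exA φA (exB.trans exA.symm)
  have eA : φA ≫ p.stalkMap z = (ρA ≫ σB) ≫ q.stalkMap z := by rw [Category.assoc, hσB]; exact hA
  have eB : φB ≫ q.stalkMap z = (ρB ≫ σA) ≫ p.stalkMap z := by rw [Category.assoc, hσA]; exact hB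
  have hPA : IsIso (squareMap (ρA ≫ σB) (q.stalkMap z) φA (p.stalkMap z) eA) := by
    have := isIso_squareMap_of_isPullback hZ z
    revert eA
    rw [hbA]
    intro eA
    exact this
  have hPB : IsIso (squareMap (ρB ≫ σA) (p.stalkMap z) φB (q.stalkMap z) eB) := by
    have := isIso_squareMap_of_isPullback hZ.flip z
    revert eB
    rw [hbB]
    intro eB
    exact this
  obtain ⟨vA, vB, e1, e2, e3, e4, e5⟩ := split (φT := φT) hA hB hσA hσB
    (Iso.hom_inv_id_assoc _ φA) (Iso.hom_inv_id_assoc _ φB) eA eB hPA hPB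
  obtain ⟨i₂, hi₂⟩ := exists_iso_of_eq hZu z φT rfl
  obtain ⟨i₁, hi⟩ := stalk_square hX c₁ hc₁ z φA rfl i₂ hi₂
  obtain ⟨j₁, hj⟩ := stalk_square hY c₂ hc₂ z φB rfl i₂ hi₂
  have hγ := hi _ (squareMap_unit ρA φT φA (p.stalkMap z) hA)
  have hδ := hj _ (squareMap_unit ρB φT φB (q.stalkMap z) hB)
  let F := DerSch.stalkFunctor Z z
  haveI : F.Additive := by infer_instance
  let wA : F.obj ΩZ ⟶ F.obj ((Scheme.Modules.pullback p).obj ΩX) := i₂.inv ≫ vA ≫ i₁.hom
  let wB : F.obj ΩZ ⟶ F.obj ((Scheme.Modules.pullback q).obj ΩY) := i₂.inv ≫ vB ≫ j₁.hom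
  have hc1 : F.map c₁ = i₁.inv ≫ squareMap ρA φT φA (p.stalkMap z) hA ≫ i₂.hom := by
    rw [Iso.eq_inv_comp]; exact hγ
  have hc2 : F.map c₂ = j₁.inv ≫ squareMap ρB φT φB (q.stalkMap z) hB ≫ i₂.hom := by
    rw [Iso.eq_inv_comp]; exact hδ
  have f11 : F.map c₁ ≫ wA = 𝟙 _ := by
    simp only [hc1, wA, Category.assoc, Iso.hom_inv_id_assoc]
    rw [reassoc_of% e1]
    simp
  have f12 : F.map c₁ ≫ wB = 0 := by
    simp only [hc1, wB, Category.assoc, Iso.hom_inv_id_assoc]
    rw [reassoc_of% e2]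
    simp
  have f22 : F.map c₂ ≫ wB = 𝟙 _ := by
    simp only [hc2, wB, Category.assoc, Iso.hom_inv_id_assoc]
    rw [reassoc_of% e3]
    simp
  have f21 : F.map c₂ ≫ wA = 0 := by
    simp only [hc2, wA, Category.assoc, Iso.hom_inv_id_assoc]
    rw [reassoc_of% e4]
    simp
  have fsum : wA ≫ F.map c₁ + wB ≫ F.map c₂ = 𝟙 _ := by
    simp only [hc1, hc2, wA, wB, Category.assoc, Iso.hom_inv_id_assoc, ← Preadditive.comp_add]
    rw [← Category.assoc vA, ← Category.assoc vB, ← Preadditive.add_comp, e5, Category.id_comp, Iso.inv_hom_id]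
  refine ⟨wA ≫ F.map biprod.inl + wB ≫ F.map biprod.inr, ?_, ?_⟩
  · rw [show F.map (biprod.desc c₁ c₂) = F.map biprod.fst ≫ F.map c₁ + F.map biprod.snd ≫ F.map c₂ by
      rw [← F.map_comp, ← F.map_comp, ← F.map_add, biprod.desc_eq]]
    simp only [Preadditive.add_comp, Preadditive.comp_add, Category.assoc, reassoc_of% f11,
      reassoc_of% f12, reassoc_of% f21, reassoc_of% f22, zero_comp, comp_zero, add_zero, zero_add]
    rw [← F.map_comp, ← F.map_comp, ← F.map_add, biprod.total, F.map_id]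
  · show (wA ≫ F.map biprod.inl + wB ≫ F.map biprod.inr) ≫ F.map (biprod.desc c₁ c₂) = 𝟙 _
    simp only [Preadditive.add_comp, Category.assoc, ← F.map_comp, biprod.inl_desc, biprod.inr_desc]
    exact fsum

end Groth.Agent.S5023
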