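import Groth.Statements.S5026
import Groth.Agent.S2790
import Groth.Agent.VarDim.Basic
import Groth.Agent.DescLib.EtaleLocal
import Mathlib

set_option autoImplicit false
universe u
open Unram17

set_option backward.isDefEq.respectTransparency false
set_option maxHeartbeats 1000000

namespace Groth.Agent.S5026

/-- A localisation of a flat localisation is flat. -/
theorem flat_localization {R A : Type u} [CommRing R] [CommRing A] [Algebra R A] (f : A) (p : Ideal A) [p.IsPrime]
    (hfp : f ∉ p) [Algebra.Etale R (Localization.Away f)] : Module.Flat R (Localization.AtPrime p) := by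
  let le : Localization.Away f →+* Localization.AtPrime p :=
    IsLocalization.lift (M := Submonoid.powers f) (g := algebraMap A (Localization.AtPrime p)) (by
      rintro ⟨_, j, rfl⟩
      rw [map_pow]
      exact (IsLocalization.map_units (Localization.AtPrime p) (⟨f, hfp⟩ : p.primeCompl)).pow j)
  letI : Algebra (Localization.Away f) (Localization.AtPrime p) := le.toAlgebra
  haveI : IsScalarTower A (Localization.Away f) (Localization.AtPrime p) :=
    IsScalarTower.of_algebraMap_eq fun a => (IsLocalization.lift_eq _ a).symm
  haveI : IsScalarTower R (Localization.Away f) (Localization.AtPrime p) :=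
    IsScalarTower.to₁₃₄ R A (Localization.Away f) (Localization.AtPrime p)
  haveI : IsLocalization (p.primeCompl.map (algebraMap A (Localization.Away f))) (Localization.AtPrime p) :=
    IsLocalization.isLocalization_of_submonoid_le (Localization.Away f) (Localization.AtPrime p) (Submonoid.powers f)
      p.primeCompl (Submonoid.powers_le.2 hfp)
  haveI : Module.Flat (Localization.Away f) (Localization.AtPrime p) :=
    IsLocalization.flat (Localization.AtPrime p) (p.primeCompl.map (algebraMap A (Localization.Away f)))
  exact Module.Flat.trans R (Localization.Away f) (Localization.AtPrime p)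

/-- A prime of height `r` containing the first `r` variables is generated by them. -/
theorem eq_span_X {k : Type u} [Field k] {n r : ℕ} (q : Ideal (MvPolynomial (Fin n) k)) [hq : q.IsPrime]
    (hht : q.height = r) (hX : ∀ i : Fin n, (i : ℕ) < r → MvPolynomial.X i ∈ q) :
    q = Ideal.span (MvPolynomial.X '' {i : Fin n | (i : ℕ) < r}) := by
  classical
  let P := MvPolynomial (Fin n) k
  let P' := MvPolynomial {i : Fin n // r ≤ (i : ℕ)} k
  let J : Ideal P := Ideal.span (MvPolynomial.X '' {i : Fin n | (i : ℕ) < r})
  have hJq : J ≤ q := Ideal.span_le.2 (by rintro _ ⟨i, hi, rfl⟩; exact hX i hi)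
  let sub : P →ₐ[k] P' := MvPolynomial.aeval fun i => if h : r ≤ (i : ℕ) then MvPolynomial.X ⟨i, h⟩ else 0
  let ren : P' →ₐ[k] P := MvPolynomial.rename Subtype.val
  have hmod : ∀ f, f - ren (sub f) ∈ J := fun f => by
    induction f using MvPolynomial.induction_on with
    | C c =>
      rw [show sub (MvPolynomial.C c) = MvPolynomial.C c from MvPolynomial.aeval_C _ c,
        show ren (MvPolynomial.C c) = MvPolynomial.C c from MvPolynomial.rename_C _ c, sub_self]
      exact J.zero_mem
    | add a b ha hb =>
      rw [map_add, map_add, show a + b - (ren (sub a) + ren (sub b)) = (a - ren (sub a)) + (b - ren (sub b)) by ring]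
      exact J.add_mem ha hb
    | mul_X f i hf =>
      have hi : MvPolynomial.X i - ren (sub (MvPolynomial.X i)) ∈ J := by
        rw [show sub (MvPolynomial.X i) = _ from MvPolynomial.aeval_X _ i]
        by_cases h : r ≤ (i : ℕ)
        · rw [dif_pos h, show ren (MvPolynomial.X _) = MvPolynomial.X i from MvPolynomial.rename_X _ _, sub_self]
          exact J.zero_mem
        · rw [dif_neg h, map_zero, sub_zero]
          exact Ideal.subset_span ⟨i, Nat.lt_of_not_le h, rfl⟩
      rw [map_mul, map_mul, show f * MvPolynomial.X i - ren (sub f) * ren (sub (MvPolynomial.X i)) =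
        (f - ren (sub f)) * MvPolynomial.X i + ren (sub f) * (MvPolynomial.X i - ren (sub (MvPolynomial.X i))) by ring]
      exact J.add_mem (J.mul_mem_right _ hf) (J.mul_mem_left _ hi)
  let φ : P' →ₐ[k] P ⧸ q := (Ideal.Quotient.mkₐ k q).comp ren
  have hφ : Function.Surjective φ := fun z => by
    obtain ⟨f, rfl⟩ := Ideal.Quotient.mk_surjective z
    exact ⟨sub f, (Ideal.Quotient.eq.2 (hJq (hmod f))).symm⟩
  let ker : PrimeSpectrum P' := ⟨RingHom.ker φ.toRingHom, RingHom.ker_isPrime φ.toRingHom⟩
  have hP : ringKrullDim P = (n : ℕ) := by
    rw [MvPolynomial.ringKrullDim_of_isNoetherianRing, ringKrullDim_eq_zero_of_field, zero_add, Nat.card_fin]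
  let c := Nat.card {i : Fin n // r ≤ (i : ℕ)}
  have hP' : ringKrullDim P' = (c : ℕ) := by
    rw [MvPolynomial.ringKrullDim_of_isNoetherianRing, ringKrullDim_eq_zero_of_field, zero_add]
  have h1 := Groth.Agent.VarDim.height_add_coheight_eq k n P hP ⟨q, hq⟩
  have h2 := Groth.Agent.VarDim.height_add_coheight_eq k c P' hP' ker
  have h3 : Order.coheight ker = Order.coheight (⟨q, hq⟩ : PrimeSpectrum P) := by
    refine WithBot.coe_injective ?_
    rw [Groth.Agent.VarDim.coheight_eq_ringKrullDim_quotient, Groth.Agent.VarDim.coheight_eq_ringKrullDim_quotient]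
    exact ringKrullDim_eq_of_ringEquiv (RingHom.quotientKerEquivOfSurjective hφ)
  rw [← PrimeSpectrum.height_eq_orderHeight, hht] at h1
  have hc : c + r = n := by
    have hr : r ≤ n := by
      have := le_self_add.trans_eq h1
      exact_mod_cast this
    let e : {i : Fin n // r ≤ (i : ℕ)} ≃ Fin (n - r) :=
      { toFun := fun i => ⟨i.1 - r, by have h1 := i.2; have h2 := i.1.2; omega⟩
        invFun := fun j => ⟨⟨j.1 + r, by omega⟩, Nat.le_add_left _ _⟩
        left_inv := fun i => Subtype.ext (Fin.ext (Nat.sub_add_cancel i.2))
        right_inv := fun j => Fin.ext (Nat.add_sub_cancel _ _) }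
    show Nat.card _ + r = n
    rw [Nat.card_congr e, Nat.card_fin]
    omega
  have hker : Order.height ker = 0 := by
    rw [h3] at h2
    generalize Order.height ker = a at h2 ⊢
    generalize Order.coheight (⟨q, hq⟩ : PrimeSpectrum P) = b at h1 h2
    cases b with
    | top => rw [add_top] at h1; exact absurd h1.symm (ENat.coe_ne_top n)
    | coe b =>
      cases a with
      | top => rw [top_add] at h2; exact absurd h2.symm (ENat.coe_ne_top c)
      | coe a => norm_cast at h1 h2 ⊢; omega
  have hker0 : RingHom.ker φ.toRingHom = ⊥ := by
    have := (Order.height_eq_zero.1 hker : IsMin ker)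
    exact le_bot_iff.1 (this (show (⟨⊥, Ideal.isPrime_bot⟩ : PrimeSpectrum P') ≤ ker from bot_le))
  refine le_antisymm (fun f hf => ?_) hJq
  have : sub f ∈ RingHom.ker φ.toRingHom := by
    show Ideal.Quotient.mk q (ren (sub f)) = 0
    rw [Ideal.Quotient.eq_zero_iff_mem, show ren (sub f) = f - (f - ren (sub f)) by ring]
    exact q.sub_mem hf (hJq (hmod f))
  rw [hker0, Ideal.mem_bot] at this
  have := hmod f
  rwa [‹sub f = 0›, map_zero, sub_zero] at this

/-- Let k be a field, A a k-algebra of finite type equipped with a k-algebra map from the polynomial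
ring in n variables (images g_i of the variables), p a prime of A such that Spec A has local
dimension n at p, r the Krull dimension of the local ring A_p, and suppose g_i ∈ p for the indices i
< r. Then A is etale at p over the polynomial ring if and only if the images of the g_i with i < r
generate the maximal ideal of A_p and the differentials of the residue classes of the g_i with i ≥ r
generate the module of differentials of the residue field κ(p) over k. (The published statement adds
that these conditions imply that A is smooth at p over k and that κ(p) is separable over k; this row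
does not state that consequence.) -/
theorem result (k A : Type u) [Field k]
    [CommRing A] [Algebra k A] [Algebra.FiniteType k A] (n r : ℕ) [Algebra (MvPolynomial (Fin n) k) A]
    [IsScalarTower k (MvPolynomial (Fin n) k) A] (p : Ideal A) [p.IsPrime]
    (hn : FlatMor.localDim (PrimeSpectrum A) ⟨p, inferInstance⟩ = (n : WithBot ℕ∞))
    (hr : ringKrullDim (Localization.AtPrime p) = (r : WithBot ℕ∞))
    (hg : ∀ i : Fin n, (i : ℕ) < r → algebraMap (MvPolynomial (Fin n) k) A (MvPolynomial.X i) ∈ p) :
    Algebra.IsEtaleAt (MvPolynomial (Fin n) k) p ↔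
      Ideal.span ((fun i : Fin n =>
          algebraMap A (Localization.AtPrime p) (algebraMap (MvPolynomial (Fin n) k) A (MvPolynomial.X i))) ''
            {i : Fin n | (i : ℕ) < r}) = IsLocalRing.maximalIdeal (Localization.AtPrime p) ∧
        Submodule.span p.ResidueField ((fun i : Fin n =>
          KaehlerDifferential.D k p.ResidueField
            (IsLocalRing.residue (Localization.AtPrime p)
              (algebraMap A (Localization.AtPrime p) (algebraMap (MvPolynomial (Fin n) k) A (MvPolynomial.X i))))) ''
            {i : Fin n | r ≤ (i : ℕ)}) = ⊤ := by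
  classical
  rw [Groth.Agent.S2790.result k A n p hn]
  let P := MvPolynomial (Fin n) k
  let T := Localization.AtPrime p
  let κ := p.ResidueField
  haveI : IsNoetherianRing A := Algebra.FiniteType.isNoetherianRing k A
  haveI : IsNoetherianRing T := IsLocalization.isNoetherianRing p.primeCompl T inferInstance
  haveI : Algebra.EssFiniteType k T := Algebra.EssFiniteType.comp k A T
  haveI : Module.Finite T Ω[T⁄k] := inferInstance
  have hsurj : Function.Surjective (algebraMap T κ) := Ideal.Quotient.mk_surjective
  let x : Fin n → T := fun i => algebraMap A T (algebraMap P A (MvPolynomial.X i))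
  let low : Set (Fin n) := {i | (i : ℕ) < r}
  have hxm : ∀ i ∈ low, x i ∈ IsLocalRing.maximalIdeal T := fun i hi =>
    (IsLocalization.AtPrime.to_map_mem_maximal_iff T p _).2 (hg i hi)
  have hzero : ∀ i ∈ low, algebraMap T κ (x i) = 0 := fun i hi =>
    (IsLocalRing.residue_eq_zero_iff _).2 (hxm i hi)
  let M := TensorProduct.mk T κ Ω[T⁄k] 1
  have hM : Function.Surjective M := TensorProduct.mk_surjective T _ κ hsurj
  let μ := (KaehlerDifferential.mapBaseChange k T κ).restrictScalars T
  have hμ : ∀ z, μ (M (KaehlerDifferential.D k T z)) = KaehlerDifferential.D k κ (algebraMap T κ z) := fun z => by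
    simp [μ, M, KaehlerDifferential.mapBaseChange_tmul]
  show Submodule.span T (Set.range fun i => KaehlerDifferential.D k T (x i)) = ⊤ ↔
    Ideal.span (x '' low) = IsLocalRing.maximalIdeal T ∧
      Submodule.span κ ((fun i => KaehlerDifferential.D k κ (algebraMap T κ (x i))) '' {i | r ≤ (i : ℕ)}) = ⊤
  constructor
  · intro h
    refine ⟨?_, ?_⟩
    · have het : Algebra.IsEtaleAt P p := (Groth.Agent.S2790.result k A n p hn).2 h
      haveI : Algebra.FiniteType P A := Algebra.FiniteType.of_restrictScalars_finiteType k P A
      haveI : Algebra.FinitePresentation P A := Algebra.FinitePresentation.of_finiteType.1 ‹_›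
      obtain ⟨f, hfp, hfe⟩ := Algebra.exists_etale_of_isEtaleAt (R := P) p
      haveI : Module.Flat P T := flat_localization f p hfp
      haveI : Algebra.FormallyEtale P T := het
      let q : Ideal P := p.comap (algebraMap P A)
      haveI : q.IsPrime := Ideal.IsPrime.comap _
      haveI : p.LiesOver q := ⟨rfl⟩
      let Pq := Localization.AtPrime q
      letI : Algebra Pq T := (Localization.localRingHom q p (algebraMap P A) rfl).toAlgebra
      haveI : IsScalarTower P Pq T := IsScalarTower.of_algebraMap_eq fun z =>
        (Localization.localRingHom_to_map q p (algebraMap P A) rfl z).symm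
      haveI : IsLocalHom (algebraMap Pq T) := Localization.isLocalHom_localRingHom _ _ _ _
      haveI : Module.Flat Pq T := (Module.flat_iff_of_isLocalization (R := P) Pq q.primeCompl (M := T)).2 inferInstance
      haveI : Algebra.FormallyUnramified Pq T := Algebra.FormallyUnramified.of_restrictScalars P Pq T
      haveI : Algebra.EssFiniteType P T := Algebra.EssFiniteType.comp P A T
      haveI : Algebra.EssFiniteType Pq T := Algebra.EssFiniteType.of_comp P Pq T
      have hdim := Groth.Agent.DescLib.ringKrullDim_eq_of_flat_unramified Pq T
      have hht : q.height = r := by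
        have e := IsLocalization.AtPrime.ringKrullDim_eq_height q Pq
        rw [← hdim, hr] at e
        exact WithBot.coe_injective e.symm
      have hq := eq_span_X q hht fun i hi => hg i hi
      have hmax := (Algebra.FormallyUnramified.map_maximalIdeal (R := Pq) (S := T))
      rw [← Localization.AtPrime.map_eq_maximalIdeal, Ideal.map_map, ← IsScalarTower.algebraMap_eq P Pq T, hq,
        Ideal.map_span, ← Set.image_comp] at hmax
      rw [← hmax]
      refine congrArg Ideal.span (Set.image_congr fun i _ => ?_)
      exact (IsScalarTower.algebraMap_apply P A T _).symm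
    · rw [eq_top_iff]
      rintro z -
      have hall : Submodule.span T ((μ ∘ₗ M) '' Set.range fun i => KaehlerDifferential.D k T (x i)) = ⊤ := by
        rw [← Submodule.map_span, h, Submodule.map_top, LinearMap.range_eq_top, LinearMap.coe_comp]
        refine Function.Surjective.comp ?_ hM
        exact KaehlerDifferential.mapBaseChange_surjective k T κ hsurj
      have hz := Submodule.span_le_restrictScalars T κ _ (hall.ge (Submodule.mem_top (x := z)))
      refine Submodule.span_le.2 ?_ hz
      rintro _ ⟨_, ⟨i, rfl⟩, rfl⟩
      show μ (M _) ∈ _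
      rw [hμ]
      by_cases hi : r ≤ (i : ℕ)
      · exact Submodule.subset_span ⟨i, hi, rfl⟩
      · rw [hzero i (Nat.lt_of_not_le hi), map_zero]
        exact zero_mem _
  · rintro ⟨hm, hd⟩
    let S := Submodule.span T (Set.range fun i => M (KaehlerDifferential.D k T (x i)))
    rw [← IsLocalRing.map_tensorProduct_mk_eq_top (R := T)]
    rw [Submodule.map_span, ← Set.range_comp]
    change S = ⊤
    let c := KaehlerDifferential.kerCotangentToTensor k T κ
    have hker : RingHom.ker (algebraMap T κ) = IsLocalRing.maximalIdeal T := Ideal.mk_ker
    have hkerS : LinearMap.ker μ ≤ S := by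
      intro z hz
      have hz' : z ∈ LinearMap.range c := by
        rw [KaehlerDifferential.range_kerCotangentToTensor k T κ hsurj]
        exact hz
      obtain ⟨w, rfl⟩ := hz'
      obtain ⟨⟨v, hv⟩, rfl⟩ := Ideal.toCotangent_surjective _ w
      have hcv : c (Ideal.toCotangent _ ⟨v, hv⟩) = M (KaehlerDifferential.D k T v) := rfl
      rw [hcv]
      have hv' : v ∈ Ideal.span (x '' low) := by rw [hm, ← hker]; exact hv
      have hres : ∀ a ∈ Ideal.span (x '' low), algebraMap T κ a = 0 := fun a ha => by
        rw [hm, ← hker] at ha
        exact RingHom.mem_ker.1 ha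
      clear hcv hz hv
      induction hv' using Submodule.span_induction with
      | mem a ha =>
        obtain ⟨i, -, rfl⟩ := ha
        exact Submodule.subset_span ⟨i, rfl⟩
      | zero => simp
      | add a b ha hb iha ihb =>
        rw [map_add, map_add]
        exact add_mem iha ihb
      | smul a b hb ih =>
        rw [smul_eq_mul, Derivation.leibniz, map_add, map_smul, map_smul]
        refine add_mem (S.smul_mem _ ih) ?_
        have : b • M (KaehlerDifferential.D k T a) = 0 := by
          show (b • (1 : κ)) ⊗ₜ[T] _ = 0
          rw [Algebra.smul_def, hres b hb, zero_mul, TensorProduct.zero_tmul]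
        rw [this]
        exact zero_mem _
    rw [eq_top_iff]
    rintro z -
    have hz : μ z ∈ Submodule.map μ S := by
      have hspan := Submodule.restrictScalars_span T κ hsurj
        ((fun i => KaehlerDifferential.D k κ (algebraMap T κ (x i))) '' {i | r ≤ (i : ℕ)})
      rw [hd, Submodule.restrictScalars_top] at hspan
      refine Submodule.span_le.2 ?_ (hspan.le (Submodule.mem_top (x := μ z)))
      rintro _ ⟨i, -, rfl⟩
      exact ⟨_, Submodule.subset_span ⟨i, rfl⟩, hμ _⟩
    obtain ⟨w, hw, hwz⟩ := hz
    have := S.add_mem (hkerS (show z - w ∈ LinearMap.ker μ by rw [LinearMap.mem_ker, map_sub, hwz, sub_self])) hw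
    rwa [sub_add_cancel] at this

end Groth.Agent.S5026
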