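import Groth.Statements.S5027
import Groth.Agent.S2141
import Groth.Agent.S2469
import Groth.Agent.S4523
import Groth.Agent.DimTrdeg.Basic
import Mathlib

set_option autoImplicit false
universe u
open Unram17

set_option backward.isDefEq.respectTransparency false

namespace Groth.Agent.S5027

/-- Let A be an algebra of finite type over a field k, p a prime of A such that Spec A has local
dimension n at p, and r the Krull dimension of the local ring A_p. Then A_p is regular and the
residue field κ(p) is a separable extension of k (geometrically reduced over k) if and only if there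
exist n elements of the local ring A_p (germs at p in place of sections over an open neighbourhood
of p, which is equivalent) of which those with index < r generate the maximal ideal and the residue
classes of the remaining ones have differentials generating the module of differentials of κ(p) over
k. -/
theorem result (k A : Type u) [Field k]
    [CommRing A] [Algebra k A] [Algebra.FiniteType k A] (n r : ℕ) (p : Ideal A) [p.IsPrime]
    (hn : FlatMor.localDim (PrimeSpectrum A) ⟨p, inferInstance⟩ = (n : WithBot ℕ∞))
    (hr : ringKrullDim (Localization.AtPrime p) = (r : WithBot ℕ∞)) :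
    (IsRegularLocalRing (Localization.AtPrime p) ∧ Algebra.IsGeometricallyReduced k p.ResidueField) ↔
      ∃ g : Fin n → Localization.AtPrime p,
        Ideal.span (g '' {i : Fin n | (i : ℕ) < r}) = IsLocalRing.maximalIdeal (Localization.AtPrime p) ∧
          Submodule.span p.ResidueField ((fun i : Fin n =>
            KaehlerDifferential.D k p.ResidueField (IsLocalRing.residue (Localization.AtPrime p) (g i))) ''
              {i : Fin n | r ≤ (i : ℕ)}) = ⊤ := by
  classical
  let T := Localization.AtPrime p
  let κ := p.ResidueField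
  haveI : IsNoetherianRing A := Algebra.FiniteType.isNoetherianRing k A
  haveI : IsNoetherianRing T := IsLocalization.isNoetherianRing p.primeCompl T inferInstance
  haveI : Algebra.EssFiniteType k T := Algebra.EssFiniteType.comp k A T
  haveI : Algebra.EssFiniteType T κ := inferInstanceAs (Algebra.EssFiniteType T (T ⧸ IsLocalRing.maximalIdeal T))
  haveI : Algebra.EssFiniteType k κ := Algebra.EssFiniteType.comp k T κ
  obtain ⟨t, ht⟩ := Cardinal.lt_aleph0.1 (Groth.Agent.DimTrdeg.trdeg_residueField_lt_aleph0 (k := k) p)
  have hnt : n = r + t := by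
    have h := Groth.Agent.S2141.result p t ht
    rw [hn, hr] at h
    exact_mod_cast h
  obtain ⟨hfin, hifin, hrk⟩ := Groth.Agent.S2469.result (K := k) (L := κ)
  rw [ht, Cardinal.toNat_natCast] at hrk
  haveI : Module.Finite κ Ω[κ⁄k] := hfin
  haveI := hifin
  have hgr : Algebra.IsGeometricallyReduced k κ ↔ Module.finrank κ Ω[κ⁄k] ≤ t := by
    refine (Groth.Agent.S4523.result (k := k) (K := κ)).1.trans ⟨fun h => ?_, fun h => ?_⟩
    · rw [h, finrank_bot] at hrk
      omega
    · refine Submodule.finrank_eq_zero.1 ?_
      omega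
  have hcard : Nat.card {i : Fin n // r ≤ (i : ℕ)} = t := by
    let e : {i : Fin n // r ≤ (i : ℕ)} ≃ Fin t :=
      { toFun := fun i => ⟨i.1 - r, by have h1 := i.2; have h2 := i.1.2; omega⟩
        invFun := fun j => ⟨⟨j.1 + r, by omega⟩, Nat.le_add_left _ _⟩
        left_inv := fun i => Subtype.ext (Fin.ext (Nat.sub_add_cancel i.2))
        right_inv := fun j => Fin.ext (Nat.add_sub_cancel _ _) }
    rw [Nat.card_congr e, Nat.card_fin]
  constructor
  · rintro ⟨hreg, hsep⟩
    have hsr : (IsLocalRing.maximalIdeal T).spanFinrank = r := by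
      have := IsRegularLocalRing.spanFinrank_maximalIdeal (R := T)
      rw [hr] at this
      exact_mod_cast this
    obtain ⟨s, hs1, hs2⟩ := Submodule.FG.exists_span_set_encard_eq_spanFinrank
      (IsNoetherian.noetherian (IsLocalRing.maximalIdeal T))
    rw [hsr] at hs1
    have hsfin : s.Finite := Set.finite_of_encard_eq_coe hs1
    haveI := hsfin.fintype
    let es : Fin r ≃ s := (Fintype.equivFinOfCardEq (by
      rw [← Nat.card_eq_fintype_card, Nat.card_coe_set_eq]
      exact congrArg ENat.toNat hs1 |>.trans (ENat.toNat_coe r))).symm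
    -- differentials of residues span
    have hD : Submodule.span κ (Set.range (KaehlerDifferential.D k κ)) = ⊤ := KaehlerDifferential.span_range_derivation k κ
    obtain ⟨b, hbsub, hbspan, hbli⟩ := exists_linearIndependent κ (Set.range (KaehlerDifferential.D k κ))
    have hbcard : b.ncard ≤ t := by
      have hbf := hbli.setFinite
      haveI := hbf.fintype
      have := hbli.fintype_card_le_finrank
      rw [← Nat.card_eq_fintype_card, Nat.card_coe_set_eq] at this
      exact this.trans (hgr.1 hsep)
    have hbf := hbli.setFinite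
    haveI := hbf.fintype
    have hle : Fintype.card b ≤ Fintype.card {i : Fin n // r ≤ (i : ℕ)} := by
      rw [← Nat.card_eq_fintype_card, ← Nat.card_eq_fintype_card, hcard, Nat.card_coe_set_eq]
      exact hbcard
    obtain ⟨emb⟩ := Function.Embedding.nonempty_of_card_le hle
    have hlift : ∀ w : b, ∃ z : T, KaehlerDifferential.D k κ (IsLocalRing.residue T z) = w.1 := fun w => by
      obtain ⟨c, hc⟩ := hbsub w.2
      obtain ⟨z, hz⟩ := IsLocalRing.residue_surjective c
      exact ⟨z, by rw [hz, hc]⟩
    choose z hz using hlift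
    let g : Fin n → T := fun i => if h : (i : ℕ) < r then (es ⟨i, h⟩).1 else
      if h' : ∃ w, (emb w).1 = i then z h'.choose else 0
    refine ⟨g, ?_, ?_⟩
    · refine le_antisymm (Ideal.span_le.2 ?_) ?_
      · rintro _ ⟨i, hi, rfl⟩
        rw [show g i = (es ⟨i, hi⟩).1 from dif_pos hi, SetLike.mem_coe, ← hs2]
        exact Submodule.subset_span (es ⟨i, hi⟩).2
      · rw [← hs2]
        refine Submodule.span_mono fun w hw => ?_
        obtain ⟨j, hj⟩ := es.surjective ⟨w, hw⟩
        refine ⟨⟨j, by omega⟩, j.2, ?_⟩
        show g _ = w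
        rw [show g ⟨j, _⟩ = (es ⟨_, j.2⟩).1 from dif_pos j.2, Fin.eta, hj]
    · rw [eq_top_iff, ← hD, ← hbspan]
      refine Submodule.span_le.2 fun w hw => Submodule.subset_span ⟨(emb ⟨w, hw⟩).1, (emb ⟨w, hw⟩).2, ?_⟩
      have hex : ∃ w', (emb w').1 = (emb ⟨w, hw⟩).1 := ⟨_, rfl⟩
      have hlt : ¬ (((emb ⟨w, hw⟩).1 : Fin n) : ℕ) < r := (emb ⟨w, hw⟩).2.not_gt
      show KaehlerDifferential.D k κ (IsLocalRing.residue T (g _)) = w
      rw [show g (emb ⟨w, hw⟩).1 = z hex.choose from (dif_neg hlt).trans (dif_pos hex), hz,
        emb.injective (Subtype.ext hex.choose_spec)]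
  · rintro ⟨g, hm, hd⟩
    refine ⟨IsRegularLocalRing.of_spanFinrank_maximalIdeal_le T ?_, hgr.2 ?_⟩
    · rw [hr, ← hm]
      refine le_trans (Nat.cast_le.2 (Submodule.spanFinrank_span_le_ncard_of_finite (Set.toFinite _))) ?_
      refine Nat.cast_le.2 ((Set.ncard_image_le (Set.toFinite _)).trans ?_)
      rw [← Nat.card_coe_set_eq]
      exact (Nat.card_le_card_of_injective (fun i : {i : Fin n | (i : ℕ) < r} => (⟨i.1, i.2⟩ : Fin r))
        fun a b h => Subtype.ext (Fin.ext (congrArg (fun j : Fin r => (j : ℕ)) h))).trans_eq (Nat.card_fin r)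
    · rw [← finrank_top, ← hd]
      refine (finrank_span_le_card _).trans ?_
      rw [Set.toFinset_card, ← Nat.card_eq_fintype_card, Nat.card_coe_set_eq]
      refine (Set.ncard_image_le (Set.toFinite _)).trans (le_of_eq ?_)
      rw [← Nat.card_coe_set_eq]
      exact hcard

end Groth.Agent.S5027
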