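import Groth.Statements.S5028
import Groth.Agent.SmNhd17.Fibre
import Groth.Agent.S2561
import Groth.Agent.FlatDvr.FibreStalk

set_option autoImplicit false
set_option backward.isDefEq.respectTransparency false
set_option backward.isDefEq.respectTransparency.types false
attribute [-instance] CategoryTheory.catToReflQuiver
universe u
open CategoryTheory CategoryTheory.Limits AlgebraicGeometry TopologicalSpace
open Unram17

namespace Groth.Agent.S5028

/-- Let Y be locally Noetherian, f : X ⟶ Y locally of finite type, x a point of X with image y, and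
suppose the local ring of Y at y is reduced. Then f is smooth on an open neighbourhood of x if and
only if f is universally open at every point of some neighbourhood of x in the fibre over y (that
is, for the points x' of some open neighbourhood of x in X lying over y, every base change of f is
open at each point lying over x') and the local ring of the fibre at x (the quotient of the local
ring of X at x by the extension of the maximal ideal at y) is geometrically regular over the residue
field κ(y). -/
theorem result {X Y : Scheme.{u}} (f : X ⟶ Y)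
    [IsLocallyNoetherian Y] [LocallyOfFiniteType f] (x : ↥X)
    (hred : IsReduced ↑(Y.presheaf.stalk (f.base x))) :
    letI φ := (f.stalkMap x).hom
    letI 𝔪 := IsLocalRing.maximalIdeal ↑(Y.presheaf.stalk (f.base x))
    letI : Algebra (IsLocalRing.ResidueField ↑(Y.presheaf.stalk (f.base x))) (↑(X.presheaf.stalk x) ⧸ 𝔪.map φ) :=
      (Ideal.quotientMap (𝔪.map φ) φ Ideal.le_comap_map).toAlgebra
    (∃ U : X.Opens, x ∈ U ∧ Smooth (U.ι ≫ f)) ↔
      (∃ W : X.Opens, x ∈ W ∧ ∀ x' ∈ W, f.base x' = f.base x → EGA43.IsUnivOpenAt f x') ∧
        CAlg.IsGeometricallyRegular (IsLocalRing.ResidueField ↑(Y.presheaf.stalk (f.base x)))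
          (↑(X.presheaf.stalk x) ⧸ 𝔪.map φ) := by
  constructor
  · intro h
    obtain ⟨hm, -, hfib⟩ := Groth.Agent.SmNhd17.of_smooth_nhd f x h
    haveI : LocallyOfFinitePresentation f := LocallyOfFinitePresentation.iff_locallyOfFiniteType.2 inferInstance
    exact ⟨⟨f.smoothLocus, hm, fun x' hx' _ => Groth.Agent.SmNhd17.isUnivOpenAt_of_smooth f hx'⟩,
      (Groth.Agent.SmNhd17.fibre_smooth_iff f x).1 hfib⟩
  · rintro ⟨⟨W, hxW, hW⟩, hreg⟩
    have hfib := (Groth.Agent.SmNhd17.fibre_smooth_iff f x).2 hreg
    haveI : LocallyOfFinitePresentation (f.fiberToSpecResidueField (f.base x)) :=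
      Groth.Agent.SmNhd17.lfp_fibre f _
    have hopen : ∀ z : ↥(f.fiber (f.base x)), f.asFiber x ∈ closure {z} →
        (∀ z' : ↥(f.fiber (f.base x)), z ∈ closure {z'} → z' = z) →
        EGA43.IsUnivOpenAt f ((f.fiberι (f.base x)).base z) := by
      intro z hz _
      refine hW _ ?_ ?_
      · exact (Groth.Agent.SmNhd17.specializes_of_fiber f x hz).mem_open W.2 hxW
      · exact Groth.Agent.FlatDvr.fiberι_apply_eq f z
    exact Groth.Agent.SmNhd17.smooth_nhd_of_flat f x
      (Groth.Agent.S2561.result f x hopen (Groth.Agent.SmNhd17.isGeomReducedAt_of_smooth _ hfib) hred) hfib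

end Groth.Agent.S5028
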