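import Groth.Statements.S5029
import Mathlib
import Groth.Agent.SymX.Gen
import Groth.Agent.S4532
import Groth.Agent.QCoh.LocFree

set_option autoImplicit false
universe u
open CategoryTheory CategoryTheory.Limits AlgebraicGeometry TopologicalSpace
open Unram17
open CategoryTheory Opposite

namespace Groth.Agent.S5029
set_option backward.isDefEq.respectTransparency.types false
set_option backward.isDefEq.respectTransparency false

theorem finitePresentation_sym (R M : Type u) [CommRing R] [AddCommGroup M] [Module R M]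
    [Module.Projective R M] [Module.Finite R M] :
    Algebra.FinitePresentation R (SymmetricAlgebra R M) := by
  classical
  obtain ⟨n, p, hp⟩ := Module.Finite.exists_fin' R M
  obtain ⟨s, hs⟩ := Module.projective_lifting_property p LinearMap.id hp
  let P := MvPolynomial (Fin n) R
  let e : Fin n → (Fin n → R) := fun i => Pi.single i 1
  let L : (Fin n → R) →ₗ[R] P := (Pi.basisFun R (Fin n)).constr R MvPolynomial.X
  let φ : P →ₐ[R] SymmetricAlgebra R M := MvPolynomial.aeval fun i => SymmetricAlgebra.ι R M (p (e i))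
  have hL : φ.toLinearMap ∘ₗ L = SymmetricAlgebra.ι R M ∘ₗ p :=
    (Pi.basisFun R (Fin n)).ext fun i => by
      simp [φ, L, e]
      exact MvPolynomial.aeval_X _ i
  have hL' : ∀ v, φ (L v) = SymmetricAlgebra.ι R M (p v) := fun v => LinearMap.congr_fun hL v
  let g : Fin n → P := fun i => MvPolynomial.X i - L (s (p (e i)))
  let J : Ideal P := Ideal.span (Finset.univ.image g : Set P)
  have hfg : J.FG := ⟨Finset.univ.image g, rfl⟩
  let ψ : SymmetricAlgebra R M →ₐ[R] P ⧸ J :=
    SymmetricAlgebra.lift ((Ideal.Quotient.mkₐ R J).toLinearMap ∘ₗ L ∘ₗ s)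
  have hψφ : ψ.comp φ = Ideal.Quotient.mkₐ R J := MvPolynomial.algHom_ext fun i => by
    simp only [AlgHom.comp_apply, φ, MvPolynomial.aeval_X, ψ, SymmetricAlgebra.lift_ι_apply, LinearMap.comp_apply,
      AlgHom.toLinearMap_apply, Ideal.Quotient.mkₐ_eq_mk]
    symm
    show Ideal.Quotient.mk J (MvPolynomial.X i) = Ideal.Quotient.mk J (L (s (p (e i))))
    rw [Ideal.Quotient.eq]
    exact Ideal.subset_span (Finset.mem_image.2 ⟨i, Finset.mem_univ i, rfl⟩)
  have hker : RingHom.ker φ.toRingHom = J := by
    apply le_antisymm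
    · intro a ha
      have h1 := AlgHom.congr_fun hψφ a
      rw [AlgHom.comp_apply, show φ a = 0 from ha, map_zero] at h1
      exact Ideal.Quotient.eq_zero_iff_mem.1 h1.symm
    · refine Ideal.span_le.2 fun a ha => ?_
      obtain ⟨i, -, rfl⟩ := Finset.mem_image.1 ha
      show φ (g i) = 0
      rw [map_sub, hL', show p (s (p (e i))) = p (e i) from LinearMap.congr_fun hs _, MvPolynomial.aeval_X]
      exact sub_self _
  have hsurj : Function.Surjective φ := by
    intro b
    induction b using SymmetricAlgebra.induction with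
    | algebraMap r => exact ⟨algebraMap R P r, φ.commutes r⟩
    | ι x => exact ⟨L (s x), by rw [hL', show p (s x) = x from LinearMap.congr_fun hs x]⟩
    | mul y z hy hz => obtain ⟨c, rfl⟩ := hy; obtain ⟨d, rfl⟩ := hz; exact ⟨c * d, map_mul _ _ _⟩
    | add y z hy hz => obtain ⟨c, rfl⟩ := hy; obtain ⟨d, rfl⟩ := hz; exact ⟨c + d, map_add _ _ _⟩
  exact Algebra.FinitePresentation.of_surjective hsurj (hker.symm ▸ hfg)

open CategoryTheory AlgebraicGeometry Opposite in
theorem smooth_app {S : Scheme.{u}} {E : S.Modules} (hE : Coh.IsQCoh E) (hlf : FlatMod.IsFinLocFree E)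
    {A : RelSpec.QCAlg S} {j : E ⟶ A.toModule} (hA : RelSpec.IsSymAlg E A j) (U : S.Opens) (hU : IsAffineOpen U) :
    (A.str.app (op U)).hom.Smooth := by
  obtain ⟨e, he0, -⟩ := Groth.Agent.SymX.exists_symEquiv hE hA ⟨U, hU⟩
  haveI := QCoh.finitePresentation_of_isFP (QCoh.isFP_of_isFinLocFree hlf) hU
  haveI : Module.Flat Γ(S, U) Γ(E, U) :=
    (QCoh.flat_sections_iff hE hU).2 fun w _ => (QCoh.isFlat_and_isFP_iff.2 hlf).1 w
  haveI : Module.Projective Γ(S, U) Γ(E, U) := Module.Flat.projective_of_finitePresentation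
  haveI : Algebra.FormallySmooth Γ(S, U) (SymmetricAlgebra Γ(S, U) Γ(E, U)) := Groth.Agent.S4532.result _ _
  haveI : Algebra.FinitePresentation Γ(S, U) (SymmetricAlgebra Γ(S, U) Γ(E, U)) := finitePresentation_sym _ _
  haveI : Algebra.Smooth Γ(S, U) (SymmetricAlgebra Γ(S, U) Γ(E, U)) := ⟨inferInstance, inferInstance⟩
  letI := (A.str.app (op U)).hom.toAlgebra
  exact Algebra.Smooth.of_equiv
    (AlgEquiv.ofRingEquiv (f := e) fun r => he0 r : SymmetricAlgebra Γ(S, U) Γ(E, U) ≃ₐ[Γ(S, U)] A.presheaf.obj (op U))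


/-- Let S be a scheme and E a quasi-coherent O_S-module that is finite locally free. If A is a
quasi-coherent O_S-algebra which is the symmetric algebra of E (through j : E ⟶ A), then the
structure morphism of the relative spectrum of A, i.e. of the vector bundle V(E), is smooth. -/
theorem result {S : Scheme.{u}} (E : S.Modules) (hE : Coh.IsQCoh E)
    (hlf : FlatMod.IsFinLocFree E) (A : RelSpec.QCAlg S) (j : E ⟶ A.toModule) (hA : RelSpec.IsSymAlg E A j) :
    Smooth A.π := by
  refine IsZariskiLocalAtTarget.of_iSup_eq_top (P := @Smooth) (fun U : S.affineOpens => U.1) (iSup_affineOpens_eq_top S) fun U => ?_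
  haveI : Smooth (Spec.map (A.str.app (op U.1))) :=
    (HasRingHomProperty.Spec_iff (P := @Smooth)).mpr (Groth.Agent.S5029.smooth_app hE hlf hA U.1 U.2)
  refine (MorphismProperty.arrow_mk_iso_iff @Smooth
    (morphismRestrictEq A.π U.2.opensRange_fromSpec.symm ≪≫
      morphismRestrictOpensRange A.π U.2.fromSpec)).2 ?_
  have sq := Groth.Agent.RelSpecX.isPullback_ι (A := A) U.1 U.2
  refine (MorphismProperty.cancel_left_of_respectsIso @Smooth sq.isoPullback.hom _).1 ?_
  rw [sq.isoPullback_hom_snd]
  infer_instance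

end Groth.Agent.S5029
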