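import Groth.Statements.S5039
import Groth.Agent.H1Hz.GeomRed
import Groth.Agent.CplFib6.Nagata
import Groth.Agent.S2657
import Groth.Agent.S0567

set_option autoImplicit false
universe u
open Hensel

namespace Groth.Agent.S5039

/-- Let R be a Noetherian local ring and S its henselization. Then S is universally Japanese if and only
if R is. -/
theorem result (R S : Type u) [CommRing R] [IsLocalRing R] [IsNoetherianRing R]
    [CommRing S] [IsLocalRing S] [Algebra R S] [IsLocalHom (algebraMap R S)] [Hensel.IsHenselization R S] :
    CAlg.IsUniversallyJapanese S ↔ CAlg.IsUniversallyJapanese R := by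
  have hH := Groth.Agent.Hensel.isHenzLike_of_isHenselization R S
  haveI := hH.isNoetherianRing_iff.mp inferInstance
  haveI := hH.faithfullyFlat
  have key : ∀ (A : Type u) [CommRing A] [IsLocalRing A] [IsNoetherianRing A],
      CAlg.IsUniversallyJapanese A ↔ EGA4.HasGeomReducedFormalFibres A := fun A _ _ _ =>
    ⟨fun h => Groth.Agent.CplFib6.hasGeomReducedFormalFibres_of_isN2 A
      ((Groth.Agent.S0567.result A).2 ⟨inferInstance, h⟩).2,
     fun h => ((Groth.Agent.S0567.result A).1 (Groth.Agent.S2657.result A h)).2⟩
  rw [key S, key R]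
  exact ⟨Groth.Agent.CplFib6.hasGeomReducedFormalFibres_descend R S fun L _ _ => hH.isReduced_tensor L,
    Groth.Agent.H1Hz.hasGeomReducedFormalFibres_henselization⟩

end Groth.Agent.S5039
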