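import Groth.Statements.S5041
import Groth.Agent.PopescuLib.HenzCatenary
import Groth.Agent.FormCat.CM
import Groth.Agent.Hensel.HenselizationFibre

set_option autoImplicit false
universe u
open Hensel

namespace Groth.Agent.S5041

open Groth.Agent IsLocalRing FlatLoc6 in
theorem quot_iff (A : Type u) [CommRing A] [IsNoetherianRing A] [IsLocalRing A] (a : Ideal A)
    [IsLocalRing (A ⧸ a)] :
    EGA4.IsStrictlyEquidim (EGA4.Cpl (A ⧸ a)) ↔
      EGA4.IsStrictlyEquidim (EGA4.Cpl A ⧸ a.map (algebraMap A (EGA4.Cpl A))) := by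
  haveI := isNoetherianRing_cpl A
  haveI := isNoetherianRing_cpl (A ⧸ a)
  obtain ⟨e⟩ := FormalFib6.exists_cplQuotEquiv A (A ⧸ a) Ideal.Quotient.mk_surjective
  let ε : (EGA4.Cpl A ⧸ a.map (algebraMap A (EGA4.Cpl A))) ≃+* EGA4.Cpl (A ⧸ a) :=
    ((Algebra.TensorProduct.quotIdealMapEquivTensorQuot (EGA4.Cpl A) a).toRingEquiv.trans
      (Algebra.TensorProduct.comm A (EGA4.Cpl A) (A ⧸ a)).toRingEquiv).trans e.toRingEquiv
  exact ⟨fun h => FormCat.isStrictlyEquidim_of_ringEquiv ε.symm h,
    fun h => FormCat.isStrictlyEquidim_of_ringEquiv ε h⟩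

open Groth.Agent IsLocalRing FlatLoc6 PopescuLib in
theorem of_cpl_iso (R S : Type u) [CommRing R] [CommRing S] [IsLocalRing R] [IsLocalRing S]
    [IsNoetherianRing R] [IsNoetherianRing S] [Algebra R S] [IsLocalHom (algebraMap R S)] [Module.Flat R S]
    (hm : (maximalIdeal R).map (algebraMap R S) = maximalIdeal S)
    (hs : ∀ b : S, ∃ a, b - algebraMap R S a ∈ maximalIdeal S)
    (hfib : ∀ (q q' : Ideal S) [q.IsPrime] [q'.IsPrime], q ≤ q' →
      q.comap (algebraMap R S) = q'.comap (algebraMap R S) → q = q')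
    (hred : ∀ (p : Ideal R) [p.IsPrime], IsReduced (S ⧸ p.map (algebraMap R S)))
    (hR : EGA4.IsFormallyStrictlyCatenary R) : EGA4.IsFormallyStrictlyCatenary S := by
  classical
  intro q _
  haveI : IsLocalRing (S ⧸ q) := .of_surjective' _ Ideal.Quotient.mk_surjective
  haveI := isLocalRing_cpl S
  haveI := isNoetherianRing_cpl S
  haveI := isLocalRing_cpl R
  haveI := isNoetherianRing_cpl R
  haveI := faithfullyFlat_cpl S
  obtain ⟨_, _, hbij⟩ := exists_cpl_iso R S hm hs
  let e : EGA4.Cpl R ≃+* EGA4.Cpl S := RingEquiv.ofBijective (algebraMap (EGA4.Cpl R) (EGA4.Cpl S)) hbij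
  let p := q.comap (algebraMap R S)
  haveI : IsLocalRing (R ⧸ p) := .of_surjective' _ Ideal.Quotient.mk_surjective
  have hp := (quot_iff R p).mp (hR p)
  show EGA4.IsStrictlyEquidim (EGA4.Cpl (S ⧸ q))
  rw [quot_iff S q]
  let C := EGA4.Cpl S
  let a := (p.map (algebraMap R (EGA4.Cpl R))).map e.toRingHom
  let b := q.map (algebraMap S C)
  have hab : a = (p.map (algebraMap R S)).map (algebraMap S (EGA4.Cpl S)) := by
    show Ideal.map _ _ = _
    rw [Ideal.map_map, Ideal.map_map, ← IsScalarTower.algebraMap_eq R S (EGA4.Cpl S),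
      IsScalarTower.algebraMap_eq R (EGA4.Cpl R) (EGA4.Cpl S)]
    rfl
  have hle : a ≤ b := hab ▸ Ideal.map_mono Ideal.map_comap_le
  have hA : EGA4.IsStrictlyEquidim (C ⧸ a) :=
    FormCat.isStrictlyEquidim_of_ringEquiv (Ideal.quotientEquiv _ a e rfl) hp
  -- an element of `S` killing `q` modulo `pS`, outside `q`
  let I := p.map (algebraMap R S)
  obtain ⟨t, htq, ht⟩ : ∃ t ∉ q, ∀ x ∈ q, t * x ∈ I := by
    have hfin : I.minimalPrimes.Finite := I.finite_minimalPrimes_of_isNoetherianRing
    let T := hfin.toFinset.erase q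
    have hex : ∀ P ∈ T, ∃ c ∈ P, c ∉ q := by
      intro P hP
      rw [Finset.mem_erase, Set.Finite.mem_toFinset] at hP
      by_contra! hc
      haveI := hP.2.1.1
      refine hP.1 (hfib P q hc (le_antisymm (Ideal.comap_mono hc) ?_))
      exact Ideal.le_comap_map.trans (Ideal.comap_mono hP.2.1.2)
    choose! c hc1 hc2 using hex
    refine ⟨∏ P ∈ T, c P, (show ∏ P ∈ T, c P ∈ q.primeCompl from prod_mem fun P hP => hc2 P hP), ?_⟩
    intro x hx
    haveI := hred p
    have hrad : I.radical = I :=
      (Ideal.isRadical_iff_quotient_reduced I).2 inferInstance |>.radical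
    rw [← hrad, ← Ideal.sInf_minimalPrimes, Submodule.mem_sInf]
    intro P hP
    by_cases hPq : P = q
    · subst hPq; exact Ideal.mul_mem_left _ _ hx
    · have hPT : P ∈ T := Finset.mem_erase.2 ⟨hPq, hfin.mem_toFinset.2 hP⟩
      obtain ⟨d, hd⟩ := Finset.dvd_prod_of_mem c hPT
      rw [hd, mul_assoc]
      exact Ideal.mul_mem_right _ _ (hc1 P hPT)
  have htb : ∀ z ∈ b, algebraMap S C t * z ∈ a := by
    intro z hz
    have : b.map (RingHom.id C) ≤ a.colon {algebraMap S C t} := by
      rw [Ideal.map_id, Ideal.map_le_iff_le_comap]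
      intro x hx
      rw [Ideal.mem_comap, Submodule.mem_colon_singleton, smul_eq_mul, hab, mul_comm, ← map_mul]
      exact Ideal.mem_map_of_mem _ (ht x hx)
    have h1 := this (by rw [Ideal.map_id]; exact hz)
    rw [Submodule.mem_colon_singleton, smul_eq_mul, mul_comm] at h1
    exact h1
  -- associated primes of `C/b` are associated primes of `C/a`
  have key : ∀ P' ∈ associatedPrimes (C ⧸ b) (C ⧸ b),
      ringKrullDim ((C ⧸ b) ⧸ P') = ringKrullDim (C ⧸ a) := by
    intro P' hP'
    obtain ⟨hP'p, z, hz⟩ := Alg6.mem_ass_iff.1 hP'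
    obtain ⟨z, rfl⟩ := Ideal.Quotient.mk_surjective z
    let P : Ideal C := P'.comap (Ideal.Quotient.mk b)
    haveI : P.IsPrime := Ideal.IsPrime.comap _
    have hP : ∀ r, r ∈ P ↔ r * z ∈ b := fun r => by
      show Ideal.Quotient.mk b r ∈ P' ↔ _
      rw [hz, smul_eq_mul, ← map_mul, Ideal.Quotient.eq_zero_iff_mem]
    have htP : algebraMap S C t ∉ P := by
      intro htP
      rw [hP] at htP
      -- `t` is regular on `C/b`
      have hreg : IsSMulRegular (S ⧸ q) t := by
        refine IsSMulRegular.of_right_eq_zero_of_smul fun y hy => ?_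
        obtain ⟨y, rfl⟩ := Ideal.Quotient.mk_surjective y
        rw [Algebra.smul_def, Ideal.Quotient.algebraMap_eq, ← map_mul, Ideal.Quotient.eq_zero_iff_mem] at hy
        exact Ideal.Quotient.eq_zero_iff_mem.2 ((Ideal.IsPrime.mem_or_mem ‹_› hy).resolve_left htq)
      have hz0 : z ∈ b := by
        have hregC : IsSMulRegular (C ⧸ b) t := by
          have h1 := hreg.lTensor (M := C)
          let ε : TensorProduct S C (S ⧸ q) ≃ₗ[S] (C ⧸ b) :=
            ((Algebra.TensorProduct.quotIdealMapEquivTensorQuot C q).symm.toLinearEquiv.restrictScalars S)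
          exact (ε.isSMulRegular_congr t).1 h1
        refine Ideal.Quotient.eq_zero_iff_mem.1 (hregC.right_eq_zero_of_smul ?_)
        rw [Algebra.smul_def, IsScalarTower.algebraMap_apply S C (C ⧸ b), Ideal.Quotient.algebraMap_eq,
          ← map_mul, Ideal.Quotient.eq_zero_iff_mem]
        exact htP
      exact hP'p.ne_top ((Ideal.eq_top_iff_one _).2 ((hz 1).2 (by
        rw [one_smul, Ideal.Quotient.eq_zero_iff_mem.2 hz0])))
    have hPa : P.map (Ideal.Quotient.mk a) ∈ associatedPrimes (C ⧸ a) (C ⧸ a) := by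
      have haP : a ≤ P := fun r hr => (hP r).2 (b.mul_mem_right _ (hle hr))
      refine Alg6.mem_ass_iff.2 ⟨Ideal.map_isPrime_of_surjective Ideal.Quotient.mk_surjective
        (by rw [Ideal.mk_ker]; exact haP), Ideal.Quotient.mk a (algebraMap S C t * z), fun r => ?_⟩
      obtain ⟨r, rfl⟩ := Ideal.Quotient.mk_surjective r
      rw [smul_eq_mul, ← map_mul, Ideal.Quotient.eq_zero_iff_mem, ← Ideal.mem_comap,
        Ideal.comap_map_of_surjective _ Ideal.Quotient.mk_surjective, ← RingHom.ker_eq_comap_bot,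
        Ideal.mk_ker, sup_eq_left.2 haP]
      constructor
      · intro hr
        rw [mul_left_comm]
        exact htb _ ((hP r).1 hr)
      · intro hr
        rw [← mul_assoc] at hr
        exact ((‹P.IsPrime›).mem_or_mem ((hP _).2 (hle hr))).resolve_right htP
    rw [← hA _ hPa]
    have hk : RingHom.ker ((Ideal.Quotient.mk P').comp (Ideal.Quotient.mk b)) = P := by
      rw [← RingHom.comap_ker, Ideal.mk_ker]
    have haP : a ≤ P := fun r hr => (hP r).2 (b.mul_mem_right _ (hle hr))
    exact (ringKrullDim_eq_of_ringEquiv ((Ideal.quotEquivOfEq hk.symm).trans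
      (RingHom.quotientKerEquivOfSurjective (Ideal.Quotient.mk_surjective.comp Ideal.Quotient.mk_surjective)))).symm.trans
      (ringKrullDim_eq_of_ringEquiv (DoubleQuot.quotQuotEquivQuotOfLE haP)).symm
  intro P' hP'
  refine (key P' hP').trans (le_antisymm ?_
    (ringKrullDim_le_of_surjective (Ideal.Quotient.factor hle) (Ideal.Quotient.factor_surjective hle)))
  rw [← key P' hP']
  exact ringKrullDim_quotient_le _

/-- Let R be a Noetherian local ring with henselization S. If R is strictly formally catenary (for every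
prime ideal p, every associated prime of the completion of R/p has quotient of dimension dim R/p),
then so is S. -/
theorem result (R S : Type u) [CommRing R] [IsLocalRing R] [IsNoetherianRing R]
    [CommRing S] [IsLocalRing S] [Algebra R S] [IsLocalHom (algebraMap R S)] [Hensel.IsHenselization R S]
    (h : EGA4.IsFormallyStrictlyCatenary R) : EGA4.IsFormallyStrictlyCatenary S := by
  have hh := Groth.Agent.Hensel.isHenzLike_of_isHenselization R S
  haveI := hh.isNoetherianRing_iff.mp inferInstance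
  haveI := hh.faithfullyFlat
  refine of_cpl_iso R S hh.map_maximalIdeal (fun b => ?_)
    (fun q q' _ _ hle heq => hh.eq_of_le_of_comap_eq hle heq) (fun p _ => ?_) h
  · obtain ⟨a, ha⟩ := Groth.Agent.Hensel.exists_sub_mem_of_isHenselization R S b
    exact ⟨a, by first | exact ha | (rw [← hh.map_maximalIdeal]; exact ha)⟩
  · haveI := hh.isReduced_tensor (R ⧸ p)
    exact isReduced_of_injective (Algebra.TensorProduct.quotIdealMapEquivTensorQuot S p).toRingEquiv.toRingHom
      (Algebra.TensorProduct.quotIdealMapEquivTensorQuot S p).injective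

end Groth.Agent.S5041
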