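import Groth.Statements.S5047
import Groth.Agent.S2767
import Mathlib.AlgebraicGeometry.Morphisms.FlatMono

set_option autoImplicit false
attribute [-instance] CategoryTheory.catToReflQuiver
open CategoryTheory AlgebraicGeometry
universe u
open Unram

namespace Groth.Agent.S5047

/-- Consider morphisms g : Y ⟶ S and h : X ⟶ S, both locally of finite presentation, where h is flat and
every local ring of every fibre of g is a normal domain (this holds, e.g., when g is smooth). Given
an S-morphism f : X ⟶ Y, the morphism f is an open immersion exactly when it is a monomorphism and,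
at each point x of X, the local dimension at x of the h-fibre containing x coincides with the local
dimension at f x of the g-fibre containing f x. -/
theorem result {X Y S : Scheme.{u}} (g : Y ⟶ S) (h : X ⟶ S)
    [LocallyOfFinitePresentation g] [LocallyOfFinitePresentation h] [Flat h]
    (hnorm : ∀ y : Y, IsDomain ((g.fiber (g.base y)).presheaf.stalk (g.asFiber y)) ∧
      IsIntegrallyClosed ((g.fiber (g.base y)).presheaf.stalk (g.asFiber y)))
    (f : X ⟶ Y) (w : f ≫ g = h) :
    IsOpenImmersion f ↔ (Mono f ∧ ∀ x : X, FlatMor.fibreDimAt h x = FlatMor.fibreDimAt g (f.base x)) := by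
  subst w
  constructor
  · intro hf
    refine ⟨inferInstance, fun x => ?_⟩
    exact Groth.Agent.FibDim.fibreDimAt_openImmersion_comp f g x
  · rintro ⟨hm, hd⟩
    haveI : LocallyOfFinitePresentation f := Groth.Agent.AlgSpPts.locallyOfFinitePresentation_of_comp f g
    haveI : IsIso (Limits.pullback.diagonal f) := (Limits.pullback.isIso_diagonal_iff f).2 hm
    haveI : FormallyUnramified f := inferInstance
    haveI : Flat f := Flat.of_stalkMap _ fun x => by
      obtain ⟨U, hxU, hU⟩ := (Groth.Agent.S2767.result g (f ≫ g) f rfl x (Flat.stalkMap _ _) (hnorm _)).2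
        ⟨⟨⊤, trivial, MorphismProperty.comp_mem @FormallyUnramified _ _ inferInstance ‹_›⟩, hd x⟩
      exact (Groth.Agent.StalkLoc7.stalkMap_flat_openImmersion_comp f U ⟨x, hxU⟩).2 (Flat.stalkMap _ _)
    exact IsOpenImmersion.of_flat_of_mono f

end Groth.Agent.S5047
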