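import Groth.Statements.S5056
import Groth.Agent.FormCat.HenselDomain
import Mathlib.RingTheory.Nilpotent.GeometricallyReduced
import Mathlib.RingTheory.Localization.BaseChange
import Mathlib.RingTheory.TensorProduct.Maps

set_option autoImplicit false
universe u
open Hensel

namespace Groth.Agent.S5056

open scoped TensorProduct in
theorem isDomain_tensor_cpl (A : Type u) [CommRing A] [IsNoetherianRing A] [HenselianLocalRing A] [IsDomain A]
    (hA : EGA4.HasGeomNormalFormalFibres A) (K' : Type u) [Field K'] [Algebra A K']
    (hinj : Function.Injective (algebraMap A K')) : IsDomain (K' ⊗[A] EGA4.Cpl A) := by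
  haveI hbot : (⊥ : Ideal A).IsPrime := Ideal.isPrime_bot
  let g : (A ⧸ (⊥ : Ideal A)) →+* K' := Ideal.Quotient.lift _ (algebraMap A K') (fun a ha => by
    rw [Ideal.mem_bot.mp ha, map_zero])
  have hg : Function.Injective g := (injective_iff_map_eq_zero g).mpr fun z hz => by
    obtain ⟨a, rfl⟩ := Ideal.Quotient.mk_surjective z
    rw [Ideal.Quotient.lift_mk, map_eq_zero_iff _ hinj] at hz
    rw [hz, map_zero]
  letI : Algebra (⊥ : Ideal A).ResidueField K' := (IsFractionRing.lift (A := A ⧸ (⊥ : Ideal A)) hg).toAlgebra
  haveI : IsScalarTower A (⊥ : Ideal A).ResidueField K' := IsScalarTower.of_algebraMap_eq fun a => by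
    rw [RingHom.algebraMap_toAlgebra, IsScalarTower.algebraMap_apply A (A ⧸ (⊥ : Ideal A)) (⊥ : Ideal A).ResidueField,
      IsFractionRing.lift_algebraMap]
    rfl
  haveI := FormCat.isDomain_tensor_of_finite (⊥ : Ideal A).ResidueField (EGA4.formalFibre A ⊥)
    (fun L _ _ _ => FormCat.isDomain_formalFibre_finite A hA ⊥ L) K'
  exact (Algebra.TensorProduct.cancelBaseChange A (⊥ : Ideal A).ResidueField K' K' (EGA4.Cpl A)).symm.toRingEquiv.toMulEquiv.isDomain

open scoped TensorProduct in
theorem isDomain_tensor (A : Type u) [CommRing A] [IsNoetherianRing A]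
    [HenselianLocalRing A] [IsDomain A] (h : EGA4.HasGeomNormalFormalFibres A) [IsDomain (EGA4.Cpl A)]
    (K L : Type u) [Field K] [Field L] [Algebra A K] [IsFractionRing A K]
    [Algebra (EGA4.Cpl A) L] [IsFractionRing (EGA4.Cpl A) L] [Algebra K L] [Algebra A L]
    [IsScalarTower A K L] [IsScalarTower A (EGA4.Cpl A) L] (K' : Type u) [Field K'] [Algebra K K'] :
    IsDomain (K' ⊗[K] L) := by
  letI : Algebra A K' := Algebra.compHom K' (algebraMap A K)
  haveI : IsScalarTower A K K' := IsScalarTower.of_algebraMap_eq' rfl
  have hinj : Function.Injective (algebraMap A K') := by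
    rw [IsScalarTower.algebraMap_eq A K K', RingHom.coe_comp]
    exact (algebraMap K K').injective.comp (IsFractionRing.injective A K)
  haveI := isDomain_tensor_cpl A h K' hinj
  letI : Algebra (K' ⊗[A] EGA4.Cpl A) (K' ⊗[A] L) :=
    (Algebra.TensorProduct.map (AlgHom.id K' K') (IsScalarTower.toAlgHom A (EGA4.Cpl A) L)).toRingHom.toAlgebra
  haveI : IsScalarTower K' (K' ⊗[A] EGA4.Cpl A) (K' ⊗[A] L) := IsScalarTower.of_algebraMap_eq fun c => by
    show _ = Algebra.TensorProduct.map (AlgHom.id K' K') (IsScalarTower.toAlgHom A (EGA4.Cpl A) L) (c ⊗ₜ 1)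
    simp
  haveI := IsLocalization.tensorProduct_tensorProduct_right (A := EGA4.Cpl A) A K'
    (nonZeroDivisors (EGA4.Cpl A)) L (RingHom.ext fun x => by
      show Algebra.TensorProduct.map (AlgHom.id K' K') (IsScalarTower.toAlgHom A (EGA4.Cpl A) L) (1 ⊗ₜ x) = _
      simp)
  haveI := FlatLoc6.faithfullyFlat_cpl A
  haveI hd : IsDomain (K' ⊗[A] L) := by
    refine IsLocalization.isDomain_of_le_nonZeroDivisors (S := K' ⊗[A] L)
      (M := (nonZeroDivisors (EGA4.Cpl A)).map (Algebra.TensorProduct.includeRight (R := A) (A := K'))) ?_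
    rintro _ ⟨r, hr, rfl⟩
    refine mem_nonZeroDivisors_of_ne_zero ((map_ne_zero_iff _ ?_).mpr (nonZeroDivisors.ne_zero hr))
    exact Algebra.TensorProduct.includeRight_injective hinj
  haveI := IsLocalization.tensorProduct_compatibleSMul (nonZeroDivisors A) K K' L
  exact (Algebra.TensorProduct.equivOfCompatibleSMul A K K' K' L).toRingEquiv.toMulEquiv.isDomain

open scoped TensorProduct in
theorem mem_range_of_domain (K L : Type u) [Field K] [Field L] [Algebra K L] (x : L) (hx : IsAlgebraic K x)
    (key : ∀ (K' : Type u) [Field K'] [Algebra K K'], IsDomain (K' ⊗[K] L)) :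
    x ∈ Set.range (algebraMap K L) := by
  let F := IntermediateField.adjoin K ({x} : Set L)
  haveI : FiniteDimensional K F := IntermediateField.adjoin.finiteDimensional hx.isIntegral
  haveI := key F
  haveI : IsDomain (F ⊗[K] F) := Function.Injective.isDomain
    (f := Algebra.TensorProduct.map (AlgHom.id K F) F.val)
    (Module.Flat.lTensor_preserves_injective_linearMap (M := F) F.val.toLinearMap Subtype.val_injective)
  haveI : Module.Finite K (F ⊗[K] F) := Module.Finite.tensorProduct K F F
  haveI : Algebra.IsIntegral K (F ⊗[K] F) := Algebra.IsIntegral.of_finite K _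
  have hfield : IsField (F ⊗[K] F) :=
    isField_of_isIntegral_of_isField' (R := K) (S := F ⊗[K] F) (Field.toIsField K)
  have hmul : Function.Injective (Algebra.TensorProduct.lmul' K (S := F)) :=
    (injective_iff_map_eq_zero _).mpr fun z hz => by
      by_contra hne
      obtain ⟨w, hw⟩ := hfield.mul_inv_cancel hne
      have h1 := congrArg (Algebra.TensorProduct.lmul' K (S := F)) hw
      rw [map_mul, hz, zero_mul, map_one] at h1
      exact zero_ne_one h1
  have hle := LinearMap.finrank_le_finrank_of_injective (f := (Algebra.TensorProduct.lmul' K (S := F)).toLinearMap) hmul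
  rw [Module.finrank_tensorProduct] at hle
  have h1 : Module.finrank K F = 1 := by
    have hpos : 0 < Module.finrank K F := Module.finrank_pos
    nlinarith
  have hF : F = ⊥ := IntermediateField.finrank_eq_one_iff.mp h1
  have hxF : x ∈ F := IntermediateField.subset_adjoin K _ rfl
  rw [hF] at hxF
  exact IntermediateField.mem_bot.mp hxF

/-- Let A be a Noetherian henselian local domain whose formal fibres are geometrically normal, Â its
completion (an integral domain), K and L fraction fields of A and Â with L a K-algebra compatibly.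
Then L is geometrically reduced over K (a separable extension) and every element of L algebraic over
K lies in K. -/
theorem result (A : Type u) [CommRing A] [IsNoetherianRing A]
    [HenselianLocalRing A] [IsDomain A] (h : EGA4.HasGeomNormalFormalFibres A) [IsDomain (EGA4.Cpl A)]
    (K L : Type u) [Field K] [Field L] [Algebra A K] [IsFractionRing A K]
    [Algebra (EGA4.Cpl A) L] [IsFractionRing (EGA4.Cpl A) L] [Algebra K L] [Algebra A L]
    [IsScalarTower A K L] [IsScalarTower A (EGA4.Cpl A) L] :
    Algebra.IsGeometricallyReduced K L ∧ ∀ x : L, IsAlgebraic K x → x ∈ Set.range (algebraMap K L) := by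
  have key : ∀ (K' : Type u) [Field K'] [Algebra K K'], IsDomain (TensorProduct K K' L) :=
    fun K' _ _ => isDomain_tensor A h K L K'
  refine ⟨⟨fun p _ => ?_⟩, fun x hx => ?_⟩
  · haveI := key (AlgebraicClosure p.ResidueField)
    infer_instance
  · exact mem_range_of_domain K L x hx (fun K' _ _ => key K')

end Groth.Agent.S5056
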