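import Groth.Statements.S5058
import Groth.Agent.H1FlatLimit.Noeth
import Groth.Agent.S0506
import Groth.Agent.S0507
import Groth.Agent.S0511
import Mathlib.RingTheory.Localization.AtPrime.Basic

set_option autoImplicit false
open CategoryTheory CategoryTheory.Limits AlgebraicGeometry
universe u
open Hensel

namespace Groth.Agent.S5058

/-- Let A be a henselian local ring and f : X ⟶ Spec A a morphism of finite presentation. Then there
exist a Noetherian henselian local ring A₀, a local ring homomorphism φ : A₀ → A, a morphism of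
finite type f₀ : X₀ ⟶ Spec A₀ and a cartesian square exhibiting X as the base change of X₀ along
Spec φ. -/
theorem result (A : Type u) [CommRing A] [HenselianLocalRing A]
    {X : Scheme.{u}} (f : X ⟶ Spec (CommRingCat.of A)) [LocallyOfFinitePresentation f] [QuasiCompact f] [QuasiSeparated f] :
    ∃ (A₀ : Type u) (_ : CommRing A₀) (_ : HenselianLocalRing A₀) (_ : IsNoetherianRing A₀) (φ : A₀ →+* A) (_ : IsLocalHom φ)
      (X₀ : Scheme.{u}) (f₀ : X₀ ⟶ Spec (CommRingCat.of A₀)) (g : X ⟶ X₀),
      LocallyOfFiniteType f₀ ∧ QuasiCompact f₀ ∧ IsPullback g f f₀ (Spec.map (CommRingCat.ofHom φ)) := by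
  classical
  haveI : IsLocalRing A := inferInstance
  obtain ⟨A₁, hA₁, X₁, f₁, g, _, _, _, hg⟩ := Groth.Agent.H1FlatLimit.exists_model_qcqs f
  haveI : Algebra.FiniteType ℤ ↥A₁ := (Subalgebra.fg_iff_finiteType A₁).1 hA₁
  haveI : IsNoetherianRing ↥A₁ := Algebra.FiniteType.isNoetherianRing ℤ ↥A₁
  let p : Ideal ↥A₁ := (IsLocalRing.maximalIdeal A).comap (algebraMap ↥A₁ A)
  haveI : p.IsPrime := Ideal.comap_isPrime _ _
  let R := Localization.AtPrime p
  haveI : IsNoetherianRing R := IsLocalization.isNoetherianRing p.primeCompl _ inferInstance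
  have hu : ∀ y : p.primeCompl, IsUnit (algebraMap ↥A₁ A y) := fun y =>
    IsLocalRing.notMem_maximalIdeal.1 y.2
  let ψ : R →+* A := IsLocalization.lift hu
  have hψ : IsLocalHom ψ := ⟨fun z hz => by
    obtain ⟨a, s, rfl⟩ := IsLocalization.exists_mk'_eq p.primeCompl z
    rw [IsLocalization.lift_mk', IsUnit.mul_iff] at hz
    exact (IsLocalization.AtPrime.isUnit_mk'_iff R p a s).2 fun h => IsLocalRing.notMem_maximalIdeal.2 hz.1 h⟩
  obtain ⟨S, _, _, _, _, hS⟩ := S0506.result R
  haveI := hS
  haveI : HenselianLocalRing S := hS.henselian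
  obtain ⟨φ, hφ, -⟩ := hS.universal A ψ hψ
  haveI : IsNoetherianRing S := (S0511.result R S).1 inferInstance
  have hloc : IsLocalHom φ := by
    refine ((IsLocalRing.local_hom_TFAE φ).out 0 2).2 ?_
    rw [← S0507.result R S, Ideal.map_map, hφ]
    haveI := hψ
    exact ((IsLocalRing.local_hom_TFAE ψ).out 0 2).1 hψ
  let j : ↥A₁ →+* S := (algebraMap R S).comp (algebraMap ↥A₁ R)
  have hj : φ.comp j = algebraMap ↥A₁ A := by
    rw [← RingHom.comp_assoc, hφ]
    exact IsLocalization.lift_comp hu
  let X₀ := pullback f₁ (Spec.map (CommRingCat.ofHom j))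
  have hw : g ≫ f₁ = (f ≫ Spec.map (CommRingCat.ofHom φ)) ≫ Spec.map (CommRingCat.ofHom j) := by
    rw [Category.assoc, ← Spec.map_comp, ← CommRingCat.ofHom_comp, hj]
    exact hg.w
  refine ⟨S, inferInstance, inferInstance, inferInstance, φ, hloc, X₀, pullback.snd _ _,
    pullback.lift g (f ≫ Spec.map (CommRingCat.ofHom φ)) hw, ?_, ?_, ?_⟩
  · exact MorphismProperty.pullback_snd (P := @LocallyOfFiniteType) _ _ inferInstance
  · exact MorphismProperty.pullback_snd (P := @QuasiCompact) _ _ inferInstance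
  · refine IsPullback.of_right (t := IsPullback.of_hasPullback f₁ (Spec.map (CommRingCat.ofHom j))) ?_
      (pullback.lift_snd _ _ _)
    rw [pullback.lift_fst, ← Spec.map_comp, ← CommRingCat.ofHom_comp, hj]
    exact hg

end Groth.Agent.S5058
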