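import Groth.Statements.S5061
import Mathlib
import Groth.Agent.GrpSchLib.FieldReduced

set_option autoImplicit false
open scoped TensorProduct
universe u
open EGA418

namespace Groth.Agent.S5061

set_option backward.isDefEq.respectTransparency false
set_option backward.isDefEq.respectTransparency.types false
section
variable (p : ℕ) [Fact p.Prime] (k K : Type u) [Field k] [CharP k p] [Field K] [Algebra k K]
  (P : Type u) [Field P] [Algebra k P]

include p in
theorem nilpotent_or_isUnit [IsPurelyInseparable k P] (z : K ⊗[k] P) :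
    IsNilpotent z ∨ IsUnit z := by
  haveI : Nontrivial (K ⊗[k] P) :=
    (Algebra.TensorProduct.includeLeft_injective (S := K) (B := P)
      (algebraMap k P).injective).nontrivial
  haveI : CharP (K ⊗[k] P) p := charP_of_injective_algebraMap (algebraMap k (K ⊗[k] P)).injective p
  haveI : ExpChar (K ⊗[k] P) p := ExpChar.prime Fact.out
  haveI : ExpChar k p := ExpChar.prime Fact.out
  have h : ∃ n, ∃ c : K, z ^ p ^ n = algebraMap K (K ⊗[k] P) c := by
    induction z using TensorProduct.induction_on with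
    | zero => exact ⟨0, 0, by simp⟩
    | tmul x y =>
      obtain ⟨n, c, hc⟩ := IsPurelyInseparable.pow_mem k p y
      refine ⟨n, x ^ p ^ n * algebraMap k K c, ?_⟩
      rw [Algebra.TensorProduct.tmul_pow, ← hc, Algebra.algebraMap_eq_smul_one c,
        ← TensorProduct.smul_tmul, Algebra.TensorProduct.algebraMap_apply, Algebra.algebraMap_self,
        RingHom.id_apply, Algebra.smul_def, mul_comm]
    | add a b ha hb =>
      obtain ⟨n, c, hc⟩ := ha
      obtain ⟨m, d, hd⟩ := hb
      refine ⟨n + m, c ^ p ^ m + d ^ p ^ n, ?_⟩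
      rw [add_pow_expChar_pow]
      conv_lhs => arg 1; rw [pow_add, pow_mul, hc]
      conv_lhs => arg 2; rw [pow_add, mul_comm, pow_mul, hd]
      simp [TensorProduct.add_tmul]
  obtain ⟨n, c, hc⟩ := h
  by_cases hc0 : c = 0
  · exact Or.inl ⟨p ^ n, by rw [hc, hc0, map_zero]⟩
  · right
    have hu : IsUnit (z ^ p ^ n) := by rw [hc]; exact (isUnit_iff_ne_zero.2 hc0).map _
    exact (isUnit_pow_iff (pow_ne_zero n (Fact.out : p.Prime).ne_zero)).1 hu

theorem isArtinian_iff_fg [IsPRadical (algebraMap k P) p] :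
    IsArtinianRing (K ⊗[k] P) ↔ (nilradical (K ⊗[k] P)).FG := by
  haveI : IsPurelyInseparable k P := IsPRadical.isPurelyInseparable k P p
  have hpr : ∀ I : Ideal (K ⊗[k] P), I.IsPrime → I = nilradical (K ⊗[k] P) := by
    intro I hI
    refine le_antisymm (fun z hz => ?_) (nilradical_le_prime I)
    rcases nilpotent_or_isUnit p k K P z with h | h
    · exact h
    · exact absurd (Ideal.eq_top_of_isUnit_mem I hz h) hI.ne_top
  constructor
  · intro h
    exact IsNoetherian.noetherian _
  · intro h
    rw [isArtinianRing_iff_isNoetherianRing_krullDimLE_zero]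
    refine ⟨IsNoetherianRing.of_prime fun I hI => hpr I hI ▸ h, ?_⟩
    refine Ring.krullDimLE_zero_iff.2 fun I hI => ?_
    refine ⟨⟨hI.ne_top, fun J hJ => ?_⟩⟩
    by_contra hne
    obtain ⟨M, hM, hle⟩ := Ideal.exists_le_maximal J hne
    exact absurd ((hpr M hM.isPrime).trans (hpr I hI).symm) (ne_of_gt (lt_of_lt_of_le hJ hle))

variable (k' : Type u) [Field k'] [Algebra k k'] [Algebra k' P] [IsScalarTower k k' P]

noncomputable def ψ : k' ⊗[k] K →ₐ[k] K ⊗[k] P :=
  (Algebra.TensorProduct.comm k P K).toAlgHom.comp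
    (Algebra.TensorProduct.map (IsScalarTower.toAlgHom k k' P) (AlgHom.id k K))

noncomputable def Φ : K ⊗[k] P →ₐ[k] P ⊗[k'] ((k' ⊗[k] K) ⧸ nilradical (k' ⊗[k] K)) :=
  Algebra.TensorProduct.lift
    (((Algebra.TensorProduct.includeRight :
        (k' ⊗[k] K) ⧸ nilradical (k' ⊗[k] K) →ₐ[k'] _).restrictScalars k).comp
      ((Ideal.Quotient.mkₐ k _).comp Algebra.TensorProduct.includeRight))
    ((Algebra.TensorProduct.includeLeft : P →ₐ[k'] _).restrictScalars k)
    fun _ _ => Commute.all (S := P ⊗[k'] ((k' ⊗[k] K) ⧸ nilradical (k' ⊗[k] K))) _ _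

theorem Φ_ψ (r : k' ⊗[k] K) : Φ k K P k' (ψ k K P k' r)
    = (1 : P) ⊗ₜ[k'] (Ideal.Quotient.mk (nilradical (k' ⊗[k] K)) r) := by
  induction r using TensorProduct.induction_on with
  | zero => simp
  | tmul a x =>
    have e1 : ψ k K P k' (a ⊗ₜ[k] x) = x ⊗ₜ[k] algebraMap k' P a := rfl
    have e2 : Φ k K P k' (x ⊗ₜ[k] algebraMap k' P a) =
        (algebraMap k' P a) ⊗ₜ[k'] Ideal.Quotient.mk (nilradical (k' ⊗[k] K)) ((1 : k') ⊗ₜ[k] x) := by
      simp [Φ]
    rw [e1, e2, Algebra.algebraMap_eq_smul_one, TensorProduct.smul_tmul, ← Ideal.Quotient.mk_eq_mk,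
      ← Ideal.Quotient.mk_eq_mk, ← Submodule.Quotient.mk_smul, TensorProduct.smul_tmul',
      smul_eq_mul, mul_one]
  | add a b ha hb => simp only [map_add, ha, hb, TensorProduct.tmul_add]

theorem Φ_ψ_eq_zero (r : k' ⊗[k] K) (hr : IsNilpotent r) : Φ k K P k' (ψ k K P k' r) = 0 := by
  rw [Φ_ψ, Ideal.Quotient.eq_zero_iff_mem.2 (mem_nilradical.2 hr), TensorProduct.tmul_zero]

theorem ext_le_nilradical :
    (nilradical (k' ⊗[k] K)).map (ψ k K P k').toRingHom ≤ nilradical (K ⊗[k] P) := by
  rw [Ideal.map_le_iff_le_comap]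
  exact fun x hx => (mem_nilradical.1 hx).map _

theorem Φ_surjective : Function.Surjective (Φ k K P k') := by
  intro z
  induction z using TensorProduct.induction_on with
  | zero => exact ⟨0, map_zero _⟩
  | tmul y l =>
    obtain ⟨r, rfl⟩ := Ideal.Quotient.mk_surjective l
    refine ⟨(1 : K) ⊗ₜ[k] y * ψ k K P k' r, ?_⟩
    rw [map_mul, Φ_ψ]
    simp [Φ, ← Algebra.TensorProduct.one_def]
  | add a b ha hb =>
    obtain ⟨a, rfl⟩ := ha
    obtain ⟨b, rfl⟩ := hb
    exact ⟨a + b, map_add _ _ _⟩

theorem ker_Φ (z : K ⊗[k] P) (hz : Φ k K P k' z = 0) :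
    z ∈ (nilradical (k' ⊗[k] K)).map (ψ k K P k').toRingHom := by
  let I := (nilradical (k' ⊗[k] K)).map (ψ k K P k').toRingHom
  let inP : P →+* (K ⊗[k] P) ⧸ I :=
    (Ideal.Quotient.mk I).comp Algebra.TensorProduct.includeRight.toRingHom
  letI : Algebra k' ((K ⊗[k] P) ⧸ I) := (inP.comp (algebraMap k' P)).toAlgebra
  let g1 : P →ₐ[k'] (K ⊗[k] P) ⧸ I := { inP with commutes' := fun _ => rfl }
  let g2 : (k' ⊗[k] K) ⧸ nilradical (k' ⊗[k] K) →ₐ[k'] (K ⊗[k] P) ⧸ I :=
    { Ideal.Quotient.lift _ ((Ideal.Quotient.mk I).comp (ψ k K P k').toRingHom)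
        (fun r hr => Ideal.Quotient.eq_zero_iff_mem.2 (Ideal.mem_map_of_mem _ hr)) with
      commutes' := fun a => by
        change Ideal.Quotient.mk I (ψ k K P k' (algebraMap k' (k' ⊗[k] K) a)) = _
        simp [ψ, Algebra.TensorProduct.algebraMap_apply]
        rfl }
  let G := Algebra.TensorProduct.lift g1 g2 fun _ _ => Commute.all _ _
  have key : ∀ w, G (Φ k K P k' w) = Ideal.Quotient.mk I w := by
    intro w
    induction w using TensorProduct.induction_on with
    | zero => simp
    | tmul x y =>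
      have e : x ⊗ₜ[k] y = ψ k K P k' ((1 : k') ⊗ₜ x) * ((1 : K) ⊗ₜ[k] y) := by simp [ψ]
      rw [e, map_mul, map_mul, map_mul, Φ_ψ]
      congr 1
      · simp [G]
        rfl
      · simp [G, Φ, ← Algebra.TensorProduct.one_def]
        rfl
    | add a b ha hb => simp only [map_add, ha, hb]
  have := key z
  rw [hz, map_zero] at this
  exact Ideal.Quotient.eq_zero_iff_mem.1 this.symm

theorem isGeomRed [PerfectRing P p] [IsPurelyInseparable k' P] (s : Finset (K ⊗[k] P))
    (hs : Ideal.span (s : Set (K ⊗[k] P)) = nilradical (K ⊗[k] P))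
    (hg : ∀ g ∈ s, ∃ r, ψ k K P k' r = g) :
    Algebra.IsGeometricallyReduced k' ((k' ⊗[k] K) ⧸ nilradical (k' ⊗[k] K)) := by
  haveI : CharP P p := charP_of_injective_algebraMap (algebraMap k P).injective p
  haveI hred : IsReduced (P ⊗[k'] ((k' ⊗[k] K) ⧸ nilradical (k' ⊗[k] K))) := by
    refine ⟨fun x hx => ?_⟩
    obtain ⟨w, rfl⟩ := Φ_surjective k K P k' x
    obtain ⟨n, hn⟩ := hx
    have hw : IsNilpotent w := by
      rw [← map_pow] at hn
      obtain ⟨m, hm⟩ := ext_le_nilradical k K P k' (ker_Φ k K P k' _ hn)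
      exact ⟨n * m, by rw [pow_mul, hm]⟩
    have hw' : w ∈ Ideal.span (s : Set (K ⊗[k] P)) := by rw [hs]; exact hw
    suffices hle : Ideal.span (s : Set (K ⊗[k] P)) ≤ RingHom.ker (Φ k K P k').toRingHom from hle hw'
    rw [Ideal.span_le]
    intro g hgs
    have hgn : IsNilpotent g := by
      have : g ∈ nilradical (K ⊗[k] P) := by rw [← hs]; exact Ideal.subset_span hgs
      exact this
    obtain ⟨r, rfl⟩ := hg g hgs
    refine Φ_ψ_eq_zero k K P k' r ((IsNilpotent.map_iff ?_).1 hgn)
    simp only [ψ, AlgEquiv.toAlgHom_eq_coe, AlgHom.coe_comp, AlgHom.coe_coe]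
    refine (AlgEquiv.injective _).comp ?_
    exact Module.Flat.rTensor_preserves_injective_linearMap _ (algebraMap k' P).injective
  rw [Algebra.isGeometricallyReduced_field_iff]
  let AC := AlgebraicClosure k'
  let j : P →ₐ[k'] AC := IsAlgClosed.lift
  letI : Algebra P AC := j.toRingHom.toAlgebra
  haveI : IsScalarTower k' P AC := IsScalarTower.of_algebraMap_eq' j.comp_algebraMap.symm
  haveI : PerfectField P := PerfectRing.toPerfectField P p
  haveI : IsReduced (AC ⊗[P] (P ⊗[k'] ((k' ⊗[k] K) ⧸ nilradical (k' ⊗[k] K)))) :=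
    Groth.Agent.GrpSchLib.isReduced_tensor_of_perfectField (K := P) (A := AC)
      (B := P ⊗[k'] ((k' ⊗[k] K) ⧸ nilradical (k' ⊗[k] K)))
  exact isReduced_of_injective
    (Algebra.TensorProduct.cancelBaseChange k' P AC AC ((k' ⊗[k] K) ⧸ nilradical (k' ⊗[k] K))).symm
    (AlgEquiv.injective _)

end

/-- a) iff c): let k be a field of characteristic p > 0, P a perfect closure of k (a perfect field
purely inseparable over k) and K an extension field of k. Then the ring K ⊗_k P is Artinian if and
only if there exists a finite purely inseparable extension k' of k such that (k' ⊗_k K) modulo its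
nilradical is geometrically reduced over k'. -/
theorem result (p : ℕ) [Fact p.Prime]
    (k K : Type u) [Field k] [CharP k p] [Field K] [Algebra k K]
    (P : Type u) [Field P] [Algebra k P] [PerfectRing P p] [IsPRadical (algebraMap k P) p] :
    IsArtinianRing (K ⊗[k] P) ↔
      ∃ (k' : Type u) (_ : Field k') (_ : Algebra k k'), Module.Finite k k' ∧ IsPurelyInseparable k k' ∧
        Algebra.IsGeometricallyReduced k' ((k' ⊗[k] K) ⧸ nilradical (k' ⊗[k] K)) := by
  classical
  haveI : IsPurelyInseparable k P := IsPRadical.isPurelyInseparable k P p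
  haveI : CharP P p := charP_of_injective_algebraMap (algebraMap k P).injective p
  constructor
  · -- Artinian ⇒ geometrically reduced quotient after a finite extension
    intro hA
    obtain ⟨s, hs⟩ := (isArtinian_iff_fg p k K P).1 hA
    -- a finite field of definition for the generators
    have hz : ∀ z : K ⊗[k] P, ∃ T : Finset P, ∀ F : IntermediateField k P, (T : Set P) ⊆ F →
        z ∈ (Algebra.TensorProduct.map (AlgHom.id k K) F.val).range := by
      intro z
      induction z using TensorProduct.induction_on with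
      | zero => exact ⟨∅, fun F _ => zero_mem _⟩
      | tmul x y => exact ⟨{y}, fun F hF => ⟨x ⊗ₜ ⟨y, hF (by simp)⟩, rfl⟩⟩
      | add a b ha hb =>
        obtain ⟨T, hT⟩ := ha
        obtain ⟨T', hT'⟩ := hb
        refine ⟨T ∪ T', fun F hF => add_mem (hT F ?_) (hT' F ?_)⟩ <;>
          exact subset_trans (by simp) hF
    choose T hT using hz
    let F : IntermediateField k P := IntermediateField.adjoin k ((s.biUnion T : Finset P) : Set P)
    haveI : FiniteDimensional k F :=
      IntermediateField.finiteDimensional_adjoin fun x _ => Algebra.IsIntegral.isIntegral x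
    haveI : IsPurelyInseparable k F := IsPurelyInseparable.tower_bot k F P
    refine ⟨F, inferInstance, inferInstance, inferInstance, inferInstance, ?_⟩
    haveI : IsPurelyInseparable F P := IsPurelyInseparable.tower_top k F P
    refine isGeomRed p k K P F s hs fun g hg => ?_
    obtain ⟨g', hg'⟩ := hT g F (fun y hy => IntermediateField.subset_adjoin k _
      (Finset.mem_biUnion.2 ⟨g, hg, hy⟩))
    refine ⟨Algebra.TensorProduct.comm k K F g', ?_⟩
    rw [← hg']
    clear hg'
    induction g' using TensorProduct.induction_on with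
    | zero => simp
    | tmul a b => rfl
    | add a b ha hb => simp only [map_add, ha, hb]
  · rintro ⟨k', _, _, hfin, hpi, hgr⟩
    haveI := hfin
    haveI := hpi
    haveI := hgr
    haveI : ExpChar k p := ExpChar.prime Fact.out
    haveI : CharP k' p := charP_of_injective_algebraMap (algebraMap k k').injective p
    haveI : ExpChar k' p := ExpChar.prime Fact.out
    letI : Algebra k' P := (PerfectRing.lift (algebraMap k k') (algebraMap k P) p).toAlgebra
    haveI : IsScalarTower k k' P :=
      IsScalarTower.of_algebraMap_eq' (PerfectRing.lift_comp (algebraMap k k') (algebraMap k P) p).symm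
    rw [isArtinian_iff_fg p k K P]
    haveI : IsPurelyInseparable k' P := IsPurelyInseparable.tower_top k k' P
    haveI : IsReduced (P ⊗[k'] ((k' ⊗[k] K) ⧸ nilradical (k' ⊗[k] K))) := inferInstance
    have heq : nilradical (K ⊗[k] P) = (nilradical (k' ⊗[k] K)).map (ψ k K P k').toRingHom := by
      refine le_antisymm (fun z hz => ker_Φ k K P k' z ?_) (ext_le_nilradical k K P k')
      exact ((mem_nilradical.1 hz).map (Φ k K P k')).eq_zero
    rw [heq]
    refine Ideal.FG.map ?_ _
    haveI : IsNoetherianRing (K ⊗[k] k') := IsNoetherianRing.of_finite K (K ⊗[k] k')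
    haveI : IsNoetherianRing (k' ⊗[k] K) :=
      isNoetherianRing_of_ringEquiv (K ⊗[k] k') (Algebra.TensorProduct.comm k K k').toRingEquiv
    exact IsNoetherian.noetherian _

end Groth.Agent.S5061
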