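import Groth.Statements.S5068
import Groth.Agent.RegImmLib.FibreQuasi
import Groth.Agent.CILib.Basic
import Groth.Agent.Synt29.RegSeq
import Groth.Agent.RegLoc6.Seq

set_option autoImplicit false
set_option backward.isDefEq.respectTransparency false
set_option backward.isDefEq.respectTransparency.types false
universe u
open CInt
open scoped TensorProduct

namespace Groth.Agent.S5068

/-- Suppose A and C are Noetherian local rings joined by a flat local homomorphism A → C whose closed
fibre C/m_A C is a regular local ring, and consider a local ring B obtained as a quotient of C by an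
ideal J (encoded as a surjective C-algebra B, with J taken to be the kernel). The ideal J admits a
generating sequence that is transversally regular relative to A (each term a non-zero-divisor modulo
the previous ones, and every partial quotient C/(f_1, …, f_j) A-flat) exactly when two things hold:
B is A-flat, and B/m_A B is a complete intersection (meaning its completion is a regular local ring
divided by a regular sequence). -/
theorem result (A C B : Type u) [CommRing A] [IsLocalRing A]
    [IsNoetherianRing A] [CommRing C] [IsLocalRing C] [IsNoetherianRing C] [Algebra A C] [IsLocalHom (algebraMap A C)]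
    [Module.Flat A C] (hreg : IsRegularLocalRing (EGA4.FibRing A C))
    [CommRing B] [IsLocalRing B] [Algebra C B] [Algebra A B] [IsScalarTower A C B] [IsLocalHom (algebraMap A B)]
    (hsurj : Function.Surjective (algebraMap C B)) :
    (∃ rs : List C, Ideal.ofList rs = RingHom.ker (algebraMap C B) ∧ RegImm.IsTransRegularSeq A C rs) ↔
      (Module.Flat A B ∧ Pi1.IsCompleteIntersection (EGA4.FibRing A B)) := by
  let R' := EGA4.FibRing A C
  let B' := EGA4.FibRing A B
  let J := RingHom.ker (algebraMap C B)
  haveI : IsNoetherianRing B := isNoetherianRing_of_surjective C B (algebraMap C B) hsurj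
  haveI := hreg
  haveI : Nontrivial B' := inferInstance
  haveI : IsLocalRing B' := IsLocalRing.of_surjective' (Ideal.Quotient.mk _) Ideal.Quotient.mk_surjective
  have hmap : EGA4.mB A B = (EGA4.mB A C).map (algebraMap C B) := by
    show _ = ((IsLocalRing.maximalIdeal A).map (algebraMap A C)).map (algebraMap C B)
    rw [Ideal.map_map, ← IsScalarTower.algebraMap_eq]
  let π : R' →+* B' := Ideal.quotientMap (EGA4.mB A B) (algebraMap C B) (Ideal.map_le_iff_le_comap.1 hmap.ge)
  have hπ : Function.Surjective π := by
    intro y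
    obtain ⟨y, rfl⟩ := Ideal.Quotient.mk_surjective y
    obtain ⟨x, rfl⟩ := hsurj y
    exact ⟨Ideal.Quotient.mk _ x, rfl⟩
  have hker : RingHom.ker π = J.map (Ideal.Quotient.mk (EGA4.mB A C)) := by
    refine le_antisymm (fun y hy => ?_) (Ideal.map_le_iff_le_comap.2 fun x hx => ?_)
    · obtain ⟨x, rfl⟩ := Ideal.Quotient.mk_surjective y
      have h1 : algebraMap C B x ∈ (EGA4.mB A C).map (algebraMap C B) := hmap.le (Ideal.Quotient.eq_zero_iff_mem.1 hy)
      obtain ⟨w, hw, hwx⟩ := (Ideal.mem_map_iff_of_surjective _ hsurj).1 h1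
      have h2 : x - w ∈ J := by rw [RingHom.mem_ker, map_sub, hwx, sub_self]
      have h3 := Ideal.mem_map_of_mem (Ideal.Quotient.mk (EGA4.mB A C)) h2
      rwa [map_sub, Ideal.Quotient.eq_zero_iff_mem.2 hw, sub_zero] at h3
    · show π (Ideal.Quotient.mk _ x) = 0
      show Ideal.Quotient.mk _ (algebraMap C B x) = 0
      rw [(RingHom.mem_ker).1 hx, map_zero]
  have hR' : IsLocalRing R' := inferInstance
  constructor
  · rintro ⟨rs, hrsJ, hwr, hfl⟩
    have hJm : J ≤ IsLocalRing.maximalIdeal C := IsLocalRing.le_maximalIdeal (RingHom.ker_ne_top _)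
    have hflB : Module.Flat A B := by
      have h := hfl rs.length le_rfl
      rw [List.take_length] at h
      let π₀ : C →ₐ[A] B := IsScalarTower.toAlgHom A C B
      exact Module.Flat.of_linearEquiv ((Ideal.quotientEquivAlgOfEq A
        (show Ideal.ofList rs = RingHom.ker π₀ from hrsJ)).trans
        (Ideal.quotientKerAlgEquivOfSurjective (f := π₀) hsurj)).toLinearEquiv.symm
    refine ⟨hflB, (Groth.Agent.CILib.isCI_iff_regular π hπ).2 ⟨rs.map (Ideal.Quotient.mk _), ?_, by
      rw [hker, ← Ideal.map_ofList, hrsJ]⟩⟩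
    refine Groth.Agent.RegLoc6.isRegular_iff_weakly (A := R') _ (fun r hr => ?_) ?_
    · obtain ⟨a, ha, rfl⟩ := List.mem_map.1 hr
      intro hu
      haveI : IsLocalHom (Ideal.Quotient.mk (EGA4.mB A C)) :=
        IsLocalHom.of_surjective _ Ideal.Quotient.mk_surjective
      exact hJm (hrsJ.le (Ideal.subset_span ha)) (isUnit_of_map_unit (Ideal.Quotient.mk (EGA4.mB A C)) a hu)
    letI : Algebra (A ⧸ IsLocalRing.maximalIdeal A) (C ⊗[A] (A ⧸ IsLocalRing.maximalIdeal A)) :=
      Algebra.TensorProduct.rightAlgebra
    have h1 := Groth.Agent.Triage.SliceFlat.isWeaklyRegular_baseChange (O := A) (A ⧸ IsLocalRing.maximalIdeal A)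
      (T' := C ⊗[A] (A ⧸ IsLocalRing.maximalIdeal A)) rs hwr (fun j => by
        rcases le_or_gt j rs.length with hj | hj
        · exact hfl j hj
        · rw [List.take_of_length_le hj.le]
          have h := hfl rs.length le_rfl
          rwa [List.take_length] at h)
    let e := (Algebra.TensorProduct.quotIdealMapEquivTensorQuot C (IsLocalRing.maximalIdeal A))
    refine (AddEquiv.isWeaklyRegular_congr (e := e.toRingEquiv.toAddEquiv)
      (as := rs.map (Ideal.Quotient.mk (EGA4.mB A C)))
      (bs := rs.map (algebraMap C (C ⊗[A] (A ⧸ IsLocalRing.maximalIdeal A)))) ?_).2 h1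
    rw [List.forall₂_map_left_iff, List.forall₂_map_right_iff]
    refine List.forall₂_same.2 fun a _ y => ?_
    show e (Ideal.Quotient.mk _ a * y) = algebraMap C _ a * e y
    rw [map_mul]
    congr 1
  · rintro ⟨hflB, hci⟩
    obtain ⟨rs', hrs', hkrs⟩ := (Groth.Agent.CILib.isCI_iff_regular π hπ).1 hci
    have hlift : ∀ l : List R', (∀ r ∈ l, r ∈ RingHom.ker π) →
        ∃ hs : List C, (∀ r ∈ hs, r ∈ J) ∧ hs.map (Ideal.Quotient.mk (EGA4.mB A C)) = l := by
      intro l
      induction l with
      | nil => exact fun _ => ⟨[], by simp, rfl⟩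
      | cons r l ih =>
        intro hl
        obtain ⟨hs, h1, h2⟩ := ih fun a ha => hl a (List.mem_cons_of_mem _ ha)
        obtain ⟨a, ha, har⟩ := (Ideal.mem_map_iff_of_surjective _ Ideal.Quotient.mk_surjective).1
          (hker.le (hl r (List.mem_cons_self ..)))
        exact ⟨a :: hs, fun b hb => (List.mem_cons.1 hb).elim (fun e => e ▸ ha) (h1 b),
          by rw [List.map_cons, har, h2]⟩
    obtain ⟨rs, hrsJ, hmaprs⟩ := hlift rs' fun r hr => hkrs.ge (Ideal.subset_span hr)
    have hgen : J = Ideal.ofList rs := by
      haveI := hflB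
      refine Groth.Agent.RegImmLib.eq_of_le_sup_of_flat (IsScalarTower.toAlgHom A C B) hsurj J (Ideal.ofList rs) rfl
        (IsNoetherian.noetherian J) (Ideal.span_le.2 hrsJ) fun x hx => ?_
      have h1 : Ideal.Quotient.mk (EGA4.mB A C) x ∈ (Ideal.ofList rs).map (Ideal.Quotient.mk (EGA4.mB A C)) := by
        rw [Ideal.map_ofList, hmaprs, ← hkrs, hker]
        exact Ideal.mem_map_of_mem _ hx
      rw [← Ideal.mem_comap, Ideal.comap_map_of_surjective _ Ideal.Quotient.mk_surjective,
        ← RingHom.ker_eq_comap_bot, Ideal.mk_ker] at h1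
      exact h1
    have htop : (IsLocalRing.maximalIdeal A).map (algebraMap A C) • (⊤ : Submodule C C) = EGA4.mB A C := by
      rw [smul_eq_mul, Ideal.mul_top]
    have hreg : ∀ l, l <+: rs → RingTheory.Sequence.IsWeaklyRegular
        (C ⧸ ((IsLocalRing.maximalIdeal A).map (algebraMap A C) • (⊤ : Submodule C C))) l := by
      intro l hl
      have h1 : RingTheory.Sequence.IsWeaklyRegular R' rs :=
        (RingTheory.Sequence.isWeaklyRegular_map_algebraMap_iff R' R' rs).1 (hmaprs ▸ hrs'.toIsWeaklyRegular)
      obtain ⟨t, rfl⟩ := hl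
      exact ((RingTheory.Sequence.isWeaklyRegular_append_iff _ l t).1
        (((Submodule.quotEquivOfEq _ _ htop).isWeaklyRegular_congr _).2 h1)).1
    refine ⟨rs, hgen.symm, (Groth.Agent.Synt29.weaklyRegular_and_flat_of_fibre (A := A) rs C
      (hreg rs (List.prefix_refl _))).1, fun j _ => ?_⟩
    haveI := (Groth.Agent.Synt29.weaklyRegular_and_flat_of_fibre (A := A) (rs.take j) C
      (hreg _ (List.take_prefix _ _))).2
    exact Module.Flat.of_linearEquiv ((Submodule.quotEquivOfEq _ (Ideal.ofList (rs.take j))
      (show (Ideal.ofList (rs.take j) • ⊤ : Submodule C C) = Ideal.ofList (rs.take j) by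
        rw [smul_eq_mul, Ideal.mul_top])).restrictScalars A).symm

end Groth.Agent.S5068
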