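import Groth.Statements.S5071
import Groth.Agent.S5802
import Groth.Agent.QRegBC.Basic
import Groth.Agent.PerfMor.FlatPC
import Groth.Agent.FlatModel.Local

set_option autoImplicit false
set_option backward.isDefEq.respectTransparency false
set_option backward.isDefEq.respectTransparency.types false
universe u
open CInt
open scoped TensorProduct

namespace Groth.Agent.S5071

/-- Let B be an A-algebra and J an ideal of B generated by a sequence which is transversally regular
relative to A. Then for n < m the module J^n/J^m is flat over A, and for every prime q of B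
containing J the localisation (J^n)_q is flat over A (modules regarded as A-modules by restriction
of scalars). -/
theorem result (A B : Type u) [CommRing A] [CommRing B] [Algebra A B]
    (rs : List B) (hrs : RegImm.IsTransRegularSeq A B rs) (n m : ℕ) (hnm : n < m) :
    Module.Flat A (RestrictScalars A B
      (↥(Ideal.ofList rs ^ n) ⧸ (Submodule.comap (Ideal.ofList rs ^ n).subtype (Ideal.ofList rs ^ m)))) ∧
      ∀ (q : Ideal B) [q.IsPrime], Ideal.ofList rs ≤ q →
        Module.Flat A (RestrictScalars A B (LocalizedModule q.primeCompl ↥(Ideal.ofList rs ^ n))) := by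
  let J := Ideal.ofList rs
  obtain ⟨hwr, hfl⟩ := hrs
  have hspan : Ideal.span (Set.range rs.get) = J :=
    congrArg Ideal.span (Set.ext fun z => List.mem_iff_get.symm.trans Iff.rfl)
  have hq : CAlgX.IsQuasiRegular rs.get := Groth.Agent.S5802.result B _ rs.get (by rw [List.ofFn_get]; exact hwr)
  haveI : Module.Flat A (B ⧸ Ideal.span (Set.range rs.get)) := by
    have h := hfl rs.length le_rfl
    rw [List.take_length] at h
    rw [hspan]; exact h
  have hflB : Module.Flat A B := by
    have h := hfl 0 (Nat.zero_le _)
    exact Module.Flat.of_linearEquiv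
      ((Submodule.quotEquivOfEqBot (Ideal.ofList (rs.take 0)) (by rw [List.take_zero, Ideal.ofList_nil])).restrictScalars A).symm
  have hk : ∀ k, Module.Flat A (B ⧸ J ^ k) := fun k => hspan ▸ Groth.Agent.QRegBC.flat_pow rs.get hq k
  haveI := hflB
  haveI := hk n
  haveI := hk m
  have hflpow : Module.Flat A ↥((J ^ n).restrictScalars A) := by
    haveI := Groth.Agent.PerfMor.flat_ker ((Ideal.Quotient.mkₐ A (J ^ n)).toLinearMap) Ideal.Quotient.mk_surjective
    exact Module.Flat.of_linearEquiv (LinearEquiv.ofEq ((J ^ n).restrictScalars A)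
      (LinearMap.ker ((Ideal.Quotient.mkₐ A (J ^ n)).toLinearMap)) (Submodule.ext fun x =>
      (Ideal.Quotient.eq_zero_iff_mem (I := J ^ n)).symm))
  refine ⟨?_, fun q _ _ => ?_⟩
  · let p : (B ⧸ J ^ m) →ₗ[A] (B ⧸ J ^ n) :=
      (Ideal.Quotient.factorₐ A (Ideal.pow_le_pow_right hnm.le)).toLinearMap
    haveI := Groth.Agent.PerfMor.flat_ker p (Ideal.Quotient.factor_surjective (Ideal.pow_le_pow_right hnm.le))
    let f₀ : ↥(J ^ n) →ₗ[B] (B ⧸ J ^ m) := (Submodule.mkQ (J ^ m)).comp (J ^ n).subtype
    have hker : LinearMap.ker f₀ = Submodule.comap (J ^ n).subtype (J ^ m) := by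
      rw [LinearMap.ker_comp, Submodule.ker_mkQ]
    let e : (↥(J ^ n) ⧸ Submodule.comap (J ^ n).subtype (J ^ m)) ≃ₗ[B] ↥(LinearMap.range f₀) :=
      (Submodule.quotEquivOfEq _ _ hker.symm).trans f₀.quotKerEquivRange
    have hrange : (LinearMap.range f₀).restrictScalars A = LinearMap.ker p := by
      ext y
      obtain ⟨b, rfl⟩ := Submodule.Quotient.mk_surjective _ y
      show (∃ x, f₀ x = _) ↔ Ideal.Quotient.mk (J ^ n) b = 0
      rw [Ideal.Quotient.eq_zero_iff_mem]
      constructor
      · rintro ⟨⟨x, hx⟩, hxb⟩
        have h := (Submodule.Quotient.eq _).1 hxb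
        rw [show b = x - (x - b) by ring]
        exact sub_mem hx (Ideal.pow_le_pow_right hnm.le h)
      · exact fun hb => ⟨⟨b, hb⟩, rfl⟩
    let e' : RestrictScalars A B (↥(J ^ n) ⧸ Submodule.comap (J ^ n).subtype (J ^ m)) ≃ₗ[A] ↥(LinearMap.ker p) :=
      { toFun := fun x => ⟨e ((RestrictScalars.addEquiv A B _) x), hrange.le (e _).2⟩
        map_add' := fun x y => by simp
        map_smul' := fun a x => by
          refine Subtype.ext ?_
          show ((e (algebraMap A B a • _) : ↥(LinearMap.range f₀)) : B ⧸ J ^ m) = a • _
          rw [map_smul, Submodule.coe_smul, algebraMap_smul]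
          rfl
        invFun := fun y => (RestrictScalars.addEquiv A B _).symm (e.symm ⟨y, hrange.ge y.2⟩)
        left_inv := fun x => by simp
        right_inv := fun y => by simp }
    exact Module.Flat.of_linearEquiv e'
  · haveI : Module.Flat A ↥(J ^ n) := hflpow
    let M := ↥(J ^ n)
    haveI : Module.Flat A (LocalizedModule q.primeCompl M) := by
      refine (Groth.Agent.FlatModel.flat_localized_iff q.primeCompl
        (LocalizedModule.mkLinearMap q.primeCompl M)).2 fun I y hy => ⟨1, one_mem _, ?_⟩
      rw [one_smul]
      exact Module.Flat.lTensor_preserves_injective_linearMap (M := M) I.subtype Subtype.val_injective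
        (hy.trans (map_zero _).symm)
    let N := LocalizedModule q.primeCompl M
    let e' : RestrictScalars A B N ≃ₗ[A] N :=
      { RestrictScalars.addEquiv A B N with
        map_smul' := fun a x => by
          show (RestrictScalars.addEquiv A B N) (a • x) = a • (RestrictScalars.addEquiv A B N) x
          rw [RestrictScalars.addEquiv_map_smul, algebraMap_smul] }
    exact Module.Flat.of_linearEquiv e'

end Groth.Agent.S5071
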