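import Groth.Statements.S5082
import Groth.Agent.MeroDepth.Basic

set_option autoImplicit false
universe u
open CategoryTheory CategoryTheory.Limits AlgebraicGeometry TopologicalSpace
open Mero

namespace Groth.Agent.S5082

/-- Let A be a Noetherian local ring. Then the group of divisors of Spec A is trivial (every divisor
equals the unit divisor, divisors being written multiplicatively) if and only if A has depth 0, that
is, if and only if every element of the maximal ideal of A is a zero-divisor. -/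
theorem result (A : Type u) [CommRing A] [IsNoetherianRing A] [IsLocalRing A] :
    (∀ D : Mero.Divisor (Spec (CommRingCat.of A)), D = 1) ↔ LocCoh.depth A A = 0 := by
  classical
  let X := Spec (CommRingCat.of A)
  haveI : IsLocallyNoetherian X := inferInstance
  let x₀ : X := IsLocalRing.closedPoint A
  have htop : ∀ U : X.Opens, x₀ ∈ U → U = ⊤ := fun U h => top_le_iff.mp fun y _ => (IsLocalRing.specializes_closedPoint y).mem_open U.2 h
  have hsub : Mero.regSub X ⊤ = nonZeroDivisors Γ(X, ⊤) :=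
    MeroX.regSub_eq_nonZeroDivisors (isAffineOpen_top X)
  let eΓ : A ≃+* Γ(X, ⊤) := (Scheme.ΓSpecIso (CommRingCat.of A)).symm.commRingCatIsoToRingEquiv
  have hdepth : LocCoh.depth A A = 0 ↔ ∀ b ∈ nonZeroDivisors A, IsUnit b := by
    rw [← not_iff_not, ← ne_eq, ← Order.one_le_iff_pos.trans pos_iff_ne_zero, Alg6.one_le_depth_iff]
    constructor
    · intro h hall
      obtain ⟨b, hb, hreg⟩ := (Alg6.exists_isSMulRegular_mem_iff (M := A) (IsLocalRing.maximalIdeal A)).mpr
        (fun p hp hle => h (by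
          rwa [(IsLocalRing.maximalIdeal.isMaximal A).eq_of_le (IsAssociatedPrime.isPrime hp).ne_top hle]))
      exact hb (hall b (mem_nonZeroDivisors_iff_right.mpr fun x hx => hreg (by simpa [mul_comm] using hx)))
    · intro h hass
      apply h
      intro b hb
      by_contra hu
      exact Alg6.isSMulRegular_iff_forall_ass.mp
        (show IsSMulRegular A b from fun u v huv => (mul_cancel_left_mem_nonZeroDivisors hb).mp huv) _ hass
        ((IsLocalRing.mem_maximalIdeal b).mpr hu)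
  rw [hdepth]
  constructor
  · intro hD b hb
    let b' : Γ(X, ⊤) := eΓ b
    have hb' : b' ∈ Mero.regSub X ⊤ := by
      rw [hsub]
      exact mem_nonZeroDivisors_iff_right.mpr fun x hx => eΓ.symm.injective (((mem_nonZeroDivisors_iff_right.mp hb) (eΓ.symm x) (by rw [← eΓ.symm_apply_apply b, ← map_mul, hx, map_zero])).trans (map_zero _).symm)
    let g : Γ(Mero.kmod X, ⊤) := Mero.toK X ⊤ b'
    let g' : Γ(Mero.kmod X, ⊤) := ⟨fun y => LocalizedModule.mk 1 (Mero.regGerm y ⟨b', hb'⟩),
      fun y => ⟨⊤, y.2, 𝟙 _, 1, ⟨b', hb'⟩, fun z => Mero.mk_congr (map_one _).symm rfl⟩⟩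
    have hgg : g * g' = 1 := Subtype.ext (funext fun y => by
      show (LocalizedModule.mk (X.presheaf.germ ⊤ y.1 y.2 b') 1 : Mero.KStalk X y.1) *
        LocalizedModule.mk 1 (Mero.regGerm y ⟨b', hb'⟩) = 1
      refine LocalizedModule.mk_mul_mk.trans ?_
      rw [mul_one, one_mul]
      exact Mero.mk_self_eq_one (Mero.regGerm y ⟨b', hb'⟩))
    let fu : (Γ(Mero.kmod X, ⊤))ˣ := ⟨g, g', hgg, by rw [mul_comm]; exact hgg⟩
    have h1 := congrArg (fun D : Mero.Divisor X => D.1 x₀) (hD (Mero.div fu))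
    obtain ⟨-, a, ha⟩ := (MeroDepth.mk_eq_one_iff x₀ _).mp h1
    have h2 : X.presheaf.germ ⊤ x₀ trivial b' * a = 1 := by
      apply Mero.algebraMap_KStalk_injective x₀
      rw [map_mul, ha, map_one]
      exact congrArg (fun t : Γ(Mero.kmod X, ⊤) => t.1 ⟨x₀, trivial⟩) hgg
    have h3 : IsUnit (X.presheaf.germ ⊤ x₀ trivial b') := IsUnit.of_mul_eq_one a h2
    obtain ⟨V, i, hxV, hu⟩ := RingedSpace.isUnit_res_of_isUnit_germ _ ⊤ b' x₀ trivial h3
    obtain rfl := htop V hxV
    have : IsUnit b' := by simpa [Subsingleton.elim i (𝟙 _)] using hu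
    exact (MulEquiv.isUnit_map eΓ.toMulEquiv).mp this
  · intro hunit D
    refine Subtype.ext (funext fun y => ?_)
    obtain ⟨U, hx₀, f, hU⟩ := D.2 x₀
    obtain rfl := htop U hx₀
    rw [hU ⟨y, trivial⟩]
    have hreg : ∀ g : Γ(Mero.kmod X, ⊤), MeroDepth.Reg y (Mero.evalK X ⊤ ⟨y, trivial⟩ g) := by
      intro g
      obtain ⟨W, hxW, i, a₀, b₀, hab⟩ := g.2 ⟨x₀, trivial⟩
      obtain rfl := htop W hxW
      have hbu : IsUnit (b₀.1 : Γ(X, ⊤)) := by
        have hb : (b₀.1 : Γ(X, ⊤)) ∈ nonZeroDivisors Γ(X, ⊤) := hsub ▸ b₀.2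
        obtain ⟨c, hc⟩ := eΓ.surjective b₀.1
        rw [← hc] at hb ⊢
        refine (hunit c ?_).map eΓ
        exact mem_nonZeroDivisors_iff_right.mpr fun x hx =>
          eΓ.injective (((mem_nonZeroDivisors_iff_right.mp hb) (eΓ x) (by rw [← map_mul, hx, map_zero])).trans (map_zero _).symm)
      obtain ⟨u, hu⟩ := hbu
      refine ⟨X.presheaf.germ ⊤ y trivial (↑u⁻¹ * a₀), ?_⟩
      change (LocalizedModule.mk (X.presheaf.germ ⊤ y trivial (↑u⁻¹ * a₀)) 1 : Mero.KStalk X y) = g.1 ⟨y, trivial⟩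
      rw [show g.1 ⟨y, trivial⟩ = _ from hab ⟨y, trivial⟩]
      refine LocalizedModule.mk_eq.2 ⟨1, ?_⟩
      simp only [one_smul, Submonoid.smul_def, smul_eq_mul]
      show X.presheaf.germ ⊤ y trivial b₀.1 * X.presheaf.germ ⊤ y trivial (↑u⁻¹ * a₀) =
        X.presheaf.germ ⊤ y trivial a₀
      rw [← map_mul, ← hu, ← mul_assoc, Units.mul_inv, one_mul]
    exact (MeroDepth.mk_eq_one_iff y _).mpr ⟨hreg f.val, hreg (f⁻¹).val⟩

end Groth.Agent.S5082
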