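import Groth.Statements.S5084
import Groth.Agent.AssPtX.Noeth
import Groth.Agent.MeroX.Basic
import Groth.Agent.QCoh.Sections
import Groth.Agent.Alg6.AssDepth

set_option autoImplicit false
universe u
open CategoryTheory CategoryTheory.Limits AlgebraicGeometry TopologicalSpace
open Mero

namespace Groth.Agent.S5084

/-- Let X be a locally Noetherian scheme and F a quasi-coherent O_X-module. Then F is torsion-free — the
canonical map from F to its sheaf of meromorphic sections K_X(F), m ↦ m/1, is a monomorphism, i.e.
at every point no germ of a regular function kills a nonzero element of the stalk of F — if and only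
if every associated point of F is an associated point of the structure sheaf (a point x such that
the maximal ideal of O_{X,x} is an associated prime of O_{X,x}). -/
theorem result (X : Scheme.{u}) [IsLocallyNoetherian X]
    (F : X.Modules) (hF : Coh.IsQCoh F) :
    Mono (Mero.toMer F) ↔
      ∀ x : ↥X, Curv2.IsAssPoint F x →
        IsAssociatedPrime (IsLocalRing.maximalIdeal ↑(X.presheaf.stalk x)) ↑(X.presheaf.stalk x) := by
  constructor
  · intro hmono x hx
    by_contra hass
    have hass' : IsLocalRing.maximalIdeal (X.presheaf.stalk x) ∉ associatedPrimes (X.presheaf.stalk x) (X.presheaf.stalk x) :=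
      hass
    haveI : IsNoetherianRing (X.presheaf.stalk x) := inferInstance
    obtain ⟨b, hb, hreg⟩ := (Alg6.exists_isSMulRegular_mem_iff (M := X.presheaf.stalk x)
      (IsLocalRing.maximalIdeal (X.presheaf.stalk x))).mpr (fun p hp hle => hass' (by
        rwa [(IsLocalRing.maximalIdeal.isMaximal _).eq_of_le (IsAssociatedPrime.isPrime hp).ne_top hle]))
    have hbn : b ∈ nonZeroDivisors (X.presheaf.stalk x) :=
      mem_nonZeroDivisors_iff_right.mpr fun y hy => hreg (by simpa [mul_comm] using hy)
    rw [← AssPtX.regStalk_eq x] at hbn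
    obtain ⟨U', hxU', b', hb', hgb⟩ := hbn
    obtain ⟨-, z, hz⟩ := isAssociatedPrime_iff.mp (show IsAssociatedPrime _ _ from hx)
    have hbz : b • z = 0 := by
      rw [hz, AssPtX.colon_bot_singleton] at hb
      exact WeakAss.mem_annEl.1 hb
    have hz0 : z ≠ 0 := fun h0 => (IsLocalRing.maximalIdeal.isMaximal (X.presheaf.stalk x)).ne_top (by
      rw [hz, AssPtX.colon_bot_singleton, Ideal.eq_top_iff_one]
      exact WeakAss.mem_annEl.2 ((congrArg _ h0).trans (smul_zero _)))
    obtain ⟨U, hxU, m, rfl⟩ := F.presheaf.exists_germ_eq z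
    let W : X.Opens := U ⊓ U'
    let m' : Γ(F, W) := F.presheaf.map (homOfLE (inf_le_left : W ≤ U)).op m
    let c : Γ(X, W) := X.presheaf.map (homOfLE (inf_le_right : W ≤ U')).op b'
    have hc : c ∈ Mero.regSub X W := Mero.regSub_res _ hb'
    have h1 : F.presheaf.germ W x ⟨hxU, hxU'⟩ (c • m') = F.presheaf.germ W x ⟨hxU, hxU'⟩ 0 := by
      rw [map_zero, Mero.germ_smul, X.presheaf.germ_res_apply, F.presheaf.germ_res_apply]
      rw [show X.presheaf.germ U' x hxU' b' = b from hgb]
      exact hbz
    obtain ⟨W', hxW', i, j, hW'⟩ := F.presheaf.germ_eq (U := W) (V := W) x ⟨hxU, hxU'⟩ ⟨hxU, hxU'⟩ _ _ h1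
    rw [map_zero] at hW'
    have hker : Mero.toMerFun F W' (F.presheaf.map i.op m') = 0 := Subtype.ext (funext fun y => by
      show (LocalizedModule.mk (F.presheaf.germ W' y.1 y.2 (F.presheaf.map i.op m')) 1 : Mero.MStalk F y.1) = 0
      rw [← LocalizedModule.zero_mk (1 : Mero.regStalk X y.1), LocalizedModule.mk_eq]
      refine ⟨Mero.regGerm y ⟨_, Mero.regSub_res i hc⟩, ?_⟩
      simp only [one_smul, smul_zero, Submonoid.smul_def]
      show X.presheaf.germ W' y.1 y.2 (X.presheaf.map i.op c) • F.presheaf.germ W' y.1 y.2 (F.presheaf.map i.op m') = 0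
      rw [X.presheaf.germ_res_apply, F.presheaf.germ_res_apply, ← Mero.germ_smul,
        ← F.presheaf.germ_res_apply i y.1 y.2, hW', map_zero])
    have hinj := QCoh.app_injective (Mero.toMer F) W'
    have hm0 : F.presheaf.map i.op m' = 0 := hinj (hker.trans (map_zero _).symm)
    apply hz0
    have h2 := congrArg (F.presheaf.germ W' x hxW').hom hm0
    rw [map_zero] at h2
    rw [← h2]
    exact ((F.presheaf.germ_res_apply i x hxW' m').trans (F.presheaf.germ_res_apply (homOfLE (inf_le_left : W ≤ U)) x ⟨hxU, hxU'⟩ m)).symm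
  · intro h
    refine QCoh.mono_of_app_injective _ fun U => ?_
    refine (injective_iff_map_eq_zero ((Mero.toMer F).app U).hom).2 fun m hm => ?_
    refine AssPtX.eq_zero_of_germ hF m fun y hy hya => ?_
    have h0 : (LocalizedModule.mk (F.presheaf.germ U y hy m) 1 : Mero.MStalk F y) = 0 :=
      congrArg (fun t : Γ(Mero.merMod F, U) => t.1 ⟨y, hy⟩) hm
    rw [← LocalizedModule.zero_mk (1 : Mero.regStalk X y), LocalizedModule.mk_eq] at h0
    obtain ⟨b, hb⟩ := h0
    simp only [one_smul, smul_zero] at hb
    have hbu : IsUnit (b : X.presheaf.stalk y) := by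
      by_contra hu
      have hbn := Mero.regStalk_le_nonZeroDivisors y b.2
      exact Alg6.isSMulRegular_iff_forall_ass.mp
        (show IsSMulRegular (X.presheaf.stalk y) (b : X.presheaf.stalk y) from
          fun u v huv => (mul_cancel_left_mem_nonZeroDivisors hbn).mp huv) _
        (h y (AssPtX.isAssPoint_iff.mpr hya)) ((IsLocalRing.mem_maximalIdeal _).mpr hu)
    exact hbu.smul_eq_zero.mp hb

end Groth.Agent.S5084
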