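import Groth.Statements.S5086
import Groth.Agent.AssPtX.Regular

set_option autoImplicit false
universe u
open CategoryTheory CategoryTheory.Limits AlgebraicGeometry TopologicalSpace
open Mero

namespace Groth.Agent.S5086

open Groth.Agent TopologicalSpace

variable {X : Scheme.{u}}

local notation "O_" => Coh.structureModule X

theorem germ_structureModule_eq_zero {U : X.Opens} (a : Γ(X, U)) {y : X} (hy : y ∈ U)
    (h1 : X.presheaf.germ U y hy a = 0) :
    (Coh.structureModule X).presheaf.germ U y hy a = 0 := by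
  obtain ⟨W, hyW, i, j, hW⟩ := TopCat.Presheaf.germ_eq X.presheaf y hy hy _ 0 (h1.trans (map_zero _).symm)
  rw [map_zero] at hW
  rw [← (Coh.structureModule X).presheaf.germ_res_apply i y hyW]
  exact (congrArg _ hW).trans (map_zero ((Coh.structureModule X).presheaf.germ W y hyW).hom)

theorem eq_zero_of_weakAss {U : X.Opens} (a : Γ(X, U))
    (h : ∀ (y : X) (hy : y ∈ U), Curv2.IsWeakAssPoint O_ y → X.presheaf.germ U y hy a = 0) : a = 0 :=
  AssPtX.eq_zero_of_germ (F := Coh.structureModule X) (U := U) QCoh.isQCoh_structureModule a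
    fun y hy hya => germ_structureModule_eq_zero a hy (h y hy hya)

/-- The witness criterion: a killed prime lies in a schematically dense open. -/
theorem mem_of_killed {W V : X.Opens} (hW : IsAffineOpen W)
    (hinj : Function.Injective ⇑(X.presheaf.map (homOfLE (inf_le_left : W ⊓ V ≤ W)).op))
    {x : X} (hxW : x ∈ W) (t : Γ(X, W)) (ht0 : t ≠ 0)
    (hkill : ∀ f ∈ (hW.primeIdealOf ⟨x, hxW⟩).asIdeal, f * t = 0) : x ∈ V := by
  by_contra hxV
  refine ht0 (hinj ?_)
  rw [map_zero]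
  refine TopCat.Presheaf.section_ext X.sheaf (W ⊓ V) _ 0 fun y hy => ?_
  refine Eq.trans ?_ (map_zero _).symm
  show X.presheaf.germ (W ⊓ V) y hy (X.presheaf.map (homOfLE inf_le_left).op t) = 0
  rw [X.presheaf.germ_res_apply]
  have hnle : ¬ (hW.primeIdealOf ⟨x, hxW⟩).asIdeal ≤ (hW.primeIdealOf ⟨y, hy.1⟩).asIdeal := fun hle =>
    hxV (((AssPtX.primeIdealOf_le_iff hW hxW hy.1).1 hle).mem_open V.2 hy.2)
  obtain ⟨f, hf, hfy⟩ := Set.not_subset.1 hnle
  have hu : IsUnit (X.presheaf.germ W y hy.1 f) :=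
    (X.mem_basicOpen f y hy.1).1 ((QCoh.mem_basicOpen_iff_notMem hW hy.1 f).2 hfy)
  refine hu.mul_left_cancel ?_
  rw [← map_mul, hkill f hf, map_zero, mul_zero]

theorem goodChart_noetherian [IsLocallyNoetherian X] {W V : X.Opens} (hW : IsAffineOpen W)
    (hinj : Function.Injective ⇑(X.presheaf.map (homOfLE (inf_le_left : W ⊓ V ≤ W)).op)) :
    {y : W | Curv2.IsWeakAssPoint O_ y.1}.Finite ∧
      ∀ y ∈ W, Curv2.IsWeakAssPoint O_ y → y ∈ V := by
  haveI : IsNoetherianRing Γ(X, W) := IsLocallyNoetherian.component_noetherian ⟨_, hW⟩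
  refine ⟨?_, fun y hy hya => ?_⟩
  · refine (((associatedPrimes.finite Γ(X, W) Γ(X, W)).preimage (f := fun P : PrimeSpectrum Γ(X, W) => P.asIdeal)
      (fun P _ Q _ h => PrimeSpectrum.ext h)).preimage (f := hW.primeIdealOf) ?_).subset fun y hya => ?_
    · intro a _ b _ h
      have := congrArg hW.fromSpec h
      rw [hW.fromSpec_primeIdealOf, hW.fromSpec_primeIdealOf] at this
      exact Subtype.ext this
    · exact AssPtX.weakAss_subset_associatedPrimes
        ((AssPtX.isWeakAssPoint_iff_sections QCoh.isQCoh_structureModule hW y.2).1 hya)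
  · obtain ⟨hpr, t, ht⟩ := WeakAss.mem_ass_of_mem_weakAss_of_fg (IsNoetherian.noetherian _)
      ((AssPtX.isWeakAssPoint_iff_sections QCoh.isQCoh_structureModule hW hy).1 hya)
    refine mem_of_killed hW hinj hy (QCoh.toFn t) (fun h0 => hpr.ne_top ?_)
      fun f hf => WeakAss.mem_annEl.1 (ht ▸ hf)
    rw [ht]
    exact top_unique fun r _ => WeakAss.mem_annEl.2
      (show r * QCoh.toFn t = 0 by rw [h0, mul_zero])

theorem goodChart_reduced [IsReduced X] {W V : X.Opens} (hW : IsAffineOpen W)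
    (hinj : Function.Injective ⇑(X.presheaf.map (homOfLE (inf_le_left : W ⊓ V ≤ W)).op))
    (hfin : {Z : Set X | Z ∈ irreducibleComponents X ∧ (Z ∩ (W : Set X)).Nonempty}.Finite) :
    {y : W | Curv2.IsWeakAssPoint O_ y.1}.Finite ∧
      ∀ y ∈ W, Curv2.IsWeakAssPoint O_ y → y ∈ V := by
  classical
  have hmax : ∀ y : X, Curv2.IsWeakAssPoint O_ y ↔ ∀ z : X, z ⤳ y → z = y := fun y =>
    AssPtX.isWeakAssPoint_structureModule_iff QCoh.isQCoh_structureModule y
  have hfin' : {y : W | Curv2.IsWeakAssPoint O_ y.1}.Finite := by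
    refine (hfin.preimage (f := fun y : W => closure ({y.1} : Set X)) ?_).subset fun y hy => ⟨?_, ⟨y.1, subset_closure rfl, y.2⟩⟩
    · intro a ha b hb h
      have ha' : ∀ z, z ⤳ b.1 → z = b.1 := by
        intro z hz
        obtain ⟨w, hw⟩ : ∃ w, IsGenericPoint w (closure ({b.1} : Set X)) := ⟨b.1, rfl⟩
        have h2 : closure ({b.1} : Set X) ⊆ closure {z} := specializes_iff_closure_subset.mp hz
        have h3 : closure ({z} : Set X) ⊆ closure {b.1} := by
          rw [irreducibleComponents_eq_maximals_closed] at hb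
          exact hb.1.2 ⟨isClosed_closure, isIrreducible_singleton.closure⟩ h2
        exact (hz.antisymm (specializes_iff_closure_subset.mpr h3)).eq
      exact Subtype.ext (ha' a.1 (specializes_iff_closure_subset.mpr h.ge))
    · rw [irreducibleComponents_eq_maximals_closed]
      refine ⟨⟨isClosed_closure, isIrreducible_singleton.closure⟩, fun Z hZ hle => ?_⟩
      obtain ⟨z, hz⟩ := QuasiSober.sober hZ.2 hZ.1
      have hzx : z ⤳ y.1 := by
        refine specializes_iff_mem_closure.mpr ?_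
        rw [hz.def]
        exact hle (subset_closure rfl)
      rw [(hmax y.1).1 hy z hzx] at hz
      exact hz.def.ge
  refine ⟨hfin', fun y hy hya => ?_⟩
  let y₀ : W := ⟨y, hy⟩
  have hsep : ∀ z ∈ hfin'.toFinset, z ≠ y₀ → ∃ c ∈ (hW.primeIdealOf z).asIdeal, c ∉ (hW.primeIdealOf y₀).asIdeal :=
    fun z hz hne => Set.not_subset.1 fun hle => hne (Subtype.ext
      ((hmax y).1 hya z.1 ((AssPtX.primeIdealOf_le_iff hW z.2 hy).1 hle)))
  choose! c hc hc' using hsep
  let t : Γ(X, W) := ∏ z ∈ hfin'.toFinset.erase y₀, c z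
  have ht : t ∉ (hW.primeIdealOf y₀).asIdeal := fun h => by
    obtain ⟨z, hz, hz'⟩ := (Ideal.IsPrime.prod_mem_iff (hp := (hW.primeIdealOf y₀).isPrime)).1 h
    exact hc' z (Finset.mem_of_mem_erase hz) (Finset.ne_of_mem_erase hz) hz'
  refine mem_of_killed hW hinj hy t (fun h0 => ht (h0 ▸ Ideal.zero_mem _)) fun f hf => ?_
  refine eq_zero_of_weakAss _ fun z hz hza => ?_
  have hmem : f * t ∈ (hW.primeIdealOf ⟨z, hz⟩).asIdeal := by
    by_cases h : (⟨z, hz⟩ : W) = y₀
    · rw [h]; exact Ideal.mul_mem_right _ _ hf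
    · refine Ideal.mul_mem_left _ _ (Ideal.prod_mem _
        (Finset.mem_erase.2 ⟨h, hfin'.mem_toFinset.2 hza⟩) ?_)
      exact hc _ (hfin'.mem_toFinset.2 hza) h
  by_contra hne
  letI := QCoh.stalkAlg (X := X) hz
  haveI := QCoh.isLocalization_stalk' hW hz
  -- the stalk at a maximal point of a reduced scheme is a field
  have hnu : ¬ IsUnit (X.presheaf.germ W z hz (f * t)) :=
    (IsLocalRing.mem_maximalIdeal _).1 ((IsLocalization.AtPrime.to_map_mem_maximal_iff (X.presheaf.stalk z)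
      (hW.primeIdealOf ⟨z, hz⟩).asIdeal (f * t)).mpr hmem)
  refine hne ?_
  have hall : ∀ q : Ideal (X.presheaf.stalk z), q.IsPrime → q = IsLocalRing.maximalIdeal _ := by
    intro q hq
    refine le_antisymm (IsLocalRing.le_maximalIdeal hq.ne_top) ?_
    obtain ⟨w, hw, hwq⟩ := QCoh.exists_point hW ⟨q.comap (algebraMap Γ(X, W) _), Ideal.IsPrime.comap _⟩
    have hwle : (hW.primeIdealOf ⟨w, hw⟩).asIdeal ≤ (hW.primeIdealOf ⟨z, hz⟩).asIdeal := by
      rw [hwq, ← IsLocalization.AtPrime.comap_maximalIdeal (X.presheaf.stalk z) (hW.primeIdealOf ⟨z, hz⟩).asIdeal]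
      exact Ideal.comap_mono (IsLocalRing.le_maximalIdeal hq.ne_top)
    have hwz := (hmax z).1 hza w ((AssPtX.primeIdealOf_le_iff hW hw hz).1 hwle)
    subst hwz
    have h1 : q.comap (algebraMap Γ(X, W) (X.presheaf.stalk w)) = (hW.primeIdealOf ⟨w, hz⟩).asIdeal := by
      rw [hwq]
    conv_rhs => rw [← IsLocalization.map_comap (hW.primeIdealOf ⟨w, hz⟩).asIdeal.primeCompl _ q]
    rw [Ideal.under, h1]
    exact (IsLocalization.AtPrime.map_eq_maximalIdeal _ _).ge
  refine IsNilpotent.eq_zero ?_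
  rw [← mem_nilradical, nilradical_eq_sInf, Submodule.mem_sInf]
  intro q hq
  rw [hall q hq]
  exact hnu

/-- A pseudo-function is locally a fraction. -/
theorem exists_fraction {W V : X.Opens} (hW : IsAffineOpen W)
    (hfin : {y : W | Curv2.IsWeakAssPoint O_ y.1}.Finite)
    (hmem : ∀ y ∈ W, Curv2.IsWeakAssPoint O_ y → y ∈ V) (g : Γ(X, V)) :
    ∃ (a : Γ(X, W)) (b : Mero.regSub X W), ∀ (y : X) (hy : y ∈ W) (hyV : y ∈ V),
      X.presheaf.germ W y hy a = X.presheaf.germ W y hy b.1 * X.presheaf.germ V y hyV g := by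
  classical
  have hb : ∀ y : W, y.1 ∈ V → ∃ f : Γ(X, W), X.basicOpen f ≤ V ∧ y.1 ∈ X.basicOpen f := fun y hy =>
    hW.exists_basicOpen_le ⟨y.1, hy⟩ y.2
  choose! φ hφ hφy using hb
  have hφV : ∀ y ∈ hfin.toFinset, y.1 ∈ V := fun y hy => hmem y.1 y.2 (hfin.mem_toFinset.1 hy)
  let J : Ideal Γ(X, W) := Ideal.span (φ '' {y | y ∈ hfin.toFinset})
  obtain ⟨c, hcJ, hc⟩ : ∃ c ∈ J, ∀ y ∈ hfin.toFinset, c ∉ (hW.primeIdealOf y).asIdeal := by
    by_contra hcon
    push Not at hcon
    have hsub : (J : Set Γ(X, W)) ⊆ ⋃ y ∈ {y | y ∈ hfin.toFinset}, ((hW.primeIdealOf y).asIdeal : Set Γ(X, W)) :=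
      fun a ha => by
        obtain ⟨y, hy, hay⟩ := hcon a ha
        exact Set.mem_iUnion₂.2 ⟨y, hy, hay⟩
    rcases hfin.toFinset.eq_empty_or_nonempty with he | ⟨y₁, hy₁⟩
    · have := hsub (Ideal.zero_mem _)
      simp [he] at this
    obtain ⟨y, hy, hle⟩ := (Ideal.subset_union_prime y₁ y₁ (fun y _ _ _ => (hW.primeIdealOf y).isPrime)).1 hsub
    exact (QCoh.mem_basicOpen_iff_notMem hW y.2 (φ y)).1 (hφy y (hφV y hy))
      (hle (Ideal.subset_span ⟨y, hy, rfl⟩))
  have hDc : X.basicOpen c ≤ V := by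
    intro z hz
    have hzW : z ∈ W := X.basicOpen_le c hz
    by_contra hzV
    refine (QCoh.mem_basicOpen_iff_notMem hW hzW c).1 hz ?_
    refine (Ideal.span_le.2 ?_) hcJ
    rintro _ ⟨y, hy, rfl⟩
    by_contra hn
    exact hzV (hφ y (hφV y hy) ((QCoh.mem_basicOpen_iff_notMem hW hzW (φ y)).2 hn))
  haveI := hW.isLocalization_basicOpen c
  obtain ⟨m, a, ha⟩ := IsLocalization.Away.surj c (X.presheaf.map (homOfLE hDc).op g)
  have hcunit : ∀ (y : W), Curv2.IsWeakAssPoint O_ y.1 → y.1 ∈ X.basicOpen c := fun y hy =>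
    (QCoh.mem_basicOpen_iff_notMem hW y.2 c).2 (hc y (hfin.mem_toFinset.2 hy))
  have hreg : c ^ m ∈ Mero.regSub X W := AssPtX.germ_mem_nonZeroDivisors_of_weakAss _ fun z hz hza => by
    rw [map_pow]
    exact ((X.mem_basicOpen c z hz).1 (hcunit ⟨z, hz⟩ hza)).pow m
  refine ⟨a, ⟨c ^ m, hreg⟩, fun y hy hyV => ?_⟩
  have hzero : X.presheaf.map (homOfLE (inf_le_left : W ⊓ V ≤ W)).op a -
      X.presheaf.map (homOfLE (inf_le_left : W ⊓ V ≤ W)).op (c ^ m) *
        X.presheaf.map (homOfLE (inf_le_right : W ⊓ V ≤ V)).op g = 0 := by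
    refine eq_zero_of_weakAss _ fun z hz hza => ?_
    have hzc : z ∈ X.basicOpen c := hcunit ⟨z, hz.1⟩ hza
    have h := congrArg (X.presheaf.germ (X.basicOpen c) z hzc) ha
    rw [RingHom.algebraMap_toAlgebra] at h
    rw [map_mul, map_pow, X.presheaf.germ_res_apply] at h
    have e1 : ∀ w : Γ(X, W), X.presheaf.germ (X.basicOpen c) z hzc
        (X.presheaf.map (homOfLE (X.basicOpen_le c)).op w) = X.presheaf.germ W z hz.1 w := fun w =>
      X.presheaf.germ_res_apply _ z hzc w
    erw [e1, e1] at h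
    rw [map_sub, map_mul, X.presheaf.germ_res_apply, X.presheaf.germ_res_apply, X.presheaf.germ_res_apply,
      map_pow, ← h]
    ring
  have h' := congrArg (X.presheaf.germ (W ⊓ V) y ⟨hy, hyV⟩) hzero
  rw [map_sub, map_zero, map_mul, X.presheaf.germ_res_apply, X.presheaf.germ_res_apply,
    X.presheaf.germ_res_apply, sub_eq_zero] at h'
  exact h'


/-- Let X be a scheme which is either locally Noetherian, or reduced with locally finite set of
irreducible components (every point has an open neighbourhood meeting only finitely many irreducible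
components). Let U be an open subset, V an open subset of U schematically dense in U (restriction of
functions from every open W ⊆ U to W ∩ V is injective) and g a function on V. Then there is a
section of the sheaf of meromorphic functions K_X over U whose restriction to V is g/1; with part
(i), meromorphic functions over U are exactly the pseudo-functions on U. -/
theorem result (X : Scheme.{u})
    (hX : IsLocallyNoetherian X ∨ (IsReduced X ∧ ∀ x : ↥X, ∃ W : X.Opens, x ∈ W ∧
      {Z : Set ↥X | Z ∈ irreducibleComponents ↥X ∧ (Z ∩ (W : Set ↥X)).Nonempty}.Finite))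
    (U V : X.Opens) (hVU : V ≤ U)
    (hV : ∀ W : X.Opens, W ≤ U →
      Function.Injective ⇑(X.presheaf.map (homOfLE (inf_le_left : W ⊓ V ≤ W)).op))
    (g : Γ(X, V)) :
    ∃ s : Γ(Mero.kmod X, U), (Mero.kmod X).presheaf.map (homOfLE hVU).op s = Mero.toK X V g := by
  have chart : ∀ x : U, ∃ (W : X.Opens) (hWU : W ≤ U) (_ : x.1 ∈ W) (a : Γ(X, W)) (b : Mero.regSub X W),
      (∀ y ∈ W, Curv2.IsWeakAssPoint (Coh.structureModule X) y → y ∈ V) ∧
      ∀ (y : X) (hy : y ∈ W) (hyV : y ∈ V),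
        X.presheaf.germ W y hy a = X.presheaf.germ W y hy b.1 * X.presheaf.germ V y hyV g := by
    intro x
    rcases hX with hN | ⟨hR, hfinC⟩
    · obtain ⟨W, hW, hxW, hWU⟩ := exists_isAffineOpen_mem_and_subset (x := x.1) (U := U) x.2
      replace hWU : W ≤ U := hWU
      obtain ⟨h1, h2⟩ := goodChart_noetherian hW (hV W hWU)
      obtain ⟨a, b, hab⟩ := exists_fraction hW h1 h2 g
      exact ⟨W, hWU, hxW, a, b, h2, hab⟩
    · obtain ⟨W₀, hxW₀, hW₀⟩ := hfinC x.1
      obtain ⟨W, hW, hxW, hWU⟩ := exists_isAffineOpen_mem_and_subset (x := x.1) (U := U ⊓ W₀) ⟨x.2, hxW₀⟩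
      replace hWU : W ≤ U ⊓ W₀ := hWU
      obtain ⟨h1, h2⟩ := goodChart_reduced hW (hV W (hWU.trans inf_le_left))
        (hW₀.subset fun Z hZ => ⟨hZ.1, hZ.2.mono (Set.inter_subset_inter_right _ (hWU.trans inf_le_right))⟩)
      obtain ⟨a, b, hab⟩ := exists_fraction hW h1 h2 g
      exact ⟨W, hWU.trans inf_le_left, hxW, a, b, h2, hab⟩
  choose W hWU hxW a b hWV hab using chart
  let val : ∀ x : U, Mero.KStalk X x.1 := fun x =>
    LocalizedModule.mk (X.presheaf.germ (W x) x.1 (hxW x) (a x)) (Mero.regGerm ⟨x.1, hxW x⟩ (b x))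
  have hagree : ∀ (x : U) (y : X) (hy : y ∈ W x), val ⟨y, hWU x hy⟩ =
      LocalizedModule.mk (X.presheaf.germ (W x) y hy (a x)) (Mero.regGerm ⟨y, hy⟩ (b x)) := by
    intro x y hy
    let x' : U := ⟨y, hWU x hy⟩
    let T : X.Opens := W x' ⊓ W x
    let i₁ : T ⟶ W x' := homOfLE inf_le_left
    let i₂ : T ⟶ W x := homOfLE inf_le_right
    have hzero : X.presheaf.map i₁.op (a x') * X.presheaf.map i₂.op (b x).1 -
        X.presheaf.map i₂.op (a x) * X.presheaf.map i₁.op (b x').1 = 0 := by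
      refine eq_zero_of_weakAss _ fun z hz hza => ?_
      have hzV : z ∈ V := hWV x z hz.2 hza
      rw [map_sub, map_mul, map_mul, X.presheaf.germ_res_apply, X.presheaf.germ_res_apply,
        X.presheaf.germ_res_apply, X.presheaf.germ_res_apply, hab x' z hz.1 hzV, hab x z hz.2 hzV]
      ring
    have h' := congrArg (X.presheaf.germ T y ⟨hxW x', hy⟩) hzero
    rw [map_sub, map_zero, map_mul, map_mul, X.presheaf.germ_res_apply, X.presheaf.germ_res_apply,
      X.presheaf.germ_res_apply, X.presheaf.germ_res_apply, sub_eq_zero] at h'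
    refine LocalizedModule.mk_eq.2 ⟨1, ?_⟩
    simp only [one_smul, Submonoid.smul_def, smul_eq_mul]
    linear_combination h'
  refine ⟨⟨val, fun x => ⟨W x, hxW x, homOfLE (hWU x), a x, b x, fun y => hagree x y.1 y.2⟩⟩, ?_⟩
  refine Subtype.ext (funext fun y => ?_)
  show val ⟨y.1, hVU y.2⟩ = LocalizedModule.mk (X.presheaf.germ V y.1 y.2 g) 1
  refine LocalizedModule.mk_eq.2 ⟨1, ?_⟩
  simp only [one_smul, Submonoid.smul_def, smul_eq_mul]
  rw [hab ⟨y.1, hVU y.2⟩ y.1 (hxW _) y.2]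

end Groth.Agent.S5086
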