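import Groth.Statements.S5088
import Groth.Agent.MeroReg.Ratios
import Groth.Agent.S5086

set_option autoImplicit false
universe u
open CategoryTheory CategoryTheory.Limits AlgebraicGeometry TopologicalSpace
open Mero

namespace Groth.Agent.S5088

open Groth.Agent

variable {X : Scheme.{u}}

theorem isAssociatedPrime_of_isWeakAssPoint [IsLocallyNoetherian X] (x : X)
    (hx : Curv2.IsWeakAssPoint (Coh.structureModule X) x) :
    IsAssociatedPrime (IsLocalRing.maximalIdeal (X.presheaf.stalk x)) (X.presheaf.stalk x) := by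
  obtain ⟨V, hV, hxV, -⟩ := exists_isAffineOpen_mem_and_subset (x := x) (U := ⊤) trivial
  letI := QCoh.stalkAlg (X := X) hxV
  haveI := QCoh.isLocalization_stalk' hV hxV
  haveI : IsLocalizedModule (hV.primeIdealOf ⟨x, hxV⟩).asIdeal.primeCompl
      (Algebra.linearMap Γ(X, V) (X.presheaf.stalk x)) := inferInstance
  have h0 : (hV.primeIdealOf ⟨x, hxV⟩).asIdeal ∈ FlatCA.weakAss Γ(X, V) Γ(X, V) :=
    (AssPtX.isWeakAssPoint_iff_sections QCoh.isQCoh_structureModule hV hxV).1 hx
  have h1 := (WeakAss.mem_weakAss_iff_map (hV.primeIdealOf ⟨x, hxV⟩).asIdeal.primeCompl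
    (R' := X.presheaf.stalk x) (Algebra.linearMap Γ(X, V) (X.presheaf.stalk x))
    (p := (hV.primeIdealOf ⟨x, hxV⟩).asIdeal) (Set.disjoint_left.2 fun _ h h' => h h')).1 h0
  rw [IsLocalization.AtPrime.map_eq_maximalIdeal] at h1
  exact AssPtX.weakAss_subset_associatedPrimes h1

theorem isUnit_germ_of_regSub [IsLocallyNoetherian X] {V : X.Opens} (b : Mero.regSub X V) (z : X) (hz : z ∈ V)
    (hza : Curv2.IsWeakAssPoint (Coh.structureModule X) z) : IsUnit (X.presheaf.germ V z hz b.1) := by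
  by_contra hu
  obtain ⟨hpr, m, hm⟩ := isAssociatedPrime_iff.1 (isAssociatedPrime_of_isWeakAssPoint z hza)
  have hmem : X.presheaf.germ V z hz b.1 ∈ (⊥ : Submodule (X.presheaf.stalk z) (X.presheaf.stalk z)).colon {m} :=
    hm ▸ (IsLocalRing.mem_maximalIdeal _).2 hu
  rw [Submodule.mem_colon_singleton, Submodule.mem_bot, smul_eq_mul] at hmem
  have hm0 : m = 0 := (mul_left_mem_nonZeroDivisors_eq_zero_iff (b.2 ⟨z, hz⟩)).1 hmem
  refine hpr.ne_top (hm.trans ?_)
  rw [hm0]
  exact top_unique fun r _ => Submodule.mem_colon_singleton.2 (by simp)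

theorem finite_weakAss [IsLocallyNoetherian X] {V : X.Opens} (hV : IsAffineOpen V) :
    {y : V | Curv2.IsWeakAssPoint (Coh.structureModule X) y.1}.Finite := by
  haveI : IsNoetherianRing Γ(X, V) := IsLocallyNoetherian.component_noetherian ⟨_, hV⟩
  refine (((associatedPrimes.finite Γ(X, V) Γ(X, V)).preimage (f := fun P : PrimeSpectrum Γ(X, V) => P.asIdeal)
      (fun P _ Q _ h => PrimeSpectrum.ext h)).preimage (f := hV.primeIdealOf) ?_).subset fun y hya => ?_
  · intro a _ b _ h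
    have := congrArg hV.fromSpec h
    rw [hV.fromSpec_primeIdealOf, hV.fromSpec_primeIdealOf] at this
    exact Subtype.ext this
  · exact AssPtX.weakAss_subset_associatedPrimes
      ((AssPtX.isWeakAssPoint_iff_sections QCoh.isQCoh_structureModule hV y.2).1 hya)

/-- An invertible module over an affine open has a section generating at finitely many given points. -/
theorem exists_generating_section {L : X.Modules} (hL : PicF.IsInvertible L) {W : X.Opens} (hW : IsAffineOpen W)
    {S : Set W} (hS : S.Finite) :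
    ∃ m : Γ(L, W), ∀ y ∈ S, ∀ (U : X.Opens) (hy : y.1 ∈ U) (e : Γ(L, U)), InvX.IsFrame e →
      ∀ t : X.presheaf.stalk y.1, t • L.presheaf.germ U y.1 hy e = L.presheaf.germ W y.1 y.2 m → IsUnit t := by
  classical
  choose U₀ hU₀ e₀ he₀ using InvX.exists_frame hL
  have hbij := fun y : W => (he₀ y.1).germ_bijective (hU₀ y.1)
  -- the coordinate of a section at a point
  choose co hco using fun (y : W) (m : Γ(L, W)) => (hbij y).2 (L.presheaf.germ W y.1 y.2 m)
  dsimp only at hco
  have hadd : ∀ (y : W) (ι : Finset W) (c : W → Γ(X, W)) (f : W → Γ(L, W)), co y (∑ z ∈ ι, c z • f z) =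
      ∑ z ∈ ι, X.presheaf.germ W y.1 y.2 (c z) * co y (f z) := by
    intro y ι c f
    refine (hbij y).1 ?_
    dsimp only
    rw [hco, Finset.sum_smul, map_sum]
    refine Finset.sum_congr rfl fun z _ => ?_
    rw [Mero.germ_smul, mul_smul, hco]
  have hgen : ∀ y : W, ∃ m : Γ(L, W), IsUnit (co y m) := by
    intro y
    letI := QCoh.stalkAlg (X := X) y.2
    letI := QCoh.stalkModule L y.2
    haveI := QCoh.isScalarTower_stalk L y.2
    haveI := QCoh.isLocalizedModule_germLin (ProjUPX.isQCoh_of_isInvertible hL) hW y.2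
    obtain ⟨⟨m, s⟩, hms⟩ := IsLocalizedModule.surj (hW.primeIdealOf y).asIdeal.primeCompl
      (QCoh.germLin L y.2) (L.presheaf.germ (U₀ y.1) y.1 (hU₀ y.1) (e₀ y.1))
    refine ⟨m, ?_⟩
    have h1 : co y m = X.presheaf.germ W y.1 y.2 s.1 := (hbij y).1 (by
      dsimp only
      rw [hco]
      exact hms.symm)
    rw [h1]
    exact (X.mem_basicOpen s.1 y.1 y.2).1 ((QCoh.mem_basicOpen_iff_notMem hW y.2 s.1).2 s.2)
  choose f hf using hgen
  let P : W → Ideal Γ(X, W) := fun y => (hW.primeIdealOf y).asIdeal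
  let M : Finset W := hS.toFinset.filter fun y => ∀ z ∈ hS.toFinset, P y ≤ P z → P z ≤ P y
  have hPinj : ∀ y z : W, P y = P z → y = z := fun y z h => by
    have h' := congrArg hW.fromSpec (PrimeSpectrum.ext h : hW.primeIdealOf y = hW.primeIdealOf z)
    rw [hW.fromSpec_primeIdealOf, hW.fromSpec_primeIdealOf] at h'
    exact Subtype.ext h'
  have hsep : ∀ y ∈ M, ∀ z ∈ M.erase y, ∃ c, c ∈ P z ∧ c ∉ P y := fun y hy z hz =>
    Set.not_subset.1 fun hle => Finset.ne_of_mem_erase hz (hPinj z y (le_antisymm hle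
      ((Finset.mem_filter.1 (Finset.mem_of_mem_erase hz)).2 y (Finset.mem_filter.1 hy).1 hle)))
  choose! c hc hc' using hsep
  let el : W → Γ(X, W) := fun y => ∏ z ∈ M.erase y, c y z
  refine ⟨∑ y ∈ M, el y • f y, fun y hy U hyU e he t ht => ?_⟩
  obtain ⟨z, hzM, hyz⟩ : ∃ z ∈ M, P y ≤ P z := by
    obtain ⟨z, hz, hmax⟩ := Finset.exists_maximalFor P (hS.toFinset.filter fun z => P y ≤ P z)
      ⟨y, Finset.mem_filter.2 ⟨hS.mem_toFinset.2 hy, le_rfl⟩⟩
    exact ⟨z, Finset.mem_filter.2 ⟨(Finset.mem_filter.1 hz).1, fun w hw hle =>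
      hmax (Finset.mem_filter.2 ⟨hw, (Finset.mem_filter.1 hz).2.trans hle⟩) hle⟩, (Finset.mem_filter.1 hz).2⟩
  -- the coordinate at the maximal point `z` is a unit
  have hz : IsUnit (co z (∑ y ∈ M, el y • f y)) := by
    rw [hadd, ← Finset.sum_sdiff (Finset.singleton_subset_iff.2 hzM), Finset.sum_singleton, add_comm]
    have h1 : IsUnit (X.presheaf.germ W z.1 z.2 (el z) * co z (f z)) := by
      refine IsUnit.mul ((X.mem_basicOpen (el z) z.1 z.2).1 ((QCoh.mem_basicOpen_iff_notMem hW z.2 _).2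
        fun h => ?_)) (hf z)
      obtain ⟨w, hw, hw'⟩ := (Ideal.IsPrime.prod_mem_iff (hp := (hW.primeIdealOf z).isPrime)).1 h
      exact hc' z hzM w hw hw'
    have h2 : ∑ y ∈ M \ {z}, X.presheaf.germ W z.1 z.2 (el y) * co z (f y) ∈
        IsLocalRing.maximalIdeal (X.presheaf.stalk z.1) := by
      refine Ideal.sum_mem _ fun w hw => Ideal.mul_mem_right _ _ ((IsLocalRing.mem_maximalIdeal _).2 fun hu => ?_)
      obtain ⟨hwM, hwz⟩ := Finset.mem_sdiff.1 hw
      have hmem : el w ∈ P z := Ideal.prod_mem _ (Finset.mem_erase.2 ⟨fun h => hwz (Finset.mem_singleton.2 h.symm), hzM⟩)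
        (hc w hwM z (Finset.mem_erase.2 ⟨fun h => hwz (Finset.mem_singleton.2 h.symm), hzM⟩))
      exact (QCoh.mem_basicOpen_iff_notMem hW z.2 (el w)).1 ((X.mem_basicOpen (el w) z.1 z.2).2 hu) hmem
    by_contra hnu
    have hsum := ((IsLocalRing.mem_maximalIdeal _).2 hnu)
    exact (IsLocalRing.mem_maximalIdeal _).1 ((Ideal.add_mem_iff_left _ h2).1 hsum) h1
  -- hence also at its generization `y`
  obtain ⟨g, hg⟩ := (he₀ z.1).exists_coord (inf_le_right : W ⊓ U₀ z.1 ≤ U₀ z.1)
    (AModX.res L inf_le_left (∑ y ∈ M, el y • f y))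
  have hgerm : ∀ (w : X) (hw : w ∈ W ⊓ U₀ z.1), L.presheaf.germ W w hw.1 (∑ y ∈ M, el y • f y) =
      X.presheaf.germ (W ⊓ U₀ z.1) w hw g • L.presheaf.germ (U₀ z.1) w hw.2 (e₀ z.1) := by
    intro w hw
    have h1 := congrArg (L.presheaf.germ (W ⊓ U₀ z.1) w hw) hg
    rw [Mero.germ_smul] at h1
    erw [L.presheaf.germ_res_apply, L.presheaf.germ_res_apply] at h1
    exact h1
  have hzU : z.1 ∈ W ⊓ U₀ z.1 := ⟨z.2, hU₀ z.1⟩
  have hzg : z.1 ∈ X.basicOpen g := (X.mem_basicOpen g z.1 hzU).2 (by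
    have h1 : co z (∑ y ∈ M, el y • f y) = X.presheaf.germ _ z.1 hzU g := (hbij z).1 (by
      dsimp only
      rw [hco, hgerm z.1 hzU])
    rwa [← h1])
  have hyg : y.1 ∈ X.basicOpen g :=
    ((AssPtX.primeIdealOf_le_iff hW y.2 z.2).1 hyz).mem_open (X.basicOpen g).2 hzg
  have hyU0 : y.1 ∈ W ⊓ U₀ z.1 := X.basicOpen_le g hyg
  obtain ⟨t', ht'⟩ := (he.germ_bijective hyU).2 (L.presheaf.germ (U₀ z.1) y.1 hyU0.2 (e₀ z.1))
  obtain ⟨t'', ht''⟩ := ((he₀ z.1).germ_bijective hyU0.2).2 (L.presheaf.germ U y.1 hyU e)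
  dsimp only at ht' ht''
  have htu : IsUnit t' := IsUnit.of_mul_eq_one_right t'' ((he.germ_bijective hyU).1 (by
    dsimp only
    rw [mul_smul, ht', ht'', one_smul]))
  have : t = X.presheaf.germ _ y.1 hyU0 g * t' := (he.germ_bijective hyU).1 (by
    dsimp only
    rw [mul_smul, ht', ht, hgerm y.1 hyU0])
  rw [this]
  exact ((X.mem_basicOpen g y.1 hyU0).1 hyg).mul htu

/-- Case a): let X be a locally Noetherian scheme such that the set of associated points of O_X (the
points x such that the maximal ideal of O_{X,x} is an associated prime of O_{X,x}) is contained in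
an affine open subset of X. Then every invertible O_X-module is isomorphic to O_X(D) for some
divisor D on X; in other words the canonical homomorphism Div(X) → Pic(X) is surjective and Pic(X)
is the group of divisors modulo linear equivalence. -/
theorem result (X : Scheme.{u}) [IsLocallyNoetherian X]
    (hX : ∃ W : X.Opens, IsAffineOpen W ∧ ∀ x : ↥X,
      IsAssociatedPrime (IsLocalRing.maximalIdeal ↑(X.presheaf.stalk x)) ↑(X.presheaf.stalk x) → x ∈ W)
    (L : X.Modules) (hL : PicF.IsInvertible L) :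
    ∃ D : Mero.Divisor X, Nonempty (L ≅ Mero.divMod D) := by
  classical
  obtain ⟨W, hW, hass⟩ := hX
  have hiff : ∀ x : X, Curv2.IsWeakAssPoint (Coh.structureModule X) x →
      IsAssociatedPrime (IsLocalRing.maximalIdeal (X.presheaf.stalk x)) (X.presheaf.stalk x) := fun x hx =>
    isAssociatedPrime_of_isWeakAssPoint x hx
  have hWmem : ∀ x : X, Curv2.IsWeakAssPoint (Coh.structureModule X) x → x ∈ W := fun x hx => hass x (hiff x hx)
  obtain ⟨m, hm⟩ := exists_generating_section hL hW (finite_weakAss hW)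
  obtain ⟨s, hs⟩ : Mero.HasRegularMero L := by
    refine MeroReg.hasRegular_of_ratios (fun z hz => L.presheaf.germ W z (hWmem z hz) m) fun x => ?_
    obtain ⟨U₀, hxU₀, e₀, he₀⟩ := InvX.exists_frame hL x
    obtain ⟨V, hV, hxV, hVU⟩ := exists_isAffineOpen_mem_and_subset (x := x) (U := U₀) hxU₀
    replace hVU : V ≤ U₀ := hVU
    let e : Γ(L, V) := AModX.res L hVU e₀
    have he : InvX.IsFrame e := he₀.res _
    obtain ⟨g, hg⟩ := he.exists_coord (inf_le_left : V ⊓ W ≤ V) (AModX.res L inf_le_right m)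
    have hgerm : ∀ (z : X) (hz : z ∈ V) (hzW : z ∈ W), L.presheaf.germ W z hzW m =
        X.presheaf.germ (V ⊓ W) z ⟨hz, hzW⟩ g • L.presheaf.germ V z hz e := by
      intro z hz hzW
      have h1 := congrArg (L.presheaf.germ (V ⊓ W) z ⟨hz, hzW⟩) hg
      rw [Mero.germ_smul] at h1
      erw [L.presheaf.germ_res_apply, L.presheaf.germ_res_apply] at h1
      exact h1
    obtain ⟨a, b, hab⟩ := S5086.exists_fraction (V := V ⊓ W) hV (finite_weakAss hV)
      (fun y hy hya => ⟨hy, hWmem y hya⟩) g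
    have ha : a ∈ Mero.regSub X V := AssPtX.germ_mem_nonZeroDivisors_of_weakAss a fun z hz hza => by
      have hzW := hWmem z hza
      rw [hab z hz ⟨hz, hzW⟩]
      exact (isUnit_germ_of_regSub b z hz hza).mul
        (hm ⟨z, hzW⟩ hza V hz e he _ (hgerm z hz hzW).symm)
    refine ⟨V, hxV, e, ⟨a, ha⟩, b, he, fun z hz hza => ?_⟩
    show X.presheaf.germ V z hz a • _ = _
    rw [hgerm z hz (hWmem z hza), hab z hz ⟨hz, hWmem z hza⟩, mul_smul]
  exact MeroReg.exists_iso_divMod hL s hs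

end Groth.Agent.S5088
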