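import Groth.Statements.S5089
import Groth.Agent.MeroReg.Ratios
import Groth.Agent.S10961

set_option autoImplicit false
universe u
open CategoryTheory CategoryTheory.Limits AlgebraicGeometry TopologicalSpace
open Mero

namespace Groth.Agent.S5089

open Groth.Agent

/-- Case b): let X be a reduced scheme whose set of irreducible components is locally finite (every
point has an open neighbourhood meeting only finitely many irreducible components). Then every
invertible O_X-module is isomorphic to O_X(D) for some divisor D on X; in other words the canonical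
homomorphism Div(X) → Pic(X) is surjective. -/
theorem result (X : Scheme.{u}) [IsReduced X]
    (hX : ∀ x : ↥X, ∃ W : X.Opens, x ∈ W ∧
      {Z : Set ↥X | Z ∈ irreducibleComponents ↥X ∧ (Z ∩ (W : Set ↥X)).Nonempty}.Finite)
    (L : X.Modules) (hL : PicF.IsInvertible L) :
    ∃ D : Mero.Divisor X, Nonempty (L ≅ Mero.divMod D) := by
  classical
  have hmax : ∀ y : X, Curv2.IsWeakAssPoint (Coh.structureModule X) y ↔ ∀ z : X, z ⤳ y → z = y := fun y =>
    AssPtX.isWeakAssPoint_structureModule_iff QCoh.isQCoh_structureModule y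
  choose U₀ hU₀ e₀ he₀ using InvX.exists_frame hL
  obtain ⟨s, hs⟩ : Mero.HasRegularMero L := by
    refine MeroReg.hasRegular_of_ratios (fun z _ => L.presheaf.germ (U₀ z) z (hU₀ z) (e₀ z)) fun x => ?_
    obtain ⟨W₀, hxW₀, hW₀⟩ := hX x
    obtain ⟨V, hV, hxV, hVU⟩ := exists_isAffineOpen_mem_and_subset (x := x) (U := U₀ x ⊓ W₀) ⟨hU₀ x, hxW₀⟩
    replace hVU : V ≤ U₀ x ⊓ W₀ := hVU
    let e : Γ(L, V) := AModX.res L (hVU.trans inf_le_left) (e₀ x)
    have he : InvX.IsFrame e := (he₀ x).res _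
    let G := {y : V // ∀ z : X, z ⤳ y.1 → z = y.1}
    haveI : Finite G := by
      haveI := hW₀.to_subtype
      refine Finite.of_injective (fun y : G => (⟨closure {y.1.1}, (S10961.mem_components_iff _).mpr y.2,
        y.1.1, subset_closure rfl, (hVU y.1.2).2⟩ :
        ↑{Z : Set X | Z ∈ irreducibleComponents X ∧ (Z ∩ (W₀ : Set X)).Nonempty})) fun y y' h => ?_
      have h' : closure ({y.1.1} : Set X) = closure {y'.1.1} := congrArg Subtype.val h
      exact Subtype.ext (Subtype.ext (y'.2 y.1.1 (specializes_iff_closure_subset.mpr h'.ge)))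
    haveI := Fintype.ofFinite G
    let P : G → Ideal Γ(X, V) := fun y => (hV.primeIdealOf y.1).asIdeal
    have hu : ∀ (y : G) (z : Γ(X, V)), z ∉ P y ↔ IsUnit (X.presheaf.germ V y.1.1 y.1.2 z) := fun y z =>
      (QCoh.mem_basicOpen_iff_notMem hV y.1.2 z).symm.trans (X.mem_basicOpen z y.1.1 y.1.2)
    have hval : ∀ y : G, ∃ (r s : Γ(X, V)), r ∉ P y ∧ s ∉ P y ∧
        X.presheaf.germ V y.1.1 y.1.2 r • L.presheaf.germ V y.1.1 y.1.2 e =
          X.presheaf.germ V y.1.1 y.1.2 s • L.presheaf.germ (U₀ y.1.1) y.1.1 (hU₀ y.1.1) (e₀ y.1.1) := by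
      intro y
      obtain ⟨t, ht⟩ := (he.germ_bijective y.1.2).2 (L.presheaf.germ (U₀ y.1.1) y.1.1 (hU₀ y.1.1) (e₀ y.1.1))
      obtain ⟨t', ht'⟩ := ((he₀ y.1.1).germ_bijective (hU₀ y.1.1)).2 (L.presheaf.germ V y.1.1 y.1.2 e)
      dsimp only at ht ht'
      have htu : IsUnit t := IsUnit.of_mul_eq_one_right t' ((he.germ_bijective y.1.2).1 (by
        dsimp only
        rw [mul_smul, ht, ht', one_smul]))
      letI := QCoh.stalkAlg (X := X) y.1.2
      haveI := QCoh.isLocalization_stalk' hV y.1.2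
      obtain ⟨⟨r, s⟩, hrs⟩ := IsLocalization.surj (hV.primeIdealOf y.1).asIdeal.primeCompl t
      have hrs' : t * X.presheaf.germ V y.1.1 y.1.2 s.1 = X.presheaf.germ V y.1.1 y.1.2 r := hrs
      refine ⟨r, s.1, (hu y r).2 (hrs' ▸ htu.mul ((hu y s.1).1 s.2)), s.2, ?_⟩
      rw [← ht, ← hrs', mul_smul, smul_comm]
    choose r s hr hs hrs using hval
    have hsep : ∀ y y' : G, ∃ c : Γ(X, V), c ∉ P y ∧ (y' ≠ y → c ∈ P y') := by
      intro y y'
      by_cases h : y' = y
      · exact ⟨1, fun h1 => (hV.primeIdealOf y.1).isPrime.ne_top ((Ideal.eq_top_iff_one _).mpr h1),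
          fun hne => absurd h hne⟩
      · obtain ⟨c, hc, hc'⟩ := Set.not_subset.mp (show ¬ (P y' : Set Γ(X, V)) ⊆ P y from fun hle =>
          h (Subtype.ext (Subtype.ext (y.2 _ ((AssPtX.primeIdealOf_le_iff hV y'.1.2 y.1.2).mp hle)))))
        exact ⟨c, hc', fun _ => hc⟩
    choose c hc hc0 using hsep
    let el : G → Γ(X, V) := fun y => ∏ y' : G, c y y'
    have he0 : ∀ y y' : G, y' ≠ y → X.presheaf.germ V y'.1.1 y'.1.2 (el y) = 0 := by
      intro y y' hne
      by_contra h0
      have hu' : IsUnit (X.presheaf.germ V y'.1.1 y'.1.2 (el y)) := by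
        obtain ⟨w, hw⟩ := (S10961.isField_stalk y'.2).mul_inv_cancel h0
        exact IsUnit.of_mul_eq_one w hw
      exact (hu y' _).2 hu' ((P y').prod_mem (Finset.mem_univ y') (hc0 y y' hne))
    have hey : ∀ y : G, el y ∉ P y := fun y h => by
      obtain ⟨y', -, hy'⟩ := (Ideal.IsPrime.prod_mem_iff (hp := (hV.primeIdealOf y.1).isPrime)).mp h
      exact hc y y' hy'
    have hsum : ∀ (w : G → Γ(X, V)) (y : G), X.presheaf.germ V y.1.1 y.1.2 (∑ y' : G, el y' * w y') =
        X.presheaf.germ V y.1.1 y.1.2 (el y) * X.presheaf.germ V y.1.1 y.1.2 (w y) := by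
      intro w y
      rw [map_sum, Finset.sum_eq_single y (fun y' _ hne => by rw [map_mul, he0 y' y (Ne.symm hne), zero_mul])
        (fun h => absurd (Finset.mem_univ y) h), map_mul]
    have hreg : ∀ w : G → Γ(X, V), (∀ y, w y ∉ P y) → (∑ y' : G, el y' * w y') ∈ Mero.regSub X V := by
      intro w hw
      refine AssPtX.germ_mem_nonZeroDivisors_of_weakAss _ fun z hz hza => ?_
      let y : G := ⟨⟨z, hz⟩, (hmax z).1 hza⟩
      show IsUnit (X.presheaf.germ V y.1.1 y.1.2 _)
      rw [hsum w y]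
      exact ((hu y _).1 (hey y)).mul ((hu y _).1 (hw y))
    refine ⟨V, hxV, e, ⟨_, hreg r hr⟩, ⟨_, hreg s hs⟩, he, fun z hz hza => ?_⟩
    let y : G := ⟨⟨z, hz⟩, (hmax z).1 hza⟩
    show X.presheaf.germ V y.1.1 y.1.2 (∑ y' : G, el y' * r y') • _ =
      X.presheaf.germ V y.1.1 y.1.2 (∑ y' : G, el y' * s y') • _
    rw [hsum r y, hsum s y, mul_smul, mul_smul, hrs y]
  exact MeroReg.exists_iso_divMod hL s hs

end Groth.Agent.S5089
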