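import Groth.Statements.S5090
import Groth.Agent.Div21Lib.Factorial

set_option autoImplicit false
universe u
open CategoryTheory CategoryTheory.Limits AlgebraicGeometry TopologicalSpace
open Div21

namespace Groth.Agent.S5090

/-- Equivalence of conditions a'') and c): let X be a locally Noetherian scheme which is reduced at each
of its isolated points (for every point x such that {x} is open, the local ring O_{X,x} is reduced).
Then the following are equivalent. (a'') Every integral closed subscheme of X of codimension 1 is
regularly immersed in X: for every point ζ whose local ring has dimension 1 and every specialization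
x of ζ, the ideal of O_{X,x} defining the closure of ζ with its reduced structure (the preimage of
the maximal ideal of O_{X,ζ} under the specialization map) is generated by one non-zero-divisor of
O_{X,x}. (c) X is locally factorial: every local ring of X is a unique factorisation domain. -/
theorem result (X : Scheme.{u}) [IsLocallyNoetherian X]
    (hred : ∀ x : ↥X, IsOpen ({x} : Set ↥X) → IsReduced ↑(X.presheaf.stalk x)) :
    (∀ ζ : ↥X, ringKrullDim ↑(X.presheaf.stalk ζ) = 1 → ∀ (x : ↥X) (h : ζ ⤳ x),
        ∃ t : ↑(X.presheaf.stalk x), t ∈ nonZeroDivisors ↑(X.presheaf.stalk x) ∧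
          (IsLocalRing.maximalIdeal ↑(X.presheaf.stalk ζ)).comap (X.presheaf.stalkSpecializes h).hom =
            Ideal.span {t}) ↔
      ∀ x : ↥X, ∃ _ : IsDomain ↑(X.presheaf.stalk x), UniqueFactorizationMonoid ↑(X.presheaf.stalk x) := by
  constructor
  · intro h
    have hA : ∀ x : X, ∀ P : Ideal (X.presheaf.stalk x), P.IsPrime → P.height = 1 →
        ∃ t ∈ nonZeroDivisors (X.presheaf.stalk x), P = Ideal.span {t} := by
      intro x P hP hP1
      obtain ⟨ζ, hζ, rfl⟩ := Groth.Agent.H23.StalkPrimes.exists_point P
      obtain ⟨t, ht, he⟩ := h ζ ((Groth.Agent.Div21Lib.dim_eq_one_iff_height hζ).2 hP1) x hζ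
      exact ⟨t, ht, (Groth.Agent.Div21Lib.comap_maximalIdeal_eq_primeOf hζ).symm.trans he⟩
    have hdom : ∀ x : X, IsDomain (X.presheaf.stalk x) := by
      intro x
      by_cases hd : ringKrullDim (X.presheaf.stalk x) = 0
      · haveI : _root_.IsReduced (X.presheaf.stalk x) := by
          by_cases hcl : ∀ z, x ⤳ z → z = x
          · refine hred x (Groth.Agent.Div21Lib.isOpen_singleton_of_max_of_closed (fun z hz => ?_) hcl)
            haveI : Ring.KrullDimLE 0 (X.presheaf.stalk x) := Ring.krullDimLE_iff.2 hd.le
            refine Groth.Agent.H23.StalkPrimes.primeOf_inj hz specializes_rfl ?_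
            exact (IsLocalRing.eq_maximalIdeal (Ideal.IsPrime.isMaximal' (Groth.Agent.CDiv6.primeOf hz).2)).trans
              (IsLocalRing.eq_maximalIdeal (Ideal.IsPrime.isMaximal' (Groth.Agent.CDiv6.primeOf (specializes_rfl : x ⤳ x)).2)).symm
          · push Not at hcl
            obtain ⟨z, hz, hne⟩ := hcl
            have hdz : ringKrullDim (X.presheaf.stalk z) ≠ 0 := fun h0 => by
              haveI : Ring.KrullDimLE 0 (X.presheaf.stalk z) := Ring.krullDimLE_iff.2 h0.le
              refine hne (Groth.Agent.H23.StalkPrimes.primeOf_inj (specializes_rfl : z ⤳ z) hz ?_)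
              exact (IsLocalRing.eq_maximalIdeal (Ideal.IsPrime.isMaximal' (Groth.Agent.CDiv6.primeOf (specializes_rfl : z ⤳ z)).2)).trans
                (IsLocalRing.eq_maximalIdeal (Ideal.IsPrime.isMaximal' (Groth.Agent.CDiv6.primeOf hz).2)).symm
            obtain ⟨P, hP, hP1⟩ := Groth.Agent.Div21Lib.exists_height_one hdz
            haveI := hP
            haveI := Groth.Agent.Div21Lib.isDomain_of_principal (hA z) hP1
            letI := (X.presheaf.stalkSpecializes hz).hom.toAlgebra
            haveI : IsLocalization.AtPrime (X.presheaf.stalk x) (Groth.Agent.CDiv6.primeOf hz).asIdeal :=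
              Groth.Agent.H23.StalkPrimes.isLocalization_primeOf hz
            haveI := IsLocalization.isDomain_of_atPrime (X.presheaf.stalk x) (Groth.Agent.CDiv6.primeOf hz).asIdeal
            infer_instance
        haveI : Ring.KrullDimLE 0 (X.presheaf.stalk x) := Ring.krullDimLE_iff.2 hd.le
        exact (Ring.KrullDimLE.isField_of_isReduced (R := X.presheaf.stalk x)).isDomain
      · obtain ⟨P, hP, hP1⟩ := Groth.Agent.Div21Lib.exists_height_one hd
        haveI := hP
        exact Groth.Agent.Div21Lib.isDomain_of_principal (hA x) hP1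
    intro x
    haveI := hdom x
    exact ⟨hdom x, Groth.Agent.Div21Lib.ufd_of_principal (hA x)⟩
  · intro h ζ hζ x hx
    obtain ⟨hd, hu⟩ := h x
    haveI := hd
    haveI := hu
    rw [Groth.Agent.Div21Lib.comap_maximalIdeal_eq_primeOf hx]
    exact Groth.Agent.Div21Lib.principal_of_ufd ((Groth.Agent.Div21Lib.dim_eq_one_iff_height hx).1 hζ)

end Groth.Agent.S5090
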