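import Groth.Statements.S5103
import Groth.Agent.RefX2.Class
import Groth.Agent.RefX2.Factorial
import Groth.Agent.Lib.CurveDeg

set_option autoImplicit false
universe u
open CategoryTheory CategoryTheory.Limits AlgebraicGeometry TopologicalSpace
open Div21

namespace Groth.Agent.S5103

/-- For an integral scheme (the canonical homomorphism Pic(X) → Cl(X) to the group of codimension-1
cycle classes is injective): let X be a normal locally Noetherian integral scheme, L an invertible
O_X-module and s a nonzero rational section of L (a nonzero element of the fibre of L at the generic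
point). If the Weil divisor of s is principal — there is a nonzero rational function f whose order
of vanishing at every point of codimension 1 (coheight 1 in the specialization order) equals the
order of s there — then L is isomorphic to O_X. -/
theorem result (X : Scheme.{u}) [IsIntegral X] [IsLocallyNoetherian X]
    (hX : Pi1.IsNormalScheme X) (L : X.Modules) (hL : PicF.IsInvertible L)
    (s : Cyc.secFibre L (genericPoint ↥X)) (hs : s ≠ 0) (f : ↑X.functionField) (hf : f ≠ 0)
    (h : ∀ x : ↥X, Order.coheight x = 1 →
      Cyc.secOrdAt L (genericPoint ↥X) x (genericPoint_specializes x) s = Scheme.ord f x) :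
    Nonempty (L ≅ Coh.structureModule X) := by
  classical
  have hc : Coh.IsCoh L := Groth.Agent.CurveDeg.isCoh_of_isInvertible hL
  obtain ⟨U₀, hη, e₀, he₀⟩ := Groth.Agent.InvX.exists_frame hL (genericPoint X)
  have hL1 : RefHull.IsRef1 L := ⟨hc, (Groth.Agent.RefX.isReflexive_iff hc).2 fun x => by
      obtain ⟨U, hxU, e, he⟩ := Groth.Agent.InvX.exists_frame hL x
      let T : ↑(X.presheaf.stalk x) →ₗ[↑(X.presheaf.stalk x)] ↑(L.presheaf.stalk x) :=
        LinearMap.toSpanSingleton _ _ (L.presheaf.germ U x hxU e)
      exact Module.equiv (LinearEquiv.ofBijective T (he.germ_bijective hxU)),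
    Groth.Agent.RefX2.genInvertible_of_isFrame he₀ (x := genericPoint X) hη⟩
  have htf := Groth.Agent.RefX2.tf_of_isRef1 hL1
  have hr := Groth.Agent.RefX2.rk1_of_genInvertible hL1.2.2
  obtain ⟨v, rfl⟩ := Groth.Agent.RefX2.cls_surjective L s
  have hv : v ≠ 0 := Groth.Agent.RefX2.cls_ne_zero.1 hs
  have hdiv : Groth.Agent.RefX2.HasDiv L 0 := by
    refine ⟨hL1, f⁻¹ • v, smul_ne_zero (inv_ne_zero hf) hv, fun x hx => ?_⟩
    have h1 : Groth.Agent.RefX2.ordOf L x v = Scheme.ord f x := h x hx
    rw [Groth.Agent.RefX2.ordOf_smul hX hc htf hr hx hv (inv_ne_zero hf), h1]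
    have h2 := Scheme.ord_mul (x := x) (inv_ne_zero hf) hf
    rw [inv_mul_cancel₀ hf, Groth.Agent.RefX2.ord_one] at h2
    exact h2.symm
  exact Groth.Agent.RefX2.HasDiv.iso hX hdiv (Groth.Agent.RefX2.hasDiv_unit hX)

end Groth.Agent.S5103
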