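import Groth.Statements.S5105
import Groth.Agent.Div21Lib.LocalEq

set_option autoImplicit false
universe u
open CategoryTheory CategoryTheory.Limits AlgebraicGeometry TopologicalSpace
open Div21

namespace Groth.Agent.S5105

/-- For an integral scheme (X is locally factorial exactly when the canonical map Pic(X) → Cl(X) is a
bijection; in the presence of (i), being bijective means that each codimension-1 cycle arises as the
Weil divisor of some rational section of an invertible module): suppose X is an integral scheme that
is normal and locally Noetherian. Then these two conditions are equivalent: (1) whenever Z is a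
function from the points of X to the integers that is zero away from the points of codimension 1
(coheight 1) and whose support is locally finite, one can find an invertible O_X-module L together
with a nonzero rational section s of L (a nonzero element of the generic fibre of L) such that, at
each point of codimension 1, the order of s equals the value Z takes there; (2) each local ring of X
is a unique factorisation domain. -/
theorem result (X : Scheme.{u}) [IsIntegral X]
    [IsLocallyNoetherian X] (hX : Pi1.IsNormalScheme X) :
    (∀ Z : ↥X → ℤ, (∀ x : ↥X, Order.coheight x ≠ 1 → Z x = 0) →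
        (∀ x : ↥X, ∃ W : X.Opens, x ∈ W ∧ {z : ↥X | z ∈ W ∧ Z z ≠ 0}.Finite) →
        ∃ (L : X.Modules) (_ : PicF.IsInvertible L) (s : Cyc.secFibre L (genericPoint ↥X)), s ≠ 0 ∧
          ∀ x : ↥X, Order.coheight x = 1 →
            Cyc.secOrdAt L (genericPoint ↥X) x (genericPoint_specializes x) s = Z x) ↔
      ∀ x : ↥X, UniqueFactorizationMonoid ↑(X.presheaf.stalk x) := by
  classical
  constructor
  · intro h x
    refine Groth.Agent.Div21Lib.ufd_of_principal fun P hP hP1 => ?_
    obtain ⟨ζ, hζ, rfl⟩ := Groth.Agent.H23.StalkPrimes.exists_point P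
    rw [Groth.Agent.CDiv6.height_primeOf] at hP1
    obtain ⟨L, hL, s, hs, hord⟩ := h (fun y => if y = ζ then 1 else 0)
      (fun y hy => if_neg fun (e : y = ζ) => hy (e ▸ hP1))
      (fun y => ⟨⊤, trivial, (Set.finite_singleton ζ).subset fun z hz => by
        by_contra hne
        exact hz.2 (if_neg hne)⟩)
    have hL1 := Groth.Agent.Div21Lib.isRef1_of_isInvertible hL
    have htf := Groth.Agent.RefX2.tf_of_isRef1 hL1
    have hr := Groth.Agent.RefX2.rk1_of_genInvertible hL1.2.2
    obtain ⟨v, rfl⟩ := Groth.Agent.RefX2.cls_surjective L s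
    have hv : v ≠ 0 := Groth.Agent.RefX2.cls_ne_zero.1 hs
    obtain ⟨W, hxW, e, he⟩ := Groth.Agent.InvX.exists_frame hL x
    have hη := Groth.Agent.RefX2.gen_mem hxW
    obtain ⟨c, hc⟩ := (he.germ_bijective hη).2 v
    change c • (L.presheaf.germ W (genericPoint X) hη e) = v at hc
    have hc0 : c ≠ 0 := fun h0 => hv (by rw [← hc, h0]; exact zero_smul (X.presheaf.stalk (genericPoint X)) _)
    have hc1 : ∀ z ∈ W, Order.coheight z = 1 → Scheme.ord c z = if z = ζ then 1 else 0 := by
      intro z hz hz1
      rw [← hord z hz1]
      refine (Groth.Agent.RefX2.ordOf_eq htf hz1 (t := L.presheaf.germ W z hz e)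
        (eq_top_iff.2 fun w _ => Submodule.mem_span_singleton.2 ((he.germ_bijective hz).2 w)) hv ?_).symm
      rw [Groth.Agent.RefX2.toGen_germ]
      exact hc
    refine Groth.Agent.Div21Lib.principal_of_ord hX hζ hP1 hc0
      (by rw [hc1 ζ (hζ.mem_open W.2 hxW) hP1, if_pos rfl])
      (fun z hz hne hz1 => by rw [hc1 z (hz.mem_open W.2 hxW) hz1, if_neg hne])
  · intro hU Z hZ hfin
    let D : AlgebraicCycle X ℤ :=
      { toFun := Z
        supportWithinDomain' := Set.subset_univ _
        supportLocallyFiniteWithinDomain' := fun z _ => by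
          obtain ⟨W, hzW, hW⟩ := hfin z
          exact ⟨W, W.2.mem_nhds hzW, hW.subset fun y hy => ⟨hy.1, hy.2⟩⟩ }
    refine ⟨Groth.Agent.RefX2.divMod hX D,
      Groth.Agent.RefX2.isInvertible_of_isRef1 hX hU (Groth.Agent.RefX2.isRef1_divMod hX D),
      Groth.Agent.RefX2.cls _ (Groth.Agent.RefX2.one hX D),
      Groth.Agent.RefX2.cls_ne_zero.2 (Groth.Agent.RefX2.one_ne_zero' hX D),
      fun x hx => Groth.Agent.RefX2.ordOf_one hX D hx⟩

end Groth.Agent.S5105
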