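import Groth.Statements.S5107
import Groth.Agent.SchDenseLim.Basic
import Groth.Agent.S3844
import Groth.Agent.MorLib.LimFlat

set_option autoImplicit false
set_option backward.isDefEq.respectTransparency false
set_option linter.style.haveILetI false
attribute [-instance] CategoryTheory.catToReflQuiver
universe u
open CategoryTheory CategoryTheory.Limits AlgebraicGeometry TopologicalSpace
open Lim8

namespace Groth.Agent.S5107
open CategoryTheory.Limits TopologicalSpace

/-- Let (X_i) be a cofiltered system of Noetherian schemes with affine and flat transition morphisms, X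
its limit, assumed Noetherian as well, and U₀ an open subset of X_{i₀}, with inverse images U_i in
X_i (for i over i₀) and U in X. Then U is schematically dense in X if and only if there is an index
i over i₀ such that U_i is schematically dense in X_i (and then, the transition morphisms being
flat, U_j is schematically dense in X_j for every j over i). -/
theorem result {I : Type u} [SmallCategory I]
    [IsCofiltered I] (D : I ⥤ Scheme.{u}) (c : Limits.Cone D) (hc : Limits.IsLimit c)
    [∀ (i j : I) (g : i ⟶ j), IsAffineHom (D.map g)] [∀ (i j : I) (g : i ⟶ j), Flat (D.map g)]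
    [∀ i : I, IsNoetherian (D.obj i)] [IsNoetherian c.pt] (i₀ : I) (U₀ : (D.obj i₀).Opens) :
    CInt.IsSchematicallyDense ((c.π.app i₀) ⁻¹ᵁ U₀) ↔
      ∃ (i : I) (g : i ⟶ i₀), CInt.IsSchematicallyDense ((D.map g) ⁻¹ᵁ U₀) := by
  haveI := hc
  constructor
  · intro hd
    classical
    let X := D.obj i₀
    obtain ⟨t, ht⟩ := CompactSpace.elim_nhds_subcover
      (fun x : X => ((exists_isAffineOpen_mem_and_subset (x := x) (U := ⊤) trivial).choose : Set X))
      (fun x => (exists_isAffineOpen_mem_and_subset (x := x) (U := ⊤) trivial).choose.2.mem_nhds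
        (exists_isAffineOpen_mem_and_subset (x := x) (U := ⊤) trivial).choose_spec.2.1)
    let V : X → X.Opens := fun x => (exists_isAffineOpen_mem_and_subset (x := x) (U := ⊤) trivial).choose
    have hV : ∀ x, IsAffineOpen (V x) := fun x =>
      (exists_isAffineOpen_mem_and_subset (x := x) (U := ⊤) trivial).choose_spec.1
    have key : ∀ x : X, ∃ (j : Over i₀), ∀ (k : Over i₀) (_ : k ⟶ j) (s : Γ(X, V x)),
        X.presheaf.map (homOfLE (inf_le_left : V x ⊓ U₀ ≤ V x)).op s = 0 → (D.map k.hom).app (V x) s = 0 := by
      intro x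
      let M := RingHom.ker (X.presheaf.map (homOfLE (inf_le_left : V x ⊓ U₀ ≤ V x)).op).hom
      haveI : IsNoetherianRing Γ(X, V x) := IsLocallyNoetherian.component_noetherian ⟨V x, hV x⟩
      obtain ⟨S, hS⟩ : M.FG := IsNoetherian.noetherian M
      have hz : ∀ s ∈ M, (c.π.app i₀).app (V x) s = 0 := by
        intro s hs
        refine hd ((c.π.app i₀) ⁻¹ᵁ V x) ?_
        rw [map_zero]
        have h2 := (congr($((c.π.app i₀).naturality (homOfLE (inf_le_left : V x ⊓ U₀ ≤ V x)).op) s)).symm
        simp only [CommRingCat.comp_apply] at h2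
        exact h2.trans (by rw [show X.presheaf.map (homOfLE (inf_le_left : V x ⊓ U₀ ≤ V x)).op s = 0 from hs, map_zero])
      choose m f hm using fun s : (S : Set Γ(X, V x)) => exists_app_map_eq_zero_of_isLimit D c hc
        (hV x).isCompact s.1 (hz _ (hS.le (Submodule.subset_span s.2)))
      obtain ⟨j, hj⟩ := IsCofiltered.inf_objs_exists
        (insert (Over.mk (𝟙 i₀)) (S.attach.image fun s => Over.mk (f s)))
      refine ⟨j, fun k g s hs => ?_⟩
      have hle : M ≤ RingHom.ker ((D.map k.hom).app (V x)).hom := by
        rw [← hS, Ideal.span_le]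
        intro z hz'
        obtain ⟨g'⟩ := hj (Finset.mem_insert_of_mem (Finset.mem_image_of_mem (fun s => Over.mk (f s))
          (Finset.mem_attach S ⟨z, hz'⟩)))
        show (D.map k.hom).app (V x) z = 0
        exact Groth.Agent.SchDenseLim.app_eq_zero_of_factor (D.map (g ≫ g').left) (D.map (f ⟨z, hz'⟩))
          (by rw [← D.map_comp]; exact congrArg _ (Over.w (g ≫ g')).symm) (hm ⟨z, hz'⟩)
      exact hle hs
    choose j hj using key
    obtain ⟨k, hk⟩ := IsCofiltered.inf_objs_exists (insert (Over.mk (𝟙 i₀)) (t.image j))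
    refine ⟨k.left, k.hom, Groth.Agent.SchDenseLim.isSchematicallyDense_of_cover (D.map k.hom) U₀ t V hV ?_
      fun x hx => hj x k (hk (Finset.mem_insert_of_mem (Finset.mem_image_of_mem j hx))).some⟩
    intro x
    obtain ⟨y, hy, hxy⟩ := Set.mem_iUnion₂.1 (ht.ge (Set.mem_univ x))
    exact ⟨y, hy, hxy⟩
  · rintro ⟨i, g, hd⟩
    haveI : ∀ {j k : I} (f : j ⟶ k), IsAffineHom (D.map f) := fun f => inferInstance
    haveI : Flat (c.π.app i) := Groth.Agent.MorLib.LimFlat.flat_π hc i fun j φ => inferInstance
    have := Groth.Agent.S3844.result (c.π.app i) ((D.map g) ⁻¹ᵁ U₀) hd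
    rwa [← Scheme.Hom.comp_preimage, c.w] at this

end Groth.Agent.S5107
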