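import Groth.Statements.S5112
import Groth.Agent.Div21Lib.Parafactorial

set_option autoImplicit false
universe u
open CategoryTheory CategoryTheory.Limits AlgebraicGeometry TopologicalSpace
open Div21

namespace Groth.Agent.S5112

/-- The implication from (b) to (a), for an integral scheme (a normal locally Noetherian scheme is the
disjoint union of its integral components): let X be a normal locally Noetherian integral scheme and
S a subset of X. A codimension-1 cycle Z (an integer-valued function on points, zero off the points
of codimension 1, i.e. of coheight 1, with locally finite support) is principal at a point x when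
there is a nonzero rational function whose order at every codimension-1 point generizing x is the
value of Z there (the trace of Z on Spec O_{X,x} is a principal divisor). Suppose (b): for every
point x of X which is not a generization of a point of S (the closure of x does not meet S) and
whose local ring has dimension at least 2, the local ring O_{X,x} is parafactorial. Then (a): every
codimension-1 cycle which is principal at all points of S is principal at every point of X (it is
locally principal). (The published statement asserts that (a) and (b) are equivalent. The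
implication from (a) to (b) fails: on the quotient of the real 2-sphere x² + y² + z² = 1 by (x, y,
z) ↦ (−x, −y, z), a normal Noetherian integral surface with exactly two singular points and divisor
class group of order 2, take S to be one singular point; every cycle principal there is principal
everywhere, while the local ring at the other singular point has dimension 2 and is not
parafactorial. This row states the implication from (b) to (a), which the published argument does
prove.) -/
theorem result (X : Scheme.{u}) [IsIntegral X]
    [IsLocallyNoetherian X] (hX : Pi1.IsNormalScheme X) (S : Set ↥X)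
    (hpar : ∀ x : ↥X, closure {x} ∩ S = ∅ → (2 : WithBot ℕ∞) ≤ ringKrullDim ↑(X.presheaf.stalk x) →
        ParaF.IsParafactorialLocalRing ↑(X.presheaf.stalk x))
    (Z : ↥X → ℤ) (hZ : ∀ x : ↥X, Order.coheight x ≠ 1 → Z x = 0)
    (hZfin : ∀ x : ↥X, ∃ W : X.Opens, x ∈ W ∧ {z : ↥X | z ∈ W ∧ Z z ≠ 0}.Finite)
    (hS : ∀ s : ↥X, s ∈ S →
        ∃ f : ↑X.functionField, f ≠ 0 ∧ ∀ x' : ↥X, Order.coheight x' = 1 → x' ⤳ s → Z x' = Scheme.ord f x')
    (x : ↥X) :
    ∃ f : ↑X.functionField, f ≠ 0 ∧ ∀ x' : ↥X, Order.coheight x' = 1 → x' ⤳ x → Z x' = Scheme.ord f x' := by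
  classical
  have hnbhd : ∀ y : X, (∃ f : X.functionField, f ≠ 0 ∧ ∀ x' : X, Order.coheight x' = 1 → x' ⤳ y → Z x' = Scheme.ord f x') →
      ∃ (W : X.Opens) (c : X.functionField), y ∈ W ∧ c ≠ 0 ∧ ∀ z ∈ W, Order.coheight z = 1 → Scheme.ord c z = Z z := by
    rintro y ⟨c, hc, hcy⟩
    obtain ⟨V, hyV, hVfin⟩ := Groth.Agent.RefX2.ord_finite_nhd c y
    obtain ⟨V', hyV', hV'fin⟩ := hZfin y
    obtain ⟨W, hyW, -, hW⟩ := Groth.Agent.RefX2.exists_nhd_avoid (show y ∈ V ⊓ V' from ⟨hyV, hyV'⟩)
      (fun z => Order.coheight z = 1 ∧ Scheme.ord c z ≠ Z z)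
      ((hVfin.union hV'fin).subset fun z hz => by
        by_cases h0 : Scheme.ord c z = 0
        · exact Or.inr ⟨hz.1.2, fun h1 => hz.2.2 (by rw [h0, h1])⟩
        · exact Or.inl ⟨hz.1.1, h0⟩)
      (fun z hz hne => hne.2 (hcy z hne.1 hz).symm)
    exact ⟨W, c, hyW, hc, fun z hz h1 => by_contra fun hne => hW z hz ⟨h1, hne⟩⟩
  have hfin : ∀ x : X, Order.coheight x < ⊤ := fun x => by
    have hlt := ringKrullDim_lt_top (R := X.presheaf.stalk x)
    rw [ringKrullDim_stalk_eq_coheight] at hlt
    by_contra h
    rw [not_lt, top_le_iff] at h
    rw [h] at hlt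
    exact lt_irrefl _ hlt
  suffices key : ∀ (n : ℕ∞) (x : X), Order.coheight x = n →
      ∃ f : X.functionField, f ≠ 0 ∧ ∀ x' : X, Order.coheight x' = 1 → x' ⤳ x → Z x' = Scheme.ord f x' from
    key _ x rfl
  intro n
  induction n using WellFoundedLT.induction with
  | ind n ih =>
    intro x hn
    have hlt : ∀ y : X, y ⤳ x → y ≠ x → Order.coheight y < n := fun y hy hne => hn ▸ Order.coheight_strictAnti
      ⟨Scheme.le_iff_specializes.2 hy, fun h => hne (hy.antisymm (Scheme.le_iff_specializes.1 h)).eq⟩ (hfin y)
    by_cases hSx : closure {x} ∩ S = ∅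
    swap
    · obtain ⟨s, hs1, hs2⟩ := Set.nonempty_iff_ne_empty.2 hSx
      obtain ⟨f, hf, h⟩ := hS s hs2
      exact ⟨f, hf, fun x' h1 h' => h x' h1 (h'.trans (specializes_iff_mem_closure.2 hs1))⟩
    by_cases h2 : (2 : ℕ∞) ≤ n
    · have hgen : ¬ genericPoint X = x := by
        intro he
        have h0 : Order.coheight x = 0 := by
          rw [Order.coheight_eq_zero, ← he]
          intro b hb
          exact Scheme.le_iff_specializes.2 (genericPoint_specializes b)
        rw [← hn, h0] at h2
        exact absurd h2 (by norm_num)
      obtain ⟨f, hf, h⟩ := Groth.Agent.Div21Lib.exists_of_parafactorial hX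
        (hpar x hSx (by rw [ringKrullDim_stalk_eq_coheight, hn]; exact WithBot.coe_le_coe.2 h2)) hgen Z
        fun y hy hne => hnbhd y (ih _ (hlt y hy hne) y rfl)
      refine ⟨f, hf, fun x' h1 h' => h x' h1 h' ?_⟩
      rintro rfl
      rw [← hn, h1] at h2
      exact absurd h2 (by norm_num)
    · by_cases h1 : Order.coheight x = 1
      · obtain ⟨c, hc, hcx⟩ := Groth.Agent.RefX2.exists_ord_eq_one hX h1
        refine ⟨c ^ Z x, zpow_ne_zero _ hc, fun x' hx' h' => ?_⟩
        obtain rfl := Groth.Agent.Div21Lib.specializes_eq_of_coheight h' hx' h1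
        have hz : ∀ m : ℤ, Scheme.ord (c ^ m) x = m * Scheme.ord c x := by
          intro m
          induction m using Int.induction_on with
          | zero => rw [zpow_zero, Groth.Agent.RefX2.ord_one, zero_mul]
          | succ k ih => rw [zpow_add_one₀ hc, Scheme.ord_mul (zpow_ne_zero _ hc) hc, ih]; ring
          | pred k ih => rw [zpow_sub_one₀ hc, Scheme.ord_mul (zpow_ne_zero _ hc) (inv_ne_zero hc), ih, Groth.Agent.RefX2.ord_inv hc]; ring
        rw [hz, hcx, mul_one]
      · refine ⟨1, one_ne_zero, fun x' hx' h' => ?_⟩
        exfalso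
        by_cases he : x' = x
        · exact h1 (he ▸ hx')
        · have h3 := hlt x' h' he
          rw [hx'] at h3
          exact h2 (Order.add_one_le_of_lt h3)

end Groth.Agent.S5112
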