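import Groth.Statements.S5115
import Groth.Agent.EtTorLib.TopInvEssSurj
import Groth.Agent.MorLib.UnivHomeo

set_option autoImplicit false
universe u
open EtBase

namespace Groth.Agent.S5115

open AlgebraicGeometry CategoryTheory CategoryTheory.Limits in
/-- Let g : S' ⟶ S be faithfully flat (flat and surjective), quasi-compact and radicial (universally
injective). Then base change along g is an equivalence from the category of schemes etale over S to
the category of schemes etale over S'. -/
theorem result {S S' : Scheme.{u}} (g : S' ⟶ S)
    [Flat g] [Surjective g] [QuasiCompact g] [UniversallyInjective g] :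
    (EtCoh.bc g).IsEquivalence := by
  have hu : FlatMor.IsUnivHomeo g := by
    intro X' Y' i₁ i₂ g' h
    have : Flat g' := MorphismProperty.of_isPullback (P := @Flat) h.flip ‹_›
    have : QuasiCompact g' := MorphismProperty.of_isPullback (P := @QuasiCompact) h.flip ‹_›
    have : Surjective g' := MorphismProperty.of_isPullback (P := @Surjective) h.flip ‹_›
    have : UniversallyInjective g' := MorphismProperty.of_isPullback (P := @UniversallyInjective) h.flip ‹_›
    exact ⟨g'.continuous, fun s hs => (Flat.isQuotientMap_of_surjective g').isOpen_preimage.1 (by rwa [g'.injective.preimage_image]), g'.injective, g'.surjective⟩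
  have := Groth.Agent.MorLib.isIntegralHom_of_isUnivHomeo hu
  have := Groth.Agent.EtFound.bc_full g
  have := Groth.Agent.EtFound.bc_faithful g
  have := Groth.Agent.EtTorLib.bc_essSurj g
  exact {}

end Groth.Agent.S5115
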