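import Groth.Statements.S5122
import Groth.Agent.EtDescX.Fpqc
import Groth.Agent.EtDescX.Bridge

set_option autoImplicit false
universe u
open SGA1

namespace Groth.Agent.S5122

set_option backward.isDefEq.respectTransparency false
set_option backward.isDefEq.respectTransparency.types false


open AlgebraicGeometry CategoryTheory CategoryTheory.Limits in
/-- Let g : S' ⟶ S be universally submersive, D a descent datum relative to g (functor-of-points form,
for the one-member family g) whose underlying S'-scheme is etale, separated and of finite type over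
S', and p : S₁ ⟶ S faithfully flat and quasi-compact. Then D is effective in the fibred category of
etale separated finite-type schemes (isomorphic to the canonical datum of some etale, separated,
quasi-compact S-scheme) if and only if the descent datum obtained by base change along p, relative
to S' ×_S S₁ ⟶ S₁, is effective in the same sense over S₁. -/
theorem result {S S' S₁ : Scheme.{u}} (g : S' ⟶ S) (hg : SGA1.UnivSubmersive g)
    (D : Desc.SchDDFam (fun _ : PUnit.{1} => g))
    [Etale (D.obj PUnit.unit).hom] [IsSeparated (D.obj PUnit.unit).hom] [QuasiCompact (D.obj PUnit.unit).hom]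
    (p : S₁ ⟶ S) [Flat p] [Surjective p] [QuasiCompact p] :
    (∃ U : Over S, Etale U.hom ∧ IsSeparated U.hom ∧ QuasiCompact U.hom ∧ Nonempty ((Desc.toDDFam (fun _ : PUnit.{1} => g)).obj U ≅ D)) ↔
      (∃ U : Over S₁, Etale U.hom ∧ IsSeparated U.hom ∧ QuasiCompact U.hom ∧
        Nonempty ((Desc.toDDFam (fun _ : PUnit.{1} => pullback.snd g p)).obj U ≅
          (Desc.pullDDFam (f := fun _ : PUnit.{1} => g) (f' := fun _ : PUnit.{1} => pullback.snd g p)
        (α := id) (p := p) (p' := fun _ => pullback.fst g p) (fun _ => pullback.condition)).obj D)) := by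
  have := EtDescX.surjective_of_univSubmersive hg
  let D₀ := (Desc.SchDDFam.toSchDD g).obj D
  have : Etale D₀.obj.hom := inferInstanceAs (Etale (D.obj PUnit.unit).hom)
  have : IsSeparated D₀.obj.hom := inferInstanceAs (IsSeparated (D.obj PUnit.unit).hom)
  have : QuasiCompact D₀.obj.hom := inferInstanceAs (QuasiCompact (D.obj PUnit.unit).hom)
  constructor
  · rintro ⟨U, hU, hs, hc, ⟨e⟩⟩
    obtain ⟨c⟩ := EtDescX.nonempty_toDDFam_base (g := g) p U
    exact ⟨Over.mk (pullback.fst p U.hom), inferInstanceAs (Etale (pullback.fst p U.hom)),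
      inferInstanceAs (IsSeparated (pullback.fst p U.hom)), inferInstanceAs (QuasiCompact (pullback.fst p U.hom)),
      ⟨c ≪≫ (Desc.pullDDFam _).mapIso e⟩⟩
  · rintro ⟨E, hE, -, hc, hi⟩
    obtain ⟨i⟩ := (EtDescX.nonempty_iso_pull_iff p E D).1 hi
    obtain ⟨U, hU, hsU, hqU, hiU⟩ := EtDescX.exists_effective_of_fpqc p hg (D := D₀) hE i
    exact ⟨U, hU, hsU, hqU, (EtDescX.nonempty_iso_fam_iff U D).2 hiU⟩

end Groth.Agent.S5122
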