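import Groth.Statements.S5123
import Groth.Agent.EtDescX.Zariski
import Groth.Agent.EtDescX.Bridge

set_option autoImplicit false
universe u
open SGA1

namespace Groth.Agent.S5123

set_option backward.isDefEq.respectTransparency false
set_option backward.isDefEq.respectTransparency.types false


open AlgebraicGeometry CategoryTheory CategoryTheory.Limits in
/-- Let g : S' ⟶ S be universally submersive, D a descent datum relative to g (functor-of-points form,
for the one-member family g) whose underlying S'-scheme is etale over S', and (S_i)_{i ∈ ι} a cover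
of S by open subschemes. Then D is effective in the fibred category of etale schemes (isomorphic to
the canonical datum of some etale S-scheme) if and only if for every i the descent datum obtained by
base change along S_i ⟶ S, relative to S' ×_S S_i ⟶ S_i, is the canonical datum of some etale
S_i-scheme. -/
theorem result {S S' : Scheme.{u}} (g : S' ⟶ S) (hg : SGA1.UnivSubmersive g)
    (D : Desc.SchDDFam (fun _ : PUnit.{1} => g)) [Etale (D.obj PUnit.unit).hom]
    {ι : Type u} (V : ι → S.Opens) (hV : ⨆ i, V i = ⊤) :
    (∃ U : Over S, Etale U.hom ∧ Nonempty ((Desc.toDDFam (fun _ : PUnit.{1} => g)).obj U ≅ D)) ↔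
      ∀ i : ι, (∃ U : Over (V i : Scheme.{u}), Etale U.hom ∧
        Nonempty ((Desc.toDDFam (fun _ : PUnit.{1} => pullback.snd g (V i).ι)).obj U ≅
          (Desc.pullDDFam (f := fun _ : PUnit.{1} => g) (f' := fun _ : PUnit.{1} => pullback.snd g (V i).ι)
        (α := id) (p := (V i).ι) (p' := fun _ => pullback.fst g (V i).ι) (fun _ => pullback.condition)).obj D)) := by
  let D₀ := (Desc.SchDDFam.toSchDD g).obj D
  have : Etale D₀.obj.hom := inferInstanceAs (Etale (D.obj PUnit.unit).hom)
  constructor
  · rintro ⟨U, hU, ⟨e⟩⟩ i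
    obtain ⟨c⟩ := EtDescX.nonempty_toDDFam_base (g := g) (V i).ι U
    exact ⟨Over.mk (pullback.fst (V i).ι U.hom), inferInstanceAs (Etale (pullback.fst (V i).ι U.hom)),
      ⟨c ≪≫ (Desc.pullDDFam _).mapIso e⟩⟩
  · intro H
    obtain ⟨U, hU, hi⟩ := EtDescX.exists_effective_of_open_cover hg D₀ V hV fun i => by
      obtain ⟨E, hE, hi⟩ := H i
      exact ⟨E, hE, (EtDescX.nonempty_iso_pull_iff (V i).ι E D).1 hi⟩
    exact ⟨U, hU, (EtDescX.nonempty_iso_fam_iff U D).2 hi⟩

end Groth.Agent.S5123
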