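import Groth.Statements.S5125
import Groth.Agent.EtDescX.Spread
import Groth.Agent.EtDescX.Zariski
import Groth.Agent.EtDescX.Bridge

set_option autoImplicit false
universe u
open SGA1

namespace Groth.Agent.S5125

set_option backward.isDefEq.respectTransparency false
set_option backward.isDefEq.respectTransparency.types false


open AlgebraicGeometry CategoryTheory CategoryTheory.Limits in
/-- Let g : S' ⟶ S be universally submersive and of finite presentation, and D a descent datum relative
to g (functor-of-points form, for the one-member family g) whose underlying S'-scheme is etale and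
of finite presentation (quasi-compact and quasi-separated) over S'. Then D is the canonical datum of
some etale S-scheme if and only if for every point a of S the descent datum induced over Spec
O_{S,a} is the canonical datum of some etale scheme over Spec O_{S,a}. -/
theorem result {S S' : Scheme.{u}} (g : S' ⟶ S) (hg : SGA1.UnivSubmersive g)
    [LocallyOfFinitePresentation g] [QuasiCompact g] [QuasiSeparated g]
    (D : Desc.SchDDFam (fun _ : PUnit.{1} => g)) [Etale (D.obj PUnit.unit).hom]
    [QuasiCompact (D.obj PUnit.unit).hom] [QuasiSeparated (D.obj PUnit.unit).hom] :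
    (∃ U : Over S, Etale U.hom ∧ Nonempty ((Desc.toDDFam (fun _ : PUnit.{1} => g)).obj U ≅ D)) ↔
      ∀ a : S, (∃ U : Over (Spec (S.presheaf.stalk a)), Etale U.hom ∧
        Nonempty ((Desc.toDDFam (fun _ : PUnit.{1} => pullback.snd g (S.fromSpecStalk a))).obj U ≅
          (Desc.pullDDFam (f := fun _ : PUnit.{1} => g) (f' := fun _ : PUnit.{1} => pullback.snd g (S.fromSpecStalk a))
        (α := id) (p := (S.fromSpecStalk a)) (p' := fun _ => pullback.fst g (S.fromSpecStalk a)) (fun _ => pullback.condition)).obj D)) := by
  have : Surjective g := EtDescX.surjective_of_univSubmersive hg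
  let D₀ := (Desc.SchDDFam.toSchDD g).obj D
  have : Etale D₀.obj.hom := inferInstanceAs (Etale (D.obj PUnit.unit).hom)
  have : QuasiCompact D₀.obj.hom := inferInstanceAs (QuasiCompact (D.obj PUnit.unit).hom)
  have : QuasiSeparated D₀.obj.hom := inferInstanceAs (QuasiSeparated (D.obj PUnit.unit).hom)
  constructor
  · rintro ⟨U, hU, ⟨e⟩⟩ a
    obtain ⟨c⟩ := EtDescX.nonempty_toDDFam_base (g := g) (S.fromSpecStalk a) U
    exact ⟨Over.mk (pullback.fst (S.fromSpecStalk a) U.hom),
      inferInstanceAs (Etale (pullback.fst (S.fromSpecStalk a) U.hom)), ⟨c ≪≫ (Desc.pullDDFam _).mapIso e⟩⟩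
  · intro H
    have hW : ∀ a : S, ∃ W : S.Opens, a ∈ W ∧ EtDescX.Eff W.ι D₀ := fun a => by
      obtain ⟨E, hE, hi⟩ := H a
      exact EtDescX.exists_eff_nhd (D := D₀) a ⟨E, hE, (EtDescX.nonempty_iso_pull_iff _ E D).1 hi⟩
    choose W ha hEff using hW
    obtain ⟨U, hU, hi⟩ := EtDescX.exists_effective_of_open_cover hg D₀ W
      (top_le_iff.1 fun a _ => TopologicalSpace.Opens.mem_iSup.2 ⟨a, ha a⟩) hEff
    exact ⟨U, hU, (EtDescX.nonempty_iso_fam_iff U D).2 hi⟩

end Groth.Agent.S5125
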