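import Groth.Statements.S5127
import Groth.Agent.EtDescX.Complete
import Groth.Agent.EtDescX.Gonflement

set_option autoImplicit false
universe u
open SGA1

namespace Groth.Agent.S5127

set_option backward.isDefEq.respectTransparency false
set_option backward.isDefEq.respectTransparency.types false


open AlgebraicGeometry CategoryTheory CategoryTheory.Limits in
/-- Let S be locally Noetherian, g : S' ⟶ S universally submersive and of finite presentation, and D a
descent datum relative to g (functor-of-points form, for the one-member family g) whose underlying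
S'-scheme is etale, separated and of finite presentation over S'. Then D is the canonical datum of
some etale S-scheme if and only if, for every complete Noetherian local ring B with algebraically
closed residue field and every morphism q : Spec B ⟶ S, the descent datum induced over Spec B
(relative to S' ×_S Spec B ⟶ Spec B) is the canonical datum of some etale B-scheme. -/
theorem result {S S' : Scheme.{u}} [IsLocallyNoetherian S]
    (g : S' ⟶ S) (hg : SGA1.UnivSubmersive g) [LocallyOfFinitePresentation g] [QuasiCompact g] [QuasiSeparated g]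
    (D : Desc.SchDDFam (fun _ : PUnit.{1} => g)) [Etale (D.obj PUnit.unit).hom]
    [QuasiCompact (D.obj PUnit.unit).hom] [IsSeparated (D.obj PUnit.unit).hom] :
    (∃ U : Over S, Etale U.hom ∧ Nonempty ((Desc.toDDFam (fun _ : PUnit.{1} => g)).obj U ≅ D)) ↔ ∀ (B : Type u) [CommRing B] [IsNoetherianRing B] [IsLocalRing B]
      [IsAdicComplete (IsLocalRing.maximalIdeal B) B] [IsAlgClosed (IsLocalRing.ResidueField B)]
      (q : Spec (CommRingCat.of B) ⟶ S), (∃ U : Over (Spec (CommRingCat.of B)), Etale U.hom ∧
        Nonempty ((Desc.toDDFam (fun _ : PUnit.{1} => pullback.snd g q)).obj U ≅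
          (Desc.pullDDFam (f := fun _ : PUnit.{1} => g) (f' := fun _ : PUnit.{1} => pullback.snd g q)
        (α := id) (p := q) (p' := fun _ => pullback.fst g q) (fun _ => pullback.condition)).obj D)) := by
  constructor
  · rintro ⟨U, hU, ⟨e⟩⟩ B _ _ _ _ _ q
    obtain ⟨c⟩ := EtDescX.nonempty_toDDFam_base (g := g) q U
    exact ⟨Over.mk (pullback.fst q U.hom), inferInstanceAs (Etale (pullback.fst q U.hom)),
      ⟨c ≪≫ (Desc.pullDDFam _).mapIso e⟩⟩
  · intro H
    exact EtDescX.exists_effective_of_complete hg D fun a => by
      obtain ⟨C, i₁, i₂, hff, hN, hL, hC, hK⟩ := EtDescX.exists_complete_algClosed (S.presheaf.stalk a)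
      obtain ⟨E, hE, hi⟩ := H C (Spec.map (CommRingCat.ofHom (algebraMap (S.presheaf.stalk a) C)) ≫ S.fromSpecStalk a)
      exact ⟨C, i₁, i₂, hff, E, hE, (EtDescX.nonempty_iso_pull_iff _ E D).1 hi⟩

end Groth.Agent.S5127
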