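import Groth.Statements.S5178
import Groth.Agent.CILib.Basic

set_option autoImplicit false
set_option backward.isDefEq.respectTransparency false
set_option backward.isDefEq.respectTransparency.types false
set_option linter.style.haveILetI false
universe u
open CInt

namespace Groth.Agent.S5178

/-- Let A be a Noetherian local ring of dimension d, and let the completion of A be presented as B/I
with B a regular local ring of dimension e and I an ideal whose minimal number of generators is q,
so that e − q is the geometric depth of A (this number does not depend on the presentation). Then e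
− q ≤ d, and equality holds if and only if A is a complete intersection, i.e. its completion is a
regular local ring modulo an ideal generated by a regular sequence. -/
theorem result (A : Type u) [CommRing A] [IsLocalRing A] [IsNoetherianRing A] (B : Type u) [CommRing B] [IsRegularLocalRing B] (I : Ideal B) (hpres : Nonempty (AdicCompletion (IsLocalRing.maximalIdeal A) A ≃+* B ⧸ I)) (d e : ℕ) (hd : ringKrullDim A = (d : WithBot ℕ∞)) (he : ringKrullDim B = (e : WithBot ℕ∞)) : (e : ℤ) - (I.spanFinrank : ℤ) ≤ (d : ℤ) ∧ ((e : ℤ) - (I.spanFinrank : ℤ) = (d : ℤ) ↔ Pi1.IsCompleteIntersection A) := by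
  obtain ⟨iso⟩ := hpres
  let Ah := AdicCompletion (IsLocalRing.maximalIdeal A) A
  haveI : IsNoetherianRing Ah := Groth.Agent.LC.Canon.isNoetherianRing_completion (R := A)
  haveI := Groth.Agent.CILib.isAdicComplete_adicCompletion A
  let π : B →+* Ah := iso.symm.toRingHom.comp (Ideal.Quotient.mk I)
  have hπ : Function.Surjective π := iso.symm.surjective.comp Ideal.Quotient.mk_surjective
  have hk : RingHom.ker π = I := by
    ext x
    rw [RingHom.mem_ker]
    show iso.symm (Ideal.Quotient.mk I x) = 0 ↔ _
    rw [map_eq_zero_iff iso.symm iso.symm.injective, Ideal.Quotient.eq_zero_iff_mem]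
  let e' : Ah ≃+* AdicCompletion (IsLocalRing.maximalIdeal Ah) Ah :=
    RingEquiv.ofBijective (algebraMap _ _) (AdicCompletion.of_bijective _ _)
  have hCI : Pi1.IsCompleteIntersection A ↔ Pi1.IsCompleteIntersection Ah := by
    constructor
    · rintro ⟨B', i1, i2, rs, hm, hr, ⟨f⟩⟩
      exact ⟨B', i1, i2, rs, hm, hr, ⟨e'.symm.trans f⟩⟩
    · rintro ⟨B', i1, i2, rs, hm, hr, ⟨f⟩⟩
      exact ⟨B', i1, i2, rs, hm, hr, ⟨e'.trans f⟩⟩
  have hdA : ringKrullDim Ah = (d : WithBot ℕ∞) := (Groth.Agent.CILib.ringKrullDim_adicCompletion A).trans hd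
  have hdI : ringKrullDim (B ⧸ I) = (d : WithBot ℕ∞) := (ringKrullDim_eq_of_ringEquiv iso).symm.trans hdA
  have hI : I ≠ ⊤ := hk ▸ RingHom.ker_ne_top π
  have hle : e ≤ d + I.spanFinrank := by
    have h := ringKrullDim_le_ringKrullDim_quotient_add_spanFinrank (I := I) (by
      rw [IsLocalRing.ringJacobson_eq_maximalIdeal]; exact IsLocalRing.le_maximalIdeal hI)
    rw [he, hdI] at h
    exact_mod_cast h
  refine ⟨by omega, ?_⟩
  rw [hCI, Groth.Agent.CILib.isCI_iff_ciKer π hπ]
  constructor
  · intro h
    obtain ⟨gs, hcard, hgs⟩ := Submodule.FG.exists_span_finset_card_eq_spanFinrank (IsNoetherian.noetherian I)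
    obtain ⟨k, hspan⟩ : ∃ k : Fin I.spanFinrank → B, Ideal.span (Set.range k) = I := by
      refine ⟨fun i => ((gs.equivFinOfCardEq hcard).symm i).1, ?_⟩
      rw [Set.range_comp' Subtype.val, (gs.equivFinOfCardEq hcard).symm.surjective.range_eq, Set.image_univ,
        Subtype.range_coe_subtype]
      exact hgs
    refine ⟨I.spanFinrank, k, hk.trans hspan.symm, ?_⟩
    rw [he, hdA]
    exact_mod_cast (show e = d + I.spanFinrank by omega)
  · rintro ⟨r, k, hr, hdim⟩
    rw [he, hdA] at hdim
    have h1 : e = d + r := by exact_mod_cast hdim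
    have h2 : I.spanFinrank ≤ r := by
      rw [← hk, hr]
      exact (Submodule.spanFinrank_span_le_ncard_of_finite (Set.finite_range k)).trans
        ((Nat.card_coe_set_eq _).symm.trans_le ((Finite.card_range_le k).trans_eq (Nat.card_fin r)))
    omega

end Groth.Agent.S5178
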