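import Groth.Statements.S5186
import Groth.Agent.PerfGen7.RpushCoh
import Groth.Agent.KFlatLib.Scheme.RpushQCoh
import Groth.Agent.KFlatLib.Scheme.LpullLE
import Groth.Agent.KFlatLib.Scheme.ProjLocFree
import Groth.Agent.QCoh.SupportFT
import Groth.Agent.S0922
import Groth.Agent.QCoh.RpushClosed

set_option backward.isDefEq.respectTransparency false
set_option linter.style.haveILetI false

set_option autoImplicit false
universe u
open CategoryTheory AlgebraicGeometry
open Coherent

namespace Groth.Agent.S5186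

/-- Let f : X → S be a proper morphism of schemes with S locally Noetherian, U an open subset of X with
inclusion g : U → X, h = f ∘ g : U → S, F an O_U-module and n ≥ 0. If the higher direct images R^i
g_*(F) are coherent O_X-modules for all i ≤ n, then the higher direct images R^i h_*(F) are coherent
O_S-modules for all i ≤ n. (The existence of injective resolutions in the module categories is
carried as instance arguments.) -/
theorem result {X S : Scheme.{u}} (f : X ⟶ S) [IsProper f] [IsLocallyNoetherian S] (U : X.Opens) [HasInjectiveResolutions (U : Scheme.{u}).Modules] [HasInjectiveResolutions X.Modules] (F : (U : Scheme.{u}).Modules) (n : ℕ) (hg : ∀ i : ℕ, i ≤ n → Coh.IsCoh ((Coh.Rpush U.ι i).obj F)) (i : ℕ) (hi : i ≤ n) : Coh.IsCoh ((Coh.Rpush (U.ι ≫ f) i).obj F) := by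
  letI : HasDerivedCategory (U : Scheme.{u}).Modules := HasDerivedCategory.standard _
  letI : HasDerivedCategory X.Modules := HasDerivedCategory.standard _
  letI : HasDerivedCategory S.Modules := HasDerivedCategory.standard _
  haveI := LocallyOfFiniteType.isLocallyNoetherian f
  haveI := KFlatLib.hasRpush_scheme f
  haveI := KFlatLib.hasRpush_scheme U.ι
  haveI := KFlatLib.hasRpush_scheme (U.ι ≫ f)
  let K := (DCoh.Rpush U.ι).obj (DCoh.inD (U : Scheme.{u}) F)
  haveI : (DCoh.inD (U : Scheme.{u}) F).IsGE 0 :=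
    inferInstanceAs (((DerivedCategory.singleFunctor (U : Scheme.{u}).Modules 0).obj F).IsGE 0)
  haveI hK : K.IsGE 0 := KFlatLib.isGE_rpush U.ι (DCoh.inD (U : Scheme.{u}) F) 0
  obtain ⟨T, hT, hT₂, h₁le, h₃ge, e₁, -⟩ := PerfGen7.exists_split K (n : ℤ)
  haveI := h₁le
  haveI := h₃ge
  have hcoh : ∀ j, Coh.IsCoh (DCoh.HD T.obj₁ j) := fun j => by
    by_cases hj : j ≤ (n : ℤ)
    · refine KFlatLib.isCoh_of_iso (e₁ j hj).some.symm ?_
      rcases lt_or_ge j 0 with h | h
      · exact KFlatLib.isCoh_of_isZero (DerivedCategory.isZero_of_isGE K 0 j h)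
      · obtain ⟨q, rfl⟩ := Int.eq_ofNat_of_zero_le h
        exact KFlatLib.isCoh_of_iso (KFlatLib.nonempty_hd_rpush_single U.ι F q).some.symm (hg q (by omega))
    · exact KFlatLib.isCoh_of_isZero (DerivedCategory.isZero_of_isLE T.obj₁ (n : ℤ) j (by omega))
  haveI : T.obj₁.IsGE 0 := by
    rw [DerivedCategory.isGE_iff]
    exact fun j hj => (DerivedCategory.isZero_of_isGE K 0 j hj).of_iso (e₁ j (by omega)).some
  have hgood : ∀ j, PerfGen7.GoodMod f (DCoh.HD T.obj₁ j) := fun j =>
    ⟨hcoh j, Or.inr ⟨QCoh.isClosed_support_of_ft (hcoh j).2, inferInstance⟩⟩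
  have hR := PerfGen7.isCohD_rpush_of_isGE f T.obj₁ 0 hgood
  obtain ⟨c, hc⟩ := KFlatLib.exists_rpush_triangle f T hT
  obtain ⟨ec⟩ := Groth.Agent.S0922.result U.ι f
  let g := (DerivedCategory.homologyFunctor S.Modules (i : ℤ)).map ((DCoh.Rpush f).map T.mor₁)
  haveI : Epi g := (DerivedCategory.HomologySequence.exact₂ _ hc (i : ℤ)).epi_f
    ((KFlatLib.isZero_hd_rpush_of_lt f T.obj₃ ((n : ℤ) + 1) i (by omega)).eq_of_tgt _ _)
  haveI : Mono g := (DerivedCategory.HomologySequence.exact₁ _ hc ((i : ℤ) - 1) i (by omega)).mono_g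
    ((KFlatLib.isZero_hd_rpush_of_lt f T.obj₃ ((n : ℤ) + 1) ((i : ℤ) - 1) (by omega)).eq_of_src _ _)
  have hgi : IsIso g := isIso_of_mono_of_epi g
  refine KFlatLib.isCoh_of_iso (@asIso _ _ _ _ g hgi ≪≫
    (DerivedCategory.homologyFunctor S.Modules (i : ℤ)).mapIso ((DCoh.Rpush f).mapIso (eqToIso hT₂) ≪≫
      ec.app (DCoh.inD (U : Scheme.{u}) F)) ≪≫
    (KFlatLib.nonempty_hd_rpush_single (U.ι ≫ f) F i).some) (hR i)

end Groth.Agent.S5186
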