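import Groth.Statements.S5192
import Groth.Agent.GradExt.Vanish
import Groth.Agent.PunctAlg.PicExtend

set_option autoImplicit false
universe u
open CategoryTheory CategoryTheory.Limits AlgebraicGeometry
open LefX

namespace Groth.Agent.S5192

/-- Normal flatness assumed along all of X_0. Let A be a Noetherian ring which is a quotient of a
regular ring, J an ideal such that A is separated and complete for the J-adic topology, X = Spec A,
X_0 = V(J), I an ideal with Y = V(I), U = X − Y (the union of the D(f), f ∈ I) and U_0 = U ∩ X_0.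
Assume: (a) every J^n/J^(n+1) is flat over A/J (X normally flat along X_0); (b) for every prime p ⊇
I + J the local ring (A/J)_p has depth ≥ 3; (c) for every prime p ⊇ I not containing J, A_p has
depth ≥ 3. Then (1) for every finite locally free O_U-module D the map Hom(D, O_U) → lim_n Hom(D,
O_U/J^(n+1)O_U) is bijective (completion along U_0 is fully faithful on finite locally free
modules), and (2) every levelwise finite locally free system of coherent modules on the completion
of U along U_0 is isomorphic to the completion of a coherent O_U-module. (The published statement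
asks normal flatness only at the points of Y ∩ X_0; this row assumes it along all of X_0.) -/
theorem result (R : Type u) [CommRing R] [IsRegularRing R] (A : Type u) [CommRing A] [IsNoetherianRing A] (π : R →+* A) (hπ : Function.Surjective π) (J : Ideal A) [IsAdicComplete J A] (I : Ideal A) (ha : ∀ n : ℕ, Module.Flat (A ⧸ J) (↥(J ^ n) ⧸ (J • (⊤ : Submodule A ↥(J ^ n))))) (hb : ∀ p : Ideal A, ∀ _ : p.IsPrime, I ≤ p → J ≤ p → (3 : ℕ∞) ≤ LocCoh.depth (Localization.AtPrime p) (Localization.AtPrime p ⧸ J.map (algebraMap A (Localization.AtPrime p)))) (hc : ∀ p : Ideal A, ∀ _ : p.IsPrime, I ≤ p → ¬ J ≤ p → (3 : ℕ∞) ≤ LocCoh.depth (Localization.AtPrime p) (Localization.AtPrime p)) : (∀ D : (↑(⨆ f : ↥I, (Spec (CommRingCat.of A)).basicOpen ((Scheme.ΓSpecIso (CommRingCat.of A)).inv f.1)) : Scheme.{u}).Modules, FlatMod.IsFinLocFree D → Lef.HomToFormalBijective ((Spec.map (CommRingCat.ofHom (Ideal.Quotient.mk J))).ker.comap (⨆ f : ↥I, (Spec (CommRingCat.of A)).basicOpen ((Scheme.ΓSpecIso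 (CommRingCat.of A)).inv f.1)).ι) D) ∧ (∀ 𝔐 : FSch.ModSys (FSch.completionAlong (↑(⨆ f : ↥I, (Spec (CommRingCat.of A)).basicOpen ((Scheme.ΓSpecIso (CommRingCat.of A)).inv f.1)) : Scheme.{u}) ((Spec.map (CommRingCat.ofHom (Ideal.Quotient.mk J))).ker.comap (⨆ f : ↥I, (Spec (CommRingCat.of A)).basicOpen ((Scheme.ΓSpecIso (CommRingCat.of A)).inv f.1)).ι)), LefX.LevelwiseFinLocFree 𝔐 → ∃ F : (↑(⨆ f : ↥I, (Spec (CommRingCat.of A)).basicOpen ((Scheme.ΓSpecIso (CommRingCat.of A)).inv f.1)) : Scheme.{u}).Modules, Coh.IsCoh F ∧ Nonempty (FSch.completionMod ((Spec.map (CommRingCat.ofHom (Ideal.Quotient.mk J))).ker.comap (⨆ f : ↥I, (Spec (CommRingCat.of A)).basicOpen ((Scheme.ΓSpecIso (CommRingCat.of A)).inv f.1)).ι) F ≅ 𝔐)) := by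
  have hdep : ((3 : ℕ) : ℕ∞) ≤ LocCoh.idealDepth I (A ⧸ J) := by
    rw [Groth.Agent.LC.idealDepth_eq_iInf_depth]
    refine le_iInf₂ fun p hp => ?_
    by_cases hJp : J ≤ p.asIdeal
    · exact (hb p.asIdeal p.isPrime hp hJp).trans_eq (Groth.Agent.GradExt.depth_localized_quot J p.asIdeal)
    · obtain ⟨c, hcJ, hcp⟩ := SetLike.not_le_iff_exists.1 hJp
      haveI : Subsingleton (LocalizedModule p.asIdeal.primeCompl (A ⧸ J)) :=
        LocalizedModule.subsingleton_iff.2 fun v => ⟨c, hcp, by
          obtain ⟨v, rfl⟩ := Submodule.Quotient.mk_surjective J v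
          rw [← Submodule.Quotient.mk_smul, Submodule.Quotient.mk_eq_zero, smul_eq_mul]
          exact J.mul_mem_right v hcJ⟩
      rw [LocCoh.depth, LocCoh.idealDepth, if_pos (Subsingleton.elim _ _)]
      exact le_top
  have hvan := (Groth.Agent.LC.le_idealDepth_iff_H I (A ⧸ J) 3).1 hdep
  have hgr' : ∀ n, Module.Projective (A ⧸ J) (↥(J ^ (n + 1)) ⧸ (J • (⊤ : Submodule A ↥(J ^ (n + 1))))) := fun n => by
    haveI := ha (n + 1)
    haveI : Module.Finite (A ⧸ J) (↥(J ^ (n + 1)) ⧸ (J • (⊤ : Submodule A ↥(J ^ (n + 1))))) :=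
      Module.Finite.of_restrictScalars_finite A (A ⧸ J) _
    haveI := Module.finitePresentation_of_finite (A ⧸ J) (↥(J ^ (n + 1)) ⧸ (J • (⊤ : Submodule A ↥(J ^ (n + 1)))))
    exact Module.Flat.projective_of_finitePresentation
  refine Groth.Agent.GradExt.lef_and_algebraization I J hgr' (fun i hi => hvan i (by omega))
    (fun i hi => haveI : Subsingleton (LocCoh.H I i (A ⧸ J)) := hvan i (by omega); inferInstance) _ ?_
  ext x
  simp only [SetLike.mem_coe, TopologicalSpace.Opens.mem_iSup]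
  show (∃ f : ↥I, x ∈ (Spec (CommRingCat.of A)).basicOpen ((Scheme.ΓSpecIso (CommRingCat.of A)).inv f.1)) ↔
    x ∈ (PrimeSpectrum.zeroLocus (R := A) (I : Set A))ᶜ
  have hbo : ∀ f : A, x ∈ (Spec (CommRingCat.of A)).basicOpen ((Scheme.ΓSpecIso (CommRingCat.of A)).inv f) ↔
      f ∉ x.asIdeal := fun f => by
    rw [basicOpen_eq_of_affine (R := CommRingCat.of A) f]
    rfl
  constructor
  · rintro ⟨f, hf⟩ h
    exact (hbo f.1).1 hf (h f.2)
  · intro h
    obtain ⟨f, hf, hfx⟩ := Set.not_subset.1 h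
    exact ⟨⟨f, hf⟩, (hbo f).2 hfx⟩

end Groth.Agent.S5192
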