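import Groth.Statements.S5193
import Groth.Agent.FormalAlg.Relative
import Groth.Agent.FormalAlg.Algebraize
import Groth.Agent.FormalAlg.Extension
import Groth.Agent.FormalAlg.InvTwist
import Groth.Agent.LefLib.Formal
import Groth.Agent.LefLib.PicThick
import Groth.Agent.LefLib.Algebraize
import Groth.Agent.DepthRel.Fibres
import Groth.Agent.DepthRel.Lef
import Groth.Agent.FibVanish.Basic
import Groth.Agent.ParaExt.Local
import Groth.Agent.ParaRel.Fibre

set_option autoImplicit false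
universe u
open CategoryTheory CategoryTheory.Limits AlgebraicGeometry
open LefX

namespace Groth.Agent.S5193

open Groth.Agent Groth.Agent.H23.PicMul AlgebraicGeometry CategoryTheory CategoryTheory.Limits TopologicalSpace

/-- Over an affine base. Let A be a Noetherian ring, X a proper flat A-scheme, 𝓘 a quasi-coherent ideal
whose ideal module is invertible with ample inverse L, such that X_0 = V(𝓘) is also flat over A (so
X is projective over A and 𝓘 is cut out by a section t of L regular on every fibre); write X_m =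
V(𝓘^(m+1)) for the m-th thickening of X_0. Assume that every fibre X_s has depth ≥ 3 at each of its
closed points, and that at every point x outside X_0 which is closed in its fibre the local ring of
the fibre at x is parafactorial. Let m ≥ 0 be such that H^i(X, 𝓘^n/𝓘^(n+1)) = H^i(X_0, O_{X_0}(−n))
vanishes for i = 1, 2 and every n > m (over an affine base this is the vanishing of the higher
direct images R^i f_{0*}). Then pull-back of invertible modules Pic(X) → Pic(X_m) is bijective: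
trivial kernel and surjective on isomorphism classes. -/
theorem result (A : Type u) [CommRing A] [IsNoetherianRing A] (X : Scheme.{u}) [X.Over (Spec (CommRingCat.of A))] [IsProper (X ↘ Spec (CommRingCat.of A))] [Flat (X ↘ Spec (CommRingCat.of A))] (𝓘 : X.IdealSheafData) (L : X.Modules) (hL : ClSub.IsInverseOf L (ClSub.idealMod 𝓘)) (hamp : CohB1.IsAmple L) [Flat (𝓘.subschemeι ≫ (X ↘ Spec (CommRingCat.of A)))] (hdepth : ∀ x : X, IsClosed ({((X ↘ Spec (CommRingCat.of A))).asFiber x} : Set ↥(((X ↘ Spec (CommRingCat.of A))).fiber (((X ↘ Spec (CommRingCat.of A))).base x))) → (3 : ℕ∞) ≤ LocCoh.depth ↑(CInt.fiberStalk (X ↘ Spec (CommRingCat.of A)) x) ↑(CInt.fiberStalk (X ↘ Spec (CommRingCat.of A)) x)) (hpf : ∀ x : X, IsClosed ({((X ↘ Spec (CommRingCat.of A))).asFiber x} : Set ↥(((X ↘ Spec (CommRingCat.of A))).fiber (((X ↘ Spec (CommRingCat.of A))).base x))) → x ∉ (𝓘.support : Set X) → ParaF.IsParafactorialLocalRing ↑(CInt.fiberStalk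 (X ↘ Spec (CommRingCat.of A)) x)) (m : ℕ) (hH : ∀ n : ℕ, m < n → ∀ i : ℕ, (i = 1 ∨ i = 2) → Subsingleton (Coh.HH X ((DCoh.tensorBi.obj (CohB1.tensorPow (ClSub.idealMod 𝓘) n)).obj (ClSub.quotMod 𝓘)) i)) : Formal2.PicPullbackInjective (𝓘 ^ (m + 1)).subschemeι ∧ Formal2.PicPullbackSurjective (𝓘 ^ (m + 1)).subschemeι := by
  let q := X ↘ Spec (CommRingCat.of A)
  haveI : IsLocallyNoetherian X := LocallyOfFiniteType.isLocallyNoetherian q
  haveI := FibVanish.isNoetherian_of_proper A (X := X)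
  obtain ⟨L', hL', ⟨eL⟩⟩ := H23.PicInv.exists_inverse hamp.1
  have hLI : PicF.cl L * PicF.cl (ClSub.idealMod 𝓘) = 1 := by
    rw [← cl_tensor, H23.PicMul.one_def]; exact cl_eq_iff.2 hL
  have hLL' : PicF.cl L * PicF.cl L' = 1 := by
    rw [← cl_tensor, H23.PicMul.one_def]; exact cl_eq_iff.2 ⟨eL⟩
  have hI : PicF.IsInvertible (ClSub.idealMod 𝓘) := by
    obtain ⟨e⟩ : Nonempty (L' ≅ ClSub.idealMod 𝓘) :=
      cl_eq_iff.1 (left_inv_eq_right_inv (by rw [mul_comm]; exact hLL') hLI)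
    exact H23.PicMul.isInvertible_of_iso e hL'
  have hdepth2 : ∀ x : X, IsClosed ({q.asFiber x} : Set ↥(q.fiber (q.base x))) →
      (2 : ℕ∞) ≤ LocCoh.depth ↑(CInt.fiberStalk q x) ↑(CInt.fiberStalk q x) :=
    fun x hx => le_trans (by norm_num) (hdepth x hx)
  have hvan' : ∀ Q : X.Modules, PicF.IsInvertible Q → ∃ m₀, ∀ j, m₀ ≤ j → ∀ i, i ≤ 1 →
      Subsingleton (Coh.HH X (CohB1.tensorMod Q (CohB1.tensorPow (ClSub.idealMod 𝓘) j)) i) := fun Q hQ => by
    refine DepthRel.exists_vanishing A hamp hL Q (CurveDeg.isCoh_of_isInvertible hQ)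
      (PerfLocus7.isFlatOver_of_isFinLocFree _ (H23.PullPush.isFinLocFree_of_isInvertible hQ)) 1 fun x hx => ?_
    refine le_trans ?_ (FormalAlg.le_fibDepth_of_isFinLocFree _ (H23.PullPush.isFinLocFree_of_isInvertible hQ) x)
    rw [DepthRel.fibDepth_unit]
    exact hdepth2 x (DepthRel.isClosed_asFiber_of_isClosed _ hx)
  have hlef : ∀ G : X.Modules, Coh.IsCoh G → Lef.HomToFormalBijective 𝓘 G := fun G hG =>
    DepthRel.homToFormal_coh hI hL hamp hvan' hG
  let a := PicF.cl (ClSub.idealMod 𝓘)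
  have hclq : ∀ j, PicF.cl ((DCoh.tensorBi.obj (CohB1.tensorPow (ClSub.idealMod 𝓘) j)).obj (ClSub.quotMod 𝓘)) =
      PicF.cl (ClSub.quotMod 𝓘) * a ^ j := fun j => by
    rw [show PicF.cl ((DCoh.tensorBi.obj (CohB1.tensorPow (ClSub.idealMod 𝓘) j)).obj (ClSub.quotMod 𝓘)) =
      PicF.cl (CohB1.tensorPow (ClSub.idealMod 𝓘) j) * PicF.cl (ClSub.quotMod 𝓘) from cl_tensor _ _,
      cl_tensorPow, mul_comm]
  have hvan : ∀ j, m < j → ∀ i, (i = 1 ∨ i = 2) → FormalAlg.Van i (PicF.cl (ClSub.quotMod 𝓘) * a ^ j) :=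
    fun j hj i hi => FormalAlg.van_of i _ (hH j hj i hi) (hclq j)
  have hker : ∀ i, (i = 1 ∨ i = 2) → ∀ j : ℕ, m ≤ j → Subsingleton (Coh.HH X
      (kernel (Lef.quotMap (I := 𝓘 ^ (j + 1 + 1)) (J := 𝓘 ^ (j + 1)) (Lef.pow_succ_le 𝓘 j))) i) := fun i hi j hj =>
    hvan (j + 1) (by omega) i hi _ (FormalAlg.cl_kernel_quotMap 𝓘 hI j)
  refine ⟨fun M hM ⟨ut⟩ => ?_, ?_⟩
  · -- injectivity
    obtain ⟨D, hD, ⟨eD⟩⟩ := H23.PicInv.exists_inverse hM
    have hinv : PicF.cl M * PicF.cl D = 1 := by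
      rw [← cl_tensor, H23.PicMul.one_def]; exact cl_eq_iff.2 ⟨eD⟩
    let ι := (𝓘 ^ (m + 1)).subschemeι
    have hp : PicF.pullCl ι (PicF.cl M) = 1 := by rw [H23.PicMul.one_def]; exact cl_eq_iff.2 ⟨ut⟩
    have htriv : PicF.cl (ClSub.quotMod (𝓘 ^ (m + 1))) * PicF.cl M = PicF.cl (ClSub.quotMod (𝓘 ^ (m + 1))) := by
      obtain ⟨u⟩ : Nonempty (CohB1.tensorMod (Coh.structureModule (𝓘 ^ (m + 1)).subscheme)
          ((Scheme.Modules.pullback ι).obj M) ≅ Coh.structureModule _) := cl_eq_iff.1 (by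
        rw [cl_tensor, ← H23.PicMul.one_def, one_mul]
        exact hp)
      have hi := KFlatLib.isIso_projMod_of_isClosedImmersion ι (Coh.structureModule (𝓘 ^ (m + 1)).subscheme) M
      rw [← cl_tensor]
      exact cl_eq_iff.2 ⟨@asIso _ _ _ _ (KFlatLib.projMod ι (Coh.structureModule (𝓘 ^ (m + 1)).subscheme) M) hi ≪≫
        (Scheme.Modules.pushforward ι).mapIso u⟩
    exact LefLib.trivial_of_thick 𝓘 (fun E hE => hlef E (CurveDeg.isCoh_of_isFinLocFree hE)) hM hD hinv m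
      (fun j hj => hker 1 (Or.inl rfl) j hj) htriv
  -- surjectivity
  intro N hN
  obtain ⟨𝔐, h𝔐, hNm⟩ := LefLib.exists_system 𝓘 m (fun j hj => hker 2 (Or.inr rfl) j hj) m le_rfl N hN
  let Y := (𝓘 ^ (0 + 1)).subscheme
  let ι := (𝓘 ^ (0 + 1)).subschemeι
  haveI : IsLocallyNoetherian Y := LocallyOfFiniteType.isLocallyNoetherian ι
  haveI : CompactSpace Y := ι.isClosedEmbedding.compactSpace
  have hq0 : ∀ i, PicF.cl (ClSub.quotMod 𝓘) * a ^ i =
      PicF.cl ((Scheme.Modules.pushforward ι).obj (Coh.structureModule Y)) * PicF.cl (CohB1.tensorPow (ClSub.idealMod 𝓘) i) := fun i => by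
    rw [cl_tensorPow]
    refine congrArg (· * _) ?_
    show _ = PicF.cl (ClSub.quotMod (𝓘 ^ (0 + 1)))
    rw [zero_add, pow_one]
  let M₀ := (Scheme.Modules.pullback ι).obj (ClSub.idealMod 𝓘)
  have hM₀ : PicF.IsInvertible M₀ := PicClLib.isInvertible_pullback ι hI
  have hclP : ∀ j, PicF.pullCl ι (PicF.cl (CohB1.tensorPow (ClSub.idealMod 𝓘) j)) = PicF.cl M₀ ^ j := fun j => by
    rw [cl_tensorPow, pullCl_pow]; rfl
  obtain ⟨m₀, hm₀⟩ := hvan' (Coh.structureModule X) InvX.isInvertible_structureModule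
  have hX : ∀ i, i ≤ 1 → ∀ j, m₀ ≤ j → FormalAlg.Van i (a ^ j) := fun i hi j hj =>
    FormalAlg.van_of i _ (hm₀ j hj i hi) (by rw [cl_tensor, cl_tensorPow, ← H23.PicMul.one_def, one_mul])
  have h0 : ∀ j, m₀ ≤ j → FormalAlg.Van 0 (PicF.cl (ClSub.quotMod 𝓘) * a ^ j) := fun j hj => by
    let T := AmpleVan.tw (CohB1.tensorPow (ClSub.idealMod 𝓘) j)
    haveI := AmpleVan.isEquivalence_tw (InvX.isInvertible_tensorPow hI j)
    have hS := (IntSym.shortExact_toSubscheme 𝓘).map_of_exact T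
    refine FormalAlg.van_of 0 (T.obj (ClSub.quotMod 𝓘)) ?_ (by rw [FormalAlg.cl_tw, cl_tensorPow])
    have h₂ : Subsingleton (Coh.HH X (T.obj (Coh.structureModule X)) 0) :=
      hX 0 (by omega) j hj _ (by rw [FormalAlg.cl_tw, cl_tensorPow, ← H23.PicMul.one_def, one_mul])
    have h₁ : Subsingleton (Coh.HH X (T.obj (ClSub.idealMod 𝓘)) 1) :=
      hX 1 le_rfl (j + 1) (by omega) _ (by rw [FormalAlg.cl_tw, cl_tensorPow, pow_succ, mul_comm])
    refine ⟨fun z z' => ?_⟩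
    obtain ⟨y, rfl⟩ := (QCoh.Ab.connecting_eq_zero_iff (X := X.toPresheafedSpace.carrier)
      (QCoh.toAb_shortExact hS) 0 z).1 (h₁.elim _ _)
    obtain ⟨y', rfl⟩ := (QCoh.Ab.connecting_eq_zero_iff (X := X.toPresheafedSpace.carrier)
      (QCoh.toAb_shortExact hS) 0 z').1 (h₁.elim _ _)
    rw [show y = y' from h₂.elim y y']
  have hY : ∀ i, i ≤ 1 → ∃ j₀, ∀ j, j₀ ≤ j → FormalAlg.Van i (PicF.cl M₀ ^ j) := fun i hi =>
    ⟨m₀ + m + 1, fun j hj => by
      have h := FormalAlg.van_push ι (N := Coh.structureModule Y)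
        (ProjUPX.isQCoh_of_isInvertible InvX.isInvertible_structureModule) (InvX.isInvertible_tensorPow hI j) i
      rw [← H23.PicMul.one_def, one_mul, hclP] at h
      refine h.1 ?_
      rw [← hq0 j]
      interval_cases i
      · exact h0 j (by omega)
      · exact hvan j (by omega) 1 (Or.inl rfl)⟩
  have hampY : CohB1.IsAmple ((Scheme.Modules.pullback ι).obj L) :=
    AmpleVan.isAmple_pullback_of_isEmbedding ι ι.isClosedEmbedding.isEmbedding hamp
  have hLM : PicF.cl ((Scheme.Modules.pullback ι).obj L) * PicF.cl M₀ = 1 := by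
    show PicF.pullCl ι (PicF.cl L) * PicF.pullCl ι (PicF.cl (ClSub.idealMod 𝓘)) = 1
    rw [← pullCl_mul, hLI, pullCl_one]
  have hG : ∀ i, i ≤ 1 → ∃ j₀, ∀ j, j₀ ≤ j → FormalAlg.Van i
      (PicF.cl ((Scheme.Modules.pushforward ι).obj (show Y.Modules from 𝔐.F 0)) * PicF.cl (ClSub.idealMod 𝓘) ^ j) :=
    fun i hi => by
      obtain ⟨j₀, hj₀⟩ := FormalAlg.van_invertible hampY hM₀ hLM hY i hi (show Y.Modules from 𝔐.F 0) (h𝔐 0)
      refine ⟨j₀, fun j hj => ?_⟩
      rw [← cl_tensorPow]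
      refine (FormalAlg.van_push ι (ProjUPX.isQCoh_of_isInvertible (h𝔐 0)) (InvX.isInvertible_tensorPow hI j) i).2 ?_
      rw [hclP]
      exact hj₀ j hj
  have hflf : ∀ n, FlatMod.IsFinLocFree (𝔐.F n) := fun n => H23.PullPush.isFinLocFree_of_isInvertible (h𝔐 n)
  obtain ⟨M, φ, hM, hφ, hs, hk⟩ := (FormalAlg.ofModSys hI 𝔐 hflf).exists_algebraization A hI hamp hLI hlef
    ⟨m + 1, fun j hj => hvan j hj 1 (Or.inl rfl)⟩ (hG 0 (by omega)) (hG 1 le_rfl)
  obtain ⟨iso⟩ := FormalAlg.nonempty_iso_of_quotient hI 𝔐 hflf hM.1 φ hφ hs hk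
  obtain ⟨U, hU, hMU⟩ := FormalAlg.exists_open_invertible 𝓘 hM 𝔐 h𝔐 ⟨iso⟩
  -- the complement of `U` consists of points closed in their fibres
  have hclosed : ∀ y : X, y ∉ U → IsClosed ({q.asFiber y} : Set ↥(q.fiber (q.base y))) := fun y hy =>
    DepthRel.isClosed_asFiber_of_disjoint q 𝓘 hL hamp U.isOpen.isClosed_compl
      (Set.disjoint_left.2 fun z hz hzI => hz (hU hzI)) hy
  let Z : Closeds X := U.compl
  have hZ : ParaF.IsParafactorialPair X Z := (ParaExt.isParafactorialPair_iff_stalks Z).2 fun y hy =>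
    ParaRel.parafactorial_of_fibre q y (hdepth y (hclosed y hy)) (hpf y (hclosed y hy) fun hyI => hy (hU hyI))
  have good : ParaFX.Good U.ι := by
    refine ParaFX.good_of_openImmersion Z hZ (𝟙 X) U.ι ?_
    rw [Scheme.Opens.opensRange_ι]
    ext x
    exact ⟨fun hx hx' => hx' hx, fun hx => not_not.1 hx⟩
  refine ⟨_, good.push (M.restrict U.ι) hMU, cl_eq_iff.1 ?_⟩
  let ιm := (𝓘 ^ (m + 1)).subschemeι
  have hrange : Set.range ιm ⊆ Set.range U.ι := by
    rw [Scheme.Opens.range_ι, Scheme.IdealSheafData.range_subschemeι, Scheme.IdealSheafData.support_pow_succ]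
    exact hU
  let g := IsOpenImmersion.lift U.ι ιm hrange
  have hg : g ≫ U.ι = ιm := IsOpenImmersion.lift_fac _ _ _
  show PicF.pullCl ιm (PicF.cl _) = _
  rw [← hg, ← PicClLib.pullCl_comp, ← ParaExt.cl_restrict',
    cl_eq_iff.2 ⟨ParaFX.restrictPushforward U.ι (M.restrict U.ι)⟩, ParaExt.cl_restrict', PicClLib.pullCl_comp, hg,
    ← hNm]
  exact cl_eq_iff.2 ⟨⟨iso.hom.app m, iso.inv.app m, congrArg (fun f => FSch.ModSys.Hom.app f m) iso.hom_inv_id,
    congrArg (fun f => FSch.ModSys.Hom.app f m) iso.inv_hom_id⟩⟩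

end Groth.Agent.S5193
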