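import Groth.Statements.S5199
import Groth.Agent.LefPunct2.Alg
import Groth.Agent.LefPunct2.Depth
import Groth.Agent.PunctAlg.PicSurj
import Groth.Agent.FormalAlg.Completion
import Groth.Agent.S2945

set_option autoImplicit false
universe u
open CategoryTheory CategoryTheory.Limits AlgebraicGeometry
open LefX

namespace Groth.Agent.S5199

open Groth.Agent Groth.Agent.PunctAlg AlgebraicGeometry CategoryTheory

/-- A prime covered by the maximal ideal has one dimensional quotient. -/
theorem dim_eq_one {A : Type u} [CommRing A] [IsLocalRing A] [IsNoetherianRing A] (p q : PrimeSpectrum A)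
    (hp : ¬ IsLocalRing.maximalIdeal A ≤ p.asIdeal) (hq : IsLocalRing.maximalIdeal A ≤ q.asIdeal) (hpq : p ⋖ q) :
    ringKrullDim (A ⧸ p.asIdeal) = 1 := by
  have hqm : q.asIdeal = IsLocalRing.maximalIdeal A :=
    ((IsLocalRing.maximalIdeal.isMaximal A).eq_of_le q.isPrime.ne_top hq).symm
  haveI := p.isPrime
  obtain ⟨s, hs, hsp⟩ := SetLike.not_le_iff_exists.1 hp
  refine PunctAlg.ringKrullDim_quot_eq_one s hs p.asIdeal hsp fun q' hq' hle hsq' => ?_
  by_contra hne'
  have hlt : p < (⟨q', hq'⟩ : PrimeSpectrum A) :=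
    lt_of_le_of_ne hle fun h => hne' (congrArg PrimeSpectrum.asIdeal h).symm
  have hrq : (⟨q', hq'⟩ : PrimeSpectrum A) ≤ q :=
    show q' ≤ q.asIdeal from hqm ▸ IsLocalRing.le_maximalIdeal hq'.ne_top
  have h3 : q' = IsLocalRing.maximalIdeal A :=
    (congrArg PrimeSpectrum.asIdeal ((lt_or_eq_of_le hrq).resolve_left fun h => hpq.2 hlt h)).trans hqm
  exact hsq' (by rw [h3]; exact hs)

theorem exists_algebraic {R : Type u} [CommRing R] [IsRegularRing R] {A : Type u} [CommRing A] [IsLocalRing A]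
    [IsNoetherianRing A] (π : R →+* A) (hπ : Function.Surjective π) (t : A) (hreg : IsSMulRegular A t)
    [IsAdicComplete (Ideal.span {t}) A]
    (h3 : ∀ p : Ideal A, ∀ _ : p.IsPrime, t ∈ p → ringKrullDim (A ⧸ p) = 1 →
      (3 : ℕ∞) ≤ LocCoh.depth (Localization.AtPrime p) (Localization.AtPrime p))
    (Q : (Spec (CommRingCat.of A)).Opens) (hQ : Q = LocCoh.puncturedOpen A (IsLocalRing.maximalIdeal A))
    (𝔐 : FSch.ModSys (FSch.completionAlong Q.toScheme (divOn Q t))) (h : LefX.LevelwiseFinLocFree 𝔐) :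
    ∃ (U : Q.toScheme.Opens) (E : (U : Scheme.{u}).Modules), ((divOn Q t).support : Set Q.toScheme) ⊆ U ∧
      FlatMod.IsFinLocFree E ∧
        Nonempty (FSch.completionMod (divOn Q t) ((Scheme.Modules.pushforward U.ι).obj E) ≅ 𝔐) := by
  subst hQ
  let a := IsLocalRing.maximalIdeal A
  let U₀ : (Spec (CommRingCat.of A)).Opens := LocCoh.puncturedOpen A a
  haveI : IsNoetherianRing (CommRingCat.of A) := inferInstanceAs (IsNoetherianRing A)
  haveI : IsNoetherian (Spec (CommRingCat.of A)) := inferInstance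
  haveI : IsLocallyNoetherian U₀.toScheme := inferInstance
  let i := (divOn U₀ t ^ (0 + 1)).subschemeι
  haveI : IsLocallyNoetherian (divOn U₀ t ^ (0 + 1)).subscheme := LocallyOfFiniteType.isLocallyNoetherian i
  let G₀ := (Scheme.Modules.pushforward i).obj (𝔐.F 0)
  have hG₀ : Coh.IsCoh G₀ := QCoh.isCoh_pushforward_finite _
    (CurveDeg.isCoh_of_isFinLocFree (X := (divOn U₀ t ^ (0 + 1)).subscheme) (h 0))
  obtain ⟨M, hM, ⟨eM⟩⟩ := exists_PhiU a G₀ hG₀
  haveI := hM
  have hfin := (S2930.result R A π hπ a M 2).2 fun p q hp hq hpq => by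
    let x : U₀.toScheme := ⟨p, fun h' => hp h'⟩
    let ε := ((DerSch.stalkFunctor U₀.toScheme x).mapIso eM).toLinearEquiv
    have hdepth := LefPunct2.depth_push U₀ t hreg (𝔐.F 0) (h 0) x 2 fun ht =>
      h3 p.asIdeal p.isPrime ht (dim_eq_one p q hp hq hpq)
    refine (le_trans hdepth ?_).trans_eq (LefPunct2.depth_stalk_phi U₀ M x)
    exact (Alg6.depth_eq_of_semilinear (RingHom.id (U₀.toScheme.presheaf.stalk x)) (fun r => ⟨r, rfl⟩)
      ε.toAddEquiv fun r v => map_smul ε r v).ge
  haveI := finite_secF a M (hfin 1 one_le_two)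
  haveI := finite_HH1 a M (hfin 2 le_rfl)
  have hs0 : Module.Finite A ((secF U₀).obj G₀) :=
    Module.Finite.equiv ((secF U₀).mapIso eM).toLinearEquiv
  have hs1 : Module.Finite A (Coh.HH U₀.toScheme G₀ 1) := by
    refine Module.Finite.of_surjective (PnCoh.Finite.mapLin A eM.hom 1) fun z => ⟨PnCoh.Finite.mapLin A eM.inv 1 z, ?_⟩
    show Sheaf.H.map _ 1 (Sheaf.H.map _ 1 z) = z
    refine (Formal.HHmap_comp eM.inv eM.hom 1 z).trans ?_
    erw [eM.inv_hom_id, CategoryTheory.Functor.map_id]
    exact Sheaf.H.map_id_apply _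
  obtain ⟨F, -, ⟨φ⟩, V, hV, hFV⟩ := LefPunct2.exists_completion_iso_locFree U₀ t hreg 𝔐 h hs0 hs1
  obtain ⟨ψ⟩ := FormalAlg.nonempty_completionMod_restrict (divOn U₀ t) V hV F
  exact ⟨V, F.restrict V.ι, hV, hFV, ⟨ψ ≪≫ φ⟩⟩

/-- Let A be a Noetherian local ring which is a quotient of a regular local ring, t an A-regular element
of the maximal ideal such that A is separated and complete for the (t)-adic topology, X the
punctured spectrum of A and Y = V(t) ∩ X, the closed subscheme of X defined by t. Assume that depth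
A_p ≥ 2 for every prime ideal p with dim A/p = 1 (the closed points of X), and that depth A_p ≥ 3
for every such p containing t (the closed points of Y). Then the effective Lefschetz condition
Leff(X, Y) holds: for every open U ⊇ Y of X and every finite locally free O_U-module D, Hom(D, O_U)
→ lim_n Hom(D, O_U/t^(n+1)O_U) is bijective, and every levelwise finite locally free system of
modules on the completion of X along Y is the completion of a finite locally free module on some
open neighbourhood of Y. -/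
theorem result (A : Type u) [CommRing A] [IsLocalRing A] [IsNoetherianRing A] (hq : ∃ (B : Type u) (_ : CommRing B) (_ : IsRegularLocalRing B) (φ : B →+* A), Function.Surjective φ) (t : A) (ht : t ∈ IsLocalRing.maximalIdeal A) (hreg : IsSMulRegular A t) [IsAdicComplete (Ideal.span {t}) A] (h2 : ∀ p : Ideal A, ∀ _ : p.IsPrime, ringKrullDim (A ⧸ p) = 1 → (2 : ℕ∞) ≤ LocCoh.depth (Localization.AtPrime p) (Localization.AtPrime p)) (h3 : ∀ p : Ideal A, ∀ _ : p.IsPrime, t ∈ p → ringKrullDim (A ⧸ p) = 1 → (3 : ℕ∞) ≤ LocCoh.depth (Localization.AtPrime p) (Localization.AtPrime p)) : LefX.LeffCond (↑(FEt.puncturedSpec A) : Scheme.{u}) ((Spec.map (CommRingCat.ofHom (Ideal.Quotient.mk (Ideal.span {t})))).ker.comap (FEt.puncturedSpec A).ι) := by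
  obtain ⟨B, hB, hBreg, φ, hφ⟩ := hq
  haveI : IsRegularRing B := RegLoc6.isRegularRing_of_isRegularLocalRing B
  exact ⟨S2945.result B A φ hφ t ht hreg fun p hp => h2 p.asIdeal p.isPrime hp,
    exists_algebraic φ hφ t hreg h3 _ (PunctAlg.puncturedSpec_eq_pU A)⟩
end Groth.Agent.S5199
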