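import Groth.Statements.S5238
import Groth.Agent.S1375
-- import your own Groth.Agent.* helpers here

set_option autoImplicit false
open CategoryTheory AlgebraicGeometry
universe w u
open GrpQ

namespace Groth.Agent.S5238

/-- Flat, locally of finite presentation and locally quasi-finite. -/
abbrev P : MorphismProperty Scheme.{u} := @Flat ⊓ @LocallyOfFinitePresentation ⊓ @LocallyQuasiFinite

instance : (P.{u}).IsMultiplicative where
  id_mem X := ⟨⟨inferInstanceAs (Flat (𝟙 X)), inferInstanceAs (LocallyOfFinitePresentation (𝟙 X))⟩,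
    inferInstanceAs (LocallyQuasiFinite (𝟙 X))⟩
  comp_mem f g hf hg := by
    haveI := hf.1.1; haveI := hf.1.2; haveI := hf.2; haveI := hg.1.1; haveI := hg.1.2; haveI := hg.2
    exact ⟨⟨inferInstanceAs (Flat (f ≫ g)), inferInstanceAs (LocallyOfFinitePresentation (f ≫ g))⟩,
      inferInstanceAs (LocallyQuasiFinite (f ≫ g))⟩

theorem precoverage_P_le : Scheme.precoverage (P.{u}) ≤ Scheme.fppfPrecoverage :=
  Scheme.precoverage_mono fun _ _ _ h => h.1

theorem fppfTopology_eq : Scheme.fppfTopology.{u} = Scheme.propQCTopology P := by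
  apply le_antisymm
  · rw [Scheme.fppfTopology, Precoverage.toGrothendieck_le_iff_le_toPrecoverage]
    refine Precoverage.le_of_zeroHypercover fun X (𝒰 : X.Cover (Scheme.precoverage (@Flat ⊓ @LocallyOfFinitePresentation))) => ?_
    rw [GrothendieckTopology.mem_toPrecoverage_iff]
    have key : ∀ x : X, ∃ (i : 𝒰.I₀) (V : Scheme.{u}) (v : V ⟶ X), P v ∧ x ∈ Set.range v ∧
        ∃ r : V ⟶ 𝒰.X i, r ≫ 𝒰.f i = v := by
      intro x
      obtain ⟨i, y, hy⟩ := Scheme.Cover.exists_eq 𝒰 x
      haveI : Flat (𝒰.f i) := (Scheme.Cover.map_prop 𝒰 i).1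
      haveI : LocallyOfFinitePresentation (𝒰.f i) := (Scheme.Cover.map_prop 𝒰 i).2
      let U : X.Opens := ⟨Set.range (𝒰.f i), (𝒰.f i).isOpenMap.isOpen_range⟩
      let g : 𝒰.X i ⟶ U := IsOpenImmersion.lift U.ι (𝒰.f i) (by rw [U.range_ι]; exact subset_rfl)
      have hg : g ≫ U.ι = 𝒰.f i := IsOpenImmersion.lift_fac _ _ _
      haveI : Surjective g := ⟨fun z => by
        obtain ⟨y', hy'⟩ : U.ι z ∈ Set.range (𝒰.f i) := z.2
        exact ⟨y', U.ι.isOpenEmbedding.injective (by rw [← Scheme.Hom.comp_apply, hg, hy'])⟩⟩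
      have hpb : IsPullback (𝟙 (𝒰.X i)) g (𝒰.f i) U.ι := IsPullback.of_horiz_isIso_mono ⟨by simp [hg]⟩
      haveI : LocallyOfFinitePresentation g :=
        MorphismProperty.of_isPullback (P := @LocallyOfFinitePresentation) hpb inferInstance
      haveI : Flat g := MorphismProperty.of_isPullback (P := @Flat) hpb inferInstance
      obtain ⟨T, h, _, _, _, _, hloc⟩ := S1375.result g
      obtain ⟨t, ht⟩ := h.surjective (g y)
      obtain ⟨V, r, htV, hr⟩ := hloc t
      refine ⟨i, V, V.ι ≫ h ≫ U.ι, ⟨⟨inferInstanceAs (Flat (V.ι ≫ h ≫ U.ι)),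
        inferInstanceAs (LocallyOfFinitePresentation (V.ι ≫ h ≫ U.ι))⟩,
        inferInstanceAs (LocallyQuasiFinite (V.ι ≫ h ≫ U.ι))⟩, ⟨⟨t, htV⟩, ?_⟩, r, ?_⟩
      · show U.ι (h t) = x
        rw [ht, ← Scheme.Hom.comp_apply, hg, hy]
      · rw [← hg, reassoc_of% hr]
    choose i V v hv hx r hr using key
    have hmem : Presieve.ofArrows V v ∈ Scheme.propQCPrecoverage P X := by
      let E : PreZeroHypercover.{u} X := ⟨X, V, v⟩
      have hE : E.presieve₀ ∈ Scheme.precoverage P X := by
        rw [Scheme.presieve₀_mem_precoverage_iff]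
        exact ⟨fun x => ⟨x, hx x⟩, hv⟩
      exact ⟨Scheme.precoverage_le_qcPrecoverage_of_isOpenMap
        (fun _ _ f (hf : P f) => by haveI := hf.1.1; haveI := hf.1.2; exact f.isOpenMap) _ hE, hE⟩
    refine GrothendieckTopology.superset_covering _ ?_ (Precoverage.generate_mem_toGrothendieck hmem)
    rw [Sieve.generate_le_iff]
    rintro _ _ ⟨x⟩
    exact ⟨_, r x, 𝒰.f (i x), ⟨i x⟩, hr x⟩
  · exact Precoverage.toGrothendieck_mono ((Scheme.propQCPrecoverage_le_precoverage).trans precoverage_P_le)

/-- A presheaf of sets on schemes is a sheaf for the fppf topology (the topology generated by jointly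
surjective families of flat morphisms locally of finite presentation) if and only if it is a Zariski
sheaf and satisfies the sheaf condition for every single morphism of affine schemes `T ⟶ S` which is
flat, surjective, locally of finite presentation and locally quasi-finite. (Between affine schemes
such a morphism is faithfully flat, of finite presentation and quasi-finite; that these quasi-finite
covers suffice rests on the existence of quasi-finite flat quasi-sections of flat surjective
morphisms locally of finite presentation.) -/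
theorem result (F : Scheme.{u}ᵒᵖ ⥤ Type w) :
    Presheaf.IsSheaf Scheme.fppfTopology F ↔
      Presheaf.IsSheaf Scheme.zariskiTopology F ∧
        ∀ (T S : Scheme.{u}) [IsAffine T] [IsAffine S] (f : T ⟶ S)
          [Flat f] [Surjective f] [LocallyOfFinitePresentation f] [LocallyQuasiFinite f],
          Presieve.IsSheafFor F (Presieve.singleton f) := by
  rw [fppfTopology_eq, isSheaf_iff_isSheaf_of_type, isSheaf_iff_isSheaf_of_type]
  constructor
  · intro hF
    refine ⟨Presieve.isSheaf_of_le _ Scheme.zariskiTopology_le_propQCTopology hF, fun T S _ _ f _ _ _ _ => ?_⟩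
    refine (Presieve.isSheafFor_iff_generate _).mpr (hF _ (Precoverage.generate_mem_toGrothendieck ?_))
    exact Scheme.Hom.singleton_mem_propQCPrecoverage (P := P) ⟨⟨‹_›, ‹_›⟩, ‹_›⟩
  · rintro ⟨hZ, hS⟩
    rw [isSheaf_type_propQCTopology_iff]
    refine ⟨hZ, fun {R S} f hf _ => ?_⟩
    haveI := hf.1.1; haveI := hf.1.2; haveI := hf.2
    exact hS _ _ _

end Groth.Agent.S5238
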