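import Groth.Statements.S5248
import Groth.Agent.MultConjLib.SubTransporter
import Groth.Agent.GrpSchLib.MonoSubgroup

set_option autoImplicit false
open CategoryTheory MonoidalCategory CartesianMonoidalCategory MonObj GrpObj AlgebraicGeometry
universe u
open SGA3x

namespace Groth.Agent.S5248

/-- Let G be an S-group smooth and affine over S and i : H ⟶ G a subgroup scheme of G of multiplicative
type (H of multiplicative type and of finite type, which is automatic here since G is affine and of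
finite type over S). Then the normalizer of H in G (the subfunctor of points g of G with g H g⁻¹ ⊆ H
and g⁻¹ H g ⊆ H after every base change) is representable by a closed subgroup scheme of G which is
smooth over S. -/
theorem result {S : Scheme.{u}} (H G : Over S) [GrpObj H] [GrpObj G]
    (hH : SGA3x.IsMultTypeFT H) (hG : Smooth G.hom) (hGa : IsAffineHom G.hom) (i : H ⟶ G) [IsMonHom i] [Mono i] :
    ∃ (N : Over S) (_ : GrpObj N) (j : N ⟶ G), Red.IsNormalizerOf i j ∧ IsClosedImmersion j.left ∧ Smooth N.hom := by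
  haveI := hGa
  obtain ⟨Z, c, hc, hsm, hpts⟩ := MultConjLib.exists_sub_transporter_smooth hH hH hG i i
  haveI : Mono c.left := inferInstance
  haveI : Mono c := ⟨fun a b hab => Over.OverMorphism.ext ((cancel_mono c.left).mp (congrArg CommaMorphism.left hab))⟩
  have hmem : ∀ {X X' : Over S} (z : X ⟶ Z) (x : X' ⟶ X),
      (∀ h : X' ⟶ H, ∃ h' : X' ⟶ H, (x ≫ z ≫ c) * (h ≫ i) * (x ≫ z ≫ c)⁻¹ = h' ≫ i) ∧
      (∀ h : X' ⟶ H, ∃ h' : X' ⟶ H, (x ≫ z ≫ c)⁻¹ * (h ≫ i) * (x ≫ z ≫ c) = h' ≫ i) :=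
    fun {X X'} z x => (hpts X _).mp ⟨z, rfl⟩ X' x
  obtain ⟨η', hη⟩ := (hpts _ η[G]).mpr fun X' x => by
    rw [show x ≫ η[G] = 1 from (congrArg (· ≫ η[G]) (toUnit_unique x (toUnit X'))).trans rfl]
    exact ⟨fun h => ⟨h, by simp⟩, fun h => ⟨h, by simp⟩⟩
  obtain ⟨μ', hμ⟩ := (hpts _ ((fst Z Z ≫ c) * (snd Z Z ≫ c))).mpr fun X' x => by
    obtain ⟨a₁, a₂⟩ := hmem (fst Z Z) x
    obtain ⟨b₁, b₂⟩ := hmem (snd Z Z) x
    rw [MonObj.comp_mul]
    refine ⟨fun h => ?_, fun h => ?_⟩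
    · obtain ⟨h', e'⟩ := b₁ h
      obtain ⟨h'', e''⟩ := a₁ h'
      refine ⟨h'', ?_⟩
      rw [← e'', ← e']
      group
    · obtain ⟨h', e'⟩ := a₂ h
      obtain ⟨h'', e''⟩ := b₂ h'
      refine ⟨h'', ?_⟩
      rw [← e'', ← e']
      group
  obtain ⟨ι', hι⟩ := (hpts _ c⁻¹).mpr fun X' x => by
    obtain ⟨a₁, a₂⟩ := hmem (𝟙 Z) x
    simp only [Category.id_comp] at a₁ a₂
    rw [GrpObj.comp_inv, _root_.inv_inv]
    exact ⟨a₂, a₁⟩
  obtain ⟨str, hstr⟩ := GrpSchLib.exists_grpObj_of_mono c η' hη μ' hμ ι' hι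
  exact ⟨Z, str, c, ⟨hstr, inferInstance, fun X g => (hpts X g).trans
    (forall₂_congr fun X' x => forall_and.symm)⟩, hc, hsm⟩

end Groth.Agent.S5248
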