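import Groth.Statements.S5249
import Groth.Agent.S5286
import Groth.Agent.GrpSchLib.MultTypeBC
import Groth.Agent.GrpSchLib.RankOneNonComm
import Groth.Agent.MultConjLib.Exists
import Groth.Agent.MultConjLib.Comm
import Groth.Agent.HomSchLib.MultFlat
-- import your own Groth.Agent.* helpers here

set_option autoImplicit false
open CategoryTheory MonoidalCategory CartesianMonoidalCategory MonObj GrpObj AlgebraicGeometry
universe u
open SGA3x

set_option backward.isDefEq.respectTransparency false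

namespace Groth.Agent.S5249

/-- Let G be an S-group smooth and affine over S, i : H ⟶ G a subgroup scheme of multiplicative type (H
of multiplicative type and of finite type), j : Z ⟶ G the centralizer and k : N ⟶ G the normalizer
of H in G. Then Z ⟶ G factors through N by a morphism which is an open and closed immersion: the
centralizer is an open and closed subgroup scheme of the normalizer. -/
theorem result {S : Scheme.{u}} (H G Z N : Over S) [GrpObj H] [GrpObj G] [GrpObj Z] [GrpObj N]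
    (hH : SGA3x.IsMultTypeFT H) (hG : Smooth G.hom) (hGa : IsAffineHom G.hom) (i : H ⟶ G) [IsMonHom i] [Mono i]
    (j : Z ⟶ G) (k : N ⟶ G) (hj : Red.IsCentralizerOf i j) (hk : Red.IsNormalizerOf i k) :
    ∃ f : Z ⟶ N, f ≫ k = j ∧ IsOpenImmersion f.left ∧ IsClosedImmersion f.left := by
  obtain ⟨hkm, hkmono, hkN⟩ := hk
  obtain ⟨hjm, hjmono, hjZ⟩ := hj
  let g : N.left ⟶ S := N.hom
  let T : Over N.left := Red.bc g H
  let pt : ∀ Y : Over N.left, (Over.map g).obj Y ⟶ N := fun Y => Over.homMk Y.hom rfl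
  have hnorm : ∀ (Y : Over N.left) (a : Y ⟶ T), ∃ h' : (Over.map g).obj Y ⟶ H,
      (pt Y ≫ k) * (DSPtsLib.theta g a ≫ i) * (pt Y ≫ k)⁻¹ = h' ≫ i := fun Y a =>
    ((hkN N k).mp ⟨𝟙 N, Category.id_comp k⟩ _ (pt Y) (DSPtsLib.theta g a)).1
  obtain ⟨h₀, hh₀⟩ := hnorm T (𝟙 T)
  obtain ⟨u, hu⟩ := (DSPtsLib.theta_bijective (g := g) (H := H) (Y := T)).surjective (h₀ * (DSPtsLib.theta g (𝟙 T))⁻¹)
  have hua : ∀ (Y : Over N.left) (a : Y ⟶ T), (DSPtsLib.theta g (a ≫ u) * DSPtsLib.theta g a) ≫ i =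
      (pt Y ≫ k) * (DSPtsLib.theta g a ≫ i) * (pt Y ≫ k)⁻¹ := fun Y a => by
    have hθ : (Over.map g).map a ≫ DSPtsLib.theta g (𝟙 T) = DSPtsLib.theta g a := by
      rw [← DSPtsLib.theta_comp, Category.comp_id]
    have hp : (Over.map g).map a ≫ pt T = pt Y := Over.OverMorphism.ext (Over.w a)
    rw [DSPtsLib.theta_comp, hu, ← hθ, ← MonObj.comp_mul, inv_mul_cancel_right, Category.assoc, ← hh₀, MonObj.comp_mul,
      MonObj.comp_mul, GrpObj.comp_inv, reassoc_of% hp, Category.assoc]
  haveI : IsMonHom u := GrpSchLib.RankOne.isMonHom_of_comp u fun Y a b => by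
    apply (DSPtsLib.theta_bijective (g := g) (H := H)).injective
    rw [DSPtsLib.theta_mul]
    letI : CommGroup ((Over.map g).obj Y ⟶ H) := { (inferInstance : Group ((Over.map g).obj Y ⟶ H)) with
      mul_comm := fun p q => MultConjLib.points_comm (MultConjLib.isLocDS_of_multTypeFT hH) p q }
    have e : DSPtsLib.theta g ((a * b) ≫ u) * DSPtsLib.theta g (a * b) =
        (DSPtsLib.theta g (a ≫ u) * DSPtsLib.theta g a) * (DSPtsLib.theta g (b ≫ u) * DSPtsLib.theta g b) := by
      rw [← cancel_mono i, hua, MonObj.mul_comp, hua, hua, DSPtsLib.theta_mul, MonObj.mul_comp]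
      group
    rw [_root_.mul_mul_mul_comm, DSPtsLib.theta_mul] at e
    exact mul_right_cancel e
  have hcrit : ∀ (Y : Over N.left) (a : Y ⟶ T), DSPtsLib.theta g (a ≫ u) = 1 ↔
      (pt Y ≫ k) * (DSPtsLib.theta g a ≫ i) = (DSPtsLib.theta g a ≫ i) * (pt Y ≫ k) := fun Y a => by
    rw [← mul_inv_eq_iff_eq_mul, ← hua, cancel_mono i, mul_eq_right]
  have hTm := GrpSchLib.MultTypeBC.isMultTypeFT_bc g hH
  haveI := MultConjLib.isAffineHom_of_locDS (MultConjLib.isLocDS_of_multTypeFT hH)
  haveI : IsAffineHom T.hom := MultConjLib.isAffineHom_of_locDS (MultConjLib.isLocDS_of_multTypeFT hTm)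
  obtain ⟨U, hUc, hUs, hU1⟩ := Groth.Agent.S5286.result T T hTm
    (Or.inr ⟨HomSchLib.lfp_of_multTypeFT hTm, inferInstance, inferInstance⟩) u
  obtain ⟨f, hf⟩ := (hkN Z j).mpr fun X' x h => by
    have e := (hjZ Z j).mp ⟨𝟙 Z, Category.id_comp j⟩ X' x h
    exact ⟨⟨h, by rw [e]; group⟩, ⟨h, by rw [_root_.mul_assoc, ← e]; group⟩⟩
  have hone : ∀ {Y Y' : Scheme.{u}} (q : Y ⟶ Y') (A : Over Y') [GrpObj A] (P : Over Y),
      DSPtsLib.theta q (1 : P ⟶ Red.bc q A) = 1 := fun q A _ P =>
    map_one (MonoidHom.mk' (DSPtsLib.theta q) (DSPtsLib.theta_mul q))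
  have hrange : Set.range f.left ⊆ (U : Set N.left) := by
    rintro _ ⟨z, rfl⟩
    let fS := N.left.fromSpecResidueField (f.left z)
    refine (hUs _).mpr ((DSPtsLib.theta_bijective (g := fS) (H := T)).injective ?_)
    rw [hone fS T, ← Category.id_comp ((Over.pullback fS).map u), GrpSchLib.RankOne.theta_map]
    let Y := (Over.map fS).obj (Red.bc fS T)
    let a : Y ⟶ T := DSPtsLib.theta fS (𝟙 _)
    show a ≫ u = 1
    apply (DSPtsLib.theta_bijective (g := g) (H := H)).injective
    rw [hone g H, hcrit]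
    let r := Spec.map (f.left.residueFieldMap z)
    haveI : Flat r := (HasRingHomProperty.Spec_iff (P := @Flat)).mpr (by
      letI := (f.left.residueFieldMap z).hom.toAlgebra
      show (algebraMap (N.left.residueField (f.left z)) (Z.left.residueField z)).Flat
      exact RingHom.flat_algebraMap_iff.mpr inferInstance)
    haveI : Surjective r := ⟨fun x => ⟨default, Subsingleton.elim _ _⟩⟩
    let q₀ := Limits.pullback.fst (Red.bc fS T).hom r
    haveI : Epi q₀ := Flat.epi_of_flat_of_surjective q₀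
    let Pz : Over S := Over.mk (q₀ ≫ ((Over.map g).obj Y).hom)
    let q : Pz ⟶ (Over.map g).obj Y := Over.homMk q₀ rfl
    haveI : Epi q := (Over.forget S).epi_of_epi_map (inferInstanceAs (Epi q₀))
    have hsq : (Limits.pullback.snd (Red.bc fS T).hom r ≫ Z.left.fromSpecResidueField z) ≫ f.left =
        q₀ ≫ (Red.bc fS T).hom ≫ fS := by
      rw [Category.assoc, ← Scheme.Hom.SpecMap_residueFieldMap_fromSpecResidueField, ← Limits.pullback.condition_assoc]
    let x : Pz ⟶ Z := Over.homMk (Limits.pullback.snd (Red.bc fS T).hom r ≫ Z.left.fromSpecResidueField z) (by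
      show _ ≫ Z.hom = q₀ ≫ ((Red.bc fS T).hom ≫ fS) ≫ g
      rw [← Over.w f, ← Category.assoc, hsq, Category.assoc])
    have hxq : x ≫ f = q ≫ pt Y := Over.OverMorphism.ext hsq
    rw [← cancel_epi q, MonObj.comp_mul, MonObj.comp_mul, ← Category.assoc q (pt Y), ← hxq, Category.assoc, hf]
    simpa only [Category.assoc] using (hjZ Z j).mp ⟨𝟙 Z, Category.id_comp j⟩ Pz x (q ≫ DSPtsLib.theta g a)
  let WU : Over S := Over.mk (U.ι ≫ g)
  let ιU : WU ⟶ N := Over.homMk U.ι rfl
  obtain ⟨z, hz⟩ := (hjZ WU (ιU ≫ k)).mpr fun X' x h => by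
    let Y₀ : Over (U : Scheme.{u}) := Over.mk x.left
    let Y : Over N.left := (Over.map U.ι).obj Y₀
    let e : (Over.map g).obj Y ≅ X' := Over.isoMk (Iso.refl _) (by
      show 𝟙 X'.left ≫ X'.hom = (x.left ≫ U.ι) ≫ g
      rw [Category.id_comp, Category.assoc]; exact (Over.w x).symm)
    obtain ⟨a, ha⟩ := (DSPtsLib.theta_bijective (g := g) (H := H) (Y := Y)).surjective (e.hom ≫ h)
    obtain ⟨a₀, ha₀⟩ := (DSPtsLib.theta_bijective (g := U.ι) (H := T) (Y := Y₀)).surjective a
    have h1 : a ≫ u = 1 := by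
      rw [← ha₀, ← GrpSchLib.RankOne.theta_map, hU1, MonObj.comp_one, hone]
    have h2 := (hcrit Y a).mp (by rw [h1, hone])
    rw [ha, show pt Y = e.hom ≫ x ≫ ιU from Over.OverMorphism.ext (Category.id_comp (x.left ≫ U.ι)).symm] at h2
    simp only [Category.assoc] at h2
    rw [← cancel_epi e.hom, MonObj.comp_mul, MonObj.comp_mul]
    exact h2
  have hU : Set.range f.left ⊆ Set.range U.ι := by
    rw [Scheme.Opens.range_ι]; exact hrange
  let l : Z ⟶ WU := Over.homMk (IsOpenImmersion.lift U.ι f.left hU) (by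
    show _ ≫ U.ι ≫ g = Z.hom
    rw [IsOpenImmersion.lift_fac_assoc, Over.w f])
  have hl : l ≫ ιU = f := Over.OverMorphism.ext (IsOpenImmersion.lift_fac _ _ _)
  have hzf : z ≫ f = ιU := by rw [← cancel_mono k, Category.assoc, hf, hz]
  haveI : IsIso l := ⟨z, by rw [← cancel_mono j, Category.assoc, hz, reassoc_of% hl, hf, Category.id_comp],
    by
      haveI : Mono ιU := (Over.forget S).mono_of_mono_map (inferInstanceAs (Mono U.ι))
      rw [← cancel_mono ιU, Category.assoc, hl, hzf, Category.id_comp]⟩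
  haveI : IsIso l.left := inferInstanceAs (IsIso ((Over.forget S).map l))
  haveI : IsClosedImmersion U.ι := IsClosedImmersion.of_isPreimmersion U.ι (by rwa [Scheme.Opens.range_ι])
  have hfl : f.left = l.left ≫ U.ι := (congrArg CommaMorphism.left hl).symm
  refine ⟨f, hf, ?_, ?_⟩ <;> rw [hfl] <;> infer_instance

end Groth.Agent.S5249
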