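import Groth.Statements.S5263
import Groth.Agent.HomSchLib.Group
import Groth.Agent.HomSchLib.MultFlat
import Groth.Agent.MultConjLib.HomFinite
import Groth.Agent.S1489
-- import your own Groth.Agent.* helpers here

set_option autoImplicit false
open CategoryTheory MonoidalCategory CartesianMonoidalCategory MonObj GrpObj AlgebraicGeometry
universe u
open SGA3x

namespace Groth.Agent.S5263

/-- Let G and H be S-groups of multiplicative type which are finite over S. Then the functor of group
homomorphisms from G to H is representable by an S-scheme which is finite and etale over S (with its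
universal family of homomorphisms). -/
theorem result {S : Scheme.{u}} (G H : Over S) [GrpObj G] [GrpObj H]
    (hG : SGA3x.IsMultTypeFT G) [IsFinite G.hom] (hH : SGA3x.IsMultTypeFT H) [IsFinite H.hom] :
    ∃ (A : Over S) (υ : G ⊗ A ⟶ H), AutFam.RepresentsHom G H A υ ∧ IsFinite A.hom ∧ Etale A.hom := by
  haveI := HomSchLib.flat_of_multTypeFT hG
  haveI := HomSchLib.lfp_of_multTypeFT hG
  obtain ⟨A, υ, hυ, hAa, hAft, hAfp⟩ := HomSchLib.exists_homGrpScheme G H
  haveI := hAfp (HomSchLib.lfp_of_multTypeFT hH)
  have hG' := MultConjLib.isLocDS_of_multTypeFT hG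
  have hH' := MultConjLib.isLocDS_of_multTypeFT hH
  refine ⟨A, υ, hυ, ?_, (Groth.Agent.S1489.result A.hom).mpr ⟨inferInstance, MultConjLib.isFormallyEtaleHom_hom hG' hυ
    (fun T _ I hI b u₀ => MultConjLib.exists_ptHom_lift hG' hH' I ⟨2, hI⟩ u₀)
    (fun T _ I hI b u u' h => ?_)⟩⟩
  · haveI := MultConjLib.universallyClosed_hom hG' hH' hυ
    rw [IsFinite.iff_isIntegralHom_and_locallyOfFiniteType, IsIntegralHom.iff_universallyClosed_and_isAffineHom]
    exact ⟨⟨inferInstance, inferInstance⟩, inferInstance⟩
  · obtain ⟨AG, _, _, x, hx, -, -, j, hj⟩ := MultConjLib.exists_univ_int hG' b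
    exact MultConjLib.ptHom_eq_of_nilpotent hx hj (fun Y a c => MultConjLib.points_comm hH' a c) I ⟨2, hI⟩ u u' h

end Groth.Agent.S5263
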