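import Groth.Statements.S5282
import Groth.Agent.GrpHomExt.Local
import Groth.Agent.GrpSchLib.FibreIrr
import Groth.Agent.MultConjLib.Bridge
import Groth.Agent.GrpSchLib.MultTypeLft
import Groth.Agent.NeronHDLib.NormalExtend
-- import your own Groth.Agent.* helpers here

set_option autoImplicit false
open CategoryTheory MonoidalCategory CartesianMonoidalCategory MonObj GrpObj AlgebraicGeometry
universe u
open SGA3x

namespace Groth.Agent.S5282

set_option backward.isDefEq.respectTransparency false
set_option backward.isDefEq.respectTransparency.types false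

/-- The unit of a base change lies over the unit. -/
theorem one_bc_fst {S S' : Scheme.{u}} (f : S' ⟶ S) (H : Over S) [GrpObj H] :
    (η[Red.bc f H]).left ≫ Limits.pullback.fst H.hom f = f ≫ (η[H]).left := by
  show (η[(Over.pullback f).obj H]).left ≫ Limits.pullback.fst H.hom f = f ≫ (η[H]).left
  rw [Functor.obj.η_def, Over.comp_left, Category.assoc]
  erw [Limits.pullback.lift_fst]
  rw [← Category.assoc]
  congr 1
  have h1 := Over.w (Functor.LaxMonoidal.ε (Over.pullback f))
  have h4 : Limits.pullback.fst (𝟙_ (Over S)).hom f = Limits.pullback.snd (𝟙_ (Over S)).hom f ≫ f :=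
    (Category.comp_id _).symm.trans Limits.pullback.condition
  rw [h4, ← Category.assoc]
  erw [h1]
  exact Category.id_comp f

/-- Two morphisms to a separated scheme from a reduced flat one which agree on the generic fibre agree. -/
theorem ext_of_generic {S Z T : Scheme.{u}} [IsIntegral S] (p : Z ⟶ S) [Flat p] [IsReduced Z] (t : T ⟶ S)
    [IsSeparated t] {a b : Z ⟶ T} (ha : a ≫ t = p) (hb : b ≫ t = p)
    (h : Limits.pullback.fst p (S.fromSpecResidueField (genericPoint S)) ≫ a =
      Limits.pullback.fst p (S.fromSpecResidueField (genericPoint S)) ≫ b) : a = b := by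
  haveI : IsDominant (Limits.pullback.fst p (S.fromSpecResidueField (genericPoint S))) := ⟨by
    intro z
    rw [Scheme.Pullback.range_fst, Scheme.range_fromSpecResidueField]
    obtain ⟨w, hwz, hw⟩ := Flat.generalizingMap p (genericPoint_specializes (p z))
    exact hwz.mem_closed isClosed_closure (subset_closure hw)⟩
  exact ext_of_isDominant_of_isSeparated t (ha.trans hb.symm)
    (Limits.pullback.fst p (S.fromSpecResidueField (genericPoint S))) h

open Groth.Agent in
set_option maxHeartbeats 2000000 in
/-- A piece of the extension over an affine open. -/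
theorem exists_piece {S : Scheme.{u}} [IsIntegral S] [IsLocallyNoetherian S]
    (hnorm : ∀ x : S, IsIntegrallyClosed (S.presheaf.stalk x))
    (H T : Over S) [GrpObj H] [GrpObj T] [Smooth H.hom] [GeometricallyIrreducible H.hom]
    (hT : SGA3x.IsMultTypeFT T)
    (uη : Red.bc (S.fromSpecResidueField (genericPoint S)) H ⟶ Red.bc (S.fromSpecResidueField (genericPoint S)) T)
    [IsMonHom uη] {V : S.Opens} (hV : IsAffineOpen V) [Nonempty V] {W : H.left.Opens} (hW : IsAffineOpen W)
    (hWV : W ≤ H.hom ⁻¹ᵁ V) :
    ∃ w : (W : Scheme.{u}) ⟶ T.left, w ≫ T.hom = W.ι ≫ H.hom ∧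
      ∀ (Z : Scheme.{u}) (a : Z ⟶ W)
        (b : Z ⟶ Limits.pullback H.hom (S.fromSpecResidueField (genericPoint S))),
        a ≫ W.ι = b ≫ Limits.pullback.fst _ _ → a ≫ w = b ≫ uη.left ≫ Limits.pullback.fst _ _ := by
  let ηS := S.fromSpecResidueField (genericPoint S)
  let R : Type u := Γ(S, V)
  haveI : IsDomain R := inferInstanceAs (IsDomain Γ(S, V))
  haveI : IsNoetherianRing R := IsLocallyNoetherian.component_noetherian ⟨V, hV⟩
  haveI : IsIntegrallyClosed R := by
    refine IsIntegrallyClosed.of_localization_maximal fun p _ hp => ?_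
    have hS : Pi1.IsNormalScheme S := fun x => ⟨inferInstance, hnorm x⟩
    exact (NeronHDLib.isNormalRing_sections hS hV p).2
  let jV : Spec (CommRingCat.of R) ⟶ S := hV.fromSpec
  have hη : genericPoint S ∈ V :=
    ((genericPoint_spec S).mem_open_set_iff V.isOpen).mpr (by simpa using ‹Nonempty V›)
  let K : Type u := S.residueField (genericPoint S)
  let _ : Algebra R K := (S.evaluation V (genericPoint S) hη).hom.toAlgebra
  haveI : IsFractionRing R K := by
    let _ : Algebra R S.functionField := (S.presheaf.germ V (genericPoint S) hη).hom.toAlgebra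
    haveI : IsFractionRing R S.functionField := functionField_isFractionRing_of_isAffineOpen S V hV
    let f : S.functionField →ₐ[R] K := ⟨(S.residue (genericPoint S)).hom, fun r => rfl⟩
    exact IsLocalization.isLocalization_of_algEquiv (nonZeroDivisors R)
      (AlgEquiv.ofBijective f ⟨f.toRingHom.injective, IsLocalRing.residue_surjective⟩)
  let ηR : Spec (CommRingCat.of K) ⟶ Spec (CommRingCat.of R) := Spec.map (CommRingCat.ofHom (algebraMap R K))
  have hηR : ηR ≫ jV = ηS := by
    show Spec.map (S.presheaf.germ V (genericPoint S) hη ≫ S.residue _) ≫ hV.fromSpec = ηS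
    rw [Spec.map_comp, Category.assoc]
    show _ ≫ hV.fromSpecStalk hη = _
    rw [hV.fromSpecStalk_eq_fromSpecStalk hη]
    rfl
  -- the affine torus
  let HR := Red.bc jV H
  let TR := Red.bc jV T
  have hTR : SGA3x.IsMultTypeFT TR := GrpSchLib.MultTypeBC.isMultTypeFT_bc jV hT
  haveI := MultConjLib.isAffineHom_of_locDS (MultConjLib.isLocDS_of_multTypeFT hTR)
  haveI : IsAffine TR.left := isAffine_of_isAffineHom TR.hom
  obtain ⟨C, _, _, ⟨eC⟩⟩ := GrpSchLib.AffineHopf.exists_hopf TR
  haveI : IsMonHom eC.inv.hom.hom := eC.inv.hom.isMonHom_hom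
  haveI : IsIso eC.hom.hom.hom.left :=
    ⟨eC.inv.hom.hom.left, congrArg (fun h => h.hom.hom.left) eC.hom_inv_id,
      congrArg (fun h => h.hom.hom.left) eC.inv_hom_id⟩
  haveI : Algebra.FiniteType R C := by
    haveI := GrpSchLib.MultTypeLft.lft hTR
    have h : LocallyOfFiniteType (GrpSchLib.AffineHopf.sp R C).hom := by
      rw [← Over.w eC.hom.hom.hom]; infer_instance
    exact RingHom.finiteType_algebraMap.mp ((HasRingHomProperty.Spec_iff (P := @LocallyOfFiniteType)).mp h)
  have hC : SGA3b.IsMultType R C :=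
    MultConjLib.isMultType_of_locDS R C (MultConjLib.isLocDS_congr eC.symm (MultConjLib.isLocDS_of_multTypeFT hTR))
  -- the generic morphism
  haveI : Smooth HR.hom := MorphismProperty.pullback_snd _ _ ‹Smooth H.hom›
  haveI : GeometricallyIrreducible HR.hom :=
    inferInstanceAs (GeometricallyIrreducible (Limits.pullback.snd H.hom jV))
  let cmp : Limits.pullback HR.hom ηR ⟶ Limits.pullback H.hom ηS :=
    Limits.pullback.lift (Limits.pullback.fst _ _ ≫ Limits.pullback.fst H.hom jV) (Limits.pullback.snd _ _) (by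
      rw [Category.assoc, Limits.pullback.condition, ← hηR, ← Category.assoc, ← Category.assoc]
      congr 1
      exact Limits.pullback.condition)
  let gT : Limits.pullback HR.hom ηR ⟶ TR.left :=
    Limits.pullback.lift (cmp ≫ uη.left ≫ Limits.pullback.fst T.hom ηS)
      (Limits.pullback.fst HR.hom ηR ≫ HR.hom) (by
      rw [Limits.pullback.condition]
      simp only [Category.assoc]
      rw [Limits.pullback.condition, hηR]
      erw [reassoc_of% (Over.w uη)]
      simp only [cmp]
      erw [Limits.pullback.lift_snd_assoc])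
  let g := gT ≫ eC.inv.hom.hom.left
  let e : Spec (CommRingCat.of R) ⟶ HR.left := (η[HR]).left
  have he : e ≫ HR.hom = 𝟙 _ := Over.w η[HR]
  have hg : g ≫ Spec.map (CommRingCat.ofHom (algebraMap R C)) = Limits.pullback.fst _ _ ≫ HR.hom := by
    show (gT ≫ eC.inv.hom.hom.left) ≫ (GrpSchLib.AffineHopf.sp R C).hom = _
    rw [Category.assoc, Over.w eC.inv.hom.hom]
    exact Limits.pullback.lift_snd ..
  have hunit : Limits.pullback.lift (ηR ≫ e) (𝟙 _)
      (by rw [Category.assoc, he, Category.comp_id, Category.id_comp]) ≫ g =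
      ηR ≫ Spec.map (CommRingCat.ofHom (Bialgebra.counitAlgHom R C).toRingHom) := by
    have h0 : Limits.pullback.lift (ηR ≫ e) (𝟙 _)
        (by rw [Category.assoc, he, Category.comp_id, Category.id_comp]) ≫ cmp = (η[Red.bc ηS H]).left := by
      refine Limits.pullback.hom_ext ?_ ?_
      · rw [Category.assoc, Limits.pullback.lift_fst, Limits.pullback.lift_fst_assoc, one_bc_fst, Category.assoc]
        show ηR ≫ (η[Red.bc jV H]).left ≫ Limits.pullback.fst H.hom jV = _
        rw [one_bc_fst, reassoc_of% hηR]
      · rw [Category.assoc, Limits.pullback.lift_snd, Limits.pullback.lift_snd]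
        exact (Over.w η[Red.bc ηS H]).symm
    have h1 : Limits.pullback.lift (ηR ≫ e) (𝟙 _)
        (by rw [Category.assoc, he, Category.comp_id, Category.id_comp]) ≫ gT = ηR ≫ (η[TR]).left := by
      refine Limits.pullback.hom_ext ?_ ?_
      · rw [Category.assoc, Limits.pullback.lift_fst, reassoc_of% h0, Category.assoc]
        show _ = ηR ≫ (η[Red.bc jV T]).left ≫ Limits.pullback.fst T.hom jV
        rw [one_bc_fst, reassoc_of% hηR, ← one_bc_fst, ← Over.comp_left_assoc, IsMonHom.one_hom]
      · rw [Category.assoc, Limits.pullback.lift_snd, Limits.pullback.lift_fst_assoc, Category.assoc, he,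
          Category.assoc]
        exact congrArg (ηR ≫ ·) (Over.w η[TR]).symm
    simp only [g]
    rw [reassoc_of% h1, ← Over.comp_left, IsMonHom.one_hom]
    rfl
  have hsub : Set.range W.ι ⊆ Set.range (Limits.pullback.fst H.hom jV) := by
    rw [Scheme.Pullback.range_fst, show Set.range jV = (V : Set S) from hV.range_fromSpec, Scheme.Opens.range_ι]
    exact hWV
  let jW : (W : Scheme.{u}) ⟶ HR.left := IsOpenImmersion.lift (Limits.pullback.fst H.hom jV) W.ι hsub
  have hjW : jW ≫ Limits.pullback.fst H.hom jV = W.ι := IsOpenImmersion.lift_fac ..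
  haveI : IsOpenImmersion (jW ≫ Limits.pullback.fst H.hom jV) := hjW ▸ inferInstance
  haveI : IsOpenImmersion jW := IsOpenImmersion.of_comp jW (Limits.pullback.fst H.hom jV)
  haveI : IsAffine (W : Scheme.{u}) := hW
  obtain ⟨w, hw, hwu⟩ := GrpHomExt.exists_lift HR.hom e he hC g hg hunit
    ((W : Scheme.{u}).isoSpec.inv ≫ jW)
  refine ⟨(W : Scheme.{u}).isoSpec.hom ≫ w ≫ eC.hom.hom.hom.left ≫ Limits.pullback.fst T.hom jV, ?_,
    fun Z a b hab => ?_⟩
  · simp only [Category.assoc, Limits.pullback.condition]
    erw [reassoc_of% (Over.w eC.hom.hom.hom)]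
    erw [reassoc_of% hw]
    simp only [Iso.hom_inv_id_assoc]
    rw [← hjW, Category.assoc, Limits.pullback.condition]
    rfl
  · have hb : (a ≫ jW) ≫ HR.hom = (b ≫ Limits.pullback.snd _ _) ≫ ηR := by
      rw [← cancel_mono jV, Category.assoc, Category.assoc, Category.assoc, hηR]
      show a ≫ jW ≫ Limits.pullback.snd H.hom jV ≫ jV = _
      rw [← Limits.pullback.condition, ← Category.assoc jW, hjW, reassoc_of% hab, Limits.pullback.condition,
        Category.assoc]
    let b' := Limits.pullback.lift (a ≫ jW) (b ≫ Limits.pullback.snd _ _) hb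
    have h1 := hwu Z (a ≫ (W : Scheme.{u}).isoSpec.hom) b'
      (by simp only [Category.assoc, Iso.hom_inv_id_assoc]; exact (Limits.pullback.lift_fst _ _ hb).symm)
    have hbc : b' ≫ cmp = b := by
      refine Limits.pullback.hom_ext ?_ ?_
      · simp only [b', cmp, Category.assoc]
        erw [Limits.pullback.lift_fst, Limits.pullback.lift_fst_assoc, Category.assoc, hjW, hab]
      · simp only [b', cmp, Category.assoc]
        erw [Limits.pullback.lift_snd, Limits.pullback.lift_snd]
    simp only [Category.assoc] at h1 ⊢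
    rw [reassoc_of% h1]
    simp only [g, Category.assoc]
    rw [← Over.comp_left_assoc]
    have : eC.inv.hom.hom ≫ eC.hom.hom.hom = 𝟙 _ := congrArg (fun h => h.hom.hom) eC.inv_hom_id
    erw [this]
    rw [Over.id_left, Category.id_comp]
    simp only [gT, Limits.pullback.lift_fst, reassoc_of% hbc]
    rfl

/-- Let S be a locally Noetherian, integral and normal scheme (all local rings integrally closed
domains) with generic point η, H an S-group smooth over S with connected fibres, T an S-group of
multiplicative type and of finite type, and u_η : H_η ⟶ T_η a homomorphism between the generic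
fibres. Then u_η extends to a homomorphism of S-groups u : H ⟶ T (whose base change to η is u_η). -/
theorem result {S : Scheme.{u}} [IsIntegral S] [IsLocallyNoetherian S]
    (hnorm : ∀ x : S, IsIntegrallyClosed (S.presheaf.stalk x))
    (H T : Over S) [GrpObj H] [GrpObj T] (hH : Smooth H.hom)
    (hconn : ∀ s : S, ConnectedSpace ↥(Limits.pullback H.hom (S.fromSpecResidueField s)))
    (hT : SGA3x.IsMultTypeFT T)
    (uη : Red.bc (S.fromSpecResidueField (genericPoint S)) H ⟶ Red.bc (S.fromSpecResidueField (genericPoint S)) T) [IsMonHom uη] :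
    ∃ u : H ⟶ T, IsMonHom u ∧ (Over.pullback (S.fromSpecResidueField (genericPoint S))).map u = uη := by
  haveI := hH
  haveI : GeometricallyIrreducible H.hom := by
    rw [GeometricallyIrreducible.iff_geometricallyIrreducible_fiber]
    intro s
    have hc : _root_.IsConnected (H.hom ⁻¹' {s}) := by
      rw [← GrpSchLib.FibreIrr.range_fst H s]
      haveI := hconn s
      exact isConnected_range (Limits.pullback.fst H.hom (S.fromSpecResidueField s)).continuous
    exact (GrpSchLib.FibreIrr.geometricallyIrreducible_fib H s hc).1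
  haveI := MultConjLib.isAffineHom_of_locDS (MultConjLib.isLocDS_of_multTypeFT hT)
  have hS : Pi1.IsNormalScheme S := fun x => ⟨inferInstance, hnorm x⟩
  haveI : IsReduced H.left :=
    NeronHDLib.isReduced_of_isNormalScheme (NeronHDLib.isNormalScheme_of_smooth H.hom hS)
  let ηS := S.fromSpecResidueField (genericPoint S)
  have hpc : ∀ x : H.left, ∃ (W : H.left.Opens), x ∈ W ∧ ∃ w : (W : Scheme.{u}) ⟶ T.left,
      w ≫ T.hom = W.ι ≫ H.hom ∧ ∀ (Z : Scheme.{u}) (a : Z ⟶ W) (b : Z ⟶ Limits.pullback H.hom ηS),
        a ≫ W.ι = b ≫ Limits.pullback.fst _ _ → a ≫ w = b ≫ uη.left ≫ Limits.pullback.fst _ _ := by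
    intro x
    obtain ⟨V, hV, hxV, -⟩ := exists_isAffineOpen_mem_and_subset (show H.hom x ∈ (⊤ : S.Opens) from trivial)
    haveI : Nonempty V := ⟨⟨_, hxV⟩⟩
    obtain ⟨W, hW, hxW, hWV⟩ := exists_isAffineOpen_mem_and_subset (show x ∈ H.hom ⁻¹ᵁ V from hxV)
    exact ⟨W, hxW, exists_piece hnorm H T hT uη hV hW hWV⟩
  choose W hxW w hw hwu using hpc
  let 𝒰 : H.left.OpenCover := H.left.openCoverOfIsOpenCover W
    (TopologicalSpace.IsOpenCover.mk (eq_top_iff.mpr fun x _ => TopologicalSpace.Opens.mem_iSup.mpr ⟨x, hxW x⟩))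
  have hcompat : ∀ x y, Limits.pullback.fst (W x).ι (W y).ι ≫ w x = Limits.pullback.snd (W x).ι (W y).ι ≫ w y := by
    intro x y
    let p := Limits.pullback.fst (W x).ι (W y).ι ≫ (W x).ι ≫ H.hom
    haveI : IsReduced (Limits.pullback (W x).ι (W y).ι) := isReduced_of_isOpenImmersion (Limits.pullback.fst (W x).ι (W y).ι ≫ (W x).ι)
    refine ext_of_generic p T.hom ?_ ?_ ?_
    · simp [p, hw]
    · simp [p, hw, Limits.pullback.condition_assoc]
    · let b : Limits.pullback p ηS ⟶ Limits.pullback H.hom ηS :=
        Limits.pullback.lift (Limits.pullback.fst p ηS ≫ Limits.pullback.fst (W x).ι (W y).ι ≫ (W x).ι) (Limits.pullback.snd p ηS) (by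
          simp only [Category.assoc]
          exact Limits.pullback.condition)
      have h1 := hwu x _ (Limits.pullback.fst p ηS ≫ Limits.pullback.fst _ _) b (by simp [b])
      have h2 := hwu y _ (Limits.pullback.fst p ηS ≫ Limits.pullback.snd _ _) b (by simp [b, Limits.pullback.condition])
      simp only [Category.assoc] at h1 h2
      rw [h1, h2]
  let u₀ : H.left ⟶ T.left := 𝒰.glueMorphisms w hcompat
  have hu₀ : ∀ x, (W x).ι ≫ u₀ = w x := fun x => 𝒰.ι_glueMorphisms w hcompat x
  let u : H ⟶ T := Over.homMk u₀ (𝒰.hom_ext _ _ fun x => by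
    show (W x).ι ≫ u₀ ≫ T.hom = (W x).ι ≫ H.hom
    rw [reassoc_of% (hu₀ x), hw])
  have hη : (Over.pullback ηS).map u = uη := by
    refine Over.OverMorphism.ext (Limits.pullback.hom_ext ?_ ?_)
    · erw [Limits.pullback.lift_fst]
      refine Scheme.Cover.hom_ext (𝒰.pullback₁ (Limits.pullback.fst H.hom ηS)) _ _ fun x => ?_
      have := hwu x _ (Limits.pullback.snd (Limits.pullback.fst H.hom ηS) (W x).ι) (Limits.pullback.fst _ _) Limits.pullback.condition.symm
      rw [← hu₀, ← Limits.pullback.condition_assoc] at this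
      exact this
    · erw [Limits.pullback.lift_snd]
      exact (Over.w uη).symm
  refine ⟨u, ⟨?_, ?_⟩, hη⟩
  · refine Over.OverMorphism.ext ?_
    haveI : IsReduced (𝟙_ (Over S)).left := inferInstanceAs (IsReduced S)
    haveI : Flat (𝟙_ (Over S)).hom := inferInstanceAs (Flat (𝟙 S))
    refine ext_of_generic (𝟙_ (Over S)).hom T.hom (Over.w _) (Over.w _) ?_
    rw [← cancel_epi (Functor.LaxMonoidal.ε (Over.pullback ηS)).left]
    have h1 : (η[Red.bc ηS H] ≫ uη).left ≫ Limits.pullback.fst T.hom ηS = (η[Red.bc ηS T]).left ≫ Limits.pullback.fst T.hom ηS := by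
      rw [IsMonHom.one_hom]
    rw [← hη, Over.comp_left, Category.assoc] at h1
    erw [Limits.pullback.lift_fst] at h1
    rw [← Category.assoc] at h1
    erw [one_bc_fst, one_bc_fst] at h1
    rw [Category.assoc] at h1
    have h2 : (Functor.LaxMonoidal.ε (Over.pullback ηS)).left ≫ Limits.pullback.fst (𝟙_ (Over S)).hom ηS = ηS := by
      have h3 := Over.w (Functor.LaxMonoidal.ε (Over.pullback ηS))
      have h4 : Limits.pullback.fst (𝟙_ (Over S)).hom ηS = Limits.pullback.snd (𝟙_ (Over S)).hom ηS ≫ ηS :=
        (Category.comp_id _).symm.trans Limits.pullback.condition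
      rw [h4, ← Category.assoc]
      erw [h3]
      exact Category.id_comp ηS
    erw [reassoc_of% h2, reassoc_of% h2]
    exact h1
  · refine Over.OverMorphism.ext ?_
    haveI : IsReduced (H ⊗ H).left := by
      haveI : Smooth (H ⊗ H).hom := inferInstanceAs (Smooth (Limits.pullback.fst H.hom H.hom ≫ H.hom))
      exact NeronHDLib.isReduced_of_isNormalScheme (NeronHDLib.isNormalScheme_of_smooth (H ⊗ H).hom hS)
    haveI : Flat (H ⊗ H).hom := inferInstanceAs (Flat (Limits.pullback.fst H.hom H.hom ≫ H.hom))
    refine ext_of_generic (H ⊗ H).hom T.hom (Over.w _) (Over.w _) ?_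
    have h1 := IsMonHom.mul_hom (f := uη)
    rw [← hη, Functor.obj.μ_def, Functor.obj.μ_def, Category.assoc, ← Functor.map_comp,
      Functor.LaxMonoidal.μ_natural_assoc, ← Functor.map_comp] at h1
    rw [cancel_epi] at h1
    have h2 := congrArg (fun f => f.left ≫ Limits.pullback.fst T.hom ηS) h1
    simp only [Over.pullback_map_left, Limits.pullback.lift_fst] at h2
    exact (Limits.pullback.lift_fst _ _ _).symm.trans h2

end Groth.Agent.S5282
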