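import Groth.Statements.S5284
import Groth.Agent.MultConjLib.Graph
-- import your own Groth.Agent.* helpers here

set_option autoImplicit false
open CategoryTheory MonoidalCategory CartesianMonoidalCategory MonObj GrpObj AlgebraicGeometry
universe u
open SGA3x

set_option backward.isDefEq.respectTransparency false

namespace Groth.Agent.S5284

/-- Let G be an S-group of multiplicative type (fpqc-locally on S isomorphic, as a group, to
diagonalisable groups D(M), M allowed to vary and taken in Type 0) acting on an S-scheme X which is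
affine over S, the action being free (a point g of G fixing a point x of X is the unit). Then the
graph morphism G ×_S X ⟶ X ×_S X, (g, x) ↦ (g·x, x), is a closed immersion; and for every section σ
of X over S the orbit morphism G ⟶ X, g ↦ g·σ, is a closed immersion. -/
theorem result {S : Scheme.{u}} (G X : Over S) [GrpObj G]
    (hG : TwC.Locally S TwC.Topology.fpqc (fun S' f => ∃ (M : Type) (_ : AddCommGroup M), Nonempty (Grp.mk (Red.bc f G) ≅ Grp.mk (Red.DS S' M)))) (hX : IsAffineHom X.hom) (a : AlgGrp.Action G X)
    (hfree : ∀ (Y : Over S) (g : Y ⟶ G) (x : Y ⟶ X), lift g x ≫ a.act = x → g = 1) :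
    IsClosedImmersion (lift a.act (snd G X)).left ∧
      ∀ σ : 𝟙_ (Over S) ⟶ X, IsClosedImmersion (a.orbitMap σ).left := by
  have hΓ := MultConjLib.isClosedImmersion_graph hG hX a hfree
  refine ⟨hΓ, fun σ => ?_⟩
  let k : G ⟶ G ⊗ X := lift (𝟙 G) (toUnit G ≫ σ)
  let j : X ⟶ X ⊗ X := lift (𝟙 X) (toUnit X ≫ σ)
  have hu : ∀ {W V : Over S} (q : W ⟶ V), q ≫ toUnit V = toUnit W := fun q => toUnit_unique _ _
  have H : IsPullback (a.orbitMap σ) k j (lift a.act (snd G X)) := by
    refine ⟨⟨?_⟩, ⟨Limits.PullbackCone.IsLimit.mk _ (fun s => s.snd ≫ fst G X) (fun s => ?_) (fun s => ?_)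
      fun s m h₁ h₂ => ?_⟩⟩
    · apply CartesianMonoidalCategory.hom_ext <;>
        simp [AlgGrp.Action.orbitMap, j, k, reassoc_of% hu]
    · have e₁ := congrArg (· ≫ fst X X) s.condition
      have e₂ := congrArg (· ≫ snd X X) s.condition
      simp only [j, Category.assoc, lift_fst, lift_snd, Category.comp_id, reassoc_of% hu] at e₁ e₂
      have e₃ : lift (s.snd ≫ fst G X) (toUnit s.pt ≫ σ) = s.snd :=
        CartesianMonoidalCategory.hom_ext _ _ (lift_fst _ _) (by rw [lift_snd, e₂])
      rw [AlgGrp.Action.orbitMap, comp_lift_assoc, Category.comp_id, ← Category.assoc _ (toUnit G) σ, hu, e₃]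
      exact e₁.symm
    · have e₂ := congrArg (· ≫ snd X X) s.condition
      simp only [j, Category.assoc, lift_snd, reassoc_of% hu] at e₂
      apply CartesianMonoidalCategory.hom_ext <;> simp [k, reassoc_of% hu, e₂]
    · have := congrArg (· ≫ fst G X) h₂
      simpa [k] using this
  exact MorphismProperty.of_isPullback (P := @IsClosedImmersion) (H.map (Over.forget S)).flip hΓ

end Groth.Agent.S5284
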