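import Groth.Statements.S5289
import Groth.Agent.MultConjLib.Subgroups

set_option backward.isDefEq.respectTransparency false

set_option autoImplicit false
open CategoryTheory MonoidalCategory CartesianMonoidalCategory MonObj GrpObj AlgebraicGeometry
universe u
open SGA3x

namespace Groth.Agent.S5289

/-- Let S = Spec R be affine, J an ideal of R with J² = 0 and S₀ = Spec (R/J); let G be an arbitrary
S-group and i : H ⟶ G, i' : H' ⟶ G two sub-group-schemes (homomorphisms which are immersions) of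
multiplicative type (fpqc-locally on S isomorphic, as groups, to diagonalisable groups D(M), M
allowed to vary and taken in Type 0), such that H ×_S S₀ and H' ×_S S₀ coincide as subgroups of G
×_S S₀. Then there is an S-point g of G whose restriction to S₀ is the unit and which conjugates H
onto H': int(g) ∘ i factors through i' by an isomorphism H ≅ H'. -/
theorem result {R : Type u} [CommRing R] (J : Ideal R) (hJ : J ^ 2 = ⊥)
    (G H H' : Over (Spec (CommRingCat.of R))) [GrpObj G] [GrpObj H] [GrpObj H']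
    (hH : TwC.Locally (Spec (CommRingCat.of R)) TwC.Topology.fpqc (fun S' f => ∃ (M : Type) (_ : AddCommGroup M), Nonempty (Grp.mk (Red.bc f H) ≅ Grp.mk (Red.DS S' M))))
    (hH' : TwC.Locally (Spec (CommRingCat.of R)) TwC.Topology.fpqc (fun S' f => ∃ (M : Type) (_ : AddCommGroup M), Nonempty (Grp.mk (Red.bc f H') ≅ Grp.mk (Red.DS S' M))))
    (i : H ⟶ G) [IsMonHom i] [IsImmersion i.left] (i' : H' ⟶ G) [IsMonHom i'] [IsImmersion i'.left]
    (h0 : ∃ ψ : Red.bc (Spec.map (CommRingCat.ofHom (Ideal.Quotient.mk J))) H ≅ Red.bc (Spec.map (CommRingCat.ofHom (Ideal.Quotient.mk J))) H',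
      ψ.hom ≫ (Over.pullback (Spec.map (CommRingCat.ofHom (Ideal.Quotient.mk J)))).map i' = (Over.pullback (Spec.map (CommRingCat.ofHom (Ideal.Quotient.mk J)))).map i) :
    ∃ g : 𝟙_ (Over (Spec (CommRingCat.of R))) ⟶ G, toUnit (Over.mk (Spec.map (CommRingCat.ofHom (Ideal.Quotient.mk J))) : Over (Spec (CommRingCat.of R))) ≫ g = 1 ∧ SGA3x.ConjBy i i' g := by
  set j := Spec.map (CommRingCat.ofHom (Ideal.Quotient.mk J))
  obtain ⟨ψ, hψ⟩ := h0
  haveI : Mono i := Over.mono_of_mono_left _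
  haveI : Mono i' := Over.mono_of_mono_left _
  have key : ∀ {A B : Over (Spec (CommRingCat.of R))} (iA : A ⟶ G) (iB : B ⟶ G) (χ : Red.bc j B ⟶ Red.bc j A),
      χ ≫ (Over.pullback j).map iA = (Over.pullback j).map iB →
      ∀ (Y : Over (Spec (CommRingCat.of R))) (_ : Y ⟶ Over.mk j) (b : Y ⟶ B), ∃ a : Y ⟶ A, a ≫ iA = b ≫ iB := by
    intro A B iA iB χ hχ Y q b
    let X' := Over.mk q.left
    let e : Y ⟶ (Over.map j).obj X' := Over.homMk (𝟙 _) (by
      show 𝟙 _ ≫ q.left ≫ j = Y.hom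
      rw [Category.id_comp]; exact Over.w q)
    let e' : (Over.map j).obj X' ⟶ Y := Over.homMk (𝟙 _) (by
      show 𝟙 _ ≫ Y.hom = q.left ≫ j
      rw [Category.id_comp]; exact (Over.w q).symm)
    have hee : e ≫ e' = 𝟙 _ := Over.OverMorphism.ext (Category.id_comp _)
    obtain ⟨b₁, hb₁⟩ := (DSPtsLib.theta_bijective (H := B) (Y := X') j).2 (e' ≫ b)
    refine ⟨e ≫ DSPtsLib.theta (H := A) j (b₁ ≫ χ), ?_⟩
    have h : DSPtsLib.theta (H := G) j ((b₁ ≫ χ) ≫ (Over.pullback j).map iA) =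
        DSPtsLib.theta (H := A) j (b₁ ≫ χ) ≫ iA :=
      (Over.mapPullbackAdj j).homEquiv_naturality_right_symm _ _
    have h' : DSPtsLib.theta (H := G) j (b₁ ≫ (Over.pullback j).map iB) = DSPtsLib.theta (H := B) j b₁ ≫ iB :=
      (Over.mapPullbackAdj j).homEquiv_naturality_right_symm _ _
    rw [Category.assoc, ← h, Category.assoc, hχ, h', hb₁, Category.assoc, reassoc_of% hee]
  obtain ⟨φ, hφm, hφ⟩ := MultConjLib.exists_iso_lift hH hH' ⟨2, hJ⟩ i i' 1
    (fun B _ _ ρ q => by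
      obtain ⟨a, ha⟩ := key i' i ψ.hom hψ _ (MultConjLib.toS₀ J ρ) q
      exact ⟨a, by simp [ha]⟩)
    (fun B _ _ ρ q => by
      obtain ⟨a, ha⟩ := key i i' ψ.inv (by rw [← hψ, ψ.inv_hom_id_assoc]) _ (MultConjLib.toS₀ J ρ) q
      exact ⟨a, by simp [ha]⟩)
  obtain ⟨g, hg, hconj⟩ := Groth.Agent.S5272.result J hJ H G hH i (φ.hom ≫ i') fun X p h => by
    simp [hφ X p h]
  refine ⟨g, hg, φ, ?_⟩
  have h := hconj H (𝟙 H)
  rw [Category.id_comp, Category.id_comp] at h
  exact h.symm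

end Groth.Agent.S5289
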