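import Groth.Statements.S5293
import Groth.Agent.DualTw.HomMain
import Groth.Agent.DualTw.Fam

set_option autoImplicit false
open CategoryTheory MonoidalCategory CartesianMonoidalCategory MonObj GrpObj AlgebraicGeometry
universe u
open SGA3x
open Groth.Agent.DualTw Groth.Agent.DSPtsLib Opposite

namespace Groth.Agent.S5293

/-- Let H be a quasi-isotrivial S-group of multiplicative type (etale-locally on S isomorphic, as a
group, to diagonalisable groups D(M), M allowed to vary and taken in Type 0). Then the functor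
D_S(H) = Hom_{S-gr}(H, G_m) is representable: there is an S-group D with a universal family of
characters H ×_S D ⟶ G_{m,S}, multiplicative in the D-variable as well (the group law of D is the
pointwise product of characters), and D is a quasi-isotrivial twisted constant S-group
(etale-locally on S a constant group). -/
theorem result {S : Scheme.{u}} (H : Over S) [GrpObj H]
    (hH : TwC.Locally S TwC.Topology.etale (fun S' f => ∃ (M : Type) (_ : AddCommGroup M), Nonempty (Grp.mk (Red.bc f H) ≅ Grp.mk (Red.DS S' M)))) :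
    ∃ (D : Over S) (_ : GrpObj D) (υ : H ⊗ D ⟶ Red.Gm S), AutFam.RepresentsHom H (Red.Gm S) D υ ∧
      (∀ (X : Over S) (h : X ⟶ H) (a b : X ⟶ D), lift h (a * b) ≫ υ = (lift h a ≫ υ) * (lift h b ≫ υ)) ∧
      TwC.IsTwConstGrp TwC.Topology.etale D := by
  have hG : TwC.Locally S TwC.Topology.etale (fun S' f => ∃ (M : Type) (_ : AddCommGroup M),
      AddGroup.FG M ∧ Nonempty (Grp.mk (Red.bc f (Red.Gm S)) ≅ Grp.mk (Red.DS S' M))) := fun s =>
    ⟨S, 𝟙 S, inferInstance, ⟨s, rfl⟩, ℤ, inferInstance, inferInstance, GrpSchLib.MultTypeBC.bc_DS (𝟙 S) ℤ⟩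
  obtain ⟨D, υ, hrep, hloc⟩ := exists_hom_scheme H (Red.Gm S) hH hG
  let toF : ∀ {T : Over S}, (T ⟶ D) → fam H T := fun {T} a => ⟨(H ◁ a) ≫ υ, isHomFamily_comp H a hrep.1⟩
  have hbij : ∀ {T : Over S}, Function.Bijective (toF (T := T)) := fun {T} =>
    ⟨fun a b e => (hrep.2 T _ (toF a).2).unique rfl (congrArg Subtype.val e).symm, fun φ => by
      obtain ⟨a, ha, -⟩ := hrep.2 T φ.1 φ.2
      exact ⟨a, Subtype.ext ha⟩⟩
  let α : (famFunctor H ⋙ forget GrpCat).RepresentableBy D :=
    { homEquiv := fun {T} => Equiv.ofBijective _ (hbij (T := T))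
      homEquiv_comp := fun {T T'} k a => Subtype.ext (by
        show (H ◁ (k ≫ a)) ≫ υ = (H ◁ k) ≫ (H ◁ a) ≫ υ
        rw [whiskerLeft_comp, Category.assoc]) }
  letI iD : GrpObj D := GrpObj.ofRepresentableBy D (famFunctor H) α
  have hmul : ∀ {T : Over S} (a b : T ⟶ D), (H ◁ (a * b)) ≫ υ = ((H ◁ a) ≫ υ) * ((H ◁ b) ≫ υ) := fun {T} a b => by
    have h := map_mul ((yonedaGrpObjIsoOfRepresentableBy D (famFunctor H) α).hom.app (op T)).hom a b
    exact congrArg Subtype.val (show (toF (a * b) : fam H T) = toF a * toF b from h)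
  refine ⟨D, iD, υ, hrep, fun X h a b => ?_, fun s => ?_⟩
  · have key : ∀ c : X ⟶ D, lift h c ≫ υ = lift h (𝟙 X) ≫ (H ◁ c) ≫ υ := fun c => by
      rw [lift_whiskerLeft_assoc, Category.id_comp]
    rw [key, key, key, hmul, MonObj.comp_mul]
  obtain ⟨S', f, hf, hs, MH, MG, iH, iG, eH, eG, e, he⟩ := hloc s
  refine ⟨S', f, hf, hs, Multiplicative (HomIdx.{u} MH MG), inferInstance, e, fun m n => ?_⟩
  refine (theta_bijective f).injective (hbij.injective (Subtype.ext ?_))
  show (H ◁ theta f ((TwC.pt S' _ m ≫ e.inv) * (TwC.pt S' _ n ≫ e.inv))) ≫ υ = (H ◁ theta f (TwC.pt S' _ (m * n) ≫ e.inv)) ≫ υ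
  rw [theta_mul, hmul]
  exact rel_unique_right ((rel_pt_iff (Multiplicative.toAdd (m * n))).2 ((he (Multiplicative.toAdd m)).mul (he (Multiplicative.toAdd n))))
    ((rel_pt_iff (Multiplicative.toAdd (m * n))).2 (he (Multiplicative.toAdd (m * n))))

end Groth.Agent.S5293
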