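import Groth.Statements.S5308
import Groth.Agent.GrpFieldLib.TwUnibranch

set_option autoImplicit false
open CategoryTheory MonoidalCategory CartesianMonoidalCategory MonObj GrpObj AlgebraicGeometry
universe u
open SGA3x

namespace Groth.Agent.S5308

/-- (i) ⇒ (ii). Let R be a commutative twisted constant S-group which is isotrivial (it becomes a
constant group over the open and closed pieces of one finite etale surjective S' ⟶ S). Then R is a
union of open and closed subschemes which are quasi-compact, indeed finite, over S: every point of R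
has an open and closed neighbourhood U in R with U ⟶ S finite. -/
theorem result {S : Scheme.{u}} (R : Over S) [GrpObj R]
    (hcomm : ∀ (X : Over S) (a b : X ⟶ R), a * b = b * a) (hR : TwC.IsTwConstGrp TwC.Topology.finiteEtale R) (x : R.left) :
    ∃ U : R.left.Opens, x ∈ U ∧ IsClosed (U : Set R.left) ∧ IsFinite (U.ι ≫ R.hom) := by
  obtain ⟨S', f, hfin, hfet, hfsu, hloc⟩ := hR
  haveI := hfin
  haveI := hfet
  haveI := hfsu
  have hfpqc : TwC.IsTwConst TwC.Topology.fpqc R := by
    refine ⟨S', f, inferInstance, inferInstance, fun V hV => ⟨f ⁻¹ᵁ V, f.isCompact_preimage hV.isCompact, ?_⟩, fun s' => ?_⟩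
    · exact Set.image_preimage_eq _ f.surjective
    · obtain ⟨U, hU, -, M, _, e, -⟩ := hloc s'
      exact ⟨U, hU, M, ⟨e⟩⟩
  obtain ⟨x', hx'⟩ : ∃ x' : ↥(Limits.pullback R.hom f), Limits.pullback.fst R.hom f x' = x := by
    haveI : Surjective (Limits.pullback.fst R.hom f) := inferInstance
    exact (Limits.pullback.fst R.hom f).surjective x
  obtain ⟨U, hU, hUc, M, _, e, -⟩ := hloc (Limits.pullback.snd R.hom f x')
  let P := GrpFieldLib.TwSplit.Splitting.ofIso e
  let q := GrpFieldLib.TwSplit.proj R f U.ι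
  obtain ⟨y, hy⟩ : x' ∈ Set.range q := by
    obtain ⟨w, hw, -⟩ := Scheme.Pullback.exists_preimage_pullback (f := Limits.pullback.snd R.hom f) (g := U.ι)
      x' ⟨_, hU⟩ rfl
    exact ⟨(GrpFieldLib.TwSplit.isPullback_proj R f U.ι).isoPullback.inv w, by
      rw [← Scheme.Hom.comp_apply, (GrpFieldLib.TwSplit.isPullback_proj R f U.ι).isoPullback_inv_fst]; exact hw⟩
  obtain ⟨m, a, ha⟩ := P.cover y
  let σ := P.σ m
  haveI := P.isOpen m
  have hsec : GrpFieldLib.TwSplit.sec σ (P.comm m) ≫ Limits.pullback.fst R.hom (U.ι ≫ f) = σ :=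
    GrpFieldLib.TwSplit.sec_fst _ _
  haveI : IsClosedImmersion U.ι := IsClosedImmersion.of_isPreimmersion U.ι (by rw [Scheme.Opens.range_ι]; exact hUc)
  haveI : IsFinite (U.ι ≫ f) := inferInstance
  haveI : Etale (U.ι ≫ f) := inferInstance
  haveI : IsFinite (Limits.pullback.fst R.hom (U.ι ≫ f)) := inferInstance
  haveI : Etale (Limits.pullback.fst R.hom (U.ι ≫ f)) := inferInstance
  have hclr : IsClosed (Set.range (GrpFieldLib.TwSplit.sec σ (P.comm m))) := by
    rw [← isOpen_compl_iff]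
    have h : (Set.range (GrpFieldLib.TwSplit.sec σ (P.comm m)))ᶜ =
        ⋃ j ∈ {j | j ≠ m}, Set.range (GrpFieldLib.TwSplit.sec (P.σ j) (P.comm j)) := by
      ext w
      simp only [Set.mem_compl_iff, Set.mem_iUnion, Set.mem_setOf_eq, exists_prop]
      refine ⟨fun hw => ?_, ?_⟩
      · obtain ⟨j, b, hb⟩ := P.cover w
        exact ⟨j, by rintro rfl; exact hw ⟨b, hb⟩, b, hb⟩
      · rintro ⟨j, hj, b, hb⟩ ⟨c, hc⟩
        exact hj (P.disj j m b c (hb.trans hc.symm))
    rw [h]
    exact isOpen_biUnion fun j _ => haveI := P.isOpen j; (GrpFieldLib.TwSplit.sec (P.σ j) (P.comm j)).isOpenEmbedding.isOpen_range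
  have hrange : Set.range σ = Limits.pullback.fst R.hom (U.ι ≫ f) '' Set.range (GrpFieldLib.TwSplit.sec σ (P.comm m)) := by
    rw [← Set.range_comp]
    conv_lhs => rw [← hsec]
    rfl
  let Z : R.left.Opens := ⟨Set.range σ, by
    rw [hrange]; exact (Limits.pullback.fst R.hom (U.ι ≫ f)).isOpenMap _
      (GrpFieldLib.TwSplit.sec σ (P.comm m)).isOpenEmbedding.isOpen_range⟩
  have hZc : IsClosed (Z : Set R.left) := by
    show IsClosed (Set.range σ)
    rw [hrange]; exact (Limits.pullback.fst R.hom (U.ι ≫ f)).isClosedMap _ hclr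
  haveI : IsClosedImmersion Z.ι := IsClosedImmersion.of_isPreimmersion Z.ι (by rw [Scheme.Opens.range_ι]; exact hZc)
  haveI : QuasiCompact (Z.ι ≫ R.hom) := by
    rw [quasiCompact_iff_forall_isAffineOpen]
    intro V hV
    let σ' : (U : Scheme.{u}) ⟶ Z := IsOpenImmersion.lift Z.ι σ (by rw [Scheme.Opens.range_ι]; rfl)
    have hσ' : σ' ≫ Z.ι = σ := IsOpenImmersion.lift_fac _ _ _
    have hsurj : Function.Surjective σ' := fun z => by
      obtain ⟨b, hb⟩ := z.2
      exact ⟨b, Z.ι.isOpenEmbedding.injective ((Scheme.Hom.comp_apply σ' _ b).symm.trans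
        ((congrArg (fun φ => φ b) hσ').trans hb))⟩
    have he : σ' ≫ Z.ι ≫ R.hom = U.ι ≫ f := by rw [← Category.assoc, hσ']; exact P.comm m
    rw [← Set.image_preimage_eq (((Z.ι ≫ R.hom) ⁻¹ᵁ V : (Z : Scheme.{u}).Opens) : Set _) hsurj]
    refine IsCompact.image ?_ σ'.continuous
    have := (U.ι ≫ f).isCompact_preimage hV.isCompact
    rw [← he] at this
    exact this
  haveI := GrpSchLib.TwConstClosed.isFinite_of_twConst R hfpqc Z.ι
  refine ⟨Z, ?_, hZc, inferInstance⟩
  refine ⟨a, ?_⟩
  show σ a = x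
  rw [← hsec, Scheme.Hom.comp_apply, ha, ← hx', ← hy]
  rw [← Scheme.Hom.comp_apply q, show q ≫ Limits.pullback.fst R.hom f = Limits.pullback.fst R.hom (U.ι ≫ f) from
    Limits.pullback.lift_fst _ _ _]

end Groth.Agent.S5308
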