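import Groth.Statements.S5326
import Groth.Agent.GrpFieldLib.NeutralRep
-- import your own Groth.Agent.* helpers here

set_option autoImplicit false
set_option backward.isDefEq.respectTransparency false
set_option maxHeartbeats 1000000
set_option linter.style.haveILetI false
universe u
open CategoryTheory CategoryTheory.Limits MonoidalCategory CartesianMonoidalCategory MonObj GrpObj AlgebraicGeometry
open SGA3

namespace Groth.Agent.S5326

/-- Let G be an S-group scheme locally of finite presentation over S, and suppose the neutral component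
subfunctor of G is representable: there is a monomorphism i : G⁰ → G of S-schemes such that a point
g : T → G factors through i exactly when the image of the underlying map of g lies in the union of
the neutral components of the fibres G_s. Then i is an open immersion and G⁰ is quasi-compact over
S. -/
theorem result (S : Scheme.{u}) (G : Over S) [GrpObj G]
    [LocallyOfFinitePresentation G.hom] (G0 : Over S) (i : G0 ⟶ G) [Mono i]
    (hrep : ∀ (T : Over S) (g : T ⟶ G), (∃ z : T ⟶ G0, z ≫ i = g) ↔ Set.range g.left.base ⊆ SGA3x.neutralSet G) :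
    IsOpenImmersion i.left ∧ QuasiCompact G0.hom := by
  have hN := GrpFieldLib.NeutralRep.isOpen_neutralSet G G0 i hrep
  let N : G.left.Opens := ⟨_, hN⟩
  haveI : Mono i.left := ⟨fun {T} a b h => by
    have hab : b ≫ G0.hom = a ≫ G0.hom := by
      rw [← Over.w i, reassoc_of% h]
    have := (cancel_mono i).1 (Over.OverMorphism.ext (f := (Over.homMk a : Over.mk (a ≫ G0.hom) ⟶ G0) ≫ i)
      (g := (Over.homMk b hab : Over.mk (a ≫ G0.hom) ⟶ G0) ≫ i) h)
    exact congrArg CommaMorphism.left this⟩
  have hri : Set.range i.left ⊆ SGA3x.neutralSet G := (hrep G0 i).1 ⟨𝟙 _, Category.id_comp i⟩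
  obtain ⟨z, hz⟩ := (hrep (Over.mk (N.ι ≫ G.hom)) (Over.homMk N.ι)).2 (Scheme.Opens.range_ι N).subset
  have hz' : z.left ≫ i.left = N.ι := congrArg CommaMorphism.left hz
  let l : G0.left ⟶ (N : Scheme.{u}) := IsOpenImmersion.lift N.ι i.left (by rw [Scheme.Opens.range_ι]; exact hri)
  have hl : l ≫ N.ι = i.left := IsOpenImmersion.lift_fac _ _ _
  haveI : IsIso l := ⟨z.left, by rw [← cancel_mono i.left, Category.assoc, hz', hl, Category.id_comp],
    by rw [← cancel_mono N.ι, Category.assoc, hl, hz', Category.id_comp]⟩
  haveI hoi : IsOpenImmersion i.left := hl ▸ inferInstance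
  refine ⟨hoi, GrpFieldLib.NeutralRep.quasiCompact_of_range_eq G i i.left.isOpenEmbedding.isEmbedding
    (le_antisymm hri fun x hx => ?_)⟩
  exact ⟨z.left ⟨x, hx⟩, by rw [← Scheme.Hom.comp_apply, hz']; rfl⟩

end Groth.Agent.S5326
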