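import Groth.Statements.S5346
import Groth.Agent.GrpQuotLib.Artin
import Groth.Agent.FComplLib.Thicken
import Groth.Agent.S1309
import Groth.Agent.S1303

set_option autoImplicit false
universe u
open CategoryTheory CategoryTheory.Limits MonoidalCategory CartesianMonoidalCategory MonObj GrpObj AlgebraicGeometry
open SGA3

namespace Groth.Agent.S5346

set_option linter.style.haveILetI false

theorem isImmersion_of_thickening {X Y X₀ Y₀ : Scheme.{u}} {f : X ⟶ Y} {f₀ : X₀ ⟶ Y₀} {iX : X₀ ⟶ X} {iY : Y₀ ⟶ Y}
    (sq : IsPullback iX f₀ f iY) [IsClosedImmersion iY] [Surjective iY] {m : ℕ} (hm : iY.ker ^ m = ⊥)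
    [IsImmersion f₀] : IsImmersion f := by
  haveI : Surjective iX := MorphismProperty.of_isPullback sq.flip ‹Surjective iY›
  let e : Y₀ ≃ₜ Y := Equiv.toHomeomorphOfIsInducing (Equiv.ofBijective iY.base
    ⟨iY.isClosedEmbedding.injective, iY.surjective⟩) iY.isClosedEmbedding.isInducing
  have hr : Set.range f.base = e '' Set.range f₀.base := by
    ext y
    constructor
    · rintro ⟨x, rfl⟩
      obtain ⟨x, rfl⟩ := iX.surjective x
      exact ⟨_, ⟨x, rfl⟩, by show iY (f₀ x) = f (iX x); rw [← Scheme.Hom.comp_apply, ← sq.w, Scheme.Hom.comp_apply]⟩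
    · rintro ⟨_, ⟨x, rfl⟩, rfl⟩
      exact ⟨iX x, by show f (iX x) = iY (f₀ x); rw [← Scheme.Hom.comp_apply, sq.w, Scheme.Hom.comp_apply]⟩
  have hlc : IsLocallyClosed (Set.range f.base) := by
    rw [hr]
    exact f₀.isLocallyClosed_range.image e.isInducing (by rw [e.range_coe]; exact isOpen_univ.isLocallyClosed)
  obtain ⟨O, C, hO, hC, hOC⟩ := hlc
  let U : Y.Opens := ⟨O, hO⟩
  have hfU : Set.range f.base ⊆ Set.range U.ι.base := by
    rw [Scheme.Opens.range_ι, hOC]; exact Set.inter_subset_left
  let f' : X ⟶ U := IsOpenImmersion.lift U.ι f hfU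
  have hf' : f' ≫ U.ι = f := IsOpenImmersion.lift_fac _ _ _
  let U₀ := iY ⁻¹ᵁ U
  have hsqU : IsPullback (iY ∣_ U) U₀.ι U.ι iY := isPullback_morphismRestrict iY U
  have hfac : ∀ x, f₀ x ∈ U₀ := fun x => by
    show iY (f₀ x) ∈ U
    rw [← Scheme.Hom.comp_apply, ← sq.w, Scheme.Hom.comp_apply]
    have := hfU ⟨iX x, rfl⟩
    rwa [Scheme.Opens.range_ι] at this
  let f₀' : X₀ ⟶ U₀ := IsOpenImmersion.lift U₀.ι f₀ (by rw [Scheme.Opens.range_ι]; rintro _ ⟨x, rfl⟩; exact hfac x)
  have hf₀' : f₀' ≫ U₀.ι = f₀ := IsOpenImmersion.lift_fac _ _ _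
  have hw : iX ≫ f' = f₀' ≫ (iY ∣_ U) := by
    rw [← cancel_mono U.ι, Category.assoc, hf', sq.w, Category.assoc, morphismRestrict_ι, reassoc_of% hf₀']
  have sq' : IsPullback iX f₀' f' (iY ∣_ U) := by
    refine IsPullback.of_bot ?_ hw hsqU
    rw [hf₀', hf']
    exact sq
  haveI : IsImmersion (f₀' ≫ U₀.ι) := by rw [hf₀']; infer_instance
  haveI : IsImmersion f₀' := IsImmersion.of_comp f₀' U₀.ι
  haveI : IsClosedImmersion f₀' := by
    refine IsClosedImmersion.of_isPreimmersion f₀' ?_
    have hcl : Set.range f₀'.base = U₀.ι.base ⁻¹' (e ⁻¹' C) := by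
      ext z
      constructor
      · rintro ⟨x, rfl⟩
        show iY ((f₀' ≫ U₀.ι) x) ∈ C
        rw [hf₀']
        have : e (f₀ x) ∈ Set.range f.base := by rw [hr]; exact ⟨_, ⟨x, rfl⟩, rfl⟩
        rw [hOC] at this
        exact this.2
      · intro hz
        have : iY (U₀.ι z) ∈ Set.range f.base := by rw [hOC]; exact ⟨z.2, hz⟩
        rw [hr] at this
        obtain ⟨_, ⟨x, rfl⟩, hx⟩ := this
        refine ⟨x, U₀.ι.isOpenEmbedding.injective ?_⟩
        rw [← Scheme.Hom.comp_apply, hf₀']
        exact e.injective hx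
    rw [hcl]
    exact (hC.preimage e.continuous).preimage U₀.ι.continuous
  haveI : Surjective (iY ∣_ U) := MorphismProperty.of_isPullback hsqU.flip ‹Surjective iY›
  have hm' : (iY ∣_ U).ker ^ m = ⊥ := by
    rw [FComplLib.ker_of_isPullback hsqU, ← FComplLib.comap_pow, hm, Scheme.IdealSheafData.comap_bot]
  haveI : IsClosedImmersion f' := FComplLib.isClosedImmersion_of_thickening sq' hm'
  rw [← hf']
  infer_instance

/-- Let A be a local artinian ring with residue field k and i : Spec k → Spec A the closed point. (i) If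
X is an A-scheme whose base change X ⊗_A k is locally of finite type (resp. of finite type) over k,
then X is locally of finite type (resp. of finite type) over A. (ii) If u : X → Y is a morphism of
A-schemes whose base change u ⊗_A k is an immersion (resp. a closed immersion), then u is an
immersion (resp. a closed immersion). -/
theorem result (A : Type u) [CommRing A] [IsArtinianRing A] [IsLocalRing A] (X Y : Over (Spec (CommRingCat.of A))) (u : X ⟶ Y) :
    letI i : Spec (CommRingCat.of (IsLocalRing.ResidueField A)) ⟶ (Spec (CommRingCat.of A)) := Spec.map (CommRingCat.ofHom (IsLocalRing.residue A))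
    (LocallyOfFiniteType (pullback.snd X.hom i) → LocallyOfFiniteType X.hom) ∧
    (LocallyOfFiniteType (pullback.snd X.hom i) → QuasiCompact (pullback.snd X.hom i) → QuasiCompact X.hom) ∧
    (IsImmersion ((Over.pullback i).map u).left → IsImmersion u.left) ∧
    (IsClosedImmersion ((Over.pullback i).map u).left → IsClosedImmersion u.left) := by
  let i := GrpQuotLib.resPt A
  show (LocallyOfFiniteType (pullback.snd X.hom i) → LocallyOfFiniteType X.hom) ∧
    (LocallyOfFiniteType (pullback.snd X.hom i) → QuasiCompact (pullback.snd X.hom i) → QuasiCompact X.hom) ∧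
    (IsImmersion ((Over.pullback i).map u).left → IsImmersion u.left) ∧
    (IsClosedImmersion ((Over.pullback i).map u).left → IsClosedImmersion u.left)
  have hth : MoreMor.IsFiniteOrderThickening i := GrpQuotLib.isFiniteOrderThickening_resPt A
  have hth' := hth
  obtain ⟨⟨hci, hsi⟩, n, hn⟩ := hth'
  haveI : IsClosedImmersion i := hci
  haveI : Surjective i := hsi
  have hX : IsPullback (pullback.fst X.hom i) (pullback.snd X.hom i) X.hom i := IsPullback.of_hasPullback _ _
  have hY : IsPullback (pullback.fst Y.hom i) (pullback.snd Y.hom i) Y.hom i := IsPullback.of_hasPullback _ _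
  have hu : IsPullback (pullback.fst X.hom i) ((Over.pullback i).map u).left u.left (pullback.fst Y.hom i) := by
    refine IsPullback.of_bot ?_ ?_ hY
    · convert hX using 1
      · exact pullback.lift_snd _ _ _
      · exact Over.w u
    · exact (pullback.lift_fst _ _ _).symm
  have hk : (pullback.fst Y.hom i).ker ^ n = ⊥ := by
    rw [FComplLib.ker_of_isPullback hY, ← FComplLib.comap_pow, show i.ker ^ n = ⊥ from hn, Scheme.IdealSheafData.comap_bot]
  refine ⟨fun h => (S1309.result _ _ _ _ hth hX).1 h, fun _ h => ?_, fun h => ?_, fun h => ?_⟩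
  · exact (S1303.result _ _ _ _ ⟨inferInstance, inferInstance⟩ ⟨hci, hsi⟩ hX.w).1 h
  · haveI := h
    exact isImmersion_of_thickening hu hk
  · haveI := h
    exact FComplLib.isClosedImmersion_of_thickening hu hk

end Groth.Agent.S5346
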