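import Groth.Statements.S5352
import Groth.Agent.GrpSchLib.CommCat
import Groth.Agent.S3278

set_option autoImplicit false
universe u
open CategoryTheory CategoryTheory.Limits MonoidalCategory CartesianMonoidalCategory MonObj GrpObj AlgebraicGeometry
open SGA3

namespace Groth.Agent.S5352

/-- Let k be a field. The category of commutative affine algebraic k-groups (commutative group objects
in k-schemes whose underlying scheme is affine and of finite type over k, as a full subcategory of
commutative group objects over Spec k) is an abelian category. -/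
theorem result (k : Type u) [Field k] :
    Nonempty (Abelian (ObjectProperty.FullSubcategory
      (fun G : CommGrp (Over (Spec (CommRingCat.of k))) => LocallyOfFiniteType G.X.hom ∧ QuasiCompact G.X.hom ∧ IsAffine G.X.left))) := by
  refine GrpSchLib.CommCat.nonempty_abelian ⟨?_, ?_, ?_, ?_, ?_⟩
  · exact fun G h => ⟨h.1, h.2.1⟩
  · intro G N _ _ i _ hG hi
    obtain ⟨h1, h2, h3⟩ := hG
    haveI := hi; haveI := h3; haveI := h1; haveI := h2
    refine ⟨?_, ?_, isAffine_of_isAffineHom i.left⟩
    · rw [← Over.w i]; infer_instance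
    · show QuasiCompact N.hom
      rw [← Over.w i]; infer_instance
  · refine ⟨?_, ?_, ?_⟩
    · exact inferInstanceAs (LocallyOfFiniteType (𝟙 (Spec (CommRingCat.of k))))
    · exact inferInstanceAs (QuasiCompact (𝟙 (Spec (CommRingCat.of k))))
    · exact inferInstanceAs (IsAffine (Spec (CommRingCat.of k)))
  · intro G H hG hH
    obtain ⟨h1, h2, h3⟩ := hG
    obtain ⟨h4, h5, h6⟩ := hH
    haveI := h1; haveI := h2; haveI := h3; haveI := h4; haveI := h5; haveI := h6
    refine ⟨?_, ?_, ?_⟩
    · exact inferInstanceAs (LocallyOfFiniteType (pullback.fst G.X.hom H.X.hom ≫ G.X.hom))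
    · exact inferInstanceAs (QuasiCompact (pullback.fst G.X.hom H.X.hom ≫ G.X.hom))
    · exact inferInstanceAs (IsAffine (pullback G.X.hom H.X.hom))
  · intro G N i hG _ hi
    obtain ⟨h1, h2, h3⟩ := hG
    haveI := h1; haveI := h3
    have hN : AlgGrp.IsNormalHom i.hom.hom.hom := fun T g n => ⟨n, by
      rw [_root_.mul_comm g, _root_.mul_assoc, mul_inv_cancel, _root_.mul_one]⟩
    haveI : IsMonHom i.hom.hom.hom := i.hom.hom.isMonHom_hom
    haveI := hi
    obtain ⟨Q, gQ, q, hq, hQa, hQl, hqf, hqs, hk⟩ := S3278.result k G.X N.X i.hom.hom.hom hN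
    haveI := hQl; haveI := hQa; haveI := hqf; haveI := hqs; haveI := hq
    haveI : QuasiCompact q.left := inferInstance
    haveI : IsCommMonObj Q := GrpSchLib.CommCat.isCommMonObj_of_flat_surjective q
    exact ⟨CommGrp.mk Q, InducedCategory.homMk (Grp.homMk (A := G.toGrp) (B := (CommGrp.mk Q).toGrp) q),
      ⟨hQl, inferInstance, hQa⟩, hqf, hqs, hk⟩

end Groth.Agent.S5352
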