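import Groth.Statements.S5360
import Groth.Agent.MonoEndoLib.Desc
import Groth.Agent.AssocGrp.Basic
-- import your own Groth.Agent.* helpers here

set_option autoImplicit false
set_option backward.isDefEq.respectTransparency false
set_option maxHeartbeats 1000000
set_option linter.style.haveILetI false
universe u
open CategoryTheory CategoryTheory.Limits MonoidalCategory CartesianMonoidalCategory MonObj GrpObj AlgebraicGeometry
open SGA3

namespace Groth.Agent.S5360

/-- Let G be an S-scheme of finite presentation over S with an associative composition law m : G ×_S G →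
G such that for every S-scheme S' and every point g of G with values in S' the left and right
translations by g are injective on G(S'), and such that G has an S-point. Then G is an S-group
scheme: there is a group object structure on G over S whose multiplication is m. -/
theorem result (S : Scheme.{u}) (G : Over S)
    [LocallyOfFinitePresentation G.hom] [QuasiCompact G.hom] [QuasiSeparated G.hom]
    (m : G ⊗ G ⟶ G) (hassoc : (m ▷ G) ≫ m = (α_ G G G).hom ≫ (G ◁ m) ≫ m)
    (hl : ∀ (T : Over S) (g : T ⟶ G), Function.Injective (fun x : T ⟶ G => lift g x ≫ m))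
    (hr : ∀ (T : Over S) (g : T ⟶ G), Function.Injective (fun x : T ⟶ G => lift x g ≫ m))
    (e : 𝟙_ (Over S) ⟶ G) :
    ∃ inst : GrpObj G, inst.mul = m := by
  haveI : LocallyOfFinitePresentation (G ⊗ G).hom := inferInstanceAs (LocallyOfFinitePresentation (Limits.pullback.fst G.hom G.hom ≫ G.hom))
  haveI : QuasiCompact (G ⊗ G).hom := inferInstanceAs (QuasiCompact (Limits.pullback.fst G.hom G.hom ≫ G.hom))
  haveI : QuasiSeparated (G ⊗ G).hom := inferInstanceAs (QuasiSeparated (Limits.pullback.fst G.hom G.hom ≫ G.hom))
  have key : ∀ σ : G ⊗ G ⟶ G ⊗ G, Mono σ → IsIso σ := fun σ _ => by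
    haveI : Mono σ.left := inferInstanceAs (Mono ((Over.forget _).map σ))
    haveI : IsIso ((Over.forget _).map σ) := MonoEndoLib.isIso_of_mono (G ⊗ G).hom σ.left (Over.w σ)
    exact isIso_of_reflects_iso _ (Over.forget _)
  haveI : IsSplitEpi G.hom := ⟨⟨e.left, Over.w e⟩⟩
  refine AssocGrp.exists_grpObj_of_effectiveEpi m hassoc (key _ ⟨fun {T} a b hab => ?_⟩)
    (key _ ⟨fun {T} a b hab => ?_⟩)
  · have h1 := congrArg (· ≫ SemiCartesianMonoidalCategory.fst G G) hab
    have h2 := congrArg (· ≫ SemiCartesianMonoidalCategory.snd G G) hab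
    simp only [Category.assoc, lift_fst, lift_snd] at h1 h2
    refine CartesianMonoidalCategory.hom_ext _ _ h1 (hl T (a ≫ SemiCartesianMonoidalCategory.fst G G) ?_)
    calc CartesianMonoidalCategory.lift (a ≫ SemiCartesianMonoidalCategory.fst G G) (a ≫ SemiCartesianMonoidalCategory.snd G G) ≫ m = a ≫ m := by rw [lift_comp_fst_snd]
      _ = b ≫ m := h2
      _ = CartesianMonoidalCategory.lift (b ≫ SemiCartesianMonoidalCategory.fst G G) (b ≫ SemiCartesianMonoidalCategory.snd G G) ≫ m := by rw [lift_comp_fst_snd]
      _ = _ := by rw [← h1]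
  · have h1 := congrArg (· ≫ SemiCartesianMonoidalCategory.fst G G) hab
    have h2 := congrArg (· ≫ SemiCartesianMonoidalCategory.snd G G) hab
    simp only [Category.assoc, lift_fst, lift_snd] at h1 h2
    refine CartesianMonoidalCategory.hom_ext _ _ (hr T (a ≫ SemiCartesianMonoidalCategory.snd G G) ?_) h2
    calc CartesianMonoidalCategory.lift (a ≫ SemiCartesianMonoidalCategory.fst G G) (a ≫ SemiCartesianMonoidalCategory.snd G G) ≫ m = a ≫ m := by rw [lift_comp_fst_snd]
      _ = b ≫ m := h1
      _ = CartesianMonoidalCategory.lift (b ≫ SemiCartesianMonoidalCategory.fst G G) (b ≫ SemiCartesianMonoidalCategory.snd G G) ≫ m := by rw [lift_comp_fst_snd]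
      _ = _ := by rw [← h2]

end Groth.Agent.S5360
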