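import Groth.Statements.S5362
import Groth.Agent.GenSub.ProductSet
import Groth.Agent.GrpSchLib.SmoothReduced

set_option autoImplicit false
universe u
open CategoryTheory CategoryTheory.Limits MonoidalCategory CartesianMonoidalCategory MonObj GrpObj AlgebraicGeometry
open SGA3

namespace Groth.Agent.S5362

/-- Let G be a group scheme locally of finite type over a field k, and a : A → G, b : B → G two closed
subgroup schemes which are smooth and of finite type over k, such that B normalizes A (conjugating a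
point of A by a point of B gives a point of A). Let i : Γ → G be the smallest closed subgroup scheme
of G through which both a and b factor. Then Γ is reduced and its underlying set is A·B, the image
of A ×_k B under (x, y) ↦ a(x) b(y). -/
theorem result (k : Type u) [Field k] (G A B : Over (Spec (CommRingCat.of k))) [GrpObj G] [GrpObj A] [GrpObj B]
    [LocallyOfFiniteType G.hom] (a : A ⟶ G) [IsMonHom a] [IsClosedImmersion a.left] (b : B ⟶ G) [IsMonHom b]
    [IsClosedImmersion b.left] [Smooth A.hom] [QuasiCompact A.hom] [Smooth B.hom] [QuasiCompact B.hom]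
    (hN : ∀ (T : Over (Spec (CommRingCat.of k))) (y : T ⟶ B) (x : T ⟶ A), ∃ x' : T ⟶ A, (y ≫ b) * (x ≫ a) * (y ≫ b)⁻¹ = x' ≫ a)
    (Γ : Over (Spec (CommRingCat.of k))) [GrpObj Γ] (i : Γ ⟶ G) [IsMonHom i] [IsClosedImmersion i.left]
    (ha : ∃ a' : A ⟶ Γ, a' ≫ i = a) (hb : ∃ b' : B ⟶ Γ, b' ≫ i = b)
    (hmin : ∀ (Γ' : Over (Spec (CommRingCat.of k))) (_ : GrpObj Γ') (i' : Γ' ⟶ G), IsMonHom i' → IsClosedImmersion i'.left →
        (∃ a'' : A ⟶ Γ', a'' ≫ i' = a) → (∃ b'' : B ⟶ Γ', b'' ≫ i' = b) → ∃ j : Γ ⟶ Γ', j ≫ i' = i) :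
    IsReduced Γ.left ∧ Set.range i.left.base = Set.range ((a ⊗ₘ b) ≫ μ[G]).left.base := by
  haveI : GeometricallyReduced A.hom := GrpSchLib.geometricallyReduced_of_smooth A.hom
  haveI : GeometricallyReduced B.hom := GrpSchLib.geometricallyReduced_of_smooth B.hom
  haveI := GenSub.gr_tensor A B
  obtain ⟨a', ha'⟩ := ha
  obtain ⟨b', hb'⟩ := hb
  obtain ⟨str, hm, ⟨f', hf'⟩, -, h5⟩ := GenSub.exists_generated (GenSub.prodMap a b)
  letI := str
  haveI := hm
  have hsa : ∃ a'' : A ⟶ GenSub.gen (GenSub.prodMap a b), a'' ≫ GenSub.genι _ = a := by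
    refine ⟨lift (𝟙 A) 1 ≫ f', ?_⟩
    rw [Category.assoc, hf', GenSub.lift_prodMap, Category.id_comp, MonObj.one_comp, inv_one, _root_.mul_one]
  have hsb : ∃ b'' : B ⟶ GenSub.gen (GenSub.prodMap a b), b'' ≫ GenSub.genι _ = b := by
    refine ⟨lift 1 (𝟙 B)⁻¹ ≫ f', ?_⟩
    rw [Category.assoc, hf', GenSub.lift_prodMap, MonObj.one_comp, GrpObj.inv_comp, _root_.inv_inv,
      Category.id_comp, _root_.one_mul]
  obtain ⟨j, hj⟩ := hmin (GenSub.gen _) str (GenSub.genι _) hm inferInstance hsa hsb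
  obtain ⟨j', hj'⟩ := h5 Γ ‹_› i ‹_› ‹_› ⟨(CartesianMonoidalCategory.fst A B ≫ a') * (CartesianMonoidalCategory.snd A B ≫ b')⁻¹, by
    simp [GenSub.prodMap, MonObj.mul_comp, GrpObj.inv_comp, ha', hb']⟩
  haveI : Mono i := (Over.forget _).mono_of_mono_map (inferInstanceAs (Mono i.left))
  haveI : Mono (GenSub.genι (GenSub.prodMap a b)) :=
    (Over.forget _).mono_of_mono_map (inferInstanceAs (Mono (GenSub.genι (GenSub.prodMap a b)).left))
  have e : j ≫ j' = 𝟙 Γ := by rw [← cancel_mono i, Category.assoc, hj', hj, Category.id_comp]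
  have e' : j' ≫ j = 𝟙 _ := by
    rw [← cancel_mono (GenSub.genι (GenSub.prodMap a b)), Category.assoc, hj, hj', Category.id_comp]
  let iso : Γ ≅ GenSub.gen (GenSub.prodMap a b) := ⟨j, j', e, e'⟩
  haveI : AlgebraicGeometry.IsReduced ((Over.forget _).obj (GenSub.gen (GenSub.prodMap a b))) :=
    inferInstanceAs (AlgebraicGeometry.IsReduced (GenSub.gen (GenSub.prodMap a b)).left)
  refine ⟨isReduced_of_isOpenImmersion ((Over.forget _).mapIso iso).hom, ?_⟩
  have hr : Set.range i.left = Set.range (GenSub.genι (GenSub.prodMap a b)).left := by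
    refine Set.Subset.antisymm ?_ ?_
    · rintro _ ⟨z, rfl⟩; exact ⟨j.left z, by rw [← GrpSchLib.left_comp_apply, hj]⟩
    · rintro _ ⟨z, rfl⟩; exact ⟨j'.left z, by rw [← GrpSchLib.left_comp_apply, hj']⟩
  exact (hr.trans (GenSub.range_gen_eq a b hN)).trans (GenSub.range_tensor_mul a b).symm

end Groth.Agent.S5362
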