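import Groth.Statements.S5364
import Groth.Agent.TransLib.Centralizer

set_option autoImplicit false
universe u
open CategoryTheory CategoryTheory.Limits MonoidalCategory CartesianMonoidalCategory MonObj GrpObj AlgebraicGeometry
open SGA3

namespace Groth.Agent.S5364

/-- Let G be a group scheme over a field k and a : A → G, b : B → G two closed subgroup schemes which
are geometrically reduced over k and normal in G. Let i : Γ → G be the commutator subgroup scheme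
(A, B): the smallest closed subgroup scheme of G through which the morphism A ×_k B → G, (x, y) ↦
a(x) b(y) a(x)⁻¹ b(y)⁻¹, factors. Then Γ is normal in G. (The published statement also covers
characteristic subgroups; this row states the case of normal subgroups only.) -/
theorem result (k : Type u) [Field k] (G A B : Over (Spec (CommRingCat.of k))) [GrpObj G] [GrpObj A] [GrpObj B]
    (a : A ⟶ G) [IsMonHom a] [IsClosedImmersion a.left] (b : B ⟶ G) [IsMonHom b] [IsClosedImmersion b.left]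
    [GeometricallyReduced A.hom] [GeometricallyReduced B.hom] (hA : AlgGrp.IsNormalHom a) (hB : AlgGrp.IsNormalHom b)
    (Γ : Over (Spec (CommRingCat.of k))) [GrpObj Γ] (i : Γ ⟶ G) [IsMonHom i] [IsClosedImmersion i.left]
    (hf : ∃ f' : A ⊗ B ⟶ Γ, f' ≫ i = (((fst A B) ≫ a) * ((snd A B) ≫ b) * ((fst A B) ≫ a)⁻¹ * ((snd A B) ≫ b)⁻¹))
    (hmin : ∀ (Γ' : Over (Spec (CommRingCat.of k))) (_ : GrpObj Γ') (i' : Γ' ⟶ G), IsMonHom i' → IsClosedImmersion i'.left →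
        (∃ f'' : A ⊗ B ⟶ Γ', f'' ≫ i' = (((fst A B) ≫ a) * ((snd A B) ≫ b) * ((fst A B) ≫ a)⁻¹ * ((snd A B) ≫ b)⁻¹)) → ∃ j : Γ ⟶ Γ', j ≫ i' = i) :
    AlgGrp.IsNormalHom i := by
  obtain ⟨f, hf⟩ := hf
  haveI : Mono i := (Over.forget _).mono_of_mono_map (inferInstanceAs (Mono i.left))
  obtain ⟨Z, c, hc, hZ⟩ := GrpSchLib.exists_closed_universal (W := G) (X := Γ)
    ((fst G Γ) * (snd G Γ ≫ i) * (fst G Γ)⁻¹) i
  haveI := hc
  haveI : Mono c := (Over.forget _).mono_of_mono_map (inferInstanceAs (Mono c.left))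
  -- the points of `Z` are those all of whose conjugates lie in `Γ`
  have key : ∀ {P : Over (Spec (CommRingCat.of k))} (x : P ⟶ Γ), (∃ z : P ⟶ Z, z ≫ c = x) ↔
      ∀ (T : Over (Spec (CommRingCat.of k))) (s : T ⟶ P) (g : T ⟶ G),
        ∃ x' : T ⟶ Γ, g * (s ≫ x ≫ i) * g⁻¹ = x' ≫ i := by
    intro P x
    refine (hZ x).trans ⟨fun ⟨l, hl⟩ T s g => ⟨lift g s ≫ l, ?_⟩, fun h => ?_⟩
    · rw [Category.assoc, hl]
      simp [MonObj.comp_mul, GrpObj.comp_inv, lift_whiskerLeft_assoc]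
    · obtain ⟨l, hl⟩ := h (G ⊗ P) (snd G P) (fst G P)
      exact ⟨l, by rw [← hl]; simp [MonObj.comp_mul, GrpObj.comp_inv]⟩
  obtain ⟨η', hη⟩ := (key η[Γ]).mpr fun T s g => ⟨1, by
    rw [IsMonHom.one_hom i, MonObj.one_comp]
    rw [show s ≫ η[G] = (1 : T ⟶ G) by rw [Hom.one_def, toUnit_unique s (toUnit _)]]
    group⟩
  obtain ⟨μ', hμ⟩ := (key ((fst Z Z ≫ c) * (snd Z Z ≫ c))).mpr fun T s g => by
    obtain ⟨x₁, h1⟩ := (key ((s ≫ fst Z Z) ≫ c)).mp ⟨_, rfl⟩ T (𝟙 _) g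
    obtain ⟨x₂, h2⟩ := (key ((s ≫ snd Z Z) ≫ c)).mp ⟨_, rfl⟩ T (𝟙 _) g
    refine ⟨x₁ * x₂, ?_⟩
    rw [MonObj.mul_comp x₁ x₂ i, ← h1, ← h2, MonObj.mul_comp _ _ i, MonObj.comp_mul]
    simp only [Category.id_comp, Category.assoc]
    group
  obtain ⟨ι', hι⟩ := (key c⁻¹).mpr fun T s g => by
    obtain ⟨x₁, h1⟩ := (key (s ≫ c)).mp ⟨s, rfl⟩ T (𝟙 _) g
    refine ⟨x₁⁻¹, ?_⟩
    rw [GrpObj.inv_comp x₁ i, ← h1, GrpObj.inv_comp c i, GrpObj.comp_inv]
    simp only [Category.id_comp, Category.assoc]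
    group
  obtain ⟨str, hmon⟩ := GrpSchLib.exists_grpObj_of_mono c η' hη μ' hμ ι' hι
  haveI : IsClosedImmersion (c ≫ i).left := inferInstanceAs (IsClosedImmersion (c.left ≫ i.left))
  obtain ⟨f₀, hf₀⟩ := (key f).mpr fun T s g => by
    obtain ⟨a', ha⟩ := hA T g (s ≫ fst A B)
    obtain ⟨b', hb⟩ := hB T g (s ≫ snd A B)
    refine ⟨lift a' b' ≫ f, ?_⟩
    rw [Category.assoc, hf]
    simp only [MonObj.comp_mul, GrpObj.comp_inv, lift_fst_assoc, lift_snd_assoc, ← ha, ← hb, Category.assoc]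
    group
  obtain ⟨j, hj⟩ := hmin Z str (c ≫ i) inferInstance inferInstance ⟨f₀, by rw [← Category.assoc, hf₀, hf]⟩
  have hjc : j ≫ c = 𝟙 Γ := by rw [← cancel_mono i, Category.assoc, hj, Category.id_comp]
  intro T g n
  obtain ⟨n', hn⟩ := (key (𝟙 Γ)).mp ⟨j, hjc⟩ T n g
  exact ⟨n', by simpa using hn⟩

end Groth.Agent.S5364
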