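import Groth.Statements.S5378
import Groth.Agent.GrpFieldLib.Image
import Groth.Agent.GrpSchLib.SchDomFlat

set_option autoImplicit false
universe u
open CategoryTheory CategoryTheory.Limits MonoidalCategory CartesianMonoidalCategory MonObj GrpObj AlgebraicGeometry
open SGA3

namespace Groth.Agent.S5378

/-- Let k be a field, G a k-group scheme of finite type, G' an affine k-group scheme (not necessarily of
finite type) and u : G → G' a homomorphism. Then u factors as a homomorphism p : G → C which is
surjective and flat (C is the quotient of G by the kernel of u) followed by a homomorphism i : C →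
G' which is a closed immersion; in particular C is affine. If moreover u induces an injective map on
global sections, then i is an isomorphism (so G' is of finite type and u is faithfully flat). -/
theorem result (k : Type u) [Field k] (G G' : Over (Spec (CommRingCat.of k))) [GrpObj G] [GrpObj G']
    [LocallyOfFiniteType G.hom] [QuasiCompact G.hom] [IsAffine G'.left] (u : G ⟶ G') [IsMonHom u] :
    ∃ (C : Over (Spec (CommRingCat.of k))) (_ : GrpObj C) (p : G ⟶ C) (i : C ⟶ G'), IsMonHom p ∧ IsMonHom i ∧
      p ≫ i = u ∧ Surjective p.left ∧ Flat p.left ∧ IsClosedImmersion i.left ∧ IsAffine C.left ∧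
      (Function.Injective u.left.appTop.hom → IsIso i) := by
  haveI : IsSeparated G'.hom := inferInstance
  haveI : QuasiCompact (u.left ≫ G'.hom) := by rw [Over.w u]; infer_instance
  haveI : QuasiCompact u.left := QuasiCompact.of_comp u.left G'.hom
  obtain ⟨C, _, i, p, hi, hp, hpi, hcl, hker, hqc, hsurj⟩ := GrpFieldLib.exists_schematic_image u
  haveI := hcl
  haveI := hp
  haveI : IsAffine C.left := isAffine_of_isAffineHom i.left
  obtain ⟨hfl, -, -⟩ := GrpSchLib.SchDomFlat.main p hker
  refine ⟨C, ‹_›, p, i, hp, hi, hpi, hsurj, hfl, hcl, inferInstance, fun hinj => ?_⟩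
  haveI := GrpSchLib.SchDomFlat.isSchemeTheoreticallyDominant_of_injective u.left hinj
  haveI : IsIso i.left := by
    rw [IsClosedImmersion.isIso_iff_ker_eq_bot]
    refine le_bot_iff.mp ?_
    calc i.left.ker ≤ (p.left ≫ i.left).ker := Scheme.Hom.le_ker_comp _ _
      _ = ⊥ := by rw [← Over.comp_left, hpi, u.left.ker_eq_bot]
  haveI : IsIso ((Over.forget _).map i) := ‹_›
  exact isIso_of_reflects_iso i (Over.forget _)

end Groth.Agent.S5378
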