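import Groth.Statements.S5383
import Groth.Agent.UnibranchOpenLib.Alg
-- import your own Groth.Agent.* helpers here

set_option autoImplicit false
set_option backward.isDefEq.respectTransparency false
set_option maxHeartbeats 1000000
set_option linter.style.haveILetI false
universe u
open CategoryTheory CategoryTheory.Limits MonoidalCategory CartesianMonoidalCategory MonObj GrpObj AlgebraicGeometry
open SGA3

namespace Groth.Agent.S5383

theorem irreducible_spec {X : Scheme.{u}} [IrreducibleSpace X] {W : X.Opens} (hW : IsAffineOpen W) (x : W) :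
    IrreducibleSpace (Spec Γ(X, W)) := by
  haveI : Nonempty W := ⟨x⟩
  haveI : Nonempty (W : Scheme.{u}) := ⟨x⟩
  haveI : IrreducibleSpace (W : Scheme.{u}) := W.ι.isOpenEmbedding.irreducibleSpace
  haveI : Nonempty (Spec Γ(X, W)) := ⟨hW.primeIdealOf x⟩
  exact (hW.isoSpec.inv.homeomorph).isOpenEmbedding.irreducibleSpace

theorem dense_spec {X Y : Scheme.{u}} (f : X ⟶ Y) [IrreducibleSpace X] (hf : DenseRange f.base)
    {V : Y.Opens} {W : X.Opens} (hW : IsAffineOpen W) (hV : IsAffineOpen V) (e : W ≤ f ⁻¹ᵁ V) (x : W) :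
    DenseRange (Spec.map (f.appLE V W e)) := by
  rw [DenseRange, dense_iff_inter_open]
  intro O hO hne
  have hO' : IsOpen (hV.fromSpec '' O) := hV.fromSpec.isOpenEmbedding.isOpenMap O hO
  obtain ⟨a, hy⟩ := hf.exists_mem_open hO' (hne.image _)
  obtain ⟨b, hbW, hbU⟩ :=
    nonempty_preirreducible_inter W.2 (f.continuous.isOpen_preimage _ hO') ⟨x, x.2⟩ ⟨a, hy⟩
  obtain ⟨c, hc⟩ : b ∈ Set.range hW.fromSpec := by rw [hW.range_fromSpec]; exact hbW
  obtain ⟨o, ho, hob⟩ := hbU
  refine ⟨Spec.map (f.appLE V W e) c, ?_, ⟨c, rfl⟩⟩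
  have h2 : hV.fromSpec (Spec.map (f.appLE V W e) c) = hV.fromSpec o := by
    rw [← Scheme.Hom.comp_apply, hV.SpecMap_appLE_fromSpec f hW e, Scheme.Hom.comp_apply, hc, hob]
  rw [hV.fromSpec.isOpenEmbedding.injective h2]
  exact ho

/-- (i) let A ⊆ B be domains with B integral over A, and q a prime of B such that the local ring of A at
p = q ∩ A is unibranch; then Spec B → Spec A is open at q (it maps neighbourhoods of q to
neighbourhoods of p). (ii) Let f : X → Y be a dominant morphism of irreducible schemes which is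
locally of finite type, x a point of X isolated in its fibre (f quasi-finite at x) such that the
local ring of Y at f(x) is unibranch; then f is open at x. -/
theorem result :
    (∀ (A B : Type u) [CommRing A] [IsDomain A] [CommRing B] [IsDomain B] [Algebra A B],
      Function.Injective (algebraMap A B) → Algebra.IsIntegral A B →
      ∀ q : PrimeSpectrum B, CAlg2.IsUnibranch (Localization.AtPrime (q.asIdeal.comap (algebraMap A B))) →
        EGA43.IsOpenAt (PrimeSpectrum.comap (algebraMap A B)) q) ∧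
    (∀ (X Y : Scheme.{u}) (f : X ⟶ Y) [IrreducibleSpace X] [IrreducibleSpace Y] [LocallyOfFiniteType f],
      DenseRange f.base → ∀ x : X, (nhdsWithin x (f.base ⁻¹' {f.base x})) = pure x →
        CAlg2.IsUnibranch (Y.presheaf.stalk (f.base x)) → EGA43.IsOpenAt f.base x) := by
  refine ⟨fun A B _ _ _ _ _ hinj hint q h => ?_, fun X Y f _ _ _ hf x hx h => ?_⟩
  · haveI := hint
    exact UnibranchOpenLib.isOpenAt_of_isIntegral hinj q h
  · have hqf : f.QuasiFiniteAt x := by
      rw [Scheme.Hom.quasiFiniteAt_iff_isOpen_singleton_asFiber]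
      rw [← (f.fiberHomeo (f x)).isOpen_image]
      simp only [Set.image_singleton, Scheme.Hom.asFiber, Homeomorph.apply_symm_apply]
      rw [isOpen_singleton_iff_nhds_eq_pure]
      have key : nhds (⟨x, rfl⟩ : (f.base ⁻¹' {f.base x} : Set X)) = pure ⟨x, rfl⟩ := by
        rw [← (Filter.map_injective Subtype.val_injective).eq_iff, Filter.map_pure, ← nhdsWithin_eq_map_subtype_coe]
        exact hx
      exact key
    obtain ⟨V, hV, hxV, -⟩ := exists_isAffineOpen_mem_and_subset (x := f.base x) (U := ⊤) trivial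
    obtain ⟨W, hW, hxW, hWV⟩ := exists_isAffineOpen_mem_and_subset (x := x) (U := f ⁻¹ᵁ V) hxV
    intro U hU
    have hU' : W.ι ⁻¹' U ∈ nhds (⟨x, hxW⟩ : W) := W.ι.continuous.continuousAt.preimage_mem_nhds hU
    letI : Algebra Γ(Y, V) Γ(X, W) := (f.appLE V W hWV).hom.toAlgebra
    haveI : Algebra.FiniteType Γ(Y, V) Γ(X, W) :=
      HasRingHomProperty.appLE (P := @LocallyOfFiniteType) f inferInstance ⟨V, hV⟩ ⟨W, hW⟩ hWV
    let q := hW.primeIdealOf ⟨x, hxW⟩
    haveI : Algebra.QuasiFiniteAt Γ(Y, V) q.asIdeal := hqf.quasiFiniteAt hW hV hWV hxW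
    have hcomm : Spec.map (f.appLE V W hWV) ≫ hV.fromSpec = hW.fromSpec ≫ f :=
      hV.SpecMap_appLE_fromSpec f hW hWV
    have hqx : hW.fromSpec q = x := hW.fromSpec_primeIdealOf ⟨x, hxW⟩
    have hp : hV.fromSpec (Spec.map (f.appLE V W hWV) q) = f.base x := by
      rw [← Scheme.Hom.comp_apply, hcomm, Scheme.Hom.comp_apply, hqx]
    have hp' : PrimeSpectrum.comap (algebraMap Γ(Y, V) Γ(X, W)) q = hV.primeIdealOf ⟨f.base x, hxV⟩ :=
      hV.fromSpec.isOpenEmbedding.injective (hp.trans (hV.fromSpec_primeIdealOf ⟨f.base x, hxV⟩).symm)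
    letI : Algebra Γ(Y, V) (Y.presheaf.stalk (f.base x)) := (Y.presheaf.germ V (f.base x) hxV).hom.toAlgebra
    haveI : IsLocalization.AtPrime (Y.presheaf.stalk (f.base x))
        (q.asIdeal.comap (algebraMap Γ(Y, V) Γ(X, W))) := by
      have e : (q.asIdeal.comap (algebraMap Γ(Y, V) Γ(X, W))).primeCompl =
          (hV.primeIdealOf ⟨f.base x, hxV⟩).asIdeal.primeCompl := by
        rw [← hp']; rfl
      show IsLocalization (q.asIdeal.comap (algebraMap Γ(Y, V) Γ(X, W))).primeCompl _
      rw [e]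
      exact hV.isLocalization_stalk ⟨f.base x, hxV⟩
    haveI : IrreducibleSpace (Spec Γ(X, W)) := irreducible_spec hW ⟨x, hxW⟩
    haveI : IrreducibleSpace (Spec Γ(Y, V)) := irreducible_spec hV ⟨f.base x, hxV⟩
    have hX : (nilradical Γ(X, W)).IsPrime :=
      (PrimeSpectrum.irreducibleSpace_iff_isPrime_nilradical (R := Γ(X, W))).1 ‹_›
    have hY : (nilradical Γ(Y, V)).IsPrime :=
      (PrimeSpectrum.irreducibleSpace_iff_isPrime_nilradical (R := Γ(Y, V))).1 ‹_›
    have hdom : (nilradical Γ(X, W)).comap (algebraMap Γ(Y, V) Γ(X, W)) ≤ nilradical Γ(Y, V) := by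
      have hd : DenseRange (Spec.map (f.appLE V W hWV)) :=
        dense_spec f hf hW hV hWV ⟨x, hxW⟩
      intro a ha
      exact (PrimeSpectrum.denseRange_comap_iff_ker_le_nilRadical (f := (f.appLE V W hWV).hom)).1 hd |>
        fun hk => by
          obtain ⟨n, hn⟩ := mem_nilradical.1 (Ideal.mem_comap.1 ha)
          exact hY.mem_of_pow_mem n (hk (by rw [RingHom.mem_ker, map_pow]; exact hn))
    have hopen := UnibranchOpenLib.isOpenAt_of_quasiFiniteAt hY hX hdom q (Y.presheaf.stalk (f.base x)) h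
    have hU'' : hW.fromSpec ⁻¹' U ∈ nhds q :=
      hW.fromSpec.continuous.continuousAt.preimage_mem_nhds (hqx ▸ hU)
    have hnhds := hV.fromSpec.isOpenEmbedding.isOpenMap.image_mem_nhds (hopen _ hU'')
    rw [show PrimeSpectrum.comap (algebraMap Γ(Y, V) Γ(X, W)) q = Spec.map (f.appLE V W hWV) q from rfl, hp] at hnhds
    refine Filter.mem_of_superset hnhds ?_
    rintro _ ⟨_, ⟨z, hz, rfl⟩, rfl⟩
    refine ⟨hW.fromSpec z, hz, ?_⟩
    show (hW.fromSpec ≫ f) z = _
    rw [← hcomm]
    rfl


end Groth.Agent.S5383
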