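import Groth.Statements.S5386
import Groth.Agent.S3029
import Groth.Agent.S1349
import Groth.Agent.StrictRatLib.Cover

set_option autoImplicit false
universe u
open CategoryTheory CategoryTheory.Limits MonoidalCategory CartesianMonoidalCategory MonObj GrpObj AlgebraicGeometry
open SGA3

namespace Groth.Agent.S5386

set_option linter.style.haveILetI false

theorem residueFieldMap_isIso_of_isPreimmersion {X Y : Scheme.{u}} (f : X ⟶ Y) [IsPreimmersion f] (z : X) :
    IsIso (f.residueFieldMap z) := by
  rw [ConcreteCategory.isIso_iff_bijective]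
  refine ⟨(f.residueFieldMap z).hom.injective, fun a => ?_⟩
  obtain ⟨b, rfl⟩ := X.residue_surjective z a
  obtain ⟨c, rfl⟩ := f.stalkMap_surjective z b
  exact ⟨Y.residue (f z) c, congrArg (fun φ => φ.hom c) (Scheme.residue_residueFieldMap f z)⟩

/-- A finite free multisection through a closed point. -/
theorem exists_thickening (A : Type u) [CommRing A] [IsArtinianRing A] [IsLocalRing A]
    (G : Over (Spec (CommRingCat.of A))) [GrpObj G] [Flat G.hom]
    [LocallyOfFiniteType G.hom] (x : G.left) (hx : IsClosed ({x} : Set G.left)) :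
    ∃ (B : Type u) (_ : CommRing B) (_ : Algebra A B) (_ : Module.Free A B) (_ : Module.Finite A B)
      (h : Spec (CommRingCat.of B) ⟶ G.left) (r : CommRingCat.of B ⟶ G.left.residueField x),
      h ≫ G.hom = Spec.map (CommRingCat.ofHom (algebraMap A B)) ∧
      Spec.map r ≫ h = G.left.fromSpecResidueField x := by
  haveI : Subsingleton (Spec (CommRingCat.of A)) :=
    inferInstanceAs (Subsingleton (PrimeSpectrum A))
  haveI : LocallyOfFinitePresentation G.hom :=
    LocallyOfFinitePresentation.iff_locallyOfFiniteType.2 inferInstance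
  have hcl : IsClosed ({G.hom.asFiber x} : Set ↥(G.hom.fiber (G.hom x))) := by
    rw [← (G.hom.fiberHomeo (G.hom x)).isClosed_image, Set.image_singleton]
    simp only [Scheme.Hom.asFiber, Homeomorph.apply_symm_apply]
    refine (congrArg IsClosed ?_).mpr (hx.preimage continuous_subtype_val)
    ext a
    exact ⟨fun h => congrArg Subtype.val h, fun h => Subtype.ext h⟩
  have hcm : MoreMor.IsCMAt G.hom x := by
    refine ⟨Flat.stalkMap G.hom x, ?_⟩
    let φ := (Spec (CommRingCat.of A)).fromSpecResidueField (G.hom x)
    let GK := (Over.pullback φ).obj G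
    letI : Field ((Spec (CommRingCat.of A)).residueField (G.hom x)) := inferInstance
    haveI : LocallyOfFiniteType GK.hom := inferInstanceAs (LocallyOfFiniteType (pullback.snd G.hom φ))
    exact S3029.result ((Spec (CommRingCat.of A)).residueField (G.hom x)) GK (G.hom.asFiber x)
  obtain ⟨V, Z, i, hi, ⟨z, hz⟩, hflat, hlfp, hqf, huniq⟩ := S1349.result G.hom x hcm hcl
  haveI : IsClosedImmersion i := hi.1
  subst hz
  have hall : ∀ w : Z, w = z := fun w =>
    i.isClosedEmbedding.injective (V.ι.isOpenEmbedding.injective (huniq w (Subsingleton.elim _ _)))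
  haveI : IsAffine Z := by
    obtain ⟨U, hU, hzU, -⟩ := exists_isAffineOpen_mem_and_subset (X := Z) (x := z) (U := ⊤) trivial
    have : U = ⊤ := top_le_iff.1 fun w _ => hall w ▸ hzU
    subst this
    haveI : IsAffine ((⊤ : Z.Opens) : Scheme.{u}) := hU
    exact .of_isIso (Scheme.topIso Z).inv
  let g : Z ⟶ Spec (CommRingCat.of A) := i ≫ V.ι ≫ G.hom
  haveI : Flat g := hflat
  haveI : LocallyQuasiFinite g := hqf
  haveI : IsLocallyArtinian (Spec (CommRingCat.of A)) :=
    Scheme.isLocallyArtinianScheme_Spec.2 inferInstance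
  haveI : IsFinite g := IsFinite.of_locallyQuasiFinite g
  let B := Γ(Z, ⊤)
  let φ : CommRingCat.of A ⟶ B := Spec.preimage (Z.isoSpec.inv ≫ g)
  have hφ : Spec.map φ = Z.isoSpec.inv ≫ g := Spec.map_preimage _
  letI : Algebra A B := φ.hom.toAlgebra
  have hfin : IsFinite (Spec.map φ) := by rw [hφ]; infer_instance
  have hfl : Flat (Spec.map φ) := by rw [hφ]; infer_instance
  haveI : Module.Finite A B := (IsFinite.SpecMap_iff φ).1 hfin
  haveI : Module.Flat A B := Flat.SpecMap_iff.1 hfl
  haveI := residueFieldMap_isIso_of_isPreimmersion (i ≫ V.ι) z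
  refine ⟨B, inferInstance, inferInstance, Module.free_of_flat_of_isLocalRing, inferInstance,
    Z.isoSpec.inv ≫ i ≫ V.ι,
    Spec.preimage (Spec.map (inv ((i ≫ V.ι).residueFieldMap z)) ≫ Z.fromSpecResidueField z ≫ Z.isoSpec.hom), ?_, ?_⟩
  · simp only [Category.assoc]
    exact hφ.symm
  · rw [Spec.map_preimage]
    simp only [Category.assoc, Iso.hom_inv_id_assoc]
    rw [← Scheme.Hom.SpecMap_residueFieldMap_fromSpecResidueField (i ≫ V.ι) z, ← Spec.map_comp_assoc,
      IsIso.hom_inv_id, Spec.map_id, Category.id_comp]

set_option maxHeartbeats 1000000 in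
/-- Let A be a local artinian ring, G an A-group scheme which is flat and locally of finite type over A,
and x a closed point of G. Then there is a local A-algebra A', finite and free as an A-module, such
that every point of G ⊗_A A' lying over x is strictly rational over A': it is the image of the
closed point under some section Spec A' → G ⊗_A A' of the projection. -/
theorem result (A : Type u) [CommRing A] [IsArtinianRing A] [IsLocalRing A] (G : Over (Spec (CommRingCat.of A))) [GrpObj G] [Flat G.hom]
    [LocallyOfFiniteType G.hom] (x : G.left) (hx : IsClosed ({x} : Set G.left)) :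
    ∃ (A' : Type u) (_ : CommRing A') (_ : IsLocalRing A') (_ : Algebra A A') (_ : Module.Finite A A') (_ : Module.Free A A'),
      ∀ x' : ↥(pullback G.hom (Spec.map (CommRingCat.ofHom (algebraMap A A')))),
        (pullback.fst G.hom (Spec.map (CommRingCat.ofHom (algebraMap A A')))).base x' = x →
        ∃ s : Spec (CommRingCat.of A') ⟶ pullback G.hom (Spec.map (CommRingCat.ofHom (algebraMap A A'))),
          s ≫ pullback.snd G.hom (Spec.map (CommRingCat.ofHom (algebraMap A A'))) = 𝟙 _ ∧ x' ∈ Set.range s.base := by
  obtain ⟨B, _, _, _, _, h, r, hh, hr⟩ := exists_thickening A G x hx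
  obtain ⟨k, _, _, hksurj⟩ : ∃ (k : Type u) (_ : Field k) (_ : Algebra A k), Function.Surjective (algebraMap A k) :=
    ⟨IsLocalRing.ResidueField A, inferInstance, inferInstance, Ideal.Quotient.mk_surjective⟩
  let κ : Type u := G.left.residueField x
  letI : Algebra A κ := (r.hom.comp (algebraMap A B)).toAlgebra
  let rA : B →ₐ[A] κ := { r.hom with commutes' := fun _ => rfl }
  haveI : Algebra.FiniteType A κ := by
    haveI : IsClosedImmersion (G.left.fromSpecResidueField x) :=
      IsClosedImmersion.of_isPreimmersion _ (by rw [Scheme.range_fromSpecResidueField]; exact hx)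
    have hm : LocallyOfFiniteType (Spec.map (CommRingCat.ofHom (algebraMap A κ))) := by
      have : Spec.map (CommRingCat.ofHom (algebraMap A κ)) = G.left.fromSpecResidueField x ≫ G.hom := by
        rw [← hr, Category.assoc, hh, ← Spec.map_comp]
        rfl
      rw [this]; infer_instance
    exact HasRingHomProperty.Spec_iff.1 hm
  haveI : Module.Finite A κ := finite_of_finite_type_of_isJacobsonRing A κ
  have hmax : ∀ {F : Type u} [Field F] (g : A →+* F), RingHom.ker g = IsLocalRing.maximalIdeal A := fun {F} _ g =>
    IsLocalRing.eq_maximalIdeal (IsArtinianRing.isPrime_iff_isMaximal _ |>.1 (RingHom.ker_isPrime g))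
  let jk : k →+* κ := (algebraMap A k).liftOfSurjective hksurj ⟨algebraMap A κ, by rw [hmax, hmax]⟩
  letI : Algebra k κ := jk.toAlgebra
  haveI : IsScalarTower A k κ := IsScalarTower.of_algebraMap_eq fun c => by
    show algebraMap A κ c = jk (algebraMap A k c)
    exact (RingHom.liftOfRightInverse_comp_apply (algebraMap A k) (Function.surjInv hksurj)
      (Function.rightInverse_surjInv hksurj) ⟨algebraMap A κ, by rw [hmax, hmax]⟩ c).symm
  haveI : Module.Finite k κ := Module.Finite.of_restrictScalars_finite A k κ
  let K := AlgebraicClosure κ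
  let k' := IntermediateField.normalClosure k κ K
  haveI : FiniteDimensional k k' := normalClosure.is_finiteDimensional k κ K
  haveI : Normal k k' := normalClosure.normal k κ K
  haveI : Module.Finite A k := Module.Finite.of_surjective (Algebra.linearMap A k) hksurj
  haveI : Module.Finite A k' := Module.Finite.trans k k'
  classical
  obtain ⟨A', _, _, _, _, _, π, hπ, hψ⟩ := StrictRatLib.exists_local_cover
    ((Finset.univ : Finset (κ →ₐ[k] k')).toList.map fun σ => (σ.restrictScalars A).comp rA)
  refine ⟨A', inferInstance, inferInstance, inferInstance, inferInstance, inferInstance, fun x' hx' => ?_⟩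
  let a' := Spec.map (CommRingCat.ofHom (algebraMap A A'))
  let p₁ := pullback.fst G.hom a'
  let p₂ := pullback.snd G.hom a'
  let P := pullback G.hom a'
  let L : Type u := P.residueField x'
  have key : ∃ (a : G.left.residueField x ⟶ P.residueField x') (b : CommRingCat.of A' ⟶ P.residueField x'),
      P.fromSpecResidueField x' ≫ p₁ = Spec.map a ≫ G.left.fromSpecResidueField x ∧
      P.fromSpecResidueField x' ≫ p₂ = Spec.map b := by
    subst hx'
    exact ⟨p₁.residueFieldMap x', Spec.preimage (P.fromSpecResidueField x' ≫ p₂),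
      (Scheme.Hom.SpecMap_residueFieldMap_fromSpecResidueField p₁ x').symm, (Spec.map_preimage _).symm⟩
  obtain ⟨a, b, ha, hb⟩ := key
  have hab : a.hom.comp (algebraMap A κ) = b.hom.comp (algebraMap A A') := by
    have e : Spec.map (CommRingCat.ofHom (algebraMap A κ) ≫ a) = Spec.map (CommRingCat.ofHom (algebraMap A A') ≫ b) := by
      rw [Spec.map_comp, Spec.map_comp, ← hb, Category.assoc, ← pullback.condition, ← Category.assoc, ha,
        Category.assoc, ← hr, Category.assoc, hh, ← Spec.map_comp, ← Spec.map_comp]
      exact Spec.map_comp _ _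
    exact congrArg CommRingCat.Hom.hom (Spec.map_injective e)
  -- `b` factors through `π`
  have hkerπ : RingHom.ker π.toRingHom = RingHom.ker b.hom := by
    haveI : IsArtinianRing A' := IsArtinianRing.of_finite A A'
    rw [IsLocalRing.eq_maximalIdeal (IsArtinianRing.isPrime_iff_isMaximal _ |>.1 (RingHom.ker_isPrime π.toRingHom)),
      IsLocalRing.eq_maximalIdeal (IsArtinianRing.isPrime_iff_isMaximal _ |>.1 (RingHom.ker_isPrime b.hom))]
  let bk : k' →+* L := π.toRingHom.liftOfSurjective hπ ⟨b.hom, hkerπ.le⟩
  have hbk : ∀ t, bk (π t) = b.hom t := fun t => RingHom.liftOfRightInverse_comp_apply _ _ _ _ _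
  have hk : ∀ c : k, bk (algebraMap k k' c) = a.hom (algebraMap k κ c) := fun c => by
    obtain ⟨c, rfl⟩ := hksurj c
    rw [← IsScalarTower.algebraMap_apply, ← IsScalarTower.algebraMap_apply, ← π.commutes, hbk]
    exact (RingHom.congr_fun hab c).symm
  have hrange : ∀ y : κ, a.hom y ∈ bk.range := fun y => by
    have hyint : IsIntegral k y := Algebra.IsIntegral.isIntegral y
    let y₀ : κ →ₐ[k] k' :=
      (IsScalarTower.toAlgHom k κ K).codRestrict k'.toSubalgebra fun z =>
        AlgHom.fieldRange_le_normalClosure (IsScalarTower.toAlgHom k κ K) ⟨z, rfl⟩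
    have hsplit : ((minpoly k y).map (algebraMap k k')).Splits := by
      have e : minpoly k (y₀ y) = minpoly k y := minpoly.algHom_eq y₀ y₀.toRingHom.injective y
      rw [← e]
      exact Normal.splits inferInstance _
    refine hsplit.mem_range_of_isRoot ((Polynomial.map_ne_zero_iff (algebraMap k k').injective).2
      (minpoly.ne_zero hyint)) ?_
    rw [Polynomial.IsRoot, Polynomial.map_map, Polynomial.eval_map,
      show bk.comp (algebraMap k k') = a.hom.comp (algebraMap k κ) from RingHom.ext hk, ← Polynomial.hom_eval₂,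
      ← Polynomial.aeval_def, minpoly.aeval, map_zero]
  choose σf hσf using hrange
  let σ : κ →ₐ[k] k' :=
    { toFun := σf
      map_one' := bk.injective (by rw [hσf, map_one, map_one])
      map_mul' := fun u v => bk.injective (by simp only [hσf, map_mul])
      map_zero' := bk.injective (by rw [hσf, map_zero, map_zero])
      map_add' := fun u v => bk.injective (by simp only [hσf, map_add])
      commutes' := fun c => bk.injective (by rw [hσf, hk]) }
  obtain ⟨ψ, hψ⟩ := hψ ((σ.restrictScalars A).comp rA) (List.mem_map.2 ⟨σ, Finset.mem_toList.2 (Finset.mem_univ _), rfl⟩)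
  have hs : (Spec.map (CommRingCat.ofHom ψ.toRingHom) ≫ h) ≫ G.hom = 𝟙 _ ≫ a' := by
    rw [Category.assoc, hh, ← Spec.map_comp, Category.id_comp]
    exact congrArg Spec.map (CommRingCat.hom_ext (RingHom.ext fun c => ψ.commutes c))
  refine ⟨pullback.lift (Spec.map (CommRingCat.ofHom ψ.toRingHom) ≫ h) (𝟙 _) hs, pullback.lift_snd _ _ _, ?_⟩
  have hsx : P.fromSpecResidueField x' = Spec.map b ≫ pullback.lift (Spec.map (CommRingCat.ofHom ψ.toRingHom) ≫ h) (𝟙 _) hs := by
    refine pullback.hom_ext ?_ ?_
    · rw [ha, Category.assoc, pullback.lift_fst, ← Category.assoc (Spec.map b), ← Spec.map_comp, ← hr,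
        ← Category.assoc, ← Spec.map_comp]
      refine congrArg (fun q => Spec.map q ≫ h) (CommRingCat.hom_ext (RingHom.ext fun t => ?_))
      show a.hom (r.hom t) = b.hom (ψ t)
      rw [← hbk, ← hσf]
      exact congrArg bk (DFunLike.congr_fun hψ t).symm
    · rw [Category.assoc, pullback.lift_snd, Category.comp_id]
      exact hb
  refine ⟨Spec.map b (IsLocalRing.closedPoint (P.residueField x')), ?_⟩
  rw [← Scheme.Hom.comp_apply, ← hsx, Scheme.fromSpecResidueField_apply]

end Groth.Agent.S5386
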