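import Groth.Statements.S5391
import Groth.Agent.GrpFieldLib.QSection

set_option autoImplicit false
universe u
open CategoryTheory CategoryTheory.Limits MonoidalCategory CartesianMonoidalCategory MonObj GrpObj AlgebraicGeometry
open SGA3

namespace Groth.Agent.S5391

/-- Let f : X → S be a morphism locally of finite presentation, s a point of S and x a point of the
fibre X_s = f⁻¹(s) which is closed in it. Suppose f is universally open at the generic point z of
some irreducible component Z of the fibre X_s containing x, with the local dimension of X_s at x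
equal to dim Z. Then there are an affine scheme S', an etale morphism w : S' → S, a finite
surjective morphism of finite presentation π : S'' → S', and a morphism h : S'' → X with h f = π w,
such that exactly one point s'' of S'' lies over s, h(s'') = x, and h induces an isomorphism κ(x) ≅
κ(s''). -/
theorem result (X S : Scheme.{u}) (f : X ⟶ S) [LocallyOfFinitePresentation f]
    (s : S) (x : X) (hxs : f.base x = s) (hx : IsClosed ((Subtype.val : ↥(f.base ⁻¹' {s}) → X) ⁻¹' {x}))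
    (Z : Set ↥(f.base ⁻¹' {s})) (hZ : Z ∈ irreducibleComponents ↥(f.base ⁻¹' {s})) (hxZ : x ∈ (Subtype.val '' Z))
    (z : X) (hz : z ∈ Subtype.val '' Z ∧ Subtype.val '' Z ⊆ closure {z}) (hopen : EGA43.IsUnivOpenAt f z)
    (hdim : FlatMor.localDim ↥(f.base ⁻¹' {s}) ⟨x, hxs⟩ = topologicalKrullDim ↥Z) :
    ∃ (S' S'' : Scheme.{u}) (_ : IsAffine S') (w : S' ⟶ S) (π : S'' ⟶ S') (h : S'' ⟶ X),
      Etale w ∧ IsFinite π ∧ Surjective π ∧ LocallyOfFinitePresentation π ∧ h ≫ f = π ≫ w ∧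
      ∃ s'' : S'', (π ≫ w).base ⁻¹' {s} = {s''} ∧ h.base s'' = x ∧ IsIso (h.residueFieldMap s'') := by
  obtain ⟨⟨z', hz'Z, rfl⟩, hsub⟩ := hz
  subst hxs
  have hfz : f z'.1 = f x := z'.2
  have hzx : z'.1 ⤳ x := specializes_iff_mem_closure.2 (hsub hxZ)
  have hZcl := isClosed_of_mem_irreducibleComponents Z hZ
  have hset : closure {z'.1} ∩ f ⁻¹' {f z'.1} = Subtype.val '' Z := by
    refine Set.Subset.antisymm (fun y hy => ?_) fun y hy => ⟨hsub hy, ?_⟩
    · refine ⟨⟨y, hy.2.trans hfz⟩, ?_, rfl⟩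
      have hcl : (⟨y, hy.2.trans hfz⟩ : ↥(f.base ⁻¹' {f x})) ∈ closure {z'} := by
        rw [closure_subtype, Set.image_singleton]
        exact hy.1
      exact closure_minimal (Set.singleton_subset_iff.2 hz'Z) hZcl hcl
    · obtain ⟨⟨y, hys⟩, -, rfl⟩ := hy
      exact (show f y = f x from hys).trans hfz.symm
  have hdimZ : topologicalKrullDim ↥Z = ((FibDim.rd f z'.1 : ℕ∞) : WithBot ℕ∞) := by
    rw [← FibDim.dim_closure_inter f z'.1, hset]
    exact (Topology.IsEmbedding.subtypeVal.homeomorphImage Z).isHomeomorph.topologicalKrullDim_eq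
  -- an open neighbourhood of small dimension in the fibre
  obtain ⟨O, hxO, hO⟩ : ∃ O : X.Opens, x ∈ O ∧ ∀ a ∈ O, f a = f x → FibDim.rd f a ≤ FibDim.rd f z'.1 := by
    have hmem : (⨅ U : {U : TopologicalSpace.Opens ↥(f.base ⁻¹' {f x}) // (⟨x, rfl⟩ : ↥(f.base ⁻¹' {f x})) ∈ U},
        topologicalKrullDim ↥(U.1 : Set ↥(f.base ⁻¹' {f x}))) ∈ Set.range (fun U : {U : TopologicalSpace.Opens
          ↥(f.base ⁻¹' {f x}) // (⟨x, rfl⟩ : ↥(f.base ⁻¹' {f x})) ∈ U} =>
            topologicalKrullDim ↥(U.1 : Set ↥(f.base ⁻¹' {f x}))) := by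
      haveI : Nonempty {U : TopologicalSpace.Opens ↥(f.base ⁻¹' {f x}) //
          (⟨x, rfl⟩ : ↥(f.base ⁻¹' {f x})) ∈ U} := ⟨⟨⊤, trivial⟩⟩
      exact csInf_mem (Set.range_nonempty _)
    obtain ⟨⟨U, hU⟩, hUd⟩ := hmem
    obtain ⟨O, hO, hOU⟩ := isOpen_induced_iff.1 U.isOpen
    refine ⟨⟨O, hO⟩, (show (⟨x, rfl⟩ : ↥(f.base ⁻¹' {f x})) ∈ Subtype.val ⁻¹' O by rw [hOU]; exact hU),
      fun a ha hfa => ?_⟩
    refine (FibDim.dim_inter_le_iff f (f x) hO isClosed_univ _).1 ?_ a ha (Set.mem_univ a) hfa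
    rw [Set.inter_univ]
    have e : Subtype.val '' (U : Set ↥(f.base ⁻¹' {f x})) = O ∩ f ⁻¹' {f x} := by
      rw [← hOU, Subtype.image_preimage_val, Set.inter_comm]
    rw [← e, ← (Topology.IsEmbedding.subtypeVal.homeomorphImage (U : Set ↥(f.base ⁻¹' {f x}))).isHomeomorph.topologicalKrullDim_eq]
    refine le_of_eq (hUd.trans ?_)
    exact hdim.trans hdimZ
  have hcl : IsClosed ({f.asFiber x} : Set ↥(f.fiber (f x))) := by
    rw [← (f.fiberHomeo (f x)).isClosed_image, Set.image_singleton]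
    simp only [Scheme.Hom.asFiber, Homeomorph.apply_symm_apply]
    convert hx using 1
    ext a
    exact ⟨fun h => congrArg Subtype.val h, fun h => Subtype.ext h⟩
  obtain ⟨S', S'', hS', w, π, h, hw, hπ, hπs, hπp, hh, s'', h1, h2, h3⟩ :=
    GrpFieldLib.exists_quasiSection f z'.1 x _ hzx hfz rfl hcl hopen O hxO hO
  exact ⟨S', S'', hS', w, π, h, hw, hπ, hπs, hπp, hh, s'', h1, h2,
    (ConcreteCategory.isIso_iff_bijective _).2 h3⟩

end Groth.Agent.S5391
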