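import Groth.Statements.S5392
import Groth.Agent.GrpFieldLib.JetTransporter

set_option autoImplicit false
universe u
open CategoryTheory CategoryTheory.Limits MonoidalCategory CartesianMonoidalCategory MonObj GrpObj AlgebraicGeometry
open SGA3

namespace Groth.Agent.S5392

/-- Let X be an S-group scheme which is smooth and of finite presentation over S with connected fibres,
Y an S-group scheme of finite presentation over S and i : Y → X a homomorphism which is a
monomorphism. Then there is a closed immersion t : T → S, locally of finite presentation, such that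
a morphism g : S' → S factors through t exactly when the base change of i along g is an isomorphism. -/
theorem result (S : Scheme.{u}) (X Y : Over S) [GrpObj X] [GrpObj Y]
    [Smooth X.hom] [QuasiCompact X.hom] [QuasiSeparated X.hom]
    (hconn : ∀ s : S, _root_.IsConnected (X.hom.base ⁻¹' {s}))
    [LocallyOfFinitePresentation Y.hom] [QuasiCompact Y.hom] [QuasiSeparated Y.hom]
    (i : Y ⟶ X) [IsMonHom i] [Mono i] :
    ∃ (T : Scheme.{u}) (t : T ⟶ S), IsClosedImmersion t ∧ LocallyOfFinitePresentation t ∧
      ∀ (S' : Scheme.{u}) (g : S' ⟶ S),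
        (∃ g' : S' ⟶ T, g' ≫ t = g) ↔ IsIso ((Over.pullback g).map i) := by
  obtain ⟨T, t, ht, htf, hT⟩ := GrpFieldLib.Jet.exists_locus_subgroup
    (GrpFieldLib.Jet.neutralSet_eq_univ_of_isConnected X hconn) i
  refine ⟨T, t, ht, htf, fun S' g => (hT S' g).trans ⟨?_, ?_⟩⟩
  · rintro ⟨l, hl⟩
    have hw : ((pullbackSymmetry X.hom g).hom ≫ l) ≫ Y.hom = pullback.snd X.hom g ≫ g := by
      rw [← Over.w i, Category.assoc, reassoc_of% hl, pullbackSymmetry_hom_comp_snd_assoc, pullback.condition]
    let r : (Over.pullback g).obj X ⟶ (Over.pullback g).obj Y :=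
      Over.homMk (pullback.lift ((pullbackSymmetry X.hom g).hom ≫ l) (pullback.snd X.hom g) hw)
        (pullback.lift_snd _ _ _)
    have hr : r ≫ (Over.pullback g).map i = 𝟙 _ := by
      refine Over.OverMorphism.ext (pullback.hom_ext ?_ ?_)
      · show (pullback.lift ((pullbackSymmetry X.hom g).hom ≫ l) (pullback.snd X.hom g) hw ≫
          ((Over.pullback g).map i).left) ≫ pullback.fst X.hom g = 𝟙 (pullback X.hom g) ≫ pullback.fst X.hom g
        rw [Category.assoc, show ((Over.pullback g).map i).left ≫ pullback.fst X.hom g =
          pullback.fst Y.hom g ≫ i.left from pullback.lift_fst _ _ _, pullback.lift_fst_assoc, Category.assoc, hl,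
          Category.id_comp]
        exact pullbackSymmetry_hom_comp_snd _ _
      · show (pullback.lift ((pullbackSymmetry X.hom g).hom ≫ l) (pullback.snd X.hom g) hw ≫
          ((Over.pullback g).map i).left) ≫ pullback.snd X.hom g = 𝟙 (pullback X.hom g) ≫ pullback.snd X.hom g
        rw [Category.assoc, show ((Over.pullback g).map i).left ≫ pullback.snd X.hom g =
          pullback.snd Y.hom g from pullback.lift_snd _ _ _, pullback.lift_snd, Category.id_comp]
    haveI : IsSplitEpi ((Over.pullback g).map i) := IsSplitEpi.mk' ⟨r, hr⟩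
    exact isIso_of_mono_of_isSplitEpi _
  · intro h
    refine ⟨(pullbackSymmetry g X.hom).hom ≫ (inv ((Over.pullback g).map i)).left ≫ pullback.fst Y.hom g, ?_⟩
    rw [Category.assoc, Category.assoc, show pullback.fst Y.hom g ≫ i.left =
      ((Over.pullback g).map i).left ≫ pullback.fst X.hom g from (pullback.lift_fst _ _ _).symm,
      ← Category.assoc _ _ (pullback.fst X.hom g), ← Over.comp_left, IsIso.inv_hom_id]
    exact (congrArg ((pullbackSymmetry g X.hom).hom ≫ ·) (Category.id_comp _)).trans
      (pullbackSymmetry_hom_comp_fst g X.hom)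

end Groth.Agent.S5392
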