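import Groth.Statements.S5397
import Groth.Agent.GrpFieldLib.HomogRel
import Groth.Agent.GrpFieldLib.SCGroup

set_option autoImplicit false
universe u
open CategoryTheory CategoryTheory.Limits MonoidalCategory CartesianMonoidalCategory MonObj GrpObj AlgebraicGeometry
open SGA3

namespace Groth.Agent.S5397

open Groth.Agent.GrpFieldLib

variable {S : Scheme.{u}} {G X : Over S}

lemma one_point_act [GrpObj G] (a : AlgGrp.Action G X) {T : Over S} (x : T ⟶ X) :
    lift (1 : T ⟶ G) x ≫ a.act = x := by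
  have h : lift (1 : T ⟶ G) x = lift (toUnit T) x ≫ (η[G] ▷ X) := by
    rw [lift_whiskerRight, Hom.one_def]
  rw [h, Category.assoc, a.one_act, lift_leftUnitor_hom]

lemma mul_point_act [GrpObj G] (a : AlgGrp.Action G X) {T : Over S} (g g' : T ⟶ G) (x : T ⟶ X) :
    lift (g * g') x ≫ a.act = lift g (lift g' x ≫ a.act) ≫ a.act := by
  have h : lift (g * g') x = lift (lift g g') x ≫ (μ[G] ▷ X) := by
    rw [lift_whiskerRight, Hom.mul_def]
  rw [h, Category.assoc, a.mul_act]
  simp [lift_lift_associator_hom_assoc, lift_whiskerLeft_assoc]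

lemma inv_point_act [GrpObj G] (a : AlgGrp.Action G X) {T : Over S} (g : T ⟶ G) (x : T ⟶ X) :
    lift g⁻¹ (lift g x ≫ a.act) ≫ a.act = x := by
  rw [← mul_point_act, inv_mul_cancel, one_point_act]

/-- A point with values in a field lying on the diagonal has equal coordinates. -/
lemma eq_of_mem_range_diag {K : Type u} [Field K] {t : Spec (CommRingCat.of K) ⟶ S}
    (P : Over.mk t ⟶ X ⊗ X) (w : ↥(Spec (CommRingCat.of K)))
    (h : P.left w ∈ Set.range (lift (𝟙 X) (𝟙 X)).left) :
    P ≫ fst X X = P ≫ snd X X := by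
  obtain ⟨b, hb⟩ := h
  set Δ : X.left ⟶ (X ⊗ X).left := (lift (𝟙 X) (𝟙 X)).left with hΔ
  have : IsPreimmersion Δ := by
    have : IsPreimmersion (pullback.diagonal X.hom) := inferInstance
    exact this
  have hP : ∃ r : Spec (CommRingCat.of K) ⟶ X.left, r ≫ Δ = P.left := by
    obtain ⟨⟨p, φ⟩, hp⟩ := (Scheme.SpecToEquivOfField K (X ⊗ X).left).symm.surjective P.left
    simp only [Scheme.SpecToEquivOfField, Equiv.coe_fn_symm_mk] at hp
    have hpb : p = Δ b := by
      rw [hb, ← hp]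
      simp [Scheme.fromSpecResidueField_apply]
    subst hpb
    have : IsIso (Δ.residueFieldMap b) := by
      rw [ConcreteCategory.isIso_iff_bijective]
      refine ⟨RingHom.injective (Δ.residueFieldMap b).hom, ?_⟩
      have h : Function.Surjective (Δ.stalkMap b ≫ X.left.residue b).hom := by
        rw [CommRingCat.hom_comp, RingHom.coe_comp]
        exact (X.left.residue_surjective b).comp (Δ.stalkMap_surjective b)
      rw [← Scheme.residue_residueFieldMap, CommRingCat.hom_comp, RingHom.coe_comp] at h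
      exact Function.Surjective.of_comp h
    refine ⟨Spec.map φ ≫ inv (Spec.map (Δ.residueFieldMap b)) ≫ X.left.fromSpecResidueField b, ?_⟩
    rw [← hp]
    simp only [Category.assoc]
    rw [← Scheme.Hom.SpecMap_residueFieldMap_fromSpecResidueField, IsIso.inv_hom_id_assoc]
  obtain ⟨r, hr⟩ := hP
  refine Over.OverMorphism.ext ?_
  rw [Over.comp_left, Over.comp_left, ← hr, Category.assoc, Category.assoc, hΔ, ← Over.comp_left,
    ← Over.comp_left, lift_fst, lift_snd]


theorem separated (S : Scheme.{u}) (G X : Over S) [GrpObj G] [LocallyOfFinitePresentation G.hom]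
    (hGo : ∃ W : G.left.Opens, (∀ p : ↥(𝟙_ (Over S)).left, η[G].left.base p ∈ W) ∧ UniversallyOpen (W.ι ≫ G.hom))
    (a : AlgGrp.Action G X) (hΦ : Surjective (lift a.act (snd G X)).left)
    (hqs : ∀ s : S, QuasiSeparatedSpace ↥(X.hom.base ⁻¹' {s}))
    (hconn : ∀ s : S, _root_.IsPreconnected (X.hom.base ⁻¹' {s})) : IsSeparated X.hom := by
  rw [isSeparated_iff]
  haveI : IsPreimmersion (pullback.diagonal X.hom) := inferInstance
  refine IsClosedImmersion.of_isPreimmersion _ ?_
  change IsClosed (Set.range (lift (𝟙 X) (𝟙 X)).left)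
  rw [← closure_subset_iff_isClosed]
  intro z hz
  let K : Type u := AlgebraicClosure ((X ⊗ X).left.residueField z)
  let t₀ : Spec (CommRingCat.of K) ⟶ (X ⊗ X).left :=
    Spec.map (CommRingCat.ofHom (algebraMap ((X ⊗ X).left.residueField z) K)) ≫
      (X ⊗ X).left.fromSpecResidueField z
  let w₀ : ↥(Spec (CommRingCat.of K)) := IsLocalRing.closedPoint K
  let t : Spec (CommRingCat.of K) ⟶ S := t₀ ≫ (X ⊗ X).hom
  let T : Over S := Over.mk t
  let P : T ⟶ X ⊗ X := Over.homMk t₀ rfl
  have hP : P.left w₀ = z := by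
    change t₀ w₀ = z
    simp only [t₀, Scheme.Hom.comp_apply]
    exact Scheme.fromSpecResidueField_apply _ _
  suffices hxy : P ≫ fst X X = P ≫ snd X X by
    refine ⟨(P ≫ fst X X).left w₀, ?_⟩
    have : P = (P ≫ fst X X) ≫ lift (𝟙 X) (𝟙 X) := by
      refine CartesianMonoidalCategory.hom_ext _ _ ?_ ?_
      · simp
      · simpa using hxy.symm
    rw [← hP]
    exact congrArg (fun Q : T ⟶ X ⊗ X => Q.left w₀) this.symm
  obtain ⟨W, hW, hWo⟩ := hGo
  obtain ⟨⟨s, φ⟩, hφ⟩ := (Scheme.SpecToEquivOfField K S).symm.surjective t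
  simp only [Scheme.SpecToEquivOfField, Equiv.coe_fn_symm_mk] at hφ
  have hz1 : X.hom ((P ≫ fst X X).left w₀) = s := by
    have h1 : X.hom ((P ≫ fst X X).left w₀) = t w₀ :=
      congrArg (fun m : Spec (CommRingCat.of K) ⟶ S => m w₀) (Over.w (P ≫ fst X X))
    rw [h1, ← hφ, Scheme.Hom.comp_apply]
    exact Scheme.fromSpecResidueField_apply _ _
  obtain ⟨U, hUaff, hUx, -⟩ := exists_isAffineOpen_mem_and_subset
    (show (P ≫ fst X X).left w₀ ∈ (⊤ : X.left.Opens) from trivial)
  haveI : IsAffine (U : Scheme.{u}) := hUaff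
  have hUsep : IsSeparated (U.ι ≫ X.hom) := IsSeparated.of_comp _ (terminal.from S)
  let O : (T ⟶ X) → Set ↥(G ⊗ T).left := fun x =>
    (lift (fst G T) (snd G T ≫ x) ≫ a.act).left ⁻¹' (U : Set X.left)
  have hOo : ∀ x, IsOpen (O x) := fun x =>
    U.isOpen.preimage (lift (fst G T) (snd G T ≫ x) ≫ a.act).left.continuous
  let pG : (G ⊗ T).left ⟶ Spec (CommRingCat.of K) := (snd G T).left
  haveI : LocallyOfFiniteType pG := by
    change LocallyOfFiniteType (pullback.snd G.hom t)
    infer_instance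
  haveI : JacobsonSpace ↥(G ⊗ T).left := LocallyOfFiniteType.jacobsonSpace pG
  let WT : Set ↥(G ⊗ T).left := (fst G T).left ⁻¹' (W : Set G.left)
  have hWTo : IsOpen WT := W.isOpen.preimage (fst G T).left.continuous
  have hWTne : WT.Nonempty := by
    refine ⟨(lift (toUnit T ≫ η[G]) (𝟙 T)).left w₀, ?_⟩
    change (fst G T).left ((lift (toUnit T ≫ η[G]) (𝟙 T)).left w₀) ∈ W
    rw [← Scheme.Hom.comp_apply, ← Over.comp_left, lift_fst, Over.comp_left, Scheme.Hom.comp_apply]
    exact hW _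
  let NT : Set ↥(G ⊗ T).left := (fst G T).left ⁻¹' SGA3x.neutralSet G
  have hts : t w₀ = s := by
    rw [← hφ, Scheme.Hom.comp_apply]
    exact Scheme.fromSpecResidueField_apply _ _
  have hNT : IsIrreducible NT := HomogRel.isIrreducible_neutral_field t
  have hON : ∀ x : T ⟶ X, (NT ∩ O x).Nonempty := by
    intro x
    obtain ⟨p, hp1, hp2⟩ := HomogRel.exists_translate_mem a hΦ (hqs s) (hconn s) U.isOpen
      ⟨_, hUx, hz1⟩ hts x
    let ν : G ⊗ T ⟶ G ⊗ T := lift (fst G T)⁻¹ (snd G T)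
    have hν : ν ≫ lift (fst G T) (snd G T ≫ x) ≫ a.act = lift (fst G T)⁻¹ (snd G T ≫ x) ≫ a.act := by
      simp [ν, comp_lift_assoc]
    refine ⟨ν.left p, ?_, ?_⟩
    · show (fst G T).left (ν.left p) ∈ SGA3x.neutralSet G
      rw [← Scheme.Hom.comp_apply, ← Over.comp_left, lift_fst, ← Category.comp_id (fst G T),
        ← GrpObj.comp_inv, ← GrpObj.inv_eq_inv, Over.comp_left, Scheme.Hom.comp_apply]
      exact SecComp.inv_mem_neutralSet G hp1
    · show (lift (fst G T) (snd G T ≫ x) ≫ a.act).left (ν.left p) ∈ U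
      rw [← Scheme.Hom.comp_apply, ← Over.comp_left, hν]
      exact hp2
  have hWN : (NT ∩ WT).Nonempty := by
    refine ⟨(lift (toUnit T ≫ η[G]) (𝟙 T)).left w₀, ?_, ?_⟩
    · change (fst G T).left ((lift (toUnit T ≫ η[G]) (𝟙 T)).left w₀) ∈ SGA3x.neutralSet G
      rw [← Scheme.Hom.comp_apply, ← Over.comp_left, lift_fst, Over.comp_left, Scheme.Hom.comp_apply]
      exact GrpSchLib.Neutral.unit_mem_neutralSet G _
    · change (fst G T).left ((lift (toUnit T ≫ η[G]) (𝟙 T)).left w₀) ∈ W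
      rw [← Scheme.Hom.comp_apply, ← Over.comp_left, lift_fst, Over.comp_left, Scheme.Hom.comp_apply]
      exact hW _
  obtain ⟨o, hoN, hoW, ho1⟩ := hNT.2 _ _ hWTo (hOo (P ≫ fst X X)) hWN (hON _)
  obtain ⟨o', -, ⟨ho'W, ho'1⟩, ho'2⟩ := hNT.2 _ _ (hWTo.inter (hOo (P ≫ fst X X))) (hOo (P ≫ snd X X))
    ⟨o, hoN, hoW, ho1⟩ (hON _)
  have hne : (WT ∩ (O (P ≫ fst X X) ∩ O (P ≫ snd X X))).Nonempty := ⟨o', ho'W, ho'1, ho'2⟩
  obtain ⟨q, ⟨hqW, hq1, hq2⟩, hq⟩ := nonempty_inter_closedPoints hne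
    (hWTo.inter ((hOo _).inter (hOo _))).isLocallyClosed
  let σ : T ⟶ G ⊗ T := Over.homMk (pointOfClosedPoint pG q hq) (by
    rw [← Over.w (snd G T)]
    exact (Category.assoc _ _ _).symm.trans
      ((congrArg (· ≫ t) (pointOfClosedPoint_comp pG q hq)).trans (Category.id_comp _)))
  have hσ2 : σ ≫ snd G T = 𝟙 T := Over.OverMorphism.ext (pointOfClosedPoint_comp pG q hq)
  have hσ : σ.left w₀ = q := pointOfClosedPoint_apply pG q hq w₀
  let GW : Over S := Over.mk (W.ι ≫ G.hom)
  let j : GW ⟶ G := Over.homMk W.ι rfl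
  have hrange : Set.range (σ ≫ fst G T).left ⊆ Set.range W.ι := by
    rintro _ ⟨w, rfl⟩
    rw [Scheme.Opens.range_ι]
    obtain rfl : w = w₀ := @Subsingleton.elim ↥(Spec (CommRingCat.of K)) inferInstance _ _
    rw [Over.comp_left, Scheme.Hom.comp_apply, hσ]
    exact hqW
  let gW : T ⟶ GW := Over.homMk (IsOpenImmersion.lift W.ι (σ ≫ fst G T).left hrange) (by
    change _ ≫ W.ι ≫ G.hom = T.hom
    rw [IsOpenImmersion.lift_fac_assoc]
    exact Over.w _)
  have hgW : gW ≫ j = σ ≫ fst G T :=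
    Over.OverMorphism.ext (IsOpenImmersion.lift_fac _ _ _)
  let p : GW ⊗ (X ⊗ X) ⟶ X ⊗ X := snd _ _
  let qm : GW ⊗ (X ⊗ X) ⟶ X ⊗ X :=
    lift (lift (fst _ _ ≫ j) (snd _ _ ≫ fst X X) ≫ a.act)
      (lift (fst _ _ ≫ j) (snd _ _ ≫ snd X X) ≫ a.act)
  let Q₀ : T ⟶ GW ⊗ (X ⊗ X) := lift gW P
  let RΔ : Set ↥(X ⊗ X).left := Set.range (lift (𝟙 X) (𝟙 X)).left
  haveI : UniversallyOpen p.left := by
    change UniversallyOpen (pullback.snd (W.ι ≫ G.hom) (X ⊗ X).hom)
    infer_instance
  have hsub : p.left ⁻¹' RΔ ⊆ qm.left ⁻¹' RΔ := by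
    intro y hy
    let ty := (GW ⊗ (X ⊗ X)).left.fromSpecResidueField y
    let Ty : Over S := Over.mk (ty ≫ (GW ⊗ (X ⊗ X)).hom)
    let Y : Ty ⟶ GW ⊗ (X ⊗ X) := Over.homMk ty rfl
    let wy : ↥Ty.left := IsLocalRing.closedPoint ((GW ⊗ (X ⊗ X)).left.residueField y)
    have hY : Y.left wy = y := Scheme.fromSpecResidueField_apply _ _
    have hm : (Y ≫ p).left wy ∈ RΔ := by
      rw [Over.comp_left, Scheme.Hom.comp_apply, hY]
      exact hy
    have he := eq_of_mem_range_diag (Y ≫ p) wy hm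
    refine ⟨(Y ≫ qm ≫ fst X X).left wy, ?_⟩
    have he' : Y ≫ qm = (Y ≫ qm ≫ fst X X) ≫ lift (𝟙 X) (𝟙 X) := by
      refine CartesianMonoidalCategory.hom_ext _ _ ?_ ?_
      · simp
      · simp only [Category.assoc, lift_snd, Category.comp_id, qm, lift_fst, comp_lift_assoc]
        simp only [p, Category.assoc] at he
        exact congrArg (fun r => lift (Y ≫ fst GW (X ⊗ X) ≫ j) r ≫ a.act) he.symm
    rw [← hY]
    exact (congrArg (fun Q : Ty ⟶ X ⊗ X => Q.left wy) he'.symm)
  have h1 : qm.left (Q₀.left w₀) ∈ closure RΔ := by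
    have : Q₀.left w₀ ∈ closure (p.left ⁻¹' RΔ) := by
      rw [← p.left.isOpenMap.preimage_closure_eq_closure_preimage p.left.continuous]
      change p.left (Q₀.left w₀) ∈ closure RΔ
      rw [← Scheme.Hom.comp_apply, ← Over.comp_left, lift_snd, hP]
      exact hz
    exact map_mem_closure qm.left.continuous this fun y hy => hsub hy
  have hx : ∀ x : T ⟶ X, σ.left w₀ ∈ O x → (lift (σ ≫ fst G T) x ≫ a.act).left w₀ ∈ U := by
    intro x hx
    have : lift (σ ≫ fst G T) x ≫ a.act = σ ≫ lift (fst G T) (snd G T ≫ x) ≫ a.act := by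
      rw [comp_lift_assoc, reassoc_of% hσ2]
    rw [this, Over.comp_left, Scheme.Hom.comp_apply]
    exact hx
  have hq1' := hx _ (hσ.symm ▸ hq1)
  have hq2' := hx _ (hσ.symm ▸ hq2)
  have hQq : Q₀ ≫ qm = lift (lift (σ ≫ fst G T) (P ≫ fst X X) ≫ a.act)
      (lift (σ ≫ fst G T) (P ≫ snd X X) ≫ a.act) := by
    simp [Q₀, qm, comp_lift_assoc, hgW]
  -- `U` is separated
  let UU : Over S := Over.mk (U.ι ≫ X.hom)
  let jU : UU ⟶ X := Over.homMk U.ι rfl
  let m : (UU ⊗ UU).left ⟶ (X ⊗ X).left :=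
    pullback.map (U.ι ≫ X.hom) (U.ι ≫ X.hom) X.hom X.hom U.ι U.ι (𝟙 S) (by simp) (by simp)
  haveI : IsOpenImmersion m := by dsimp [m]; infer_instance
  have hm1 : m ≫ (fst X X).left = (fst UU UU).left ≫ U.ι := pullback.lift_fst _ _ _
  have hm2 : m ≫ (snd X X).left = (snd UU UU).left ≫ U.ι := pullback.lift_snd _ _ _
  have hmr : Set.range m =
      (fst X X).left ⁻¹' (U : Set X.left) ∩ (snd X X).left ⁻¹' (U : Set X.left) := by
    simp only [m]
    rw [Scheme.Pullback.range_map, Scheme.Opens.range_ι]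
    rfl
  have hmem : qm.left (Q₀.left w₀) ∈ Set.range m := by
    rw [hmr, ← Scheme.Hom.comp_apply, ← Over.comp_left, hQq]
    refine ⟨?_, ?_⟩
    · change (fst X X).left _ ∈ U
      rw [← Scheme.Hom.comp_apply, ← Over.comp_left, lift_fst]
      exact hq1'
    · change (snd X X).left _ ∈ U
      rw [← Scheme.Hom.comp_apply, ← Over.comp_left, lift_snd]
      exact hq2'
  obtain ⟨u, hu⟩ := hmem
  rw [← hu] at h1
  have hucl : u ∈ closure (m ⁻¹' RΔ) := by
    rw [← m.isOpenMap.preimage_closure_eq_closure_preimage m.continuous]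
    exact h1
  have hΔU : m ⁻¹' RΔ ⊆ Set.range (pullback.diagonal (U.ι ≫ X.hom)) := by
    rintro y ⟨b, hb⟩
    have hbU : b ∈ U := by
      have h : (lift (𝟙 X) (𝟙 X)).left b ∈ Set.range m := ⟨y, hb.symm⟩
      rw [hmr] at h
      have h' := h.1
      rw [Set.mem_preimage, ← Scheme.Hom.comp_apply, ← Over.comp_left, lift_fst] at h'
      exact h'
    refine ⟨⟨b, hbU⟩, m.isOpenEmbedding.injective ?_⟩
    rw [← hb, ← Scheme.Hom.comp_apply]
    have hd : pullback.diagonal (U.ι ≫ X.hom) ≫ m = U.ι ≫ (lift (𝟙 X) (𝟙 X)).left := by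
      refine pullback.hom_ext ?_ ?_
      · change _ ≫ (fst X X).left = _ ≫ (fst X X).left
        rw [Category.assoc, hm1, Category.assoc, ← Over.comp_left, lift_fst]
        exact (pullback.diagonal_fst_assoc _ _).trans (Category.comp_id _).symm
      · change _ ≫ (snd X X).left = _ ≫ (snd X X).left
        rw [Category.assoc, hm2, Category.assoc, ← Over.comp_left, lift_snd]
        exact (pullback.diagonal_snd_assoc _ _).trans (Category.comp_id _).symm
    rw [hd]
    rfl
  have hcl : IsClosed (Set.range (pullback.diagonal (U.ι ≫ X.hom))) := by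
    haveI := hUsep
    exact (pullback.diagonal (U.ι ≫ X.hom)).isClosedEmbedding.isClosed_range
  obtain ⟨b, hb⟩ := hcl.closure_subset_iff.mpr hΔU hucl
  have hfin : (Q₀ ≫ qm).left w₀ ∈ RΔ := by
    rw [Over.comp_left, Scheme.Hom.comp_apply, ← hu, ← hb]
    refine ⟨U.ι b, ?_⟩
    rw [← Scheme.Hom.comp_apply, ← Scheme.Hom.comp_apply]
    refine congrArg (fun f : (U : Scheme) ⟶ (X ⊗ X).left => f b) ?_
    refine (pullback.hom_ext ?_ ?_)
    · change _ ≫ (fst X X).left = _ ≫ (fst X X).left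
      rw [Category.assoc, ← Over.comp_left, lift_fst, Category.assoc, hm1]
      exact (Category.comp_id _).trans (pullback.diagonal_fst_assoc _ _).symm
    · change _ ≫ (snd X X).left = _ ≫ (snd X X).left
      rw [Category.assoc, ← Over.comp_left, lift_snd, Category.assoc, hm2]
      exact (Category.comp_id _).trans (pullback.diagonal_snd_assoc _ _).symm
  have heq := eq_of_mem_range_diag (Q₀ ≫ qm) w₀ hfin
  rw [hQq] at heq
  simp only [lift_fst, lift_snd] at heq
  have := congrArg (fun x => lift (σ ≫ fst G T)⁻¹ x ≫ a.act) heq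
  simpa [inv_point_act] using this



/-- Let G be an S-group scheme locally of finite presentation over S and universally open over S on some
open containing the unit section, acting on an S-scheme X so that G ×_S X → X ×_S X, (g, x) ↦ (gx,
x), is surjective, and suppose every fibre X_s is a quasi-separated and connected space. Then X is
separated over S; and if there is an open subscheme V of X, quasi-compact over S, meeting every
nonempty fibre X_s, then X is quasi-compact over S. (The published statement concludes that X is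
quasi-compact over S without the open V; for a local scheme S whose punctured spectrum is not
quasi-compact, the trivial group acting on the disjoint union of the closed point and the punctured
spectrum satisfies every hypothesis and is not quasi-compact over S, so the open V is required
here.) -/
theorem result (S : Scheme.{u}) (G X : Over S) [GrpObj G]
    [LocallyOfFinitePresentation G.hom]
    (hGo : ∃ W : G.left.Opens, (∀ p : ↥(𝟙_ (Over S)).left, η[G].left.base p ∈ W) ∧ UniversallyOpen (W.ι ≫ G.hom))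
    (a : AlgGrp.Action G X) (hΦ : Surjective (lift a.act (snd G X)).left)
    (hqs : ∀ s : S, QuasiSeparatedSpace ↥(X.hom.base ⁻¹' {s}))
    (hconn : ∀ s : S, _root_.IsPreconnected (X.hom.base ⁻¹' {s})) :
    IsSeparated X.hom ∧
    ((∃ V : X.left.Opens, QuasiCompact (V.ι ≫ X.hom) ∧
        ∀ s : S, (X.hom.base ⁻¹' {s}).Nonempty → ((V : Set X.left) ∩ X.hom.base ⁻¹' {s}).Nonempty) →
      QuasiCompact X.hom) := by
  refine ⟨separated S G X hGo a hΦ hqs hconn, ?_⟩
  rintro ⟨V, hV, hVne⟩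
  exact HomogRel.quasiCompact_of_fibres a hΦ hqs hconn V hVne

end Groth.Agent.S5397
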