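import Groth.Statements.S5399
import Groth.Agent.GeomField.Irreducible
import Groth.Agent.AlgSpDec.IntegralDim

set_option autoImplicit false
universe u
open CategoryTheory CategoryTheory.Limits MonoidalCategory CartesianMonoidalCategory MonObj GrpObj AlgebraicGeometry
open SGA3

namespace Groth.Agent.S5399

set_option backward.isDefEq.respectTransparency false
set_option backward.isDefEq.respectTransparency.types false

attribute [local instance] Curv2.resAlgebra

theorem eq_of_specializes {X Y : Scheme.{u}} (h : X ⟶ Y) [IsIntegralHom h] {a b : X} (hs : b ⤳ a)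
    (he : h a = h b) : a = b := by
  obtain ⟨V, hV, haV, -⟩ := exists_isAffineOpen_mem_and_subset (X := Y) (x := h a) (U := ⊤) trivial
  have hbV : h b ∈ V := he ▸ haV
  haveI : IsAffine (V : Scheme.{u}) := hV
  haveI : IsAffine (h ⁻¹ᵁ V : Scheme.{u}) := hV.preimage h
  haveI : IsIntegralHom (h ∣_ V) := inferInstance
  have := Groth.Agent.AlgSpDec.eq_of_specializes_of_isIntegralHom_affine (h ∣_ V)
    (a := ⟨a, haV⟩) (b := ⟨b, hbV⟩) ((subtype_specializes_iff _ _).2 hs)
    (by apply Subtype.ext; simpa [morphismRestrict_base] using he)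
  exact congrArg Subtype.val this

theorem quasiSober_fibre {X Y : Scheme.{u}} (h : X ⟶ Y) (y : Y) : QuasiSober ↥(h.base ⁻¹' {y}) :=
  Topology.IsClosedEmbedding.quasiSober (h.fiberHomeo y).symm.isClosedEmbedding

theorem exists_maximal_of_irreducible_fibre {X Y : Scheme.{u}} (q : X ⟶ Y) (y : Y)
    (h : IsIrreducible (q.base ⁻¹' {y})) :
    ∃ ξ : X, q ξ = y ∧ ∀ w : X, q w = y → ξ ⤳ w := by
  haveI := quasiSober_fibre q y
  haveI : IrreducibleSpace ↥(q.base ⁻¹' {y}) := Subtype.irreducibleSpace h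
  exact ⟨(genericPoint ↥(q.base ⁻¹' {y})).1, (genericPoint ↥(q.base ⁻¹' {y})).2, fun w hw =>
    (subtype_specializes_iff _ _).1 (genericPoint_specializes (⟨w, hw⟩ : ↥(q.base ⁻¹' {y})))⟩

/-- topological heart: `q` has irreducible fibres, `r` has incomparable fibres -/
theorem main {P L G : Scheme.{u}} (q : P ⟶ L) (r : L ⟶ G) (W : P.Opens)
    (hirr : ∀ y : L, IsIrreducible (q.base ⁻¹' {y}))
    (hinc : ∀ a b : L, b ⤳ a → r a = r b → a = b) (g : G) :
    (∀ z : ↥((q ≫ r).base ⁻¹' {g}), closure {z} ∈ irreducibleComponents ↥((q ≫ r).base ⁻¹' {g}) → z.1 ∈ W)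
      ↔ g ∉ r.base '' (q.base '' (W : Set P))ᶜ := by
  haveI := quasiSober_fibre (q ≫ r) g
  have hrq : ∀ x : P, (q ≫ r) x = r (q x) := fun x => Scheme.Hom.comp_apply q r x
  constructor
  · rintro hU ⟨y, hy, rfl⟩
    obtain ⟨ξ, hξ, hξgen⟩ := exists_maximal_of_irreducible_fibre q y (hirr y)
    let z : ↥((q ≫ r).base ⁻¹' {r y}) := ⟨ξ, show (q ≫ r) ξ = r y by rw [hrq, hξ]⟩
    refine hy ⟨ξ, hU z ?_, hξ⟩
    refine ⟨isIrreducible_singleton.closure, fun Z hZ hle => ?_⟩
    obtain ⟨w, hw⟩ := QuasiSober.sober hZ.closure isClosed_closure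
    have hwz : w ⤳ z := hw.specializes (subset_closure (hle (subset_closure rfl)))
    have h1 : q w.1 = y := by
      have hs := ((subtype_specializes_iff _ _).1 hwz).map q.continuous
      rw [hξ] at hs
      refine (hinc _ _ hs ?_).symm
      exact (show (q ≫ r) w.1 = r y from w.2).symm.trans (hrq _)
    have hzw : z ⤳ w := (subtype_specializes_iff _ _).2 (hξgen _ h1)
    intro v hv
    exact (hzw.trans (hw.specializes (subset_closure hv))).mem_closure
  · rintro hg ⟨z, hzg⟩ hz
    have hz' : r (q z) = g := (hrq z).symm.trans hzg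
    obtain ⟨w, hwW, hwq⟩ : q z ∈ q.base '' (W : Set P) := by
      by_contra hc
      exact hg ⟨q z, hc, hz'⟩
    obtain ⟨ξ, hξ, hξgen⟩ := exists_maximal_of_irreducible_fibre q (q z) (hirr _)
    have hξW : ξ ∈ W := (hξgen w hwq).mem_open W.2 hwW
    let e : ↥((q ≫ r).base ⁻¹' {g}) := ⟨ξ, show (q ≫ r) ξ = g by rw [hrq, hξ, hz']⟩
    have h2 : closure {(⟨z, hzg⟩ : ↥((q ≫ r).base ⁻¹' {g}))} ⊆ closure {e} :=
      closure_minimal (Set.singleton_subset_iff.2
        ((subtype_specializes_iff _ _).2 (hξgen z rfl)).mem_closure) isClosed_closure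
    have h3 : e ∈ closure {(⟨z, hzg⟩ : ↥((q ≫ r).base ⁻¹' {g}))} :=
      hz.2 isIrreducible_singleton.closure h2 (subset_closure rfl)
    have h4 : z ⤳ ξ := (subtype_specializes_iff _ _).1 (specializes_iff_mem_closure.2 h3)
    exact h4.mem_open W.2 hξW

theorem dense_compl {L G : Scheme.{u}} (r : L ⟶ G) (hinc : ∀ a b : L, b ⤳ a → r a = r b → a = b)
    [IsNoetherian L] (hgen : GeneralizingMap r.base) (V : Set L) (hV : IsOpen V) (hVd : Dense V) :
    Dense (r.base '' Vᶜ)ᶜ := by
  rw [dense_iff_inter_open]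
  rintro O hO ⟨x, hx⟩
  obtain ⟨Z, hZ, hxZ⟩ := exists_mem_irreducibleComponents_subset_of_isIrreducible {x} isIrreducible_singleton
  obtain ⟨ξ, hξ⟩ := QuasiSober.sober hZ.1 (isClosed_of_mem_irreducibleComponents Z hZ)
  refine ⟨ξ, (hξ.specializes (hxZ rfl)).mem_open hO hx, ?_⟩
  rintro ⟨y, hy, hyξ⟩
  apply hy
  obtain ⟨Y', hY', hyY'⟩ := exists_mem_irreducibleComponents_subset_of_isIrreducible {y} isIrreducible_singleton
  obtain ⟨w, hw⟩ := QuasiSober.sober hY'.1 (isClosed_of_mem_irreducibleComponents Y' hY')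
  have hwy : w ⤳ y := hw.specializes (hyY' rfl)
  have hwr : r y = r w := by
    have hs : r w ⤳ ξ := hyξ ▸ hwy.map r.continuous
    have hsub : Z ⊆ closure {r w} := hξ.def.symm.subset.trans
      (closure_minimal (Set.singleton_subset_iff.2 hs.mem_closure) isClosed_closure)
    have hle : closure {r w} ⊆ Z := hZ.2 isIrreducible_singleton.closure hsub
    have hs' : ξ ⤳ r w := hξ.specializes (hle (subset_closure rfl))
    exact (hyξ.trans (hs.antisymm hs').eq.symm)
  obtain rfl := hinc _ _ hwy hwr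
  -- `y` is a maximal point of a Noetherian scheme, hence lies in every dense open
  let T : Set L := ⋃₀ (irreducibleComponents L \ {Y'})
  have hT : IsClosed T := by
    rw [show T = ⋃ C ∈ irreducibleComponents L \ {Y'}, C from Set.sUnion_eq_biUnion]
    exact Set.Finite.isClosed_biUnion
      (TopologicalSpace.NoetherianSpace.finite_irreducibleComponents.subset Set.diff_subset)
      fun C hC => isClosed_of_mem_irreducibleComponents C hC.1
  have hyT : y ∉ T := by
    rintro ⟨C, ⟨hC, hne⟩, hyC⟩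
    have hsub : Y' ⊆ C := hw.def.symm.subset.trans
      (closure_minimal (Set.singleton_subset_iff.2 hyC) (isClosed_of_mem_irreducibleComponents C hC))
    exact hne (Set.Subset.antisymm (hY'.2 hC.1 hsub) hsub)
  obtain ⟨v, hvT, hvV⟩ := hVd.inter_open_nonempty Tᶜ hT.isOpen_compl ⟨y, hyT⟩
  obtain ⟨C, hC, hvC⟩ := exists_mem_irreducibleComponents_subset_of_isIrreducible {v} isIrreducible_singleton
  have hCY : C = Y' := by
    by_contra hne
    exact hvT ⟨C, ⟨hC, hne⟩, hvC rfl⟩
  exact (hw.specializes (hCY ▸ hvC rfl)).mem_open hV hvV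


theorem maximal_of_comp {P G : Scheme.{u}} (π : P ⟶ G) {g : G} {z : ↥(π.base ⁻¹' {g})}
    (hz : closure {z} ∈ irreducibleComponents ↥(π.base ⁻¹' {g})) {w : ↥(π.base ⁻¹' {g})} (h : w ⤳ z) : z ⤳ w :=
  specializes_iff_mem_closure.2 (hz.2 isIrreducible_singleton.closure
    (closure_minimal (Set.singleton_subset_iff.2 h.mem_closure) isClosed_closure) (subset_closure rfl))

theorem comp_of_maximal {P G : Scheme.{u}} (π : P ⟶ G) {g : G} {z : ↥(π.base ⁻¹' {g})}
    (hz : ∀ w, w ⤳ z → z ⤳ w) : closure {z} ∈ irreducibleComponents ↥(π.base ⁻¹' {g}) := by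
  haveI := quasiSober_fibre π g
  refine ⟨isIrreducible_singleton.closure, fun Z hZ hle => ?_⟩
  obtain ⟨w, hw⟩ := QuasiSober.sober hZ.closure isClosed_closure
  intro v hv
  exact ((hz w (hw.specializes (subset_closure (hle (subset_closure rfl))))).trans
    (hw.specializes (subset_closure hv))).mem_closure

theorem exists_maximal {P G : Scheme.{u}} (π : P ⟶ G) {g : G} (z : ↥(π.base ⁻¹' {g})) :
    ∃ c : ↥(π.base ⁻¹' {g}), closure {c} ∈ irreducibleComponents ↥(π.base ⁻¹' {g}) ∧ c ⤳ z := by
  haveI := quasiSober_fibre π g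
  obtain ⟨Z, hZ, hzZ⟩ := exists_mem_irreducibleComponents_subset_of_isIrreducible {z} isIrreducible_singleton
  obtain ⟨c, hc⟩ := QuasiSober.sober hZ.1 (isClosed_of_mem_irreducibleComponents Z hZ)
  exact ⟨c, hc.def.symm ▸ hZ, hc.specializes (hzZ rfl)⟩

/-- the condition is unchanged along a surjective generalizing morphism -/
theorem transfer {Q P G : Scheme.{u}} (p : Q ⟶ P) [Surjective p] (hp : GeneralizingMap p.base)
    (π : P ⟶ G) (ρ : Q ⟶ G) (hρ : p ≫ π = ρ) (W : P.Opens) (g : G) :
    (∀ z : ↥(π.base ⁻¹' {g}), closure {z} ∈ irreducibleComponents ↥(π.base ⁻¹' {g}) → z.1 ∈ W) ↔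
      ∀ z : ↥(ρ.base ⁻¹' {g}), closure {z} ∈ irreducibleComponents ↥(ρ.base ⁻¹' {g}) → z.1 ∈ p ⁻¹ᵁ W := by
  subst hρ
  have hρ : ∀ x : Q, (p ≫ π) x = π (p x) := fun x => Scheme.Hom.comp_apply p π x
  constructor
  · intro h z hz
    let b : ↥(π.base ⁻¹' {g}) := ⟨p z.1, show π (p z.1) = g from (hρ _).symm.trans z.2⟩
    obtain ⟨c, hc, hcb⟩ := exists_maximal π b
    obtain ⟨c', hc', hc'p⟩ := hp ((subtype_specializes_iff _ _).1 hcb)
    let d : ↥((p ≫ π).base ⁻¹' {g}) := ⟨c', show (p ≫ π) c' = g from (hρ _).trans ((congrArg π hc'p).trans c.2)⟩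
    have hd : z ⤳ d := maximal_of_comp _ hz ((subtype_specializes_iff _ _).2 hc')
    have hbc : p z.1 ⤳ p c' := ((subtype_specializes_iff _ _).1 hd).map p.continuous
    rw [show p c' = c.1 from hc'p] at hbc
    exact hbc.mem_open W.2 (h c hc)
  · intro h z hz
    obtain ⟨y, hy⟩ := p.surjective z.1
    let b : ↥((p ≫ π).base ⁻¹' {g}) := ⟨y, show (p ≫ π) y = g from (hρ _).trans ((congrArg π hy).trans z.2)⟩
    obtain ⟨c, hc, hcb⟩ := exists_maximal (p ≫ π) b
    let d : ↥(π.base ⁻¹' {g}) := ⟨p c.1, show π (p c.1) = g from (hρ _).symm.trans c.2⟩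
    have hdz : d ⤳ z := by
      refine (subtype_specializes_iff _ _).2 ?_
      have := ((subtype_specializes_iff _ _).1 hcb).map p.continuous
      rw [show p b.1 = z.1 from hy] at this
      exact this
    exact ((subtype_specializes_iff _ _).1 (maximal_of_comp _ hz hdz)).mem_open W.2 (h c hc)

/-- Let G be a nonempty scheme of finite type over a field k, K a field extension of k, π : G ⊗_k K → G
the projection and W a dense open subset of G ⊗_k K. Then the set U of points g of G such that W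
contains every maximal point of the fibre π⁻¹(g) (every point whose closure in π⁻¹(g) is an
irreducible component of π⁻¹(g)) is open and dense in G. -/
theorem result (k : Type u) [Field k] (K : Type u) [Field K] [Algebra k K]
    (G : Scheme.{u}) (f : G ⟶ Spec (CommRingCat.of k)) [LocallyOfFiniteType f] [QuasiCompact f] [Nonempty G]
    (W : (pullback f (Spec.map (CommRingCat.ofHom (algebraMap k K)))).Opens)
    (hW : Dense (W : Set ↥(pullback f (Spec.map (CommRingCat.ofHom (algebraMap k K)))))) :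
    letI π := (pullback.fst f (Spec.map (CommRingCat.ofHom (algebraMap k K)))).base
    letI U : Set G := {g : G | ∀ z : ↥(π ⁻¹' {g}), closure {z} ∈ irreducibleComponents ↥(π ⁻¹' {g}) → z.1 ∈ W}
    IsOpen U ∧ Dense U := by
  let Kb : Type u := AlgebraicClosure K
  let L : Type u := AlgebraicClosure k
  let emb : L →ₐ[k] Kb := IsAlgClosed.lift
  let sK := Spec.map (CommRingCat.ofHom (algebraMap k K))
  let sL := Spec.map (CommRingCat.ofHom (algebraMap k L))
  let sE := Spec.map (CommRingCat.ofHom emb.toRingHom)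
  let sB := Spec.map (CommRingCat.ofHom (algebraMap K Kb))
  let r : pullback f sL ⟶ G := pullback.fst f sL
  let q : pullback (pullback.snd f sL) sE ⟶ pullback f sL := pullback.fst _ _
  have hcomm : sE ≫ sL = sB ≫ sK := by
    simp only [sE, sL, sB, sK, ← Spec.map_comp, ← CommRingCat.ofHom_comp]
    rw [show emb.toRingHom.comp (algebraMap k L) = algebraMap k Kb from emb.comp_algebraMap,
      ← IsScalarTower.algebraMap_eq k K Kb]
  let p : pullback (pullback.snd f sL) sE ⟶ pullback f sK :=
    pullback.lift (q ≫ r) (pullback.snd _ _ ≫ sB) (by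
      rw [Category.assoc, Category.assoc, ← hcomm, ← pullback.condition_assoc]
      simp only [q, r, pullback.condition])
  have hp1 : IsPullback (p ≫ pullback.fst f sK) (pullback.snd (pullback.snd f sL) sE) f (sB ≫ sK) := by
    rw [pullback.lift_fst, ← hcomm]
    exact (IsPullback.of_hasPullback _ _).paste_horiz (IsPullback.of_hasPullback f sL)
  have hp : IsPullback p (pullback.snd (pullback.snd f sL) sE) (pullback.snd f sK) sB :=
    IsPullback.of_right hp1 (by simp [p]) (IsPullback.of_hasPullback f sK)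
  haveI : Flat sB := by
    rw [HasRingHomProperty.Spec_iff (P := @Flat)]
    exact RingHom.flat_algebraMap_iff.2 inferInstance
  haveI : Surjective sB := ⟨fun x => ⟨default, Subsingleton.elim _ _⟩⟩
  haveI : Flat p := MorphismProperty.of_isPullback hp.flip inferInstance
  haveI : Surjective p := MorphismProperty.of_isPullback hp.flip inferInstance
  haveI : UniversallyOpen p := MorphismProperty.of_isPullback hp.flip (inferInstance : UniversallyOpen sB)
  haveI : GeometricallyIrreducible sE := by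
    letI : (Spec (CommRingCat.of Kb)).Over (Spec (CommRingCat.of L)) := ⟨sE⟩
    exact GeomField.geometricallyIrreducible_of_isSepClosed (k := L) (X := Spec (CommRingCat.of Kb))
  haveI : UniversallyOpen sE := inferInstance
  haveI : IsIntegralHom sL := by
    rw [IsIntegralHom.SpecMap_iff]
    exact algebraMap_isIntegral_iff.2 inferInstance
  haveI : IsLocallyNoetherian (pullback f sL) :=
    LocallyOfFiniteType.isLocallyNoetherian (pullback.snd f sL)
  haveI : CompactSpace ↥(pullback f sL) := QuasiCompact.compactSpace_of_compactSpace (pullback.snd f sL)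
  haveI : IsNoetherian (pullback f sL) := {}
  haveI : Flat sL := by
    rw [HasRingHomProperty.Spec_iff (P := @Flat)]
    exact RingHom.flat_algebraMap_iff.2 inferInstance
  haveI : Flat r := inferInstanceAs (Flat (pullback.fst f sL))
  haveI : IsIntegralHom r := inferInstanceAs (IsIntegralHom (pullback.fst f sL))
  have hinc : ∀ a b : ↥(pullback f sL), b ⤳ a → r a = r b → a = b := fun a b => eq_of_specializes r
  have hirr : ∀ y, IsIrreducible (q.base ⁻¹' {y}) := fun y =>
    q.isIrreducible_preimage q.isOpenMap isIrreducible_singleton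
  have hq : Surjective q := inferInstanceAs (Surjective (pullback.fst _ _))
  have hVo : IsOpen (q.base '' ((p ⁻¹ᵁ W : Scheme.Opens _) : Set _)) := q.isOpenMap _ (p ⁻¹ᵁ W).2
  have hVd : Dense (q.base '' ((p ⁻¹ᵁ W : Scheme.Opens _) : Set _)) :=
    hq.surj.denseRange.dense_image q.continuous (hW.preimage p.isOpenMap)
  have key : ∀ g : G, (∀ z : ↥((pullback.fst f sK).base ⁻¹' {g}),
      closure {z} ∈ irreducibleComponents ↥((pullback.fst f sK).base ⁻¹' {g}) → z.1 ∈ W) ↔
      g ∈ (r.base '' (q.base '' ((p ⁻¹ᵁ W : Scheme.Opens _) : Set _))ᶜ)ᶜ := fun g =>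
    (transfer p (Flat.generalizingMap p) _ (q ≫ r) (pullback.lift_fst _ _ _) W g).trans
      (main q r (p ⁻¹ᵁ W) hirr hinc g)
  have hU : {g : G | ∀ z : ↥((pullback.fst f sK).base ⁻¹' {g}),
      closure {z} ∈ irreducibleComponents ↥((pullback.fst f sK).base ⁻¹' {g}) → z.1 ∈ W} =
      (r.base '' (q.base '' ((p ⁻¹ᵁ W : Scheme.Opens _) : Set _))ᶜ)ᶜ := Set.ext key
  refine ⟨?_, ?_⟩
  · rw [hU]
    exact (r.isClosedMap _ hVo.isClosed_compl).isOpen_compl
  · rw [hU]
    exact dense_compl r hinc (Flat.generalizingMap r) _ hVo hVd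

end Groth.Agent.S5399
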