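import Groth.Statements.S5400
import Groth.Agent.GrpFieldLib.NeutralRep
import Groth.Agent.UOpenDesc.Main
import Groth.Agent.MorLib.BaseChangeLim
-- import your own Groth.Agent.* helpers here

set_option autoImplicit false
set_option backward.isDefEq.respectTransparency false
set_option maxHeartbeats 1000000
set_option linter.style.haveILetI false
universe u
open CategoryTheory CategoryTheory.Limits MonoidalCategory CartesianMonoidalCategory MonObj GrpObj AlgebraicGeometry
open SGA3

namespace Groth.Agent.S5400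

/-- Let S be the limit of a cofiltered system (S_i) of quasi-compact quasi-separated schemes with affine
transition morphisms, j an index and G_j an S_j-group scheme of finite presentation; put G = G_j
×_{S_j} S. Then the neutral component subfunctor of G is representable (there is a monomorphism G⁰ →
G through which a point factors exactly when its image lies in the union of the neutral components
of the fibres) if and only if there is an index i over j such that the neutral component of G_j
×_{S_j} S_i is representable. -/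
theorem result {I : Type u} [SmallCategory I] [IsCofiltered I]
    (D : I ⥤ Scheme.{u}) (c : Limits.Cone D) (hc : Limits.IsLimit c)
    [∀ (i i' : I) (f : i ⟶ i'), IsAffineHom (D.map f)] [∀ i, CompactSpace (D.obj i)] [∀ i, QuasiSeparatedSpace (D.obj i)]
    (j : I) (Gj : Over (D.obj j)) [GrpObj Gj]
    [LocallyOfFinitePresentation Gj.hom] [QuasiCompact Gj.hom] [QuasiSeparated Gj.hom] :
    (∃ (G0 : Over c.pt) (i0 : G0 ⟶ Red.bc (c.π.app j) Gj), Mono i0 ∧
      ∀ (T : Over c.pt) (g : T ⟶ Red.bc (c.π.app j) Gj), (∃ z : T ⟶ G0, z ≫ i0 = g) ↔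
        Set.range g.left.base ⊆ SGA3x.neutralSet (Red.bc (c.π.app j) Gj)) ↔
    ∃ (i : I) (f : i ⟶ j) (G0 : Over (D.obj i)) (i0 : G0 ⟶ Red.bc (D.map f) Gj), Mono i0 ∧
      ∀ (T : Over (D.obj i)) (g : T ⟶ Red.bc (D.map f) Gj), (∃ z : T ⟶ G0, z ≫ i0 = g) ↔
        Set.range g.left.base ⊆ SGA3x.neutralSet (Red.bc (D.map f) Gj) := by
  have key : ∀ (S : Scheme.{u}) (G : Over S) [GrpObj G] [LocallyOfFinitePresentation G.hom],
      (∃ (G0 : Over S) (i0 : G0 ⟶ G), Mono i0 ∧
        ∀ (T : Over S) (g : T ⟶ G), (∃ z : T ⟶ G0, z ≫ i0 = g) ↔ Set.range g.left.base ⊆ SGA3x.neutralSet G) ↔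
      IsOpen (SGA3x.neutralSet G) := by
    intro S G _ _
    constructor
    · rintro ⟨G0, i0, hm, hr⟩
      haveI := hm
      exact GrpFieldLib.NeutralRep.isOpen_neutralSet G G0 i0 hr
    · intro hN
      let N : G.left.Opens := ⟨_, hN⟩
      let i0 : Over.mk (N.ι ≫ G.hom) ⟶ G := Over.homMk N.ι
      refine ⟨_, i0, ⟨fun a b h => Over.OverMorphism.ext ((cancel_mono N.ι).1
        (congrArg CommaMorphism.left h))⟩, fun T g => ⟨?_, fun hg => ?_⟩⟩
      · rintro ⟨z, rfl⟩ _ ⟨t, rfl⟩
        exact (z.left t).2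
      · have hg' : Set.range g.left ⊆ Set.range N.ι := by rw [Scheme.Opens.range_ι]; exact hg
        have hl := IsOpenImmersion.lift_fac N.ι g.left hg'
        exact ⟨Over.homMk (IsOpenImmersion.lift N.ι g.left hg') (by
          show IsOpenImmersion.lift N.ι g.left hg' ≫ N.ι ≫ G.hom = T.hom
          rw [reassoc_of% hl]; exact Over.w g), Over.OverMorphism.ext hl⟩
  haveI : ∀ {a b : I} (f : a ⟶ b), IsAffineHom (D.map f) := fun f => inferInstance
  haveI : CompactSpace Gj.left := QuasiCompact.compactSpace_of_compactSpace Gj.hom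
  haveI : LocallyOfFinitePresentation (Red.bc (c.π.app j) Gj).hom :=
    MorphismProperty.pullback_snd (P := @LocallyOfFinitePresentation) _ _ inferInstance
  haveI : ∀ {i : I} (f : i ⟶ j), LocallyOfFinitePresentation (Red.bc (D.map f) Gj).hom := fun f =>
    MorphismProperty.pullback_snd (P := @LocallyOfFinitePresentation) _ _ inferInstance
  rw [key]
  constructor
  · intro h
    rw [GrpSchLib.Neutral.neutralSet_bc] at h
    let T : Over j := Over.mk (𝟙 j)
    have hX := IsPullback.of_hasPullback Gj.hom (c.π.app j)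
    haveI : CompactSpace ↥((MorLib.BC.diag D Gj.hom).obj T) := MorLib.BC.compactSpace_obj D Gj.hom T
    haveI : ∀ {a b : Over j} (f : a ⟶ b), IsAffineHom ((MorLib.BC.diag D Gj.hom).map f) := fun f =>
      MorLib.BC.isAffineHom_map D Gj.hom f
    haveI : QuasiCompact (pullback.fst Gj.hom (D.map T.hom)) := inferInstance
    have hZ := (pullback.fst Gj.hom (D.map T.hom)).isConstructible_preimage
      (GrpFieldLib.NeutralCons.isConstructible_neutralSet Gj)
    have hop : IsOpen ((MorLib.BC.cone D Gj.hom hX).π.app T ⁻¹'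
        (pullback.fst Gj.hom (D.map T.hom) ⁻¹' SGA3x.neutralSet Gj)) := by
      have e1 : (MorLib.BC.cone D Gj.hom hX).π.app T ≫ pullback.fst Gj.hom (D.map T.hom) =
          pullback.fst Gj.hom (c.π.app j) := MorLib.BC.proj_fst D Gj.hom hX T
      rw [← e1] at h
      exact h
    obtain ⟨k, φ, hk⟩ := MorLib.LimCons.exists_isOpen (MorLib.BC.isLimitCone D Gj.hom hX hc) T
      (UOpenDesc.pro_of_cons hZ) (UOpenDesc.ind_of_cons hZ) hop
    refine ⟨k.left, k.hom, (key _ _).2 ?_⟩
    rw [GrpSchLib.Neutral.neutralSet_bc]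
    have h3 : IsOpen (((MorLib.BC.diag D Gj.hom).map φ ≫ pullback.fst Gj.hom (D.map T.hom)) ⁻¹'
        SGA3x.neutralSet Gj) := hk
    rw [MorLib.BC.map_fst] at h3
    exact h3
  · rintro ⟨i, f, G0, i0, hm, hr⟩
    haveI := hm
    have h := (key _ _).1 ⟨G0, i0, hm, hr⟩
    rw [GrpSchLib.Neutral.neutralSet_bc] at h ⊢
    let m : pullback Gj.hom (c.π.app j) ⟶ pullback Gj.hom (D.map f) :=
      pullback.lift (pullback.fst _ _) (pullback.snd _ _ ≫ c.π.app i) (by
        rw [Category.assoc, c.w, pullback.condition])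
    have e : pullback.fst Gj.hom (c.π.app j) = m ≫ pullback.fst Gj.hom (D.map f) :=
      (pullback.lift_fst _ _ _).symm
    rw [e]
    exact h.preimage m.continuous

end Groth.Agent.S5400
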