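import Groth.Statements.S5401
import Groth.Agent.GrpFieldLib.NeutralCons
import Groth.Agent.MorLib.LimPro
import Groth.Agent.MorLib.LimCons
-- import your own Groth.Agent.* helpers here

set_option autoImplicit false
set_option backward.isDefEq.respectTransparency false
set_option maxHeartbeats 1000000
set_option linter.style.haveILetI false
universe u
open CategoryTheory CategoryTheory.Limits MonoidalCategory CartesianMonoidalCategory MonObj GrpObj AlgebraicGeometry
open SGA3

namespace Groth.Agent.S5401

/-- Let S₀ be a scheme, (S_i) a cofiltered system of quasi-compact quasi-separated S₀-schemes with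
affine transition morphisms and S its limit, and G an S₀-group scheme locally of finite presentation
over S₀. Write G⁰(T), for an S₀-scheme T, for the set of S₀-morphisms T → G whose image lies in the
union of the neutral components of the fibres of G. Then the canonical map colim G⁰(S_i) → G⁰(S) is
surjective: every element of G⁰(S) is the restriction of an element of G⁰(S_i) for some i. (The
published statement asserts that this map is bijective; its injectivity holds for S₀-morphisms to
any scheme locally of finite type over S₀ and is not stated here. The published setting takes S₀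
quasi-compact and quasi-separated and the S_i affine over S₀; this row allows any cofiltered system
of quasi-compact quasi-separated S₀-schemes with affine transition morphisms.) -/
theorem result {I : Type u} [SmallCategory I] [IsCofiltered I]
    (D : I ⥤ Scheme.{u}) (c : Limits.Cone D) (hc : Limits.IsLimit c)
    [∀ (i i' : I) (f : i ⟶ i'), IsAffineHom (D.map f)] [∀ i, CompactSpace (D.obj i)] [∀ i, QuasiSeparatedSpace (D.obj i)]
    (S₀ : Scheme.{u}) (q : ∀ i, D.obj i ⟶ S₀) (hq : ∀ (i i' : I) (f : i ⟶ i'), D.map f ≫ q i' = q i)
    (qlim : c.pt ⟶ S₀) (hqlim : ∀ i, c.π.app i ≫ q i = qlim)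
    (G : Over S₀) [GrpObj G] [LocallyOfFinitePresentation G.hom] :
    ∀ u : c.pt ⟶ G.left, u ≫ G.hom = qlim → Set.range u.base ⊆ SGA3x.neutralSet G →
      ∃ (i : I) (ui : D.obj i ⟶ G.left), ui ≫ G.hom = q i ∧ Set.range ui.base ⊆ SGA3x.neutralSet G ∧ c.π.app i ≫ ui = u := by
  intro u hu hur
  haveI : ∀ {i j : I} (f : i ⟶ j), IsAffineHom (D.map f) := fun f => inferInstance
  let t : D ⟶ (Functor.const I).obj S₀ :=
    { app := q, naturality := fun i j f => by simp [hq i j f] }
  obtain ⟨i, ui, hui, huiq⟩ := Scheme.exists_π_app_comp_eq_of_locallyOfFinitePresentation D t G.hom c hc u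
    (by ext i; simp [t, hqlim i, hu])
  obtain ⟨j, φ, hj⟩ := MorLib.LimPro.exists_subset hc i (A := Set.univ) (B := ui ⁻¹' SGA3x.neutralSet G)
    MorLib.LimCons.pro_univ
    (MorLib.LimPro.isIndConstructible_preimage (GrpFieldLib.NeutralCons.isIndConstructible_neutralSet G) ui)
    (fun s _ => hur ⟨s, by rw [← hui, Scheme.Hom.comp_base]; rfl⟩)
  refine ⟨j, D.map φ ≫ ui, ?_, ?_, ?_⟩
  · rw [Category.assoc, huiq]; exact hq j i φ
  · rintro _ ⟨s, rfl⟩
    exact hj (Set.mem_univ _ : s ∈ D.map φ ⁻¹' Set.univ)
  · rw [← Category.assoc, c.w, hui]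

end Groth.Agent.S5401
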