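import Groth.Statements.S5415
import Groth.Agent.GrpSchLib.HomFlat
import Groth.Agent.EtFound.Descent

set_option autoImplicit false
universe u
open CategoryTheory MonoidalCategory CartesianMonoidalCategory MonObj GrpObj AlgebraicGeometry CategoryTheory.Limits
open SGA3x

namespace Groth.Agent.S5415

/-- Let G be an S-group scheme of finite presentation over S, p : G → G'' a homomorphism which is
surjective, flat and locally of finite presentation onto an S-group scheme G'' proper and of finite
presentation over S, and i : G' → G its kernel, with G' flat and of finite presentation over S. Let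
H be an S-group scheme which is of finite presentation over S, or locally of finite presentation
over a locally Noetherian S, and u : G → H a homomorphism. If the restriction u ∘ i of u to G' is
proper, then u is proper. -/
theorem result (S : Scheme.{u}) (G G' G'' : Over S) [GrpObj G] [GrpObj G'] [GrpObj G'']
    [QuasiCompact G.hom] [QuasiSeparated G.hom] [LocallyOfFinitePresentation G.hom]
    [IsProper G''.hom] [LocallyOfFinitePresentation G''.hom]
    [Flat G'.hom] [QuasiCompact G'.hom] [QuasiSeparated G'.hom] [LocallyOfFinitePresentation G'.hom]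
    (p : G ⟶ G'') [IsMonHom p] [Surjective p.left] [Flat p.left] [LocallyOfFinitePresentation p.left]
    (i : G' ⟶ G) [IsMonHom i] (hker : AlgGrp.IsKernel i p)
    (H : Over S) [GrpObj H] [LocallyOfFinitePresentation H.hom]
    (hH : (QuasiCompact H.hom ∧ QuasiSeparated H.hom) ∨ IsLocallyNoetherian S)
    (u : G ⟶ H) [IsMonHom u] (hu : IsProper (i ≫ u).left) : IsProper u.left := by
  have hi : (i ≫ p) = (1 : G' ⟶ G'') := by
    rw [hker.w]; rfl
  have : Mono i := ⟨fun a b hab => hker.hom_ext hab (toUnit_unique _ _)⟩
  let A : G' ⊗ G ⟶ G := (fst G' G ≫ i) * snd G' G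
  let B : G' ⊗ G ⟶ H ⊗ G := lift (A ≫ u) (snd G' G)
  let c : G ⟶ H ⊗ G'' := lift u p
  have hAp : A ≫ p = snd G' G ≫ p := by
    simp only [A, MonObj.mul_comp, Category.assoc, hi, MonObj.comp_one, _root_.one_mul]
  have hsq : IsPullback A B c (H ◁ p) := by
    have w : A ≫ c = B ≫ (H ◁ p) := by
      simp only [c, B, comp_lift, lift_whiskerLeft, hAp]
    refine ⟨⟨w⟩, ⟨PullbackCone.IsLimit.mk _ (fun s => lift (hker.lift (s.fst * (s.snd ≫ snd H G)⁻¹) (toUnit _) ?_) (s.snd ≫ snd H G)) ?_ ?_ ?_⟩⟩
    · have h2 : s.fst ≫ p = (s.snd ≫ snd H G) ≫ p := by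
        have := congrArg (· ≫ snd H G'') s.condition
        simpa [c] using this
      rw [MonObj.mul_comp, GrpObj.inv_comp, h2, mul_inv_cancel]
      rfl
    · intro s
      simp only [A, MonObj.comp_mul, lift_fst_assoc, lift_snd, IsPullback.lift_fst, inv_mul_cancel_right]
    · intro s
      ext1
      · have h1 : s.fst ≫ u = s.snd ≫ fst H G := by
          have := congrArg (· ≫ fst H G'') s.condition
          simpa [c] using this
        simp only [B, Category.assoc, lift_fst]
        rw [← h1, ← Category.assoc]
        congr 1
        simp only [A, MonObj.comp_mul, lift_fst_assoc, lift_snd, IsPullback.lift_fst, inv_mul_cancel_right]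
      · simp [B]
    · intro s m h1 h2
      have hsnd : m ≫ snd G' G = s.snd ≫ snd H G := by
        rw [← h2]; simp [B]
      ext1
      · rw [lift_fst, ← cancel_mono i, IsPullback.lift_fst, ← h1, ← hsnd]
        simp only [A, MonObj.comp_mul, Category.assoc, mul_inv_cancel_right]
      · rw [hsnd, lift_snd]
  let σ : H ⊗ G ≅ H ⊗ G :=
    { hom := lift (fst H G * (snd H G ≫ u)) (snd H G)
      inv := lift (fst H G * (snd H G ≫ u)⁻¹) (snd H G)
      hom_inv_id := by ext1 <;> simp [MonObj.comp_mul, GrpObj.comp_inv]
      inv_hom_id := by ext1 <;> simp [MonObj.comp_mul, GrpObj.comp_inv] }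
  have hB : IsProper B.left := by
    have e : B = ((i ≫ u) ▷ G) ≫ σ.hom := by
      simp only [B, σ]
      ext1 <;> simp [A, MonObj.comp_mul, MonObj.mul_comp]
    rw [e, Over.comp_left]
    have hp' : IsProper ((i ≫ u) ▷ G).left := GrpSchLib.property_whiskerRight (i ≫ u) G @IsProper hu
    have : IsIso σ.hom.left := ((Over.forget _).mapIso σ).isIso_hom
    infer_instance
  have hc : IsProper c.left := by
    have : QuasiCompact p.left := by
      have : QuasiCompact (p.left ≫ G''.hom) := by rw [Over.w]; infer_instance
      exact QuasiCompact.of_comp p.left G''.hom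
    let Q : MorphismProperty Scheme.{u} := @Surjective ⊓ @Flat ⊓ @QuasiCompact
    have hQ : Q (H ◁ p).left := by
      have e : H ◁ p = (β_ H G).hom ≫ (p ▷ H) ≫ (β_ G'' H).hom := by
        ext1 <;> simp
      have hw := GrpSchLib.property_whiskerRight p H Q ⟨⟨inferInstance, inferInstance⟩, inferInstance⟩
      rw [e, Over.comp_left, Over.comp_left]
      have : IsIso (β_ H G).hom.left := ((Over.forget _).mapIso (β_ H G)).isIso_hom
      have : IsIso (β_ G'' H).hom.left := ((Over.forget _).mapIso (β_ G'' H)).isIso_hom
      exact (MorphismProperty.cancel_left_of_respectsIso Q _ _).mpr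
        ((MorphismProperty.cancel_right_of_respectsIso Q _ _).mpr hw)
    have := EtFound.fpqc_isProper.{u}
    exact MorphismProperty.of_isPullback_of_descendsAlong (P := @IsProper) (Q := Q)
      (hsq.map (Over.forget S)).flip hQ hB
  have : IsProper (fst H G'').left := by
    rw [Over.fst_left]; infer_instance
  have e : u.left = c.left ≫ (fst H G'').left := by
    rw [← Over.comp_left, lift_fst]
  rw [e]
  infer_instance

end Groth.Agent.S5415
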