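import Groth.Statements.S5425
import Groth.Agent.HeightOneLib.Main
import Groth.Agent.HeightOneLib.MuP
-- import your own Groth.Agent.* helpers here

set_option autoImplicit false
set_option backward.isDefEq.respectTransparency false
set_option maxHeartbeats 1000000
set_option linter.style.haveILetI false
universe u
open TensorProduct
open SGA3t2b

namespace Groth.Agent.S5425

/-- (i) ⟺ (iv) ⟺ (v): let k be a field of characteristic p > 0 with algebraic closure k̄, and A a
finitely generated commutative Hopf algebra over k with no idempotents other than 0 and 1 (a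
connected affine algebraic group G). Then the following are equivalent: (i) G is unipotent
(fixed-vector form); (iv) G_{k̄} contains no closed subgroup isomorphic to μ_p; (v) the Lie algebra
of G is a unipotent p-Lie algebra: for every ε-derivation D : A → k some p^n-fold convolution power
of D (n > 0) vanishes. -/
theorem result (k : Type u) [Field k] (p : ℕ) [Fact p.Prime] [CharP k p] (A : Type u) [CommRing A] [HopfAlgebra k A]
    [Algebra.FiniteType k A] (hconn : ∀ e : A, IsIdempotentElem e → e = 0 ∨ e = 1) :
    (HopfRep.IsUnipotent k A ↔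
      ¬ ∃ φ : (AlgebraicClosure k ⊗[k] A) →ₐc[AlgebraicClosure k]
        MonoidAlgebra (AlgebraicClosure k) (Multiplicative (ZMod p)), Function.Surjective φ) ∧
    (HopfRep.IsUnipotent k A ↔
      ∀ D : LieHopf.Lie k A, ∃ n : ℕ, 0 < n ∧
        LieHopf.convPow (D.toLinearMap.restrictScalars k ∘ₗ LinearMap.id) (p ^ n) = 0) := by
  let K := AlgebraicClosure k
  haveI : CharP K p := charP_of_injective_algebraMap (algebraMap k K).injective p
  have hmu : HopfRep.IsUnipotent k A →
      ¬ ∃ φ : (K ⊗[k] A) →ₐc[K] MonoidAlgebra K (Multiplicative (ZMod p)), Function.Surjective φ := by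
    rintro hU ⟨φ, hφ⟩
    exact Groth.Agent.HeightOneLib.not_unipotent_mu p
      (Groth.Agent.TakeuchiLib.isUnipotent_of_surjective φ hφ
        (Groth.Agent.TakeuchiLib.isUnipotent_baseChange (K := K) hU))
  have hlie : (∀ D : LieHopf.Lie k A, ∃ n : ℕ, 0 < n ∧
      LieHopf.convPow (D.toLinearMap.restrictScalars k ∘ₗ LinearMap.id) (p ^ n) = 0) →
      HopfRep.IsUnipotent k A := fun h =>
    Groth.Agent.HeightOneLib.isUnipotent_of_nil p hconn fun D => by
      obtain ⟨n, -, hn⟩ := h D
      exact ⟨p ^ n, hn⟩
  refine ⟨⟨hmu, fun h => ?_⟩, fun hU D => Groth.Agent.S2968.result p hU D, hlie⟩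
  refine Groth.Agent.TakeuchiLib.isUnipotent_of_baseChange (K := K)
    (Groth.Agent.HeightOneLib.isUnipotent_algClosed p (Groth.Agent.TakeuchiLib.noIdem_field hconn K) fun D => ?_)
  by_contra hD
  push Not at hD
  obtain ⟨E, hE0, hE⟩ := Groth.Agent.HeightOneLib.exists_fixed p D hD
  exact h (Groth.Agent.HeightOneLib.exists_mu p E hE0 hE)

end Groth.Agent.S5425
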