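import Groth.Statements.S5426
import Groth.Agent.HeightOneLib.NoMu
-- import your own Groth.Agent.* helpers here

set_option autoImplicit false
set_option backward.isDefEq.respectTransparency false
set_option maxHeartbeats 1000000
set_option linter.style.haveILetI false
universe u
open TensorProduct
open SGA3t2b

namespace Groth.Agent.S5426

/-- Let k be an algebraically closed field and A a finitely generated commutative Hopf algebra over k.
Then G = Spec A is unipotent (fixed-vector form) if and only if for every prime n there is no closed
subgroup of G isomorphic to μ_n (no surjective bialgebra map from A onto the group algebra k[ℤ/n]).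
(The published statement is for an arbitrary algebraic group; this row treats affine groups only,
and a unipotent group is affine.) -/
theorem result (k : Type u) [Field k] [IsAlgClosed k] (A : Type u) [CommRing A] [HopfAlgebra k A] [Algebra.FiniteType k A] :
    HopfRep.IsUnipotent k A ↔
      ∀ n : ℕ, n.Prime → (¬ ∃ φ : A →ₐc[k] MonoidAlgebra k (Multiplicative (ZMod n)), Function.Surjective φ) := by
  refine ⟨fun hU n hn => ?_, fun h => Groth.Agent.HeightOneLib.isUnipotent_of_no_mu h⟩
  rintro ⟨φ, hφ⟩
  haveI : Fact n.Prime := ⟨hn⟩
  exact Groth.Agent.HeightOneLib.not_unipotent_mu n (Groth.Agent.TakeuchiLib.isUnipotent_of_surjective φ hφ hU)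

end Groth.Agent.S5426
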