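import Groth.Statements.S5429
import Groth.Agent.ExtUnipLib.Conj
-- import your own Groth.Agent.* helpers here

set_option autoImplicit false
set_option backward.isDefEq.respectTransparency false
set_option maxHeartbeats 1000000
set_option linter.style.haveILetI false

universe u
open TensorProduct
open SGA3
open WithConv
open scoped Groth.Agent.DynLib

namespace Groth.Agent.S5429

/-- Hopf form: let k be an algebraically closed field, A a finitely generated commutative Hopf algebra
(an algebraic group E), ψ : B → A an injective bialgebra map from a diagonalizable finitely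
generated Hopf algebra B (the quotient H of multiplicative type), J the Hopf ideal generated by the
image of the augmentation ideal of B (the kernel U), with U = Spec (A/J) unipotent in the
fixed-vector sense. Suppose H is smooth (B reduced) or U is smooth (A/J reduced). If r′, r″ : A → B
are two bialgebra retractions of ψ (two liftings H′, H″ of H in E), then there is a k-point u of E
lying in U (an algebra map u : A → k killing J) such that r″ = u · r′ · u⁻¹ as points of E with
values in B (triple convolution of u, r′ and u composed with the antipode). -/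
theorem result (k : Type u) [Field k] [IsAlgClosed k] (A B : Type u) [CommRing A] [HopfAlgebra k A] [Algebra.FiniteType k A] [CommRing B] [HopfAlgebra k B]
    [Algebra.FiniteType k B] (hB : SGA3b.IsDiag k B) (ψ : B →ₐc[k] A) (hψ : Function.Injective ψ)
    (J : Ideal A) [J.IsHopfIdeal k] (hJ : J = Ideal.map (ψ : B →+* A) (RingHom.ker (Bialgebra.counitAlgHom k B)))
    (hU : HopfRep.IsUnipotent k (A ⧸ J))
    (hsm : IsReduced B ∨ IsReduced (A ⧸ J)) (r' r'' : A →ₐc[k] B)
    (hr' : r'.comp ψ = BialgHom.id k B) (hr'' : r''.comp ψ = BialgHom.id k B) :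
    ∃ u : A →ₐ[k] k, (∀ a ∈ J, u a = 0) ∧
      (r'' : A →ₐ[k] B) = Dyn.conv3 k A ((Algebra.ofId k B).comp u) (r' : A →ₐ[k] B)
        (((Algebra.ofId k B).comp u).comp (HopfAlgebra.antipodeAlgHom k A)) := by
  classical
  obtain ⟨M, _, ⟨e⟩⟩ := hB
  let ψ' : MonoidAlgebra k M →ₐc[k] A := ψ.comp (e.symm : MonoidAlgebra k M →ₐc[k] B)
  have hJ' : J = Ideal.map (ψ' : MonoidAlgebra k M →+* A)
      (RingHom.ker (Bialgebra.counitAlgHom k (MonoidAlgebra k M))) := by
    rw [hJ]
    refine le_antisymm (Ideal.map_le_iff_le_comap.mpr fun b hb => ?_) (Ideal.map_le_iff_le_comap.mpr fun b hb => ?_)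
    · have h : Bialgebra.counitAlgHom k (MonoidAlgebra k M) (e b) = 0 :=
        (CoalgHomClass.counit_comp_apply (e : B →ₐc[k] MonoidAlgebra k M) b).trans hb
      have h2 := Ideal.mem_map_of_mem (ψ' : MonoidAlgebra k M →+* A) (RingHom.mem_ker.mpr h)
      show ψ b ∈ Ideal.map (ψ' : MonoidAlgebra k M →+* A) (RingHom.ker (Bialgebra.counitAlgHom k (MonoidAlgebra k M)))
      rw [show ψ b = ψ (e.symm (e b)) from congrArg ψ (e.toEquiv.symm_apply_apply b).symm]
      exact h2
    · exact Ideal.mem_map_of_mem (ψ : B →+* A) (RingHom.mem_ker.mpr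
        ((CoalgHomClass.counit_comp_apply (e.symm : MonoidAlgebra k M →ₐc[k] B) b).trans hb))
  haveI : Algebra.FiniteType k (MonoidAlgebra k M) :=
    (inferInstance : Algebra.FiniteType k B).of_surjective ((e : B →ₐc[k] MonoidAlgebra k M) : B →ₐ[k] MonoidAlgebra k M) e.surjective
  have hsm' : _root_.IsReduced (MonoidAlgebra k M) ∨ _root_.IsReduced (A ⧸ J) := by
    rcases hsm with h | h
    · exact Or.inl ⟨fun x hx => e.symm.injective
        ((h.eq_zero (e.symm x) (hx.map e.symm)).trans (map_zero e.symm).symm)⟩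
    · exact Or.inr h
  let s' : A →ₐc[k] MonoidAlgebra k M := (e : B →ₐc[k] MonoidAlgebra k M).comp r'
  let s'' : A →ₐc[k] MonoidAlgebra k M := (e : B →ₐc[k] MonoidAlgebra k M).comp r''
  have hs : ∀ (r : A →ₐc[k] B), r.comp ψ = BialgHom.id k B → ∀ b, e (r (ψ' b)) = b := fun r hr b => by
    have h : r (ψ (e.symm b)) = e.symm b := DFunLike.congr_fun hr (e.symm b)
    show e (r (ψ (e.symm b))) = b
    rw [h]
    exact e.toEquiv.apply_symm_apply b
  obtain ⟨u, huJ, hu⟩ := Groth.Agent.ExtUnipLib.exists_conj ψ' s' s'' (hs r' hr') (hs r'' hr'') J hJ' hU hsm'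
  refine ⟨u.ofConv, huJ, ?_⟩
  rw [Groth.Agent.TakeuchiLib.conv3_eq]
  have h : toConv (r'' : A →ₐ[k] B) =
      toConv ((r' : A →ₐ[k] B).comp ((Groth.Agent.ExtUnipLib.ad u : A →ₐc[k] A) : A →ₐ[k] A)) :=
    WithConv.ofConv_injective (AlgHom.ext fun a => e.injective (hu a))
  rw [Groth.Agent.ExtUnipLib.toConv_comp_ad] at h
  exact congrArg WithConv.ofConv h

end Groth.Agent.S5429
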