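import Groth.Statements.S5441
import Groth.Agent.GrpSchLib.FieldReduced
import Groth.Agent.ExtMultLib.Points
import Groth.Agent.GrpSchLib.HopfQuotEtale
import Groth.Agent.GrpSchLib.HopfGalois
import Mathlib.RingTheory.Unramified.Field
import Mathlib.RingTheory.Jacobson.Ring
import Mathlib.RingTheory.Flat.FaithfullyFlat.Basic
-- import your own Groth.Agent.* helpers here

set_option autoImplicit false
set_option backward.isDefEq.respectTransparency false
set_option maxHeartbeats 1000000
set_option linter.style.haveILetI false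
universe u
open TensorProduct
open SGA3 WithConv

namespace Groth.Agent.S5441

/-- Let k be a perfect field, A a finitely generated commutative Hopf algebra (an algebraic group H), ψ
: C → A an injective bialgebra map with C an étale k-algebra (the étale quotient H″), J the Hopf
ideal of A generated by the image of the augmentation ideal of C (the kernel H′ = Spec (A/J)), with
A/J a local ring (H′ radiciel). Then H″ lifts uniquely into H and the lifting is the reduced
subgroup: there is exactly one bialgebra map r : A → C with r ∘ ψ = id, and every such r has kernel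
the nilradical of A. -/
theorem result (k : Type u) [Field k] [PerfectField k] (A C : Type u) [CommRing A] [HopfAlgebra k A] [Algebra.FiniteType k A]
    [CommRing C] [HopfAlgebra k C] [Algebra.Etale k C] (ψ : C →ₐc[k] A) (hψ : Function.Injective ψ)
    (J : Ideal A) [J.IsHopfIdeal k] (hJ : J = Ideal.map (ψ : C →+* A) (RingHom.ker (Bialgebra.counitAlgHom k C)))
    [IsLocalRing (A ⧸ J)] :
    (∃! r : A →ₐc[k] C, r.comp ψ = BialgHom.id k C) ∧
    ∀ r : A →ₐc[k] C, r.comp ψ = BialgHom.id k C → RingHom.ker (r : A →+* C) = nilradical A := by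
  classical
  haveI : _root_.IsReduced C := Algebra.FormallyUnramified.isReduced_of_field k C
  haveI : _root_.IsReduced (C ⊗[k] C) := Groth.Agent.GrpSchLib.isReduced_tensor_of_perfectField
  haveI : Module.Finite k C := Algebra.FormallyUnramified.finite_of_free k C
  haveI hRed : _root_.IsReduced (A ⧸ nilradical A) := (Ideal.isRadical_iff_quotient_reduced _).mp (Ideal.radical_isRadical _)
  haveI : Algebra.FiniteType k (A ⧸ nilradical A) :=
    Algebra.FiniteType.of_surjective (Ideal.Quotient.mkₐ k _) (Ideal.Quotient.mkₐ_surjective k _)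
  let K := AlgebraicClosure k
  let R := K ⊗[k] (A ⧸ nilradical A)
  haveI : _root_.IsReduced R := Groth.Agent.GrpSchLib.isReduced_tensor_of_perfectField
  let ψn : C →ₐ[k] A ⧸ nilradical A := (Ideal.Quotient.mkₐ k _).comp (ψ : C →ₐ[k] A)
  -- points of the kernel are trivial
  have hJpt : ∀ h : A →ₐ[k] K, (∀ a ∈ J, h a = 0) →
      h = (Algebra.ofId k K).comp (Bialgebra.counitAlgHom k A) := by
    intro h hh
    haveI : Algebra.FiniteType k (A ⧸ J) :=
      Algebra.FiniteType.of_surjective (Ideal.Quotient.mkₐ k _) (Ideal.Quotient.mkₐ_surjective k _)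
    haveI : IsJacobsonRing (A ⧸ J) := isJacobsonRing_of_finiteType (A := k)
    let h' : A ⧸ J →ₐ[k] K := Ideal.Quotient.liftₐ J h hh
    let ε' := Bialgebra.counitAlgHom k (A ⧸ J)
    have hεmax : (RingHom.ker ε').IsMaximal :=
      RingHom.ker_isMaximal_of_surjective _ fun c => ⟨algebraMap k _ c, AlgHom.commutes _ c⟩
    have hall : ∀ P : Ideal (A ⧸ J), P.IsPrime → P = RingHom.ker ε' := by
      intro P hP
      have h1 : P.jacobson = P := IsJacobsonRing.out inferInstance hP.isRadical
      have h2 : P.jacobson = IsLocalRing.maximalIdeal (A ⧸ J) := by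
        refine le_antisymm ?_ (le_sInf fun m hm => ?_)
        · exact sInf_le ⟨IsLocalRing.le_maximalIdeal hP.ne_top, IsLocalRing.maximalIdeal.isMaximal _⟩
        · exact (IsLocalRing.eq_maximalIdeal hm.2).ge
      rw [← h1, h2, IsLocalRing.eq_maximalIdeal hεmax]
    have hk : RingHom.ker h' = RingHom.ker ε' := hall _ (RingHom.ker_isPrime _)
    refine AlgHom.ext fun a => ?_
    have h1 : h' (Ideal.Quotient.mk J a - algebraMap k _ (ε' (Ideal.Quotient.mk J a))) = 0 := by
      rw [← RingHom.mem_ker, hk, RingHom.mem_ker, map_sub, AlgHom.commutes]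
      simp
    rw [map_sub, AlgHom.commutes, sub_eq_zero] at h1
    refine h1.trans ?_
    show algebraMap k K (ε' (Ideal.Quotient.mk J a)) = algebraMap k K _
    exact congrArg _ (CoalgHomClass.counit_comp_apply (Bialgebra.Quotient.mkBialgHom (R := k) J) a)
  -- restriction of points is injective
  have hinjpt : ∀ g h : A →ₐ[k] K, (∀ c, g (ψ c) = h (ψ c)) → g = h := by
    intro g h hgh
    have h1 : ∀ a ∈ J, (toConv g * toConv (h.comp (HopfAlgebra.antipodeAlgHom k A))).ofConv a = 0 := by
      intro a ha
      rw [hJ] at ha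
      refine (Ideal.map_le_iff_le_comap.mpr (fun c hc => ?_) :
        _ ≤ RingHom.ker (toConv g * toConv (h.comp (HopfAlgebra.antipodeAlgHom k A))).ofConv.toRingHom) ha
      have h2 := AlgHom.convMul_comp_bialgHom_distrib (toConv g) (toConv (h.comp (HopfAlgebra.antipodeAlgHom k A))) ψ
      have h3 : (h.comp (HopfAlgebra.antipodeAlgHom k A)).comp (ψ : C →ₐ[k] A) =
          (h.comp (ψ : C →ₐ[k] A)).comp (HopfAlgebra.antipodeAlgHom k C) :=
        AlgHom.ext fun c => congrArg h (Groth.Agent.GrpSchLib.HopfGalois.antipode_bialgHom ψ c)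
      have h4 : g.comp (ψ : C →ₐ[k] A) = h.comp (ψ : C →ₐ[k] A) := AlgHom.ext hgh
      rw [ofConv_toConv, ofConv_toConv, h3, h4, Groth.Agent.GrpSchLib.HopfQuot.self_convMul_inv] at h2
      show _ = (0 : K)
      refine (AlgHom.congr_fun h2 c).trans ?_
      rw [AlgHom.convOne_apply, show Coalgebra.counit (R := k) c = 0 from hc, map_zero]
    have h5 : toConv g * toConv (h.comp (HopfAlgebra.antipodeAlgHom k A)) = 1 := by
      refine WithConv.ofConv_injective ((hJpt _ h1).trans ?_)
      exact AlgHom.ext fun a => (AlgHom.convOne_apply (R := k) (A := K) a).symm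
    have h6 := congrArg (· * toConv h) h5
    simp only [mul_assoc, Groth.Agent.GrpSchLib.HopfQuot.inv_convMul_self, mul_one, one_mul] at h6
    exact congrArg WithConv.ofConv h6
  haveI : Finite (R →ₐ[K] K) := by
    refine Finite.of_injective
      (fun g : R →ₐ[K] K => ((g.restrictScalars k).comp Algebra.TensorProduct.includeRight).comp ψn) fun g h e => ?_
    refine Algebra.TensorProduct.ext' fun a z => ?_
    obtain ⟨z, rfl⟩ := Ideal.Quotient.mk_surjective z
    have e' := AlgHom.congr_fun (hinjpt
      (((g.restrictScalars k).comp Algebra.TensorProduct.includeRight).comp (Ideal.Quotient.mkₐ k _))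
      (((h.restrictScalars k).comp Algebra.TensorProduct.includeRight).comp (Ideal.Quotient.mkₐ k _))
      (fun c => AlgHom.congr_fun e c)) z
    rw [show a ⊗ₜ[k] Ideal.Quotient.mk (nilradical A) z = a • ((1 : K) ⊗ₜ[k] Ideal.Quotient.mk (nilradical A) z) by
      rw [TensorProduct.smul_tmul', smul_eq_mul, mul_one], map_smul, map_smul]
    exact congrArg (a • ·) e'
  haveI : Fintype (R →ₐ[K] K) := Fintype.ofFinite _
  let F : K ⊗[k] C →ₐ[K] R := Algebra.TensorProduct.map (AlgHom.id K K) ψn
  have hF : Function.Surjective F := by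
    intro x
    let I : (R →ₐ[K] K) → Ideal (K ⊗[k] C) := fun g => RingHom.ker (g.comp F)
    have hsurjg : ∀ g : R →ₐ[K] K, Function.Surjective (g.comp F) := fun g c => ⟨algebraMap K _ c, AlgHom.commutes _ c⟩
    have hne : ∀ g h, I g = I h → g = h := by
      intro g h e
      refine Algebra.TensorProduct.ext' fun a z => ?_
      obtain ⟨z, rfl⟩ := Ideal.Quotient.mk_surjective z
      have e' := AlgHom.congr_fun (hinjpt
        (((g.restrictScalars k).comp Algebra.TensorProduct.includeRight).comp (Ideal.Quotient.mkₐ k _))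
        (((h.restrictScalars k).comp Algebra.TensorProduct.includeRight).comp (Ideal.Quotient.mkₐ k _))
        (fun c => by
          let u := (1 : K) ⊗ₜ[k] c - algebraMap K (K ⊗[k] C) ((g.comp F) ((1 : K) ⊗ₜ[k] c))
          have hu : (g.comp F) u = 0 := by
            simp only [u, map_sub, AlgHom.commutes, Algebra.algebraMap_self_apply, sub_self]
          have hu' : u ∈ I h := e ▸ (RingHom.mem_ker.mpr hu : u ∈ I g)
          have hu'' : (h.comp F) u = 0 := hu'
          simp only [u, map_sub, AlgHom.commutes, Algebra.algebraMap_self_apply, sub_eq_zero] at hu''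
          exact hu''.symm)) z
      rw [show a ⊗ₜ[k] Ideal.Quotient.mk (nilradical A) z = a • ((1 : K) ⊗ₜ[k] Ideal.Quotient.mk (nilradical A) z) by
        rw [TensorProduct.smul_tmul', smul_eq_mul, mul_one], map_smul, map_smul]
      exact congrArg (a • ·) e'
    have hco : Pairwise (Function.onFun IsCoprime I) := fun g h hgh => by
      haveI : (I g).IsMaximal := RingHom.ker_isMaximal_of_surjective _ (hsurjg g)
      haveI : (I h).IsMaximal := RingHom.ker_isMaximal_of_surjective _ (hsurjg h)
      exact Ideal.isCoprime_of_isMaximal fun e => hgh (hne g h e)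
    obtain ⟨c, hc⟩ := Ideal.exists_forall_sub_mem_ideal hco fun g => algebraMap K (K ⊗[k] C) (g x)
    refine ⟨c, sub_eq_zero.mp (Groth.Agent.ExtMultLib.eq_zero_of_points (K := K) _ fun g => ?_)⟩
    have h := hc g
    simp only [I, RingHom.mem_ker, map_sub, AlgHom.commutes, Algebra.algebraMap_self_apply] at h
    rw [map_sub]
    exact h
  have hψn : Function.Surjective ψn := by
    refine (Module.FaithfullyFlat.lTensor_surjective_iff_surjective k K ψn.toLinearMap).mp fun y => ?_
    obtain ⟨c, hc⟩ := hF y
    refine ⟨c, Eq.trans ?_ hc⟩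
    clear hc
    induction c using TensorProduct.induction_on with
    | zero => simp
    | tmul a b => rfl
    | add a b ha hb => simp only [map_add, ha, hb]
  have hψni : Function.Injective ψn := by
    refine (injective_iff_map_eq_zero ψn).mpr fun c hc => ?_
    obtain ⟨n, hn⟩ := mem_nilradical.mp (Ideal.Quotient.eq_zero_iff_mem.mp hc)
    exact IsNilpotent.eq_zero ⟨n, hψ (((map_pow ψ c n).trans hn).trans (map_zero ψ).symm)⟩
  let e := AlgEquiv.ofBijective ψn ⟨hψni, hψn⟩
  let ra : A →ₐ[k] C := e.symm.toAlgHom.comp (Ideal.Quotient.mkₐ k _)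
  have hra : ∀ c, ra (ψ c) = c := fun c => e.symm_apply_apply c
  -- maps to reduced rings are determined on the image
  have hdet : ∀ (T : Type u) [CommRing T] [Algebra k T] [_root_.IsReduced T] (f g : A →ₐ[k] T),
      (∀ c, f (ψ c) = g (ψ c)) → f = g := by
    intro T _ _ _ f g h
    refine AlgHom.ext fun a => ?_
    obtain ⟨c, hc⟩ := hψn (Ideal.Quotient.mk _ a)
    have hn : IsNilpotent (a - ψ c) := mem_nilradical.mp (Ideal.Quotient.eq.mp hc.symm)
    have e1 := (hn.map f).eq_zero
    have e2 := (hn.map g).eq_zero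
    rw [map_sub, sub_eq_zero] at e1 e2
    rw [e1, e2, h]
  have hc1 : (Bialgebra.counitAlgHom k C).comp ra = Bialgebra.counitAlgHom k A := by
    refine hdet k _ _ fun c => ?_
    show Coalgebra.counit (R := k) (ra (ψ c)) = Coalgebra.counit (R := k) (ψ c)
    rw [hra, CoalgHomClass.counit_comp_apply]
  have hc2 : (Algebra.TensorProduct.map ra ra).comp (Bialgebra.comulAlgHom k A) =
      (Bialgebra.comulAlgHom k C).comp ra := by
    refine hdet (C ⊗[k] C) _ _ fun c => ?_
    show Algebra.TensorProduct.map ra ra (Coalgebra.comul (R := k) (ψ c)) = Coalgebra.comul (R := k) (ra (ψ c))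
    rw [hra, ← CoalgHomClass.map_comp_comul_apply ψ c]
    induction Coalgebra.comul (R := k) c using TensorProduct.induction_on with
    | zero => simp
    | tmul p q => simp [hra]
    | add p q hp hq => simp only [map_add, hp, hq]
  let r : A →ₐc[k] C := BialgHom.ofAlgHom ra hc1 hc2
  have huniq : ∀ s : A →ₐc[k] C, s.comp ψ = BialgHom.id k C → s = r := by
    intro s hs
    refine BialgHom.ext fun a => AlgHom.congr_fun (hdet C (s : A →ₐ[k] C) ra fun c => ?_) a
    rw [hra]
    exact DFunLike.congr_fun hs c
  refine ⟨⟨r, BialgHom.ext hra, fun s hs => huniq s hs⟩, fun s hs => ?_⟩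
  rw [huniq s hs]
  refine Ideal.ext fun a => ⟨fun ha => ?_, fun ha => ?_⟩
  · refine Ideal.Quotient.eq_zero_iff_mem.mp (e.symm.injective ?_)
    rw [map_zero]
    exact ha
  · show e.symm (Ideal.Quotient.mk _ a) = 0
    rw [Ideal.Quotient.eq_zero_iff_mem.mpr ha, map_zero]

end Groth.Agent.S5441
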