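import Groth.Statements.S5442
import Groth.Agent.MultConjLib.FixedScheme
import Groth.Agent.GrpSchLib.MonoSubgroup
-- import your own Groth.Agent.* helpers here

set_option autoImplicit false
universe u
open CategoryTheory MonoidalCategory CartesianMonoidalCategory MonObj GrpObj AlgebraicGeometry CategoryTheory.Limits
open SGA3x

namespace Groth.Agent.S5442

/-- Let S be a scheme, G an S-group scheme separated and smooth over S, and H an S-group of
multiplicative type and of finite type acting on G by group automorphisms (on points, h · (g g′) =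
(h · g)(h · g′)). Then the functor Z = G^H of invariants (points of G fixed by all points of H after
any base change) is representable by a closed subgroup scheme of G which is smooth over S: there are
an S-group Z and a homomorphism Z → G which is a closed immersion, with Z smooth over S, whose
points are exactly the invariant points. (The published statement allows any S-group of
multiplicative type; this row assumes it moreover of finite type.) -/
theorem result (S : Scheme.{u}) (H G : Over S) [GrpObj H] [GrpObj G] (hH : SGA3x.IsMultTypeFT H)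
    [IsSeparated G.hom] [Smooth G.hom] (a : AlgGrp.Action H G)
    (hmul : ∀ (X : Over S) (h : X ⟶ H) (g g' : X ⟶ G),
      lift h (g * g') ≫ a.act = (lift h g ≫ a.act) * (lift h g' ≫ a.act)) :
    ∃ (Z : Over S) (_ : GrpObj Z) (z : Z ⟶ G) (_ : IsMonHom z), IsClosedImmersion z.left ∧ Smooth Z.hom ∧
      ∀ (X : Over S) (g : X ⟶ G), (∃ x : X ⟶ Z, x ≫ z = g) ↔
        ∀ (X' : Over S) (f : X' ⟶ X) (h : X' ⟶ H), lift h (f ≫ g) ≫ a.act = f ≫ g := by
  obtain ⟨Z, c, hc, hsm, hpts⟩ := MultConjLib.exists_fixed_smooth hH a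
  haveI : Mono c.left := inferInstance
  haveI : Mono c := (Over.forget S).mono_of_mono_map (inferInstanceAs (Mono c.left))
  have hm : ∀ {T : Over S} (q : T ⟶ H) (u v : T ⟶ G), lift q u ≫ a.act = u → lift q v ≫ a.act = v →
      lift q (u * v) ≫ a.act = u * v := fun q u v hu hv => by rw [hmul, hu, hv]
  have hone : ∀ {T : Over S} (q : T ⟶ H), lift q (1 : T ⟶ G) ≫ a.act = 1 := fun q => by
    have h := hmul _ q 1 1
    rw [_root_.one_mul] at h
    exact left_eq_mul.mp h
  obtain ⟨η', hη⟩ := (hpts _ η[G]).mpr fun T t q => by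
    rw [show t ≫ η[G] = 1 from (congrArg (· ≫ η[G]) (toUnit_unique t (toUnit T))).trans rfl]
    exact hone q
  obtain ⟨μ', hμ⟩ := (hpts _ ((fst Z Z ≫ c) * (snd Z Z ≫ c))).mpr fun T t q => by
    rw [MonObj.comp_mul, ← Category.assoc, ← Category.assoc]
    refine hm q _ _ ?_ ?_
    · exact (Category.id_comp ((t ≫ fst Z Z) ≫ c)) ▸ (hpts _ ((t ≫ fst Z Z) ≫ c)).mp ⟨_, rfl⟩ T (𝟙 T) q
    · exact (Category.id_comp ((t ≫ snd Z Z) ≫ c)) ▸ (hpts _ ((t ≫ snd Z Z) ≫ c)).mp ⟨_, rfl⟩ T (𝟙 T) q
  obtain ⟨ι', hι⟩ := (hpts _ c⁻¹).mpr fun T t q => by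
    rw [GrpObj.comp_inv]
    have h1 := hmul T q (t ≫ c) (t ≫ c)⁻¹
    rw [mul_inv_cancel, hone, (hpts _ c).mp ⟨𝟙 Z, Category.id_comp c⟩ T t q] at h1
    exact (inv_eq_of_mul_eq_one_right h1.symm).symm
  obtain ⟨str, hstr⟩ := GrpSchLib.exists_grpObj_of_mono c η' hη μ' hμ ι' hι
  exact ⟨Z, str, c, hstr, hc, hsm, hpts⟩

end Groth.Agent.S5442
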