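import Groth.Statements.S5443
import Groth.Agent.GrpSchLib.OrbitAnyField
import Groth.Agent.GrpSchLib.LineVec
import Groth.Agent.ComodLib.Basic
import Groth.Prelude.Def_ComodSub

set_option autoImplicit false
universe u
open TensorProduct CategoryTheory MonoidalCategory CartesianMonoidalCategory MonObj GrpObj AlgebraicGeometry
open SGA3x

namespace Groth.Agent.S5443

open CategoryTheory.Limits GrpSchLib.Kunneth GrpSchLib.AffineHopf GrpSchLib.LineVec

set_option backward.isDefEq.respectTransparency false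
set_option backward.isDefEq.respectTransparency.types false

variable {k : Type u} [Field k]

theorem ev_spMap {A B : Type u} [CommRing A] [CommRing B] [HopfAlgebra k A] [HopfAlgebra k B] (f : B →ₐ[k] A) (b : B) :
    ev (spMap f) (toFn (k := k) (A := B) b) = toFn (k := k) (A := A) (f b) :=
  (ConcreteCategory.congr_hom (Scheme.ΓSpecIso_inv_naturality (CommRingCat.ofHom f.toRingHom)) b).symm

/-- An element of a subcomodule of the functions on a unipotent group produces a constant in it. -/
theorem exists_const_mem {A : Type u} [CommRing A] [HopfAlgebra k A] (hU : HopfRep.IsUnipotent k A)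
    (W : Submodule k A) (hW : HopfRep.IsSubcomod (k := k) (A := A) W) {w : A} (hw : w ∈ W) (hw0 : w ≠ 0) :
    ∃ c : k, c ≠ 0 ∧ algebraMap k A c ∈ W := by
  obtain ⟨U, hUle, hwU, hUs, S, hS⟩ := ComodLib.exists_fg_subcomod_mem (k := k) (C := A) w
  have hUW : U ≤ W := fun z hz => by
    obtain ⟨φ, rfl⟩ := hUle hz
    exact ComodLib.subcomod_actF_mem hW φ hw
  haveI : Module.Finite k U := by
    rw [Module.Finite.iff_fg]
    exact Submodule.FG.of_le (Submodule.fg_span S.finite_toSet) hS
  haveI : Nontrivial U := nontrivial_of_ne ⟨w, hwU⟩ 0 (fun h => hw0 (congrArg Subtype.val h))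
  letI : HopfRep.Comod k A U := ComodSub.Comod.restr (HopfRep.Comod.regular k A) U hUs
  obtain ⟨v, hv, hv0⟩ := Submodule.exists_mem_ne_zero_of_ne_bot (hU U inferInstance inferInstance)
  have h : Coalgebra.comul (R := k) (v : A) = (v : A) ⊗ₜ[k] (1 : A) := by
    refine (ComodSub.restr_coact_coe (HopfRep.Comod.regular k A) U hUs v).symm.trans ?_
    rw [show (ComodSub.Comod.restr (HopfRep.Comod.regular k A) U hUs).coact v = v ⊗ₜ[k] (1 : A) from hv]
    rfl
  have h2 := congrArg (TensorProduct.lid k A) (congrArg ((Coalgebra.counit (R := k) (A := A)).rTensor A) h)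
  rw [Coalgebra.rTensor_counit_comul, LinearMap.rTensor_tmul, TensorProduct.lid_tmul, TensorProduct.lid_tmul,
    one_smul] at h2
  refine ⟨Coalgebra.counit (R := k) (v : A), fun hc => hv0 (Subtype.ext ?_), ?_⟩
  · rw [h2, hc, zero_smul]; rfl
  · rw [Algebra.algebraMap_eq_smul_one, ← h2]
    exact hUW v.2

/-- Translates of a function on a scheme with an action, pulled back to the group through an orbit. -/
theorem comul_orbit {A : Type u} [CommRing A] [HopfAlgebra k A] {X : Over (Spec (CommRingCat.of k))}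
    (a : AlgGrp.Action (sp k A) X) (x : 𝟙_ (Over (Spec (CommRingCat.of k))) ⟶ X) {J : Type*}
    (e : J → Fn (sp k A)) (s : Finset J) (c : J → Fn X) (h : Fn X)
    (hexp : ∀ (T : Over (Spec (CommRingCat.of k))) (g : T ⟶ sp k A) (y : T ⟶ X),
      ev (lift g y ≫ a.act) h = ∑ l ∈ s, ev y (c l) * ev g (e l)) :
    Coalgebra.comul (R := k) ((toFn (k := k) (A := A)).symm
        (ev (ι[sp k A] ≫ a.orbitMap x) h)) =
      ∑ l ∈ s, (toFn (k := k) (A := A)).symm (ev (ι[sp k A] ≫ a.orbitMap x) (c l)) ⊗ₜ[k]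
        (toFn (k := k) (A := A)).symm (ev (ι[sp k A]) (e l)) := by
  let P1 : sp k (A ⊗[k] A) ⟶ sp k A := spMap (Algebra.TensorProduct.includeLeft : A →ₐ[k] A ⊗[k] A)
  let P2 : sp k (A ⊗[k] A) ⟶ sp k A := spMap (Algebra.TensorProduct.includeRight : A →ₐ[k] A ⊗[k] A)
  let Δ : A →ₐ[k] A ⊗[k] A := Bialgebra.comulAlgHom k A
  have hP : spMap Δ = P1 * P2 := by
    rw [spMap_mul]
    congr 1
    apply AlgHom.ext
    intro z
    refine Eq.trans ?_ (AlgHom.convMul_apply (WithConv.toConv _) (WithConv.toConv _) z).symm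
    show CoalgebraStruct.comul (R := k) z = _
    have hid : Algebra.TensorProduct.lift (Algebra.TensorProduct.includeLeft : A →ₐ[k] A ⊗[k] A)
        (Algebra.TensorProduct.includeRight : A →ₐ[k] A ⊗[k] A) (fun _ _ => .all ..) = AlgHom.id k (A ⊗[k] A) :=
      Algebra.TensorProduct.ext' fun p q => by simp
    exact (DFunLike.congr_fun hid _).symm
  have hgrp : ∀ (T : Over (Spec (CommRingCat.of k))) (g : T ⟶ sp k A),
      g ≫ a.orbitMap x = lift g (toUnit T ≫ x) ≫ a.act := fun T g => by
    rw [AlgGrp.Action.orbitMap, ← Category.assoc, comp_lift, Category.comp_id, ← Category.assoc, comp_toUnit]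
  apply (toFn (k := k) (A := A ⊗[k] A)).injective
  show toFn (k := k) (A := A ⊗[k] A) (Δ _) = _
  rw [← ev_spMap Δ, AlgEquiv.apply_symm_apply, ev_ev, hP,
    show (P1 * P2) ≫ ι[sp k A] ≫ a.orbitMap x = lift P2⁻¹ (P1 ≫ ι[sp k A] ≫ a.orbitMap x) ≫ a.act by
      rw [← Category.assoc, ← Hom.inv_def, _root_.mul_inv_rev, hgrp, ← GrpSchLib.act_mul,
        ← Category.assoc P1, ← Hom.inv_def, hgrp],
    hexp _ P2⁻¹ (P1 ≫ ι[sp k A] ≫ a.orbitMap x), map_sum]
  refine Finset.sum_congr rfl fun l _ => ?_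
  rw [show ((toFn (k := k) (A := A)).symm (ev (ι[sp k A] ≫ a.orbitMap x) (c l)) ⊗ₜ[k]
      (toFn (k := k) (A := A)).symm (ev (ι[sp k A]) (e l))) =
      (Algebra.TensorProduct.includeLeft : A →ₐ[k] A ⊗[k] A) ((toFn (k := k) (A := A)).symm (ev (ι[sp k A] ≫ a.orbitMap x) (c l))) *
      (Algebra.TensorProduct.includeRight : A →ₐ[k] A ⊗[k] A) ((toFn (k := k) (A := A)).symm (ev (ι[sp k A]) (e l))) by simp,
    map_mul, ← ev_spMap, ← ev_spMap, AlgEquiv.apply_symm_apply, AlgEquiv.apply_symm_apply, ev_ev, ev_ev,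
    Hom.inv_def]

/-- Let k be a field, A a finitely generated commutative Hopf algebra over k which is unipotent in the
fixed-vector sense (a unipotent algebraic group U = Spec A), X a k-scheme of finite type which is
quasi-affine, with an action of U, and x a k-rational point of X. Then the orbit of x — the
set-theoretic image of U under the orbit map g ↦ g · x — is closed in X. (The published statement
does not ask X to be of finite type over k; this row does.) -/
theorem result (k : Type u) [Field k] (A : Type u) [CommRing A] [HopfAlgebra k A] [Algebra.FiniteType k A]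
    (hU : HopfRep.IsUnipotent k A) (X : Over (Spec (CommRingCat.of k))) [LocallyOfFiniteType X.hom]
    (hX : Mor2.IsQuasiAffine X.hom)
    (a : AlgGrp.Action ((Spec (CommRingCat.of A)).asOver (Spec (CommRingCat.of k))) X)
    (x : 𝟙_ (Over (Spec (CommRingCat.of k))) ⟶ X) :
    IsClosed (Set.range (a.orbitMap x).left.base) := by
  classical
  haveI hqa : X.left.IsQuasiAffine := by
    haveI : Scheme.IsQuasiAffine ((⊤ : X.left.Opens) : Scheme.{u}) := hX.2 ⊤ (isAffineOpen_top _)
    haveI := hX.1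
    haveI : CompactSpace X.left := QuasiCompact.compactSpace_of_compactSpace X.hom
    exact Scheme.IsQuasiAffine.of_isImmersion (Scheme.topIso X.left).inv
  haveI : IsSeparated X.hom := inferInstance
  haveI : QuasiCompact X.hom := hX.1
  haveI : CompactSpace X.left := inferInstance
  haveI : LocallyOfFiniteType (sp k A).hom := by
    show LocallyOfFiniteType (Spec.map (CommRingCat.ofHom (algebraMap k A)))
    rw [HasRingHomProperty.Spec_iff (P := @LocallyOfFiniteType)]
    exact RingHom.finiteType_algebraMap.mpr ‹_›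
  haveI : IsAffineHom (sp k A).hom := inferInstance
  let G := sp k A
  let R : Set X.left := Set.range (a.orbitMap x).left
  show IsClosed R
  have hR : IsLocallyClosed R := GrpSchLib.OrbitAnyField.isLocallyClosed_orbit a x
  let C : TopologicalSpace.Closeds X.left := ⟨closure R \ R, ⟨hR.isOpen_coborder⟩⟩
  by_contra hnc
  obtain ⟨c₀, hc₀⟩ : (closure R \ R).Nonempty := by
    rw [Set.nonempty_iff_ne_empty]
    exact fun h => hnc (isClosed_of_closure_subset (Set.diff_eq_empty.mp h))
  -- a function with zeros on the boundary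
  let pt : (sp k A).left := (η[G] : 𝟙_ _ ⟶ G).left (IsLocalRing.closedPoint k)
  let x₀ : X.left := (ι[G] ≫ a.orbitMap x).left pt
  have hx₀ : x₀ ∈ R := ⟨_, rfl⟩
  obtain ⟨_, ⟨_, ⟨r, -, rfl⟩, rfl⟩, hxr, hrC⟩ := (Scheme.IsQuasiAffine.isBasis_basicOpen X.left).exists_subset_of_mem_open
    (show x₀ ∈ (C : Set X.left)ᶜ from fun h => h.2 hx₀) C.isClosed.isOpen_compl
  -- the boundary as a subscheme moved into itself
  let I := Scheme.IdealSheafData.vanishingIdeal C
  have hI : Set.range I.subschemeι = (C : Set X.left) := H23.RedSub.range_vanishingIdeal C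
  let Z : Over (Spec (CommRingCat.of k)) := Over.mk (I.subschemeι ≫ X.hom)
  let j : Z ⟶ X := Over.homMk I.subschemeι rfl
  haveI : QuasiCompact Z.hom := inferInstanceAs (QuasiCompact (I.subschemeι ≫ X.hom))
  haveI : IsSeparated Z.hom := inferInstanceAs (IsSeparated (I.subschemeι ≫ X.hom))
  haveI : QuasiCompact (G ⊗ Z).hom := inferInstanceAs (QuasiCompact (pullback.fst G.hom Z.hom ≫ G.hom))
  haveI : IsSeparated (G ⊗ Z).hom := inferInstanceAs (IsSeparated (pullback.fst G.hom Z.hom ≫ G.hom))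
  haveI : CompactSpace (G ⊗ Z).left := (quasiCompact_iff_compactSpace (G ⊗ Z).hom).mp inferInstance
  let ψ : G ⊗ Z ⟶ X := (G ◁ j) ≫ a.act
  have hψ : ∀ p, ψ.left p ∈ (C : Set X.left) := fun p => by
    refine GrpSchLib.OrbitAnyField.act_mem_boundary a x ((G ◁ j).left p) ?_
    have e : (snd G X).left ((G ◁ j).left p) = j.left ((snd G Z).left p) :=
      congrArg (fun z => z.left p) (whiskerLeft_snd G j)
    rw [e]
    exact hI.le ⟨_, rfl⟩
  obtain ⟨N, hN⟩ : IsNilpotent (ev ψ r) := by
    refine (Scheme.isNilpotent_iff_basicOpen_eq_bot _).mpr (TopologicalSpace.Opens.ext ?_)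
    refine Set.eq_empty_of_forall_notMem fun p hp => ?_
    rw [show (G ⊗ Z).left.basicOpen (ev ψ r) = ψ.left ⁻¹ᵁ X.left.basicOpen r from (Scheme.preimage_basicOpen ψ.left r).symm] at hp
    exact hrC hp (hψ p)
  let L : Submodule k (Fn X) := LinearMap.ker (ev ψ).toLinearMap
  have hfL : r ^ (N + 1) ∈ L := by
    show ev ψ (r ^ (N + 1)) = 0
    rw [map_pow, pow_succ, hN, MulZeroClass.zero_mul]
  let β : G ⟶ X := ι[G] ≫ a.orbitMap x
  let W : Submodule k A := L.map ((toFn (k := k) (A := A)).symm.toLinearMap ∘ₗ (ev β).toLinearMap)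
  have hW : HopfRep.IsSubcomod (k := k) (A := A) W := by
    rintro w ⟨h, hh, rfl⟩
    let b := Module.Basis.ofVectorSpace k (Fn G)
    obtain ⟨s, c, hs⟩ := exists_expand (X := X) (Y := G) b (ev (lift (snd X G) (fst X G) ≫ a.act) h)
    have hexp : ∀ (T : Over (Spec (CommRingCat.of k))) (g : T ⟶ G) (y : T ⟶ X),
        ev (lift g y ≫ a.act) h = ∑ l ∈ s, ev y (c l) * ev g (b l) := fun T g y => by
      have h1 := congrArg (ev (lift y g)) hs
      rw [map_sum, ev_ev, ← Category.assoc, comp_lift, lift_snd, lift_fst] at h1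
      rw [h1]
      exact Finset.sum_congr rfl fun l _ => by rw [map_mul, ev_ev, ev_ev, lift_fst, lift_snd]
    have hc : ∀ l ∈ s, c l ∈ L := by
      have e := hexp ((G ⊗ Z) ⊗ G) (snd (G ⊗ Z) G) (fst (G ⊗ Z) G ≫ ψ)
      have e0 : ev (lift (snd (G ⊗ Z) G) (fst (G ⊗ Z) G ≫ ψ) ≫ a.act) h = 0 := by
        let g₁ := snd (G ⊗ Z) G
        let g₂ := fst (G ⊗ Z) G ≫ fst G Z
        let z := fst (G ⊗ Z) G ≫ snd G Z
        have e1 : fst (G ⊗ Z) G ≫ ψ = lift g₂ (z ≫ j) ≫ a.act := by
          rw [← Category.assoc]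
          congr 1
          apply CartesianMonoidalCategory.hom_ext <;> simp [g₂, z, -Over.comp_left]
        have e2 : lift (g₁ * g₂) (z ≫ j) ≫ a.act = lift (g₁ * g₂) z ≫ ψ := by
          rw [← Category.assoc, lift_whiskerLeft]
        rw [e1, GrpSchLib.act_mul, e2, ← ev_ev, show ev ψ h = 0 from hh, map_zero]
      rw [e0] at e
      refine fun l hl => indep (X := G ⊗ Z) (Y := G) b.linearIndependent s (fun l => ev ψ (c l)) ?_ l hl
      refine Eq.trans ?_ e.symm
      exact Finset.sum_congr rfl fun l _ => by rw [ev_ev]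
    have hΔ := comul_orbit a x (fun l => b l) s c h hexp
    show Coalgebra.comul (R := k) ((toFn (k := k) (A := A)).symm (ev β h)) ∈ _
    rw [hΔ]
    refine Submodule.sum_mem _ fun l hl => ?_
    exact ⟨(⟨_, c l, hc l hl, rfl⟩ : W) ⊗ₜ[k] (toFn (k := k) (A := A)).symm (ev (ι[G]) (b l)), rfl⟩
  obtain ⟨c, hc0, hcW⟩ := exists_const_mem hU W hW (w := (toFn (k := k) (A := A)).symm (ev β (r ^ (N + 1))))
    ⟨_, hfL, rfl⟩ (by
      intro h
      rw [map_eq_zero_iff _ (toFn (k := k) (A := A)).symm.injective] at h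
      have hm : pt ∈ β.left ⁻¹ᵁ X.left.basicOpen (r ^ (N + 1)) := by
        rw [Scheme.basicOpen_pow _ _ (Nat.succ_pos N)]
        exact hxr
      rw [Scheme.preimage_basicOpen, show β.left.app ⊤ (r ^ (N + 1)) = 0 from h, Scheme.basicOpen_zero] at hm
      exact hm)
  obtain ⟨h, hh, hhc⟩ := hcW
  have hβc : ev β h = algebraMap k _ c := by
    have := congrArg (toFn (k := k) (A := A)) hhc
    rw [AlgEquiv.commutes] at this
    exact ((toFn (k := k) (A := A)).apply_symm_apply _).symm.trans this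
  have hαc : ev (a.orbitMap x) h = algebraMap k _ c := by
    have e : a.orbitMap x = ι[G] ≫ β := by
      show _ = ι[G] ≫ ι[G] ≫ a.orbitMap x
      rw [← Category.assoc, show ι[G] ≫ ι[G] = 𝟙 G by
        rw [← Hom.inv_def, show ι[G] = (𝟙 G)⁻¹ by rw [Hom.inv_def, Category.id_comp], _root_.inv_inv], Category.id_comp]
    rw [e, ← ev_ev, hβc, AlgHom.commutes]
  -- the function is constant on the closure and vanishes on the boundary
  let δ : Fn X := h - algebraMap k _ c
  have hδ : c₀ ∉ X.left.basicOpen δ := by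
    intro hc₀δ
    obtain ⟨y, hy, hyR⟩ := mem_closure_iff.mp hc₀.1 _ (X.left.basicOpen δ).isOpen hc₀δ
    obtain ⟨g, rfl⟩ := hyR
    have : g ∈ (a.orbitMap x).left ⁻¹ᵁ X.left.basicOpen δ := hy
    rw [Scheme.preimage_basicOpen, show (a.orbitMap x).left.app ⊤ δ = 0 from by
      show ev (a.orbitMap x) δ = 0
      rw [map_sub, hαc, AlgHom.commutes, sub_self], Scheme.basicOpen_zero] at this
    exact this
  have hhC : c₀ ∉ X.left.basicOpen h := by
    intro hc
    obtain ⟨z, hz⟩ := hI.ge hc₀
    have e : j = lift (1 : Z ⟶ G) (𝟙 Z) ≫ ψ := by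
      rw [← Category.assoc, lift_whiskerLeft, Category.id_comp, GrpSchLib.act_one]
    have : z ∈ j.left ⁻¹ᵁ X.left.basicOpen h := by
      show I.subschemeι z ∈ X.left.basicOpen h
      rw [hz]; exact hc
    rw [Scheme.preimage_basicOpen, show j.left.app ⊤ h = 0 from by
      show ev j h = 0
      rw [e, ← ev_ev, show ev ψ h = 0 from hh, map_zero], Scheme.basicOpen_zero] at this
    exact this
  have hunit : c₀ ∈ X.left.basicOpen (algebraMap k (Fn X) c) := by
    rw [Scheme.basicOpen_of_isUnit _ ((isUnit_iff_ne_zero.mpr hc0).map (algebraMap k (Fn X)))]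
    trivial
  rw [Scheme.mem_basicOpen_top] at hδ hhC hunit
  rw [show δ = h - algebraMap k _ c from rfl, map_sub] at hδ
  have hm := Ideal.sub_mem (IsLocalRing.maximalIdeal (X.left.presheaf.stalk c₀))
    ((IsLocalRing.mem_maximalIdeal _).mpr hhC) ((IsLocalRing.mem_maximalIdeal _).mpr hδ)
  rw [sub_sub_cancel] at hm
  exact (IsLocalRing.mem_maximalIdeal _).mp hm hunit

end Groth.Agent.S5443
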