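import Groth.Statements.S5522
import Groth.Agent.RootChartLib.Reduced
import Groth.Agent.RootData.BaseOf

set_option autoImplicit false
open CategoryTheory MonoidalCategory CartesianMonoidalCategory MonObj GrpObj AlgebraicGeometry
universe u
open RedSub

set_option backward.isDefEq.respectTransparency false
set_option backward.isDefEq.respectTransparency.types false

namespace Groth.Agent.S5522

/-- Let G be a split reductive group over a non-empty scheme S with splitting D. If R' is a closed set
of roots of the root datum of D containing no root together with its opposite, then R' is contained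
in a system of positive roots: there is a system of simple roots b with R' ⊆ R_+(b). (A statement
about the root datum, reached in the source through the subgroups H_{R'}.) -/
theorem result {S : Scheme.{u}} [Nonempty S] {G : Over S} [GrpObj G]
    (D : Red.SplitRed G) (R' : Set D.idx)
    (hcl : ∀ a b c : D.idx, a ∈ R' → b ∈ R' → D.P.root a + D.P.root b = D.P.root c → c ∈ R')
    (hneg : ∀ a ∈ R', D.P.reflectionPerm a a ∉ R') :
    ∃ b : D.P.Base, R' ⊆ RedSub.posRoots D.P b := by
    classical
    obtain ⟨s⟩ := ‹Nonempty S›
    let K := AlgebraicClosure (S.residueField s)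
    let a : AlgebraicGeometry.Spec (CommRingCat.of K) ⟶ S :=
      AlgebraicGeometry.Spec.map (CommRingCat.ofHom (algebraMap (S.residueField s) K)) ≫ S.fromSpecResidueField s
    haveI : D.P.IsReduced := ⟨fun i j h =>
      Groth.Agent.RootChartLib.root_eq_or_eq_neg D a (Groth.Agent.RootChartLib.model D a).iso i j h⟩
    haveI := Fintype.ofFinite D.idx
    obtain ⟨P', hP', hsub⟩ := Groth.Agent.RootData.exists_isPosSys_superset (P := D.P) (R' := R')
      (fun i j k hi hj hk => hcl i j k hi hj hk.symm) hneg
    obtain ⟨b, hb⟩ := Groth.Agent.RootData.exists_base_of_isPosSys hP'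
    exact ⟨b, fun i hi => by
      have h : i ∈ P' := hsub hi
      rw [← hb] at h
      exact h⟩

end Groth.Agent.S5522
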