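import Groth.Statements.S5629
import Groth.Agent.PerfGen7.PerfectCriterion
import Groth.Agent.PerfLocus7.RelTor
import Groth.Agent.KFlatLib.Perfect.Basic

set_option autoImplicit false
universe u
open CategoryTheory CategoryTheory.Limits AlgebraicGeometry Opposite
attribute [local instance] HasDerivedCategory.standard
open KSix

namespace Groth.Agent.S5629

/-- Last assertion (criterion of perfection by fibres): let f : X ⟶ S be flat and locally of finite
presentation and E ∈ D⁻(O_X). Then E is perfect if and only if E is perfect relative to f and, for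
every s ∈ S, the derived pullback E_{X_s} = Li_s^* E to the fibre is perfect. Since f is flat and
locally of finite presentation, "perfect relative to f" is written as: pseudo-coherent and locally
of finite tor dimension relative to S (locally represented by bounded complexes of S-flat modules).
The derived pullbacks to the fibres are taken under their existence binders. -/
theorem result {X S : Scheme.{u}} (f : X ⟶ S) [Flat f] [LocallyOfFinitePresentation f]
    [∀ s : S, DCoh.HasLpull (f.fiberι s)]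
    (E : DCoh.D X) (b : ℤ) [E.IsLE b] :
    DCoh.IsPerfect E ↔
      ((∀ m : ℤ, DCoh.IsPseudoCoherentD m E) ∧ DCoh.LocHasFiniteRelTorDim f E ∧
        ∀ s : S, DCoh.IsPerfect ((DCoh.Lpull (f.fiberι s)).obj E)) := by
  refine ⟨fun hE => ⟨fun m => (Groth.Agent.KFlatLib.isPseudoCoherentD_iff m E).2
      (((Groth.Agent.KFlatLib.isPerfect_iff E).1 hE).locPC m),
    Groth.Agent.PerfLocus7.locHasFiniteRelTorDim_of_isPerfect f hE,
    fun s => Groth.Agent.KFlatLib.isPerfect_lpull _ hE⟩, fun ⟨hpc, htor, hfib⟩ => ?_⟩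
  haveI : ∀ x : X, DCoh.HasLpull (X.fromSpecResidueField x) := fun x => Groth.Agent.KFlatLib.hasLpull _
  refine Groth.Agent.PerfGen7.PerfectCriterion.isPerfect_of_betti
    (fun m => (Groth.Agent.KFlatLib.isPseudoCoherentD_iff m E).1 (hpc m)) fun x => ?_
  obtain ⟨V, c, d, hxV, hV⟩ := htor x
  obtain ⟨G, hGz, -, ⟨eG⟩⟩ := hV _ ⟨DerivedCategory.Q.objObjPreimageIso E⟩
  obtain ⟨s, y, hy⟩ : ∃ (s : S) (y : ↥(f.fiber s)), (f.fiberι s).base y = x := by
    have h : x ∈ Set.range (f.fiberι (f x)) := by
      rw [Scheme.Hom.range_fiberι]; rfl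
    exact ⟨_, h⟩
  subst hy
  haveI : DCoh.HasLpull ((f.fiber s).fromSpecResidueField y) := Groth.Agent.KFlatLib.hasLpull _
  obtain ⟨U', j', _, ⟨y', hy'⟩, P', c', d', hP', hfree', ⟨eP'⟩⟩ :=
    Groth.Agent.KFlatLib.exists_free_rep (hfib s) y
  obtain ⟨n', e', hK', hn'⟩ := Groth.Agent.KFlatLib.exists_free_bounded hP' hfree'
  let a := min c c'
  refine ⟨_, V.ι, inferInstance, a, ⟨⟨_, hxV⟩, rfl⟩, fun i hi => ?_, ?_⟩
  · exact (ShortComplex.isZero_homology_of_isZero_X₂ (G.sc i) (hGz i (Or.inl (by omega)))).of_iso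
      ((DerivedCategory.homologyFunctor _ i).mapIso
          ((Groth.Agent.KFlatLib.rho V.ι).mapIso (DerivedCategory.Q.objObjPreimageIso E).symm ≪≫
            (Groth.Agent.KFlatLib.rhoQ V.ι).app _ ≪≫ eG.symm) ≪≫
        (DerivedCategory.homologyFunctorFactors _ i).app G)
  · obtain ⟨U, j, _, z, hz, P, hK, n, e, α, hα⟩ := Groth.Agent.PerfGen7.PerfectCriterion.exists_free_approx
      ((Groth.Agent.KFlatLib.isPseudoCoherentD_iff (a - 2) E).1 (hpc (a - 2))) ((f.fiberι s).base y)
    have h1 := Groth.Agent.KFlatLib.betti_formula ((DCoh.Lpull (f.fiberι s)).obj E) y j' y' hy' hK' e' eP'.hom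
      (Groth.Agent.KFlatLib.isPcMap_of_isIso (a - 2) eP'.hom) (a - 2) (a - 1) a (by omega) (by omega) (by omega)
    have h2 := hn' (a - 1) (Or.inl (by omega))
    rw [← Groth.Agent.KFlatLib.betti_lpull (f.fiberι s) E y j z hz hK e α hα (show a - 2 < a - 1 by omega)]
    omega

end Groth.Agent.S5629
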