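import Groth.Statements.S5630
import Groth.Agent.PerfGen7.RelTor.Abs

set_option autoImplicit false
universe u
open CategoryTheory CategoryTheory.Limits AlgebraicGeometry
attribute [local instance] HasDerivedCategory.standard
open KSix

namespace Groth.Agent.S5630

/-- Over the base S = Y and for f flat: let f : X ⟶ Y be flat, quasi-compact and quasi-separated with Y
quasi-compact, and let N be an integer such that R^i f_* F = 0 for all i > N and all quasi-coherent
O_X-modules F. If E ∈ D^b(O_X) has quasi-coherent cohomology and flat amplitude in [a, b] relative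
to Y (represented by a complex of Y-flat modules placed in [a, b]), then Rf_* E has tor amplitude in
[a, b + N] on Y. (The source allows any S-morphism f and tor amplitude relative to S; the relative
notion used here is the flat-representative one, adequate for flat f.) -/
theorem result {X Y : Scheme.{u}} (f : X ⟶ Y) [Flat f] [QuasiCompact f] [QuasiSeparated f]
    [CompactSpace Y] [DCoh.HasRpush f] (N : ℕ)
    (hN : ∀ (F : X.Modules), QCohCat.isQCoh X F →
      ∀ i : ℤ, (N : ℤ) < i → IsZero (DCoh.HD ((DCoh.Rpush f).obj (DCoh.inD X F)) i))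
    (E : DCoh.D X) (hqc : DCoh.IsQCohD E) (c d : ℤ) [E.IsGE c] [E.IsLE d]
    (a b : ℤ) (hE : DCoh.HasRelFlatAmplitudeIn f a b E) :
    DCoh.HasTorAmplitudeIn a (b + N) ((DCoh.Rpush f).obj E) := by
  let F := DerivedCategory.Q.objPreimage E
  let eF : DCoh.toD X F ≅ E := DerivedCategory.Q.objObjPreimageIso E
  obtain ⟨P, hz, hf, ⟨eP⟩⟩ := hE
  have hrel : DerSch.HasTorAmplitude f a b P := fun x =>
    ⟨(DerSch.stalkCxOver f x).obj P, fun i hi => (DerSch.stalkOver f x).map_isZero (hz i hi),
      fun i => hf i x, ⟨Iso.refl _⟩⟩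
  have hqP : DCoh.IsQCohD (DCoh.toD X P) := Groth.Agent.KFlatLib.isQCohD_of_iso eP.symm hqc
  let G := DerivedCategory.Q.objPreimage ((DCoh.Rpush f).obj (DCoh.toD X P))
  let eG : DCoh.toD Y G ≅ (DCoh.Rpush f).obj (DCoh.toD X P) := DerivedCategory.Q.objObjPreimageIso _
  obtain ⟨R, hRz, hRf, ⟨eR⟩⟩ := (Groth.Agent.PerfGen7.RelTor.flatAmplitude_iff_torAmplitude_id G a (b + N)).2
    fun y => Groth.Agent.PerfGen7.RelTor.torAmplitudeAt_rpush_of_bound f (𝟙 Y) f (Category.comp_id f) N
      hN hqP hrel G eG y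
  exact Groth.Agent.KFlatLib.torAmplitude_of_flatAmplitude
    ⟨R, hRz, hRf, ⟨eR ≪≫ eG ≪≫ (DCoh.Rpush f).mapIso eP⟩⟩

end Groth.Agent.S5630
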