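import Groth.Statements.S5632
import Groth.Agent.IntSym.MixedPos
import Groth.Agent.IntSym.Bridge
import Groth.Agent.HilbPoly.PnTwist
import Groth.Agent.NormX.NormalAmple
import Groth.Agent.QCoh.Support
import Groth.Agent.PnPic.Twist
import Groth.Agent.PnCoh.Chow.Pairing
import Groth.Agent.VolLib.Kodaira
import Groth.Agent.VolLib.UnifTools
import Groth.Agent.VolLib.UnifVan
import Groth.Agent.Lib.InvEnd
import Groth.Agent.CurveEmbed.Pow
import Groth.Agent.QCohSupX.RestrictLoc
import Groth.Agent.FComplLib.KrullSupp
import Groth.Agent.NakaiMo.Main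
import Groth.Agent.VarDim.Top

set_option autoImplicit false
set_option backward.isDefEq.respectTransparency false
set_option backward.isDefEq.respectTransparency.types false
set_option maxHeartbeats 1000000
set_option linter.style.haveILetI false
universe u
open CategoryTheory CategoryTheory.Limits AlgebraicGeometry
open Pic13

namespace Groth.Agent.S5632
open Groth.Agent Groth.Agent.H23.PicMul

/-- Let k be an algebraically closed field, X ⊆ P^n_k an integral closed subscheme of dimension r = s +
1 ≥ 1, with O_X(1) and O_X(-1) the restrictions of O(1) and O(-1). Let L be an invertible O_X-module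
with inverse L' (L ⊗ L' ≅ O_X) whose degree (c₁(L)·c₁(O_X(1))^{r-1}) is ≤ 0 and with H^0(X, L) ≠ 0.
Then L ≅ O_X (so that its degree is 0 and h^0(L) = 1). Intersection numbers are those of FGA.intNum,
which takes the inverse modules L', O_X(-1) as arguments. -/
theorem result (k : Type u) [Field k] [IsAlgClosed k] (n : ℕ) (X : Scheme.{u}) [X.Over (Spec (CommRingCat.of k))]
    (i : X ⟶ CohB1.ProjSpace n k) [IsClosedImmersion i] (hi : i ≫ CohB1.ProjSpace.toSpec n k = X ↘ Spec (CommRingCat.of k))
    [IsIntegral X] (s : ℕ) (hdim : topologicalKrullDim X = (s + 1 : ℕ))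
    (L L' : X.Modules) (hL : PicF.IsInvertible L) (hLL' : Nonempty (CohB1.tensorMod L L' ≅ Coh.structureModule X))
    (hdeg : FGA.intNum k X (s + 1)
      (Matrix.vecCons L' (fun _ : Fin s => (Scheme.Modules.pullback i).obj (Twist.twistProjSpace n k (-1))))
      (Coh.structureModule X) ≤ 0)
    (hsec : Nontrivial (Coh.HH X L 0)) :
    Nonempty (L ≅ Coh.structureModule X) := by
  haveI : IsProper (CohB1.ProjSpace.toSpec n k) := PnCoh.Chow.isProper_toSpec n k
  haveI : IsProper (X ↘ Spec (CommRingCat.of k)) := by rw [← hi]; infer_instance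
  haveI := Groth.Agent.CurveCohLib.isNoetherian_of_proper (k := k) (X := X)
  obtain ⟨eLL⟩ := hLL'
  let B := (Scheme.Modules.pullback i).obj (Twist.twistProjSpace n k 1)
  let B' := (Scheme.Modules.pullback i).obj (Twist.twistProjSpace n k (-1))
  have hB : CohB1.IsAmple B :=
    NormX.isAmple_pullback_affine i (HilbPoly.isAmple_twistProjSpace_one n k)
  have hB' : PicF.IsInvertible B' := PicClLib.isInvertible_pullback i (PnPic.isInvertible_twistProjSpace n k _)
  have hL' : PicF.IsInvertible L' := VolLib.isInvertible_of_inverse hL (CurveTensor.commIso L' L ≪≫ eLL)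
  obtain ⟨eBB⟩ : Nonempty (CohB1.tensorMod B B' ≅ Coh.structureModule X) := by
    obtain ⟨a⟩ := HilbPoly.nonempty_add n k 1 (-1)
    obtain ⟨z⟩ : Nonempty (Twist.twistProjSpace n k 0 ≅ Coh.structureModule (CohB1.ProjSpace n k)) :=
      cl_eq_iff.1 (by
        obtain ⟨a⟩ := HilbPoly.nonempty_add n k 0 0
        have h1 := cl_eq_iff.2 ⟨a⟩
        rw [add_zero, cl_tensor] at h1
        rw [← H23.PicMul.one_def]
        exact (isUnit_cl (PnPic.isInvertible_twistProjSpace n k 0)).mul_left_cancel (h1.trans (mul_one _).symm))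
    obtain ⟨o⟩ := PicClLib.nonempty_pullback_structureModule i
    obtain ⟨p⟩ := H23.PicMul.pull i (Twist.twistProjSpace n k 1) (Twist.twistProjSpace n k (-1))
    refine ⟨p.symm ≪≫ (Scheme.Modules.pullback i).mapIso (a ≪≫ eqToIso ?_ ≪≫ z) ≪≫ o⟩
    norm_num
  let O := Coh.structureModule X
  have hO : Coh.IsCoh O := QCoh.isCoh_structureModule'
  have hinvB : IntSym.Inv (List.replicate s B) := fun N hN => List.eq_of_mem_replicate hN ▸ hB.1
  have hdimO : ∀ (m : ℕ), s + 1 ≤ m → topologicalKrullDim ↥(CohB1.support O) ≤ (m : WithBot ℕ∞) := fun m hm =>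
    ((topologicalKrullDim_subspace_le X _).trans hdim.le).trans (by exact_mod_cast hm)
  have hflip : ∀ j : ℕ, ∀ l : List X.Modules, IntSym.Inv l → l.length + j = s + 1 →
      IntSym.sym k (List.replicate j B' ++ l) O = (-1) ^ j * IntSym.sym k (List.replicate j B ++ l) O := by
    intro j
    induction j with
    | zero => intro l _ _; simp
    | succ j ih =>
        intro l hl hlen
        have hl1 : IntSym.Inv (List.replicate j B' ++ l) := by
          intro N hN
          rcases List.mem_append.1 hN with h | h
          · exact List.eq_of_mem_replicate h ▸ hB'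
          · exact hl N h
        have hl2 : IntSym.Inv (B :: l) := fun N hN => by
          rcases List.mem_cons.1 hN with h | h
          · exact h ▸ hB.1
          · exact hl N h
        rw [List.replicate_succ, List.cons_append,
          IntSym.sym_inverse_head k hB' hB.1 (CurveTensor.commIso B' B ≪≫ eBB) hl1 hO
            (hdimO _ (by simp only [List.length_append, List.length_replicate]; omega)),
          ← IntSym.sym_perm k (l := List.replicate j B' ++ B :: l) (List.perm_middle) (by
            intro N hN
            rcases List.mem_append.1 hN with h | h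
            · exact List.eq_of_mem_replicate h ▸ hB'
            · exact hl2 N h),
          ih (B :: l) hl2 (by simp only [List.length_cons]; omega), pow_succ]
        rw [IntSym.sym_perm k (l := List.replicate j B ++ B :: l) (l' := B :: (List.replicate j B ++ l))
          List.perm_middle (by
            intro N hN
            rcases List.mem_append.1 hN with h | h
            · exact List.eq_of_mem_replicate h ▸ hB.1
            · exact hl2 N h)]
        simp only [List.replicate_succ, List.cons_append]
        ring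
  rw [IntSym.intNum_eq k (le_of_eq hdim) _ (Fin.cases hL' (fun _ => hB')) hO] at hdeg
  have hlist : List.ofFn (Matrix.vecCons L' fun _ : Fin s => B') = L' :: List.replicate s B' := by
    simp [List.ofFn_succ, List.ofFn_const]
  rw [hlist] at hdeg
  have hinvB' : IntSym.Inv (List.replicate s B') := fun N hN => List.eq_of_mem_replicate hN ▸ hB'
  rw [IntSym.sym_inverse_head k hL' hL (CurveTensor.commIso L' L ≪≫ eLL) hinvB' hO
      (hdimO _ (by rw [List.length_replicate])),
    IntSym.sym_perm k (l := L :: List.replicate s B') (l' := List.replicate s B' ++ [L])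
      (List.perm_append_singleton L _).symm (by
        intro N hN
        rcases List.mem_cons.1 hN with h | h
        · exact h ▸ hL
        · exact hinvB' N h),
    hflip s [L] (List.forall_mem_singleton.2 hL) (by simp only [List.length_singleton]; omega),
    IntSym.sym_perm k (l := List.replicate s B ++ [L]) (l' := L :: List.replicate s B)
      (List.perm_append_singleton L _) (by
        intro N hN
        rcases List.mem_append.1 hN with h | h
        · exact hinvB N h
        · exact List.mem_singleton.1 h ▸ hL)] at hdeg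
  replace hdeg : IntSym.sym k (L :: List.replicate s B) O ≤ 0 := by
    have h1 : ((-1 : ℤ) ^ s) * (-1) ^ s = 1 := by rw [← mul_pow]; norm_num
    have h2 : (-1 : ℤ) ^ (s + 1) * -((-1) ^ s * IntSym.sym k (L :: List.replicate s B) O) =
        IntSym.sym k (L :: List.replicate s B) O := by
      rw [pow_succ]
      linear_combination (IntSym.sym k (L :: List.replicate s B) O) * h1
    linarith
  -- the section
  obtain ⟨x0, hx0⟩ := exists_ne (0 : Coh.HH X L 0)
  let τ : Γ(L, ⊤) := Sheaf.H.equiv₀ (Coh.toAb L) isTerminalTop x0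
  have hτ : τ ≠ 0 := fun h0 => hx0
    ((Sheaf.H.equiv₀ (Coh.toAb L) isTerminalTop).injective (h0.trans (map_zero _).symm))
  let σ : O ⟶ L := InvX.ofSect τ
  haveI : Mono σ := InvEnd.mono_of_ne_zero InvX.isInvertible_structureModule hL σ (CurveEmbed.ofSect_ne_zero hτ)
  let C := cokernel σ
  have hC : Coh.IsCoh C := QCoh.isCoh_cokernel hO.1 (AmpleVan.isCoh_invertible hL) σ
  have hses : (ShortComplex.mk σ (cokernel.π σ) (cokernel.condition σ)).ShortExact :=
    { exact := ShortComplex.exact_of_g_is_cokernel _ (cokernelIsCokernel σ) }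
  have hout : ∀ z : X, z ∉ CohB1.support C ↔ z ∈ CohB1.genLocus L σ := by
    intro z
    refine ⟨fun hz => ?_, fun hz => ?_⟩
    · let V : X.Opens := ⟨(CohB1.support C)ᶜ, (QCoh.isClosed_support_of_isFT hC.1 hC.2).isOpen_compl⟩
      have hV := FComplLib.isZero_restrict_of_subsingleton_stalk C V fun y hy => not_not.1 hy
      let R := Scheme.Modules.restrictFunctor V.ι
      haveI : Mono (R.map σ) := inferInstance
      haveI : Epi (R.map σ) := ((ShortComplex.exact_of_g_is_cokernel
        (ShortComplex.mk σ (cokernel.π σ) (cokernel.condition σ)) (cokernelIsCokernel σ)).map R).epi_f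
          (hV.eq_of_tgt _ _)
      haveI := isIso_of_mono_of_epi (R.map σ)
      exact (le_sSup (show V ∈ {U : X.Opens | IsIso ((Scheme.Modules.restrictFunctor U.ι).map σ)} from
        ‹IsIso (R.map σ)›) : V ≤ CohB1.genLocus L σ) (show z ∈ V from hz)
    · obtain ⟨U, hzU, hU⟩ := InvX.mem_genLocus hz
      haveI := (InvX.isIso_restrict_iff σ U).2 hU
      exact HilbPoly.notMem_support_of_isZero_restrict (HilbPoly.isZero_restrict_cokernel U σ) hzU
  have hgen : genericPoint X ∉ CohB1.support C :=
    (hout _).2 (NakaiMo.genericPoint_mem_genLocus hL σ)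
  have hCdim : topologicalKrullDim ↥(CohB1.support C) ≤ (s : WithBot ℕ∞) := by
    have h := VolLib.dim_lt_of_subset_compl hdim (U := CohB1.genLocus L σ)
      (NakaiMo.genericPoint_mem_genLocus hL σ) (S := CohB1.support C) fun z hz hz' => (hout z).2 hz' hz
    revert h
    generalize topologicalKrullDim ↥(CohB1.support C) = w
    intro h
    rcases w with _ | w
    · exact bot_le
    · change (w : WithBot ℕ∞) < ((s + 1 : ℕ) : WithBot ℕ∞) at h
      change (w : WithBot ℕ∞) ≤ ((s : ℕ) : WithBot ℕ∞)
      rw [show ((s + 1 : ℕ) : WithBot ℕ∞) = (((s : ℕ∞) + 1 : ℕ∞) : WithBot ℕ∞) by push_cast; rfl] at h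
      exact WithBot.coe_le_coe.2 (ENat.lt_coe_add_one_iff.1 (WithBot.coe_lt_coe.1 h))
  obtain ⟨hnn, hpos⟩ := IntSym.sym_nonneg_and_pos k s (List.replicate s B) List.length_replicate
    (fun N hN => List.eq_of_mem_replicate hN ▸ hB) C hC hCdim
  have hsymC : IntSym.sym k (L :: List.replicate s B) O = IntSym.sym k (List.replicate s B) C := by
    have h1 : IntSym.sym k (List.replicate s B) ((AmpleVan.tw L).obj O) = IntSym.sym k (List.replicate s B) L :=
      IntSym.sym_iso k hinvB (cl_eq_iff.1 (by
        show PicF.cl (CohB1.tensorMod O L) = _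
        rw [cl_tensor, ← H23.PicMul.one_def, one_mul])).some
    rw [IntSym.sym_cons, h1, (IntSym.additive_sym k hinvB).add _ hses hO (AmpleVan.isCoh_invertible hL) hC]
    ring
  have hne : topologicalKrullDim ↥(CohB1.support C) ≠ (s : WithBot ℕ∞) := fun h => by
    have := hpos h
    omega
  have hempty : ∀ z : X, z ∉ CohB1.support C := by
    intro z hz
    obtain ⟨U, hzU, e, he⟩ := InvX.exists_frame hL z
    obtain ⟨U', hU'a, hzU', hU'le⟩ := exists_isAffineOpen_mem_and_subset (x := z) (U := U) hzU
    have he' := he.res (hU'le : U' ≤ U)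
    obtain ⟨g, hg⟩ := he'.exists_coord le_rfl (AModX.res L (le_top : U' ≤ ⊤) (InvX.one σ))
    rw [AModX.res_self] at hg
    have hloc := InvX.genLocus_inf σ he' hg
    obtain ⟨p, hp⟩ := VarDim.exists_fromSpec_eq hU'a hzU'
    obtain ⟨_, hft⟩ := VarDim.exists_algebra (X ↘ Spec (CommRingCat.of k)) hU'a
    haveI : IsNoetherianRing Γ(X, U') := Algebra.FiniteType.isNoetherianRing k _
    haveI : Nonempty U' := ⟨⟨z, hzU'⟩⟩
    have hgp : g ∈ p.asIdeal := by
      by_contra hgp
      refine (hout z).2 ?_ hz
      have : z ∈ CohB1.genLocus L σ ⊓ U' := by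
        rw [hloc, ← hp, ← Scheme.Hom.mem_preimage, hU'a.fromSpec_preimage_basicOpen g]
        exact hgp
      exact this.1
    have hg0 : g ≠ 0 := by
      rintro rfl
      have h1 : genericPoint X ∈ CohB1.genLocus L σ ⊓ U' := ⟨NakaiMo.genericPoint_mem_genLocus hL σ,
        (genericPoint_specializes z).mem_open U'.2 hzU'⟩
      rw [hloc, Scheme.basicOpen_zero] at h1
      exact h1
    obtain ⟨q, hq, hqp⟩ := Ideal.exists_minimalPrimes_le ((Ideal.span_singleton_le_iff_mem _).2 hgp)
    haveI : q.IsPrime := hq.1.1
    let P : PrimeSpectrum Γ(X, U') := ⟨q, inferInstance⟩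
    have hgq : g ∈ q := hq.1.2 (Ideal.mem_span_singleton_self g)
    have hh1 : q.height = 1 := by
      refine le_antisymm (Ideal.height_le_one_of_isPrincipal_of_mem_minimalPrimes (Ideal.span {g}) q hq) ?_
      refine Order.one_le_iff_pos.2 (pos_iff_ne_zero.2 fun h0 => hg0 ?_)
      have hmin : q ∈ minimalPrimes Γ(X, U') := Ideal.height_eq_zero_iff.1 h0
      rw [IsDomain.minimalPrimes_eq_singleton_bot, Set.mem_singleton_iff] at hmin
      rwa [hmin, Ideal.mem_bot] at hgq
    let y := hU'a.fromSpec P
    have hyU : y ∈ U' := VarDim.fromSpec_mem hU'a P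
    have hy : y ∈ CohB1.support C := by
      by_contra hy
      have h1 : y ∈ CohB1.genLocus L σ ⊓ U' := ⟨(hout y).1 hy, hyU⟩
      rw [hloc, ← Scheme.Hom.mem_preimage, hU'a.fromSpec_preimage_basicOpen g] at h1
      exact h1 hgq
    obtain ⟨c, hc, ⟨η, -, hη2⟩, hmax⟩ := VarDim.exists_deg_add_stalk (X ↘ Spec (CommRingCat.of k)) y
    have hc1 : c = 1 := by
      rw [VarDim.ringKrullDim_stalk_fromSpec hU'a P, ← PrimeSpectrum.height_eq_orderHeight] at hc
      change (q.height : WithBot ℕ∞) = _ at hc
      rw [hh1] at hc
      exact_mod_cast hc.symm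
    have hdX : VarDim.deg (X ↘ Spec (CommRingCat.of k)) (genericPoint X) = s + 1 := by
      have h := VarDim.topologicalKrullDim_eq_deg_genericPoint (X ↘ Spec (CommRingCat.of k))
      rw [hdim] at h
      exact_mod_cast h.symm
    have hle : VarDim.deg (X ↘ Spec (CommRingCat.of k)) η ≤ s + 1 := by
      have h := (topologicalKrullDim_subspace_le X (closure ({η} : Set X))).trans hdim.le
      rw [VarDim.topologicalKrullDim_closure_singleton (X ↘ Spec (CommRingCat.of k))] at h
      exact_mod_cast h
    have hge := hmax _ (genericPoint_specializes y)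
    have hys : VarDim.deg (X ↘ Spec (CommRingCat.of k)) y = s := by omega
    apply hne
    refine le_antisymm hCdim ?_
    have hsub : closure ({y} : Set X) ⊆ CohB1.support C :=
      closure_minimal (Set.singleton_subset_iff.2 hy) (QCoh.isClosed_support_of_isFT hC.1 hC.2)
    refine le_trans ?_ (H23.TopDim.dim_le_dim_of_subset hsub)
    rw [VarDim.topologicalKrullDim_closure_singleton (X ↘ Spec (CommRingCat.of k)), hys]
    rfl
  have hzC : IsZero C := PerfGen7.LowerBound.isZero_of_stalks _ fun z => Snapper.notMem_support_iff.1 (hempty z)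
  haveI : Epi σ := hses.exact.epi_f (hzC.eq_of_tgt _ _)
  haveI : IsIso σ := isIso_of_mono_of_epi σ
  exact ⟨(asIso σ).symm⟩

end Groth.Agent.S5632
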