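import Groth.Statements.S5633
import Groth.Agent.HodgeIdx.Restrict

set_option autoImplicit false
set_option backward.isDefEq.respectTransparency false
set_option backward.isDefEq.respectTransparency.types false
set_option maxHeartbeats 1000000
set_option linter.style.haveILetI false
universe u
open CategoryTheory CategoryTheory.Limits AlgebraicGeometry
open Pic13

namespace Groth.Agent.S5633
open Groth.Agent

/-- Let k be an algebraically closed field, Y a proper k-scheme with an ample invertible module H, φ a
global section of H and X ⊆ Y its zero scheme. Assume that for every irreducible component Y' of Y,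
every irreducible component of Y' ∩ X has dimension ≥ 2. Then an invertible O_Y-module whose
restriction to X is numerically equivalent to zero (degree 0 on every integral closed curve of X) is
numerically equivalent to zero on Y; that is, restriction of invertible modules modulo numerical
equivalence from Y to X is injective. -/
theorem result (k : Type u) [Field k] [IsAlgClosed k] (Y : Scheme.{u}) [Y.Over (Spec (CommRingCat.of k))]
    [IsProper (Y ↘ Spec (CommRingCat.of k))] (H : Y.Modules) (hH : CohB1.IsAmple H) (φ : Coh.structureModule Y ⟶ H)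
    (hdim : ∀ Z ∈ irreducibleComponents (Y : Type u),
      ∀ W ∈ irreducibleComponents ↥(Z ∩ Set.range (PicF2.zeroScheme H φ).subschemeι.base), 2 ≤ topologicalKrullDim ↥W)
    (L : Y.Modules) (hL : PicF.IsInvertible L)
    (hnum : @Pic13.IsNumEquivZero k _ (PicF2.zeroScheme H φ).subscheme
      ⟨(PicF2.zeroScheme H φ).subschemeι ≫ (Y ↘ Spec (CommRingCat.of k))⟩
      ((Scheme.Modules.pullback (PicF2.zeroScheme H φ).subschemeι).obj L)) :
    Pic13.IsNumEquivZero k Y L := by
  haveI := CurveCohLib.isNoetherian_of_proper (k := k) (X := Y)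
  let I := PicF2.zeroScheme H φ
  letI : I.subscheme.Over (Spec (CommRingCat.of k)) := ⟨I.subschemeι ≫ (Y ↘ Spec (CommRingCat.of k))⟩
  haveI : IsProper (I.subscheme ↘ Spec (CommRingCat.of k)) :=
    show IsProper (I.subschemeι ≫ (Y ↘ Spec (CommRingCat.of k))) from inferInstance
  have hI : Set.range I.subschemeι.base = ((CohB1.genLocus H φ : Y.Opens) : Set Y)ᶜ := by
    rw [Scheme.IdealSheafData.range_subschemeι]
    exact Set.ext fun x => DepthTwist.mem_support_zeroScheme_iff hH.1 φ x
  -- curves in the zero scheme
  have hcurY : ∀ (C : Scheme.{u}) (i : C ⟶ Y) [IsClosedImmersion i] [IsIntegral C], topologicalKrullDim C = 1 →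
      Set.range i ⊆ ((CohB1.genLocus H φ : Y.Opens) : Set Y)ᶜ →
      IntSym.sym k [L] ((Coh.push i).obj (Coh.structureModule C)) = 0 := by
    intro C i _ _ hC hCs
    obtain ⟨v, hv⟩ := H23.RedSub.exists_lift_closed i I.subschemeι (hCs.trans hI.ge)
    haveI : IsClosedImmersion v := by
      haveI : IsClosedImmersion (v ≫ I.subschemeι) := by rw [hv]; infer_instance
      exact IsClosedImmersion.of_comp v I.subschemeι
    haveI := CurveCohLib.isNoetherian_of_proper (k := k) (X := I.subscheme)
    have h1 := hnum C v inferInstance hC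
    rw [IntSym.curveDeg_eq k v hC (PicClLib.isInvertible_pullback _ hL)] at h1
    have h3 := HodgeIdx.sym_pullback_list k I.subschemeι rfl [L] (List.forall_mem_singleton.2 hL)
      (F := (Coh.push v).obj (Coh.structureModule C)) (QCoh.isCoh_push_structure v)
      ((H23.TopDim.dim_le_dim_of_subset (QCoh.support_push_subset v QCoh.isQCoh_structureModule)).trans
        ((IntSym.dim_eq_of_range v rfl).symm.trans hC).le)
    refine (IntSym.sym_iso k (List.forall_mem_singleton.2 hL) ?_).trans (h3.symm.trans h1)
    exact eqToIso (by rw [hv]) ≪≫ ((Scheme.Modules.pushforwardComp v I.subschemeι).app (Coh.structureModule C)).symm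
  intro C i hi hCI hC
  haveI := hi; haveI := hCI
  rw [IntSym.curveDeg_eq k i hC hL]
  -- the component
  obtain ⟨Z, hZ, hCZ⟩ : ∃ Z ∈ irreducibleComponents (Y : Type u), Set.range i ⊆ Z := by
    obtain ⟨Z, hZ1, hsub, hmax⟩ := exists_preirreducible (Set.range i)
      ((IrreducibleSpace.isIrreducible_univ C).image i i.continuous.continuousOn |>.2 |> fun h => by
        rwa [Set.image_univ] at h)
    refine ⟨Z, ⟨⟨(Set.range_nonempty i).mono hsub, hZ1⟩, fun W hW hZW => (hmax W hW.2 hZW).le⟩, hsub⟩
  have hZirr : IsIrreducible Z := hZ.1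
  have hZc : IsClosed Z := isClosed_of_mem_irreducibleComponents Z hZ
  obtain ⟨z, hz⟩ := QuasiSober.sober hZirr hZc
  obtain ⟨R, j, hj, hR, hr⟩ := HodgeIdx.exists_integral_closure z
  haveI := hj; haveI := hR
  have hrZ : Set.range j = Z := hr.trans hz
  letI : R.Over (Spec (CommRingCat.of k)) := ⟨j ≫ (Y ↘ Spec (CommRingCat.of k))⟩
  haveI : IsProper (R ↘ Spec (CommRingCat.of k)) :=
    show IsProper (j ≫ (Y ↘ Spec (CommRingCat.of k))) from inferInstance
  haveI := CurveCohLib.isNoetherian_of_proper (k := k) (X := R)
  obtain ⟨e⟩ := PicClLib.nonempty_pullback_structureModule j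
  let ψ := e.symm.hom ≫ (Scheme.Modules.pullback j).map φ
  have hψ : CohB1.genLocus _ ψ = j ⁻¹ᵁ CohB1.genLocus H φ := InvX.genLocus_pullback j hH.1 φ e.symm
  by_cases hgen : genericPoint R ∈ CohB1.genLocus _ ψ
  · obtain ⟨v, hv⟩ := H23.RedSub.exists_lift_closed i j (hCZ.trans hrZ.ge)
    haveI : IsClosedImmersion v := by
      haveI : IsClosedImmersion (v ≫ j) := by rw [hv]; infer_instance
      exact IsClosedImmersion.of_comp v j
    have hjL := PicClLib.isInvertible_pullback j hL
    have hR' := HodgeIdx.isNumEquivZero_of_section k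
      (AmpleVan.isAmple_pullback_of_isEmbedding j j.isClosedEmbedding.isEmbedding hH) hjL ψ hgen
      (fun hne => by
        obtain ⟨x, hx⟩ := hne
        rw [hψ] at hx ⊢
        let S := Z ∩ Set.range I.subschemeι.base
        have hxS : j x ∈ S := ⟨hrZ.le ⟨x, rfl⟩, hI.ge hx⟩
        obtain ⟨W, hW, -⟩ := exists_preirreducible ({⟨j x, hxS⟩} : Set S) Set.subsingleton_singleton.isPreirreducible
        have h2 := (hdim Z hZ _ (irreducibleComponent_mem_irreducibleComponents (⟨j x, hxS⟩ : S))).trans
          (topologicalKrullDim_subspace_le _ _)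
        have himg : S = j '' (↑(j ⁻¹ᵁ CohB1.genLocus H φ) : Set R)ᶜ := by
          ext y
          constructor
          · rintro ⟨hy, hy'⟩
            obtain ⟨w, rfl⟩ := hrZ.ge hy
            exact ⟨w, hI.le hy', rfl⟩
          · rintro ⟨w, hw, rfl⟩
            exact ⟨hrZ.le ⟨w, rfl⟩, hI.ge hw⟩
        rw [Nat.cast_ofNat]
        refine h2.trans (le_of_eq ?_)
        change topologicalKrullDim ↥S = _
        rw [himg]
        exact ((j.isClosedEmbedding.isEmbedding.homeomorphImage _).isHomeomorph.topologicalKrullDim_eq).symm)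
      (fun D d _ _ hD hDs => by
        have h3 := HodgeIdx.sym_pullback_list k j rfl [L] (List.forall_mem_singleton.2 hL)
          (F := (Coh.push d).obj (Coh.structureModule D)) (QCoh.isCoh_push_structure d)
          ((H23.TopDim.dim_le_dim_of_subset (QCoh.support_push_subset d QCoh.isQCoh_structureModule)).trans
            ((IntSym.dim_eq_of_range d rfl).symm.trans hD).le)
        refine h3.trans ((IntSym.sym_iso k (List.forall_mem_singleton.2 hL)
          ((Scheme.Modules.pushforwardComp d j).app (Coh.structureModule D))).trans (hcurY D (d ≫ j) hD ?_))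
        rintro _ ⟨w, rfl⟩
        have := hDs ⟨w, rfl⟩
        rw [hψ] at this
        exact this)
    have h1 := hR' C v inferInstance hC
    rw [IntSym.curveDeg_eq k v hC hjL] at h1
    have h3 := HodgeIdx.sym_pullback_list k j rfl [L] (List.forall_mem_singleton.2 hL)
      (F := (Coh.push v).obj (Coh.structureModule C)) (QCoh.isCoh_push_structure v)
      ((H23.TopDim.dim_le_dim_of_subset (QCoh.support_push_subset v QCoh.isQCoh_structureModule)).trans
        ((IntSym.dim_eq_of_range v rfl).symm.trans hC).le)
    refine (IntSym.sym_iso k (List.forall_mem_singleton.2 hL) ?_).trans (h3.symm.trans h1)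
    exact eqToIso (by rw [hv]) ≪≫ ((Scheme.Modules.pushforwardComp v j).app (Coh.structureModule C)).symm
  · refine hcurY C i hC fun y hy hyg => hgen ?_
    obtain ⟨w, rfl⟩ := hrZ.ge (hCZ hy)
    rw [hψ]
    exact (genericPoint_specializes w).mem_open (j ⁻¹ᵁ CohB1.genLocus H φ).isOpen hyg

end Groth.Agent.S5633
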