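import Groth.Statements.S5644
import Groth.Agent.Bounded.CurveSS
import Groth.Agent.IntSym.Bridge
import Groth.Agent.VolLib.Kodaira
import Mathlib.Algebra.Group.ForwardDiff
-- import your own Groth.Agent.* helpers here

set_option autoImplicit false
set_option linter.style.haveILetI false
set_option backward.isDefEq.respectTransparency false
set_option backward.isDefEq.respectTransparency.types false
set_option maxHeartbeats 800000
universe u
open CategoryTheory CategoryTheory.Limits AlgebraicGeometry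
open Pic13
open Groth.Agent.H23.PicMul
open scoped Groth.Agent.H23.PicMul

namespace Groth.Agent.S5644

theorem iter_shift (f : ℕ → ℤ) (c : ℕ) : ∀ (j x : ℕ), (fwdDiff (1 : ℕ))^[j] (fun y => f (y + c)) x = (fwdDiff (1 : ℕ))^[j] f (x + c) := by
  intro j
  induction j with
  | zero => intro x; rfl
  | succ j ih =>
    intro x
    rw [Function.iterate_succ_apply', Function.iterate_succ_apply', fwdDiff, fwdDiff, ih, ih, Nat.add_right_comm]

theorem iter_zero (j : ℕ) : (fwdDiff (1 : ℕ))^[j] (fun _ : ℕ => (0 : ℤ)) = fun _ => 0 := by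
  induction j with
  | zero => rfl
  | succ j ih =>
    rw [Function.iterate_succ_apply', ih]
    funext x
    simp [fwdDiff]

theorem iter_one {j : ℕ} (hj : 0 < j) : (fwdDiff (1 : ℕ))^[j] (fun _ : ℕ => (1 : ℤ)) = fun _ => 0 := by
  obtain ⟨j, rfl⟩ : ∃ i, j = i + 1 := ⟨j - 1, by omega⟩
  rw [Function.iterate_succ_apply]
  have h : (fwdDiff (1 : ℕ)) (fun _ : ℕ => (1 : ℤ)) = fun _ => 0 := by funext x; simp [fwdDiff]
  rw [h, iter_zero]

theorem iter_choose (j i : ℕ) :
    (fwdDiff (1 : ℕ))^[j] (fun m : ℕ => ((m + i).choose i : ℤ)) 0 = if j ≤ i then (i.choose (i - j) : ℤ) else 0 := by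
  rw [iter_shift (fun y => (y.choose i : ℤ)) i j 0, Nat.zero_add]
  split_ifs with h
  · obtain ⟨e, rfl⟩ := Nat.exists_eq_add_of_le h
    rw [fwdDiff_iter_choose e j, Nat.add_sub_cancel_left]
  · obtain ⟨e, he⟩ : ∃ e, j = e + i := ⟨j - i, by omega⟩
    subst he
    have h0 : (fwdDiff (1 : ℕ))^[i] (fun y => (y.choose i : ℤ)) = fun _ => (1 : ℤ) := by
      have := fwdDiff_iter_choose 0 i
      simpa using this
    rw [Function.iterate_add_apply, h0, iter_one (by omega)]

theorem iter_sum {r : ℕ} (a : Fin r → ℤ) (j : ℕ) :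
    (fwdDiff (1 : ℕ))^[j] (fun m : ℕ => ∑ i : Fin r, a i * ((m + i).choose i : ℤ)) 0 =
      ∑ i : Fin r, a i * (if j ≤ (i : ℕ) then ((i : ℕ).choose ((i : ℕ) - j) : ℤ) else 0) := by
  have h : (fun m : ℕ => ∑ i : Fin r, a i * ((m + i).choose i : ℤ)) =
      ∑ i : Fin r, a i • fun m : ℕ => ((m + i).choose i : ℤ) := by
    funext m
    simp [Finset.sum_apply]
  rw [h, fwdDiff_iter_finsetSum, Finset.sum_apply]
  refine Finset.sum_congr rfl fun i _ => ?_
  rw [fwdDiff_iter_const_smul, Pi.smul_apply, smul_eq_mul, iter_choose]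

theorem sym_twistOn (k : Type u) [Field k] {n : ℕ} {X : Scheme.{u}} [X.Over (Spec (CommRingCat.of k))]
    [IsProper (X ↘ Spec (CommRingCat.of k))] (i : X ⟶ CohB1.ProjSpace n k) [IsClosedImmersion i] (F : X.Modules) :
    ∀ (j m : ℕ), IntSym.sym k (List.replicate j ((Scheme.Modules.pullback i).obj (Twist.twistProjSpace n k 1)))
        (Pic13.twistOn k i F m) =
      (fwdDiff (1 : ℕ))^[j] (fun m : ℕ => Curv2.euler k X (Pic13.twistOn k i F m)) m := by
  set H := (Scheme.Modules.pullback i).obj (Twist.twistProjSpace n k 1)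
  intro j
  induction j with
  | zero => intro m; rfl
  | succ j ih =>
    intro m
    have hl : IntSym.Inv (List.replicate j H) := fun N hN =>
      List.eq_of_mem_replicate hN ▸ Bounded.isInvertible_pullTwist i 1
    obtain ⟨e⟩ := HilbPoly.nonempty_add n k (m : ℤ) 1
    let d : CohB1.tensorMod ((Scheme.Modules.pullback i).obj (Twist.twistProjSpace n k (m : ℤ))) H ≅
        (Scheme.Modules.pullback i).obj (Twist.twistProjSpace n k (((m + 1 : ℕ) : ℤ))) :=
      (IntNum.pullTensor i _ _).symm ≪≫ (Scheme.Modules.pullback i).mapIso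
        (e ≪≫ eqToIso (congrArg (Twist.twistProjSpace n k) (Nat.cast_add_one m).symm))
    obtain ⟨e'⟩ : Nonempty ((AmpleVan.tw H).obj (Pic13.twistOn k i F m) ≅ Pic13.twistOn k i F ((m + 1 : ℕ) : ℤ)) :=
      ⟨(AmpleVan.twComp ((Scheme.Modules.pullback i).obj (Twist.twistProjSpace n k (m : ℤ))) H).app F ≪≫
        (DCoh.tensorBi.obj F).mapIso d⟩
    rw [List.replicate_succ, IntSym.sym_cons, IntSym.sym_iso k hl e', ih, ih, Function.iterate_succ_apply', fwdDiff]

theorem intNum_inverse (k : Type u) [Field k] {X : Scheme.{u}} [X.Over (Spec (CommRingCat.of k))]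
    [IsProper (X ↘ Spec (CommRingCat.of k))] {s : ℕ} (hd : topologicalKrullDim X ≤ ((s + 1 : ℕ) : WithBot ℕ∞))
    {A A' H H' : X.Modules} (hA : PicF.IsInvertible A) (hA' : PicF.IsInvertible A') (hH : PicF.IsInvertible H)
    (hH' : PicF.IsInvertible H') (eA : CohB1.tensorMod A' A ≅ Coh.structureModule X)
    (eH : CohB1.tensorMod H' H ≅ Coh.structureModule X) :
    FGA.intNum k X (s + 1) (Matrix.vecCons A' (fun _ : Fin s => H')) (Coh.structureModule X) =
      IntSym.sym k (A :: List.replicate s H) (Coh.structureModule X) := by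
  haveI := CurveCohLib.isNoetherian_of_proper (k := k) (X := X)
  have hO : Coh.IsCoh (Coh.structureModule X) := QCoh.isCoh_structureModule' (X := X)
  have hdO : topologicalKrullDim ↥(CohB1.support (Coh.structureModule X)) ≤ ((s + 1 : ℕ) : WithBot ℕ∞) :=
    (topologicalKrullDim_subspace_le X _).trans hd
  rw [IntSym.intNum_eq k hd _ (fun j => by
    cases j using Fin.cases with
    | zero => exact hA'
    | succ j => exact hH') hO]
  rw [show List.ofFn (Matrix.vecCons A' (fun _ : Fin s => H')) = A' :: List.replicate s H' by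
    rw [List.ofFn_succ, ← List.ofFn_const]; rfl]
  have key : ∀ j : ℕ, j ≤ s → IntSym.sym k (A' :: List.replicate s H') (Coh.structureModule X) =
      (-1) ^ j * IntSym.sym k (A' :: (List.replicate j H ++ List.replicate (s - j) H')) (Coh.structureModule X) := by
    intro j
    induction j with
    | zero => intro _; simp
    | succ j ih =>
      intro hj
      obtain ⟨c, hc⟩ : ∃ c, s - j = c + 1 := ⟨s - j - 1, by omega⟩
      have hl : IntSym.Inv (A' :: (List.replicate j H ++ List.replicate c H')) :=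
        List.forall_mem_cons.2 ⟨hA', List.forall_mem_append.2 ⟨fun N hN => List.eq_of_mem_replicate hN ▸ hH,
          fun N hN => List.eq_of_mem_replicate hN ▸ hH'⟩⟩
      have hlen : (A' :: (List.replicate j H ++ List.replicate c H')).length + 1 = s + 1 := by
        simp only [List.length_cons, List.length_append, List.length_replicate]; omega
      have p1 : List.Perm (A' :: (List.replicate j H ++ H' :: List.replicate c H'))
          (H' :: A' :: (List.replicate j H ++ List.replicate c H')) :=
        (List.perm_middle.cons A').trans (List.Perm.swap _ _ _)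
      have p2 : List.Perm (H :: A' :: (List.replicate j H ++ List.replicate c H'))
          (A' :: (List.replicate (j + 1) H ++ List.replicate c H')) := by
        rw [List.replicate_succ, List.cons_append]
        exact List.Perm.swap _ _ _
      rw [ih (by omega), hc, List.replicate_succ (n := c),
        IntSym.sym_perm k p1 (fun N hN => (List.forall_mem_cons.2 ⟨hH', hl⟩) N (p1.subset hN)),
        IntSym.sym_inverse_head k hH' hH eH hl hO (by rw [hlen]; exact hdO),
        IntSym.sym_perm k p2 (List.forall_mem_cons.2 ⟨hH, hl⟩),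
        show s - (j + 1) = c by omega, pow_succ]
      ring
  have hl : IntSym.Inv (List.replicate s H) := fun N hN => List.eq_of_mem_replicate hN ▸ hH
  rw [key s le_rfl, Nat.sub_self, List.replicate_zero, List.append_nil,
    IntSym.sym_inverse_head k hA' hA eA hl hO (by rw [List.length_replicate]; exact hdO), pow_succ]
  have h1 : ((-1 : ℤ) ^ s) * ((-1) ^ s) = 1 := by rw [← mul_pow]; simp
  linear_combination (IntSym.sym k (A :: List.replicate s H) (Coh.structureModule X)) * h1

/-- Let k be an algebraically closed field, X ⊆ P^n_k an integral closed subscheme of dimension r = s +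
1, O_X(1) and O_X(-1) the restrictions of O(1) and O(-1), and L an invertible O_X-module with
inverse L'. Write the Hilbert polynomials in the binomial basis, χ(L(m)) = Σ_{j ≤ r} a_j C(m+j, j)
and χ(O_X(m)) = Σ_{j ≤ r} e_j C(m+j, j) for m ≥ 0 (Euler characteristics in degrees ≤ r). Then (i)
a_r = e_r = (c₁(O_X(1))^r), the degree of X, and (ii) a_{r-1} - e_{r-1} = (c₁(L)·c₁(O_X(1))^{r-1}),
the degree of L. Intersection numbers are those of FGA.intNum, which takes the inverse modules L',
O_X(-1) as arguments. -/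
theorem result (k : Type u) [Field k] [IsAlgClosed k] (n : ℕ) (X : Scheme.{u}) [X.Over (Spec (CommRingCat.of k))]
    (i : X ⟶ CohB1.ProjSpace n k) [IsClosedImmersion i] (hi : i ≫ CohB1.ProjSpace.toSpec n k = X ↘ Spec (CommRingCat.of k))
    [IsIntegral X] (s : ℕ) (hdim : topologicalKrullDim X = (s + 1 : ℕ))
    (L L' : X.Modules) (hL : PicF.IsInvertible L) (hLL' : Nonempty (CohB1.tensorMod L L' ≅ Coh.structureModule X))
    (a e : Fin (s + 2) → ℤ)
    (ha : ∀ m : ℕ, FGA.eulerCharLE k X (Pic13.twistOn k i L m) (s + 1) = ∑ j : Fin (s + 2), a j * ((m + j).choose j : ℤ))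
    (he : ∀ m : ℕ, FGA.eulerCharLE k X (Pic13.twistOn k i (Coh.structureModule X) m) (s + 1) =
      ∑ j : Fin (s + 2), e j * ((m + j).choose j : ℤ)) :
    a (Fin.last (s + 1)) = e (Fin.last (s + 1)) ∧
      a (Fin.last (s + 1)) = FGA.intNum k X (s + 1)
        (fun _ : Fin (s + 1) => (Scheme.Modules.pullback i).obj (Twist.twistProjSpace n k (-1))) (Coh.structureModule X) ∧
      a (Fin.castSucc (Fin.last s)) - e (Fin.castSucc (Fin.last s)) = FGA.intNum k X (s + 1)
        (Matrix.vecCons L' (fun _ : Fin s => (Scheme.Modules.pullback i).obj (Twist.twistProjSpace n k (-1))))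
        (Coh.structureModule X) := by
  haveI : IsProper (CohB1.ProjSpace.toSpec n k) := PnCoh.Chow.isProper_toSpec n k
  haveI : IsProper (X ↘ Spec (CommRingCat.of k)) := by rw [← hi]; infer_instance
  haveI := CurveCohLib.isNoetherian_of_proper (k := k) (X := X)
  let H := (Scheme.Modules.pullback i).obj (Twist.twistProjSpace n k 1)
  let H' := (Scheme.Modules.pullback i).obj (Twist.twistProjSpace n k (-1))
  have hH : PicF.IsInvertible H := Bounded.isInvertible_pullTwist i 1
  have hH' : PicF.IsInvertible H' := Bounded.isInvertible_pullTwist i (-1)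
  obtain ⟨eH⟩ : Nonempty (CohB1.tensorMod H' H ≅ Coh.structureModule X) := by
    obtain ⟨e⟩ := HilbPoly.nonempty_add n k (-1) 1
    rw [show (-1 : ℤ) + 1 = 0 from rfl] at e
    exact ⟨(IntNum.pullTensor i _ _).symm ≪≫ (Scheme.Modules.pullback i).mapIso
      (e ≪≫ (asIso (PnCoh.Finite.oneHom (𝒜 := CohB1.polyGrading n k))).symm) ≪≫ CurveBC.unitIso i⟩
  obtain ⟨eL⟩ := hLL'
  have eL' : CohB1.tensorMod L' L ≅ Coh.structureModule X := CurveTensor.commIso L' L ≪≫ eL
  have hL' : PicF.IsInvertible L' := VolLib.isInvertible_of_inverse hL eL'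
  have hd : topologicalKrullDim X ≤ ((s + 1 : ℕ) : WithBot ℕ∞) := hdim.le
  have hO : Coh.IsCoh (Coh.structureModule X) := QCoh.isCoh_structureModule' (X := X)
  have hdO : topologicalKrullDim ↥(CohB1.support (Coh.structureModule X)) ≤ ((s + 1 : ℕ) : WithBot ℕ∞) :=
    (topologicalKrullDim_subspace_le X _).trans hd
  have hl : ∀ j, IntSym.Inv (List.replicate j H) := fun j N hN => List.eq_of_mem_replicate hN ▸ hH
  have h0 : ∀ F : X.Modules, Nonempty (Pic13.twistOn k i F ((0 : ℕ) : ℤ) ≅ F) := fun F => by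
    rw [Nat.cast_zero]
    exact ⟨(DCoh.tensorBi.obj F).mapIso ((Scheme.Modules.pullback i).mapIso
      (asIso (PnCoh.Finite.oneHom (𝒜 := CohB1.polyGrading n k))).symm ≪≫ CurveBC.unitIso i) ≪≫ AmpleVan.twUnit.app F⟩
  have hsym : ∀ (F : X.Modules), Coh.IsCoh F → ∀ c : Fin (s + 2) → ℤ,
      (∀ m : ℕ, FGA.eulerCharLE k X (Pic13.twistOn k i F m) (s + 1) = ∑ j : Fin (s + 2), c j * ((m + j).choose j : ℤ)) →
      IntSym.sym k (List.replicate (s + 1) H) F = c (Fin.last (s + 1)) ∧
      IntSym.sym k (List.replicate s H) F =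
        c (Fin.castSucc (Fin.last s)) + c (Fin.last (s + 1)) * ((s + 1 : ℕ) : ℤ) := by
    intro F hF c hc
    have hfun : (fun m : ℕ => Curv2.euler k X (Pic13.twistOn k i F m)) =
        fun m : ℕ => ∑ j : Fin (s + 2), c j * ((m + j).choose j : ℤ) := by
      funext m
      rw [← hc m]
      exact (IntSym.eulerCharLE_eq_euler k hd (Bounded.isCoh_twistOn i hF m).1).symm
    have hj : ∀ j, IntSym.sym k (List.replicate j H) F =
        ∑ l : Fin (s + 2), c l * (if j ≤ (l : ℕ) then ((l : ℕ).choose ((l : ℕ) - j) : ℤ) else 0) := fun j => by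
      rw [← IntSym.sym_iso k (hl j) (h0 F).some, sym_twistOn k i F j 0, hfun, iter_sum]
    rw [hj, hj, Fin.sum_univ_castSucc, Fin.sum_univ_castSucc, Fin.sum_univ_castSucc (n := s + 1), Fin.sum_univ_castSucc (n := s)]
    constructor
    · rw [Finset.sum_eq_zero fun l _ => ?_, if_neg (by simp), if_pos (by simp)]
      · simp
      · rw [if_neg (by simp only [Fin.val_castSucc]; omega), mul_zero]
    · rw [Finset.sum_eq_zero fun l _ => ?_, if_pos (by simp), if_pos (by simp)]
      · simp [Nat.choose_one_right]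
      · rw [if_neg (by simp only [Fin.val_castSucc]; omega), mul_zero]
  obtain ⟨hL1, hL2⟩ := hsym L (AmpleVan.isCoh_invertible hL) a ha
  obtain ⟨hO1, hO2⟩ := hsym _ hO e he
  obtain ⟨eOL⟩ : Nonempty ((AmpleVan.tw L).obj (Coh.structureModule X) ≅ L) := cl_eq_iff.1 (by
    show PicF.cl (CohB1.tensorMod _ _) = _
    rw [cl_tensor, ← H23.PicMul.one_def, one_mul])
  have htop : a (Fin.last (s + 1)) = e (Fin.last (s + 1)) := by
    rw [← hL1, ← hO1, ← IntSym.sym_iso k (hl _) eOL]
    exact IntSym.sym_twist k hL (hl _) hO (by rw [List.length_replicate]; exact hdO)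
  refine ⟨htop, ?_, ?_⟩
  · rw [htop, ← hO1, show (fun _ : Fin (s + 1) => H') = Matrix.vecCons H' (fun _ : Fin s => H') by
      funext j; cases j using Fin.cases <;> rfl, intNum_inverse k hd hH hH' hH hH' eH eH, ← List.replicate_succ]
  · rw [intNum_inverse k hd hL hL' hH hH' eL' eH, IntSym.sym_cons, IntSym.sym_iso k (hl s) eOL, hL2, hO2, htop]
    ring

end Groth.Agent.S5644
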