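import Groth.Statements.S5645
import Groth.Agent.PicBnd.Descend
import Groth.Agent.PicBnd.Pts
import Groth.Agent.InvFam.Family
import Groth.Agent.LineDesc.DisjointMod

set_option autoImplicit false
set_option backward.isDefEq.respectTransparency false
set_option backward.isDefEq.respectTransparency.types false
set_option maxHeartbeats 1000000
set_option linter.style.haveILetI false
universe u
open CategoryTheory CategoryTheory.Limits AlgebraicGeometry
open Pic13

namespace Groth.Agent.S5645
open Groth.Agent TopologicalSpace Opposite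

/-- Over an algebraically closed field k: let X be a proper k-scheme and let the k-scheme P, with the
maps φ_T from isomorphism classes of modules on X ×_k T to k-morphisms T ⟶ P, represent the
étale-sheafified relative Picard functor of X over k. For an invertible O_X-module L let p(L) ∈ P be
the k-point φ_{Spec k}([L]). Then a family of invertible O_X-modules is bounded (all members occur
among the fibres at k-points of one coherent module on some X ×_k T, T of finite type) if and only
if the points p(L) of its members lie in a common quasi-compact open subset of P. (The published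
statement is over a Noetherian base, for subsets of the Picard scheme and families of classes on the
fibres; this row is the case of an algebraically closed base field.) -/
theorem result (k : Type u) [Field k] [IsAlgClosed k] (X : Scheme.{u}) [X.Over (Spec (CommRingCat.of k))]
    [IsProper (X ↘ (Spec (CommRingCat.of k)))] (P : Over (Spec (CommRingCat.of k)))
    (φ : ∀ T : Over (Spec (CommRingCat.of k)), PicF.Cl (PicF.XT (X ↘ (Spec (CommRingCat.of k))) T) → (T ⟶ P))
    (hP : PicRel.IsRelPic (X ↘ (Spec (CommRingCat.of k))) P φ)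
    (Q : X.Modules → Prop) (hQ : ∀ L, Q L → PicF.IsInvertible L) :
    Pic13.IsBounded k X Q ↔ ∃ U : P.left.Opens, IsCompact (U : Set ↥P.left) ∧
      ∀ L, Q L → Set.range (φ (Over.mk (𝟙 (Spec (CommRingCat.of k))))
        (PicF.pullCl (pullback.fst (X ↘ (Spec (CommRingCat.of k))) (𝟙 (Spec (CommRingCat.of k)))) (PicF.cl L))).left.base ⊆ (U : Set ↥P.left) := by
  classical
  let S := Spec (CommRingCat.of k)
  let str := X ↘ Spec (CommRingCat.of k)
  let cl₀ : X.Modules → PicF.Cl (PicF.XT str (PicBnd.pt k)) := fun L =>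
    PicF.pullCl (pullback.fst str (𝟙 S)) (PicF.cl L)
  have hcl₀ : ∀ L, PicF.IsInvertible L → PicF.IsInvertibleCl (cl₀ L) := fun L hL =>
    PicClLib.isInvertibleCl_pullCl _ ⟨L, rfl, hL⟩
  constructor
  · intro hb
    obtain ⟨N, C, hC⟩ := InvFam.exists_pieces hb
    let g : ∀ i, (C i).T ⟶ P.left := fun i => (φ (Over.mk (C i).q) (PicF.cl (C i).M)).left
    let K : Set ↥P.left := ⋃ i, Set.range (g i)
    have hK : IsCompact K := isCompact_iUnion fun i => by
      haveI := (C i).qc
      haveI : CompactSpace (C i).T := QuasiCompact.compactSpace_of_compactSpace (C i).q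
      exact isCompact_range (g i).continuous
    choose W hW hpW _hWt using fun p : ↥P.left => exists_isAffineOpen_mem_and_subset (x := p) (U := ⊤) trivial
    obtain ⟨s, hs⟩ := hK.elim_finite_subcover (fun p => (W p : Set ↥P.left)) (fun p => (W p).2)
      (fun p _ => Set.mem_iUnion.2 ⟨p, hpW p⟩)
    refine ⟨⨆ p ∈ s, W p, ?_, fun L hL => ?_⟩
    · simp only [Opens.coe_iSup]
      exact s.finite_toSet.isCompact_biUnion fun p _ => (hW p).isCompact
    · obtain ⟨i, t, ht, ⟨e⟩⟩ := hC L hL (hQ L hL)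
      have h1 : cl₀ L = PicF.pullCl (PicF.XTmap str (Over.homMk t ht : PicBnd.pt k ⟶ Over.mk (C i).q))
          (PicF.cl (C i).M) := by
        rw [PicBnd.pullCl_XTmap_point]
        exact congrArg (PicF.pullCl _) (Quot.sound ⟨e.symm⟩)
      show Set.range (φ (PicBnd.pt k) (cl₀ L)).left.base ⊆ _
      rw [h1, hP.natural _ _ _ _ ⟨_, rfl, (C i).inv⟩]
      rintro _ ⟨z, rfl⟩
      have h2 : (t ≫ g i).base z ∈ K := Set.mem_iUnion.2 ⟨i, t z, rfl⟩
      simpa [Opens.coe_iSup] using hs h2
  · rintro ⟨U, hU, hmem⟩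
    let T : Over S := Over.mk (U.ι ≫ P.hom)
    let inc : T ⟶ P := Over.homMk U.ι rfl
    obtain ⟨ι', Ui, hcov, hc⟩ := hP.locallySurjective T inc
    choose c hci hcφ using hc
    choose i y hy using hcov
    choose W hW hyW _hWt using fun p : T.left => exists_isAffineOpen_mem_and_subset (x := y p) (U := ⊤) trivial
    let w : ∀ p : T.left, (W p : Scheme.{u}) ⟶ T.left := fun p => (W p).ι ≫ (Ui (i p)).hom
    haveI : ∀ p, Etale (w p) := fun p => by
      haveI : Etale (Ui (i p)).hom := (Ui (i p)).prop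
      exact MorphismProperty.comp_mem _ _ _ inferInstance inferInstance
    haveI : CompactSpace ↥T.left := isCompact_iff_compactSpace.1 hU
    obtain ⟨s, hs⟩ := isCompact_univ.elim_finite_subcover (fun p : T.left => Set.range (w p))
      (fun p => (w p).isOpenMap.isOpen_range) (fun p _ => Set.mem_iUnion.2 ⟨p, ⟨y p, hyW p⟩, hy p⟩)
    let J : Type u := ↥(↑s : Set T.left)
    let Ws : J → Scheme.{u} := fun p => (W p.1 : Scheme.{u})
    haveI : ∀ p, IsAffine (Ws p) := fun p => hW p.1
    haveI : Finite J := s.finite_toSet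
    let qV : ∐ Ws ⟶ S := Limits.Sigma.desc fun p : J => w p.1 ≫ T.hom
    let jW : ∀ p : J, Over.mk (w p.1 ≫ T.hom) ⟶ Over.mk qV := fun p => Over.homMk (Limits.Sigma.ι Ws p) (Limits.Sigma.ι_desc _ _)
    let hp : ∀ p : J, Over.mk (w p.1 ≫ T.hom) ⟶ PicRel.ovr T (Ui (i p.1)) := fun p =>
      Over.homMk (W p.1).ι (by
        show (W p.1).ι ≫ (Ui (i p.1)).hom ≫ T.hom = _
        rw [← Category.assoc]; rfl)
    let d : ∀ p : J, PicF.Cl (PicF.XT str (Over.mk (w p.1 ≫ T.hom))) := fun p =>
      PicF.pullCl (PicF.XTmap str (hp p)) (c (i p.1))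
    have hd : ∀ p, PicF.IsInvertibleCl (d p) := fun p => PicClLib.isInvertibleCl_pullCl _ (hci _)
    have hpb : ∀ p, IsPullback (PicF.XTmap str (jW p)) (pullback.snd str (w p.1 ≫ T.hom))
        (pullback.snd str qV) (Limits.Sigma.ι Ws p) := by
      intro p
      refine IsPullback.of_right ?_ (pullback.lift_snd _ _ _) (IsPullback.of_hasPullback str qV)
      rw [show PicF.XTmap str (jW p) ≫ pullback.fst str qV = pullback.fst str (w p.1 ≫ T.hom) from
          (pullback.lift_fst _ _ _).trans (Category.comp_id _),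
        show Limits.Sigma.ι Ws p ≫ qV = w p.1 ≫ T.hom from Limits.Sigma.ι_desc _ _]
      exact IsPullback.of_hasPullback str (w p.1 ≫ T.hom)
    haveI : ∀ p, IsOpenImmersion (PicF.XTmap str (jW p)) := fun p =>
      MorphismProperty.of_isPullback (hpb p).flip inferInstance
    have hrange : ∀ p, Set.range (PicF.XTmap str (jW p)) = pullback.snd str qV ⁻¹' Set.range (Limits.Sigma.ι Ws p) :=
      fun p => by
        rw [← Scheme.Pullback.range_fst, ← (hpb p).isoPullback_hom_fst, Scheme.Hom.comp_base, TopCat.coe_comp,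
          Set.range_comp, Set.range_eq_univ.2 (hpb p).isoPullback.hom.surjective, Set.image_univ]
        rfl
    obtain ⟨M, hM, hMd⟩ := LineDesc.exists_invertible_of_disjoint (fun p => PicF.XTmap str (jW p))
      (fun z => by
        obtain ⟨⟨p, a⟩, ha⟩ := (sigmaMk Ws).surjective (pullback.snd str qV z)
        rw [sigmaMk_mk] at ha
        exact ⟨p, (hrange p).ge ⟨a, ha⟩⟩)
      (fun p p' hne => by
        rw [disjoint_iff_inf_le]
        rintro z ⟨h1, h2⟩
        exact ((disjoint_opensRange_sigmaι Ws p p' hne).le_bot ⟨(hrange p).le h1, (hrange p').le h2⟩).elim)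
      d hd
    obtain ⟨T₀, q₀, F, g₀, hq₀, hqc₀, hF, hgF⟩ := PicBnd.exists_coh_family qV M hM
    refine ⟨T₀, q₀, hq₀, hqc₀, F, hF, fun L hL => ?_⟩
    let pL := φ (PicBnd.pt k) (cl₀ L)
    have hrU : Set.range pL.left.base ⊆ Set.range U.ι.base := by
      rw [Scheme.Opens.range_ι]; exact hmem L hL
    let pU : S ⟶ T.left := IsOpenImmersion.lift U.ι pL.left hrU
    have hpU : pU ≫ U.ι = pL.left := IsOpenImmersion.lift_fac _ _ _
    have hpUw : pU ≫ T.hom = 𝟙 S := by
      show pU ≫ U.ι ≫ P.hom = 𝟙 S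
      rw [← Category.assoc, hpU]; exact Over.w pL
    obtain ⟨_, ⟨p, rfl⟩, hps⟩ := hs (Set.mem_univ (pU (IsLocalRing.closedPoint k)))
    obtain ⟨_, ⟨hpmem, rfl⟩, z, hz⟩ := hps
    let p' : J := ⟨p, hpmem⟩
    haveI : Nonempty ↥(pullback (w p) pU) := by
      obtain ⟨o, -, -⟩ := Scheme.Pullback.exists_preimage_pullback (f := w p) (g := pU) z (IsLocalRing.closedPoint k) hz
      exact ⟨o⟩
    obtain ⟨σ, hσ⟩ := PicBnd.exists_point (pullback.snd (w p) pU)
    let t : S ⟶ (W p : Scheme.{u}) := σ ≫ pullback.fst (w p) pU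
    have ht : t ≫ w p = pU := by
      rw [Category.assoc, pullback.condition, ← Category.assoc, hσ, Category.id_comp]
    let tW : PicBnd.pt k ⟶ Over.mk (w p'.1 ≫ T.hom) := Over.homMk t (by
      show t ≫ w p ≫ T.hom = 𝟙 S
      rw [← Category.assoc, ht, hpUw])
    let t₀ : S ⟶ T₀ := (tW ≫ jW p' ≫ g₀).left
    have ht₀ : t₀ ≫ q₀ = 𝟙 S := Over.w (tW ≫ jW p' ≫ g₀)
    refine ⟨t₀, ht₀, ?_⟩
    have hcl : PicF.pullCl (PicF.XTmap str (Over.homMk t₀ ht₀ : PicBnd.pt k ⟶ Over.mk q₀)) (PicF.cl F) =
        PicF.pullCl (PicF.XTmap str tW) (d p') := by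
      rw [show (Over.homMk t₀ ht₀ : PicBnd.pt k ⟶ Over.mk q₀) = tW ≫ jW p' ≫ g₀ from Over.OverMorphism.ext rfl,
        PicClLib.XTmap_comp, PicClLib.XTmap_comp, ← PicClLib.pullCl_comp, ← PicClLib.pullCl_comp, hgF, hMd]
    have hinv : PicF.IsInvertibleCl (PicF.pullCl (PicF.XTmap str tW) (d p')) :=
      PicClLib.isInvertibleCl_pullCl _ (hd p')
    have hφ : φ (PicBnd.pt k) (PicF.pullCl (PicF.XTmap str tW) (d p')) = φ (PicBnd.pt k) (cl₀ L) := by
      rw [hP.natural _ _ tW _ (hd p'), show d p' = PicF.pullCl (PicF.XTmap str (hp p')) (c (i p'.1)) from rfl,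
        hP.natural _ _ (hp p') _ (hci _), hcφ]
      refine Over.OverMorphism.ext ?_
      show t ≫ (W p).ι ≫ (Ui (i p)).hom ≫ U.ι = pL.left
      rw [← hpU, ← ht]
      simp only [w, Category.assoc]
    have heq := PicBnd.eq_of_phi_eq hP hinv (hcl₀ L (hQ L hL)) hφ
    rw [← hcl, PicBnd.pullCl_XTmap_point] at heq
    exact (PicGrp.cl_eq_cl_iff _ _).1 (PicBnd.pullCl_fst_injective heq)

end Groth.Agent.S5645
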