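import Groth.Statements.S5650
import Groth.Agent.IsoLocus.Basic
import Groth.Agent.RGLib.Lim8Quot
import Groth.Agent.RGLib.Lim8Exact
import Groth.Agent.QCoh.DevissageP
-- import your own Groth.Agent.* helpers here

set_option autoImplicit false
attribute [-instance] CategoryTheory.catToReflQuiver
set_option linter.style.haveILetI false
set_option backward.isDefEq.respectTransparency false
set_option backward.isDefEq.respectTransparency.types false
universe u
open CategoryTheory CategoryTheory.Limits AlgebraicGeometry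
open FlatMor

namespace Groth.Agent.S5650

open TopologicalSpace Topology Groth.Agent

theorem isIso_map_of_comp {X Y Z : Scheme.{u}} {g : Z ⟶ Y} {h : Y ⟶ X} {k : Z ⟶ X} (e : g ≫ h = k)
    {M N : X.Modules} (v : M ⟶ N) :
    IsIso ((Scheme.Modules.pullback g).map ((Scheme.Modules.pullback h).map v)) ↔
      IsIso ((Scheme.Modules.pullback k).map v) := by
  rw [RGLib.Lim8.pullback_map_map g h k e v, isIso_comp_left_iff, isIso_comp_right_iff]

theorem support_pullback_cokernel {X Y : Scheme.{u}} (q : Y ⟶ X) {M N : X.Modules} (v : M ⟶ N)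
    [Epi ((Scheme.Modules.pullback q).map v)] : IsZero ((Scheme.Modules.pullback q).obj (cokernel v)) :=
  (isZero_cokernel_of_epi ((Scheme.Modules.pullback q).map v)).of_iso
    (PreservesCokernel.iso (Scheme.Modules.pullback q) v)

/-- Let X ⟶ S be proper and of finite presentation, u : F ⟶ G a morphism of finitely presented
O_X-modules with G flat over S. Then the subfunctor of S 'making u an isomorphism' is represented by
an open subscheme of S of finite presentation over S: there is a quasi-compact open U ⊆ S such that,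
for every scheme T and t : T ⟶ S, the pullback of u to X ×_S T is an isomorphism if and only if the
image of t lies in U. -/
theorem result {X S : Scheme.{u}} (f : X ⟶ S) [IsProper f] [LocallyOfFinitePresentation f]
    (F G : X.Modules) (hF : CohB1.IsFP F) (hG : CohB1.IsFP G) (hGfl : FlatMod.IsFlatOver f G) (u : F ⟶ G) :
    ∃ U : S.Opens, QuasiCompact U.ι ∧
      ∀ (T : Scheme.{u}) (t : T ⟶ S),
        IsIso ((Scheme.Modules.pullback (pullback.fst f t)).map u) ↔ Set.range t.base ⊆ (U : Set S) := by
  classical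
  have hFq : Coh.IsQCoh F := QCoh.isQCoh_of_isFP hF
  have hGq : Coh.IsQCoh G := QCoh.isQCoh_of_isFP hG
  have hCq : Coh.IsQCoh (cokernel u) := QCoh.isQCoh_cokernel hFq hGq u
  have hC : CohB1.IsFP (cokernel u) := RGLib.Lim8.isFP_cokernel u hFq (QCoh.isFT_of_isFP hF) hGq hG
  let O₁ : X.Opens := ⟨(CohB1.support (cokernel u))ᶜ,
    (QCoh.isClosed_support_of_isFT hCq (QCoh.isFT_of_isFP hC)).isOpen_compl⟩
  let G' := (Scheme.Modules.pullback O₁.ι).obj G
  let u' := (Scheme.Modules.pullback O₁.ι).map u
  haveI : Epi u' := by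
    refine Preadditive.epi_of_isZero_cokernel _ (IsZero.of_iso ?_ (PreservesCokernel.iso _ u).symm)
    refine IsoLocus.isZero_of_support_eq_empty (QCoh.isQCoh_pullback _ hCq) ?_
    rw [QCoh.support_pullback _ hCq (QCoh.isFT_of_isFP hC)]
    exact Set.eq_empty_of_forall_notMem fun x hx => x.2 hx
  have hF'q := QCoh.isQCoh_pullback O₁.ι hFq
  have hG'q := QCoh.isQCoh_pullback O₁.ι hGq
  have hfl' : FlatMod.IsFlatOver (O₁.ι ≫ f) G' := fun w =>
    AssCycles.isFlatOverAt_restrict f O₁ G w (hGfl _)
  have hK : CohB1.IsFP (kernel u') :=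
    S4887.result (O₁.ι ≫ f) _ _ (RGLib.Lim8.isFP_pullback _ hFq hF) (RGLib.Lim8.isFP_pullback _ hGq hG) hfl' u'
  have hKq : Coh.IsQCoh (kernel u') := QCoh.isQCoh_of_isFP hK
  let O₂ : (O₁ : Scheme.{u}).Opens := ⟨(CohB1.support (kernel u'))ᶜ,
    (QCoh.isClosed_support_of_isFT hKq (QCoh.isFT_of_isFP hK)).isOpen_compl⟩
  have hiso : IsIso ((Scheme.Modules.pullback O₂.ι).map u') := by
    haveI := RGLib.Lim8.preservesFiniteLimits_pullback O₂.ι
    haveI : Mono ((Scheme.Modules.pullback O₂.ι).map u') := by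
      refine Preadditive.mono_of_isZero_kernel _ (IsZero.of_iso ?_ (PreservesKernel.iso _ u').symm)
      refine IsoLocus.isZero_of_support_eq_empty (QCoh.isQCoh_pullback _ hKq) ?_
      rw [QCoh.support_pullback _ hKq (QCoh.isFT_of_isFP hK)]
      exact Set.eq_empty_of_forall_notMem fun x hx => x.2 hx
    haveI : Epi ((Scheme.Modules.pullback O₂.ι).map u') := inferInstance
    exact isIso_of_mono_of_epi _
  let V : X.Opens := O₁.ι ''ᵁ O₂
  have hV : IsRetrocompact (V : Set X) := by
    intro O hO hOo
    have h1 : IsCompact (O₁.ι ⁻¹' O) := by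
      rw [O₁.ι.isOpenEmbedding.isInducing.isCompact_iff, Set.image_preimage_eq_inter_range, Scheme.Opens.range_ι]
      exact IsoLocus.isCompact_sdiff_support hCq hC hOo hO
    have h2 := (IsoLocus.isCompact_sdiff_support hKq hK (hOo.preimage O₁.ι.continuous) h1).image O₁.ι.continuous
    rwa [Set.diff_eq, Set.image_preimage_inter, Set.inter_comm] at h2
  have hVc : IsLocallyConstructible ((V : Set X)ᶜ) :=
    (hV.isConstructible V.2).compl.isLocallyConstructible
  have hZ : IsClosed (f '' (V : Set X)ᶜ) := f.isClosedMap _ V.2.isClosed_compl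
  refine ⟨⟨(f '' (V : Set X)ᶜ)ᶜ, hZ.isOpen_compl⟩, ?_, fun T t => ?_⟩
  · refine quasiCompact_iff_isSpectralMap.2 (IsRetrocompact_iff_isSpectralMap_subtypeVal.1 ?_)
    refine fun O hO hOo => ?_
    obtain ⟨s, hs, heq⟩ := (Opens.IsBasis.isCompact_open_iff_eq_finite_iUnion (fun W : S.affineOpens => W.1)
      (by rw [Subtype.range_coe]; exact S.isBasis_affineOpens) (fun W => W.2.isCompact) O).1 ⟨hO, hOo⟩
    rw [heq, Set.inter_iUnion₂]
    refine hs.isCompact_biUnion fun W _ => ?_
    haveI : CompactSpace (W.1 : Scheme.{u}) := isCompact_iff_compactSpace.1 W.2.isCompact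
    haveI : IsAffine (W.1 : Scheme.{u}) := W.2
    have hc : IsConstructible (W.1.ι ⁻¹' (f '' (V : Set X)ᶜ)) :=
      ((f.isLocallyConstructible_image hVc).preimage_of_isOpenEmbedding W.1.ι.isOpenEmbedding).isConstructible
    have := (IsoLocus.isCompact_of_isConstructible hc.compl).image W.1.ι.continuous
    rwa [← Set.preimage_compl, Set.image_preimage_eq_inter_range, Scheme.Opens.range_ι] at this
  · have hc : IsPullback (pullback.fst f t) (pullback.snd f t) f t := IsPullback.of_hasPullback f t
    have hr := Scheme.Pullback.range_fst f t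
    let q := pullback.fst f t
    constructor
    · intro hq
      have hq₁ : Set.range q ⊆ (O₁ : Set X) := by
        rintro _ ⟨p, rfl⟩ hp
        have h0 := QCoh.support_eq_empty_of_isZero (support_pullback_cokernel q u) (QCoh.isQCoh_pullback _ hCq)
        rw [QCoh.support_pullback q hCq (QCoh.isFT_of_isFP hC)] at h0
        exact Set.eq_empty_iff_forall_notMem.1 h0 p hp
      let q' : pullback f t ⟶ O₁ := IsOpenImmersion.lift O₁.ι q (by rwa [Scheme.Opens.range_ι])
      have hq' : q' ≫ O₁.ι = q := IsOpenImmersion.lift_fac _ _ _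
      have htop : IsPullback q' (𝟙 (pullback f t)) O₁.ι q := by
        refine IsOpenImmersion.isPullback _ _ _ _ (by rw [hq', Category.id_comp]) ?_
        ext p
        simp only [Scheme.Hom.opensRange_of_isIso, Opens.coe_top, Set.mem_univ, true_iff, iff_true]
        show q p ∈ O₁.ι.opensRange
        rw [Scheme.Opens.opensRange_ι]
        exact hq₁ ⟨p, rfl⟩
      have hc' : IsPullback q' (𝟙 _ ≫ pullback.snd f t) (O₁.ι ≫ f) t := htop.paste_vert hc
      haveI := IsoLocus.mono_pullback_kernel_ι hc' hF'q hG'q hfl' u'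
      haveI : IsIso ((Scheme.Modules.pullback q').map u') := (isIso_map_of_comp hq' u).2 hq
      have hz : (Scheme.Modules.pullback q').map (kernel.ι u') = 0 := by
        rw [← cancel_mono ((Scheme.Modules.pullback q').map u'), zero_comp, ← Functor.map_comp,
          kernel.condition, Functor.map_zero]
      have h0 := QCoh.support_eq_empty_of_isZero (IsZero.of_mono_eq_zero _ hz) (QCoh.isQCoh_pullback _ hKq)
      rw [QCoh.support_pullback q' hKq (QCoh.isFT_of_isFP hK)] at h0
      rintro _ ⟨τ, rfl⟩ ⟨z, hz, hfz⟩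
      obtain ⟨p, rfl⟩ : z ∈ Set.range q := by rw [hr]; exact ⟨τ, hfz.symm⟩
      refine hz ⟨q' p, fun h => Set.eq_empty_iff_forall_notMem.1 h0 p h, ?_⟩
      show (q' ≫ O₁.ι) p = q p
      rw [hq']
    · intro ht
      have hq₂ : Set.range q ⊆ Set.range (O₂.ι ≫ O₁.ι) := by
        intro z hz
        rw [hr] at hz
        obtain ⟨τ, hτ⟩ := hz
        have hzV : z ∈ V := by
          by_contra h
          exact ht ⟨τ, rfl⟩ ⟨z, h, hτ.symm⟩
        obtain ⟨w, hw, rfl⟩ := hzV
        exact ⟨⟨w, hw⟩, rfl⟩
      let q'' : pullback f t ⟶ O₂ := IsOpenImmersion.lift (O₂.ι ≫ O₁.ι) q hq₂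
      have hq'' : (q'' ≫ O₂.ι) ≫ O₁.ι = q := by rw [Category.assoc]; exact IsOpenImmersion.lift_fac _ _ _
      refine (isIso_map_of_comp hq'' u).1 ?_
      exact (isIso_map_of_comp rfl _).1 inferInstance

end Groth.Agent.S5650
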