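import Groth.Statements.S5667
import Groth.Agent.ExtShX.SmDualAll
import Groth.Agent.Lib.PnDualSheafHom
import Groth.Agent.AmpleVan.LiftFibre
import Groth.Agent.S2926
import Groth.Agent.CurveCohLib.SmoothCurve
import Groth.Agent.ExtShX.SmExt
import Groth.Agent.Lib.CurveDeg

set_option autoImplicit false
set_option backward.isDefEq.respectTransparency false
set_option backward.isDefEq.respectTransparency.types false
universe u
open CategoryTheory CategoryTheory.Limits AlgebraicGeometry
open ProjDual

namespace Groth.Agent.S5667

/-- Let `k` be an algebraically closed field and `X` a connected nonsingular projective variety of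
dimension `n` over `k` — here: a connected `k`-scheme, smooth of relative dimension `n` over `k`,
with a closed immersion into some projective space `P^r_k` over `k` — and let `L` be an `n`-th
exterior power of the sheaf of differentials of `X` over `k` (the sheaf of `n`-forms). Then `H^n(X,
L)` is a `k`-vector space of dimension `1`. (The source says more: the fundamental class of a point
is a basis; only the dimension is stated here.) -/
theorem result (k : Type u) [Field k] [IsAlgClosed k] (n r : ℕ) (X : Scheme.{u}) [X.Over (Spec (CommRingCat.of k))] [SmoothOfRelativeDimension n (X ↘ Spec (CommRingCat.of k))] [ConnectedSpace X] (ι : X ⟶ CohB1.ProjSpace r k) [IsClosedImmersion ι] (hι : ι ≫ CohB1.ProjSpace.toSpec r k = X ↘ Spec (CommRingCat.of k)) (L : X.Modules) (hL : ExtPow.IsExtPow n (Omega.sheaf (X ↘ Spec (CommRingCat.of k))) L) : Module.finrank k (Coh.HH X L n) = 1 := by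
  classical
  haveI : IsProper (CohB1.ProjSpace.toSpec r k) := PnCoh.Chow.isProper_toSpec r k
  haveI : IsProper (X ↘ Spec (CommRingCat.of k)) := hι ▸ inferInstance
  haveI : Smooth (X ↘ Spec (CommRingCat.of k)) := SmoothOfRelativeDimension.smooth (n := n) _
  haveI : IsLocallyNoetherian X := LocallyOfFiniteType.isLocallyNoetherian (X ↘ Spec (CommRingCat.of k))
  haveI : HasExt.{u} X.Modules := IsGrothendieckAbelian.hasExt _
  haveI : ModSite.HasSheafHom (O := X.sheaf) L := ModTensor.hasSheafHom _
  have hinv := ExtShX.SmDual.isInvertible_top ι hι hL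
  obtain ⟨e⟩ := (ExtShX.SmDual.duality ι hι hL L (ExtShX.SmDual.isCoh_top ι hι hL) 0).1 (Nat.zero_le n)
  obtain ⟨e'⟩ := PnDual.nonempty_ext_linearEquiv_HH (A := k) (KZ.QuasiProj.flf_of_invertible hinv) L 0
  obtain ⟨a⟩ := ExtShX.SmExt.nonempty_sheafHom_tensor_iso hinv (Coh.structureModule X)
  let b : L ≅ CohB1.tensorMod (Coh.structureModule X) L := (H23.PicMul.unit L).some.symm ≪≫ (H23.PicMul.comm _ _).some
  let c : (SheafHomX.hom L).obj L ≅ Coh.structureModule X :=
    ((ChangeRings.siteHomIso (Z := X) L).app L).symm ≪≫
      (ModSite.sheafHom (O := X.sheaf) L).mapIso b ≪≫ a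
  have h := (e.symm ≪≫ₗ e' ≪≫ₗ S2926.hhIso k c 0).finrank_eq
  rw [Nat.sub_zero, Subspace.dual_finrank_eq, CurveCohLib.finrank_h0_eq_one] at h
  exact h

end Groth.Agent.S5667
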