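import Groth.Statements.S5671
import Groth.Agent.PerfGen7.RegGrade

set_option autoImplicit false
universe u
open CategoryTheory
open Dual

namespace Groth.Agent.S5671

/-- First assertion, in the local-algebra form to which its proof reduces it: let `A` be a regular local
ring of dimension `n`, `p ≥ 0`, and `M` a finite `A`-module whose support has dimension at most `n -
p`. Then `Ext^i_A(M, A) = 0` for every `i < p`. (The geometric statement: on a nonsingular
`n`-dimensional variety the sheaves `Ext^i(F, L)` vanish for `i < p` when `F` is coherent with
support of dimension `≤ n - p` and `L` is locally free.) -/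
theorem result (A : Type u) [CommRing A] [IsRegularLocalRing A] (M : Type u) [AddCommGroup M] [Module A M] [Module.Finite A M] (p : ℕ) (hdim : Module.supportDim A M + p ≤ ringKrullDim A) (i : ℕ) (hi : i < p) : Subsingleton (Abelian.Ext (ModuleCat.of A M) (ModuleCat.of A A) i) := by
  refine Groth.Agent.PerfGen7.RegGrade.ext_subsingleton A (Module.annihilator A M) p ?_ M ?_ i hi
  · rwa [← Module.supportDim_eq_ringKrullDim_quotient_annihilator]
  · exact (Submodule.eq_bot_iff _).2 fun x hx => by
      refine Submodule.smul_induction_on hx (fun a ha m _ => Module.mem_annihilator.1 ha m) ?_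
      intro a b ha hb; rw [ha, hb, add_zero]

end Groth.Agent.S5671
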