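import Groth.Statements.S5672
import Groth.Agent.PerfGen7.RegGrade
import Groth.Agent.PerfGen7.KoszulExt

set_option autoImplicit false
universe u
open CategoryTheory
open Dual

namespace Groth.Agent.S5672


open Groth.Agent.PerfGen7 in
/-- A presentation of a finite module killed by `J`. -/
lemma exists_pres (A : Type u) [CommRing A] (J : Ideal A) (M : Type u) [AddCommGroup M] [Module A M]
    [Module.Finite A M] (hJM : J • (⊤ : Submodule A M) = ⊥) :
    ∃ (n : ℕ) (q : (Fin n → A ⧸ J) →ₗ[A] M), Function.Surjective q := by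
  classical
  obtain ⟨n, s, hs⟩ := Module.Finite.exists_fin (R := A) (M := M)
  let v : ∀ i, (A ⧸ J) →ₗ[A] M := fun i => Submodule.liftQ J (LinearMap.toSpanSingleton A M (s i))
    fun a ha => by
      have : a • s i ∈ J • (⊤ : Submodule A M) := Submodule.smul_mem_smul ha trivial
      rwa [hJM, Submodule.mem_bot] at this
  refine ⟨n, LinearMap.lsum A (fun _ => A ⧸ J) A v, ?_⟩
  rw [← LinearMap.range_eq_top, eq_top_iff, ← hs, Submodule.span_le]
  rintro _ ⟨i, rfl⟩
  refine ⟨Pi.single i (Submodule.Quotient.mk 1), ?_⟩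
  rw [LinearMap.lsum_apply, LinearMap.sum_apply, Finset.sum_eq_single i]
  · simp only [LinearMap.comp_apply, LinearMap.proj_apply, Pi.single_eq_same]
    exact one_smul A (s i)
  · intro j _ hj
    simp [Pi.single_eq_of_ne hj]
  · simp

section
variable (A : Type u) [CommRing A] [IsRegularLocalRing A] (p : ℕ) (J : Ideal A)
  (hJ : ringKrullDim (A ⧸ J) + p ≤ ringKrullDim A)

/-- Restriction of classes along a morphism of modules. -/
noncomputable abbrev res {M N : Type u} [AddCommGroup M] [Module A M] [AddCommGroup N] [Module A N]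
    (f : M →ₗ[A] N) (ξ : Abelian.Ext (ModuleCat.of A N) (ModuleCat.of A A) p) :
    Abelian.Ext (ModuleCat.of A M) (ModuleCat.of A A) p :=
  (Abelian.Ext.mk₀ (ModuleCat.ofHom f)).comp ξ (zero_add p)

lemma res_res {M N L : Type u} [AddCommGroup M] [Module A M] [AddCommGroup N] [Module A N]
    [AddCommGroup L] [Module A L] (f : M →ₗ[A] N) (g : N →ₗ[A] L)
    (ξ : Abelian.Ext (ModuleCat.of A L) (ModuleCat.of A A) p) :
    res A p f (res A p g ξ) = res A p (g.comp f) ξ := Abelian.Ext.mk₀_comp_mk₀_assoc _ _ _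

lemma res_sum {ι : Type} (s : Finset ι) {M N : Type u} [AddCommGroup M] [Module A M] [AddCommGroup N]
    [Module A N] (f : ι → (M →ₗ[A] N)) (ξ : Abelian.Ext (ModuleCat.of A N) (ModuleCat.of A A) p) :
    res A p (∑ i ∈ s, f i) ξ = ∑ i ∈ s, res A p (f i) ξ := by
  classical
  induction s using Finset.induction with
  | empty =>
    simp only [Finset.sum_empty]
    show (Abelian.Ext.mk₀ (ModuleCat.ofHom (0 : M →ₗ[A] N))).comp ξ _ = 0
    rw [show ModuleCat.ofHom (0 : M →ₗ[A] N) = 0 from rfl, Abelian.Ext.mk₀_zero, Abelian.Ext.zero_comp]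
  | insert a s ha ih =>
    rw [Finset.sum_insert ha, Finset.sum_insert ha, ← ih]
    exact (congrArg (fun e : Abelian.Ext (ModuleCat.of A M) (ModuleCat.of A N) 0 => e.comp ξ (zero_add p))
      (Abelian.Ext.mk₀_add (ModuleCat.ofHom (f a)) (ModuleCat.ofHom (∑ i ∈ s, f i)))).trans
      (Abelian.Ext.add_comp _ _ _ _)

lemma res_pi {n : ℕ} (ξ : Abelian.Ext (ModuleCat.of A (Fin n → A ⧸ J)) (ModuleCat.of A A) p) :
    ξ = ∑ i, res A p (LinearMap.proj i) (res A p (LinearMap.single A (fun _ => A ⧸ J) i) ξ) := by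
  have hid : (∑ i : Fin n, (LinearMap.single A (fun _ => A ⧸ J) i).comp (LinearMap.proj i)) =
      (LinearMap.id : (Fin n → A ⧸ J) →ₗ[A] (Fin n → A ⧸ J)) := LinearMap.ext fun j => by
    simp only [LinearMap.sum_apply, LinearMap.comp_apply, LinearMap.proj_apply, LinearMap.single_apply,
      LinearMap.id_apply]
    exact Finset.univ_sum_single j
  refine Eq.trans ?_ (Finset.sum_congr rfl fun i _ => (res_res A p (M := Fin n → A ⧸ J) (N := A ⧸ J)
    (L := Fin n → A ⧸ J) (LinearMap.proj i) (LinearMap.single A (fun _ => A ⧸ J) i) ξ).symm)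
  refine Eq.trans ?_ (res_sum A p Finset.univ _ ξ)
  rw [hid]
  exact (Abelian.Ext.mk₀_id_comp ξ).symm

include hJ

lemma res_injective (M N : Type u) [AddCommGroup M] [Module A M] [AddCommGroup N] [Module A N]
    (hN : J • (⊤ : Submodule A M) = ⊥) (q : M →ₗ[A] N) (hq : Function.Surjective q) :
    Function.Injective (res A p q) := by
  have hS : (ShortComplex.mk (ModuleCat.ofHom (LinearMap.ker q).subtype) (ModuleCat.ofHom q)
      (by ext x; exact x.2)).ShortExact :=
    { mono_f := (ModuleCat.mono_iff_injective _).2 Subtype.val_injective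
      epi_g := (ModuleCat.epi_iff_surjective _).2 hq
      exact := (ShortComplex.moduleCat_exact_iff _).2 fun x hx => ⟨⟨x, hx⟩, rfl⟩ }
  intro ξ ξ' h
  rw [← sub_eq_zero]
  have h0 : (Abelian.Ext.mk₀ (ModuleCat.ofHom q)).comp (ξ - ξ') (zero_add p) = 0 := by
    rw [sub_eq_add_neg, Abelian.Ext.comp_add, Abelian.Ext.comp_neg]
    exact (congrArg (· + _) h).trans (add_neg_cancel _)
  rcases p.eq_zero_or_pos with hp | hp
  · subst hp
    have := (ModuleCat.epi_iff_surjective (ModuleCat.ofHom q)).2 hq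
    exact Abelian.Ext.precomp_mk₀_injective_of_epi _ (ModuleCat.ofHom q)
      (h0.trans (map_zero _).symm)
  obtain ⟨m, rfl⟩ := Nat.exists_eq_succ_of_ne_zero hp.ne'
  obtain ⟨y, hy⟩ := Abelian.Ext.contravariant_sequence_exact₃ hS _ (ξ - ξ') h0 (n₀ := m) (by omega)
  have hK : J • (⊤ : Submodule A (LinearMap.ker q)) = ⊥ := by
    refine (Submodule.eq_bot_iff _).2 fun x hx => ?_
    refine Submodule.smul_induction_on hx (fun a ha m _ => Subtype.ext ?_) ?_
    · have : a • (m : M) ∈ J • (⊤ : Submodule A M) := Submodule.smul_mem_smul ha trivial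
      rwa [hN, Submodule.mem_bot] at this
    · intro a b ha hb; rw [ha, hb, add_zero]
  have := Groth.Agent.PerfGen7.RegGrade.ext_subsingleton A J (m + 1) hJ _ hK m (Nat.lt_succ_self m)
  rw [← hy, Subsingleton.elim y 0, Abelian.Ext.comp_zero]

lemma inj_aux (M : Type u) [AddCommGroup M] [Module A M] [Module.Finite A M]
    (hM : J • (⊤ : Submodule A M) = ⊥) (ξ : Abelian.Ext (ModuleCat.of A M) (ModuleCat.of A A) p)
    (h : ∀ u : (A ⧸ J) →ₗ[A] M, res A p u ξ = 0) : ξ = 0 := by
  obtain ⟨n, q, hq⟩ := exists_pres A J M hM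
  have hF : J • (⊤ : Submodule A (Fin n → A ⧸ J)) = ⊥ := (Submodule.eq_bot_iff _).2 fun x hx => by
    refine Submodule.smul_induction_on hx (fun a ha m _ => funext fun i => ?_) ?_
    · obtain ⟨r, hr⟩ := Submodule.Quotient.mk_surjective J (m i)
      rw [Pi.smul_apply, ← hr]
      exact (Submodule.Quotient.mk_eq_zero _).2 (Ideal.mul_mem_right r _ ha)
    · intro a b ha hb; rw [ha, hb, add_zero]
  refine res_injective A p J hJ _ _ hF q hq ?_
  rw [res_pi A p J (res A p q ξ)]
  refine (Finset.sum_eq_zero fun i _ => ?_).trans (Abelian.Ext.comp_zero (Abelian.Ext.mk₀ (ModuleCat.ofHom q)) (ModuleCat.of A A) p p (zero_add p)).symm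
  show (Abelian.Ext.mk₀ _).comp (res A p _ (res A p q ξ)) _ = 0
  rw [res_res, h, Abelian.Ext.comp_zero]

lemma surj_aux (M : Type u) [AddCommGroup M] [Module A M] [Module.Finite A M]
    (hM : J • (⊤ : Submodule A M) = ⊥)
    (hinj : ∀ (L : Type u) [AddCommGroup L] [Module A L] [Module.Finite A L],
      J • (⊤ : Submodule A L) = ⊥ → ∀ ξ : Abelian.Ext (ModuleCat.of A L) (ModuleCat.of A A) p,
      (∀ u : (A ⧸ J) →ₗ[A] L, res A p u ξ = 0) → ξ = 0)
    (g : ((A ⧸ J) →ₗ[A] M) →ₗ[A] Abelian.Ext (ModuleCat.of A (A ⧸ J)) (ModuleCat.of A A) p) :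
    ∃ ξ : Abelian.Ext (ModuleCat.of A M) (ModuleCat.of A A) p, ∀ u, g u = res A p u ξ := by
  classical
  obtain ⟨n, q, hq⟩ := exists_pres A J M hM
  let ι : Fin n → ((A ⧸ J) →ₗ[A] (Fin n → A ⧸ J)) := fun i => LinearMap.single A (fun _ => A ⧸ J) i
  let η : Abelian.Ext (ModuleCat.of A (Fin n → A ⧸ J)) (ModuleCat.of A A) p :=
    ∑ i, res A p (LinearMap.proj i) (g (q.comp (ι i)))
  have hend : ∀ f : (A ⧸ J) →ₗ[A] (A ⧸ J), ∃ a : A, f = a • LinearMap.id := fun f => by
    obtain ⟨a, ha⟩ := Submodule.Quotient.mk_surjective J (f (Submodule.Quotient.mk 1))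
    refine ⟨a, LinearMap.ext fun y => ?_⟩
    obtain ⟨r, rfl⟩ := Submodule.Quotient.mk_surjective _ y
    have : (Submodule.Quotient.mk r : A ⧸ J) = r • Submodule.Quotient.mk 1 :=
      (congrArg _ (mul_one r).symm).trans (Submodule.Quotient.mk_smul _ r (1 : A))
    rw [this, map_smul, map_smul, ← ha, LinearMap.smul_apply, LinearMap.id_apply]
    congr 1
    exact (congrArg _ (mul_one a).symm).trans (Submodule.Quotient.mk_smul _ a (1 : A))
  have hη : ∀ v : (A ⧸ J) →ₗ[A] (Fin n → A ⧸ J), res A p v η = g (q.comp v) := by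
    intro v
    choose a ha using fun i => hend ((LinearMap.proj i).comp v)
    have hv : v = ∑ i, a i • ι i := by
      refine LinearMap.ext fun y => ?_
      have hy : ∀ i, v y i = a i • y := fun i => LinearMap.congr_fun (ha i) y
      simp only [LinearMap.sum_apply, LinearMap.smul_apply, ι, LinearMap.single_apply, ← Pi.single_smul, ← hy]
      exact (Finset.univ_sum_single (v y)).symm
    have h1 : res A p v η = ∑ i, a i • g (q.comp (ι i)) := by
      show (Abelian.Ext.mk₀ (ModuleCat.ofHom v)).comp (∑ i, _) _ = _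
      rw [Abelian.Ext.comp_sum]
      refine Finset.sum_congr rfl fun i _ => (res_res A p v _ _).trans ?_
      rw [ha i]
      show (Abelian.Ext.mk₀ (a i • 𝟙 (ModuleCat.of A (A ⧸ J)))).comp _ _ = _
      rw [Abelian.Ext.mk₀_smul, Abelian.Ext.smul_comp, Abelian.Ext.mk₀_id_comp]
    have h2 : q.comp v = ∑ i, a i • q.comp (ι i) := by
      rw [hv]
      refine LinearMap.ext fun y => ?_
      simp [LinearMap.sum_apply]
    rw [h1, h2, map_sum]
    simp only [map_smul]
  have : IsNoetherianRing A := inferInstance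
  have hK : J • (⊤ : Submodule A (LinearMap.ker q)) = ⊥ := by
    refine (Submodule.eq_bot_iff _).2 fun x hx => ?_
    refine Submodule.smul_induction_on hx (fun a ha m _ => Subtype.ext (funext fun i => ?_)) ?_
    · obtain ⟨r, hr⟩ := Submodule.Quotient.mk_surjective J ((m : Fin n → A ⧸ J) i)
      show a • ((m : Fin n → A ⧸ J) i) = 0
      rw [← hr]
      exact (Submodule.Quotient.mk_eq_zero _).2 (Ideal.mul_mem_right r _ ha)
    · intro a b ha hb; rw [ha, hb, add_zero]
  have hres : res A p (LinearMap.ker q).subtype η = 0 := hinj _ hK _ fun w => by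
    rw [res_res, hη, ← LinearMap.comp_assoc, LinearMap.comp_ker_subtype, LinearMap.zero_comp, map_zero]
  have hS : (ShortComplex.mk (ModuleCat.ofHom (LinearMap.ker q).subtype) (ModuleCat.ofHom q)
      (by ext x; exact x.2)).ShortExact :=
    { mono_f := (ModuleCat.mono_iff_injective _).2 Subtype.val_injective
      epi_g := (ModuleCat.epi_iff_surjective _).2 hq
      exact := (ShortComplex.moduleCat_exact_iff _).2 fun x hx => ⟨⟨x, hx⟩, rfl⟩ }
  obtain ⟨ξ, hξ⟩ := Abelian.Ext.contravariant_sequence_exact₂ hS _ η hres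
  refine ⟨ξ, fun u => ?_⟩
  obtain ⟨f, hf⟩ := hq (u (Submodule.Quotient.mk 1))
  let v : (A ⧸ J) →ₗ[A] (Fin n → A ⧸ J) := Submodule.liftQ J (LinearMap.toSpanSingleton A _ f) fun a ha => by
    refine funext fun i => ?_
    obtain ⟨r, hr⟩ := Submodule.Quotient.mk_surjective J (f i)
    show a • f i = 0
    rw [← hr]
    exact (Submodule.Quotient.mk_eq_zero _).2 (Ideal.mul_mem_right r _ ha)
  have hu : u = q.comp v := LinearMap.ext fun y => by
    obtain ⟨r, rfl⟩ := Submodule.Quotient.mk_surjective _ y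
    have : (Submodule.Quotient.mk r : A ⧸ J) = r • Submodule.Quotient.mk 1 :=
      (congrArg _ (mul_one r).symm).trans (Submodule.Quotient.mk_smul _ r (1 : A))
    rw [this, map_smul, map_smul, LinearMap.comp_apply, ← hf]
    exact congrArg (r • ·) (congrArg q (one_smul A f).symm)
  rw [hu, ← hη, ← hξ]
  exact res_res A p v q ξ

end


/-- Let `A` be a regular local ring of dimension `n`, `J` an ideal with `dim(A/J) ≤ n - p`, and `M` a
finite `A`-module with `JM = 0`. For `ξ ∈ Ext^p_A(M, A)` and an `A`-linear `u : A/J → M` write `u^*ξ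
∈ Ext^p_A(A/J, A)` for the pullback. Then `ξ ↦ (u ↦ u^*ξ)` is injective, and every `A`-linear map
`Hom_A(A/J, M) → Ext^p_A(A/J, A)` is of the form `u ↦ u^*ξ` for some `ξ`. Since `Hom_A(A/J, M) = M`
here, this says that the canonical map `Ext^p_A(M, A) → Hom_A(M, Ext^p_A(A/J, A))` is bijective. -/
theorem result (A : Type u) [CommRing A] [IsRegularLocalRing A] (p : ℕ) (J : Ideal A) (hJ : ringKrullDim (A ⧸ J) + p ≤ ringKrullDim A) (M : Type u) [AddCommGroup M] [Module A M] [Module.Finite A M] (hJM : J • (⊤ : Submodule A M) = ⊥) : Function.Injective (fun ξ : Abelian.Ext (ModuleCat.of A M) (ModuleCat.of A A) p => fun u : (A ⧸ J) →ₗ[A] M => (Abelian.Ext.mk₀ (ModuleCat.ofHom u)).comp ξ (zero_add p)) ∧ ∀ g : ((A ⧸ J) →ₗ[A] M) →ₗ[A] Abelian.Ext (ModuleCat.of A (A ⧸ J)) (ModuleCat.of A A) p, ∃ ξ : Abelian.Ext (ModuleCat.of A M) (ModuleCat.of A A) p, ∀ u : (A ⧸ J) →ₗ[A] M, g u = (Abelian.Ext.mk₀ (ModuleCat.ofHom u)).comp ξ (zero_add p) := by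
  classical
  have hM : ∀ a ∈ J, ∀ m : M, a • m = 0 := fun a ha m => by
    have : a • m ∈ J • (⊤ : Submodule A M) := Submodule.smul_mem_smul ha trivial
    rwa [hJM, Submodule.mem_bot] at this
  have hinj : ∀ (L : Type u) [AddCommGroup L] [Module A L] [Module.Finite A L],
      J • (⊤ : Submodule A L) = ⊥ → ∀ ξ : Abelian.Ext (ModuleCat.of A L) (ModuleCat.of A A) p,
      (∀ u : (A ⧸ J) →ₗ[A] L, (Abelian.Ext.mk₀ (ModuleCat.ofHom u)).comp ξ (zero_add p) = 0) → ξ = 0 :=
    fun L _ _ _ hL ξ h => inj_aux A p J hJ L hL ξ h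
  refine ⟨fun ξ ξ' h => sub_eq_zero.1 (hinj M hJM _ fun u => ?_), fun g => surj_aux A p J hJ M hJM hinj g⟩
  rw [sub_eq_add_neg, Abelian.Ext.comp_add, Abelian.Ext.comp_neg, show (Abelian.Ext.mk₀ (ModuleCat.ofHom u)).comp ξ (zero_add p) = (Abelian.Ext.mk₀ (ModuleCat.ofHom u)).comp ξ' (zero_add p) from congrFun h u, add_neg_cancel]

end Groth.Agent.S5672
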