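import Groth.Statements.S5673
import Groth.Agent.PerfGen7.KoszulExt
import Groth.Agent.TorBridge.LES
import Groth.Agent.CAlgOdd.TorSymm.Main
import Mathlib

set_option autoImplicit false
universe u
open CategoryTheory
open Dual

namespace Groth.Agent.S5673


open Limits MonoidalCategory HomologicalComplex

variable {A : Type u} [CommRing A]

open Groth.Agent.PerfGen7.KoszulExt (Q ses ses_shortExact regular_concat ofList_concat)

/-- The complex computing `Tor_•(X, M)`. -/
noncomputable abbrev C {M : ModuleCat.{u} A} (P : ProjectiveResolution M) (X : ModuleCat.{u} A) :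
    ChainComplex (ModuleCat.{u} A) ℕ :=
  ((Groth.Agent.TorBridge.tenF X).mapHomologicalComplex _).obj P.complex

lemma homologyMap_smul_id (K : ChainComplex (ModuleCat.{u} A) ℕ) (x : A) (f : K ⟶ K)
    (hf : ∀ j, f.f j = x • 𝟙 (K.X j)) (i : ℕ) :
    HomologicalComplex.homologyMap f i = x • 𝟙 (K.homology i) := by
  have h : (shortComplexFunctor (ModuleCat.{u} A) (ComplexShape.down ℕ) i).map f =
      x • 𝟙 ((shortComplexFunctor (ModuleCat.{u} A) (ComplexShape.down ℕ) i).obj K) := by
    apply ShortComplex.hom_ext <;> exact hf _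
  show ShortComplex.homologyMap ((shortComplexFunctor (ModuleCat.{u} A) (ComplexShape.down ℕ) i).map f) = _
  rw [h, ShortComplex.homologyMap_smul, ShortComplex.homologyMap_id]
  rfl

lemma top_tor (M : ModuleCat.{u} A) (P : ProjectiveResolution M) (xs : List A)
    (hreg : RingTheory.Sequence.IsWeaklyRegular A xs) :
    (∀ i, xs.length < i → Subsingleton ((C P (Q (Ideal.ofList xs))).homology i)) ∧
      Nonempty ((C P (Q (Ideal.ofList xs))).homology xs.length ≃ₗ[A] ((A ⧸ Ideal.ofList xs) →ₗ[A] M)) := by
  induction xs using List.reverseRecOn with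
  | nil =>
    rw [Ideal.ofList_nil, List.length_nil]
    refine ⟨fun i hi => ?_, ⟨?_⟩⟩
    · obtain ⟨j, rfl⟩ := Nat.exists_eq_succ_of_ne_zero hi.ne'
      have : Module.Flat A (A ⧸ (⊥ : Ideal A)) :=
        Module.Flat.of_linearEquiv (Submodule.quotEquivOfEqBot (⊥ : Ideal A) rfl)
      exact ModuleCat.subsingleton_of_isZero ((Iso.isZero_iff
        (P.isoLeftDerivedObj (Groth.Agent.TorBridge.tenF (Q ⊥)) (j + 1))).1
        (Groth.Agent.TorBridge.isZero_tor_succ_of_flat (Q ⊥) M j))
    · have : PreservesFiniteColimits (Groth.Agent.TorBridge.tenF (Q (⊥ : Ideal A))) := by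
        show PreservesFiniteColimits (MonoidalCategory.tensorLeft (Q (⊥ : Ideal A)))
        infer_instance
      exact ((P.isoLeftDerivedObj (Groth.Agent.TorBridge.tenF (Q ⊥)) 0).symm ≪≫
          (Groth.Agent.TorBridge.tenF (Q ⊥)).leftDerivedZeroIsoSelf.app M).toLinearEquiv ≪≫ₗ
        (TensorProduct.congr (Submodule.quotEquivOfEqBot (⊥ : Ideal A) rfl) (LinearEquiv.refl A M)) ≪≫ₗ
        TensorProduct.lid A M ≪≫ₗ (LinearMap.ringLmapEquivSelf A A M).symm ≪≫ₗ
        LinearEquiv.arrowCongr (Submodule.quotEquivOfEqBot (⊥ : Ideal A) rfl).symm (LinearEquiv.refl A M)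
  | append_singleton xs x ih =>
    obtain ⟨hxs, hx⟩ := regular_concat hreg
    obtain ⟨hzero, ⟨e⟩⟩ := ih hxs
    rw [ofList_concat, List.length_append, List.length_singleton]
    set I := Ideal.ofList xs
    have hS := ses_shortExact I x hx
    set S := ses I (I ⊔ Ideal.span {x}) x le_sup_left
      (Ideal.mem_sup_right (Ideal.mem_span_singleton_self x))
    let c := ComplexShape.down ℕ
    let f : C P S.X₁ ⟶ C P S.X₂ :=
      (NatTrans.mapHomologicalComplex ((tensoringLeft (ModuleCat.{u} A)).map S.f) c).app P.complex
    let g : C P S.X₂ ⟶ C P S.X₃ :=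
      (NatTrans.mapHomologicalComplex ((tensoringLeft (ModuleCat.{u} A)).map S.g) c).app P.complex
    have hfg : f ≫ g = 0 := by
      refine HomologicalComplex.hom_ext _ _ fun j => ModuleCat.hom_ext ?_
      show S.g.hom.rTensor (P.complex.X j) ∘ₗ S.f.hom.rTensor (P.complex.X j) = 0
      rw [← LinearMap.rTensor_comp, ← ModuleCat.hom_comp, S.zero, ModuleCat.hom_zero, LinearMap.rTensor_zero]
    have hT : (ShortComplex.mk f g hfg).ShortExact := by
      refine HomologicalComplex.shortExact_of_degreewise_shortExact _ fun j => ?_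
      haveI : Module.Projective A (P.complex.X j) := (IsProjective.iff_projective _).2 (P.projective j)
      have he : Function.Exact S.f.hom S.g.hom :=
        (ShortComplex.ShortExact.moduleCat_exact_iff_function_exact _).1 hS.exact
      exact
        { exact := (ShortComplex.ShortExact.moduleCat_exact_iff_function_exact _).2
            (rTensor_exact (P.complex.X j) he ((ModuleCat.epi_iff_surjective _).1 hS.epi_g))
          mono_f := (ModuleCat.mono_iff_injective _).2 (Module.Flat.rTensor_preserves_injective_linearMap
            (M := P.complex.X j) S.f.hom ((ModuleCat.mono_iff_injective _).1 hS.mono_f))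
          epi_g := (ModuleCat.epi_iff_surjective _).2
            (LinearMap.rTensor_surjective (P.complex.X j) ((ModuleCat.epi_iff_surjective _).1 hS.epi_g)) }
    have hf : ∀ i, HomologicalComplex.homologyMap f i = x • 𝟙 ((C P (Q I)).homology i) := fun i => by
      refine homologyMap_smul_id _ x f (fun j => ModuleCat.hom_ext ?_) i
      show (x • (LinearMap.id : (A ⧸ I) →ₗ[A] (A ⧸ I))).rTensor (P.complex.X j) = _
      rw [LinearMap.rTensor_smul, LinearMap.rTensor_id]
      rfl
    refine ⟨fun i hi => ?_, ?_⟩
    · obtain ⟨j, rfl⟩ := Nat.exists_eq_succ_of_ne_zero (show i ≠ 0 by omega)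
      have hex := (ShortComplex.ShortExact.moduleCat_exact_iff_function_exact _).1
        (hT.homology_exact₃ (j + 1) j rfl)
      have := hzero j (by omega)
      have := hzero (j + 1) (by omega)
      refine subsingleton_of_forall_eq 0 fun z => ?_
      obtain ⟨y, rfl⟩ := (hex z).1 (Subsingleton.elim (α := (C P (Q I)).homology j) _ _)
      rw [Subsingleton.elim (α := (C P (Q I)).homology (j + 1)) y 0, map_zero]
    · have hex₃ := (ShortComplex.ShortExact.moduleCat_exact_iff_function_exact _).1
        (hT.homology_exact₃ (xs.length + 1) xs.length rfl)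
      have hex₁ := (ShortComplex.ShortExact.moduleCat_exact_iff_function_exact _).1
        (hT.homology_exact₁ (xs.length + 1) xs.length rfl)
      have := hzero (xs.length + 1) (by omega)
      let δ := (hT.δ (xs.length + 1) xs.length rfl).hom
      have hδ : Function.Injective δ := by
        refine (injective_iff_map_eq_zero δ).2 fun z hz => ?_
        obtain ⟨y, rfl⟩ := (hex₃ z).1 hz
        rw [Subsingleton.elim (α := (C P (Q I)).homology (xs.length + 1)) y 0, map_zero]
      let ρ : ((A ⧸ (I ⊔ Ideal.span {x})) →ₗ[A] M) →ₗ[A] ((A ⧸ I) →ₗ[A] M) :=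
        LinearMap.lcomp A M (Submodule.factor le_sup_left)
      have hρ : Function.Injective ρ := fun u v h => LinearMap.ext fun y => by
        obtain ⟨r, rfl⟩ := Submodule.Quotient.mk_surjective _ y
        exact LinearMap.congr_fun h (Submodule.Quotient.mk r)
      have hrange : LinearMap.range ρ = LinearMap.range (e.toLinearMap.comp δ) := by
        ext u
        constructor
        · rintro ⟨v, rfl⟩
          refine ((hex₁ (e.symm (ρ v))).1 ?_).elim fun z hz => ⟨z, ?_⟩
          · show (HomologicalComplex.homologyMap f xs.length).hom _ = 0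
            rw [hf]
            show x • e.symm (ρ v) = 0
            rw [← map_smul, ← map_smul]
            refine (congrArg e.symm ?_).trans (map_zero _)
            refine LinearMap.ext fun y => ?_
            obtain ⟨r, rfl⟩ := Submodule.Quotient.mk_surjective _ y
            show x • v (Submodule.Quotient.mk r) = 0
            rw [← map_smul, ← Submodule.Quotient.mk_smul, smul_eq_mul,
              (Submodule.Quotient.mk_eq_zero _).2 (Ideal.mul_mem_right r _
                (Ideal.mem_sup_right (Ideal.mem_span_singleton_self x))), map_zero]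
          · exact (congrArg e hz).trans (e.apply_symm_apply _)
        · rintro ⟨z, rfl⟩
          have h0 : x • δ z = 0 := by
            have := (hex₁ (δ z)).2 ⟨z, rfl⟩
            change (HomologicalComplex.homologyMap f xs.length).hom (δ z) = 0 at this
            rw [hf] at this
            exact this
          have hu : x • e (δ z) = 0 := by
            show x • e (δ z) = 0
            exact (map_smul e x (δ z)).symm.trans ((congrArg e h0).trans (map_zero e))
          refine ⟨Submodule.liftQ _ ((e (δ z)).comp (Submodule.mkQ I)) ?_, ?_⟩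
          · intro a ha
            obtain ⟨b, hb, c, hc, rfl⟩ := Submodule.mem_sup.1 ha
            obtain ⟨d, rfl⟩ := Ideal.mem_span_singleton'.1 hc
            refine LinearMap.mem_ker.2 ((map_add _ _ _).trans ?_)
            rw [LinearMap.comp_apply, LinearMap.comp_apply, Submodule.mkQ_apply,
              (Submodule.Quotient.mk_eq_zero I).2 hb, map_zero, zero_add, Submodule.mkQ_apply,
              mul_comm, ← smul_eq_mul, Submodule.Quotient.mk_smul, map_smul]
            exact LinearMap.congr_fun hu (Submodule.Quotient.mk d)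
          · refine LinearMap.ext fun y => ?_
            obtain ⟨r, rfl⟩ := Submodule.Quotient.mk_surjective _ y
            rfl
      exact ⟨(LinearEquiv.ofInjective (e.toLinearMap.comp δ) (e.injective.comp hδ)).trans
        ((LinearEquiv.ofEq _ _ hrange.symm).trans (LinearEquiv.ofInjective ρ hρ).symm)⟩


/-- Let `A` be a commutative ring, `xs = (x_1, …, x_p)` a sequence in `A` such that each `x_i` is a
non-zero-divisor on `A/(x_1, …, x_{i-1})`, `J` the ideal generated by the `x_i` and `M` any
`A`-module. Then `Tor_p^A(A/J, M)` (Mathlib's `Tor'`, the left derived functors of `- ⊗ M` evaluated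
at `A/J`, i.e. computed from a resolution of `A/J`) is isomorphic as an `A`-module to `Hom_A(A/J,
M)`, i.e. to the elements of `M` killed by `J`. (Existence of an `A`-linear isomorphism only; the
published one is induced by the Koszul complex of `xs`.) -/
theorem result (A : Type u) [CommRing A] (xs : List A) (hreg : RingTheory.Sequence.IsWeaklyRegular A xs) (M : Type u) [AddCommGroup M] [Module A M] : Nonempty (↑(((Tor' (ModuleCat.{u} A) xs.length).obj (ModuleCat.of A (A ⧸ Ideal.ofList xs))).obj (ModuleCat.of A M)) ≃ₗ[A] ((A ⧸ Ideal.ofList xs) →ₗ[A] M)) := by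
  let X : ModuleCat.{u} A := ModuleCat.of A (A ⧸ Ideal.ofList xs)
  let Y : ModuleCat.{u} A := ModuleCat.of A M
  let P : ProjectiveResolution Y := ProjectiveResolution.of _
  obtain ⟨e⟩ := (top_tor Y P xs hreg).2
  obtain ⟨s⟩ := Groth.Agent.CAlgOdd.TorSymm.nonempty_flip (R := A) xs.length
  let b : (tensoringRight (ModuleCat.{u} A)).obj Y ≅ (tensoringLeft (ModuleCat.{u} A)).obj Y :=
    NatIso.ofComponents (fun Z => β_ Z Y) fun {Z Z'} h => BraidedCategory.braiding_naturality_left h Y
  let d : ((tensoringRight (ModuleCat.{u} A)).obj Y).leftDerived xs.length ≅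
      ((tensoringLeft (ModuleCat.{u} A)).obj Y).leftDerived xs.length :=
    { hom := NatTrans.leftDerived b.hom _
      inv := NatTrans.leftDerived b.inv _
      hom_inv_id := by rw [← NatTrans.leftDerived_comp, b.hom_inv_id, NatTrans.leftDerived_id]
      inv_hom_id := by rw [← NatTrans.leftDerived_comp, b.inv_hom_id, NatTrans.leftDerived_id] }
  exact ⟨(d.app X ≪≫ ((s.app Y).app X) ≪≫
    P.isoLeftDerivedObj (Groth.Agent.TorBridge.tenF X) xs.length).toLinearEquiv ≪≫ₗ e⟩

end Groth.Agent.S5673
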