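import Groth.Statements.S5674
import Groth.Agent.ExtShX.SmPure
import Groth.Agent.ExtShX.GlobalExt
import Groth.Agent.ExtShX.Codim
import Groth.Agent.ExtShX.Depth
import Groth.Agent.QCoh.Support
import Groth.Agent.Lib.Euler
import Groth.Agent.Lib.CurveDeg

set_option autoImplicit false
set_option backward.isDefEq.respectTransparency false
set_option backward.isDefEq.respectTransparency.types false
universe u
open CategoryTheory CategoryTheory.Limits AlgebraicGeometry
open ProjDual

namespace Groth.Agent.S5674

/-- Let `k` be an algebraically closed field, `X` a nonsingular algebraic set of dimension `n` over `k`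
— here: a quasi-compact `k`-scheme smooth of relative dimension `n` over `k` — `F` a coherent
`O_X`-module whose support has dimension at most `n - p`, and `L` a finite locally free
`O_X`-module. Then the (global) groups `Ext^i_{O_X}(F, L)` vanish for `i < p`. (All components of
`X` have dimension `n`; for a nonsingular algebraic set with a component of smaller dimension the
conclusion fails. The Ext instance on the category of `O_X`-modules is taken as a hypothesis; it
holds since that category is Grothendieck abelian.) -/
theorem result (k : Type u) [Field k] [IsAlgClosed k] (n : ℕ) (X : Scheme.{u}) [X.Over (Spec (CommRingCat.of k))] [SmoothOfRelativeDimension n (X ↘ Spec (CommRingCat.of k))] [CompactSpace X] [HasExt.{u} X.Modules] (F : X.Modules) (hF : Coh.IsCoh F) (L : X.Modules) (hL : FlatMod.IsFinLocFree L) (p : ℕ) (hsupp : topologicalKrullDim ↥(CohB1.support F) + p ≤ n) (i : ℕ) (hi : i < p) : Subsingleton (Abelian.Ext F L i) := by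
  classical
  let f := X ↘ Spec (CommRingCat.of k)
  haveI : Smooth f := SmoothOfRelativeDimension.smooth (n := n) f
  haveI : IsLocallyNoetherian X := LocallyOfFiniteType.isLocallyNoetherian f
  haveI : ∀ M : X.Modules, ModSite.HasSheafHom (O := X.sheaf) M := fun M => ModTensor.hasSheafHom (O := X.sheaf) M
  haveI : EnoughInjectives (ModSite.Mod X.sheaf) := IsGrothendieckAbelian.enoughInjectives
  let U : X.Opens := ⟨(CohB1.support F)ᶜ, (QCoh.isClosed_support_of_isFT hF.1 hF.2).isOpen_compl⟩
  have hz : ∀ q : ℕ, q < p → IsZero ((ModSite.extSh (O := X.sheaf) F q).obj L) := fun q hq =>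
    ExtShX.isZero_extSh_of_depth U (CurveDeg.isCoh_of_isFinLocFree hL) hF (n := p) (fun x hx => by
      refine ExtShX.le_depth_of_regular f
        (fun z => GrpSchLib.isRegularLocalRing_stalk_of_smooth f z)
        (fun Z hZ => ExtShX.SmDual.dim_component (k := k) (r := n) Z hZ) hL x ?_
      have hxs : x ∈ CohB1.support F := not_not.1 hx
      have hle : closure ({x} : Set X) ⊆ CohB1.support F :=
        (QCoh.isClosed_support_of_isFT hF.1 hF.2).closure_subset_iff.2 (Set.singleton_subset_iff.2 hxs)
      have hd : topologicalKrullDim ↥(closure ({x} : Set X)) ≤ topologicalKrullDim ↥(CohB1.support F) :=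
        (Topology.IsEmbedding.inclusion hle).isInducing.topologicalKrullDim_le
      rw [VarDim.topologicalKrullDim_closure_singleton f x] at hd
      have h3 : ((VarDim.deg f x : ℕ) : WithBot ℕ∞) + (p : WithBot ℕ∞) ≤ (n : WithBot ℕ∞) :=
        le_trans (add_le_add (by exact_mod_cast hd) le_rfl) hsupp
      exact_mod_cast h3)
      (fun x hx hm => hm hx) q hq
  obtain ⟨e⟩ := ExtShX.GlobalExt.nonempty_ext_equiv_sections (A := k) F i L fun q hq p' =>
    Euler.subsingleton_HH_of_isZero (hz q (lt_of_le_of_lt hq hi)) (p' + 1)
  haveI := Euler.subsingleton_HH_of_isZero (hz i hi) 0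
  exact e.toEquiv.subsingleton

end Groth.Agent.S5674
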