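import Groth.Statements.S5679
import Groth.Agent.TauLib.OpenGroup
-- import your own Groth.Agent.* helpers here

set_option autoImplicit false
universe u
open CategoryTheory CategoryTheory.Limits MonoidalCategory CartesianMonoidalCategory MonObj GrpObj AlgebraicGeometry
open FGA

namespace Groth.Agent.S5679
set_option backward.isDefEq.respectTransparency false
set_option backward.isDefEq.respectTransparency.types false

open Groth.Agent

/-- Let S be a nonempty locally Noetherian scheme and G a group scheme locally of finite type over S.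
Then there are a nonempty open subset U of S, a group scheme H of finite type over U with connected
fibres, and a homomorphism from H to the base change of G to U which is an open immersion and whose
image in G is the set of points lying over U in the union of the connected components of the
identity of the fibres of G. -/
theorem result (S : Scheme.{u}) [IsLocallyNoetherian S] [Nonempty ↥S]
    (G : Over S) [GrpObj G] [LocallyOfFiniteType G.hom] :
    ∃ U : S.Opens, (U : Set ↥S).Nonempty ∧
      ∃ (H : Over (U : Scheme.{u})) (_ : GrpObj H) (i : H ⟶ Red.bc U.ι G), IsMonHom i ∧ IsOpenImmersion i.left ∧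
        QuasiCompact H.hom ∧ LocallyOfFiniteType H.hom ∧
        (∀ u : ↥(U : Scheme.{u}), _root_.IsConnected (H.hom.base ⁻¹' {u})) ∧
        Set.range (i.left ≫ pullback.fst G.hom U.ι).base = SGA3x.neutralSet G ∩ G.hom.base ⁻¹' (U : Set ↥S) := by
  obtain ⟨U, hne, hopen⟩ := TauLib.exists_nonempty_open G
  haveI : LocallyOfFiniteType (Red.bc U.ι G).hom := MorphismProperty.pullback_snd _ _ ‹_›
  haveI : IsLocallyNoetherian (U : Scheme.{u}) := inferInstance
  haveI : LocallyOfFinitePresentation (Red.bc U.ι G).hom := inferInstance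
  have hr : Set.range (pullback.fst G.hom U.ι).base = G.hom.base ⁻¹' (U : Set ↥S) := by
    ext x
    refine ⟨?_, fun hx => ?_⟩
    · rintro ⟨z, rfl⟩
      have e : G.hom (pullback.fst G.hom U.ι z) = U.ι ((pullback.snd G.hom U.ι) z) :=
        congrArg (fun m : pullback G.hom U.ι ⟶ S => m z) pullback.condition
      show G.hom (pullback.fst G.hom U.ι z) ∈ U
      rw [e]; exact ((pullback.snd G.hom U.ι) z).2
    · obtain ⟨z, hz, -⟩ := Scheme.Pullback.exists_preimage_pullback (f := G.hom) (g := U.ι) x ⟨G.hom x, hx⟩ rfl
      exact ⟨z, hz⟩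
  have hn := GrpSchLib.Neutral.neutralSet_bc G U.ι
  have hopen' : IsOpen (SGA3x.neutralSet (Red.bc U.ι G)) := by
    rw [hn, show pullback.fst G.hom U.ι ⁻¹' SGA3x.neutralSet G =
        pullback.fst G.hom U.ι ⁻¹' (SGA3x.neutralSet G ∩ G.hom ⁻¹' (U : Set ↥S)) from
      Set.ext fun z => ⟨fun h => ⟨h, hr.le ⟨z, rfl⟩⟩, fun h => h.1⟩]
    exact hopen.preimage (pullback.fst G.hom U.ι).continuous
  obtain ⟨H, instH, i, hi, hoi, hqc, hconn, hrange⟩ := TauLib.exists_openSubgroup (Red.bc U.ι G) hopen'
  haveI := hoi
  refine ⟨U, hne, H, instH, i, hi, hoi, hqc, ?_, hconn, ?_⟩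
  · rw [← Over.w i]; infer_instance
  · show Set.range (⇑(pullback.fst G.hom U.ι) ∘ ⇑i.left) = _
    rw [Set.range_comp, hrange, hn]
    refine (Set.image_preimage_eq_inter_range).trans ?_
    rw [hr]

end Groth.Agent.S5679
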