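import Groth.Statements.S5680
import Groth.Agent.S15400
import Groth.Agent.H23.PicMul
-- import your own Groth.Agent.* helpers here

set_option autoImplicit false
universe u
open CategoryTheory CategoryTheory.Limits AlgebraicGeometry
open FGA

namespace Groth.Agent.S5680
set_option backward.isDefEq.respectTransparency false
set_option backward.isDefEq.respectTransparency.types false

open Groth.Agent

theorem nsmul_bijective_HH {X : Scheme.{u}} (M : X.Modules) (n : ℕ) (hn : IsUnit (n : Γ(X, ⊤))) (k : ℕ) :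
    Function.Bijective (fun x : Coh.HH X M k => n • x) := by
  have hiso : IsIso (n • 𝟙 (Coh.toAb M)) := by
    suffices IsIso ((n • 𝟙 (Coh.toAb M) : Coh.toAb M ⟶ Coh.toAb M).hom) by
      haveI : IsIso ((sheafToPresheaf (Opens.grothendieckTopology X) Ab.{u}).map (n • 𝟙 (Coh.toAb M))) := this
      exact isIso_of_fully_faithful (sheafToPresheaf (Opens.grothendieckTopology X) Ab.{u}) _
    rw [NatTrans.isIso_iff_isIso_app]
    intro U
    rw [ConcreteCategory.isIso_iff_bijective]
    obtain ⟨u, hu⟩ : IsUnit (n : X.ringCatSheaf.obj.obj U) := by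
      have := hn.map (X.presheaf.map (homOfLE (le_top : U.unop ≤ ⊤)).op).hom
      rwa [map_natCast] at this
    have h : ∀ x : M.val.obj U, n • x = u • x := fun x => by
      rw [Units.smul_def, hu, Nat.cast_smul_eq_nsmul]
    change Function.Bijective fun x : M.val.obj U => n • x
    simp only [h]
    exact MulAction.bijective u
  let φ : Coh.toAb M ⟶ Coh.toAb M := n • 𝟙 (Coh.toAb M)
  haveI : IsIso φ := hiso
  have hmap : ∀ (m : ℕ) (x : Coh.HH X M k), Sheaf.H.map (m • 𝟙 (Coh.toAb M)) k x = m • x := by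
    intro m x
    induction m with
    | zero => simp [Sheaf.H.map_apply, CategoryTheory.Abelian.Ext.mk₀_zero]
    | succ m ih => rw [succ_nsmul, Sheaf.H.map_add_apply, ih, Sheaf.H.map_id_apply, succ_nsmul]
  have e : (fun x : Coh.HH X M k => n • x) = Sheaf.H.map φ k := funext fun x => (hmap n x).symm
  rw [e]
  refine Function.bijective_iff_has_inverse.mpr ⟨Sheaf.H.map (inv φ) k, fun x => ?_, fun x => ?_⟩
  · rw [← Sheaf.H.map_comp_apply, IsIso.hom_inv_id, Sheaf.H.map_id_apply]
  · rw [← Sheaf.H.map_comp_apply, IsIso.inv_hom_id, Sheaf.H.map_id_apply]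

theorem isUnit_natCast_of_ne_zero {A : Type u} [CommRing A] [IsLocalRing A] {n : ℕ}
    (hn : (n : IsLocalRing.ResidueField A) ≠ 0) : IsUnit (n : A) := by
  rw [← IsLocalRing.residue_ne_zero_iff_isUnit, map_natCast]
  exact hn

theorem exists_root {X : Scheme.{u}} (I : X.IdealSheafData) (hI : I * I = ⊥) (n : ℕ)
    (hn : IsUnit (n : Γ(X, ⊤))) (l : PicF.Cl X) (hl : PicF.IsInvertibleCl l)
    (l' : PicF.Cl I.subscheme) (hl' : PicF.IsInvertibleCl l')
    (h : letI := H23.PicMul.clMonoid I.subscheme; l' ^ n = PicF.pullCl I.subschemeι l) :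
    letI := H23.PicMul.clMonoid X; ∃ m : PicF.Cl X, PicF.IsInvertibleCl m ∧ m ^ n = l := by
  letI := H23.PicMul.law X
  letI := H23.PicMul.law I.subscheme
  letI := H23.PicMul.clMonoid X
  letI := H23.PicMul.clMonoid I.subscheme
  obtain ⟨ε, δ₀, α, δ₁, -, -, -, -, hα, hδ⟩ := S15400.result X I hI (H23.PicMul.pullMul I.subschemeι)
  let φ := PicGrp.pullHom I.subschemeι (H23.PicMul.pullMul I.subschemeι)
  have hval : ∀ {Y : Scheme.{u}} (a : PicLoc.PicSet Y) (k : ℕ),
      letI := H23.PicMul.law Y; letI := H23.PicMul.clMonoid Y; (a ^ k).1 = a.1 ^ k := by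
    intro Y a k
    letI := H23.PicMul.law Y
    letI := H23.PicMul.clMonoid Y
    induction k with
    | zero => rw [pow_zero, pow_zero]; rfl
    | succ k ih => rw [pow_succ, pow_succ, ← ih]; rfl
  let a : PicLoc.PicSet I.subscheme := ⟨l', hl'⟩
  let b : PicLoc.PicSet X := ⟨l, hl⟩
  have hab : a ^ n = φ b := Subtype.ext ((hval a n).trans h)
  have h2 : δ₁ a ^ n = 1 := by
    rw [← map_pow, hab]
    exact (hδ ▸ ⟨b, rfl⟩ : φ b ∈ δ₁.ker)
  have ha : a ∈ δ₁.ker := by
    have := (nsmul_bijective_HH (ClSub.idealMod I) n hn 2).1 (a₁ := Multiplicative.toAdd (δ₁ a)) (a₂ := 0)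
      (((toAdd_pow _ n).symm.trans (congrArg Multiplicative.toAdd h2)).trans (smul_zero n).symm)
    exact congrArg Multiplicative.ofAdd this
  rw [hδ] at ha
  obtain ⟨m, hm⟩ := ha
  have h3 : (m ^ n)⁻¹ * b ∈ φ.ker := by
    rw [MonoidHom.mem_ker, map_mul, map_inv, map_pow, show φ m = a from hm, hab, inv_mul_cancel]
  rw [hα] at h3
  obtain ⟨e, he⟩ := h3
  obtain ⟨e', he'⟩ := (nsmul_bijective_HH (ClSub.idealMod I) n hn 1).2 (Multiplicative.toAdd e)
  have h4 : Multiplicative.ofAdd e' ^ n = e := by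
    rw [← ofAdd_nsmul]; exact congrArg Multiplicative.ofAdd he'
  have h5 : (m * α (Multiplicative.ofAdd e')) ^ n = b := by
    rw [mul_pow, ← map_pow, h4, he, mul_inv_cancel_left]
  exact ⟨_, (m * α (Multiplicative.ofAdd e')).2, (hval _ n).symm.trans (congrArg Subtype.val h5)⟩


/-- Let A be an artinian local ring with maximal ideal m and ν ≥ 1 an integer with m^(ν+1) = 0; let X be
a scheme proper and flat over Spec A, n a natural number whose image in the residue field of A is
nonzero, L an invertible module on X and L' an invertible module on the closed subscheme X ×_A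
Spec(A/m^ν) whose n-th tensor power is isomorphic to the pullback of L. Then there is an invertible
module M on X whose n-th tensor power is isomorphic to L (existence of an isomorphism). -/
theorem result (A : Type u) [CommRing A] [IsArtinianRing A] [IsLocalRing A]
    (ν : ℕ) (hν : 1 ≤ ν) (hm : IsLocalRing.maximalIdeal A ^ (ν + 1) = ⊥)
    (X : Scheme.{u}) (f : X ⟶ Spec (CommRingCat.of A)) [IsProper f] [Flat f]
    (n : ℕ) (hn : (n : IsLocalRing.ResidueField A) ≠ 0)
    (L : X.Modules) (hL : PicF.IsInvertible L)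
    (L' : (pullback f (Spec.map (CommRingCat.ofHom (Ideal.Quotient.mk (IsLocalRing.maximalIdeal A ^ ν))))).Modules)
    (hL' : PicF.IsInvertible L')
    (hroot : Nonempty (CohB1.tensorPow L' n ≅
      (Scheme.Modules.pullback (pullback.fst f (Spec.map (CommRingCat.ofHom (Ideal.Quotient.mk (IsLocalRing.maximalIdeal A ^ ν)))))).obj L)) :
    ∃ M : X.Modules, PicF.IsInvertible M ∧ Nonempty (CohB1.tensorPow M n ≅ L) := by
  letI := H23.PicMul.clMonoid X
  let q := CommRingCat.ofHom (Ideal.Quotient.mk (IsLocalRing.maximalIdeal A ^ ν))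
  haveI : IsClosedImmersion (Spec.map q) := IsClosedImmersion.spec_of_surjective q Ideal.Quotient.mk_surjective
  let i := pullback.fst f (Spec.map q)
  haveI : IsClosedImmersion i := inferInstance
  let ψ : A →+* Γ(X, ⊤) := ((Scheme.ΓSpecIso (CommRingCat.of A)).inv ≫ f.appTop).hom
  let K := Scheme.IdealSheafData.ofIdealTop (X := X) ((IsLocalRing.maximalIdeal A ^ ν).map ψ)
  have hK : K * K = ⊥ := by
    have h0 : (IsLocalRing.maximalIdeal A ^ ν).map ψ * (IsLocalRing.maximalIdeal A ^ ν).map ψ = ⊥ := by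
      rw [← Ideal.map_mul, ← pow_add, eq_bot_mono (Ideal.pow_le_pow_right (by omega)) hm, Ideal.map_bot]
    apply Scheme.IdealSheafData.ext
    funext U
    simp only [Scheme.IdealSheafData.ideal_mul, Pi.mul_apply, K, Scheme.IdealSheafData.ofIdealTop_ideal,
      ← Ideal.map_mul, h0, Ideal.map_bot, Scheme.IdealSheafData.ideal_bot, Pi.bot_apply]
  have hle : i.ker ≤ K := by
    have hz : ∀ a ∈ IsLocalRing.maximalIdeal A ^ ν, K.subschemeι.appTop.hom (ψ a) = 0 := by
      intro a ha
      have hk : ψ a ∈ Ideal.map ψ (IsLocalRing.maximalIdeal A ^ ν) := Ideal.mem_map_of_mem ψ ha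
      refine K.subscheme.sheaf.eq_of_locally_eq' (fun U : X.affineOpens => K.subschemeι ⁻¹ᵁ U.1) ⊤
        (fun U => homOfLE le_top) ?_ _ _ fun U => ?_
      · intro x _
        obtain ⟨U, hU, hx, -⟩ := exists_isAffineOpen_mem_and_subset (X := X) (x := K.subschemeι x) (U := ⊤) trivial
        exact TopologicalSpace.Opens.mem_iSup.mpr ⟨⟨U, hU⟩, hx⟩
      · have hm' : X.presheaf.map (homOfLE (le_top : U.1 ≤ ⊤)).op (ψ a) ∈ K.ideal U := by
          simp only [K, Scheme.IdealSheafData.ofIdealTop_ideal]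
          exact Ideal.mem_map_of_mem _ hk
        have hk' : X.presheaf.map (homOfLE (le_top : U.1 ≤ ⊤)).op (ψ a) ∈ RingHom.ker (K.subschemeι.app U.1).hom := by
          rw [K.ker_subschemeι_app U]; exact hm'
        rw [map_zero]
        exact (ConcreteCategory.congr_hom (K.subschemeι.naturality (homOfLE (le_top : U.1 ≤ ⊤)).op) (ψ a)).symm.trans hk' 
    let c : Spec (Γ(K.subscheme, ⊤)) ⟶ Spec (CommRingCat.of (A ⧸ IsLocalRing.maximalIdeal A ^ ν)) :=
      Spec.map (CommRingCat.ofHom (Ideal.Quotient.lift _ (K.subschemeι.appTop.hom.comp ψ) hz))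
    have w : K.subschemeι ≫ f = (K.subscheme.toSpecΓ ≫ c) ≫ Spec.map q := by
      rw [Category.assoc, ← Spec.map_comp]
      apply ext_of_isAffine
      rw [Scheme.Hom.comp_appTop, Scheme.Hom.comp_appTop, Scheme.toSpecΓ_appTop,
        show q ≫ CommRingCat.ofHom (Ideal.Quotient.lift _ (K.subschemeι.appTop.hom.comp ψ) hz) =
          ((Scheme.ΓSpecIso (CommRingCat.of A)).inv ≫ f.appTop) ≫ K.subschemeι.appTop from rfl,
        Scheme.ΓSpecIso_naturality]
      simp [Category.assoc]
    calc i.ker ≤ (pullback.lift K.subschemeι (K.subscheme.toSpecΓ ≫ c) w ≫ i).ker := Scheme.Hom.le_ker_comp _ _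
      _ = K := by rw [pullback.lift_fst, Scheme.IdealSheafData.ker_subschemeι]
  have hI : i.ker * i.ker = ⊥ := le_bot_iff.mp ((mul_le_mul' hle hle).trans_eq hK)
  have hnX : IsUnit (n : Γ(X, ⊤)) := by
    have := (isUnit_natCast_of_ne_zero hn).map ψ
    rwa [map_natCast] at this
  haveI : IsIso i.toImage := inferInstance
  let e := i.toImage
  letI := H23.PicMul.clMonoid (pullback f (Spec.map q))
  letI := H23.PicMul.clMonoid i.ker.subscheme
  have h : PicF.pullCl (inv e) (PicF.cl L') ^ n = PicF.pullCl i.ker.subschemeι (PicF.cl L) := by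
    rw [← H23.PicMul.pullCl_pow, ← H23.PicMul.cl_tensorPow, H23.PicMul.cl_eq_iff.mpr hroot]
    change PicF.pullCl (inv e) (PicF.pullCl i (PicF.cl L)) = _
    rw [← PicLoc.pullCl_comp, show inv e ≫ i = i.ker.subschemeι by rw [IsIso.inv_comp_eq]; exact (Scheme.Hom.toImage_imageι i).symm]
  obtain ⟨m, ⟨M, rfl, hM⟩, hm'⟩ := exists_root i.ker hI n hnX (PicF.cl L) ⟨L, rfl, hL⟩ _
    (PicLoc.isInvertibleCl_pullCl (inv e) ⟨L', rfl, hL'⟩) h
  rw [← H23.PicMul.cl_tensorPow, H23.PicMul.cl_eq_iff] at hm'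
  exact ⟨M, hM, hm'⟩

end Groth.Agent.S5680
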