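import Groth.Statements.S5686
import Groth.Agent.PicSmooth.NPow
-- import your own Groth.Agent.* helpers here

set_option autoImplicit false
universe u
open CategoryTheory CategoryTheory.Limits AlgebraicGeometry
open FGA
open scoped Groth.Agent.H23.PicMul

namespace Groth.Agent.S5686
set_option backward.isDefEq.respectTransparency false
set_option backward.isDefEq.respectTransparency.types false

/-- Let S be a locally Noetherian scheme, f : X ⟶ S proper and flat, and suppose the relative Picard
functor of X over S (sheafified for the etale topology) is represented by an S-scheme P, locally of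
finite type over S, through the family of maps φ. Let n be a natural number and m : P ⟶ P an
S-morphism such that for every S-scheme T and every invertible module L on X ×_S T, φ applied to the
class of the n-th tensor power of L equals φ applied to the class of L followed by m (so m is the
n-th power map of the Picard scheme). Then m is etale at all points of P whose residue
characteristic is prime to n: the restriction of m to the open subset of P where n is invertible is
etale. (Local finite type of P over S is recorded as a hypothesis.) -/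
theorem result {X S : Scheme.{u}} [IsLocallyNoetherian S] (f : X ⟶ S) [IsProper f] [Flat f]
    (P : Over S) [LocallyOfFiniteType P.hom] (φ : ∀ T : Over S, PicF.Cl (PicF.XT f T) → (T ⟶ P))
    (hP : PicRel.IsRelPic f P φ) (n : ℕ) (m : P ⟶ P)
    (hm : ∀ (T : Over S) (L : (PicF.XT f T).Modules), PicF.IsInvertible L →
      φ T (PicF.cl (CohB1.tensorPow L n)) = φ T (PicF.cl L) ≫ m) :
    Etale ((P.left.basicOpen (n : Γ(P.left, ⊤))).ι ≫ m.left) := by
  have hm' : ∀ (T : Over S) (c : PicF.Cl (PicF.XT f T)), PicF.IsInvertibleCl c → φ T (c ^ n) = φ T c ≫ m := by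
    rintro T c ⟨L, rfl, hL⟩
    rw [← H23.PicMul.cl_tensorPow]
    exact hm T L hL
  haveI : IsLocallyNoetherian P.left := LocallyOfFiniteType.isLocallyNoetherian P.hom
  haveI : LocallyOfFiniteType m.left := by
    haveI : LocallyOfFiniteType (m.left ≫ P.hom) := by rw [Over.w m]; infer_instance
    exact locallyOfFiniteType_of_comp m.left P.hom
  have key : ∀ p : P.left, p ∈ P.left.basicOpen (n : Γ(P.left, ⊤)) →
      ∃ U : P.left.Opens, p ∈ U ∧ Etale (U.ι ≫ m.left) := by
    intro p hp
    obtain ⟨V, W, a, r, w, c, d, z, ha, hr, haz, hc, hd, hca, hdr, haw, hcd⟩ := PicNPow.exists_chart hP n m hm' p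
    have hnp : IsUnit (n : P.left.presheaf.stalk p) := by
      rw [← map_natCast (P.left.presheaf.germ ⊤ p trivial).hom]
      exact (P.left.mem_basicOpen_top _ p).1 hp
    have hnz : IsUnit (n : V.left.presheaf.stalk z) := by
      subst haz
      rw [← map_natCast (a.left.stalkMap z).hom]
      exact hnp.map _
    haveI : IsLocallyNoetherian W.left := by
      exact LocallyOfFiniteType.isLocallyNoetherian r.left
    haveI : LocallyOfFiniteType w.left := by
      haveI : LocallyOfFiniteType (w.left ≫ r.left) := by
        rw [← Over.comp_left, ← haw, Over.comp_left]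
        infer_instance
      exact locallyOfFiniteType_of_comp w.left r.left
    obtain ⟨U₁, hU₁, hs⟩ := PicNPow.smooth_nhd hP hm' hc hd hca hdr haw hcd z hnz
    obtain ⟨U₂, hU₂, hu⟩ := PicNPow.unramified_nhd hP hm' hc hd hca hdr haw hcd z hnz
    haveI : Smooth ((U₁ ⊓ U₂).ι ≫ w.left) := by
      rw [← V.left.homOfLE_ι (inf_le_left : U₁ ⊓ U₂ ≤ U₁), Category.assoc]; infer_instance
    haveI : AlgebraicGeometry.FormallyUnramified ((U₁ ⊓ U₂).ι ≫ w.left) := by
      rw [← V.left.homOfLE_ι (inf_le_right : U₁ ⊓ U₂ ≤ U₂), Category.assoc]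
      exact MorphismProperty.comp_mem _ _ _ inferInstance hu
    haveI : Etale ((U₁ ⊓ U₂).ι ≫ w.left) := Etale.of_formallyUnramified_of_flat _
    obtain ⟨U, hU, hUe⟩ := FlatPtDesc.etale_nhd_source m.left a.left z (Flat.stalkMap a.left z)
      ⟨U₁ ⊓ U₂, ⟨hU₁, hU₂⟩, by
        rw [show a.left ≫ m.left = w.left ≫ r.left from congrArg CommaMorphism.left haw, ← Category.assoc]
        infer_instance⟩
    exact ⟨U, haz ▸ hU, hUe⟩
  choose U hpU hU using key
  refine (IsZariskiLocalAtSource.iff_of_iSup_eq_top (P := @Etale)
    (fun p : P.left.basicOpen (n : Γ(P.left, ⊤)) => (P.left.basicOpen (n : Γ(P.left, ⊤))).ι ⁻¹ᵁ U p.1 p.2)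
    (top_le_iff.1 fun p _ => TopologicalSpace.Opens.mem_iSup.2 ⟨p, hpU p.1 p.2⟩)).2 fun p => ?_
  haveI := hU p.1 p.2
  rw [← Category.assoc, ← morphismRestrict_ι, Category.assoc]
  infer_instance

end Groth.Agent.S5686
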