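import Groth.Statements.S5687
import Groth.Agent.PicSmooth.Lift
import Groth.Agent.S2793
import Groth.Agent.S1488
import Groth.Agent.FlatPtDesc.Source
import Groth.Agent.PicClLib.Basic
-- import your own Groth.Agent.* helpers here

set_option autoImplicit false
universe u
open CategoryTheory CategoryTheory.Limits AlgebraicGeometry
open FGA

namespace Groth.Agent.S5687
set_option backward.isDefEq.respectTransparency false
set_option backward.isDefEq.respectTransparency.types false

/-- Let S be a locally Noetherian scheme, f : X ⟶ S proper and flat, and P an S-scheme locally of finite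
type over S representing the relative Picard functor of X over S sheafified for the etale topology.
Let s be a point of S such that the second cohomology group of the structure sheaf of the fibre X_s
vanishes. Then there is an open neighbourhood U of s such that the inverse image of U in P is smooth
over S. (Local finite type of P over S is recorded as a hypothesis.) -/
theorem result {X S : Scheme.{u}} [IsLocallyNoetherian S] (f : X ⟶ S)
    [IsProper f] [Flat f] (P : Over S) [LocallyOfFiniteType P.hom] (hP : PicRel.RepresentedBy f P) (s : S)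
    (h2 : Subsingleton (Coh.HH (pullback f (S.fromSpecResidueField s)) (Coh.structureModule _) 2)) :
    ∃ U : S.Opens, s ∈ U ∧ Smooth ((P.hom ⁻¹ᵁ U).ι ≫ P.hom) := by
  obtain ⟨φ, hφ⟩ := hP
  obtain ⟨U, hsU, hU⟩ := PicSmooth.exists_open_vanishing f 2 s h2
  refine ⟨U, hsU, ?_⟩
  suffices key : ∀ p : P.left, P.hom p ∈ U → ∃ W : P.left.Opens, p ∈ W ∧ Smooth (W.ι ≫ P.hom) by
    choose W hpW hW using key
    let O : P.left.Opens := P.hom ⁻¹ᵁ U
    refine (IsZariskiLocalAtSource.iff_of_iSup_eq_top (P := @Smooth) (fun p : O => O.ι ⁻¹ᵁ W p.1 p.2)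
      (top_le_iff.1 fun p _ => TopologicalSpace.Opens.mem_iSup.2 ⟨p, hpW p.1 p.2⟩)).2 fun p => ?_
    haveI := hW p.1 p.2
    rw [← Category.assoc, ← morphismRestrict_ι, Category.assoc]
    infer_instance
  intro p hp
  obtain ⟨ι, V, hV, hcl⟩ := hφ.locallySurjective P (𝟙 P)
  obtain ⟨i, x, hx⟩ := hV p
  obtain ⟨c, hc, hcq⟩ := hcl i
  let V' := PicRel.ovr P (V i)
  let q : V' ⟶ P := PicRel.ovrHom P (V i)
  rw [Category.comp_id] at hcq
  haveI hqet : Etale q.left := (V i).prop
  haveI : Smooth q.left := inferInstance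
  haveI : LocallyOfFiniteType V'.hom := by
    rw [← Over.w q]; infer_instance
  have hxp : q.left x = p := hx
  have hsm : ∃ W : V'.left.Opens, x ∈ W ∧ Smooth (W.ι ≫ q.left ≫ P.hom) := by
    rw [Over.w q]
    refine (Groth.Agent.S2793.result V'.hom x).2 ?_
    intro A' _ _ _ h _ I hI hIm g₀ hg hmax _
    let jq : Spec (CommRingCat.of (A' ⧸ I)) ⟶ Spec (CommRingCat.of A') :=
      Spec.map (CommRingCat.ofHom (Ideal.Quotient.mk I))
    let a : Spec (CommRingCat.of (A' ⧸ I)) ⟶ V'.left := Spec.map (CommRingCat.ofHom g₀) ≫ V'.left.fromSpecStalk x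
    let b : Spec (CommRingCat.of A') ⟶ S := Spec.map (CommRingCat.ofHom h) ≫ S.fromSpecStalk (V'.hom x)
    have hab : a ≫ V'.hom = jq ≫ b := by
      simp only [a, b, jq, Category.assoc]
      rw [← Scheme.SpecMap_stalkMap_fromSpecStalk, ← Category.assoc, ← Category.assoc, ← Spec.map_comp,
        ← Spec.map_comp]
      exact congrArg (fun z => Spec.map z ≫ _) (CommRingCat.hom_ext hg)
    have hbt : b (IsLocalRing.closedPoint A') = V'.hom x := by
      simp only [b, Scheme.Hom.comp_apply]
      rw [show Spec.map (CommRingCat.ofHom h) (IsLocalRing.closedPoint A') = IsLocalRing.closedPoint _ from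
        IsLocalRing.comap_closedPoint h]
      exact Scheme.fromSpecStalk_closedPoint
    have hH : Subsingleton (Coh.HH (f.fiber (b (IsLocalRing.closedPoint A'))) (Coh.structureModule _) 2) := by
      rw [hbt]
      refine hU _ ?_
      rw [← Over.w q, Scheme.Hom.comp_apply, hxp]
      exact hp
    let T₀ : Over S := Over.mk (jq ≫ b)
    let jt : T₀ ⟶ Over.mk b := Over.homMk jq rfl
    let at0 : T₀ ⟶ V' := Over.homMk a hab
    obtain ⟨d, hd, hdc⟩ := PicSmooth.exists_lift_class f I hI hIm b hH T₀ jt (Iso.refl _)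
      (by simp [jt, jq]) (PicF.pullCl (PicF.XTmap f at0) c) (PicLoc.isInvertibleCl_pullCl _ hc)
    let g : Over.mk b ⟶ P := φ _ d
    have hjg : jq ≫ g.left = a ≫ q.left := by
      refine congrArg CommaMorphism.left (?_ : jt ≫ g = at0 ≫ q)
      rw [← hφ.natural _ _ jt d hd, hdc, hφ.natural _ _ at0 c hc, hcq]
    have hI2 : I ^ 2 = ⊥ := by
      rw [eq_bot_iff, ← hIm, pow_two]
      exact Ideal.mul_mono_right (IsLocalRing.le_maximalIdeal hI)
    obtain ⟨l, hl, hlq⟩ := ((Groth.Agent.S1488.result q.left).1 inferInstance).2 A' I hI2 a g.left hjg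
    haveI : IsLocalRing (A' ⧸ I) := by
      haveI := Ideal.Quotient.nontrivial_iff.2 hI
      exact .of_surjective' (Ideal.Quotient.mk I) Ideal.Quotient.mk_surjective
    haveI : IsLocalHom (Ideal.Quotient.mk I) := .of_surjective _ Ideal.Quotient.mk_surjective
    have hlx : l (IsLocalRing.closedPoint A') = x := by
      have hm : (IsLocalRing.maximalIdeal _).map g₀ ≤ IsLocalRing.maximalIdeal (A' ⧸ I) :=
        Ideal.map_le_iff_le_comap.2 fun z hz => IsLocalRing.map_maximalIdeal_le (Ideal.Quotient.mk I) (hmax z hz)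
      haveI : IsLocalHom g₀ := ((IsLocalRing.local_hom_TFAE g₀).out 0 2).2 hm
      rw [← show a (IsLocalRing.closedPoint (A' ⧸ I)) = x by
        simp only [a, Scheme.Hom.comp_apply]
        rw [show Spec.map (CommRingCat.ofHom g₀) (IsLocalRing.closedPoint (A' ⧸ I)) = IsLocalRing.closedPoint _ from
          IsLocalRing.comap_closedPoint g₀]
        exact Scheme.fromSpecStalk_closedPoint, ← hl, Scheme.Hom.comp_apply]
      exact congrArg l (IsLocalRing.comap_closedPoint (Ideal.Quotient.mk I)).symm
    obtain ⟨γ, hγ⟩ : ∃ γ : V'.left.presheaf.stalk x ⟶ CommRingCat.of A',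
        Spec.map γ ≫ V'.left.fromSpecStalk x = l := by
      subst hlx
      exact ⟨Scheme.stalkClosedPointTo l, Scheme.Spec_stalkClosedPointTo_fromSpecStalk l⟩
    refine ⟨γ.hom, ?_, ?_⟩
    · have h1 : Spec.map (V'.hom.stalkMap x ≫ γ) = Spec.map (CommRingCat.ofHom h) := by
        rw [← cancel_mono (S.fromSpecStalk (V'.hom x)), Spec.map_comp, Category.assoc,
          Scheme.SpecMap_stalkMap_fromSpecStalk, reassoc_of% hγ]
        refine (congrArg (fun z => l ≫ z) (Over.w q).symm).trans ?_
        exact ((Category.assoc _ _ _).symm.trans (congrArg (fun z => z ≫ P.hom) hlq)).trans (Over.w g)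
      exact congrArg CommRingCat.Hom.hom (Spec.map_injective h1)
    · have h1 : Spec.map (γ ≫ CommRingCat.ofHom (Ideal.Quotient.mk I)) = Spec.map (CommRingCat.ofHom g₀) := by
        rw [← cancel_mono (V'.left.fromSpecStalk x), Spec.map_comp, Category.assoc, hγ]
        exact hl
      exact congrArg CommRingCat.Hom.hom (Spec.map_injective h1)
  haveI : LocallyOfFinitePresentation P.hom := inferInstance
  obtain ⟨W, hxW, hW⟩ := FlatPtDesc.smooth_nhd_source P.hom q.left x (Flat.stalkMap q.left x) hsm
  exact ⟨W, hxp ▸ hxW, hW⟩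

end Groth.Agent.S5687
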