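import Groth.Statements.S5692
import Groth.Agent.FittStrat.Basic

set_option autoImplicit false
universe u
open CategoryTheory CategoryTheory.Limits AlgebraicGeometry
open FGA Groth.Agent

namespace Groth.Agent.S5692

/-- Let S be a locally Noetherian scheme, M a coherent module on S and r a natural number. Then there is
an immersion e : Z ⟶ S with the following universal property: for every scheme T and every morphism
g : T ⟶ S, the pullback of M along g is locally free of rank r if and only if g factors through e.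
If moreover M is generated by r sections on a neighbourhood of every point of S (equivalently all
fibres of M have rank at most r), then e is a closed immersion. -/
theorem result (S : Scheme.{u}) [IsLocallyNoetherian S]
    (M : S.Modules) (hM : Coh.IsCoh M) (r : ℕ) :
    ∃ (Z : Scheme.{u}) (e : Z ⟶ S), IsImmersion e ∧
      (∀ (T : Scheme.{u}) (g : T ⟶ S),
        FlatMod.IsFinLocFreeOfRank r ((Scheme.Modules.pullback g).obj M) ↔ ∃ g' : T ⟶ Z, g' ≫ e = g) ∧
      ((∀ s : ↥S, ∃ U : S.Opens, s ∈ U ∧ ∃ p : FlatMod.freeMod (↑U) r ⟶ M.restrict U.ι, Epi p) →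
        IsClosedImmersion e) := by
  have hq : Coh.IsQCoh M := hM.1
  have hft : CohB1.IsFT M := hM.2
  have mono : ∀ {k l : ℕ}, k ≤ l → Fitt.sheafIdeal M k ≤ Fitt.sheafIdeal M l := fun {k l} hkl U => by
    haveI := QCoh.finite_of_isFT hq hft U.2
    rw [FittX.sheafIdeal_ideal hq hft, FittX.sheafIdeal_ideal hq hft]
    exact FittX.ideal_mono hkl
  refine ⟨_, FittStrat.pieceι (⨆ k : Fin r, Fitt.sheafIdeal M k) (Fitt.sheafIdeal M r), inferInstance,
    fun T g => ?_, fun hgen => FittStrat.isClosedImmersion_pieceι _ _ ?_⟩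
  · rw [FittStrat.exists_factor_iff,
      FittX.isFinLocFreeOfRank_iff (QCoh.isQCoh_pullback g hq) (FittX.isFT_pullback g hq hft)]
    constructor
    · rintro ⟨h0, h1⟩
      refine ⟨eq_bot_iff.2 (Scheme.IdealSheafData.le_map_iff_comap_le.1 (iSup_le fun k => ?_)), ?_⟩
      · exact Scheme.IdealSheafData.le_map_iff_comap_le.2 ((FittX.sheafIdeal_comap g hq hft k).trans (h0 k k.2)).le
      · exact (FittX.sheafIdeal_comap g hq hft r).trans (h1 r le_rfl)
    · rintro ⟨h0, h1⟩
      refine ⟨fun k hk => ?_, fun k hk => ?_⟩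
      · rw [← FittX.sheafIdeal_comap g hq hft k, eq_bot_iff, ← h0]
        exact (Scheme.IdealSheafData.map_gc g).monotone_l (le_iSup (fun j : Fin r => Fitt.sheafIdeal M j) ⟨k, hk⟩)
      · rw [← FittX.sheafIdeal_comap g hq hft k, eq_top_iff, ← h1]
        exact (Scheme.IdealSheafData.map_gc g).monotone_l (mono hk)
  · refine (Scheme.IdealSheafData.support_eq_bot_iff _).1 (eq_bot_iff.2 fun x hx => ?_)
    obtain ⟨U, hxU, p, hp⟩ := hgen x
    exact absurd hx ((FittX.generated_iff hq hft x r).1 ⟨U, hxU, p, hp⟩)

end Groth.Agent.S5692
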