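import Groth.Statements.S5693
import Groth.Agent.S5325
import Groth.Agent.AlgSpDec.ConstrDescent
import Groth.Agent.AnPts.Constr

set_option autoImplicit false
universe u
open CategoryTheory CategoryTheory.Limits MonoidalCategory CartesianMonoidalCategory MonObj GrpObj AlgebraicGeometry
open FGA

namespace Groth.Agent.S5693

set_option backward.isDefEq.respectTransparency false
set_option backward.isDefEq.respectTransparency.types false

/-- Let S be a locally Noetherian scheme, G a commutative group scheme locally of finite type over S and
n ≥ 1 an integer. The set of points x of G for which n is the least positive integer such that the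
n-th power morphism sends x into the union of the connected components of the identity of the fibres
is locally constructible in G (the order function on the torsion-component set is locally
constructible). -/
theorem result (S : Scheme.{u}) [IsLocallyNoetherian S] (G : Over S) [GrpObj G]
    [IsCommMonObj G] [LocallyOfFiniteType G.hom] (n : ℕ) (hn : 0 < n) :
    Topology.IsLocallyConstructible {x : ↥G.left | ((𝟙 G : G ⟶ G) ^ n).left.base x ∈ SGA3x.neutralSet G ∧
      ∀ d : ℕ, 0 < d → d < n → ((𝟙 G : G ⟶ G) ^ d).left.base x ∉ SGA3x.neutralSet G} := by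
  have hN : Topology.IsLocallyConstructible (SGA3x.neutralSet G) := by
    haveI : IsLocallyNoetherian G.left := LocallyOfFiniteType.isLocallyNoetherian G.hom
    haveI : LocallyOfFinitePresentation G.hom := inferInstance
    exact (Groth.Agent.S5325.result S G).2.2 inferInstance
  have h : {x : ↥G.left | ((𝟙 G : G ⟶ G) ^ n).left.base x ∈ SGA3x.neutralSet G ∧
      ∀ d : ℕ, 0 < d → d < n → ((𝟙 G : G ⟶ G) ^ d).left.base x ∉ SGA3x.neutralSet G} =
      ((𝟙 G : G ⟶ G) ^ n).left.base ⁻¹' SGA3x.neutralSet G ∩
        ⋂ d : Finset.Ico 1 n, (((𝟙 G : G ⟶ G) ^ (d : ℕ)).left.base ⁻¹' SGA3x.neutralSet G)ᶜ := by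
    ext x
    simp only [Set.mem_ofPred_eq, Set.mem_inter_iff, Set.mem_preimage, Set.mem_iInter, Set.mem_compl_iff,
      Subtype.forall, Finset.mem_Ico]
    exact and_congr_right fun _ => ⟨fun H d hd => H d hd.1 hd.2, fun H d h0 h1 => H d ⟨h0, h1⟩⟩
  rw [h]
  exact (AlgSpDec.isLocallyConstructible_preimage_hom _ hN).inter
    (Topology.IsLocallyConstructible.iInter fun d =>
      AnPts.isLocallyConstructible_compl (AlgSpDec.isLocallyConstructible_preimage_hom _ hN))

end Groth.Agent.S5693
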