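import Groth.Statements.S5696
import Groth.Agent.TauLib.RhoOpen
-- import your own Groth.Agent.* helpers here

set_option autoImplicit false
universe u
open CategoryTheory CategoryTheory.Limits MonoidalCategory CartesianMonoidalCategory MonObj GrpObj AlgebraicGeometry
open FGA

namespace Groth.Agent.S5696
set_option backward.isDefEq.respectTransparency false
set_option backward.isDefEq.respectTransparency.types false

open Groth.Agent

/-- Let S be a locally Noetherian scheme all of whose residue fields have the same characteristic, with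
characteristic exponent p, and G a commutative group scheme locally of finite type over S such that
for every integer n ≥ 1 prime to p the n-th power morphism of G is an open map. Then the set of
points x of G some p^h-th power of which (h ≥ 0) lies in the union of the connected components of
the identity of the fibres is open in G. -/
theorem result (S : Scheme.{u}) [IsLocallyNoetherian S]
    (p : ℕ) (hS : ∀ s : ↥S, ringExpChar (S.residueField s) = p)
    (G : Over S) [GrpObj G] [IsCommMonObj G] [LocallyOfFiniteType G.hom]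
    (hopen : ∀ n : ℕ, 0 < n → Nat.Coprime n p → IsOpenMap ((𝟙 G : G ⟶ G) ^ n).left.base) :
    IsOpen {x : ↥G.left | ∃ h : ℕ, ((𝟙 G : G ⟶ G) ^ (p ^ h)).left.base x ∈ SGA3x.neutralSet G} := by
  refine TauLib.isOpen_of_cover fun V hV => ?_
  haveI : IsAffine (V : Scheme.{u}) := hV
  haveI : LocallyOfFiniteType (Red.bc V.ι G).hom := MorphismProperty.pullback_snd _ _ ‹_›
  haveI : IsCommMonObj (Red.bc V.ι G) := GrpSchLib.RankOne.isCommMonObj_bc V.ι G
  have hp : ∀ v : ↥(V : Scheme.{u}), ringExpChar ((V : Scheme.{u}).residueField v) = p := fun v =>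
    (TauLib.ringExpChar_eq_of_hom (V.ι.residueFieldMap v).hom).trans (hS _)
  have ho : ∀ n, 0 < n → Nat.Coprime n p → IsOpenMap (TauLib.pw (Red.bc V.ι G) n) := by
    intro n hn hn' W hW
    let π := pullback.fst G.hom V.ι
    have e : TauLib.pw (Red.bc V.ι G) n '' W = π ⁻¹' (TauLib.pw G n '' (π '' W)) := by
      ext z
      constructor
      · rintro ⟨w, hw, rfl⟩
        exact ⟨π w, ⟨w, hw, rfl⟩, (TauLib.pw_bc _ _ _).symm⟩
      · rintro ⟨_, ⟨w, hw, rfl⟩, h⟩
        exact ⟨w, hw, π.isOpenEmbedding.injective ((TauLib.pw_bc _ _ _).trans h)⟩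
    rw [e]
    exact (hopen n hn hn' _ (π.isOpenEmbedding.isOpenMap _ hW)).preimage π.continuous
  refine (congrArg IsOpen ?_).mpr (TauLib.isOpen_rho_affine (G := Red.bc V.ι G) p hp ho)
  ext a
  exact ⟨fun ⟨h, hh⟩ => ⟨h, (TauLib.mem_bc_iff _ _ _).2 hh⟩, fun ⟨h, hh⟩ => ⟨h, (TauLib.mem_bc_iff _ _ _).1 hh⟩⟩

end Groth.Agent.S5696
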