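import Groth.Statements.S5697
import Groth.Agent.GrpFieldLib.SCOm
import Groth.Agent.FibDim.Comp

set_option autoImplicit false
universe u
open CategoryTheory CategoryTheory.Limits MonoidalCategory CartesianMonoidalCategory MonObj GrpObj AlgebraicGeometry
open FGA

namespace Groth.Agent.S5697

set_option backward.isDefEq.respectTransparency false
set_option backward.isDefEq.respectTransparency.types false

open Groth.Agent.GrpFieldLib Groth.Agent.GrpSchLib Groth.Agent

theorem isLocallyConstant_dim {S : Scheme.{u}} [IsLocallyNoetherian S] (G : Over S) [GrpObj G]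
    [LocallyOfFiniteType G.hom]
    (h : ∀ x ∈ SGA3x.neutralSet G, EGA43.IsOpenAt G.hom.base x) :
    IsLocallyConstant (fun s : S => topologicalKrullDim ↥(G.hom.base ⁻¹' {s})) := by
  have hgen : ∀ t s : S, t ⤳ s → topologicalKrullDim ↥(G.hom.base ⁻¹' {t}) =
      topologicalKrullDim ↥(G.hom.base ⁻¹' {s}) := by
    intro t s hts
    obtain ⟨ζ, hζs, hζN, hζmax, -⟩ := SecComp.exists_neutral_generic G s
    obtain ⟨w, -, hwt, hwmax, hwrd⟩ :=
      FibDim.exists_fibMax_eq_of_isOpenAt G.hom hζmax (h ζ hζN) (y' := t) (hζs.symm ▸ hts)
    have h1 := (FibDim.fibreDimAt_eq_rd G.hom hζmax).symm.trans (FibreDimGrp.fibreDimAt_eq G ζ)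
    have h2 := (FibDim.fibreDimAt_eq_rd G.hom hwmax).symm.trans (FibreDimGrp.fibreDimAt_eq G w)
    rw [hwrd, h1, hwt, hζs] at h2
    exact h2.symm
  refine (IsLocallyConstant.iff_eventually_eq _).2 fun s => ?_
  set c := topologicalKrullDim ↥(G.hom.base ⁻¹' {s}) with hc
  obtain ⟨n, hn⟩ := FibreDimGrp.exists_nat G s
  have h1 := FibreDimGrp.isOpen_le G n
  have h2 : IsOpen {t : S | topologicalKrullDim ↥(G.hom.base ⁻¹' {t}) < c} :=
    upperSemicontinuous_iff_isOpen_preimage.1 (FibreDimGrp.upperSemicontinuous G) c
  refine FibDim.mem_nhds_of_generizations ?_ fun t ht => hgen t s ht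
  convert FibDim.isLocallyConstructible_inter h1 h2.isClosed_compl using 1
  ext t
  have hn' : c = (n : WithBot ℕ∞) := hn
  simp only [Set.mem_inter_iff, Set.mem_compl_iff, Set.mem_setOf_eq, not_lt, hn']
  exact le_antisymm_iff

/-- Let S be a locally Noetherian scheme and G a commutative group scheme locally of finite type over S.
Assume that the union of the connected components of the identity of the fibres of G is closed in G,
and that G ⟶ S is universally open at the points of that union: for every base change S' ⟶ S, the
structure map of G' = G ×_S S' is open at every point of the identity-component set of G' (the image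
of every open neighbourhood is a neighbourhood). Then the prime-to-p torsion component set (points x
some n-th power of which, n ≥ 1 prime to the residue characteristic exponent, lies in the
identity-component set) is universally open over S at the points of the identity-component set, in
the same sense: for every base change S' ⟶ S, every point x' of the identity-component set of G' and
every open neighbourhood U of x', the image in S' of the intersection of U with the prime-to-p
torsion component set of G' is a neighbourhood of the image of x'. (The published statement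
concludes this at every point of the prime-to-p torsion component set; it fails for the closed
subgroup scheme of the constant group ℤ/2 over a discrete valuation ring of residue characteristic
different from 2 that keeps the non-identity element only over the closed point: there the
identity-component set is a copy of the base, all hypotheses hold, and the isolated non-identity
point over the closed point is 2-torsion with image the closed point alone. The published proof
treats neighbourhoods of points of the identity-component set, so the conclusion is stated at those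
points here.) -/
theorem result (S : Scheme.{u}) [IsLocallyNoetherian S]
    (G : Over S) [GrpObj G] [IsCommMonObj G] [LocallyOfFiniteType G.hom] (h0 : IsClosed (SGA3x.neutralSet G))
    (hopen : ∀ (S' : Scheme.{u}) (g : S' ⟶ S) (x' : ↥(Red.bc g G).left), x' ∈ SGA3x.neutralSet (Red.bc g G) →
      ∀ U : Set ↥(Red.bc g G).left, IsOpen U → x' ∈ U →
        (Red.bc g G).hom.base '' U ∈ nhds ((Red.bc g G).hom.base x'))
    (S' : Scheme.{u}) (g : S' ⟶ S) (x' : ↥(Red.bc g G).left)
    (hx' : x' ∈ SGA3x.neutralSet (Red.bc g G))
    (U : Set ↥(Red.bc g G).left) (hU : IsOpen U) (hxU : x' ∈ U) :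
    (Red.bc g G).hom.base '' (U ∩ {x : ↥(Red.bc g G).left | ∃ n : ℕ, 0 < n ∧ Nat.Coprime n (ringExpChar (S'.residueField ((Red.bc g G).hom.base x))) ∧
        ((𝟙 (Red.bc g G) : (Red.bc g G) ⟶ (Red.bc g G)) ^ n).left.base x ∈ SGA3x.neutralSet (Red.bc g G)}) ∈
      nhds ((Red.bc g G).hom.base x') := by
  haveI : LocallyOfFiniteType (Red.bc g G).hom :=
    inferInstanceAs (LocallyOfFiniteType (pullback.snd G.hom g))
  have hop : ∀ x ∈ SGA3x.neutralSet G, EGA43.IsOpenAt G.hom.base x := by
    intro x hx V hV
    obtain ⟨V', hV'V, hV', hxV'⟩ := mem_nhds_iff.1 hV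
    let p := pullback.fst G.hom (𝟙 S)
    obtain ⟨z, hz⟩ : x ∈ Set.range p := (p.homeomorph).surjective x
    have hzN : z ∈ SGA3x.neutralSet (Red.bc (𝟙 S) G) := by
      rw [Neutral.neutralSet_bc]
      show p z ∈ SGA3x.neutralSet G
      rw [hz]; exact hx
    have hcomm : ∀ w, (Red.bc (𝟙 S) G).hom w = G.hom (p w) := fun w => by
      show pullback.snd G.hom (𝟙 S) w = (p ≫ G.hom) w
      rw [pullback.condition, Category.comp_id]
    have h1 := hopen S (𝟙 S) z hzN (p ⁻¹' V') (hV'.preimage p.continuous)
      (show p z ∈ V' from hz.symm ▸ hxV')
    rw [hcomm, hz] at h1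
    refine Filter.mem_of_superset h1 ?_
    rintro _ ⟨w, hw, rfl⟩
    exact ⟨p w, hV'V hw, (hcomm w).symm⟩
  have hdim := SecComp.isLocallyConstant_dim_bc G g (isLocallyConstant_dim G hop)
  refine Filter.mem_of_superset ((SecComp.isOpen_image_inter_neutralSet (Red.bc g G) hdim hU).mem_nhds
    ⟨x', ⟨hxU, hx'⟩, rfl⟩) (Set.image_mono ?_)
  rintro x ⟨h1, h2⟩
  refine ⟨h1, 1, one_pos, Nat.coprime_one_left _, ?_⟩
  rw [pow_one]
  exact h2

end Groth.Agent.S5697
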