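import Groth.Statements.S5700
import Groth.Agent.LineDescQ.RigSheaf
import Groth.Agent.FlatMisc.SteinUC
import Mathlib.AlgebraicGeometry.Morphisms.Flat
-- import your own Groth.Agent.* helpers here

set_option autoImplicit false
universe u
open CategoryTheory CategoryTheory.Limits AlgebraicGeometry
open FGA

namespace Groth.Agent.S5700
set_option backward.isDefEq.respectTransparency false
set_option backward.isDefEq.respectTransparency.types false
set_option maxHeartbeats 1000000

open Groth.Agent TopologicalSpace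
open scoped Groth.Agent.H23.PicMul

/-- `O = f_* O` is stable under flat base change. -/
theorem bijective_appTop_snd {X S : Scheme.{u}} (f : X ⟶ S) [QuasiCompact f] [IsSeparated f]
    (hf : ∀ U : S.Opens, Function.Bijective (f.app U)) (Z : Scheme.{u}) (z : Z ⟶ S) [Flat z] :
    Function.Bijective (pullback.snd f z).appTop := by
  refine FlatMisc.bijective_app_of_isBasis (pullback.snd f z)
    (B := {W | IsAffineOpen W ∧ ∃ V : S.Opens, IsAffineOpen V ∧ W ≤ z ⁻¹ᵁ V}) ?_ ?_ ⊤
  · rw [Opens.isBasis_iff_nbhd]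
    intro O p hp
    obtain ⟨_, ⟨V, hV, rfl⟩, hpV, -⟩ :=
      S.isBasis_affineOpens.exists_subset_of_mem_open (Set.mem_univ (z p)) isOpen_univ
    obtain ⟨_, ⟨W, hW, rfl⟩, hpW, hWle⟩ := Z.isBasis_affineOpens.exists_subset_of_mem_open
      (a := p) (u := ((O ⊓ z ⁻¹ᵁ V : Z.Opens) : Set Z)) ⟨hp, hpV⟩ (O ⊓ z ⁻¹ᵁ V).2
    exact ⟨W, ⟨hW, V, hV, le_trans hWle inf_le_right⟩, hpW, le_trans hWle inf_le_left⟩
  rintro W ⟨hW, V, hV, hle⟩
  have hY : pullback.snd f z ⁻¹ᵁ W = pullback.fst f z ⁻¹ᵁ (f ⁻¹ᵁ V) ⊓ pullback.snd f z ⁻¹ᵁ W := by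
    refine le_antisymm (le_inf (fun x hx => ?_) le_rfl) inf_le_right
    show f (pullback.fst f z x) ∈ V
    rw [← Scheme.Hom.comp_apply, pullback.condition, Scheme.Hom.comp_apply]
    exact hle hx
  have hiso := isIso_pushoutSection_of_isQuasiSeparated_of_flat_right (IsPullback.of_hasPullback f z)
    (US := V) (UT := W) (UX := f ⁻¹ᵁ V) hle le_rfl hY hV hW
    (f.isCompact_preimage hV.isCompact) (f.isQuasiSeparated_preimage hV.isQuasiSeparated)
  rw [isIso_pushoutSection_iff] at hiso
  haveI h1 : IsIso (f.appLE V (f ⁻¹ᵁ V) le_rfl) := by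
    rw [← Scheme.Hom.app_eq_appLE]; exact (ConcreteCategory.isIso_iff_bijective _).mpr (hf V)
  haveI := hiso.isIso_inr_of_isIso h1
  rw [Scheme.Hom.app_eq_appLE]
  exact ConcreteCategory.bijective_of_isIso ((pullback.snd f z).appLE W (pullback.snd f z ⁻¹ᵁ W) le_rfl)


/-- Let f : X ⟶ S be quasi-compact and separated, with the induced maps from sections of the structure
sheaf of S to sections of the structure sheaf of X bijective over every open of S, and admitting a
section σ; let g : S' ⟶ S be flat, surjective and quasi-compact, X' = X ×_S S', S'' = S' ×_S S' and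
X'' = X ×_S S'' with its two projections to X'. If L' is an invertible module on X' whose pullbacks
along the two projections X'' ⟶ X' become isomorphic after tensoring the second with the pullback of
some invertible module on S'', then there are an invertible module L on X and an invertible module
N' on S' with L' isomorphic to the tensor product of the pullback of L and the pullback of N'.
(Exactness of Pic(X)/Pic(S) → Pic(X')/Pic(S') ⇉ Pic(X'')/Pic(S'').) (The published statement asks
for sections of f only locally on S and is phrased with relative Picard classes, the global sections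
of the Zariski sheaf on S associated with U ↦ Pic(X_U); this row assumes a global section, in which
case those classes are classes of invertible modules on X modulo those pulled back from S, and the
local-section form follows from it by restricting to the opens of S over which a section exists.) -/
theorem result {X S S' : Scheme.{u}} (f : X ⟶ S)
    [QuasiCompact f] [IsSeparated f] (hf : ∀ U : S.Opens, Function.Bijective (f.app U))
    (σ : S ⟶ X) (hσ : σ ≫ f = 𝟙 S)
    (g : S' ⟶ S) [Flat g] [Surjective g] [QuasiCompact g]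
    (L' : (pullback f g).Modules) (hL' : PicF.IsInvertible L')
    (hcomp : ∃ N'' : (pullback g g).Modules, PicF.IsInvertible N'' ∧
      Nonempty ((Scheme.Modules.pullback (pullback.map f (pullback.fst g g ≫ g) f g (𝟙 X) (pullback.fst g g) (𝟙 S)
          ((Category.comp_id f).trans (Category.id_comp f).symm) (Category.comp_id _))).obj L' ≅
        CohB1.tensorMod ((Scheme.Modules.pullback (pullback.map f (pullback.fst g g ≫ g) f g (𝟙 X) (pullback.snd g g) (𝟙 S)
          ((Category.comp_id f).trans (Category.id_comp f).symm) ((Category.comp_id _).trans pullback.condition))).obj L')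
          ((Scheme.Modules.pullback (pullback.snd f (pullback.fst g g ≫ g))).obj N''))) :
    ∃ (L : X.Modules) (N' : S'.Modules), PicF.IsInvertible L ∧ PicF.IsInvertible N' ∧
      Nonempty (L' ≅ CohB1.tensorMod ((Scheme.Modules.pullback (pullback.fst f g)).obj L)
        ((Scheme.Modules.pullback (pullback.snd f g)).obj N')) := by
  let T : Over S := Over.mk (𝟙 S)
  let u : S' ⟶ T.left := g
  haveI : Flat T.hom := inferInstanceAs (Flat (𝟙 S))
  haveI : Flat u := ‹Flat g›
  haveI : Surjective u := ‹Surjective g›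
  haveI : QuasiCompact u := ‹QuasiCompact g›
  have ha : ∀ (Z : Scheme.{u}) (z : Z ⟶ S), Flat z → Function.Bijective (pullback.snd f z).appTop :=
    fun Z z _ => bijective_appTop_snd f hf Z z
  obtain ⟨N'', hN'', ⟨iN⟩⟩ := hcomp
  let U1 := LineDescQ.Rig.U1 (T := T) u
  let U2 := LineDescQ.Rig.U2 (T := T) u
  have hU1 : U1.hom = g := Category.comp_id g
  have hU2 : U2.hom = pullback.fst g g ≫ g := congrArg (pullback.fst g g ≫ ·) (Category.comp_id g)
  let e1 : PicF.XT f U1 ⟶ pullback f g := (pullback.congrHom rfl hU1).hom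
  let e2 : PicF.XT f U2 ⟶ pullback f (pullback.fst g g ≫ g) := (pullback.congrHom rfl hU2).hom
  haveI : IsIso e1 := inferInstanceAs (IsIso (pullback.congrHom rfl hU1).hom)
  let q1 := PicF.XTmap f (LineDescQ.Rig.p1 (T := T) u)
  let q2 := PicF.XTmap f (LineDescQ.Rig.p2 (T := T) u)
  obtain ⟨ℓ, hℓdef⟩ : ∃ ℓ : PicF.Cl (PicF.XT f U1), ℓ = PicF.pullCl e1 (PicF.cl L') := ⟨_, rfl⟩
  let π1 := PicF.XTproj f U1
  let π2 := PicF.XTproj f U2
  have e1fst : e1 ≫ pullback.fst f g = pullback.fst f U1.hom :=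
    (pullback.lift_fst _ _ _).trans (Category.comp_id _)
  have e1snd : e1 ≫ pullback.snd f g = π1 := (pullback.lift_snd _ _ _).trans (Category.comp_id _)
  have e2fst : e2 ≫ pullback.fst f (pullback.fst g g ≫ g) = pullback.fst f U2.hom :=
    (pullback.lift_fst _ _ _).trans (Category.comp_id _)
  have e2snd : e2 ≫ pullback.snd f (pullback.fst g g ≫ g) = π2 := (pullback.lift_snd _ _ _).trans (Category.comp_id _)
  let s1 := PicF.secT f σ hσ U1
  let s2 := PicF.secT f σ hσ U2
  let sl := PicF.pullCl s1 ℓ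
  have hℓ : PicF.IsInvertibleCl ℓ := hℓdef ▸ PicLoc.isInvertibleCl_pullCl e1 ⟨L', rfl, hL'⟩
  have hsl : PicF.IsInvertibleCl sl := PicLoc.isInvertibleCl_pullCl s1 hℓ
  obtain ⟨n, hn⟩ := H23.PicMul.exists_inv ⟨sl, hsl⟩
  replace hn : n.1 * sl = 1 := hn
  let p1 : pullback g g ⟶ S' := pullback.fst g g
  let p2 : pullback g g ⟶ S' := pullback.snd g g
  have hπ1 : q1 ≫ π1 = π2 ≫ p1 := LineDescQ.Rig.XTmap_snd _
  have hπ2 : q2 ≫ π1 = π2 ≫ p2 := LineDescQ.Rig.XTmap_snd _
  have hs1 : s2 ≫ q1 = p1 ≫ s1 := LineDescQ.Rig.secT_XTmap _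
  have hs2 : s2 ≫ q2 = p2 ≫ s1 := LineDescQ.Rig.secT_XTmap _
  have hrel : PicF.pullCl q1 ℓ = PicF.pullCl q2 ℓ * PicF.pullCl π2 (PicF.cl N'') := by
    have h := congrArg (PicF.pullCl e2) ((H23.PicMul.cl_eq_iff).mpr ⟨iN⟩)
    rw [H23.PicMul.cl_tensor, H23.PicMul.pullCl_mul] at h
    change PicF.pullCl e2 (PicF.pullCl _ (PicF.cl L')) =
      PicF.pullCl e2 (PicF.pullCl _ (PicF.cl L')) * PicF.pullCl e2 (PicF.pullCl _ (PicF.cl N'')) at h
    rw [PicClLib.pullCl_comp, PicClLib.pullCl_comp, PicClLib.pullCl_comp] at h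
    rw [hℓdef, PicClLib.pullCl_comp, PicClLib.pullCl_comp]
    have m1 : q1 ≫ e1 = e2 ≫ pullback.map f (pullback.fst g g ≫ g) f g (𝟙 X) (pullback.fst g g) (𝟙 S)
        ((Category.comp_id f).trans (Category.id_comp f).symm) (Category.comp_id _) := by
      apply pullback.hom_ext
      · rw [Category.assoc, Category.assoc, e1fst, pullback.lift_fst, Category.comp_id, e2fst]
        exact LineDescQ.Rig.XTmap_fst _
      · rw [Category.assoc, Category.assoc, e1snd, pullback.lift_snd, reassoc_of% e2snd]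
        exact hπ1
    have m2 : q2 ≫ e1 = e2 ≫ pullback.map f (pullback.fst g g ≫ g) f g (𝟙 X) (pullback.snd g g) (𝟙 S)
        ((Category.comp_id f).trans (Category.id_comp f).symm) ((Category.comp_id _).trans pullback.condition) := by
      apply pullback.hom_ext
      · rw [Category.assoc, Category.assoc, e1fst, pullback.lift_fst, Category.comp_id, e2fst]
        exact LineDescQ.Rig.XTmap_fst _
      · rw [Category.assoc, Category.assoc, e1snd, pullback.lift_snd, reassoc_of% e2snd]
        exact hπ2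
    have m3 : π2 = e2 ≫ pullback.snd f (pullback.fst g g ≫ g) := e2snd.symm
    rw [m1, m2, m3]
    exact h
  have hsrel : PicF.pullCl p1 sl = PicF.pullCl p2 sl * PicF.cl N'' := by
    have h := congrArg (PicF.pullCl s2) hrel
    rw [H23.PicMul.pullCl_mul, PicClLib.pullCl_comp, PicClLib.pullCl_comp, PicClLib.pullCl_comp, hs1, hs2,
      show s2 ≫ π2 = 𝟙 _ from LineDescQ.Rig.secT_snd U2, PicClLib.pullCl_id] at h
    show PicF.pullCl p1 (PicF.pullCl s1 ℓ) = PicF.pullCl p2 (PicF.pullCl s1 ℓ) * PicF.cl N''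
    rw [PicClLib.pullCl_comp, PicClLib.pullCl_comp]
    exact h
  have hnrel : PicF.cl N'' * PicF.pullCl p1 n.1 = PicF.pullCl p2 n.1 := by
    have h1 : PicF.pullCl p1 n.1 * PicF.pullCl p1 sl = 1 := by
      rw [← H23.PicMul.pullCl_mul, hn, H23.PicMul.pullCl_one]
    have h2 : PicF.pullCl p2 n.1 * PicF.pullCl p2 sl = 1 := by
      rw [← H23.PicMul.pullCl_mul, hn, H23.PicMul.pullCl_one]
    calc PicF.cl N'' * PicF.pullCl p1 n.1
        = (PicF.pullCl p2 n.1 * PicF.pullCl p2 sl) * (PicF.cl N'' * PicF.pullCl p1 n.1) := by rw [h2, _root_.one_mul]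
      _ = PicF.pullCl p2 n.1 * (PicF.pullCl p1 n.1 * (PicF.pullCl p2 sl * PicF.cl N'')) := by ac_rfl
      _ = PicF.pullCl p2 n.1 := by rw [← hsrel, h1, _root_.mul_one]
  let c' : PicF.Rig f σ hσ U1 := ⟨ℓ * PicF.pullCl π1 n.1,
    H23.PicMul.isInvertibleCl_mul hℓ (PicLoc.isInvertibleCl_pullCl π1 n.2), by
      show PicF.pullCl s1 (ℓ * PicF.pullCl π1 n.1) = 1
      rw [H23.PicMul.pullCl_mul, PicClLib.pullCl_comp, show s1 ≫ π1 = 𝟙 _ from LineDescQ.Rig.secT_snd U1,
        PicClLib.pullCl_id, _root_.mul_comm]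
      exact hn⟩
  have hglue : PicF.pullCl q1 c'.1 = PicF.pullCl q2 c'.1 := by
    show PicF.pullCl q1 (ℓ * PicF.pullCl π1 n.1) = PicF.pullCl q2 (ℓ * PicF.pullCl π1 n.1)
    rw [H23.PicMul.pullCl_mul, H23.PicMul.pullCl_mul, PicClLib.pullCl_comp, PicClLib.pullCl_comp, hπ1, hπ2,
      hrel, _root_.mul_assoc, ← PicClLib.pullCl_comp, ← PicClLib.pullCl_comp, ← H23.PicMul.pullCl_mul, hnrel]
  obtain ⟨c, hc⟩ := LineDescQ.Rig.exists_rig ha u c' hglue
  let j : X ⟶ PicF.XT f T := pullback.lift (𝟙 X) f (by rw [show T.hom = 𝟙 S from rfl, Category.id_comp]; exact (Category.comp_id f).symm)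
  obtain ⟨L, hLc, hL⟩ := PicLoc.isInvertibleCl_pullCl j c.2.1
  obtain ⟨N', hN'c, hN'⟩ := hsl
  refine ⟨L, N', hL, hN', H23.PicMul.cl_eq_iff.mp ?_⟩
  rw [H23.PicMul.cl_tensor]
  show PicF.cl L' = PicF.pullCl (pullback.fst f g) (PicF.cl L) * PicF.pullCl (pullback.snd f g) (PicF.cl N')
  rw [hLc, hN'c]
  have hℓ' : ℓ = c'.1 * PicF.pullCl π1 sl := by
    show ℓ = ℓ * PicF.pullCl π1 n.1 * PicF.pullCl π1 sl
    rw [_root_.mul_assoc, ← H23.PicMul.pullCl_mul, hn, H23.PicMul.pullCl_one, _root_.mul_one]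
  have h := congrArg (PicF.pullCl (inv e1)) hℓ'
  rw [← hc] at h
  rw [hℓdef] at h
  rw [PicClLib.pullCl_comp, IsIso.inv_hom_id, PicClLib.pullCl_id, H23.PicMul.pullCl_mul, PicClLib.pullCl_comp,
    PicClLib.pullCl_comp] at h
  rw [h, PicClLib.pullCl_comp]
  have mA : inv e1 ≫ LineDescQ.Rig.cov (f := f) (T := T) u = pullback.fst f g ≫ j := by
    rw [IsIso.inv_comp_eq]
    apply pullback.hom_ext
    · rw [Category.assoc, Category.assoc, pullback.lift_fst, Category.comp_id, e1fst]
      exact LineDescQ.Rig.XTmap_fst _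
    · rw [Category.assoc, Category.assoc, pullback.lift_snd, pullback.condition, reassoc_of% e1snd]
      exact LineDescQ.Rig.XTmap_snd _
  have mB : inv e1 ≫ π1 = pullback.snd f g := by
    rw [IsIso.inv_comp_eq]
    exact e1snd.symm
  rw [mA, ← PicClLib.pullCl_comp, mB, ← PicClLib.pullCl_comp (pullback.snd f g) s1]

end Groth.Agent.S5700
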