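import Groth.Statements.S7241
import Groth.Agent.ProjX.EpiPullFT
import Groth.Agent.AmpleVan.CounitEpi
import Groth.Agent.KFlatLib.Perfect.LocFree
import Groth.Agent.AmpleX.Rel

set_option autoImplicit false
set_option backward.isDefEq.respectTransparency false
set_option backward.isDefEq.respectTransparency.types false
set_option linter.style.haveILetI false
universe u
open CategoryTheory CategoryTheory.Limits AlgebraicGeometry
attribute [local instance] HasDerivedCategory.standard
open Perf

namespace Groth.Agent.S7241

open Groth.Agent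


/-- Let f : X ⟶ Y be a morphism of schemes whose target Y is quasi-compact, quasi-separated, and
satisfies the resolution property (every quasi-coherent O_Y-module of finite type is a quotient of a
finite locally free O_Y-module), and suppose there is an f-ample invertible O_X-module L (f
quasi-compact and L ample on the preimage of every affine open of Y). Then X has the resolution
property. -/
theorem result {X Y : Scheme.{u}} (f : X ⟶ Y) [CompactSpace ↥Y] [QuasiSeparatedSpace ↥Y]
    (hY : PerfAux.HasResolutionProperty Y) (L : X.Modules) (hL : RelAmple.IsRelAmple f L) :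
    PerfAux.HasResolutionProperty X := by
  intro M hM hft
  haveI : QuasiCompact f := hL.1
  haveI : CompactSpace X := QuasiCompact.compactSpace_of_compactSpace f
  haveI : QuasiSeparated f :=
    (HasAffineProperty.iff_of_iSup_eq_top (P := @QuasiSeparated) (fun V : Y.affineOpens => V)
      (iSup_affineOpens_eq_top Y)).2 fun V => by
      haveI := AmpleX.isSeparated_of_isAmple (hL.2 V)
      infer_instance
  haveI : QuasiSeparatedSpace X := quasiSeparatedSpace_of_quasiSeparated f
  have hLi : PicF.IsInvertible L := AmpleX.isInvertible_of_isRelAmple hL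
  obtain ⟨n, hn⟩ := AmpleVan.CounitEpi.eventually_epi_counit f hL hM hft
  have hP := InvX.isInvertible_tensorPow hLi n
  obtain ⟨D, hD, ⟨e0⟩⟩ := H23.PicInv.exists_inverse hP
  have e0' : (DCoh.tensorBi.obj (CohB1.tensorPow L n)).obj D ≅ Coh.structureModule X := e0
  let E := CurveHiggs.twistEquiv
    (A := D) (B := CohB1.tensorPow L n) (CurveTensor.commIso D (CohB1.tensorPow L n) ≪≫ e0')
  have hDf : FlatMod.IsFinLocFree D := H23.PullPush.isFinLocFree_of_isInvertible hD
  have hPf : FlatMod.IsFinLocFree (CohB1.tensorPow L n) := H23.PullPush.isFinLocFree_of_isInvertible hP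
  let G := CohB1.tensorMod M (CohB1.tensorPow L n)
  let i₁ : G ≅ E.inverse.obj M := CurveTensor.commIso M (CohB1.tensorPow L n)
  have hC := CurveTensor.isCoh_tensor hPf (show Coh.IsCoh M from ⟨hM, hft⟩)
  have hGq : Coh.IsQCoh G := (QCoh.isQCoh_iff_iso i₁).2 hC.1
  have hGt := (QCoh.isCoh_of_epi i₁.inv hC hGq).2
  haveI := hn n le_rfl
  obtain ⟨N, π, hNq, hNt, hπ⟩ := ProjX.exists_epi_pullback_isFT (P := X) _ f (QCoh.isQCoh_pushforward f hGq)
    hGq hGt ((Scheme.Modules.pullbackPushforwardAdjunction f).counit.app G)
  obtain ⟨V, ρ, hV, hρ⟩ := hY N hNq hNt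
  haveI := hπ
  haveI := hρ
  haveI : (Scheme.Modules.pullback f).IsLeftAdjoint :=
    (Scheme.Modules.pullbackPushforwardAdjunction f).isLeftAdjoint
  refine ⟨E.functor.obj ((Scheme.Modules.pullback f).obj V),
    E.functor.map ((Scheme.Modules.pullback f).map ρ ≫ π ≫ i₁.hom) ≫ E.counit.app M, ?_, inferInstance⟩
  exact KFlatLib.isFinLocFree_tensor hDf (KFlatLib.isFinLocFree_pullback f hV)

end Groth.Agent.S7241
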