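import Groth.Statements.S5727
import Groth.Agent.S5721
import Groth.Agent.S2297
import Groth.Agent.ProjX.EpiPullFT
import Groth.Agent.S4382
import Groth.Agent.S7241

set_option autoImplicit false
universe u
open CategoryTheory CategoryTheory.Limits AlgebraicGeometry TopologicalSpace Opposite
open scoped HomogeneousIdeal
open EGA2

namespace Groth.Agent.S5727

/-- Let Z be a scheme which is either quasi-compact and separated or has Noetherian underlying space, g
: Y → Z a quasi-compact morphism, K an invertible O_Y-module which is very ample relative to g, and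
E a quasi-coherent O_Y-module of finite type. Then there is m₀ such that for every m ≥ m₀ there are
a quasi-coherent O_Z-module F of finite type (depending on m) and an epimorphism g^*F → E ⊗ K^{⊗m}.
(The published statement says that E is isomorphic to a quotient of g^*F ⊗ K^{⊗(-m)}; for invertible
K this is the same as E ⊗ K^{⊗m} being a quotient of g^*F, the form used here, which avoids negative
tensor powers.) -/
theorem result {Y Z : Scheme.{u}}
    (hZ : (CompactSpace Z ∧ Z.IsSeparated) ∨ TopologicalSpace.NoetherianSpace Z) (g : Y ⟶ Z) [QuasiCompact g]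
    (K : Y.Modules) (hK : PicF.IsInvertible K) (hKva : RelProj.IsRelVeryAmple g K)
    (E : Y.Modules) (hE : Coh.IsQCoh E) (hEft : CohB1.IsFT E) :
    ∃ m₀ : ℕ, ∀ m : ℕ, m₀ ≤ m →
      ∃ (F : Z.Modules) (φ : (Scheme.Modules.pullback g).obj F ⟶ CohB1.tensorMod E (CohB1.tensorPow K m)),
        Coh.IsQCoh F ∧ CohB1.IsFT F ∧ Epi φ := by
  haveI : CompactSpace Z := by
    rcases hZ with ⟨h, _⟩ | h
    · exact h
    · exact ⟨TopologicalSpace.NoetherianSpace.isCompact _⟩
  haveI : QuasiSeparatedSpace Z := by
    rcases hZ with ⟨_, h⟩ | h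
    · infer_instance
    · exact ⟨fun U V _ _ _ _ => TopologicalSpace.NoetherianSpace.isCompact _⟩
  have hamp : RelAmple.IsRelAmple g K := Groth.Agent.S5721.result g K hK hKva
  haveI : CompactSpace Y := QuasiCompact.compactSpace_of_compactSpace g
  haveI : QuasiSeparated g :=
    (HasAffineProperty.iff_of_iSup_eq_top (P := @QuasiSeparated) (fun V : Z.affineOpens => V)
      (iSup_affineOpens_eq_top Z)).2 fun V => by
      haveI := AmpleX.isSeparated_of_isAmple (hamp.2 V)
      infer_instance
  obtain ⟨n₀, hn₀⟩ := AmpleVan.CounitEpi.eventually_epi_counit g hamp hE hEft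
  refine ⟨n₀, fun m hm => ?_⟩
  have hP := InvX.isInvertible_tensorPow hK m
  have hflf := H23.PullPush.isFinLocFree_of_isInvertible hP
  haveI : Coh.IsQCoh E := hE
  haveI : Coh.IsQCoh (CohB1.tensorPow K m) := QCoh.isQCoh_of_isFinLocFree hflf
  have hFL : Coh.IsQCoh (CohB1.tensorMod E (CohB1.tensorPow K m)) := (Groth.Agent.S2297.result E _).1
  have hFLt : CohB1.IsFT (CohB1.tensorMod E (CohB1.tensorPow K m)) :=
    (Groth.Agent.S2297.result E _).2 hEft (QCoh.isFT_of_isFP (QCoh.isFP_of_isFinLocFree hflf))
  haveI := hn₀ m hm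
  obtain ⟨G, π, hGq, hGt, hπ⟩ := ProjX.exists_epi_pullback_isFT _ g
    (QCoh.isQCoh_pushforward g hFL) hFL hFLt
    ((Scheme.Modules.pullbackPushforwardAdjunction g).counit.app _)
  exact ⟨G, π, hGq, hGt, hπ⟩

end Groth.Agent.S5727
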