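import Groth.Statements.S5734
import Groth.Agent.SymX.SumBundle
import Groth.Agent.RGLib.SqZeroHom

set_option backward.isDefEq.respectTransparency false
set_option backward.isDefEq.respectTransparency.types false
set_option linter.style.haveILetI false
set_option linter.unusedSectionVars false

set_option autoImplicit false
universe u
open CategoryTheory CategoryTheory.Limits AlgebraicGeometry TopologicalSpace Opposite
open scoped HomogeneousIdeal
open EGA2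

namespace Groth.Agent.S5734

/-- Let E and F be quasi-coherent O_Y-modules with graded symmetric algebras 𝒮E, 𝒮F and let 𝒮 be the
graded symmetric algebra of E ⊕ F; let πE : 𝒮 → 𝒮E and πF : 𝒮 → 𝒮F be the graded algebra
homomorphisms induced by the two projections of E ⊕ F (compatible with the structure maps from E ⊕
F, E and F), the irrelevant ideal of the target being generated by the image of that of the source
over every affine open (so that the induced morphisms of homogeneous spectra are everywhere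
defined). Let P(E ⊕ F), P(E), P(F) be the projective bundles with their charts and hE : P(E) → P(E ⊕
F), hF : P(F) → P(E ⊕ F) the morphisms chartwise induced by πE and πF. Then the morphism P(E) ⨿ P(F)
→ P(E ⊕ F) which restricts to hE and hF is a closed immersion: the disjoint union of P(E) and P(F)
is a closed subscheme of P(E ⊕ F). -/
theorem result {Y PE PF P : Scheme.{u}} (E F : Y.Modules)
    (hE : Coh.IsQCoh E) (hF : Coh.IsQCoh F) (𝒮E 𝒮F 𝒮 : RelProj.QCGrAlg Y)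
    (jE : E ⟶ 𝒮E.toModule) (hjE : RelProj.IsGrSymAlg E 𝒮E jE)
    (jF : F ⟶ 𝒮F.toModule) (hjF : RelProj.IsGrSymAlg F 𝒮F jF)
    (j : E ⊞ F ⟶ 𝒮.toModule) (hj : RelProj.IsGrSymAlg (E ⊞ F) 𝒮 j)
    (πE : 𝒮.toQCAlg ⟶ 𝒮E.toQCAlg) (hπE : RelProj.IsGradedHom πE)
    (hjπE : j ≫ RelSpec.QCAlg.Hom.toModuleMap πE = biprod.fst ≫ jE)
    (πF : 𝒮.toQCAlg ⟶ 𝒮F.toQCAlg) (hπF : RelProj.IsGradedHom πF)
    (hjπF : j ≫ RelSpec.QCAlg.Hom.toModuleMap πF = biprod.snd ≫ jF)
    (hirrE : ∀ (U : Y.Opens) (hU : IsAffineOpen U),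
      (𝒮E.deg U hU)₊ ≤ ((𝒮.deg U hU)₊).map (RelProj.gradedHomAt πE hπE U hU))
    (hirrF : ∀ (U : Y.Opens) (hU : IsAffineOpen U),
      (𝒮F.deg U hU)₊ ≤ ((𝒮.deg U hU)₊).map (RelProj.gradedHomAt πF hπF U hU))
    (p : P ⟶ Y) (pE : PE ⟶ Y) (pF : PF ⟶ Y)
    (chart : ∀ (U : Y.Opens) (hU : IsAffineOpen U), ((p ⁻¹ᵁ U : P.Opens) : Scheme.{u}) ≅ Proj (𝒮.deg U hU))
    (chartE : ∀ (U : Y.Opens) (hU : IsAffineOpen U), ((pE ⁻¹ᵁ U : PE.Opens) : Scheme.{u}) ≅ Proj (𝒮E.deg U hU))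
    (chartF : ∀ (U : Y.Opens) (hU : IsAffineOpen U), ((pF ⁻¹ᵁ U : PF.Opens) : Scheme.{u}) ≅ Proj (𝒮F.deg U hU))
    (hP : RelProj.IsRelProj 𝒮 p chart) (hPE : RelProj.IsRelProj 𝒮E pE chartE) (hPF : RelProj.IsRelProj 𝒮F pF chartF)
    (hE' : PE ⟶ P) (hhE : RelProj.IsRelProjMap πE hπE hirrE chart chartE hE')
    (hF' : PF ⟶ P) (hhF : RelProj.IsRelProjMap πF hπF hirrF chart chartF hF') :
    IsClosedImmersion (coprod.desc hE' hF') := by
  have hmodE : ∀ (U : Y.Opens) (m : Γ((E ⊞ F : Y.Modules), U)),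
      (πE.hom.app (op U)).hom (j.app U m) = jE.app U ((biprod.fst : E ⊞ F ⟶ E).app U m) := fun U m =>
    congrArg (fun χ : E ⊞ F ⟶ 𝒮E.toModule => χ.app U m) hjπE
  have hmodF : ∀ (U : Y.Opens) (m : Γ((E ⊞ F : Y.Modules), U)),
      (πF.hom.app (op U)).hom (j.app U m) = jF.app U ((biprod.snd : E ⊞ F ⟶ F).app U m) := fun U m =>
    congrArg (fun χ : E ⊞ F ⟶ 𝒮F.toModule => χ.app U m) hjπF
  have hfl : ∀ (U : Y.Opens) (e : Γ(E, U)), (biprod.fst : E ⊞ F ⟶ E).app U ((biprod.inl : E ⟶ E ⊞ F).app U e) = e :=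
    fun U e => congrArg (fun χ : E ⟶ E => χ.app U e) (biprod.inl_fst (X := E) (Y := F))
  have hsr : ∀ (U : Y.Opens) (e : Γ(F, U)), (biprod.snd : E ⊞ F ⟶ F).app U ((biprod.inr : F ⟶ E ⊞ F).app U e) = e :=
    fun U e => congrArg (fun χ : F ⟶ F => χ.app U e) (biprod.inr_snd (X := E) (Y := F))
  haveI : IsClosedImmersion hE' := SymX.isClosedImmersion_relProjMap_pos (SymX.isGenDegOne_of_isGrSymAlg hE hjE)
    πE hπE (fun U hU x hx => by
      obtain ⟨m, rfl⟩ := SymX.exists_app_eq_of_deg_one hE hjE U hU hx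
      exact ⟨_, hj.2 U hU ((biprod.inl : E ⟶ E ⊞ F).app U m), (hmodE U _).trans (congrArg _ (hfl U m))⟩) hP hPE hhE
  haveI : IsClosedImmersion hF' := SymX.isClosedImmersion_relProjMap_pos (SymX.isGenDegOne_of_isGrSymAlg hF hjF)
    πF hπF (fun U hU x hx => by
      obtain ⟨m, rfl⟩ := SymX.exists_app_eq_of_deg_one hF hjF U hU hx
      exact ⟨_, hj.2 U hU ((biprod.inr : F ⟶ E ⊞ F).app U m), (hmodF U _).trans (congrArg _ (hsr U m))⟩) hP hPF hhF
  refine SymX.isClosedImmersion_coprod_desc hE' hF' fun a b hab => ?_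
  obtain ⟨_, ⟨U, hU, rfl⟩, hxU, -⟩ :=
    Y.isBasis_affineOpens.exists_subset_of_mem_open (Set.mem_univ (p (hE' a))) isOpen_univ
  have hcE := Groth.Agent.Proj16.relProjMap_comp hP hPE hhE
  have hcF := Groth.Agent.Proj16.relProjMap_comp hP hPF hhF
  have ha : a ∈ pE ⁻¹ᵁ U := by
    show pE a ∈ U
    rw [← hcE]; exact hxU
  have hb : b ∈ pF ⁻¹ᵁ U := by
    show pF b ∈ U
    rw [← hcF]
    show p (hF' b) ∈ U
    rw [← hab]; exact hxU
  let zE := Proj.map (RelProj.gradedHomAt πE hπE U hU) (hirrE U hU) ((chartE U hU).hom ⟨a, ha⟩)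
  let zF := Proj.map (RelProj.gradedHomAt πF hπF U hU) (hirrF U hU) ((chartF U hU).hom ⟨b, hb⟩)
  have hz : zE = zF := by
    refine (Scheme.Hom.injective ((chart U hU).inv ≫ (p ⁻¹ᵁ U).ι)) ?_
    have h1 := congrArg (fun φ => φ ⟨a, ha⟩) (hhE U hU)
    have h2 := congrArg (fun φ => φ ⟨b, hb⟩) (hhF U hU)
    exact (h1.symm.trans hab).trans h2
  have hbasic : ∀ (e : Γ((E ⊞ F : Y.Modules), U)), zE ∉ Proj.basicOpen (𝒮.deg U hU) (j.app U e) := fun e he => by
    have hsplit : e = (biprod.inl : E ⟶ E ⊞ F).app U ((biprod.fst : E ⊞ F ⟶ E).app U e) +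
        (biprod.inr : F ⟶ E ⊞ F).app U ((biprod.snd : E ⊞ F ⟶ F).app U e) := by
      have h := congrArg (fun χ : E ⊞ F ⟶ E ⊞ F => χ.app U e) (biprod.total (X := E) (Y := F))
      exact h.symm
    rw [hsplit, map_add] at he
    have hl : zE ∉ Proj.basicOpen (𝒮.deg U hU) (j.app U ((biprod.inl : E ⟶ E ⊞ F).app U ((biprod.fst : E ⊞ F ⟶ E).app U e))) := by
      rw [hz]
      show ¬ ((chartF U hU).hom ⟨b, hb⟩ ∈ Proj.basicOpen (𝒮F.deg U hU) ((πF.hom.app (op U)).hom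
        (j.app U ((biprod.inl : E ⟶ E ⊞ F).app U ((biprod.fst : E ⊞ F ⟶ E).app U e)))))
      rw [hmodF, show (biprod.snd : E ⊞ F ⟶ F).app U ((biprod.inl : E ⟶ E ⊞ F).app U
        ((biprod.fst : E ⊞ F ⟶ E).app U e)) = 0 from
        congrArg (fun χ : E ⟶ F => χ.app U _) (biprod.inl_snd (X := E) (Y := F)), map_zero, Proj.basicOpen_zero]
      exact id
    have hr : zE ∉ Proj.basicOpen (𝒮.deg U hU) (j.app U ((biprod.inr : F ⟶ E ⊞ F).app U ((biprod.snd : E ⊞ F ⟶ F).app U e))) := by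
      show ¬ ((chartE U hU).hom ⟨a, ha⟩ ∈ Proj.basicOpen (𝒮E.deg U hU) ((πE.hom.app (op U)).hom
        (j.app U ((biprod.inr : F ⟶ E ⊞ F).app U ((biprod.snd : E ⊞ F ⟶ F).app U e)))))
      rw [hmodE, show (biprod.fst : E ⊞ F ⟶ E).app U ((biprod.inr : F ⟶ E ⊞ F).app U
        ((biprod.snd : E ⊞ F ⟶ F).app U e)) = 0 from
        congrArg (fun χ : F ⟶ E => χ.app U _) (biprod.inr_fst (X := E) (Y := F)), map_zero, Proj.basicOpen_zero]
      exact id
    rw [Proj.mem_basicOpen, not_not] at hl hr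
    rw [Proj.mem_basicOpen] at he
    exact he (zE.asHomogeneousIdeal.toIdeal.add_mem hl hr)
  refine zE.not_irrelevant_le ?_
  show ((𝒮.deg U hU)₊).toIdeal ≤ zE.asHomogeneousIdeal.toIdeal
  rw [RelTildeX.irrelevant_eq_span_deg_one (SymX.isGenDegOne_of_isGrSymAlg (RGLib.SqZeroHom.isQCoh_biprod hE hF) hj) U hU,
    Ideal.span_le]
  intro x hx
  obtain ⟨m, rfl⟩ := SymX.exists_app_eq_of_deg_one (RGLib.SqZeroHom.isQCoh_biprod hE hF) hj U hU hx
  by_contra h
  exact hbasic m ((Proj.mem_basicOpen _ _ _).2 h)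

end Groth.Agent.S5734
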