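import Groth.Statements.S5744
import Groth.Agent.PnCoh.Finite.SerreVanishing
import Groth.Agent.QCoh.Qcqs

set_option autoImplicit false
universe u
open Coherent

namespace Groth.Agent.S5744

open AlgebraicGeometry CategoryTheory in
/-- For the Čech complex of sheaves indexed by all ordered tuples with products as terms; over a finite
index type these terms are finite direct sums. Let X be a separated scheme, (U_i)_{i ∈ ι} a finite
family of affine opens covering X, and F a quasi-coherent O_X-module. Then for every p the degree-p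
term of the Čech complex of sheaves 𝔠(𝒰, F), the product over ordered (p+1)-tuples of the direct
images (j_{i_0…i_p})_*(F|_{U_{i_0…i_p}}), is a quasi-coherent O_X-module. -/
theorem result {X : Scheme.{u}} [X.IsSeparated] {ι : Type u}
    [Finite ι] (𝒰 : ι → X.Opens) (h𝒰 : ∀ i, IsAffineOpen (𝒰 i)) (hcov : ⨆ i, 𝒰 i = ⊤)
    (F : X.Modules) [Coh.IsQCoh F] (p : ℕ) :
    Coh.IsQCoh (((CechOX.cechSh 𝒰).obj F).X p) := by
  classical
  have : Fintype ι := Fintype.ofFinite ι
  haveI hT : ∀ i : Fin (p + 1) → ι, IsAffineOpen (∏ᶜ (𝒰 ∘ i) : X.Opens) := fun i => by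
    have e : (∏ᶜ (𝒰 ∘ i) : X.Opens) = ⨅ k, 𝒰 (i k) :=
      le_antisymm (le_iInf fun k => leOfHom (Limits.Pi.π (𝒰 ∘ i) k))
        (leOfHom (Limits.Pi.lift fun k => homOfLE (iInf_le (fun k => 𝒰 (i k)) k)))
    rw [e]
    exact IsAffineOpen.iInf fun k => h𝒰 _
  let T : (Fin (p + 1) → ι) → X.Modules := fun i => (CechOX.pushRestr (∏ᶜ (𝒰 ∘ i))).obj F
  have hq : ∀ i, Coh.IsQCoh (T i) := fun i => by
    haveI : IsAffine ((∏ᶜ (𝒰 ∘ i) : X.Opens) : Scheme) := hT i
    haveI : IsAffineHom ((∏ᶜ (𝒰 ∘ i) : X.Opens).ι ≫ Limits.terminal.from X) := inferInstance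
    haveI : IsAffineHom (∏ᶜ (𝒰 ∘ i) : X.Opens).ι := IsAffineHom.of_comp _ (Limits.terminal.from X)
    have h1 : Coh.IsQCoh (F.restrict (∏ᶜ (𝒰 ∘ i) : X.Opens).ι) := QCoh.isQCoh_restrict _ inferInstance
    haveI : QuasiCompact (∏ᶜ (𝒰 ∘ i) : X.Opens).ι := inferInstance
    have h2 := QCoh.isQCoh_pushforward (∏ᶜ (𝒰 ∘ i) : X.Opens).ι h1
    simp only [T, CechOX.pushRestr]
    exact h2
  haveI : Limits.HasBiproduct T := Limits.HasBiproduct.of_hasProduct T
  have key : Coh.IsQCoh (∏ᶜ T) :=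
    (QCoh.isQCoh_iff_iso (Limits.biproduct.isoProduct T)).1 (PnCoh.Finite.isQCoh_biproduct T hq)
  exact key

end Groth.Agent.S5744
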