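import Groth.Statements.S5749
import Groth.Agent.VBPnX.EulerPn
import Groth.Agent.VBPnX.EulerVanish
import Groth.Agent.PnCoh.Chow.Proper
import Groth.Agent.Proj16.Points
import Groth.Agent.S0844

set_option backward.isDefEq.respectTransparency false
set_option backward.isDefEq.respectTransparency.types false
set_option linter.style.haveILetI false

set_option autoImplicit false
universe u
open Coherent

namespace Groth.Agent.S5749

open AlgebraicGeometry CategoryTheory in
/-- Let A be an Artinian local ring, i : X → P^r_A a closed immersion compatible with the structure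
morphisms to Spec A (X projective over A with the very ample module i^* O(1)), F a coherent
O_X-module and F(n) = F ⊗ i^* O(n). Then for all sufficiently large n the Euler characteristic
χ_A(F(n)) = Σ_{j ≤ r} (-1)^j length_A H^j(X, F(n)) equals the length of H^0(X, F(n)), the A-module
of global sections of F(n). -/
theorem result (A : Type u) [CommRing A]
    [IsArtinianRing A] [IsLocalRing A] (r : ℕ) (X : Scheme.{u}) [X.Over (Spec (CommRingCat.of A))]
    (i : X ⟶ CohB1.ProjSpace r A) [IsClosedImmersion i]
    (hi : i ≫ CohB1.ProjSpace.toSpec r A = X ↘ Spec (CommRingCat.of A)) (F : X.Modules) (hF : Coh.IsCoh F) :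
    ∃ N : ℤ, ∀ n : ℤ, N ≤ n →
      ((Finset.range (r + 1)).sum fun j => (-1 : ℤ) ^ j *
        ((Module.length A (Coh.HH X (CohB1.tensorMod F
          ((Scheme.Modules.pullback i).obj (Twist.twistProjSpace r A n))) j)).toNat : ℤ)) =
      ((Module.length A (Coh.HH X (CohB1.tensorMod F
          ((Scheme.Modules.pullback i).obj (Twist.twistProjSpace r A n))) 0)).toNat : ℤ) := by
  let f : ULift.{u} (Fin (r + 1)) → MvPolynomial (Fin (r + 1)) A := fun j => MvPolynomial.X j.down
  have hf : ∀ j, f j ∈ CohB1.polyGrading r A 1 := fun j => MvPolynomial.isHomogeneous_X A j.down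
  have hcov : ⨆ j, PnCoh.Finite.D (CohB1.polyGrading r A) (f j) = ⊤ := by
    refine top_le_iff.1 ?_
    refine le_trans (PnCoh.iSup_mOpen_single (ι := Fin (r + 1)) (R := A)).ge ?_
    exact iSup_le fun j => le_iSup_of_le (ULift.up j) le_rfl
  haveI hNoe : IsNoetherian (Proj (CohB1.polyGrading r A)) := Proj16.isNoetherian_proj _
  haveI : IsLocallyNoetherian (Proj (CohB1.polyGrading r A)) := hNoe.toIsLocallyNoetherian
  letI : (Proj (CohB1.polyGrading r A)).Over (Spec (CommRingCat.of A)) :=
    ⟨CohB1.ProjSpace.toSpec r A⟩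
  haveI : IsProper (Proj (CohB1.polyGrading r A) ↘ Spec (CommRingCat.of A)) :=
    PnCoh.Chow.isProper_toSpec r A
  have hvan : ∀ M : (Proj (CohB1.polyGrading r A)).Modules, Coh.IsQCoh M → ∀ q, r + 1 ≤ q →
      Subsingleton (Coh.HH (Proj (CohB1.polyGrading r A)) M q) := fun M hM q hq =>
    QCoh.HH_subsingleton_of_cover (X := Proj (CohB1.polyGrading r A)) (r + 1)
      (fun j => PnCoh.Finite.D (CohB1.polyGrading r A) (f (ULift.up j)))
      (fun j => PnCoh.Finite.isAffineOpen_D hf _)
      (top_le_iff.1 (hcov.ge.trans (iSup_le fun j => le_iSup_of_le j.down le_rfl)))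
      (fun V W hV hW => IsAffineOpen.inf hV hW) hM q hq
  have htw : ∀ q, 0 < q → ∃ d₀ : ℤ, ∀ d, d₀ ≤ d →
      Subsingleton (Coh.HH (Proj (CohB1.polyGrading r A)) (Twist.twist (CohB1.polyGrading r A) d) q) :=
    fun q hq => ⟨0, fun d hd => S0844.result A r d q (fun h => by omega) fun h => by omega⟩
  obtain ⟨N, hN⟩ := VBPnX.EulerPn.exists_chiUpTo_eq_hLen (R := A) (r := r) i hf hcov hvan htw hi F hF
  exact ⟨N, fun n hn => hN n hn⟩

end Groth.Agent.S5749
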