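import Groth.Statements.S5759
import Groth.Agent.LC.ExtDim
import Groth.Agent.Alg6.AssDepth

set_option autoImplicit false
universe u
open EGA41

namespace Groth.Agent.S5759

/-- Let A be a Noetherian local ring and M a nonzero finitely generated A-module. Suppose that for every
sequence x_1, ..., x_r of elements of the maximal ideal which is part of a system of parameters for
M (i.e. dim(M/(x_1 M + ... + x_r M)) = dim(M) - r), every associated prime p of N = M/(x_1 M + ... +
x_r M) satisfies dim(A/p) = dim(N). Then M is a Cohen-Macaulay module. (The published convention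
also counts the zero module as Cohen-Macaulay; this row assumes M nonzero.) -/
theorem result (A : Type u) [CommRing A]
    [IsLocalRing A] [IsNoetherianRing A] (M : Type u) [AddCommGroup M] [Module A M] [Module.Finite A M]
    [Nontrivial M]
    (h : ∀ xs : List A, (∀ x ∈ xs, x ∈ IsLocalRing.maximalIdeal A) →
      Module.supportDim A (M ⧸ (Ideal.ofList xs • (⊤ : Submodule A M))) + xs.length = Module.supportDim A M →
        ∀ p ∈ associatedPrimes A (M ⧸ (Ideal.ofList xs • (⊤ : Submodule A M))),
          ringKrullDim (A ⧸ p) = Module.supportDim A (M ⧸ (Ideal.ofList xs • (⊤ : Submodule A M)))) :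
    LocCoh.IsCohenMacaulayModule A M := by
  have key : ∀ (D : ℕ) (M : Type u) [AddCommGroup M] [Module A M] [Module.Finite A M] [Nontrivial M],
      Module.supportDim A M = D →
      (∀ xs : List A, (∀ x ∈ xs, x ∈ IsLocalRing.maximalIdeal A) →
      Module.supportDim A (M ⧸ (Ideal.ofList xs • (⊤ : Submodule A M))) + xs.length = Module.supportDim A M →
        ∀ p ∈ associatedPrimes A (M ⧸ (Ideal.ofList xs • (⊤ : Submodule A M))),
          ringKrullDim (A ⧸ p) = Module.supportDim A (M ⧸ (Ideal.ofList xs • (⊤ : Submodule A M)))) →
      LocCoh.IsCohenMacaulayModule A M := by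
    intro D
    induction D with
    | zero =>
      intro M _ _ _ _ hD _
      refine le_antisymm ?_ (LC.depth_le_supportDim M)
      rw [hD]
      exact WithBot.coe_le_coe.2 zero_le
    | succ D ih =>
      intro M _ _ _ _ hD h
      let e0 : (M ⧸ (Ideal.ofList ([] : List A) • (⊤ : Submodule A M))) ≃ₗ[A] M :=
        Submodule.quotEquivOfEqBot _ (by simp)
      obtain ⟨x, hx, hreg⟩ := (Alg6.exists_isSMulRegular_mem_iff (M := M) (IsLocalRing.maximalIdeal A)).2
        fun p hp hle => by
          have h0 := h [] (by simp) (by simp [Module.supportDim_eq_of_equiv e0]) p (by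
            rw [LinearEquiv.AssociatedPrimes.eq e0]; exact hp)
          rw [Module.supportDim_eq_of_equiv e0, hD,
            ← (IsLocalRing.maximalIdeal.isMaximal A).eq_of_le (IsAssociatedPrime.isPrime hp).ne_top hle] at h0
          rw [ringKrullDim_eq_zero_of_isField
            ((Ideal.Quotient.maximal_ideal_iff_isField_quotient _).1 inferInstance)] at h0
          have h' : ((0 : ℕ) : WithBot ℕ∞) = ((D + 1 : ℕ) : WithBot ℕ∞) := by exact_mod_cast h0
          exact absurd (show 0 = D + 1 by exact_mod_cast h') (by omega)
      have hdim := Module.supportDim_quotSMulTop_succ_eq_supportDim hreg hx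
      have : Nontrivial (QuotSMulTop x M) := by
        rw [← Module.supportDim_ne_bot_iff_nontrivial A]
        intro hb
        rw [hb, hD, WithBot.bot_add] at hdim
        exact WithBot.bot_ne_coe hdim
      have hdim' : Module.supportDim A (QuotSMulTop x M) = D := by
        rw [hD] at hdim
        revert hdim
        generalize Module.supportDim A (QuotSMulTop x M) = y
        intro hdim
        cases y with
        | bot => exact absurd hdim WithBot.bot_ne_coe
        | coe y =>
          have h1 : y + 1 = ((D + 1 : ℕ) : ℕ∞) := by exact_mod_cast hdim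
          push_cast at h1
          exact congrArg _ ((WithTop.add_right_cancel ENat.one_ne_top) h1)
      have hcm := ih (QuotSMulTop x M) hdim' fun xs hxs hpar p hp => by
        let e := Submodule.quotOfListConsSMulTopEquivQuotSMulTopInner M x xs
        have h2 := h (x :: xs) (fun y hy => (List.mem_cons.1 hy).elim (fun h => h ▸ hx) (hxs y)) (by
          rw [Module.supportDim_eq_of_equiv e, List.length_cons, ← hdim, ← hpar]
          push_cast
          exact (add_assoc _ _ _).symm) p (by
          rw [LinearEquiv.AssociatedPrimes.eq e]; exact hp)
        rw [h2, Module.supportDim_eq_of_equiv e]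
      unfold LocCoh.IsCohenMacaulayModule at hcm ⊢
      rw [← hdim, hcm, LocCoh.depth, LocCoh.depth,
        ← LC.idealDepth_quotSMulTop_add_one (IsLocalRing.maximalIdeal A) hx hreg]
      rfl
  obtain ⟨D, hD⟩ : ∃ D : ℕ, Module.supportDim A M = D := by
    have h1 := Module.supportDim_ne_bot_of_nontrivial A M
    have h2 := lt_of_le_of_lt (Module.supportDim_le_ringKrullDim A M) (ringKrullDim_lt_top (R := A))
    revert h1 h2
    generalize Module.supportDim A M = d
    cases d with
    | bot => exact fun h => absurd rfl h
    | coe d =>
      induction d using ENat.recTopCoe with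
      | top => exact fun _ h => absurd h (lt_irrefl _)
      | coe d => exact fun _ _ => ⟨d, rfl⟩
  exact key D M hD h

end Groth.Agent.S5759
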