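import Groth.Statements.S5760
import Groth.Agent.LC.ExtDim
import Groth.Agent.LC.DepthExt
import Groth.Agent.S5757
import Groth.Agent.S5758

set_option autoImplicit false
universe u
open EGA41

namespace Groth.Agent.S5760

/-- Let A be a Noetherian local ring, M a nonzero finitely generated Cohen-Macaulay A-module, p a prime
ideal in the support of M and r the integer dim(M) - dim(M/pM). Then there exists an M-regular
sequence x_1, ..., x_r of elements of p; for every such sequence, dim(M/(x_1 M + ... + x_r M)) =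
dim(M/pM) = dim(A/p), and p is a minimal element of the set of associated primes of M/(x_1 M + ... +
x_r M). -/
theorem result (A : Type u) [CommRing A]
    [IsLocalRing A] [IsNoetherianRing A] (M : Type u) [AddCommGroup M] [Module A M] [Module.Finite A M]
    (hM : LocCoh.IsCohenMacaulayModule A M) (p : PrimeSpectrum A) (hp : p ∈ Module.support A M) (r : ℕ)
    (hr : Module.supportDim A (M ⧸ (p.asIdeal • (⊤ : Submodule A M))) + r = Module.supportDim A M) :
    (∃ xs : List A, xs.length = r ∧ (∀ x ∈ xs, x ∈ p.asIdeal) ∧ RingTheory.Sequence.IsWeaklyRegular M xs) ∧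
      ∀ xs : List A, xs.length = r → (∀ x ∈ xs, x ∈ p.asIdeal) → RingTheory.Sequence.IsWeaklyRegular M xs →
        Module.supportDim A (M ⧸ (Ideal.ofList xs • (⊤ : Submodule A M))) =
            Module.supportDim A (M ⧸ (p.asIdeal • (⊤ : Submodule A M))) ∧
          Module.supportDim A (M ⧸ (p.asIdeal • (⊤ : Submodule A M))) = ringKrullDim (A ⧸ p.asIdeal) ∧
          p.asIdeal ∈ associatedPrimes A (M ⧸ (Ideal.ofList xs • (⊤ : Submodule A M))) ∧
          ∀ q ∈ associatedPrimes A (M ⧸ (Ideal.ofList xs • (⊤ : Submodule A M))), q ≤ p.asIdeal → q = p.asIdeal := by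
  have hI : p.asIdeal ≠ ⊤ := p.2.ne_top
  have hle := IsLocalRing.le_maximalIdeal hI
  have := LC.nontrivial_of_isCM M hM
  have hnat : ∃ d : ℕ, Module.supportDim A (M ⧸ (p.asIdeal • (⊤ : Submodule A M))) = d := by
    have : Nontrivial (M ⧸ (p.asIdeal • (⊤ : Submodule A M))) :=
      Submodule.Quotient.nontrivial_iff.2 (LC.smul_top_ne_top_of_le_maximal hle)
    have h1 := Module.supportDim_ne_bot_of_nontrivial A (M ⧸ (p.asIdeal • (⊤ : Submodule A M)))
    have h2 := lt_of_le_of_lt (Module.supportDim_le_ringKrullDim A (M ⧸ (p.asIdeal • (⊤ : Submodule A M))))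
      (ringKrullDim_lt_top (R := A))
    revert h1 h2
    generalize Module.supportDim A (M ⧸ (p.asIdeal • (⊤ : Submodule A M))) = d
    cases d with
    | bot => exact fun h => absurd rfl h
    | coe d =>
      induction d using ENat.recTopCoe with
      | top => exact fun _ h => absurd h (lt_irrefl _)
      | coe d => exact fun _ _ => ⟨d, rfl⟩
  obtain ⟨d, hd⟩ := hnat
  refine ⟨?_, ?_⟩
  · have h := LC.supportDim_eq_add_idealDepth M hM hI
    obtain ⟨rs, hrs, hmem, hlen⟩ := LC.exists_idealDepth_eq_length p.asIdeal (M := M)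
      (LC.smul_top_ne_top_of_le_maximal hle)
    rw [hlen, ← hr, hd] at h
    have : r = rs.length := by
      have h' : ((d + r : ℕ) : WithBot ℕ∞) = ((d + rs.length : ℕ) : WithBot ℕ∞) := by push_cast; exact h
      have h'' : d + r = d + rs.length := by exact_mod_cast h'
      omega
    exact ⟨rs, this.symm, hmem, hrs⟩
  intro xs hlen hmem hreg
  obtain ⟨hdimiff, hcm⟩ := S5758.result A M hM xs fun x hx => hle (hmem x hx)
  have hQ := hcm hreg
  have h1 := hdimiff.1 hreg
  have := LC.nontrivial_of_isCM _ hQ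
  rw [hlen, ← hr, hd] at h1
  have hdQ : Module.supportDim A (M ⧸ (Ideal.ofList xs • (⊤ : Submodule A M))) = d := by
    revert h1
    generalize Module.supportDim A (M ⧸ (Ideal.ofList xs • (⊤ : Submodule A M))) = x
    intro h1
    cases x with
    | bot => simp at h1; exact absurd h1.symm (by exact_mod_cast WithBot.coe_ne_bot (a := ((d + r : ℕ) : ℕ∞)))
    | coe x =>
      have h1' : x + (r : ℕ∞) = (d : ℕ∞) + r := by exact_mod_cast h1
      exact congrArg _ ((WithTop.add_right_cancel (ENat.natCast_ne_top r)) h1')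
  have hdp : ringKrullDim (A ⧸ p.asIdeal) = d := by
    rw [← hd, Module.supportDim, ringKrullDim_quotient, Module.support_quotient]
    rw [show Module.support A M ∩ PrimeSpectrum.zeroLocus (p.asIdeal : Set A) =
      PrimeSpectrum.zeroLocus (p.asIdeal : Set A) from Set.inter_eq_right.2 fun q hq =>
        Module.mem_support_mono (show p ≤ q from hq) hp]
  let Q := M ⧸ (Ideal.ofList xs • (⊤ : Submodule A M))
  have hpQ : p ∈ Module.support A Q := by
    show p ∈ Module.support A (M ⧸ (Ideal.ofList xs • (⊤ : Submodule A M)))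
    rw [Module.support_quotient]
    exact ⟨hp, LC.ofList_le p.asIdeal hmem⟩
  have hmin : ∀ q : Ideal A, q.IsPrime → q ≤ p.asIdeal → ringKrullDim (A ⧸ q) = d → q = p.asIdeal := by
    intro q hq hqp hqd
    by_contra hne
    obtain ⟨x, hxp, hxq⟩ := SetLike.exists_of_lt (lt_of_le_of_ne hqp hne)
    have hx0 : Ideal.Quotient.mk q x ∈ nonZeroDivisors (A ⧸ q) :=
      mem_nonZeroDivisors_of_ne_zero fun h => hxq (Ideal.Quotient.eq_zero_iff_mem.1 h)
    have h2 := ringKrullDim_succ_le_of_surjective (Ideal.Quotient.factor hqp)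
      (Ideal.Quotient.factor_surjective hqp) hx0 (by simpa [Ideal.Quotient.eq_zero_iff_mem] using hxp)
    rw [hdp, hqd] at h2
    have h3 : ((d + 1 : ℕ) : WithBot ℕ∞) ≤ ((d : ℕ) : WithBot ℕ∞) := by push_cast; exact h2
    exact absurd (show d + 1 ≤ d by exact_mod_cast h3) (by omega)
  refine ⟨hdQ.trans hd.symm, hd.trans hdp.symm, ?_, fun q hq hqp => ?_⟩
  · refine Module.associatedPrimes.minimalPrimes_annihilator_subset_associatedPrimes A Q ?_
    refine ⟨⟨p.2, Module.mem_support_iff_of_finite.1 hpQ⟩, fun q ⟨hq, hann⟩ hqp => (hmin q hq hqp ?_).ge⟩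
    refine le_antisymm ?_ (hdp ▸ ringKrullDim_le_of_surjective _ (Ideal.Quotient.factor_surjective hqp))
    rw [← hdQ, Module.supportDim_eq_ringKrullDim_quotient_annihilator]
    exact ringKrullDim_le_of_surjective _ (Ideal.Quotient.factor_surjective hann)
  · exact hmin q (IsAssociatedPrime.isPrime hq) hqp ((S5757.result A Q hQ q hq).trans hdQ)

end Groth.Agent.S5760
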