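import Groth.Statements.S5768
import Groth.Agent.H1Sop.Basic

set_option autoImplicit false
universe u
open EGA41

namespace Groth.Agent.S5768

/-- Let A be a semi-local Noetherian ring with Jacobson radical r, M a nonzero finitely generated
A-module and x_1, ..., x_k elements of r. One always has dim(M/(x_1 M + ... + x_k M)) ≥ dim(M) - k,
and equality holds if and only if there exist further elements of r which together with the x_i form
a system of parameters for M (dim(M) elements of r modulo which M has finite length). -/
theorem result (A : Type u) [CommRing A]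
    [IsNoetherianRing A] [Finite (MaximalSpectrum A)] (M : Type u) [AddCommGroup M] [Module A M]
    [Module.Finite A M] [Nontrivial M] (xs : List A) (hxs : ∀ x ∈ xs, x ∈ Ring.jacobson A) :
    Module.supportDim A (M ⧸ (Ideal.ofList xs • (⊤ : Submodule A M))) + xs.length = Module.supportDim A M ↔
      ∃ ys : List A, (∀ y ∈ ys, y ∈ Ring.jacobson A) ∧
        ((xs ++ ys).length : WithBot ℕ∞) = Module.supportDim A M ∧
        IsFiniteLength A (M ⧸ (Ideal.ofList (xs ++ ys) • (⊤ : Submodule A M))) := by
  obtain ⟨n, hn⟩ := H1Sop.exists_supportDim_eq_nat (A := A) M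
  set N := M ⧸ (Ideal.ofList xs • (⊤ : Submodule A M))
  have hlow := H1Sop.le_supportDim_ofList xs M hxs
  constructor
  · intro h
    have hNne : Module.supportDim A N ≠ ⊥ := by
      intro hb; rw [hb, hn] at h; simp at h
    haveI : Nontrivial N := (Module.supportDim_ne_bot_iff_nontrivial A N).1 hNne
    obtain ⟨q, hq⟩ := H1Sop.exists_supportDim_eq_nat (A := A) N
    obtain ⟨ys, hys, hlen, hfl⟩ := H1Sop.exists_sop q N hq
    refine ⟨ys, hys, ?_, ?_⟩
    · rw [hq] at h
      rw [← h, List.length_append, hlen, Nat.add_comm, Nat.cast_add]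
    · rw [← Module.length_ne_top_iff] at hfl ⊢
      rwa [(H1Sop.quotAppendEquiv xs ys M).length_eq]
  · rintro ⟨ys, hys, hlen, hfl⟩
    refine le_antisymm ?_ hlow
    have h1 := H1Sop.le_supportDim_ofList ys N hys
    have h2 := H1Sop.supportDim_le_zero hfl
    rw [Module.supportDim_eq_of_equiv (H1Sop.quotAppendEquiv xs ys M)] at h2
    have h3 : Module.supportDim A N ≤ (ys.length : WithBot ℕ∞) := h1.trans ((add_le_add h2 le_rfl).trans (zero_add _).le)
    rw [← hlen, List.length_append, Nat.add_comm xs.length, Nat.cast_add]
    gcongr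

end Groth.Agent.S5768
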