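import Groth.Statements.S5782
import Groth.Agent.H1Fields.PdQuot
import Groth.Agent.H1PdLib.Basic

set_option autoImplicit false
universe u
open CategoryTheory
open EGA41

namespace Groth.Agent.S5782

/-- Let A be a Noetherian local ring with maximal ideal m, E a finitely generated A-module of finite
projective dimension, and a ∈ m an element which is A-regular and E-regular. Then E/aE, as a module
over A/aA, has finite projective dimension at most the projective dimension of E over A. -/
theorem result (A : Type u) [CommRing A] [IsLocalRing A]
    [IsNoetherianRing A] (E : Type u) [AddCommGroup E] [Module A E] [Module.Finite A E]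
    (hfin : projectiveDimension (ModuleCat.of A E) ≠ ⊤) (a : A) (ha : a ∈ IsLocalRing.maximalIdeal A)
    (hA : IsSMulRegular A a) (hE : IsSMulRegular E a) :
    projectiveDimension (ModuleCat.of (A ⧸ Ideal.span {a}) (E ⧸ (Ideal.span {a} • (⊤ : Submodule A E)))) ≤
      projectiveDimension (ModuleCat.of A E) := by
  classical
  rcases subsingleton_or_nontrivial E with hs | hn
  · haveI : Subsingleton (E ⧸ (Ideal.span {a} • (⊤ : Submodule A E))) := (Submodule.Quotient.mk_surjective _).subsingleton
    rw [(H1PdLib.projectiveDimension_eq_bot_iff_subsingleton _).mpr inferInstance]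
    exact bot_le
  obtain ⟨n, hpd⟩ := H1PdLib.exists_pdLE_of_ne_top hfin
  have hex : ∃ n, RegLoc6.PdLE A n E := ⟨n, hpd⟩
  rw [H1PdLib.projectiveDimension_eq (Nat.find hex) (Nat.find_spec hex) fun e he => Nat.find_min hex he]
  exact (projectiveDimension_le_iff _ _).2 (H1Fields.pdLE_quot hA (Nat.find hex) E hE (Nat.find_spec hex))

end Groth.Agent.S5782
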