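import Groth.Statements.S5783
import Groth.Agent.LC.ExtDim
import Groth.Agent.S0605
import Groth.Agent.S5756
import Groth.Agent.VarDim.Basic
import Groth.Agent.FlatLoc6.RegCM
import Groth.Agent.FlatLoc6.NormFlat

set_option autoImplicit false
universe u
open EGA41

namespace Groth.Agent.S5783

/-- Let A be a regular local ring, B a local ring and ρ : A → B a local homomorphism making B a finitely
generated A-module. Then B is a free A-module if and only if B is a Cohen-Macaulay ring and ρ is
injective (the latter being equivalent to dim(B) = dim(A)). -/
theorem result (A B : Type u) [CommRing A] [CommRing B]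
    [IsRegularLocalRing A] [IsLocalRing B] [Algebra A B] [IsLocalHom (algebraMap A B)] [Module.Finite A B] :
    Module.Free A B ↔ LocCoh.IsCohenMacaulayLocalRing B ∧ Function.Injective (algebraMap A B) := by
  have : IsNoetherianRing B := IsNoetherianRing.of_finite A B
  have hd : LocCoh.depth A B = LocCoh.depth B B := S5756.result A B B
  have hinjdim : Function.Injective (algebraMap A B) → ringKrullDim B = ringKrullDim A := fun hi => by
    have : FaithfulSMul A B := (faithfulSMul_iff_algebraMap_injective _ _).2 hi
    exact VarDim.ringKrullDim_eq_of_isIntegral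
  constructor
  · intro hfree
    have hinj : Function.Injective (algebraMap A B) := FaithfulSMul.algebraMap_injective A B
    refine ⟨⟨?_⟩, hinj⟩
    let b := Module.finBasis A B
    obtain ⟨k, hk⟩ := Nat.exists_eq_succ_of_ne_zero (Fin.pos_iff_nonempty.mpr b.index_nonempty).ne'
    have hdA : LocCoh.depth A B = LocCoh.depth A A :=
      (Hensel.depth_congr (b.reindex (finCongr hk)).equivFun).trans (FlatLoc6.depth_pi A k)
    have hA : ringKrullDim A = ((LocCoh.depth A A : ℕ∞) : WithBot ℕ∞) := by
      have := LC.gorenstein_of_isRegularLocalRing (R := A)
      rw [← (LC.isCohenMacaulayLocalRing_of_gorenstein (R := A)).supportDim_eq_depth,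
        Module.supportDim_self_eq_ringKrullDim]
    rw [Module.supportDim_self_eq_ringKrullDim, hinjdim hinj, ← hd, hdA, hA]
  · rintro ⟨hcm, hinj⟩
    refine S0605.result A B ?_
    rw [hd, ← hinjdim hinj, ← hcm.supportDim_eq_depth, Module.supportDim_self_eq_ringKrullDim]

end Groth.Agent.S5783
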