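import Groth.Statements.S5808
import Groth.Agent.H1Sop.Basic
import Groth.Agent.FlatLoc6.DimEq

set_option autoImplicit false
universe u
open EGA41

namespace Groth.Agent.S5808

noncomputable def quotEquiv {A : Type u} [CommRing A] (I K : Ideal A) :
    ((A ⧸ I) ⧸ (K • (⊤ : Submodule A (A ⧸ I)))) ≃ₗ[A] A ⧸ (I ⊔ K) :=
  (Submodule.quotEquivOfEq _ (Submodule.map I.mkQ (K : Submodule A A)) (by
      have e : (K : Submodule A A) = K • ⊤ := by rw [smul_eq_mul, Ideal.mul_top]
      rw [show Submodule.map I.mkQ (K : Submodule A A) = Submodule.map I.mkQ (K • ⊤ : Submodule A A) by rw [← e],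
        Submodule.map_smul'', Submodule.map_top, Submodule.range_mkQ])).trans
    (Submodule.quotientQuotientEquivQuotientSup I K)

theorem build {A : Type u} [CommRing A] [IsNoetherianRing A] [Finite (MaximalSpectrum A)] (a : Ideal A) (h : ℕ)
    (hh : a.height = h) (n : ℕ) (hn : ringKrullDim A = n) (hhn : h ≤ n) : ∀ i, i ≤ h →
    ∃ l : List A, (∀ x ∈ l, x ∈ a ∧ x ∈ Ring.jacobson A) ∧ l.length = i ∧
      ringKrullDim (A ⧸ Ideal.ofList l) = ((n - i : ℕ) : WithBot ℕ∞) ∧
      ∀ P ∈ (Ideal.ofList l).minimalPrimes, ¬ P.IsMaximal → (i : ℕ∞) ≤ P.height := by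
  intro i
  induction i with
  | zero =>
    intro _
    refine ⟨[], by simp, rfl, ?_, fun P _ _ => by simp⟩
    rw [Ideal.ofList_nil, ringKrullDim_eq_of_ringEquiv (RingEquiv.quotientBot A), hn, Nat.sub_zero]
  | succ i ih =>
    intro hi
    obtain ⟨l, hl, hlen, hdim, hinv⟩ := ih (by omega)
    set J := Ideal.ofList l
    let S : Set (Ideal A) := {P | P ∈ J.minimalPrimes ∧ ¬ P.IsMaximal}
    have hS : S.Finite := (Ideal.finite_minimalPrimes_of_isNoetherianRing A J).subset fun P hP => hP.1
    obtain ⟨y, hya, hyj, hy⟩ : ∃ y, y ∈ a ∧ y ∈ Ring.jacobson A ∧ ∀ P ∈ S, y ∉ P := by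
      classical
      haveI := Fintype.ofFinite (MaximalSpectrum A)
      by_contra hc
      push Not at hc
      have hsub : ((a ⊓ Ring.jacobson A : Ideal A) : Set A) ⊆ ⋃ P ∈ hS.toFinset, (P : Set A) := fun b hb => by
        obtain ⟨P, hP', hbP⟩ := hc b hb.1 hb.2
        exact Set.mem_iUnion₂.mpr ⟨P, hS.mem_toFinset.mpr hP', hbP⟩
      obtain ⟨P, hPS, hle⟩ := (Ideal.subset_union_prime (f := id) ⊥ ⊥
        (fun P hP' _ _ => (hS.mem_toFinset.mp hP').1.1.1)).mp hsub
      obtain ⟨hPmin, hPn⟩ := hS.mem_toFinset.mp hPS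
      haveI := hPmin.1.1
      rcases (Ideal.IsPrime.inf_le hPmin.1.1).1 hle with haP | hjP
      · have h1 : (h : ℕ∞) ≤ P.height := hh ▸ Ideal.height_mono haP
        have h2 : P.height ≤ (i : ℕ∞) := by
          refine (Ideal.height_le_spanRank_toENat_of_mem_minimal_primes _ _ hPmin).trans ?_
          have h3 : (Ideal.span (l.toFinset : Set A)).spanFinrank ≤ l.toFinset.card :=
            (Submodule.spanFinrank_span_le_ncard_of_finite l.toFinset.finite_toSet).trans (Set.ncard_coe_finset _).le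
          have h4 : J = Ideal.span (l.toFinset : Set A) := by simp [J, Ideal.ofList]
          have hfg : J.FG := (Ideal.fg_of_isNoetherianRing J)
          rw [Submodule.fg_iff_spanRank_eq_spanFinrank.2 hfg, h4]
          simp only [Cardinal.toENat_nat]
          exact_mod_cast h3.trans ((List.toFinset_card_le l).trans hlen.le)
        have := h1.trans h2
        norm_cast at this
        omega
      · have hinf : (Finset.univ : Finset (MaximalSpectrum A)).inf (fun m => m.asIdeal) ≤ P := by
          refine le_trans ?_ hjP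
          rw [← Ideal.jacobson_bot]
          exact le_sInf fun J hJ => Finset.inf_le (f := fun m : MaximalSpectrum A => m.asIdeal)
            (Finset.mem_univ (⟨J, hJ.2⟩ : MaximalSpectrum A))
        obtain ⟨m, -, hm⟩ := (Ideal.IsPrime.inf_le' hPmin.1.1).1 hinf
        exact hPn ((m.isMaximal.eq_of_le hPmin.1.1.ne_top hm) ▸ m.isMaximal)
    have hann : Module.annihilator A (A ⧸ J) = J := Ideal.annihilator_quotient
    have hd1 : Module.supportDim A (A ⧸ J) = (((n - i - 1) + 1 : ℕ) : WithBot ℕ∞) := by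
      rw [Module.supportDim_quotient_eq_ringKrullDim, hdim]
      congr 1; congr 1; omega
    have hd2 := H1Sop.drop (A ⧸ J) y (n - i - 1) hd1 (fun P hP hm => hy P ⟨hann ▸ hP, hm⟩)
    have hsup : Ideal.ofList (l ++ [y]) = J ⊔ Ideal.span {y} := by
      rw [Ideal.ofList_append, Ideal.ofList_singleton]
    have hl' : ∀ x ∈ l ++ [y], x ∈ a ∧ x ∈ Ring.jacobson A := fun x hx => by
      rcases List.mem_append.1 hx with hx | hx
      · exact hl x hx
      · rw [List.mem_singleton.1 hx]; exact ⟨hya, hyj⟩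
    refine ⟨l ++ [y], hl', by simp [hlen], le_antisymm ?_ ?_, ?_⟩
    · rw [hsup, ← Groth.Agent.FlatLoc6.supportDim_quot_sup]
      exact hd2.trans (le_of_eq (by rw [Nat.sub_sub]))
    · have h1 := H1Sop.le_supportDim_ofList (l ++ [y]) A (fun x hx => (hl' x hx).2)
      rw [Module.supportDim_self_eq_ringKrullDim, hn, Module.supportDim_eq_of_equiv
        (Submodule.quotEquivOfEq _ (Ideal.ofList (l ++ [y])) (by rw [smul_eq_mul, Ideal.mul_top])),
        Module.supportDim_quotient_eq_ringKrullDim, List.length_append, List.length_singleton, hlen] at h1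
      cases hs : ringKrullDim (A ⧸ Ideal.ofList (l ++ [y])) with
      | bot => simp [hs] at h1
      | coe c =>
        rw [hs] at h1
        cases c with
        | top => simp
        | coe c =>
          have : n ≤ c + (i + 1) := by exact_mod_cast h1
          exact WithBot.coe_le_coe.2 (Nat.cast_le.2 (by omega : n - (i + 1) ≤ c))
    · intro P hP hPn
      haveI := hP.1.1
      have hJP : J ≤ P := (hsup ▸ le_sup_left).trans hP.1.2
      obtain ⟨P0, hP0, hle⟩ := Ideal.exists_minimalPrimes_le hJP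
      haveI := hP0.1.1
      have hP0n : ¬ P0.IsMaximal := fun hm => hPn ((hm.eq_of_le hP.1.1.ne_top hle) ▸ hm)
      have hyP : y ∈ P := hP.1.2 (hsup ▸ Ideal.mem_sup_right (Ideal.mem_span_singleton_self y))
      have hlt : P0 < P := lt_of_le_of_ne hle fun e => hy P0 ⟨hP0, hP0n⟩ (e ▸ hyP)
      have h1 := lt_of_le_of_lt (hinv P0 hP0 hP0n) (Ideal.height_strict_mono_of_isPrime hlt)
      exact Order.add_one_le_of_lt h1

/-- Let A be a semi-local Noetherian ring with spectrum X and Jacobson radical r, and a an ideal of A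
distinct from A with codim(V(a), X) = h > 0 (h is the height of a). Then there exist h elements x_1,
..., x_h of a which are part of a system of parameters of A (so lie in r and can be completed by
elements of r to dim(A) elements generating an ideal modulo which A has finite length) and such that
codim(V(a), V(x_1 A + ... + x_h A)) = 0, i.e. the image of a in A/(x_1 A + ... + x_h A) has height
0. -/
theorem result (A : Type u) [CommRing A] [IsNoetherianRing A]
    [Finite (MaximalSpectrum A)] (a : Ideal A) (ha : a ≠ ⊤) (h : ℕ) (hh : a.height = h) (hpos : 0 < h) :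
    ∃ x : Fin h → A, (∀ i, x i ∈ a) ∧ (∀ i, x i ∈ Ring.jacobson A) ∧
      (∃ ys : List A, (∀ y ∈ ys, y ∈ Ring.jacobson A) ∧
        (((h + ys.length : ℕ) : ℕ∞) : WithBot ℕ∞) = ringKrullDim A ∧
        IsFiniteLength A (A ⧸ (Ideal.span (Set.range x) ⊔ Ideal.ofList ys))) ∧
      (a.map (Ideal.Quotient.mk (Ideal.span (Set.range x)))).height = 0 := by
  classical
  have hA : Nontrivial A := by
    refine ⟨⟨0, 1, fun h01 => ha ((Ideal.eq_top_iff_one a).2 (h01 ▸ a.zero_mem))⟩⟩
  obtain ⟨n, hn⟩ := H1Sop.exists_supportDim_eq_nat (A := A) A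
  rw [Module.supportDim_self_eq_ringKrullDim] at hn
  have hhn : h ≤ n := by
    have h1 := Ideal.height_le_ringKrullDim_of_ne_top ha
    rw [hh, hn] at h1
    exact_mod_cast h1
  obtain ⟨l, hla, hlen, hdim, hinv⟩ := build a h hh n hn hhn h le_rfl
  refine ⟨fun i => l.get (i.cast hlen.symm), fun i => (hla _ (List.get_mem _ _)).1,
    fun i => (hla _ (List.get_mem _ _)).2, ?_, ?_⟩
  · have hspan : Ideal.span (Set.range fun i : Fin h => l.get (i.cast hlen.symm)) = Ideal.ofList l := by
      refine congrArg Ideal.span (Set.ext fun z => ⟨?_, fun hz => ?_⟩)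
      · rintro ⟨i, rfl⟩; exact List.get_mem _ _
      · obtain ⟨i, rfl⟩ := List.get_of_mem hz
        exact ⟨i.cast hlen, rfl⟩
    obtain ⟨ys, hys, hlen', hfl⟩ := H1Sop.exists_sop (n - h) (A ⧸ Ideal.ofList l) (by
      rw [Module.supportDim_quotient_eq_ringKrullDim]; exact hdim)
    refine ⟨ys, hys, ?_, ?_⟩
    · rw [hn, hlen', Nat.add_sub_cancel' hhn]; rfl
    · rw [hspan, ← Ideal.ofList_append]
      rw [← Module.length_ne_top_iff] at hfl ⊢
      rw [(quotEquiv (Ideal.ofList l) (Ideal.ofList ys)).length_eq] at hfl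
      rwa [Ideal.ofList_append]
  · have hspan : Ideal.span (Set.range fun i : Fin h => l.get (i.cast hlen.symm)) = Ideal.ofList l := by
      refine congrArg Ideal.span (Set.ext fun z => ⟨?_, fun hz => ?_⟩)
      · rintro ⟨i, rfl⟩; exact List.get_mem _ _
      · obtain ⟨i, rfl⟩ := List.get_of_mem hz
        exact ⟨i.cast hlen, rfl⟩
    rw [hspan]
    set J := Ideal.ofList l
    have hJa : J ≤ a := Ideal.span_le.2 fun z hz => (hla z hz).1
    obtain ⟨Q, hQmin, hQh⟩ : ∃ Q ∈ a.minimalPrimes, Q.height = h := by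
      obtain ⟨Q, hQp, haQ, hQh⟩ := Ideal.exists_isPrime_height_eq hh
      exact ⟨Q, Ideal.mem_minimalPrimes_of_height_le haQ (by rw [hQh, hh]), hQh⟩
    haveI := hQmin.1.1
    have hQJ : Q ∈ J.minimalPrimes := by
      refine ⟨⟨hQmin.1.1, hJa.trans hQmin.1.2⟩, fun Q' hQ' hle => ?_⟩
      by_contra hne
      haveI := hQ'.1
      obtain ⟨P, hP, hPQ'⟩ := Ideal.exists_minimalPrimes_le hQ'.2
      have hlt : P < Q := lt_of_le_of_ne (hPQ'.trans hle) (fun e => hne (e ▸ hPQ'))
      haveI := hP.1.1
      have hPmax : ¬ P.IsMaximal := fun hm => hQmin.1.1.ne_top (hm.1.2 _ hlt)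
      have h1 := hinv P hP hPmax
      have h2 := Ideal.height_strict_mono_of_isPrime hlt
      rw [hQh] at h2
      exact absurd (lt_of_le_of_lt h1 h2) (lt_irrefl _)
    have hJne : J ≠ ⊤ := ne_top_of_le_ne_top ha hJa
    refine le_antisymm ?_ zero_le
    haveI : (Q.map (Ideal.Quotient.mk J)).IsPrime :=
      Ideal.map_isPrime_of_surjective Ideal.Quotient.mk_surjective (by rw [Ideal.mk_ker]; exact hQJ.1.2)
    refine (Ideal.height_mono (Ideal.map_mono (f := Ideal.Quotient.mk J) hQmin.1.2)).trans ?_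
    rw [nonpos_iff_eq_zero, Ideal.height_eq_zero_iff]
    · refine ⟨⟨inferInstance, bot_le⟩, fun P hP hle => ?_⟩
      haveI := hP.1
      have h1 : P.comap (Ideal.Quotient.mk J) ≤ Q := fun z hz => by
        have : Ideal.Quotient.mk J z ∈ Q.map (Ideal.Quotient.mk J) := hle hz
        rw [Ideal.mem_map_iff_of_surjective _ Ideal.Quotient.mk_surjective] at this
        obtain ⟨w, hw, hwz⟩ := this
        have hsub : w - z ∈ Q := hQJ.1.2 ((Ideal.Quotient.eq).1 hwz)
        have h2 := Q.sub_mem hw hsub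
        rwa [sub_sub_cancel] at h2
      have h2 : J ≤ P.comap (Ideal.Quotient.mk J) := fun z hz => by
        rw [Ideal.mem_comap, (Ideal.Quotient.eq_zero_iff_mem.2 hz : Ideal.Quotient.mk J z = 0)]
        exact zero_mem _
      have h3 := hQJ.2 ⟨inferInstance, h2⟩ h1
      exact (Ideal.map_mono h3).trans Ideal.map_comap_le

end Groth.Agent.S5808
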