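import Groth.Statements.S5811
import Groth.Agent.H1Fields.CplDim

set_option autoImplicit false
universe u
open EGA41

namespace Groth.Agent.S5811

/-- Let A be a semi-local Noetherian ring (finitely many maximal ideals) with Jacobson radical r, M a
finitely generated A-module, and write Â and M̂ for the r-adic completions of A and M. Then
dim_Â(M̂) = dim_A(M), the dimension of a module being the Krull dimension of its support. (For M = 0
both sides are ⊥.) -/
theorem result (A : Type u) [CommRing A] [IsNoetherianRing A]
    [Finite (MaximalSpectrum A)] (M : Type u) [AddCommGroup M] [Module A M] [Module.Finite A M] :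
    Module.supportDim (AdicCompletion (Ring.jacobson A) A) (AdicCompletion (Ring.jacobson A) M) =
      Module.supportDim A M := by
  have hr : ∀ p : Ideal A, p.IsMaximal → Ring.jacobson A ≤ p := fun p hp => by
    rw [Ring.jacobson_eq_sInf_isMaximal]
    exact sInf_le hp
  rw [← H1Fields.supportDim_tensor_completion A (Ring.jacobson A) hr M]
  exact (Module.supportDim_eq_of_equiv
    (AdicCompletion.ofTensorProductEquivOfFiniteNoetherian (Ring.jacobson A) M)).symm

end Groth.Agent.S5811
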