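import Groth.Statements.S5864
import Mathlib.AlgebraicGeometry.Morphisms.UniversallyOpen
import Mathlib.AlgebraicGeometry.Morphisms.Preimmersion
import Mathlib.AlgebraicGeometry.ResidueField

set_option autoImplicit false
set_option maxHeartbeats 1000000
universe u
open RadPt

namespace Groth.Agent.S5864

open CategoryTheory AlgebraicGeometry in
open CategoryTheory.Limits in
/-- Let f : X → Y be a morphism of schemes whose induced morphism of reduced schemes is birational (f
maps the maximal points of X bijectively onto those of Y, with one-point fibres and trivial residue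
field extensions over the maximal points of Y), g : Y' → Y a flat morphism and f' : X ×_Y Y' → Y'
the base change (any cartesian square). Then the morphism of reduced schemes induced by f' is
birational in the same sense. -/
theorem result {X Y X' Y' : Scheme.{u}} {f : X ⟶ Y} {g : Y' ⟶ Y} [Flat g] {f' : X' ⟶ Y'} {g' : X' ⟶ X}
    (sq : IsPullback g' f' f g) (hf : RadPt.IsBirational f) : RadPt.IsBirational f' := by
  classical
  have hgen : ∀ {T : Scheme.{u}} (t : T), t ∈ genericPoints T ↔ ∀ w : T, w ⤳ t → w = t := fun {T} t => by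
    refine ⟨fun h w hw => ?_, fun h => ⟨isIrreducible_singleton.closure, fun C hC hle => ?_⟩⟩
    · have h1 : closure ({w} : Set T) ≤ closure {t} := h.2 isIrreducible_singleton.closure (specializes_iff_closure_subset.1 hw)
      exact (specializes_iff_closure_subset.2 h1).antisymm hw |>.symm.eq
    · have hg := hC.isGenericPoint_genericPoint_closure
      have hz : hC.genericPoint = t := h _ (hg.specializes (subset_closure (hle (subset_closure rfl))))
      intro w hw
      exact (hz ▸ hg.def) ▸ subset_closure hw
  haveI : Flat g' := MorphismProperty.of_isPullback (P := @Flat) sq.flip ‹Flat g›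
  have hdown : ∀ {S T : Scheme.{u}} (h : S ⟶ T) [Flat h] (s : S), s ∈ genericPoints S → h s ∈ genericPoints T := by
    intro S T h _ s hs
    rw [hgen] at hs ⊢
    intro w hw
    obtain ⟨s', hs', rfl⟩ := Flat.generalizingMap h hw
    rw [hs _ hs']
  have hsurj : ∀ {S T : Scheme.{u}} (h : S ⟶ T) [IsPreimmersion h] (s : S), Function.Surjective (h.residueFieldMap s) := by
    intro S T h _ s c
    obtain ⟨c', rfl⟩ := S.residue_surjective s c
    obtain ⟨b, rfl⟩ := h.stalkMap_surjective s c'
    exact ⟨T.residue (h s) b, (ConcreteCategory.congr_hom (Scheme.residue_residueFieldMap h s) b)⟩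
  have key : ∀ x ∈ genericPoints X, ∀ y' : Y', g y' = f x →
      ∃ x' : X', (f' x' = y' ∧ g' x' = x ∧ Function.Bijective (f'.residueFieldMap x').hom) ∧
        (∀ x'' : X', f' x'' = y' → x'' = x') ∧
        ((∀ w : Y', w ⤳ y' → w = y') → ∀ w : X', w ⤳ x' → w = x') ∧
        ((∀ w : X', w ⤳ x' → w = x') → ∀ w : Y', w ⤳ y' → g w = f x → w = y') := by
    intro x hx y' hy'
    obtain ⟨hone, hres⟩ := hf.2 (f x) (hf.1.1 hx)
    haveI : IsIso (f.residueFieldMap x) := (ConcreteCategory.isIso_iff_bijective _).2 (hres x rfl)
    have hj := Scheme.Hom.SpecMap_residueFieldMap_fromSpecResidueField f x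
    let j := Y.fromSpecResidueField (f x)
    haveI : IsPreimmersion (pullback.fst g j) := inferInstance
    let k : Spec (Y.residueField (f x)) ⟶ X :=
      inv (Spec.map (f.residueFieldMap x)) ≫ X.fromSpecResidueField x
    have hk : k ≫ f = j := by
      rw [Category.assoc, IsIso.inv_comp_eq]
      exact hj.symm
    have hkx : ∀ s : Spec (Y.residueField (f x)), k s = x := fun s => by
      simp only [k, Scheme.Hom.comp_apply]
      exact Scheme.fromSpecResidueField_apply x _
    let s : pullback g j ⟶ X' := sq.lift (pullback.snd g j ≫ k) (pullback.fst g j)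
      (by rw [Category.assoc, hk, pullback.condition])
    have hsf : s ≫ f' = pullback.fst g j := sq.lift_snd _ _ _
    have hsg : s ≫ g' = pullback.snd g j ≫ k := sq.lift_fst _ _ _
    have hinj : Function.Injective (pullback.fst g j) := (pullback.fst g j).isEmbedding.injective
    have hfac : ∀ x'' : X', g (f' x'') = f x → ∃ z, s z = x'' := by
      intro x'' h
      have hgx : g' x'' = x := hone _ _ (by
        have := congrArg (fun m : X' ⟶ Y => m x'') sq.w
        exact this.trans h) rfl
      subst hgx
      let l : Spec (X'.residueField x'') ⟶ Spec (Y.residueField (f (g' x''))) :=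
        Spec.map (f.residueFieldMap (g' x'') ≫ g'.residueFieldMap x'')
      have hl : l ≫ k = X'.fromSpecResidueField x'' ≫ g' := by
        rw [← Scheme.Hom.SpecMap_residueFieldMap_fromSpecResidueField g' x'']
        simp only [l, k, Spec.map_comp, Category.assoc, IsIso.hom_inv_id_assoc]
      let z : Spec (X'.residueField x'') ⟶ pullback g j :=
        pullback.lift (X'.fromSpecResidueField x'' ≫ f') l (by
          rw [Category.assoc, ← sq.w, ← Category.assoc, ← hl, Category.assoc, hk])
      have hz : z ≫ s = X'.fromSpecResidueField x'' := by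
        apply sq.hom_ext
        · rw [Category.assoc, hsg, pullback.lift_snd_assoc, hl]
        · rw [Category.assoc, hsf, pullback.lift_fst]
      exact ⟨z default, (congrArg (fun m : Spec (X'.residueField x'') ⟶ X' => m default) hz).trans
        (Scheme.fromSpecResidueField_apply _ _)⟩
    have hb : ∀ z, f' (s z) = pullback.fst g j z := fun z =>
      congrArg (fun m : pullback g j ⟶ Y' => m z) hsf
    obtain ⟨z₀, hz₀, -⟩ := Scheme.Pullback.exists_preimage_pullback (f := g) (g := j) y' default
      (hy'.trans (Scheme.fromSpecResidueField_apply _ _).symm)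
    refine ⟨s z₀, ⟨(hb z₀).trans hz₀, ?_, ?_⟩, fun x'' hx'' => ?_, fun h w hw => ?_, fun h w hw hgw => ?_⟩
    · exact (congrArg (fun m : pullback g j ⟶ X => m z₀) hsg).trans (hkx _)
    · refine ⟨(f'.residueFieldMap (s z₀)).hom.injective, fun c => ?_⟩
      have hs : Function.Surjective ((s ≫ f').residueFieldMap z₀) := by
        haveI : IsPreimmersion (s ≫ f') := by rw [hsf]; infer_instance
        exact hsurj _ _
      obtain ⟨b, hb'⟩ := hs (s.residueFieldMap z₀ c)
      rw [Scheme.residueFieldMap_comp] at hb'
      exact ⟨b, (s.residueFieldMap z₀).hom.injective hb'⟩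
    · obtain ⟨z, rfl⟩ := hfac x'' (by rw [hx'', hy'])
      rw [hinj ((hb z).symm.trans (hx''.trans hz₀.symm))]
    · have hw' : f' w = y' := h _ (((hw.map f'.continuous)).trans (((hb z₀).trans hz₀) ▸ specializes_rfl))
      obtain ⟨z, rfl⟩ := hfac w (by rw [hw', hy'])
      rw [hinj ((hb z).symm.trans (hw'.trans hz₀.symm))]
    · obtain ⟨z, rfl, -⟩ := Scheme.Pullback.exists_preimage_pullback (f := g) (g := j) w default
        (hgw.trans (Scheme.fromSpecResidueField_apply _ _).symm)
      subst hz₀
      have h1 : z ⤳ z₀ := (pullback.fst g j).isEmbedding.isInducing.specializes_iff.1 hw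
      rw [← hb, h _ (h1.map s.continuous), hb]
  have hmaps : ∀ y' ∈ genericPoints Y', ∃ x ∈ genericPoints X, g y' = f x := fun y' hy' => by
    obtain ⟨x, hx, hxy⟩ := hf.1.2.2 (hdown g y' hy')
    exact ⟨x, hx, hxy.symm⟩
  refine ⟨⟨fun x' hx' => ?_, fun a ha b hb hab => ?_, fun y' hy' => ?_⟩, fun y' hy' => ?_⟩
  · have hw' : g (f' x') = f (g' x') := (congrArg (fun m : X' ⟶ Y => m x') sq.w).symm
    obtain ⟨p, -, huniq, -, hmin⟩ := key _ (hdown g' x' hx') _ hw'
    obtain rfl := huniq x' rfl
    rw [hgen]
    intro w hw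
    refine hmin ((hgen _).1 hx') w hw ?_
    exact (hgen _).1 (hf.1.1 (hdown g' _ hx')) _ ((hw.map g.continuous).trans (hw' ▸ specializes_rfl))
  · have hw' : g (f' a) = f (g' a) := (congrArg (fun m : X' ⟶ Y => m a) sq.w).symm
    obtain ⟨p, -, huniq, -, -⟩ := key _ (hdown g' a ha) _ hw'
    rw [huniq a rfl, huniq b hab.symm]
  · obtain ⟨x, hx, hxy⟩ := hmaps y' hy'
    obtain ⟨p, ⟨hp, -, -⟩, -, hmax, -⟩ := key x hx y' hxy
    exact ⟨p, (hgen _).2 (hmax ((hgen _).1 hy')), hp⟩
  · obtain ⟨x, hx, hxy⟩ := hmaps y' hy'
    obtain ⟨p, ⟨-, -, hbij⟩, huniq, -, -⟩ := key x hx y' hxy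
    exact ⟨fun a b ha hb => (huniq a ha).trans (huniq b hb).symm, fun a ha => huniq a ha ▸ hbij⟩

end Groth.Agent.S5864
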