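import Groth.Statements.S5866
import Groth.Agent.RadPtLib.Birational

set_option autoImplicit false
attribute [-instance] CategoryTheory.catToReflQuiver
universe u
open RadPt

namespace Groth.Agent.S5866

open CategoryTheory AlgebraicGeometry in
/-- Let f : X → Y be a morphism of schemes which is integral and whose induced morphism of reduced
schemes is birational. Then Y is geometrically unibranch (at every point) if and only if X is
geometrically unibranch and f is radicial (universally injective). -/
theorem result {X Y : Scheme.{u}} (f : X ⟶ Y) [IsIntegralHom f] (hf : RadPt.IsBirational f) :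
    (∀ y : Y, CAlg2.IsGeomUnibranch (Y.presheaf.stalk y)) ↔
      ((∀ x : X, CAlg2.IsGeomUnibranch (X.presheaf.stalk x)) ∧ UniversallyInjective f) := by
  have ht : UniversallyInjective f ↔ Function.Injective f ∧ ∀ x, (f.residueFieldMap x).hom.IsPurelyInseparable :=
    (tfae_universallyInjective f).out 0 2
  constructor
  · intro h
    refine ⟨fun x => ((Groth.Agent.RadPtLib.isGeomUnibranch_iff_radicial f hf (f x)).1 (h (f x))).2 x rfl, ?_⟩
    have hr : ∀ y, RadPt.IsRadicialAt f y := fun y =>
      ((Groth.Agent.RadPtLib.isGeomUnibranch_iff_radicial f hf y).1 (h y)).1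
    exact ht.2
      ⟨fun x x' e => (hr (f x)).1 x x' rfl e.symm, fun x => (hr (f x)).2 x rfl⟩
  · rintro ⟨h1, h2⟩ y
    obtain ⟨h3, h4⟩ := ht.1 h2
    exact (Groth.Agent.RadPtLib.isGeomUnibranch_iff_radicial f hf y).2
      ⟨⟨fun x x' hx hx' => h3 (hx.trans hx'.symm), fun x _ => h4 x⟩, fun x _ => h1 x⟩

end Groth.Agent.S5866
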