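import Groth.Statements.S5873
import Groth.Agent.AssCycles.Basic

set_option autoImplicit false
universe u
open CategoryTheory AlgebraicGeometry
open Cons9

namespace Groth.Agent.S5873

/-- Let S be an integral Noetherian scheme with generic point η, f : X ⟶ S a morphism of finite type and
F a coherent O_X-module; for s in S write F_s for the pullback of F to the scheme-theoretic fibre
X_s. For an associated point x of F_η let Z_x denote the closure in X of the image of x, and (Z_x)_s
its trace on X_s (the preimage under X_s ⟶ X). Then there is an open neighbourhood U of η such that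
for every s in U: (a) the associated points of F_s are exactly the maximal points (those admitting
no proper generization inside the set) of the sets (Z_x)_s, for x running over the associated points
of F_η, so that the associated prime cycles of F_s are the irreducible components of the (Z_x)_s;
(b) for distinct associated points x, x' of F_η the maximal points of (Z_x)_s and of (Z_x')_s are
pairwise distinct; (c) for every associated point x of F_η and every maximal point z of (Z_x)_s, the
point z is a maximal associated point of F_s (no other associated point of F_s generizes it) if and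
only if x is a maximal associated point of F_η. -/
theorem result {X S : Scheme.{u}} [IsIntegral S] [IsNoetherian S]
    (f : X ⟶ S) [LocallyOfFiniteType f] [QuasiCompact f]
    (F : X.Modules) [Coh.IsQCoh F] (hF : CohB1.IsFP F) :
    ∃ U : S.Opens, genericPoint S ∈ U ∧ ∀ s ∈ U,
      (AssSch.Ass ((Scheme.Modules.pullback (f.fiberι s)).obj F) =
          ⋃ x ∈ AssSch.Ass ((Scheme.Modules.pullback (f.fiberι (genericPoint S))).obj F),
            {z : ↥(f.fiber s) | z ∈ ((f.fiberι s).base ⁻¹' closure {(f.fiberι (genericPoint S)).base x}) ∧ ∀ z' ∈ ((f.fiberι s).base ⁻¹' closure {(f.fiberι (genericPoint S)).base x}), z' ⤳ z → z' = z}) ∧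
      (∀ x ∈ AssSch.Ass ((Scheme.Modules.pullback (f.fiberι (genericPoint S))).obj F), ∀ x' ∈ AssSch.Ass ((Scheme.Modules.pullback (f.fiberι (genericPoint S))).obj F), x ≠ x' →
          Disjoint {z : ↥(f.fiber s) | z ∈ ((f.fiberι s).base ⁻¹' closure {(f.fiberι (genericPoint S)).base x}) ∧ ∀ z' ∈ ((f.fiberι s).base ⁻¹' closure {(f.fiberι (genericPoint S)).base x}), z' ⤳ z → z' = z}
            {z : ↥(f.fiber s) | z ∈ ((f.fiberι s).base ⁻¹' closure {(f.fiberι (genericPoint S)).base x'}) ∧ ∀ z' ∈ ((f.fiberι s).base ⁻¹' closure {(f.fiberι (genericPoint S)).base x'}), z' ⤳ z → z' = z}) ∧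
      (∀ x ∈ AssSch.Ass ((Scheme.Modules.pullback (f.fiberι (genericPoint S))).obj F),
        ∀ z ∈ {z : ↥(f.fiber s) | z ∈ ((f.fiberι s).base ⁻¹' closure {(f.fiberι (genericPoint S)).base x}) ∧ ∀ z' ∈ ((f.fiberι s).base ⁻¹' closure {(f.fiberι (genericPoint S)).base x}), z' ⤳ z → z' = z},
          ((∀ y ∈ AssSch.Ass ((Scheme.Modules.pullback (f.fiberι s)).obj F), y ⤳ z → y = z) ↔
            (∀ y ∈ AssSch.Ass ((Scheme.Modules.pullback (f.fiberι (genericPoint S))).obj F), y ⤳ x → y = x))) := by
  haveI : IsLocallyNoetherian X := LocallyOfFiniteType.isLocallyNoetherian f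
  obtain ⟨U, hU, hU'⟩ := Groth.Agent.AssCycles.exists_nhd_cycles f (QCoh.isCoh_iff_isFP.2 hF)
  refine ⟨U, hU, fun s hs => ?_⟩
  let η := genericPoint S
  have key : ∀ (x : ↥(f.fiber η)) (z : ↥(f.fiber s)),
      (z ∈ ((f.fiberι s).base ⁻¹' closure {(f.fiberι η).base x}) ∧
        ∀ z' ∈ ((f.fiberι s).base ⁻¹' closure {(f.fiberι η).base x}), z' ⤳ z → z' = z) ↔
      Groth.Agent.AssCycles.IsMaxPt f (f.fiberι η x) (f.fiberι s z) := fun x z => by
    refine ⟨fun ⟨h1, h2⟩ => ⟨specializes_iff_mem_closure.2 h1, fun v hv hvz hfv => ?_⟩,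
      fun ⟨h1, h2⟩ => ⟨specializes_iff_mem_closure.1 h1, fun z' hz' hzz => ?_⟩⟩
    · rw [FibDim.fiber_apply_fiberι] at hfv
      obtain ⟨z', rfl⟩ : v ∈ Set.range (f.fiberι s) := by rw [Scheme.Hom.range_fiberι]; exact hfv
      rw [h2 z' (specializes_iff_mem_closure.1 hv) ((FibDim.fiberι_specializes_iff f z' z).1 hvz)]
    · exact (f.fiberι s).isEmbedding.injective (h2 _ (specializes_iff_mem_closure.2 hz')
        ((FibDim.fiberι_specializes_iff f z' z).2 hzz)
        ((FibDim.fiber_apply_fiberι f z').trans (FibDim.fiber_apply_fiberι f z).symm))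
  have hfs : ∀ z : ↥(f.fiber s), f (f.fiberι s z) ∈ U := fun z => by rw [FibDim.fiber_apply_fiberι]; exact hs
  have hA : ∀ (t : S) (z : ↥(f.fiber t)), z ∈ AssSch.Ass ((Scheme.Modules.pullback (f.fiberι t)).obj F) ↔
      f.fiberι t z ∈ MoreMor.relAss f F := fun t z => (ConsPropLib.mem_relAss_iff_fibre f F t z).symm
  refine ⟨?_, fun x hx x' hx' hne => Set.disjoint_left.2 fun z hz hz' => ?_, fun x hx z hz => ?_⟩
  · ext z
    rw [hA, (hU' _ (hfs z)).1, Set.mem_iUnion₂]
    constructor
    · rintro ⟨ξ, hξ, hfξ, hmax⟩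
      obtain ⟨x, rfl⟩ : ξ ∈ Set.range (f.fiberι η) := by rw [Scheme.Hom.range_fiberι]; exact hfξ
      exact ⟨x, (hA η x).2 hξ, (key x z).2 hmax⟩
    · rintro ⟨x, hx, hz⟩
      exact ⟨_, (hA η x).1 hx, FibDim.fiber_apply_fiberι f x, (key x z).1 hz⟩
  · exact hne ((f.fiberι η).isEmbedding.injective
      (((hU' _ (hfs z)).2 _ ((hA η x).1 hx) (FibDim.fiber_apply_fiberι f x) ((key x z).1 hz)).1 _
        ((hA η x').1 hx') (FibDim.fiber_apply_fiberι f x') ((key x' z).1 hz'))).symm
  · have h := ((hU' _ (hfs z)).2 _ ((hA η x).1 hx) (FibDim.fiber_apply_fiberι f x) ((key x z).1 hz)).2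
    constructor
    · intro h1 y hy hyx
      refine (f.fiberι η).isEmbedding.injective (h.1 (fun v hv hfv hvz => ?_) _ ((hA η y).1 hy)
        (FibDim.fiber_apply_fiberι f y) ((FibDim.fiberι_specializes_iff f y x).2 hyx))
      rw [FibDim.fiber_apply_fiberι] at hfv
      obtain ⟨y', rfl⟩ : v ∈ Set.range (f.fiberι s) := by rw [Scheme.Hom.range_fiberι]; exact hfv
      rw [h1 y' ((hA s y').2 hv) ((FibDim.fiberι_specializes_iff f y' z).1 hvz)]
    · intro h1 y hy hyz
      refine (f.fiberι s).isEmbedding.injective (h.2 (fun v hv hfv hvx => ?_) _ ((hA s y).1 hy)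
        ((FibDim.fiber_apply_fiberι f y).trans (FibDim.fiber_apply_fiberι f z).symm)
        ((FibDim.fiberι_specializes_iff f y z).2 hyz))
      obtain ⟨y', rfl⟩ : v ∈ Set.range (f.fiberι η) := by rw [Scheme.Hom.range_fiberι]; exact hfv
      rw [h1 y' ((hA η y').2 hv) ((FibDim.fiberι_specializes_iff f y' x).1 hvx)]

end Groth.Agent.S5873
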