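import Groth.Statements.S5874
import Groth.Agent.ConsPropLib.FibreAss

set_option autoImplicit false
universe u
open CategoryTheory AlgebraicGeometry
open Cons9

namespace Groth.Agent.S5874

/-- Let f : X ⟶ S be a morphism of finite presentation (locally of finite presentation, quasi-compact
and quasi-separated) and F a quasi-coherent O_X-module of finite presentation; for s in S let F_s be
the pullback of F to the scheme-theoretic fibre X_s and E(s) the finite set of dimensions of the
associated prime cycles of F_s (closures in X_s of the associated points of F_s). Then s ↦ E(s) is a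
locally constructible function on S: for every finite set Φ of natural numbers, the set of s with
E(s) = Φ is locally constructible. -/
theorem result {X S : Scheme.{u}} (f : X ⟶ S)
    [LocallyOfFinitePresentation f] [QuasiCompact f] [QuasiSeparated f]
    (F : X.Modules) [Coh.IsQCoh F] (hF : CohB1.IsFP F) (Φ : Finset ℕ) :
    Topology.IsLocallyConstructible {s : S |
      (fun z : ↥(f.fiber s) => topologicalKrullDim ↥(closure ({z} : Set ↥(f.fiber s)))) ''
          AssSch.Ass ((Scheme.Modules.pullback (f.fiberι s)).obj F) =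
        (fun n : ℕ => (n : WithBot ℕ∞)) '' (Φ : Set ℕ)} := by
  classical
  have hL : ∀ Ψ : Finset ℕ, Topology.IsLocallyConstructible {s : S |
      ∀ z ∈ AssSch.Ass ((Scheme.Modules.pullback (f.fiberι s)).obj F),
        topologicalKrullDim ↥(closure ({z} : Set ↥(f.fiber s))) ∈ (fun n : ℕ => (n : WithBot ℕ∞)) '' (Ψ : Set ℕ)} :=
    fun Ψ => Groth.Agent.ConsPropLib.isLocallyConstructible_locusMod
      (Groth.Agent.ConsPropLib.isConsMod_assDims Ψ) f ‹Coh.IsQCoh F› hF
  convert (hL Φ).inter (Topology.IsLocallyConstructible.iInter fun n : Φ =>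
    Groth.Agent.ConsPropLib.lc_compl' (hL (Φ.erase n))) using 1
  ext s
  simp only [Set.mem_inter_iff, Set.mem_iInter, Set.mem_compl_iff, Set.mem_ofPred_eq, Subtype.forall]
  constructor
  · intro h
    refine ⟨fun z hz => h.le ⟨z, hz, rfl⟩, fun n hn hall => ?_⟩
    obtain ⟨z, hz, hzn⟩ := h.ge ⟨n, Finset.mem_coe.2 hn, rfl⟩
    obtain ⟨m, hm, hmz⟩ := hall z hz
    have hmn : m = n := by
      have he : ((m : ℕ∞) : WithBot ℕ∞) = ((n : ℕ∞) : WithBot ℕ∞) := hmz.trans hzn
      exact_mod_cast he
    exact (Finset.ne_of_mem_erase (Finset.mem_coe.1 hm)) hmn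
  · rintro ⟨h1, h2⟩
    refine Set.Subset.antisymm (by rintro _ ⟨z, hz, rfl⟩; exact h1 z hz) ?_
    rintro _ ⟨n, hn, rfl⟩
    by_contra hno
    refine h2 n (Finset.mem_coe.1 hn) fun z hz => ?_
    obtain ⟨m, hm, hmz⟩ := h1 z hz
    refine ⟨m, Finset.mem_coe.2 (Finset.mem_erase.2 ⟨?_, Finset.mem_coe.1 hm⟩), hmz⟩
    rintro rfl
    exact hno ⟨z, hz, hmz.symm⟩

end Groth.Agent.S5874
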