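import Groth.Statements.S5911
import Groth.Agent.H1FlatA.Crit

set_option autoImplicit false
universe u
open TensorProduct
open EGA43

namespace Groth.Agent.S5911

/-- Let A be a Noetherian ring, J an ideal of A and M an A-module which is ideally separated for the
J-adic topology (for every ideal a of A the module a ⊗_A M is J-adically separated). Let (p_i) be a
finite family of prime ideals of A containing J, let J_n be the intersection of the symbolic powers
p_i^{(n)} (preimages in A of the n-th powers of the maximal ideals of the local rings A_{p_i}), and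
assume every power J^n contains some J_m. Then M is flat if and only if (A/J) ⊗_A M is flat over A/J
and M_{p_i} is flat over A_{p_i} for every i. -/
theorem result {A : Type u} [CommRing A] [IsNoetherianRing A]
    (J : Ideal A) (M : Type u) [AddCommGroup M] [Module A M]
    (hsep : ∀ a : Ideal A, IsHausdorff J (↥a ⊗[A] M))
    {r : ℕ} (p : Fin r → Ideal A) [∀ i, (p i).IsPrime] (hp : ∀ i, J ≤ p i)
    (htop : ∀ n : ℕ, ∃ m : ℕ,
      ⨅ i, Ideal.comap (algebraMap A (Localization.AtPrime (p i))) (IsLocalRing.maximalIdeal (Localization.AtPrime (p i)) ^ m) ≤ J ^ n) :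
    Module.Flat A M ↔
      Module.Flat (A ⧸ J) ((A ⧸ J) ⊗[A] M) ∧
        ∀ i, Module.Flat (Localization.AtPrime (p i)) (LocalizedModule (p i).primeCompl M) := by
  refine ⟨fun h => ⟨inferInstance, fun i => H1FlatA.flat_localized (p i)⟩, fun ⟨h0, hloc⟩ => ?_⟩
  refine H1FlatA.flat_of_chains p (LocalCrit.keepsInjective_of_flat J M) hloc hsep fun n => ?_
  obtain ⟨m, hm⟩ := htop n
  let Jm : Ideal A := ⨅ i, Ideal.comap (algebraMap A (Localization.AtPrime (p i)))
    (IsLocalRing.maximalIdeal (Localization.AtPrime (p i)) ^ m)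
  have hJm : J ^ m ≤ Jm := le_iInf fun i => by
    refine Ideal.map_le_iff_le_comap.1 ?_
    rw [Ideal.map_pow, ← Localization.AtPrime.map_eq_maximalIdeal]
    exact Ideal.pow_right_mono (Ideal.map_mono (hp i)) m
  refine ⟨m, fun j => Submodule.colon Jm (↑(J ^ (m - j) : Ideal A) : Set A), ?_, ?_, fun j hj => ⟨?_, ?_⟩⟩
  · refine eq_top_iff.2 fun a _ => Submodule.mem_colon.2 fun b hb => ?_
    rw [smul_eq_mul]
    exact Jm.mul_mem_left a (hJm (by simpa using hb))
  · intro a ha
    refine hm ?_
    have := Submodule.mem_colon.1 ha 1 (by simp)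
    rwa [smul_eq_mul, mul_one] at this
  · refine Ideal.mul_le.2 fun r hr a ha => Submodule.mem_colon.2 fun b hb => ?_
    rw [smul_eq_mul, mul_comm r a, mul_assoc, ← smul_eq_mul]
    refine Submodule.mem_colon.1 ha _ ?_
    rw [show m - j = (m - (j + 1)) + 1 by omega, pow_succ']
    exact Ideal.mul_mem_mul hr hb
  · intro s hs a ha hsa
    refine Submodule.mem_colon.2 fun b hb => ?_
    have h := Submodule.mem_colon.1 hsa b hb
    rw [smul_eq_mul, mul_assoc] at h
    rw [smul_eq_mul]
    simp only [Jm, Ideal.mem_iInf, Ideal.mem_comap, map_mul] at h ⊢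
    exact fun i => (Ideal.unit_mul_mem_iff_mem _
      (IsLocalization.map_units (Localization.AtPrime (p i)) (M := (p i).primeCompl) ⟨s, hs i⟩)).1 (h i)

end Groth.Agent.S5911
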