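import Groth.Statements.S5912
import Groth.Agent.H1FlatA.Crit
import Mathlib.RingTheory.Ideal.AssociatedPrime.Finiteness

set_option autoImplicit false
universe u
open TensorProduct
open EGA43

namespace Groth.Agent.S5912

/-- Let A be a Noetherian ring, J an ideal of A and M an A-module which is ideally separated for the
J-adic topology (for every ideal a of A the module a ⊗_A M is J-adically separated), and suppose
every quotient J^k/J^{k+1} is a flat (A/J)-module (the associated graded ring of A along J is flat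
over A/J). Then M is flat if and only if (A/J) ⊗_A M is flat over A/J and M_p is flat over A_p for
every associated prime p of the A-module A/J. -/
theorem result {A : Type u} [CommRing A] [IsNoetherianRing A]
    (J : Ideal A) (M : Type u) [AddCommGroup M] [Module A M]
    (hsep : ∀ a : Ideal A, IsHausdorff J (↥a ⊗[A] M))
    (hgr : ∀ k : ℕ, Module.Flat (A ⧸ J) ((A ⧸ J) ⊗[A] ↥(J ^ k))) :
    Module.Flat A M ↔
      Module.Flat (A ⧸ J) ((A ⧸ J) ⊗[A] M) ∧
        ∀ q : associatedPrimes A (A ⧸ J),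
          haveI : q.1.IsPrime := IsAssociatedPrime.isPrime q.2
          Module.Flat (Localization.AtPrime q.1) (LocalizedModule q.1.primeCompl M) := by
  haveI hass : ∀ q : associatedPrimes A (A ⧸ J), q.1.IsPrime := fun q => IsAssociatedPrime.isPrime q.2
  haveI : Finite (associatedPrimes A (A ⧸ J)) := (associatedPrimes.finite A (A ⧸ J)).to_subtype
  refine ⟨fun h => ⟨inferInstance, fun q => H1FlatA.flat_localized q.1⟩, fun ⟨h0, hloc⟩ => ?_⟩
  refine H1FlatA.flat_of_chains (fun q : associatedPrimes A (A ⧸ J) => q.1) (LocalCrit.keepsInjective_of_flat J M)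
    hloc hsep fun n => ⟨n, fun j => J ^ j, by simp, le_rfl, fun j _ => ⟨(pow_succ' J j).ge, ?_⟩⟩
  intro s hs a ha hsa
  have hs' : IsSMulRegular (A ⧸ J) (Ideal.Quotient.mk J s) := by
    refine isSMulRegular_iff_right_eq_zero_of_smul.2 fun c hc => ?_
    by_contra hc0
    have : s ∈ {r : A | ∃ x : A ⧸ J, x ≠ 0 ∧ r • x = 0} := ⟨c, hc0, hc⟩
    rw [← biUnion_associatedPrimes_eq_zero_divisors] at this
    obtain ⟨q, hq, hsq⟩ := Set.mem_iUnion₂.1 this
    exact hs ⟨q, hq⟩ hsq
  haveI := hgr j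
  have hreg : IsSMulRegular ((A ⧸ J) ⊗[A] ↥(J ^ j)) (Ideal.Quotient.mk J s) := by
    have h := Module.Flat.lTensor_preserves_injective_linearMap (M := (A ⧸ J) ⊗[A] ↥(J ^ j))
      (LinearMap.lsmul (A ⧸ J) (A ⧸ J) (Ideal.Quotient.mk J s)) hs'
    intro x y hxy
    apply (TensorProduct.rid (A ⧸ J) ((A ⧸ J) ⊗[A] ↥(J ^ j))).symm.injective
    apply h
    simp only [TensorProduct.rid_symm_apply, LinearMap.lTensor_tmul, LinearMap.lsmul_apply, smul_eq_mul, mul_one]
    have := congrArg (fun z => z ⊗ₜ[A ⧸ J] (1 : A ⧸ J)) hxy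
    simp only [smul_tmul, smul_eq_mul, mul_one] at this
    exact this
  have h1 : (1 : A ⧸ J) ⊗ₜ[A] (⟨a, ha⟩ : ↥(J ^ j)) = 0 := by
    apply hreg
    show Ideal.Quotient.mk J s • ((1 : A ⧸ J) ⊗ₜ[A] (⟨a, ha⟩ : ↥(J ^ j))) = Ideal.Quotient.mk J s • 0
    rw [smul_zero, ← Ideal.Quotient.algebraMap_eq, algebraMap_smul, ← TensorProduct.tmul_smul]
    apply (TensorProduct.quotTensorEquivQuotSMul ↥(J ^ j) J).injective
    rw [map_zero, ← map_one (Ideal.Quotient.mk J), TensorProduct.quotTensorEquivQuotSMul_mk_tmul, one_smul,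
      Submodule.Quotient.mk_eq_zero, Submodule.mem_smul_top_iff, smul_eq_mul, ← pow_succ']
    exact hsa
  have h2 := congrArg (TensorProduct.quotTensorEquivQuotSMul ↥(J ^ j) J) h1
  rw [map_zero, ← map_one (Ideal.Quotient.mk J), TensorProduct.quotTensorEquivQuotSMul_mk_tmul, one_smul,
    Submodule.Quotient.mk_eq_zero, Submodule.mem_smul_top_iff, smul_eq_mul, ← pow_succ'] at h2
  exact h2

end Groth.Agent.S5912
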