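import Groth.Statements.S5919
import Groth.Agent.H1AssDim.Equidim
set_option backward.isDefEq.respectTransparency false
set_option backward.isDefEq.respectTransparency.types false

set_option autoImplicit false
open CategoryTheory AlgebraicGeometry
universe u
open EGA43

namespace Groth.Agent.S5919

/-- For k ≥ 1: let f : X ⟶ Y be a proper morphism of finite presentation and F a finitely presented
O_X-module which is f-flat; for y in Y write F_y for the restriction of F to the fibre X_y. Let k ≥
1 be a natural number. Then the set of points y of Y such that, at every point x of X_y, the stalk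
of F_y at x is an equidimensional module over the local ring of X_y at x (every minimal prime of its
support has quotient of dimension equal to the dimension of the module) and satisfies Serre's
condition (S_k) over it, is open in Y. (The published statement allows every integer k. For k ≤ 0
condition (S_k) is empty and the set is the locus of fibres whose module is equidimensional at every
point, which need not be open: over a discrete valuation ring take the flat projective family whose
general fibre is a plane together with a line meeting it in one point and whose special fibre is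
supported on that plane, with an embedded component through the point; every stalk of the special
fibre then has irreducible support, so the closed point of the base is in the set, while the generic
point is not. So k ≥ 1 is assumed here.) -/
theorem result {X Y : Scheme.{u}} (f : X ⟶ Y) [IsProper f]
    [LocallyOfFinitePresentation f] (F : X.Modules) (hF : CohB1.IsFP F) (hflat : FlatMod.IsFlatOver f F)
    (k : ℕ) (hk : 1 ≤ k) :
    IsOpen {y : Y | ∀ x : ↥(f.fiber y),
      EGA4.IsEquidimModule ((f.fiber y).presheaf.stalk x) (((Scheme.Modules.pullback (f.fiberι y)).obj F).presheaf.stalk x) ∧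
        LocCoh.HasSk k ((f.fiber y).presheaf.stalk x) (((Scheme.Modules.pullback (f.fiberι y)).obj F).presheaf.stalk x)} := by
  have hgen : ∀ (Q : X → Prop) (s : Y) (w : ↥(f.fiber s)),
      (∀ z, z ⤳ w → Q (f.fiberι s z)) ↔ Groth.Agent.H1AssDim.XGen f Q (f.fiberι s w) := by
    intro Q s w
    constructor
    · intro h t ht he
      obtain ⟨z, rfl⟩ := Groth.Agent.H1AssDim.exists_fibre_point f s t (he.trans (Groth.Agent.FibDim.fiber_apply_fiberι f w))
      exact h z ((Groth.Agent.FibDim.fiberι_specializes_iff f _ _).1 ht)
    · exact fun h z hz => h _ ((Groth.Agent.FibDim.fiberι_specializes_iff f _ _).2 hz)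
        ((Groth.Agent.FibDim.fiber_apply_fiberι f z).trans (Groth.Agent.FibDim.fiber_apply_fiberι f w).symm)
  have key : ∀ (s : Y) (w : ↥(f.fiber s)) (x : X), f.fiberι s w = x →
      ((EGA4.IsEquidimModule ((f.fiber s).presheaf.stalk w) (((Scheme.Modules.pullback (f.fiberι s)).obj F).presheaf.stalk w) ∧
        LocCoh.HasSk k ((f.fiber s).presheaf.stalk w) (((Scheme.Modules.pullback (f.fiberι s)).obj F).presheaf.stalk w)) ↔
      (Groth.Agent.H1AssDim.XGen f (fun t => Groth.Agent.H1AssDim.XMin f F t → Groth.Agent.H1AssDim.XGen f
          (fun t' => Groth.Agent.H1AssDim.XMin f F t' → Groth.Agent.FibDim.rd f t = Groth.Agent.FibDim.rd f t') x) x ∧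
        Groth.Agent.H1AssDim.XGen f (Groth.Agent.H1AssDim.XSk f F k) x)) := by
    rintro s w _ rfl
    rw [Groth.Agent.H1AssDim.hasSk_fibre_iff f F hF, Groth.Agent.H1AssDim.isEquidimModule_fibre_iff f F hF]
    refine and_congr ?_ (hgen _ s w)
    refine Iff.trans ⟨fun h z hz hm => (hgen _ s w).1 fun z' hz' hm' => h z z' hz hz' hm hm',
      fun h z z' hz hz' hm hm' => (hgen (fun t' => Groth.Agent.H1AssDim.XMin f F t' →
          Groth.Agent.FibDim.rd f (f.fiberι s z) = Groth.Agent.FibDim.rd f t') s w).2 (h z hz hm) z' hz' hm'⟩ (hgen _ s w)
  convert (f.isClosedMap _ (Groth.Agent.H1AssDim.isOpen_equidim_sk f F hF hflat hk).isClosed_compl).isOpen_compl using 1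
  ext y
  refine ⟨fun h => ?_, fun h w => ?_⟩
  · rintro ⟨x, hx, rfl⟩
    exact hx (h (f.asFiber x))
  · by_contra hw
    refine h ⟨f.fiberι y w, fun hmem => hw ?_, Groth.Agent.FibDim.fiber_apply_fiberι f w⟩
    exact (key y w _ rfl).2 ((key _ _ _ (f.fiberι_asFiber (f.fiberι y w))).1 hmem)

end Groth.Agent.S5919
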