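import Groth.Statements.S5947
import Groth.Agent.Synt29.OmegaAffine
import Mathlib

set_option backward.isDefEq.respectTransparency false
set_option backward.isDefEq.respectTransparency.types false
set_option linter.style.haveILetI false

set_option autoImplicit false
universe u
open CategoryTheory AlgebraicGeometry TopologicalSpace
open Nrm16

namespace Groth.Agent.S5947

/-- Let A be a commutative ring, B an A-algebra and L a B-module; put S = Spec A, X = Spec B and let F
be the O_X-module associated with L. For an S-derivation D of O_X into F write Γ(D) : B → L for its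
effect on global sections (global sections of O_X and of F being identified with B and L by the
canonical isomorphisms). Then D ↦ Γ(D) is a bijection from the set of S-derivations of O_X into F
onto the set of A-derivations of B into L: every Γ(D) is an A-derivation, and every A-derivation of
B into L is Γ(D) for exactly one D. (The published statement asserts an isomorphism of B-modules; no
module structure is placed on sheaf derivations here, so this row states the bijection.) -/
theorem result (A B : Type u) [CommRing A] [CommRing B] [Algebra A B]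
    (L : Type u) [AddCommGroup L] [Module B L] [Module A L] [IsScalarTower A B L] :
    (∀ D : OmegaSh.Der (Spec.map (CommRingCat.ofHom (algebraMap A B))) (tilde (ModuleCat.of (CommRingCat.of B) L)),
      ∃ δ : Derivation A B L, ∀ t : B, D.app ⊤ ((Scheme.ΓSpecIso (CommRingCat.of B)).inv t) =
        (tilde.isoTop (ModuleCat.of (CommRingCat.of B) L)).hom (δ t)) ∧
    ∀ δ : Derivation A B L,
      ∃! D : OmegaSh.Der (Spec.map (CommRingCat.ofHom (algebraMap A B))) (tilde (ModuleCat.of (CommRingCat.of B) L)),
        ∀ t : B, D.app ⊤ ((Scheme.ΓSpecIso (CommRingCat.of B)).inv t) =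
          (tilde.isoTop (ModuleCat.of (CommRingCat.of B) L)).hom (δ t) := by
  let M := ModuleCat.of (CommRingCat.of B) L
  let j : L → Γ(tilde M, (⊤ : (Spec (CommRingCat.of B)).Opens)) := fun x => (tilde.isoTop M).hom x
  have hjb : Function.Bijective j := ConcreteCategory.bijective_of_isIso (tilde.isoTop M).hom
  have hjadd : ∀ x y, j (x + y) = j x + j y := fun x y => map_add (tilde.isoTop M).hom.hom x y
  have hj0 : j 0 = 0 := map_zero (tilde.isoTop M).hom.hom
  have hjs : ∀ (b : B) (x : L), j (b • x) = OmAff.toΓ B b • j x := by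
    intro b x
    refine ((tilde.isoTop M).hom.hom.map_smul b x).trans ?_
    exact congrArg (fun c : Γ(Spec (CommRingCat.of B), ⊤) => c • j x) (OmegaLib.toΓ_res B b)
  constructor
  · intro D
    choose δ₀ hδ₀ using fun b : B => hjb.2 (D.app ⊤ (OmAff.toΓ B b))
    have hA : ∀ a : A, D.app ⊤ (OmAff.toΓ B (algebraMap A B a)) = 0 := fun a => by
      rw [← OmAff.appTop_toΓ]
      exact Synt29.OmegaStalk.app_base _ D ⊤ (OmAff.toΓ A a)
    refine ⟨
      { toFun := δ₀
        map_add' := fun b b' => hjb.1 (by rw [hjadd, hδ₀, hδ₀, hδ₀, map_add, map_add])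
        map_smul' := fun a b => hjb.1 (by
          rw [RingHom.id_apply, ← algebraMap_smul B a (δ₀ b), hjs, hδ₀, hδ₀, Algebra.smul_def, map_mul,
            Synt29.OmegaStalk.app_mul, hA, smul_zero, add_zero])
        map_one_eq_zero' := hjb.1 (by
          show j (δ₀ 1) = j 0
          rw [hδ₀, hj0, ← (algebraMap A B).map_one, hA])
        leibniz' := fun b b' => hjb.1 (by
          show j (δ₀ (b * b')) = j (b • δ₀ b' + b' • δ₀ b)
          rw [hδ₀, hjadd, hjs, hjs, hδ₀, hδ₀, map_mul, Synt29.OmegaStalk.app_mul]) }, fun t => (hδ₀ t).symm⟩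
  · intro δ
    obtain ⟨e, he⟩ := OmegaLib.exists_iso_kTilde A B
    let lin : ModuleCat.of (CommRingCat.of B) (Ω[B⁄A]) ⟶ M := ModuleCat.ofHom δ.liftKaehlerDifferential
    let β : OmegaLib.kTilde A B ⟶ tilde M := (tilde.functor (CommRingCat.of B)).map lin
    have hβ : ∀ z, β.app ⊤ (OmegaLib.toTop A B z) = j (δ.liftKaehlerDifferential z) := fun z =>
      congr($(tilde.toOpen_map_app lin ⊤) z)
    let D0 : OmegaSh.Der (Spec.map (CommRingCat.ofHom (algebraMap A B))) (tilde M) :=
      (OmegaSh.dOmega (OmegaLib.sMap A B)).postcomp (e.hom ≫ β).val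
    have hD : ∀ t : B, D0.app ⊤ (OmAff.toΓ B t) = j (δ t) := by
      intro t
      show β.app ⊤ (e.hom.app ⊤ (OmegaSh.dSect (OmegaLib.sMap A B) ⊤ (OmAff.toΓ B t))) = _
      rw [he, hβ]
      exact congrArg j (δ.liftKaehlerDifferential_comp_D t)
    refine ⟨D0, hD, fun D' hD' => ?_⟩
    refine Synt29.OmegaStalk.der_ext_top fun s => ?_
    obtain ⟨b, rfl⟩ := Synt29.OmegaStalk.toΓ_surjective B s
    exact (hD' b).trans (hD b).symm

end Groth.Agent.S5947
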