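import Groth.Statements.S5948
import Groth.Agent.ConsPropLib.FibreFlatQuot

set_option autoImplicit false
universe u
open CategoryTheory CategoryTheory.Limits AlgebraicGeometry TopologicalSpace Topology
open Unram17

namespace Groth.Agent.S5948

/-- Let g : X ⟶ S and h : Y ⟶ S be locally of finite presentation, f : X ⟶ Y a morphism with f ≫ h = g,
and F a quasi-coherent O_X-module of finite presentation. For x in X with s = g(x), the fibres X_s ⟶
Y_s ⟶ Spec κ(s) of f over s are given by pullback squares, F_s is the pullback of F to X_s, and x is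
identified with the unique point of X_s over it. Then the set E of points x such that F_s is flat
over Y_s at x (the stalk of F_s at x is a flat module over the local ring of Y_s at f_s(x)) is
locally constructible in X. -/
theorem result {X Y S : Scheme.{u}} (g : X ⟶ S) (h : Y ⟶ S)
    [LocallyOfFinitePresentation g] [LocallyOfFinitePresentation h] (f : X ⟶ Y) (w : f ≫ h = g)
    (F : X.Modules) [Coh.IsQCoh F] (hF : CohB1.IsFP F) :
    IsLocallyConstructible {x : ↥X | ∀ (Xs Ys : Scheme.{u}) (ιX : Xs ⟶ X) (ιY : Ys ⟶ Y) (fs : Xs ⟶ Ys)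
      (pY : Ys ⟶ Spec (S.residueField (g.base x))),
      IsPullback ιY pY h (S.fromSpecResidueField (g.base x)) → IsPullback ιX fs f ιY →
        ∀ x' : ↥Xs, ιX.base x' = x → FlatMod.IsFlatOverAt fs ((Scheme.Modules.pullback ιX).obj F) x'} := by
  subst w
  haveI := ‹LocallyOfFinitePresentation (f ≫ h)›
  convert Groth.Agent.ConsPropLib.isLocallyConstructible_fibreFlat f h F hF using 1
  refine Set.ext fun x => ⟨fun hx s z hz => ?_, fun hx Xs Ys ιX ιY fs pY sqY sqX x' hx' => ?_⟩
  · have hs : (f ≫ h).base x = s := by
      have : x ∈ Set.range ((f ≫ h).fiberι s) := ⟨z, hz⟩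
      rw [Scheme.Hom.range_fiberι] at this
      exact this
    subst hs
    exact hx _ _ _ (h.fiberι _) _ (h.fiberToSpecResidueField _) (IsPullback.of_hasPullback _ _)
      (Groth.Agent.ConsPropLib.isPullback_fiberMap f h _) z hz
  · subst hx'
    exact (Groth.Agent.ConsPropLib.flat_of_fibreFlatAt f h ‹Coh.IsQCoh F› sqY sqX x').1 hx

end Groth.Agent.S5948
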