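import Groth.Statements.S5950
import Groth.Agent.NormUniq.Birational

set_option autoImplicit false
universe u
open CategoryTheory AlgebraicGeometry
open Unram17

namespace Groth.Agent.S5950

/-- Let X be an integral scheme which has a nonempty (hence dense) open subset at whose points the local
rings are integrally closed, let X' ⟶ X be its normalization, and let f : Y ⟶ X be a morphism of
schemes. Then there is an isomorphism Y ≅ X' over X if and only if: every local ring of Y is an
integrally closed domain, f is an integral morphism, and there is a dense open subset U of X whose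
preimage is dense in Y and such that the restriction f⁻¹(U) ⟶ U of f is an isomorphism. (The
published statement allows X reduced with locally finitely many irreducible components and a dense
normal open subset; this row states the case of an integral X. The quasi-compactness and
quasi-separatedness binders on the generic point always hold and only serve to form the
normalization.) -/
theorem result (X : Scheme.{u}) [IsIntegral X]
    [QuasiCompact (X.fromSpecStalk (genericPoint X))] [QuasiSeparated (X.fromSpecStalk (genericPoint X))]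
    (hV : ∃ V : X.Opens, (V : Set ↥X).Nonempty ∧ ∀ x ∈ V, IsIntegrallyClosed (X.presheaf.stalk x))
    {Y : Scheme.{u}} (f : Y ⟶ X) :
    (∃ e : Y ≅ Curv2.normalization X, e.hom ≫ Curv2.normalizationι X = f) ↔
      Pi1.IsNormalScheme Y ∧ IsIntegralHom f ∧
        ∃ U : X.Opens, Dense (U : Set ↥X) ∧ Dense ((f ⁻¹ᵁ U : Y.Opens) : Set ↥Y) ∧ IsIso (f ∣_ U) := by
  constructor
  · rintro ⟨e, he⟩
    obtain ⟨hY, hf, hirr, hpre, hiso⟩ := Groth.Agent.NormUniq.overIso_birational X f e he
    obtain ⟨V, hVne, hV⟩ := hV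
    haveI := hf
    haveI := Groth.Agent.NormUniq.isIntegral_of_normal hY hirr
    have hgen : f (genericPoint Y) = genericPoint X := hpre.ge rfl
    have hgV : genericPoint X ∈ V :=
      (genericPoint_specializes hVne.some).mem_open V.2 hVne.some_mem
    have hgW : genericPoint Y ∈ f ⁻¹ᵁ V := show f (genericPoint Y) ∈ V from hgen ▸ hgV
    refine ⟨hY, hf, V, V.2.dense hVne, (f ⁻¹ᵁ V).2.dense ⟨_, hgW⟩, ?_⟩
    haveI : Nonempty V.toScheme := ⟨⟨_, hgV⟩⟩
    haveI : Nonempty (f ⁻¹ᵁ V).toScheme := ⟨⟨_, hgW⟩⟩
    haveI : IsIntegral V.toScheme := isIntegral_of_isOpenImmersion V.ι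
    haveI : IsIntegral (f ⁻¹ᵁ V).toScheme := isIntegral_of_isOpenImmersion (f ⁻¹ᵁ V).ι
    have hgr : (f ∣_ V) (genericPoint (f ⁻¹ᵁ V).toScheme) = genericPoint V.toScheme := by
      apply V.ι.isOpenEmbedding.injective
      show ((f ∣_ V) ≫ V.ι) _ = _
      rw [morphismRestrict_ι, Scheme.Hom.comp_apply, genericPoint_eq_of_isOpenImmersion (f ⁻¹ᵁ V).ι,
        genericPoint_eq_of_isOpenImmersion V.ι, hgen]
    haveI := BirNormal.isIso_stalkSpecializes_of_eq hgr (specializes_of_eq hgr)
    haveI : IsIso ((f ∣_ V).stalkMap (genericPoint (f ⁻¹ᵁ V).toScheme)) := by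
      have h1 : IsIso (f.stalkMap ((f ⁻¹ᵁ V).ι (genericPoint (f ⁻¹ᵁ V).toScheme))) := by
        rw [genericPoint_eq_of_isOpenImmersion (f ⁻¹ᵁ V).ι]; exact hiso
      exact ((MorphismProperty.isomorphisms CommRingCat).arrow_mk_iso_iff
        (morphismRestrictStalkMap f V _)).2 h1
    refine BirNormal.isIso_of_isIntegralHom (f ∣_ V)
      (fun U hne hU => (S9821.result V.toScheme).1 (fun v => ?_) U hU) hgr
      ((ConcreteCategory.isIso_iff_bijective _).1 inferInstance)
    refine ⟨inferInstance, ?_⟩
    haveI : IsIntegrallyClosed (X.presheaf.stalk (V.ι v)) := hV v.1 v.2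
    exact IsIntegrallyClosed.of_equiv ((asIso (V.ι.stalkMap v)).commRingCatIsoToRingEquiv :
      X.presheaf.stalk (V.ι v) ≃+* V.toScheme.presheaf.stalk v)
  · rintro ⟨hY, hf, U, hU, hUY, hiso⟩
    haveI := hf
    haveI := hiso
    have hgU : genericPoint X ∈ U :=
      (genericPoint_specializes hU.nonempty.some).mem_open U.2 hU.nonempty.some_mem
    haveI : Nonempty U.toScheme := ⟨⟨_, hgU⟩⟩
    haveI : IsIntegral U.toScheme := isIntegral_of_isOpenImmersion U.ι
    haveI : Nonempty (f ⁻¹ᵁ U).toScheme := ⟨inv (f ∣_ U) ⟨_, hgU⟩⟩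
    haveI : IsIntegral (f ⁻¹ᵁ U).toScheme := isIntegral_of_isOpenImmersion (f ∣_ U)
    have hirr : IrreducibleSpace ↥Y := by
      rw [irreducibleSpace_def]
      show IsIrreducible (Set.univ : Set ↥Y)
      rw [← hUY.closure_eq]
      refine IsIrreducible.closure ?_
      rw [← (f ⁻¹ᵁ U).range_ι, ← Set.image_univ]
      show IsIrreducible _
      exact (IrreducibleSpace.isIrreducible_univ _).image _ (f ⁻¹ᵁ U).ι.continuous.continuousOn
    haveI := Groth.Agent.NormUniq.isIntegral_of_normal hY hirr
    have hgen : f (genericPoint Y) = genericPoint X := by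
      rw [← genericPoint_eq_of_isOpenImmersion (f ⁻¹ᵁ U).ι, ← Scheme.Hom.comp_apply, ← morphismRestrict_ι,
        Scheme.Hom.comp_apply, genericPoint_eq_of_isOpenImmersion (f ∣_ U), genericPoint_eq_of_isOpenImmersion U.ι]
    refine Groth.Agent.NormUniq.exists_overIso_of_birational X f hY hgen ?_
    have h1 : IsIso ((f ∣_ U).stalkMap (genericPoint (f ⁻¹ᵁ U).toScheme)) := inferInstance
    have h2 := ((MorphismProperty.isomorphisms CommRingCat).arrow_mk_iso_iff
      (morphismRestrictStalkMap f U _)).1 h1
    have h3 : IsIso (f.stalkMap ((f ⁻¹ᵁ U).ι (genericPoint (f ⁻¹ᵁ U).toScheme))) := h2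
    rw [genericPoint_eq_of_isOpenImmersion (f ⁻¹ᵁ U).ι] at h3
    exact h3

end Groth.Agent.S5950
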