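import Groth.Statements.S5954
import Groth.Agent.H1PP.PSect
import Groth.Agent.H1PP.GrMap
import Groth.Agent.PPLib.BaseChange

set_option backward.isDefEq.respectTransparency false
set_option backward.isDefEq.respectTransparency.types false
set_option linter.style.haveILetI false
set_option maxHeartbeats 1000000

set_option autoImplicit false
universe u
open CategoryTheory CategoryTheory.Limits AlgebraicGeometry TopologicalSpace Opposite
open Nrm16

namespace Groth.Agent.S5954

/-- Let f : X ⟶ S and g : S' ⟶ S be morphisms and X' a fibre product of X and S' over S with projections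
u : X' ⟶ X and f' : X' ⟶ S'. For every n let φ : u^* P^n_{X/S} ⟶ P^n_{X'/S'} be the canonical
O_{X'}-linear map of sheaves of principal parts of order n, the one sending the pullback of d^n b to
d^n (u♯ b) for every local function b on X. Then φ is an isomorphism. (The published statement also
asserts that the canonical map u^*Ω_{X/S} ⟶ Ω_{X'/S'} of sheaves of differentials compatible with
the universal derivations is bijective; this row states only the assertion on sheaves of principal
parts.) -/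
theorem result {X S X' S' : Scheme.{u}} (f : X ⟶ S) (g : S' ⟶ S)
    (u : X' ⟶ X) (f' : X' ⟶ S') (hsq : IsPullback u f' f g) (n : ℕ)
    (φ : (Scheme.Modules.pullback u).obj (PrinPart.P f n) ⟶ PrinPart.P f' n)
    (hφ : PrinPart.IsPMap f f' u n φ) :
    IsIso φ := by
  classical
  have hchart : ∀ y : X', ∃ U' : X'.Opens, IsAffineOpen U' ∧ y ∈ U' ∧ Function.Bijective (φ.app U') := by
    intro y
    obtain ⟨V, U, hxU, e⟩ := PPSheaf.exists_affine_pair f (u y)
    obtain ⟨V', hV', hyV', hV'le⟩ := exists_isAffineOpen_mem_and_subset (x := f' y) (U := g ⁻¹ᵁ V.1) (by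
      show (f' ≫ g) y ∈ V.1
      rw [← hsq.w]
      exact e hxU)
    have hle' : V' ≤ g ⁻¹ᵁ V.1 := hV'le
    have haff : IsAffineOpen (u ⁻¹ᵁ U.1 ⊓ f' ⁻¹ᵁ V') := by
      have : IsAffine _ := V.2
      have : IsAffine _ := U.2
      have : IsAffine _ := hV'
      exact .of_isIso (Scheme.Hom.isPullback_resLE hsq hle' e rfl).isoPullback.hom
    let U' : X'.affineOpens := ⟨_, haff⟩
    refine ⟨U'.1, U'.2, ⟨hxU, hyV'⟩, ?_⟩
    have hU : U'.1 ≤ u ⁻¹ᵁ U.1 := inf_le_left
    have hU2 : U'.1 ≤ f' ⁻¹ᵁ V' := inf_le_right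
    let A := Γ(S, V.1)
    let B := Γ(X, U.1)
    let A' := Γ(S', V')
    let B' := Γ(X', U'.1)
    letI i1 : Algebra Γ(S, V.1) Γ(X, U.1) := (f.appLE V.1 U.1 e).hom.toAlgebra
    letI i2 : Algebra Γ(S', V') Γ(X', U'.1) := (f'.appLE V' U'.1 hU2).hom.toAlgebra
    letI i3 : Algebra Γ(S, V.1) Γ(S', V') := (g.appLE V.1 V' hle').hom.toAlgebra
    letI i4 : Algebra Γ(X, U.1) Γ(X', U'.1) := (u.appLE U.1 U'.1 hU).hom.toAlgebra
    letI i5 : Algebra Γ(S, V.1) Γ(X', U'.1) := ((algebraMap B B').comp (algebraMap A B)).toAlgebra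
    haveI t1 : IsScalarTower Γ(S, V.1) Γ(X, U.1) Γ(X', U'.1) := .of_algebraMap_eq fun _ => rfl
    have hsqle : f.appLE V.1 U.1 e ≫ u.appLE U.1 U'.1 hU = g.appLE V.1 V' hle' ≫ f'.appLE V' U'.1 hU2 := by
      rw [Scheme.Hom.appLE_comp_appLE, Scheme.Hom.appLE_comp_appLE]
      exact CommRingCat.hom_ext (RingHom.ext fun t => PPSheaf.appLE_congr_hom hsq.w _ _ _ t)
    haveI t2 : IsScalarTower Γ(S, V.1) Γ(S', V') Γ(X', U'.1) := .of_algebraMap_eq fun c => congr($hsqle c)
    haveI hpo : Algebra.IsPushout Γ(S, V.1) Γ(X, U.1) Γ(S', V') Γ(X', U'.1) :=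
      CommRingCat.isPushout_iff_isPushout.mp ((isIso_pushoutSection_iff hsq hle' e rfl).mp
        (isIso_pushoutSection_of_isAffineOpen hsq hle' e rfl V.2 hV' U.2))
    letI := PP16.mapAlgebra n A B A' B'
    haveI := PP16.isScalarTower_mapAlgebra n A B A' B'
    haveI := PPLib.isPushout_P n A B A' B'
    have hm : IsBaseChange B' (IsScalarTower.toAlgHom B (PP16.P n A B) (PP16.P n A' B')).toLinearMap :=
      (Algebra.IsPushout.symm (‹Algebra.IsPushout B (PP16.P n A B) B' (PP16.P n A' B')›)).out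
    obtain ⟨E, hE⟩ := H1PP.exists_P_equiv f n V U e rfl
    obtain ⟨E', hE'⟩ := H1PP.exists_P_equiv f' n ⟨V', hV'⟩ U' hU2 rfl
    letI mBM : Module Γ(X, U.1) Γ((Scheme.Modules.pullback u).obj (PrinPart.P f n), U'.1) :=
      Module.compHom _ (u.appLE U.1 U'.1 hU).hom
    haveI : IsScalarTower Γ(X, U.1) Γ(X', U'.1) Γ((Scheme.Modules.pullback u).obj (PrinPart.P f n), U'.1) :=
      ⟨fun a b c => mul_smul _ b c⟩
    letI mBN : Module Γ(X, U.1) Γ(PrinPart.P f' n, U'.1) := Module.compHom _ (u.appLE U.1 U'.1 hU).hom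
    haveI : IsScalarTower Γ(X, U.1) Γ(X', U'.1) Γ(PrinPart.P f' n, U'.1) :=
      ⟨fun a b c => mul_smul _ b c⟩
    obtain ⟨g1, hg1, hb1⟩ := ExistEasy.exists_pullSec_baseChange u (H1PP.isQCoh_P f n) U'.2 U.2 hU
    let φl : Γ((Scheme.Modules.pullback u).obj (PrinPart.P f n), U'.1) →ₗ[B'] Γ(PrinPart.P f' n, U'.1) :=
      { toFun := φ.app U'.1
        map_add' := fun x y => map_add _ x y
        map_smul' := fun r x => Scheme.Modules.Hom.app_smul φ r x }
    let m := (IsScalarTower.toAlgHom B (PP16.P n A B) (PP16.P n A' B')).toLinearMap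
    let G : Γ(PrinPart.P f n, U.1) →ₗ[B] Γ(PrinPart.P f' n, U'.1) :=
      ((E'.symm.restrictScalars B).toLinearMap.comp m).comp E.toLinearMap
    have hG : IsBaseChange B' G := by
      have h1 : IsBaseChange B' ((E'.symm.restrictScalars B).toLinearMap.comp m) := by
        refine IsBaseChange.of_equiv (hm.equiv.trans E'.symm) fun x => ?_
        show E'.symm (hm.equiv (1 ⊗ₜ x)) = _
        rw [IsBaseChange.equiv_tmul, one_smul]
        rfl
      exact h1.comp_equiv E
    have hφd : ∀ b, φl (g1 (PrinPart.dn f n U.1 b)) = G (PrinPart.dn f n U.1 b) := by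
      intro b
      have hR : G (PrinPart.dn f n U.1 b) = PrinPart.dn f' n U'.1 (u.appLE U.1 U'.1 hU b) := by
        show E'.symm (m (E (PrinPart.dn f n U.1 b))) = _
        rw [hE, E'.symm_apply_eq, hE']
        exact PP16.map_dn n A B A' B' b
      rw [hR]
      show φ.app U'.1 (g1 (PrinPart.dn f n U.1 b)) = _
      rw [hg1]
      refine Eq.trans (congr($((Scheme.Modules.Hom.mapPresheaf φ).naturality (homOfLE hU).op)
        (OmegaSh.pullSect u (PrinPart.P f n) U.1 (PrinPart.dn f n U.1 b)))) ?_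
      show (PrinPart.P f' n).presheaf.map (homOfLE hU).op
        (φ.app (u ⁻¹ᵁ U.1) (OmegaSh.pullSect u (PrinPart.P f n) U.1 (PrinPart.dn f n U.1 b))) = _
      rw [hφ U.1 b]
      exact (PrinPart.dP_map f' n (Coh.structureModule X') hU (OmegaSh.strSect X' _ (u.app U.1 b))).symm
    have hφG : ∀ σ, φl (g1 σ) = G σ := by
      intro σ
      obtain ⟨x, rfl⟩ := E.symm.surjective σ
      induction x using PPLib.induction with
      | h0 => simp
      | hmul b c =>
        have h1 : E.symm (algebraMap B (PP16.P n A B) b * PP16.dn n A B c) = b • PrinPart.dn f n U.1 c := by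
          rw [E.symm_apply_eq, map_smul, hE, Algebra.smul_def]
        rw [h1, map_smul g1, map_smul G, LinearMap.map_smul_of_tower, hφd]
      | hadd x y hx hy => simp only [map_add, hx, hy]
    have hφeq : φl = (hb1.equiv.symm.trans hG.equiv).toLinearMap := by
      refine hb1.algHom_ext _ _ fun k => ?_
      rw [hφG, LinearEquiv.coe_coe, LinearEquiv.trans_apply, IsBaseChange.equiv_symm_apply,
        IsBaseChange.equiv_tmul, one_smul]
    show Function.Bijective φl
    rw [hφeq]
    exact LinearEquiv.bijective _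
  choose U hU hxU hb using hchart
  exact H1PP.GrMap.isIso_of_cover (QCoh.isQCoh_pullback u (H1PP.isQCoh_P f n)) (H1PP.isQCoh_P f' n) φ U hU
    (fun y => ⟨y, hxU y⟩) hb

end Groth.Agent.S5954
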