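import Groth.Statements.S5961
import Groth.Statements.S5961
import Groth.Agent.H1PP.Basic

set_option autoImplicit false
universe u
open CategoryTheory CategoryTheory.Limits AlgebraicGeometry TopologicalSpace Opposite
open Nrm16

namespace Groth.Agent.S5961

/-- Let f : X ⟶ S be a morphism of schemes, G an O_X-module and D : O_X ⟶ G a differential operator of
order at most 1 relative to S. Then D can be written in exactly one way as v + d with v : O_X ⟶ G an
O_X-linear map and d an S-derivation of O_X into G. -/
theorem result {X S : Scheme.{u}} (f : X ⟶ S) (G : X.Modules)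
    (D : (Coh.structureModule X).presheaf ⟶ G.presheaf)
    (hD : PrinPart.IsDiffOpLE f (Coh.structureModule X) G 1 D) :
    ∃! p : (Coh.structureModule X ⟶ G) × OmegaSh.Der f G,
      ∀ (U : X.Opens) (a : Γ(X, U)),
        D.app (op U) (OmegaSh.strSect X U a) = p.1.app U (OmegaSh.strSect X U a) + p.2.app U a := by
  let O := Coh.structureModule X
  let one : ∀ U : X.Opens, Γ(O, U) := fun U => OmegaSh.strSect X U 1
  have hone : ∀ {U V : X.Opens} (i : V ⟶ U), O.presheaf.map i.op (one U) = one V := fun i =>
    map_one (X.presheaf.map i.op).hom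
  have hnat : ∀ {U V : X.Opens} (i : V ⟶ U) (t : Γ(O, U)),
      D.app (op V) (O.presheaf.map i.op t) = G.presheaf.map i.op (D.app (op U) t) :=
    fun i t => congr($(D.naturality i.op) t)
  have hstr : ∀ (U : X.Opens) (a : Γ(X, U)), OmegaSh.strSect X U a = a • one U := fun U a =>
    (mul_one a).symm
  -- the order one identity
  have h2 : ∀ (U : X.Opens) (a b : Γ(X, U)),
      D.app (op U) (OmegaSh.strSect X U (a * b)) - a • D.app (op U) (OmegaSh.strSect X U b)
        - b • D.app (op U) (OmegaSh.strSect X U a) + (a * b) • D.app (op U) (one U) = 0 := by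
    intro U a b
    have h := Groth.Agent.H1PP.altSum_of_isDiffOpLE f 1 hD U ![a, b] (one U)
    rw [show (Finset.univ : Finset (Finset (Fin 2))) = {∅, {0}, {1}, {0, 1}} by decide] at h
    rw [Finset.sum_insert (by decide), Finset.sum_insert (by decide), Finset.sum_insert (by decide),
      Finset.sum_singleton] at h
    rw [show ((∅ : Finset (Fin 2))ᶜ) = {0, 1} by decide, show (({0} : Finset (Fin 2))ᶜ) = {1} by decide,
      show (({1} : Finset (Fin 2))ᶜ) = {0} by decide, show (({0, 1} : Finset (Fin 2))ᶜ) = ∅ by decide,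
      show (({0, 1} : Finset (Fin 2))).card = 2 by decide] at h
    simp only [Finset.card_empty, Finset.card_singleton, pow_zero, pow_one, one_smul, neg_smul,
      Finset.prod_empty, Finset.prod_singleton, Finset.prod_pair (show (0 : Fin 2) ≠ 1 by decide),
      Matrix.cons_val_zero, Matrix.cons_val_one, neg_one_sq] at h
    rw [← hstr, ← hstr, ← hstr] at h
    rw [← h]
    abel
  let L : ∀ U : X.Opens, Γ(O, U) →+ Γ(G, U) := fun U =>
    AddMonoidHom.mk' (fun a => OmegaSh.fnSect X U a • D.app (op U) (one U)) fun a b => by rw [map_add, add_smul]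
  have hLsmul : ∀ (U : X.Opens) (a : Γ(X, U)) (t : Γ(O, U)), L U (a • t) = a • L U t := fun U a t =>
    mul_smul a (OmegaSh.fnSect X U t) (D.app (op U) (one U))
  have hLnat : ∀ {U V : X.Opens} (i : V ⟶ U) (a : Γ(O, U)),
      L V (O.presheaf.map i.op a) = G.presheaf.map i.op (L U a) := by
    intro U V i a
    show OmegaSh.fnSect X V (O.presheaf.map i.op a) • D.app (op V) (one V) =
      G.presheaf.map i.op (OmegaSh.fnSect X U a • D.app (op U) (one U))
    rw [Scheme.Modules.map_smul, ← hone i, hnat]
    rfl
  let lin : O ⟶ G := ⟨PresheafOfModules.homMk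
    { app := fun U => AddCommGrpCat.ofHom (L U.unop)
      naturality := fun U V i => by
        ext a
        exact hLnat i.unop a }
    (fun U a t => hLsmul U.unop a t)⟩
  have hlin : ∀ (U : X.Opens) (a : Γ(O, U)), lin.app U a = L U a := fun _ _ => rfl
  let d : ∀ U : X.Opens, Γ(X, U) →+ Γ(G, U) := fun U =>
    AddMonoidHom.mk' (fun a => D.app (op U) (OmegaSh.strSect X U a) - a • D.app (op U) (one U))
      fun a b => by rw [map_add, map_add, add_smul]; abel
  have hdmul : ∀ (U : X.Opens) (a b : Γ(X, U)), d U (a * b) = a • d U b + b • d U a := by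
    intro U a b
    show D.app (op U) (OmegaSh.strSect X U (a * b)) - (a * b) • D.app (op U) (one U) =
      a • (D.app (op U) (OmegaSh.strSect X U b) - b • D.app (op U) (one U)) +
        b • (D.app (op U) (OmegaSh.strSect X U a) - a • D.app (op U) (one U))
    rw [smul_sub, smul_sub, smul_smul, smul_smul, mul_comm b a, ← sub_eq_zero]
    refine Eq.trans ?_ (h2 U a b)
    abel
  have hdmap : ∀ {U V : X.Opens} (i : V ⟶ U) (a : Γ(X, U)),
      d V (X.presheaf.map i.op a) = G.presheaf.map i.op (d U a) := by
    intro U V i a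
    show D.app (op V) (O.presheaf.map i.op (OmegaSh.strSect X U a)) - _ • D.app (op V) (one V) =
      G.presheaf.map i.op (D.app (op U) (OmegaSh.strSect X U a) - a • D.app (op U) (one U))
    rw [map_sub, Scheme.Modules.map_smul, ← hone i, hnat, hnat]
  have hdapp : ∀ (V : S.Opens) (c : Γ(S, V)), d (f ⁻¹ᵁ V) (f.app V c) = 0 := by
    intro V c
    have h := Groth.Agent.H1PP.app_base f 1 O hD V (f ⁻¹ᵁ V) le_rfl c (one _)
    have e : X.presheaf.map (homOfLE (le_refl (f ⁻¹ᵁ V))).op (f.app V c) = f.app V c := by
      rw [show (homOfLE (le_refl (f ⁻¹ᵁ V))).op = 𝟙 _ from rfl, X.presheaf.map_id]; rfl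
    rw [e, ← hstr] at h
    show D.app (op (f ⁻¹ᵁ V)) (OmegaSh.strSect X _ (f.app V c)) - f.app V c • D.app _ (one _) = 0
    rw [h, sub_self]
  let der : OmegaSh.Der f G :=
    { d := fun {U} => d U.unop
      d_mul := fun {U} a b => hdmul U.unop a b
      d_map := fun {U V} i a => hdmap i.unop a
      d_app := fun {V} c => hdapp V.unop c }
  refine ⟨(lin, der), fun U a => ?_, ?_⟩
  · show D.app (op U) (OmegaSh.strSect X U a) = lin.app U (OmegaSh.strSect X U a) +
      (D.app (op U) (OmegaSh.strSect X U a) - a • D.app (op U) (one U))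
    rw [hlin, show L U (OmegaSh.strSect X U a) = a • D.app (op U) (one U) from rfl]
    abel
  · rintro ⟨v, e⟩ hve
    have h1 : ∀ U, v.app U (one U) = D.app (op U) (one U) := by
      intro U
      have he : e.app U 1 = 0 := by
        have : e.app U (1 * 1) = (1 : Γ(X, U)) • e.app U 1 + (1 : Γ(X, U)) • e.app U 1 :=
          e.d_mul (X := op U) 1 1
        rw [mul_one, one_smul] at this
        exact (left_eq_add.mp this)
      have := hve U 1
      rw [he, add_zero] at this
      exact this.symm
    have hv : ∀ U a, v.app U (OmegaSh.strSect X U a) = a • D.app (op U) (one U) := fun U a => by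
      rw [hstr, Scheme.Modules.Hom.app_smul, h1]
    refine Prod.ext (Scheme.Modules.hom_ext _ _ fun U => ?_) ?_
    · ext a
      show v.app U a = lin.app U a
      rw [hlin]
      exact hv U a
    · refine PresheafOfModules.Derivation.ext (funext fun U => ?_)
      ext a
      show e.app U.unop a = D.app (op U.unop) (OmegaSh.strSect X U.unop a) -
        (show Γ(X, U.unop) from a) • D.app (op U.unop) (one U.unop)
      rw [hve U.unop a, hv]
      exact (add_sub_cancel_left _ _).symm

end Groth.Agent.S5961
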