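import Groth.Statements.S5965
import Groth.Statements.S5965
import Mathlib
set_option linter.style.haveILetI false

set_option autoImplicit false
universe u
open CategoryTheory CategoryTheory.Limits AlgebraicGeometry TopologicalSpace Opposite
open Nrm16

namespace Groth.Agent.S5965

/-- Let g : X ⟶ Y be a morphism locally of finite type with a section f : Y ⟶ X which is a closed
immersion. Then for every n the n-th infinitesimal neighbourhood of Y in X, mapped to Y through its
inclusion into X followed by g, is finite over Y. (The published statement allows any section f and
says that the structure sheaf of the neighbourhood is a quasi-coherent O_Y-algebra which is an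
O_Y-module of finite type; this row assumes f a closed immersion and states the conclusion as
finiteness of the morphism to Y.) -/
theorem result {X Y : Scheme.{u}} (g : X ⟶ Y) [LocallyOfFiniteType g] (f : Y ⟶ X)
    [IsClosedImmersion f] (hf : f ≫ g = 𝟙 Y) (n : ℕ) :
    IsFinite (PrinPart.infNbhdι f n ≫ g) := by
  set h := PrinPart.infNbhdι f n ≫ g with hh
  let t := PrinPart.toInfNbhd f n
  have hth : t ≫ h = 𝟙 Y := by rw [hh, ← Category.assoc, PrinPart.toInfNbhd_ι, hf]
  have hts : Function.Surjective t := PrinPart.toInfNbhd_surjective f n
  haveI : Surjective t := ⟨hts⟩
  have hli : Function.LeftInverse h t := fun y => by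
    show h (t y) = y
    rw [← Scheme.Hom.comp_apply, hth]; rfl
  have hinj : Function.Injective h := fun a b hab => by
    obtain ⟨a', rfl⟩ := hts a
    obtain ⟨b', rfl⟩ := hts b
    rw [hli, hli] at hab
    rw [hab]
  let e : (PrinPart.infNbhd f n) ≃ₜ Y :=
    { toFun := h, invFun := t
      left_inv := fun a => hinj (hli (h a))
      right_inv := hli
      continuous_toFun := h.continuous
      continuous_invFun := t.continuous }
  haveI : IsAffineHom h := isAffineHom_of_isInducing h e.isInducing e.isClosedEmbedding.isClosed_range
  haveI : UniversallyClosed (t ≫ h) := by rw [hth]; infer_instance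
  haveI : UniversallyClosed h := UniversallyClosed.of_comp_surjective t h
  haveI : IsClosedImmersion (PrinPart.infNbhdι f n) :=
    inferInstanceAs (IsClosedImmersion (f.ker ^ (n + 1)).subschemeι)
  rw [IsFinite.iff_isIntegralHom_and_locallyOfFiniteType, IsIntegralHom.iff_universallyClosed_and_isAffineHom]
  exact ⟨⟨inferInstance, inferInstance⟩, MorphismProperty.comp_mem @LocallyOfFiniteType _ _ inferInstance inferInstance⟩

end Groth.Agent.S5965
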