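import Groth.Statements.S5966
import Groth.Agent.S11131
import Mathlib

set_option backward.isDefEq.respectTransparency false
set_option linter.style.haveILetI false

set_option autoImplicit false
universe u
open CategoryTheory CategoryTheory.Limits AlgebraicGeometry TopologicalSpace Opposite
open Nrm16

namespace Groth.Agent.S5966

/-- Let f : X ⟶ S be a morphism of schemes and n a natural number. The functor F ↦ P^n_{X/S}(F),
pullback along the second projection of the n-th infinitesimal neighbourhood of the diagonal
followed by pushforward along the first, from O_X-modules to O_X-modules, commutes with all small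
colimits (in particular it is right exact). -/
theorem result {X S : Scheme.{u}} (f : X ⟶ S) (n : ℕ) :
    PreservesColimitsOfSize.{u, u}
      ((Scheme.Modules.pullback (PrinPart.pr2 f n)) ⋙ (Scheme.Modules.pushforward (PrinPart.pr1 f n))) := by
  classical
  have hinv : ∀ z, PrinPart.toNbhd f n (PrinPart.pr1 f n z) = z := fun z => by
    obtain ⟨y, rfl⟩ := PrinPart.toInfNbhd_surjective (PrinPart.diagCl f) n z
    rw [← Scheme.Hom.comp_apply (PrinPart.toInfNbhd (PrinPart.diagCl f) n) (PrinPart.pr1 f n), PrinPart.toNbhd_pr1]
    rfl
  have hco : (Opens.map (PrinPart.pr1 f n).base).IsCocontinuous (Opens.grothendieckTopology X)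
      (Opens.grothendieckTopology (PrinPart.nbhd f n)) := by
    refine ⟨fun {U} R hR => ?_⟩
    intro x hx
    obtain ⟨W, g, hg, hzW⟩ := hR (PrinPart.toNbhd f n x) (by
      show PrinPart.pr1 f n (PrinPart.toNbhd f n x) ∈ U
      rwa [← Scheme.Hom.comp_apply, PrinPart.toNbhd_pr1])
    refine ⟨U ⊓ PrinPart.toNbhd f n ⁻¹ᵁ W, homOfLE inf_le_left, ?_, hx, hzW⟩
    have h1 : (Opens.map (PrinPart.pr1 f n).base).obj (U ⊓ PrinPart.toNbhd f n ⁻¹ᵁ W) ≤ W := fun z hz => by
      have := hz.2
      show z ∈ W
      rw [← hinv z]
      exact this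
    show R.arrows _
    convert R.downward_closed hg (homOfLE h1)
    exact Subsingleton.elim _ _
  haveI := hco
  haveI : (Scheme.Modules.pushforward (PrinPart.pr1 f n)).IsLeftAdjoint :=
    Groth.Agent.S11131.result (Opens.grothendieckTopology X) (Opens.grothendieckTopology (PrinPart.nbhd f n))
      (Opens.map (PrinPart.pr1 f n).base) (coverPreserving_opens_map (PrinPart.pr1 f n).base)
      (PrinPart.pr1 f n).toRingCatSheafHom
  haveI : (Scheme.Modules.pullback (PrinPart.pr2 f n)).IsLeftAdjoint :=
    (Scheme.Modules.pullbackPushforwardAdjunction (PrinPart.pr2 f n)).isLeftAdjoint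
  infer_instance

end Groth.Agent.S5966
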