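import Groth.Statements.S5967
import Groth.Agent.H1PP.Affine
import Groth.Agent.H1PP.Basic
import Groth.Agent.H23.PullPush
import Groth.Agent.HensSch7.Flat
import Groth.Agent.QCoh.Qcqs
import Groth.Agent.QCoh.Pullback
import Groth.Agent.QCoh.Stalk
import Groth.Agent.PnCoh.Unit
import Mathlib

set_option backward.isDefEq.respectTransparency false
set_option linter.style.haveILetI false

set_option autoImplicit false
universe u
open CategoryTheory CategoryTheory.Limits AlgebraicGeometry TopologicalSpace Opposite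
open Nrm16

namespace Groth.Agent.S5967

open scoped TensorProduct in
theorem exists_swap (n : ℕ) (A B : Type u) [CommRing A] [CommRing B] [Algebra A B] :
    ∃ s : PP16.P n A B ≃+* PP16.P n A B, ∀ b, s (algebraMap B _ b) = PP16.dn n A B b := by
  let σ := (Algebra.TensorProduct.comm A B B).toRingEquiv
  have hmap : (KaehlerDifferential.ideal A B).map (σ : B ⊗[A] B →+* B ⊗[A] B) =
      KaehlerDifferential.ideal A B := by
    have hle : (KaehlerDifferential.ideal A B).map (σ : B ⊗[A] B →+* B ⊗[A] B) ≤
        KaehlerDifferential.ideal A B := by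
      rw [← KaehlerDifferential.span_range_eq_ideal, Ideal.map_span, Ideal.span_le]
      rintro _ ⟨_, ⟨s, rfl⟩, rfl⟩
      have : σ ((1 : B) ⊗ₜ[A] s - s ⊗ₜ[A] (1 : B)) = -((1 : B) ⊗ₜ[A] s - s ⊗ₜ[A] (1 : B)) := by
        simp [σ]
      show σ _ ∈ _
      rw [this]
      exact neg_mem (Ideal.subset_span ⟨s, rfl⟩)
    refine le_antisymm hle fun x hx => ?_
    have hx' := hle (Ideal.mem_map_of_mem (σ : B ⊗[A] B →+* B ⊗[A] B) hx)
    have := Ideal.mem_map_of_mem (σ : B ⊗[A] B →+* B ⊗[A] B) hx'
    have hσσ : ∀ y, σ (σ y) = y := fun y => by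
      induction y using TensorProduct.induction_on with
      | zero => simp
      | tmul b c => simp [σ]
      | add a b ha hb => simp only [map_add, ha, hb]
    have hx'' := hx'
    exact (hσσ x) ▸ this
  refine ⟨Ideal.quotientEquiv _ _ σ (by rw [Ideal.map_pow, hmap]), fun b => ?_⟩
  show Ideal.quotientEquiv _ _ σ _ (Ideal.Quotient.mk _ (b ⊗ₜ[A] (1 : B))) =
    Ideal.Quotient.mk _ ((1 : B) ⊗ₜ[A] b)
  rw [Ideal.quotientEquiv_mk]
  simp [σ]

/-- Let f : X ⟶ S be a morphism of schemes and n a natural number, and assume that P^n_{X/S} is a flat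
O_X-module for its left structure. Then the functor F ↦ P^n_{X/S}(F) on O_X-modules preserves finite
limits (so it is exact). -/
theorem result {X S : Scheme.{u}} (f : X ⟶ S) (n : ℕ)
    (hP : FlatMod.IsFlat (PrinPart.P f n)) :
    PreservesFiniteLimits
      ((Scheme.Modules.pullback (PrinPart.pr2 f n)) ⋙ (Scheme.Modules.pushforward (PrinPart.pr1 f n))) := by
  classical
  let φ := (PrinPart.pr2 f n).toRingCatSheafHom
  let τ : (Scheme.Modules.pullback (PrinPart.pr2 f n)).obj (Coh.structureModule X) ⟶
      Coh.structureModule (PrinPart.nbhd f n) := SheafOfModules.pullbackObjUnitToUnit φ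
  have hτ : IsIso τ := inferInstanceAs (IsIso (SheafOfModules.pullbackObjUnitToUnit φ))
  have hqP : Coh.IsQCoh (PrinPart.P f n) :=
    QCoh.isQCoh_pushforward (PrinPart.pr1 f n) (QCoh.isQCoh_pullback _ (PnCoh.isQCoh_structureModule X))
  have hflat1 : ∀ U : X.affineOpens, ((PrinPart.pr1 f n).app U.1).hom.Flat := by
    intro U
    have hU := (QCoh.isFlat_iff hqP).1 hP U
    algebraize [((PrinPart.pr1 f n).app U.1).hom]
    let W := PrinPart.pr1 f n ⁻¹ᵁ U.1
    let l : Γ(PrinPart.P f n, U.1) →ₗ[Γ(X, U.1)] Γ(PrinPart.nbhd f n, W) :=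
      { toFun := fun σ => τ.app W (H1PP.toPull f n (Coh.structureModule X) U.1 σ)
        map_add' := fun x y => map_add _ _ _
        map_smul' := fun r x => by
          show τ.app W (H1PP.p1 f n U.1 r • H1PP.toPull f n (Coh.structureModule X) U.1 x) = _
          rw [Scheme.Modules.Hom.app_smul]
          rfl }
    have hb : Function.Bijective l := ConcreteCategory.bijective_of_isIso (τ.app W)
    exact Module.Flat.of_linearEquiv (LinearEquiv.ofBijective l hb).symm
  have hflat2 : Flat (PrinPart.pr2 f n) := by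
    rw [HasRingHomProperty.iff_exists_appLE (P := @Flat)]
    · intro z
      obtain ⟨V, U, hxU, e⟩ := PPSheaf.exists_affine_pair f (PrinPart.pr1 f n z)
      letI alg := (f.appLE V.1 U.1 e).hom.toAlgebra
      obtain ⟨hW, ε, hε1, hε2⟩ := H1PP.exists_chart_equiv f n V U e rfl
      refine ⟨U, ⟨_, hW⟩, hxU, (PrinPart.preimage_pr1 f n U.1).le, ?_⟩
      obtain ⟨s, hs⟩ := exists_swap n Γ(S, V.1) Γ(X, U.1)
      have hl : (algebraMap Γ(X, U.1) (PP16.P n Γ(S, V.1) Γ(X, U.1))).Flat := by
        have h := hflat1 U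
        have e1 : algebraMap Γ(X, U.1) (PP16.P n Γ(S, V.1) Γ(X, U.1)) =
            ε.symm.toRingHom.comp ((PrinPart.pr1 f n).app U.1).hom := RingHom.ext fun b => by
          show _ = ε.symm ((PrinPart.pr1 f n).app U.1 b)
          rw [← hε1, RingEquiv.symm_apply_apply]
        rw [e1]
        exact RingHom.Flat.comp h (RingHom.Flat.of_bijective ε.symm.bijective)
      have h2 : ((PrinPart.pr2 f n).appLE U.1 (PrinPart.pr1 f n ⁻¹ᵁ U.1)
          (PrinPart.preimage_pr1 f n U.1).le).hom =
          (ε.toRingHom.comp s.toRingHom).comp (algebraMap Γ(X, U.1) (PP16.P n Γ(S, V.1) Γ(X, U.1))) :=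
        RingHom.ext fun b => by
          show _ = ε (s (algebraMap _ _ b))
          rw [hs, hε2]
      rw [h2]
      exact RingHom.Flat.comp hl
        (RingHom.Flat.comp (RingHom.Flat.of_bijective s.bijective) (RingHom.Flat.of_bijective ε.bijective))
    · exact RingHom.Flat.stableUnderComposition.stableUnderCompositionWithLocalizationAway
        RingHom.Flat.holdsForLocalizationAway |>.left
  haveI : PreservesFiniteLimits (Scheme.Modules.pullback (PrinPart.pr2 f n)) :=
    HensSch7.preservesFiniteLimits_pullMod (PrinPart.pr2 f n).toLRSHom (fun x => Flat.stalkMap _ x)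
  haveI : PreservesLimitsOfSize.{0, 0} (Scheme.Modules.pushforward (PrinPart.pr1 f n)) :=
    (Scheme.Modules.pullbackPushforwardAdjunction (PrinPart.pr1 f n)).rightAdjoint_preservesLimits
  exact comp_preservesFiniteLimits _ _

end Groth.Agent.S5967
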