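import Groth.Statements.S5969
import Groth.Statements.S5969
import Groth.Agent.H1PP.Funct
import Mathlib.Topology.LocallyClosed
set_option linter.style.haveILetI false

set_option autoImplicit false
universe u
open CategoryTheory CategoryTheory.Limits AlgebraicGeometry TopologicalSpace Opposite
open Nrm16

namespace Groth.Agent.S5969

/-- Let f : X ⟶ S be a morphism of schemes and n a natural number. On the order-n infinitesimal
thickening of the diagonal of f there is an endomorphism σ which is compatible, under the immersion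
into X ×_S X, with the symmetry exchanging the two factors; σ is an involution, it exchanges the two
projections to X (so it exchanges the two O_X-algebra structures of P^n_{X/S}) and it fixes the
diagonal section. -/
theorem result {X S : Scheme.{u}} (f : X ⟶ S) (n : ℕ) :
    ∃ σ : PrinPart.nbhd f n ⟶ PrinPart.nbhd f n,
      σ ≫ PrinPart.nbhdι f n = PrinPart.nbhdι f n ≫ (pullbackSymmetry f f).hom ∧
      σ ≫ σ = 𝟙 (PrinPart.nbhd f n) ∧
      σ ≫ PrinPart.pr1 f n = PrinPart.pr2 f n ∧ σ ≫ PrinPart.pr2 f n = PrinPart.pr1 f n ∧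
      PrinPart.toNbhd f n ≫ σ = PrinPart.toNbhd f n := by
  set τ := (pullbackSymmetry f f).hom with hτ
  set Δ := pullback.diagonal f with hΔ
  have hττ : τ ≫ τ = 𝟙 _ := by
    rw [hτ]
    ext <;> simp [pullbackSymmetry_hom_comp_fst, pullbackSymmetry_hom_comp_snd]
  have hΔτ : Δ ≫ τ = Δ := by
    rw [hτ, hΔ]
    ext <;> simp [pullbackSymmetry_hom_comp_fst, pullbackSymmetry_hom_comp_snd]
  have hRange : ∀ p, τ p ∈ Set.range Δ ↔ p ∈ Set.range Δ := by
    intro p
    have hinv : τ (τ p) = p := by rw [← Scheme.Hom.comp_apply, hττ]; rfl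
    constructor
    · rintro ⟨y, hy⟩
      refine ⟨y, ?_⟩
      rw [← hinv, ← hy, ← Scheme.Hom.comp_apply, hΔτ]
    · rintro ⟨y, rfl⟩
      exact ⟨y, by rw [← Scheme.Hom.comp_apply, hΔτ]⟩
  have hcr : ∀ p, p ∈ Δ.coborderRange → τ p ∈ Δ.coborderRange := by
    intro p hp
    haveI : IsIso τ := by rw [hτ]; infer_instance
    show τ p ∈ coborder (Set.range Δ)
    have hpre : ⇑τ ⁻¹' coborder (Set.range Δ) = coborder (⇑τ ⁻¹' Set.range Δ) :=
      (τ.isOpenEmbedding.coborder_preimage _).symm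
    have hR : ⇑τ ⁻¹' Set.range Δ = Set.range Δ := Set.ext hRange
    rw [← Set.mem_preimage, hpre, hR]
    exact hp
  let cr := Δ.coborderRange
  have hrange : Set.range (cr.ι ≫ τ) ⊆ Set.range cr.ι := by
    rintro _ ⟨q, rfl⟩
    rw [Scheme.Opens.range_ι, Scheme.Hom.comp_apply]
    exact hcr _ q.2
  let v : (cr : Scheme.{u}) ⟶ cr := IsOpenImmersion.lift cr.ι (cr.ι ≫ τ) hrange
  have hv : v ≫ cr.ι = cr.ι ≫ τ := IsOpenImmersion.lift_fac _ _ _
  have hsq : PrinPart.diagCl f ≫ v = 𝟙 X ≫ PrinPart.diagCl f := by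
    rw [Category.id_comp, ← cancel_mono cr.ι, Category.assoc, hv, ← Category.assoc, Δ.liftCoborder_ι, hΔτ]
  obtain ⟨σ, hσ⟩ := Groth.Agent.H1PP.exists_infNbhd_map (PrinPart.diagCl f) (PrinPart.diagCl f) v (𝟙 X) hsq n
  have h1 : σ ≫ PrinPart.nbhdι f n = PrinPart.nbhdι f n ≫ τ := by
    rw [PrinPart.nbhdι, ← Category.assoc, hσ, Category.assoc, Category.assoc, hv]
  haveI : Mono (PrinPart.nbhdι f n) := by
    haveI : IsClosedImmersion (PrinPart.infNbhdι (PrinPart.diagCl f) n) :=
      inferInstanceAs (IsClosedImmersion ((PrinPart.diagCl f).ker ^ (n + 1)).subschemeι)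
    rw [PrinPart.nbhdι]
    infer_instance
  refine ⟨σ, h1, ?_, ?_, ?_, ?_⟩
  · rw [← cancel_mono (PrinPart.nbhdι f n), Category.assoc, h1, ← Category.assoc, h1, Category.assoc, hττ,
      Category.comp_id, Category.id_comp]
  · rw [PrinPart.pr1, PrinPart.pr2, ← Category.assoc, h1, Category.assoc, hτ, pullbackSymmetry_hom_comp_fst]
  · rw [PrinPart.pr1, PrinPart.pr2, ← Category.assoc, h1, Category.assoc, hτ, pullbackSymmetry_hom_comp_snd]
  · rw [← cancel_mono (PrinPart.nbhdι f n), Category.assoc, h1, ← Category.assoc, PrinPart.toNbhd_ι, hΔτ]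

end Groth.Agent.S5969
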