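import Groth.Statements.S5970
import Groth.Agent.H1VB.Omega
import Groth.Agent.H1VB.Sym
import Groth.Agent.SymX.Gen
import Groth.Agent.RelSpecX.Gamma
import Groth.Agent.GrModX.AffineIso

set_option backward.isDefEq.respectTransparency false
set_option backward.isDefEq.respectTransparency.types false
set_option linter.style.haveILetI false
set_option maxHeartbeats 1000000
open TopologicalSpace Opposite Groth.Agent

set_option autoImplicit false
universe u
open CategoryTheory CategoryTheory.Limits AlgebraicGeometry TopologicalSpace Opposite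
open Nrm16

namespace Groth.Agent.S5970

/-- Let S be a scheme, E a quasi-coherent O_S-module and A its symmetric algebra, given as a
quasi-coherent O_S-algebra with a module map j : E ⟶ A having the universal property; let X = V(E)
be the relative spectrum of A with structure morphism p : X ⟶ S, and let (Ω', d) be a sheaf of
differentials of X over S (d a universal S-derivation of O_X into Ω'). Let φ : p^*E ⟶ Ω' be an
O_X-linear map such that, whenever a local section t of E over U and a function t' on p⁻¹U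
correspond (t' maps to j(t) under the canonical identification of p_*O_X with A), φ sends the
pullback of t to d t'. Then φ is an isomorphism. -/
theorem result {S : Scheme.{u}} (E : S.Modules) (hE : Coh.IsQCoh E)
    (A : RelSpec.QCAlg S) (j : E ⟶ A.toModule) (hA : RelSpec.IsSymAlg E A j)
    (Ω' : A.spec.Modules) (d : OmegaSh.Der A.π Ω') (hd : OmegaSh.IsUniversal d)
    (φ : (Scheme.Modules.pullback A.π).obj E ⟶ Ω')
    (hφ : ∀ (U : S.Opens) (t : Γ(E, U)) (t' : Γ(A.spec, A.π ⁻¹ᵁ U)),
      A.gammaMap.app (op U) t' = j.app U t →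
        φ.app (A.π ⁻¹ᵁ U) (OmegaSh.pullSect A.π E U t) = d.app (A.π ⁻¹ᵁ U) t') :
    IsIso φ := by
  have hΩ : Coh.IsQCoh Ω' := Synt29.OmegaStalk.isQCoh_of_isUniversal hd
  refine GrModX.isIso_of_bijective_affineCover φ (QCoh.isQCoh_pullback A.π hE) hΩ
    (fun a : S.AffineZariskiSite => A.π ⁻¹ᵁ a.1) (fun x => ?_) (fun a => a.2.preimage A.π) fun a => ?_
  · obtain ⟨U, hU, hx, -⟩ := exists_isAffineOpen_mem_and_subset (U := (⊤ : S.Opens)) (x := A.π x) trivial
    exact ⟨⟨U, hU⟩, hx⟩
  let U := a.1
  let V := A.π ⁻¹ᵁ U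
  letI : Algebra Γ(S, U) Γ(A.spec, V) := (A.π.appLE U V le_rfl).hom.toAlgebra
  obtain ⟨ε, hε⟩ := H1VB.exists_kaehler_equiv hd (a.2.preimage A.π) a.2 (le_refl V)
  obtain ⟨e, hes, hej⟩ := SymX.exists_symEquiv hE hA a
  haveI := RelSpecX.isIso_gammaMap A
  let g : Γ(A.spec, V) ≃+* A.presheaf.obj (op U) :=
    (asIso (A.gammaMap.app (op U))).commRingCatIsoToRingEquiv
  have hg : ∀ r, g (algebraMap Γ(S, U) Γ(A.spec, V) r) = (A.str.app (op U)).hom r := fun r => by
    show (A.gammaMap.app (op U)).hom ((A.π.appLE U V le_rfl).hom r) = _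
    rw [← A.π_c_gammaMap, ← Scheme.Hom.app_eq_appLE]
    rfl
  let e' : SymmetricAlgebra Γ(S, U) Γ(E, U) ≃ₐ[Γ(S, U)] Γ(A.spec, V) :=
    AlgEquiv.ofRingEquiv (f := e.trans g.symm) fun r => by
      show g.symm (e _) = _
      rw [hes, ← hg, g.symm_apply_apply]
  let N := (Scheme.Modules.pullback A.π).obj E
  letI : Module Γ(S, U) Γ(N, V) := Module.compHom _ (A.π.appLE U V le_rfl).hom
  haveI : IsScalarTower Γ(S, U) Γ(A.spec, V) Γ(N, V) :=
    ⟨fun r b c => mul_smul ((A.π.appLE U V le_rfl).hom r) b c⟩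
  let l : Γ(E, U) →ₗ[Γ(S, U)] Γ(N, V) :=
    { toFun := QCoh.pullSec A.π E (le_refl V)
      map_add' := QCoh.pullSec_add A.π E (le_refl V)
      map_smul' := QCoh.pullSec_smul A.π E (le_refl V) }
  have hbc : IsBaseChange Γ(A.spec, V) l :=
    QCoh.isBaseChange_pullback a.2 A.π (a.2.preimage A.π) hE le_rfl (fun _ => rfl) l fun _ => rfl
  let φV : Γ(N, V) →ₗ[Γ(A.spec, V)] Γ(Ω', V) :=
    { toFun := φ.app V
      map_add' := map_add (φ.app V).hom
      map_smul' := fun r z => Scheme.Modules.Hom.app_smul φ r z }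
  have h := H1VB.bijective_symOmega e' hbc (ε.symm.toLinearMap.comp φV) fun m => by
    refine ε.injective ?_
    rw [hε]
    show ε (ε.symm (φ.app V (QCoh.pullSec A.π E (le_refl V) m))) = _
    rw [ε.apply_symm_apply]
    refine Eq.trans ?_ (hφ U m (e' (SymmetricAlgebra.ι _ _ m)) ?_)
    · refine congrArg (φ.app V) ?_
      show N.presheaf.map (𝟙 (op V)) _ = _
      rw [CategoryTheory.Functor.map_id]
      rfl
    · show (A.gammaMap.app (op U)).hom (g.symm (e _)) = _
      rw [hej]
      exact g.apply_symm_apply _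
  exact (ε.symm.bijective.of_comp_iff' φV).1 h

end Groth.Agent.S5970
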