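import Groth.Statements.S5972
import Groth.Agent.H1PP.Affine
import Groth.Agent.H1PP.Basic
import Groth.Agent.H23.PullPush
import Mathlib

set_option backward.isDefEq.respectTransparency false
set_option linter.style.haveILetI false

set_option autoImplicit false
universe u
open CategoryTheory CategoryTheory.Limits AlgebraicGeometry TopologicalSpace Opposite
open Nrm16

namespace Groth.Agent.S5972

open scoped TensorProduct in
theorem tensorMap_bijective (A B A' B' : Type u) [CommRing A] [CommRing B] [Algebra A B]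
    [CommRing A'] [CommRing B'] [Algebra A' B'] [Algebra A A'] [Algebra B B'] [Algebra A B']
    [IsScalarTower A A' B'] [IsScalarTower A B B']
    (hA : Function.Bijective (algebraMap A A')) (hB : Function.Bijective (algebraMap B B')) :
    Function.Bijective (PP16.tensorMap A B A' B') := by
  refine ⟨?_, ?_⟩
  · let α := RingEquiv.ofBijective _ hA
    let β := RingEquiv.ofBijective _ hB
    letI : Algebra A' A := α.symm.toRingHom.toAlgebra
    letI : Algebra B' B := β.symm.toRingHom.toAlgebra
    letI : Algebra A' B := ((algebraMap A B).comp α.symm.toRingHom).toAlgebra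
    haveI : IsScalarTower A' A B := .of_algebraMap_eq fun a => rfl
    haveI : IsScalarTower A' B' B := .of_algebraMap_eq fun a => by
      show algebraMap A B (α.symm a) = β.symm (algebraMap A' B' a)
      refine (β.symm_apply_eq.mpr ?_).symm
      show algebraMap A' B' a = algebraMap B B' (algebraMap A B (α.symm a))
      rw [← IsScalarTower.algebraMap_apply, IsScalarTower.algebraMap_apply A A' B']
      exact congrArg _ (α.apply_symm_apply a).symm
    refine Function.LeftInverse.injective (g := PP16.tensorMap A' B' A B) fun x => ?_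
    induction x using TensorProduct.induction_on with
    | zero => simp
    | tmul b c =>
      rw [PP16.tensorMap_tmul, PP16.tensorMap_tmul]
      exact congrArg₂ (fun p q => p ⊗ₜ[A] q) (β.symm_apply_apply b) (β.symm_apply_apply c)
    | add x y hx hy => simp [map_add, hx, hy]
  · intro y
    induction y using TensorProduct.induction_on with
    | zero => exact ⟨0, map_zero _⟩
    | tmul b c =>
      obtain ⟨b, rfl⟩ := hB.2 b
      obtain ⟨c, rfl⟩ := hB.2 c
      exact ⟨b ⊗ₜ c, PP16.tensorMap_tmul _ _ _ _ b c⟩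
    | add x y hx hy =>
      obtain ⟨a, rfl⟩ := hx
      obtain ⟨a', rfl⟩ := hy
      exact ⟨a + a', map_add _ _ _⟩

open scoped TensorProduct in
theorem map_bijective (n : ℕ) (A B A' B' : Type u) [CommRing A] [CommRing B] [Algebra A B]
    [CommRing A'] [CommRing B'] [Algebra A' B'] [Algebra A A'] [Algebra B B'] [Algebra A B']
    [IsScalarTower A A' B'] [IsScalarTower A B B']
    (hA : Function.Bijective (algebraMap A A')) (hB : Function.Bijective (algebraMap B B')) :
    Function.Bijective (PP16.map n A B A' B') := by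
  have hT := tensorMap_bijective A B A' B' hA hB
  have hI : (KaehlerDifferential.ideal A B).map (PP16.tensorMap A B A' B') = KaehlerDifferential.ideal A' B' := by
    refine le_antisymm (PP16.ideal_map_tensorMap_le A B A' B') ?_
    rw [← KaehlerDifferential.span_range_eq_ideal A' B', Ideal.span_le]
    rintro _ ⟨s, rfl⟩
    obtain ⟨s, rfl⟩ := hB.2 s
    have h := Ideal.mem_map_of_mem (PP16.tensorMap A B A' B')
      (KaehlerDifferential.one_smul_sub_smul_one_mem_ideal A s)
    rw [map_sub, PP16.tensorMap_tmul, PP16.tensorMap_tmul, map_one] at h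
    exact h
  refine ⟨(injective_iff_map_eq_zero _).2 fun x hx => ?_, fun y => ?_⟩
  · obtain ⟨x, rfl⟩ := Ideal.Quotient.mk_surjective x
    rw [PP16.map_mk, Ideal.Quotient.eq_zero_iff_mem, ← hI, ← Ideal.map_pow] at hx
    rw [Ideal.Quotient.eq_zero_iff_mem]
    obtain ⟨z, hz, hzx⟩ := (Ideal.mem_map_iff_of_surjective _ hT.2).1 hx
    exact hT.1 hzx ▸ hz
  · obtain ⟨y, rfl⟩ := Ideal.Quotient.mk_surjective y
    obtain ⟨x, rfl⟩ := hT.2 y
    exact ⟨Ideal.Quotient.mk _ x, PP16.map_mk _ _ _ _ _ x⟩

/-- Let A → B be a ring homomorphism, X = Spec B, S = Spec A with f : X ⟶ S the induced morphism, and n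
a natural number; identify B with the ring of global functions on X through the canonical
isomorphism. If ψ : B ⊗_A B → Γ(X, P^n_{X/S}) is the additive map with ψ(b ⊗ b') = b · d^n(b') for
all b, b' in B, then ψ is surjective with kernel the (n+1)-st power of the kernel I of the
multiplication map B ⊗_A B → B. -/
theorem result (A B : Type u) [CommRing A] [CommRing B] [Algebra A B] (n : ℕ)
    (ψ : TensorProduct A B B →+
      Γ(PrinPart.P (Spec.map (CommRingCat.ofHom (algebraMap A B))) n, (⊤ : (Spec (CommRingCat.of B)).Opens)))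
    (hψ : ∀ b b' : B, ψ (b ⊗ₜ[A] b') =
      (Scheme.ΓSpecIso (CommRingCat.of B)).inv b •
        PrinPart.dn (Spec.map (CommRingCat.ofHom (algebraMap A B))) n ⊤
          ((Scheme.ΓSpecIso (CommRingCat.of B)).inv b')) :
    Function.Surjective ψ ∧ ψ.ker = (KaehlerDifferential.ideal A B ^ (n + 1)).toAddSubgroup := by
  classical
  let f := Spec.map (CommRingCat.ofHom (algebraMap A B))
  let X := Spec (CommRingCat.of B)
  let S := Spec (CommRingCat.of A)
  let V : S.affineOpens := ⟨⊤, isAffineOpen_top S⟩
  let U : X.affineOpens := ⟨⊤, isAffineOpen_top X⟩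
  have e : U.1 ≤ f ⁻¹ᵁ V.1 := le_top
  let β : B →+* Γ(X, U.1) := (Scheme.ΓSpecIso (CommRingCat.of B)).inv.hom
  let α : A →+* Γ(S, V.1) := (Scheme.ΓSpecIso (CommRingCat.of A)).inv.hom
  have hαb : Function.Bijective α :=
    ConcreteCategory.bijective_of_isIso (Scheme.ΓSpecIso (CommRingCat.of A)).inv
  have hβb : Function.Bijective β :=
    ConcreteCategory.bijective_of_isIso (Scheme.ΓSpecIso (CommRingCat.of B)).inv
  let i₁ : Algebra Γ(S, V.1) Γ(X, U.1) := (f.appLE V.1 U.1 e).hom.toAlgebra
  let i₂ : Algebra A Γ(S, V.1) := α.toAlgebra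
  let i₃ : Algebra B Γ(X, U.1) := β.toAlgebra
  let i₄ : Algebra A Γ(X, U.1) := (β.comp (algebraMap A B)).toAlgebra
  have hsq : ∀ a : A, f.appLE V.1 U.1 e (α a) = β (algebraMap A B a) := fun a =>
    Eq.trans (by show f.appLE ⊤ ⊤ e (α a) = f.app ⊤ (α a); rw [Scheme.Hom.app_eq_appLE]; rfl)
      (congr($(Scheme.ΓSpecIso_inv_naturality (CommRingCat.ofHom (algebraMap A B))) a)).symm
  have t₁ : IsScalarTower A Γ(S, V.1) Γ(X, U.1) := .of_algebraMap_eq fun a => (hsq a).symm
  have t₂ : IsScalarTower A B Γ(X, U.1) := .of_algebraMap_eq fun a => rfl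
  -- the tensor map is bijective
  have hT : Function.Bijective (PP16.map n A B Γ(S, V.1) Γ(X, U.1)) :=
    map_bijective n A B Γ(S, V.1) Γ(X, U.1) hαb hβb
  obtain ⟨-, ε, hε1, hε2⟩ := H1PP.exists_chart_equiv f n V U e rfl
  -- trivialization of the pullback of the structure sheaf
  let φ := (PrinPart.pr2 f n).toRingCatSheafHom
  let τ : (Scheme.Modules.pullback (PrinPart.pr2 f n)).obj (Coh.structureModule X) ⟶
      Coh.structureModule (PrinPart.nbhd f n) := SheafOfModules.pullbackObjUnitToUnit φ
  have hτ : IsIso τ := inferInstanceAs (IsIso (SheafOfModules.pullbackObjUnitToUnit φ))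
  have hη : ∀ (b : Γ(X, U.1)), τ.app (PrinPart.pr2 f n ⁻¹ᵁ U.1)
      (OmegaSh.pullSect (PrinPart.pr2 f n) (Coh.structureModule X) U.1 (OmegaSh.strSect X U.1 b)) =
      OmegaSh.strSect _ _ ((PrinPart.pr2 f n).app U.1 b) := by
    intro b
    have h : (Scheme.Modules.pullbackPushforwardAdjunction (PrinPart.pr2 f n)).unit.app (Coh.structureModule X) ≫
        (Scheme.Modules.pushforward (PrinPart.pr2 f n)).map τ = SheafOfModules.unitToPushforwardObjUnit φ :=
      (Adjunction.homEquiv_unit (Scheme.Modules.pullbackPushforwardAdjunction (PrinPart.pr2 f n)) _ _ τ).symm.trans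
        (SheafOfModules.pullbackPushforwardAdjunction_homEquiv_pullbackObjUnitToUnit φ)
    exact congr($(congrArg (fun k => Scheme.Modules.Hom.app k U.1) h) (OmegaSh.strSect X U.1 b))
  let W := PrinPart.pr1 f n ⁻¹ᵁ U.1
  have hbij : Function.Bijective (τ.app W) :=
    ConcreteCategory.bijective_of_isIso (τ.app W)
  let tr : Γ(PrinPart.P f n, U.1) →+ Γ(PrinPart.nbhd f n, W) :=
    { toFun := fun σ => τ.app W (H1PP.toPull f n (Coh.structureModule X) U.1 σ)
      map_zero' := map_zero _
      map_add' := fun x y => map_add _ _ _ }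
  have htr : ∀ a b : Γ(X, U.1), tr (a • PrinPart.dn f n U.1 b) =
      H1PP.p1 f n U.1 a * H1PP.p2 f n U.1 b := by
    intro a b
    show τ.app W (H1PP.p1 f n U.1 a • H1PP.toPull f n (Coh.structureModule X) U.1 (PrinPart.dn f n U.1 b)) = _
    rw [Scheme.Modules.Hom.app_smul]
    have h1 : τ.app W (H1PP.toPull f n (Coh.structureModule X) U.1 (PrinPart.dn f n U.1 b)) =
        OmegaSh.strSect _ W (H1PP.p2 f n U.1 b) := by
      refine Eq.trans (congr($((Scheme.Modules.Hom.mapPresheaf τ).naturality (homOfLE (PrinPart.preimage_pr1 f n U.1).le).op)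
        (OmegaSh.pullSect (PrinPart.pr2 f n) (Coh.structureModule X) U.1 (OmegaSh.strSect X U.1 b)))) ?_
      exact congrArg ((Coh.structureModule (PrinPart.nbhd f n)).presheaf.map
        (homOfLE (PrinPart.preimage_pr1 f n U.1).le).op) (hη b)
    exact congrArg (fun z => H1PP.p1 f n U.1 a • z) h1
  have key : ∀ x : TensorProduct A B B, tr (ψ x) =
      ε (PP16.map n A B Γ(S, V.1) Γ(X, U.1) (Ideal.Quotient.mk _ x)) := by
    intro x
    induction x using TensorProduct.induction_on with
    | zero => simp
    | tmul b c =>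
      rw [hψ b c]
      have h2 : (Ideal.Quotient.mk (KaehlerDifferential.ideal A B ^ (n + 1)) (b ⊗ₜ[A] c)) =
          algebraMap B (PP16.P n A B) b * PP16.dn n A B c := by
        show _ = Ideal.Quotient.mk _ (b ⊗ₜ[A] (1 : B)) * Ideal.Quotient.mk _ ((1 : B) ⊗ₜ[A] c)
        rw [← map_mul, Algebra.TensorProduct.tmul_mul_tmul, mul_one, one_mul]
      rw [h2, map_mul, map_mul, PP16.map_algebraMap, PP16.map_dn, hε1, hε2]
      exact htr (β b) (β c)
    | add x y hx hy => simp [map_add, hx, hy]
  have htrb : Function.Bijective tr := hbij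
  constructor
  · intro σ
    obtain ⟨y, hy⟩ := (ε.surjective.comp hT.2).comp Ideal.Quotient.mk_surjective (tr σ)
    exact ⟨y, htrb.1 ((key y).trans hy)⟩
  · ext x
    rw [AddMonoidHom.mem_ker, Submodule.mem_toAddSubgroup, ← Ideal.Quotient.eq_zero_iff_mem]
    constructor
    · intro h
      have := key x
      rw [h, map_zero] at this
      exact hT.1 ((ε.injective (this.symm.trans (map_zero ε).symm)).trans (map_zero _).symm)
    · intro h
      have := key x
      rw [h, map_zero, map_zero] at this
      exact htrb.1 (this.trans (map_zero tr).symm)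

end Groth.Agent.S5972
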