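import Groth.Statements.S5973
import Groth.Agent.OmegaLib.IdealMod
import Groth.Agent.FittX.Sheaf
import Groth.Agent.QCoh.Qcqs
import Groth.Agent.QCoh.FT
import Groth.Agent.QCoh.Pullback
import Groth.Agent.QCoh.Tilde
import Groth.Agent.PnCoh.Unit
import Mathlib

set_option backward.isDefEq.respectTransparency false
set_option linter.style.haveILetI false

set_option autoImplicit false
universe u
open CategoryTheory CategoryTheory.Limits AlgebraicGeometry TopologicalSpace Opposite
open Nrm16

namespace Groth.Agent.S5973

/-- Let f : Y ⟶ X be a closed immersion which is locally of finite presentation. Then for every n the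
n-th graded piece Gr_n(f) = I^n/I^(n+1) of the ideal of f, as an O_Y-module, is quasi-coherent of
finite type. (The published statement allows any immersion locally of finite presentation; this row
states the case of a closed immersion.) -/
theorem result {Y X : Scheme.{u}} (f : Y ⟶ X) [IsClosedImmersion f]
    [LocallyOfFinitePresentation f] (n : ℕ) :
    Coh.IsCoh (PrinPart.grMod f n) := by
  classical
  let K := f.ker ^ n
  have hq : Coh.IsQCoh (ClSub.idealMod K) :=
    QCoh.isQCoh_kernel (PnCoh.isQCoh_structureModule X)
      (QCoh.isQCoh_pushforward K.subschemeι (PnCoh.isQCoh_structureModule K.subscheme)) _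
  have hfg : ∀ U : X.affineOpens, (K.ideal U).FG := by
    intro U
    have h1 : (f.ker.ideal U).FG := by
      rw [Scheme.Hom.ker_apply]
      algebraize [(f.app U.1).hom]
      haveI : Algebra.FinitePresentation Γ(X, U.1) Γ(Y, f ⁻¹ᵁ U.1) := by
        show (f.app U.1).hom.FinitePresentation
        rw [Scheme.Hom.app_eq_appLE]
        exact f.finitePresentation_appLE U.2 (U.2.preimage f) le_rfl
      exact Algebra.FinitePresentation.ker_fG_of_surjective (Algebra.ofId Γ(X, U.1) Γ(Y, f ⁻¹ᵁ U.1))
        (f.app_surjective U.1 U.2)
    show ((f.ker ^ n).ideal U).FG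
    rw [Scheme.IdealSheafData.ideal_pow, Pi.pow_apply]
    exact Ideal.FG.pow h1
  have hft : CohB1.IsFT (ClSub.idealMod K) :=
    QCoh.isFT_of_finite hq (fun U : X.affineOpens => U.1) (iSup_affineOpens_eq_top X)
      (fun U => U.2) fun U => by
      let l : Γ(ClSub.idealMod K, U.1) →ₗ[Γ(X, U.1)] K.ideal U :=
        { toFun := fun k => ⟨OmegaSh.idealSect K U.1 k, OmegaLib.idealSect_mem K U k⟩
          map_add' := fun a b => Subtype.ext (map_add _ a b)
          map_smul' := fun r k => Subtype.ext (OmegaLib.idealSect_smul K U.1 r k) }
      have hl : Function.Bijective l :=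
        ⟨fun a b h => OmegaLib.idealSect_injective K U.1 (congrArg Subtype.val h),
          fun x => (OmegaLib.exists_of_mem K U x.1 x.2).imp fun k hk => Subtype.ext hk⟩
      haveI : Module.Finite Γ(X, U.1) (K.ideal U) := Module.Finite.iff_fg.mpr (hfg U)
      exact Module.Finite.equiv (LinearEquiv.ofBijective l hl).symm
  exact ⟨QCoh.isQCoh_pullback f hq, FittX.isFT_pullback f hq hft⟩

end Groth.Agent.S5973
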