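import Groth.Statements.S5977
import Groth.Statements.S5977
import Groth.Agent.PPSheaf.Gen

set_option autoImplicit false
universe u
open CategoryTheory CategoryTheory.Limits AlgebraicGeometry TopologicalSpace Opposite
open Nrm16

namespace Groth.Agent.S5977

/-- Let f : Y ⟶ Z be a morphism and j : X ⟶ Y a closed immersion, and let φ : j^* P^n_{Y/Z} ⟶ P^n_{X/Z}
be the canonical O_X-linear map of sheaves of principal parts of order n, the one sending the
pullback of d^n b to d^n (j♯ b). Then φ is an epimorphism. (The published statement also identifies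
the kernel of φ as the ideal generated by the pullback of d^n of the ideal of j; this row states the
surjectivity.) -/
theorem result {X Y Z : Scheme.{u}} (f : Y ⟶ Z) (j : X ⟶ Y) [IsClosedImmersion j] (n : ℕ)
    (φ : (Scheme.Modules.pullback j).obj (PrinPart.P f n) ⟶ PrinPart.P (j ≫ f) n)
    (hφ : PrinPart.IsPMap f (j ≫ f) j n φ) :
    Epi φ := by
  refine ⟨fun {G} a b hab => PPSheaf.hom_ext_dP (j ≫ f) n (Coh.structureModule X) G fun U t => ?_⟩
  refine TopCat.Presheaf.section_ext ⟨G.presheaf, G.isSheaf⟩ U _ _ fun x hx => ?_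
  obtain ⟨β₀, hβ₀⟩ := (j.stalkMap_surjective x)
    (X.presheaf.germ U x hx (OmegaSh.fnSect X U t))
  obtain ⟨W, hW, β, rfl⟩ := Y.presheaf.exists_germ_eq β₀
  rw [Scheme.Hom.germ_stalkMap_apply] at hβ₀
  obtain ⟨V, hxV, i₁, i₂, hV⟩ := X.presheaf.germ_eq x (show x ∈ j ⁻¹ᵁ W from hW) hx _ _ hβ₀
  have h := congrArg (fun k => Scheme.Modules.Hom.app k (j ⁻¹ᵁ W)
    (OmegaSh.pullSect j (PrinPart.P f n) W (PrinPart.dn f n W β))) hab
  dsimp only at h
  rw [Scheme.Modules.Hom.comp_app, Scheme.Modules.Hom.comp_app, ConcreteCategory.comp_apply,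
    ConcreteCategory.comp_apply, hφ W β] at h
  have key : ∀ c : PrinPart.P (j ≫ f) n ⟶ G,
      G.presheaf.map i₂.op (c.app U (PrinPart.dP (j ≫ f) n (Coh.structureModule X) U t)) =
        G.presheaf.map i₁.op (c.app (j ⁻¹ᵁ W) (PrinPart.dn (j ≫ f) n (j ⁻¹ᵁ W) (j.app W β))) := by
    intro c
    have e : (Coh.structureModule X).presheaf.map (homOfLE i₂.le).op t =
        (Coh.structureModule X).presheaf.map (homOfLE i₁.le).op (OmegaSh.strSect X _ (j.app W β)) := hV.symm
    rw [← Nrm6.hom_app_res c i₂, ← Nrm6.hom_app_res c i₁]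
    congr 1
    exact ((PrinPart.dP_map (j ≫ f) n (Coh.structureModule X) i₂.le t).symm.trans (congrArg _ e)).trans
      (PrinPart.dP_map (j ≫ f) n (Coh.structureModule X) i₁.le (OmegaSh.strSect X _ (j.app W β)))
  rw [← G.presheaf.germ_res_apply i₂ x hxV, ← G.presheaf.germ_res_apply i₂ x hxV, key a, key b, h]

end Groth.Agent.S5977
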