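import Groth.Statements.S5978
import Groth.Agent.H1PP.Univ
import Groth.Agent.OmegaUniv.Universal
import Mathlib

set_option backward.isDefEq.respectTransparency false
set_option linter.style.haveILetI false
set_option maxHeartbeats 1000000

set_option autoImplicit false
universe u
open CategoryTheory CategoryTheory.Limits AlgebraicGeometry TopologicalSpace Opposite
open Nrm16

namespace Groth.Agent.S5978

/-- Let f : X ⟶ S be a quasi-separated morphism, Ω_{X/S} its sheaf of differentials (the conormal sheaf
of the diagonal) with its derivation d, e : O_X ⟶ P^1_{X/S} the O_X-linear map s ↦ s·1 and ι :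
Ω_{X/S} ⟶ P^1_{X/S} the O_X-linear map with ι(d s) = d^1 s − s·1 for every local function s. Then
the map O_X ⊕ Ω_{X/S} ⟶ P^1_{X/S} induced by e and ι is an isomorphism of O_X-modules for the left
structure of P^1_{X/S}; in other words Ω_{X/S} is identified with the augmentation ideal of
P^1_{X/S} and d s = d^1 s − s. (The published text takes this as the definition of Ω_{X/S} for every
f; here Ω_{X/S} is the conormal sheaf of the diagonal, formed for quasi-separated f, and the
identification is stated.) -/
theorem result {X S : Scheme.{u}} (f : X ⟶ S) [QuasiSeparated f]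
    (e : Coh.structureModule X ⟶ PrinPart.P f 1)
    (he : ∀ (U : X.Opens) (s : Γ(X, U)), e.app U (OmegaSh.strSect X U s) = s • PrinPart.dn f 1 U 1)
    (ι : Omega.sheaf f ⟶ PrinPart.P f 1)
    (hι : ∀ (U : X.Opens) (s : Γ(X, U)),
      ι.app U ((OmegaSh.dOmega f).app U s) = PrinPart.dn f 1 U s - s • PrinPart.dn f 1 U 1) :
    IsIso (coprod.desc e ι) := by
  classical
  let O := Coh.structureModule X
  let W := O ⊞ Omega.sheaf f
  let d := OmegaSh.dOmega f
  let D : O.presheaf ⟶ W.presheaf :=
    { app := fun U => AddCommGrpCat.ofHom (AddMonoidHom.mk'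
        (fun t => (biprod.inl : O ⟶ W).app U.unop t +
          (biprod.inr : Omega.sheaf f ⟶ W).app U.unop (d.app U.unop (show Γ(X, U.unop) from t)))
        fun a b => by
          erw [map_add, map_add, map_add]
          exact add_add_add_comm _ _ _ _)
      naturality := fun U V i => by
        ext t
        show (biprod.inl : O ⟶ W).app V.unop (O.presheaf.map i t) +
            (biprod.inr : Omega.sheaf f ⟶ W).app V.unop (d.app V.unop (X.presheaf.map i (show Γ(X, U.unop) from t))) =
          W.presheaf.map i ((biprod.inl : O ⟶ W).app U.unop t +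
            (biprod.inr : Omega.sheaf f ⟶ W).app U.unop (d.app U.unop (show Γ(X, U.unop) from t)))
        rw [map_add]
        refine congrArg₂ (· + ·) (congr($((Scheme.Modules.Hom.mapPresheaf (biprod.inl : O ⟶ W)).naturality i) t)) ?_
        refine Eq.trans (congrArg _ (Synt29.OmegaStalk.app_res _ d i.unop (show Γ(X, U.unop) from t))) ?_
        exact congr($((Scheme.Modules.Hom.mapPresheaf (biprod.inr : Omega.sheaf f ⟶ W)).naturality i)
          (d.app U.unop (show Γ(X, U.unop) from t))) }
  have hD : ∀ (U : X.Opens) (s : Γ(X, U)), D.app (op U) (OmegaSh.strSect X U s) =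
      (biprod.inl : O ⟶ W).app U (OmegaSh.strSect X U s) +
        (biprod.inr : Omega.sheaf f ⟶ W).app U (d.app U s) := fun U s => rfl
  have hmul : ∀ (U : X.Opens) (r s : Γ(X, U)), D.app (op U) (r • OmegaSh.strSect X U s) =
      r • D.app (op U) (OmegaSh.strSect X U s) + (biprod.inr : Omega.sheaf f ⟶ W).app U (s • d.app U r) := by
    intro U r s
    rw [← OmegaSh.strSect_mul, hD, hD, Synt29.OmegaStalk.app_mul, map_add, OmegaSh.strSect_mul,
      Scheme.Modules.Hom.app_smul, Scheme.Modules.Hom.app_smul, smul_add, add_assoc]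
  have hstr : ∀ (U : X.Opens) (t : Γ(O, U)), ∃ s : Γ(X, U), t = OmegaSh.strSect X U s := fun U t => ⟨t, rfl⟩
  let un : ∀ U : X.Opens, Γ(O, U) → Γ(X, U) := fun U t => t
  have hmul' : ∀ (U : X.Opens) (r : Γ(X, U)) (t : Γ(O, U)), D.app (op U) (r • t) =
      r • D.app (op U) t + (biprod.inr : Omega.sheaf f ⟶ W).app U (un U t • d.app U r) :=
    fun U r t => hmul U r t
  have hlin : H1PP.BaseLinear f D := by
    intro V s U hU t
    rw [hmul']
    have h0 : d.app U (X.presheaf.map (homOfLE hU).op (f.app V s)) = 0 := by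
      rw [show (homOfLE hU).op = (homOfLE hU).op from rfl, Synt29.OmegaStalk.app_res _ d (homOfLE hU),
        Synt29.OmegaStalk.app_base, map_zero]
    rw [h0, smul_zero, map_zero, add_zero]
  have halt : H1PP.AltVanish 1 D := by
    intro U a t
    have hu : (Finset.univ : Finset (Finset (Fin (1 + 1)))) = {∅, {0}, {1}, {0, 1}} := by decide
    rw [hu, Finset.sum_insert (by decide), Finset.sum_insert (by decide), Finset.sum_insert (by decide),
      Finset.sum_singleton]
    have c0 : (∅ : Finset (Fin (1 + 1)))ᶜ = {0, 1} := by decide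
    have c1 : ({0} : Finset (Fin (1 + 1)))ᶜ = {1} := by decide
    have c2 : ({1} : Finset (Fin (1 + 1)))ᶜ = {0} := by decide
    have c3 : ({0, 1} : Finset (Fin (1 + 1)))ᶜ = ∅ := by decide
    rw [c0, c1, c2, c3, Finset.prod_pair (by decide : (0 : Fin (1 + 1)) ≠ 1)]
    simp only [Finset.card_empty, Finset.card_singleton, Finset.card_pair (by decide : (0 : Fin (1 + 1)) ≠ 1),
      Finset.prod_empty, Finset.prod_singleton, pow_zero, pow_one, one_smul, neg_one_sq, neg_smul]
    rw [hmul', hmul', hmul', Synt29.OmegaStalk.app_mul]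
    simp only [Scheme.Modules.Hom.app_smul, map_add, smul_add, smul_smul]
    rw [mul_comm (un U t) (a 0), mul_comm (un U t) (a 1)]
    module
  obtain ⟨v, hv⟩ := H1PP.isDiffOpLE_of_altVanish (f := f) (n := 1) hlin halt
  have hvd : ∀ (U : X.Opens) (s : Γ(X, U)), v.app U (PrinPart.dn f 1 U s) =
      (biprod.inl : O ⟶ W).app U (OmegaSh.strSect X U s) +
        (biprod.inr : Omega.sheaf f ⟶ W).app U (d.app U s) := fun U s => (hv U _).symm.trans (hD U s)
  have hv1 : ∀ U : X.Opens, v.app U (PrinPart.dn f 1 U 1) = (biprod.inl : O ⟶ W).app U (OmegaSh.strSect X U 1) := by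
    intro U
    rw [hvd]
    have h1 : d.app U 1 = 0 := by
      have h := Synt29.OmegaStalk.app_mul _ d U 1 1
      rw [one_mul, one_smul] at h
      exact left_eq_add.mp h
    rw [h1, map_zero, add_zero]
  have h1 : e ≫ v = biprod.inl := by
    refine Scheme.Modules.hom_ext _ _ fun U => ?_
    ext t
    obtain ⟨s, hs⟩ := hstr U t
    rw [hs]
    show v.app U (e.app U (OmegaSh.strSect X U s)) = _
    rw [he, Scheme.Modules.Hom.app_smul, hv1, ← Scheme.Modules.Hom.app_smul, ← OmegaSh.strSect_mul, mul_one]
  have h2 : ι ≫ v = biprod.inr := by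
    have key : ∀ (U : X.Opens) (s : Γ(X, U)), (ι ≫ v).app U (d.app U s) =
        (biprod.inr : Omega.sheaf f ⟶ W).app U (d.app U s) := by
      intro U s
      show v.app U (ι.app U (d.app U s)) = _
      rw [hι, map_sub, Scheme.Modules.Hom.app_smul, hvd, hv1, ← Scheme.Modules.Hom.app_smul,
        ← OmegaSh.strSect_mul, mul_one, add_sub_cancel_left]
    refine (OmegaUniv.isUniversal_dOmega f W (d.postcomp (biprod.inr : Omega.sheaf f ⟶ W).val)).unique ?_ rfl
    refine PresheafOfModules.Derivation.ext ?_
    funext U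
    exact AddMonoidHom.ext fun s => key U.unop s
  have h3 : v ≫ biprod.desc e ι = 𝟙 _ := by
    refine PPSheaf.hom_ext_dP f 1 (Coh.structureModule X) _ fun U t => ?_
    obtain ⟨s, hs⟩ := hstr U t
    rw [hs]
    show (biprod.desc e ι).app U (v.app U (PrinPart.dn f 1 U s)) = PrinPart.dn f 1 U s
    rw [hvd, map_add]
    have a1 : (biprod.desc e ι).app U ((biprod.inl : O ⟶ W).app U (OmegaSh.strSect X U s)) =
        e.app U (OmegaSh.strSect X U s) :=
      congrArg (fun k : O ⟶ PrinPart.P f 1 => k.app U (OmegaSh.strSect X U s)) (biprod.inl_desc e ι)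
    have a2 : (biprod.desc e ι).app U ((biprod.inr : Omega.sheaf f ⟶ W).app U (d.app U s)) =
        ι.app U (d.app U s) :=
      congrArg (fun k : Omega.sheaf f ⟶ PrinPart.P f 1 => k.app U (d.app U s)) (biprod.inr_desc e ι)
    rw [a1, a2, he, hι]
    exact add_sub_cancel _ _
  have h4 : biprod.desc e ι ≫ v = 𝟙 _ := by
    refine biprod.hom_ext' _ _ ?_ ?_
    · rw [biprod.inl_desc_assoc, h1, Category.comp_id]
    · rw [biprod.inr_desc_assoc, h2, Category.comp_id]
  haveI : IsIso (biprod.desc e ι) := ⟨v, h4, h3⟩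
  haveI : IsIso (coprod.desc (biprod.inl : O ⟶ W) biprod.inr) :=
    ⟨biprod.desc coprod.inl coprod.inr, by apply coprod.hom_ext <;> simp, by apply biprod.hom_ext' <;> simp⟩
  have : coprod.desc e ι = coprod.desc (biprod.inl : O ⟶ W) biprod.inr ≫ biprod.desc e ι := by
    apply coprod.hom_ext
    · rw [coprod.inl_desc, ← Category.assoc]
      erw [coprod.inl_desc, biprod.inl_desc]
    · rw [coprod.inr_desc, ← Category.assoc]
      erw [coprod.inr_desc, biprod.inr_desc]
  rw [this]
  infer_instance

end Groth.Agent.S5978
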