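import Groth.Statements.S5980
import Groth.Agent.Synt29.ConormalStalk
import Mathlib

set_option backward.isDefEq.respectTransparency false
set_option backward.isDefEq.respectTransparency.types false
set_option linter.style.haveILetI false

set_option autoImplicit false
universe u
open CategoryTheory CategoryTheory.Limits AlgebraicGeometry TopologicalSpace Opposite
open Nrm16

namespace Groth.Agent.S5980

open scoped TensorProduct in
theorem smul_top_eq_top {R S : CommRingCat.{u}} (φ : R →+* S) (hφ : Function.Surjective φ) (M : ModuleCat.{u} R)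
    (h : Subsingleton ((ModuleCat.extendScalars φ).obj M)) :
    (RingHom.ker φ • ⊤ : Submodule R M) = ⊤ := by
  letI := φ.toAlgebra
  haveI : Subsingleton ((S : Type u) ⊗[R] M) := h
  let e0 : (R ⧸ RingHom.ker (algebraMap R S)) ≃ₐ[R] S :=
    Ideal.quotientKerAlgEquivOfSurjective (f := Algebra.ofId R S) hφ
  haveI : Subsingleton (M ⧸ (RingHom.ker (algebraMap R S) • ⊤ : Submodule R M)) :=
    ((TensorProduct.congr e0.symm.toLinearEquiv (LinearEquiv.refl R M)).trans
      (TensorProduct.quotTensorEquivQuotSMul M _)).toEquiv.symm.subsingleton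
  exact eq_top_iff.mpr fun x _ => (Submodule.Quotient.mk_eq_zero _).mp (Subsingleton.elim _ _)

open Groth.Agent.Synt29.ConormalStalk Groth.Agent.Synt29 OmegaStalk in
theorem germ_eq_of_gm_eq {Y X : Scheme.{u}} (j : Y ⟶ X) {x : X} {U₁ U₂ : X.Opens} (h₁ : x ∈ U₁) (h₂ : x ∈ U₂)
    (k₁ : Γ(ClSub.idealMod j.ker, U₁)) (k₂ : Γ(ClSub.idealMod j.ker, U₂))
    (h : gm (ClSub.idealMod j.ker) h₁ k₁ = gm (ClSub.idealMod j.ker) h₂ k₂) :
    X.presheaf.germ U₁ x h₁ (OmegaSh.idealSect j.ker U₁ k₁) =
      X.presheaf.germ U₂ x h₂ (OmegaSh.idealSect j.ker U₂ k₂) := by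
  obtain ⟨W, hW, i₁, i₂, e⟩ := (ClSub.idealMod j.ker).presheaf.germ_eq x h₁ h₂ k₁ k₂ h
  rw [← X.presheaf.germ_res_apply i₁ x hW, ← X.presheaf.germ_res_apply i₂ x hW]
  rw [show i₁ = homOfLE (leOfHom i₁) from rfl, show i₂ = homOfLE (leOfHom i₂) from rfl] at e ⊢
  rw [← OmegaLib.idealSect_map, ← OmegaLib.idealSect_map, e]

open Groth.Agent.Synt29.ConormalStalk Groth.Agent.Synt29 OmegaStalk in
open scoped TensorProduct in
set_option maxHeartbeats 1000000 in
theorem ker_sq {Y X : Scheme.{u}} (j : Y ⟶ X) [IsImmersion j] [QuasiCompact j] (y : Y)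
    (hN : Subsingleton ((Omega.conormal j).presheaf.stalk y)) :
    RingHom.ker (j.stalkMap y).hom = RingHom.ker (j.stalkMap y).hom ^ 2 := by
  let R := X.presheaf.stalk (j y)
  let J := RingHom.ker (j.stalkMap y).hom
  have htop : (J • ⊤ : Submodule (X.presheaf.stalk (j y)) (St (ClSub.idealMod j.ker) (j y))) = ⊤ := by
    refine smul_top_eq_top (j.stalkMap y).hom (j.stalkMap_surjective y) (St (ClSub.idealMod j.ker) (j y)) ?_
    exact @Function.Injective.subsingleton _ _ _
      (ConcreteCategory.bijective_of_isIso ((KFlatLib.stalkPullbackIso j y).app (ClSub.idealMod j.ker)).inv).1 hN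
  refine le_antisymm (fun a ha => ?_) (Ideal.pow_le_self two_ne_zero)
  obtain ⟨m, hm⟩ := exists_rep j (RingHom.mem_ker.mp ha)
  have hmem : m ∈ (J • ⊤ : Submodule (X.presheaf.stalk (j y)) (St (ClSub.idealMod j.ker) (j y))) :=
    htop.ge trivial
  have key : ∀ a, Rep j (j y) m a → a ∈ J ^ 2 := by
    clear hm
    refine Submodule.smul_induction_on hmem ?_ ?_
    · intro r hr z _
      intro a hra
      obtain ⟨b, hb⟩ := rep_exists j (j y) z
      have hb' := rep_smul j hb r
      obtain ⟨U₁, hy₁, k₁, hk₁, rfl⟩ := hra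
      obtain ⟨U₂, hy₂, k₂, hk₂, h₂⟩ := hb'
      have := germ_eq_of_gm_eq j hy₁ hy₂ k₁ k₂ (hk₁.trans hk₂.symm)
      rw [this, h₂, sq]
      exact Ideal.mul_mem_mul hr (RingHom.mem_ker.mpr (rep_mem j hb))
    · intro z w hz hw
      intro a hra
      obtain ⟨b, hb⟩ := rep_exists j (j y) z
      obtain ⟨c, hc⟩ := rep_exists j (j y) w
      obtain ⟨U₁, hy₁, k₁, hk₁, rfl⟩ := hra
      obtain ⟨U₂, hy₂, k₂, hk₂, h₂⟩ := rep_add j hb hc
      rw [germ_eq_of_gm_eq j hy₁ hy₂ k₁ k₂ (hk₁.trans hk₂.symm), h₂]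
      exact add_mem (hz b hb) (hw c hc)
  exact key a hm

set_option maxHeartbeats 1000000 in
theorem exists_open {Y X : Scheme.{u}} (j : Y ⟶ X) [IsImmersion j] [LocallyOfFinitePresentation j] (y : Y)
    (hJ : RingHom.ker (j.stalkMap y).hom = RingHom.ker (j.stalkMap y).hom ^ 2) :
    ∃ U : Y.Opens, y ∈ U ∧ IsOpenImmersion (U.ι ≫ j) := by
  classical
  let g := j.liftCoborder
  have hfst : IsPullback (𝟙 Y) g j j.coborderRange.ι := by
    refine ⟨⟨by rw [Category.id_comp, j.liftCoborder_ι]⟩, ⟨PullbackCone.IsLimit.mk _ (fun s => s.fst)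
      (fun s => Category.comp_id _) (fun s => ?_) (fun s m h1 _ => ?_)⟩⟩
    · rw [← cancel_mono j.coborderRange.ι, Category.assoc, j.liftCoborder_ι, s.condition]
    · simpa using h1
  have hfp : LocallyOfFinitePresentation g := MorphismProperty.of_isPullback hfst ‹_›
  have hJg : RingHom.ker (g.stalkMap y).hom = RingHom.ker (g.stalkMap y).hom ^ 2 := by
    have hcomp : ∀ (k : Y ⟶ X) (_ : k = g ≫ j.coborderRange.ι),
        RingHom.ker (k.stalkMap y).hom = RingHom.ker (k.stalkMap y).hom ^ 2 →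
        RingHom.ker (g.stalkMap y).hom = RingHom.ker (g.stalkMap y).hom ^ 2 := by
      rintro k rfl h
      rw [Scheme.Hom.stalkMap_comp, CommRingCat.hom_comp, ← RingHom.comap_ker] at h
      let E := (asIso (j.coborderRange.ι.stalkMap (g y))).commRingCatIsoToRingEquiv
      have hE : (j.coborderRange.ι.stalkMap (g y)).hom = E.toRingHom := rfl
      rw [hE] at h
      have h' := congrArg (Ideal.map E.toRingHom) h
      rw [Ideal.map_pow] at h'
      have h3 := Ideal.map_comap_of_surjective E.toRingHom E.surjective (RingHom.ker (g.stalkMap y).hom)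
      exact (h3.symm.trans h').trans (congrArg (· ^ 2) h3)
    exact hcomp j j.liftCoborder_ι.symm hJ
  obtain ⟨W, hW, hyW, -⟩ := exists_isAffineOpen_mem_and_subset (x := g y) (U := ⊤) trivial
  let A := Γ((j.coborderRange : Scheme.{u}), W)
  let B := Γ(Y, g ⁻¹ᵁ W)
  let I := RingHom.ker (g.app W).hom
  have hIfg : I.FG := by
    algebraize [(g.app W).hom]
    haveI : Algebra.FinitePresentation Γ((j.coborderRange : Scheme.{u}), W) Γ(Y, g ⁻¹ᵁ W) := by
      show (g.app W).hom.FinitePresentation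
      rw [Scheme.Hom.app_eq_appLE]
      exact g.finitePresentation_appLE hW (hW.preimage g) le_rfl
    exact Algebra.FinitePresentation.ker_fG_of_surjective (Algebra.ofId Γ((j.coborderRange : Scheme.{u}), W) Γ(Y, g ⁻¹ᵁ W))
      (g.app_surjective W hW)
  letI := TopCat.Presheaf.algebra_section_stalk (j.coborderRange : Scheme.{u}).presheaf ⟨g y, hyW⟩
  letI := TopCat.Presheaf.algebra_section_stalk Y.presheaf (U := g ⁻¹ᵁ W) ⟨y, hyW⟩
  haveI := hW.isLocalization_stalk ⟨g y, hyW⟩
  haveI := (hW.preimage g).isLocalization_stalk ⟨y, hyW⟩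
  have hsq : ∀ a, g.stalkMap y ((j.coborderRange : Scheme.{u}).presheaf.germ W (g y) hyW a) =
      Y.presheaf.germ (g ⁻¹ᵁ W) y hyW (g.app W a) := fun a => Scheme.Hom.germ_stalkMap_apply g W y hyW a
  have hpc : ∀ a, a ∈ (hW.primeIdealOf ⟨g y, hyW⟩).asIdeal.primeCompl ↔
      IsUnit ((j.coborderRange : Scheme.{u}).presheaf.germ W (g y) hyW a) := fun a =>
    (IsLocalization.AtPrime.isUnit_to_map_iff _ (hW.primeIdealOf ⟨g y, hyW⟩).asIdeal a).symm
  have hker : RingHom.ker (g.stalkMap y).hom =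
      I.map ((j.coborderRange : Scheme.{u}).presheaf.germ W (g y) hyW).hom := by
    refine le_antisymm (fun c hc => ?_) (Ideal.map_le_iff_le_comap.mpr fun a ha => ?_)
    · obtain ⟨⟨a, s⟩, hs⟩ := IsLocalization.surj (hW.primeIdealOf ⟨g y, hyW⟩).asIdeal.primeCompl c
      have hs' : c * (j.coborderRange : Scheme.{u}).presheaf.germ W (g y) hyW s.1 =
          (j.coborderRange : Scheme.{u}).presheaf.germ W (g y) hyW a := hs
      have h1 : Y.presheaf.germ (g ⁻¹ᵁ W) y hyW (g.app W a) = 0 := by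
        rw [← hsq, ← hs', map_mul, RingHom.mem_ker.mp hc, zero_mul]
      obtain ⟨⟨t, ht⟩, hta⟩ := (IsLocalization.map_eq_zero_iff ((hW.preimage g).primeIdealOf ⟨y, hyW⟩).asIdeal.primeCompl
        (Y.presheaf.stalk y) (g.app W a)).mp h1
      obtain ⟨t', rfl⟩ := g.app_surjective W hW t
      have htu : IsUnit ((j.coborderRange : Scheme.{u}).presheaf.germ W (g y) hyW t') :=
        (isUnit_map_iff (g.stalkMap y).hom _).mp (hsq t' ▸
          IsLocalization.map_units (Y.presheaf.stalk y)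
            (⟨g.app W t', ht⟩ : ((hW.preimage g).primeIdealOf ⟨y, hyW⟩).asIdeal.primeCompl))
      have hmem : t' * a ∈ I := RingHom.mem_ker.mpr ((map_mul _ _ _).trans hta)
      have hgm := Ideal.mem_map_of_mem ((j.coborderRange : Scheme.{u}).presheaf.germ W (g y) hyW).hom hmem
      rw [map_mul] at hgm
      have hc' := hs'.symm ▸ (Ideal.unit_mul_mem_iff_mem _ htu).mp hgm
      exact (Ideal.mul_unit_mem_iff_mem _ ((hpc s.1).mp s.2)).mp hc'
    · show g.stalkMap y _ = 0
      rw [hsq, RingHom.mem_ker.mp ha, map_zero]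
  have hJfg : (RingHom.ker (g.stalkMap y).hom).FG := hker ▸ hIfg.map _
  have hJ0 : RingHom.ker (g.stalkMap y).hom = ⊥ := by
    refine Submodule.eq_bot_of_le_smul_of_le_jacobson_bot _ _ hJfg
      (by rw [smul_eq_mul, ← sq]; exact hJg.le) ?_
    rw [IsLocalRing.jacobson_eq_maximalIdeal ⊥ bot_ne_top]
    exact IsLocalRing.le_maximalIdeal (RingHom.ker_ne_top _)
  have hex : ∀ a ∈ I, ∃ s ∈ (hW.primeIdealOf ⟨g y, hyW⟩).asIdeal.primeCompl, s * a = 0 := by
    intro a ha
    have h1 : (j.coborderRange : Scheme.{u}).presheaf.germ W (g y) hyW a = 0 := by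
      rw [← Ideal.mem_bot, ← hJ0, hker]
      exact Ideal.mem_map_of_mem _ ha
    obtain ⟨s, hs⟩ := (IsLocalization.map_eq_zero_iff (hW.primeIdealOf ⟨g y, hyW⟩).asIdeal.primeCompl
      ((j.coborderRange : Scheme.{u}).presheaf.stalk (g y)) a).mp h1
    exact ⟨s.1, s.2, hs⟩
  obtain ⟨T, hT⟩ := hIfg
  choose s hs1 hs2 using fun a : T => hex a.1 (hT ▸ Ideal.subset_span a.2)
  let r := ∏ a ∈ T.attach, s a
  have hrmem : r ∈ (hW.primeIdealOf ⟨g y, hyW⟩).asIdeal.primeCompl :=
    prod_mem fun a _ => hs1 a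
  have hr : ∀ a ∈ I, r * a = 0 := by
    intro a ha
    rw [← hT] at ha
    induction ha using Submodule.span_induction with
    | mem a ha =>
      show (∏ b ∈ T.attach, s b) * a = 0
      rw [← Finset.prod_erase_mul _ _ (Finset.mem_attach T ⟨a, ha⟩), mul_assoc, hs2 ⟨a, ha⟩, mul_zero]
    | zero => exact mul_zero _
    | add a b _ _ ha hb => rw [mul_add, ha, hb, add_zero]
    | smul c a _ ha => rw [smul_eq_mul, mul_left_comm, ha, mul_zero]
  let D := (j.coborderRange : Scheme.{u}).basicOpen r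
  have hyD : g y ∈ D := (Scheme.mem_basicOpen _ r (g y) hyW).mpr ((hpc r).mp hrmem)
  haveI hDaff : IsAffine D.toScheme := hW.basicOpen r
  have hDker : RingHom.ker (g.app D).hom = ⊥ := by
    have h1 := g.ker.map_ideal_basicOpen ⟨W, hW⟩ r
    rw [Scheme.Hom.ker_apply, Scheme.Hom.ker_apply] at h1
    refine h1.symm.trans (eq_bot_iff.mpr (Ideal.map_le_iff_le_comap.mpr fun a ha => ?_))
    rw [Ideal.mem_comap, Ideal.mem_bot]
    have hu : IsUnit (((j.coborderRange : Scheme.{u}).presheaf.map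
        (homOfLE ((j.coborderRange : Scheme.{u}).basicOpen_le r)).op) r) :=
      RingedSpace.isUnit_res_basicOpen _ r
    refine hu.mul_right_eq_zero.mp ?_
    rw [← map_mul, hr a ha, map_zero]
  have hDiso : IsIso (g ∣_ D) := by
    haveI : IsAffine (g ⁻¹ᵁ D).toScheme := (hW.basicOpen r).preimage g
    refine (HasAffineProperty.iff_of_isAffine (P := MorphismProperty.isomorphisms Scheme.{u})).mpr
      ⟨inferInstance, ?_⟩
    rw [ConcreteCategory.isIso_iff_bijective, morphismRestrict_appTop]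
    haveI : IsIso (g.app (D.ι ''ᵁ ⊤)) := by
      rw [D.ι_image_top, ConcreteCategory.isIso_iff_bijective]
      exact ⟨(RingHom.injective_iff_ker_eq_bot _).mpr hDker, g.app_surjective D (hW.basicOpen r)⟩
    exact ConcreteCategory.bijective_of_isIso _
  refine ⟨g ⁻¹ᵁ D, hyD, ?_⟩
  haveI := hDiso
  have : (g ⁻¹ᵁ D).ι ≫ j = (g ∣_ D) ≫ D.ι ≫ j.coborderRange.ι := by
    rw [← Category.assoc, morphismRestrict_ι, Category.assoc, j.liftCoborder_ι]
  rw [this]
  infer_instance

/-- Consider a point y of Y and an immersion j : Y ⟶ X that is quasi-compact and locally of finite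
presentation. The stalk at y of the conormal sheaf N_{Y/X} = I/I² is zero exactly when y has an open
neighbourhood U in Y on which the restriction of j is an open immersion. (The published statement
covers every immersion locally of finite presentation. Here j is additionally assumed quasi-compact,
since in that case the conormal sheaf used here is the one attached to j.) -/
theorem result {Y X : Scheme.{u}} (j : Y ⟶ X) [IsImmersion j]
    [QuasiCompact j] [LocallyOfFinitePresentation j] (y : Y) :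
    (∃ U : Y.Opens, y ∈ U ∧ IsOpenImmersion (U.ι ≫ j)) ↔
      Subsingleton ((Omega.conormal j).presheaf.stalk y) := by
  classical
  open Groth.Agent.Synt29.ConormalStalk Groth.Agent.Synt29 in
  constructor
  · rintro ⟨U, hyU, hU⟩
    have hb : Function.Bijective (j.stalkMap y) := by
      have h : IsIso ((U.ι ≫ j).stalkMap ⟨y, hyU⟩) := inferInstance
      rw [Scheme.Hom.stalkMap_comp] at h
      haveI : IsIso (j.stalkMap (U.ι ⟨y, hyU⟩) ≫ U.ι.stalkMap ⟨y, hyU⟩) := h
      haveI : IsIso (j.stalkMap (U.ι ⟨y, hyU⟩)) :=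
        IsIso.of_isIso_comp_right (j.stalkMap (U.ι ⟨y, hyU⟩)) (U.ι.stalkMap ⟨y, hyU⟩)
      exact ConcreteCategory.bijective_of_isIso (j.stalkMap (U.ι ⟨y, hyU⟩))
    refine subsingleton_of_forall_eq 0 fun z => ?_
    obtain ⟨V, hx, k, rfl⟩ := exists_conormalSect j y z
    refine conormalSect_eq_zero j hx k ?_
    have h0 : j.stalkMap y (X.presheaf.germ V (j y) hx (OmegaSh.idealSect j.ker V k)) = 0 := by
      rw [Scheme.Hom.germ_stalkMap_apply, OmegaUniv.app_idealSect, map_zero]
    have h1 := hb.1 (h0.trans (map_zero _).symm)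
    rw [h1]
    exact zero_mem _
  · intro hN
    exact exists_open j y (ker_sq j y hN)

end Groth.Agent.S5980
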