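import Groth.Statements.S5987
import Groth.Agent.H1Sop.Partial
import Mathlib.RingTheory.KrullDimension.NonZeroDivisors
import Mathlib.RingTheory.Ideal.MinimalPrime.Localization

set_option autoImplicit false
universe u
open EGA418

namespace Groth.Agent.S5987

/-- An element outside all minimal primes cuts the dimension. -/
theorem dim_succ_le {R : Type u} [CommRing R] (r : R) (hr : ∀ p ∈ minimalPrimes R, r ∉ p) :
    ringKrullDim (R ⧸ Ideal.span {r}) + 1 ≤ ringKrullDim R := by
  by_cases hr' : Ideal.span {r} = ⊤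
  · rw [hr', ringKrullDim_eq_bot_of_subsingleton]
    simp
  have : Nonempty (PrimeSpectrum.zeroLocus (R := R) (Ideal.span {r})) := by
    rwa [Set.nonempty_coe_sort, Set.nonempty_iff_ne_empty, ne_eq,
      PrimeSpectrum.zeroLocus_empty_iff_eq_top]
  have := Ideal.Quotient.nontrivial_iff.mpr hr'
  have := (Ideal.Quotient.mk (Ideal.span {r})).domain_nontrivial
  rw [ringKrullDim_quotient, Order.krullDim_eq_iSup_length, ringKrullDim,
    Order.krullDim_eq_iSup_length, ← WithBot.coe_one, ← WithBot.coe_add,
    ENat.iSup_add, WithBot.coe_le_coe, iSup_le_iff]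
  intro l
  obtain ⟨p, hp, hp'⟩ := Ideal.exists_minimalPrimes_le (J := l.head.1.asIdeal) bot_le
  let p' : PrimeSpectrum R := ⟨p, hp.1.1⟩
  have hp' : p' < l.head := lt_of_le_of_ne hp' fun h ↦ hr p hp (show r ∈ p by simpa [← h] using l.head.2)
  refine le_trans ?_ (le_iSup _ ((l.map Subtype.val (fun _ _ ↦ id)).cons p' hp'))
  simp

/-- An element of a minimal prime is nilpotent up to an outside factor. -/
theorem exists_mul_pow_mem_of_minimal {R : Type u} [CommRing R] {I q : Ideal R} (hq : q ∈ I.minimalPrimes) {z : R}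
    (hz : z ∈ q) : ∃ u ∉ q, ∃ m : ℕ, u * z ^ m ∈ I := by
  haveI := hq.1.1
  by_contra hcon
  push Not at hcon
  let S : Submonoid R := q.primeCompl ⊔ Submonoid.powers z
  have hdisj : Disjoint (I : Set R) S := Set.disjoint_left.2 fun a ha haS => by
    obtain ⟨u, hu, v, ⟨m, rfl⟩, rfl⟩ := Submonoid.mem_sup.1 haS
    exact hcon u hu m ha
  obtain ⟨Q, hQ, hIQ, hQd⟩ := Ideal.exists_le_prime_disjoint I S hdisj
  have hQq : Q ≤ q := fun a ha => by
    by_contra haq
    exact Set.disjoint_left.1 hQd ha (Submonoid.mem_sup_left haq)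
  exact Set.disjoint_left.1 hQd (hq.2 ⟨hQ, hIQ⟩ hQq hz) (Submonoid.mem_sup_right (Submonoid.mem_powers z))

/-- Davis's form of prime avoidance for incomparable primes. -/
theorem exists_add_avoid {R : Type u} [CommRing R] (J : Ideal R) (c : R) (S : Set (Ideal R)) (hS : S.Finite)
    (hprime : ∀ q ∈ S, q.IsPrime) (hinc : ∀ q ∈ S, ∀ q' ∈ S, q' ≤ q → q' = q)
    (hbad : ∀ q ∈ S, c ∈ q → ¬ J ≤ q) : ∃ y ∈ J, ∀ q ∈ S, c + y ∉ q := by
  classical
  let G := hS.toFinset.filter fun q => c ∉ q
  let B := hS.toFinset.filter fun q => c ∈ q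
  let K := J * ∏ q ∈ G, q
  have hK : ∀ q ∈ B, ¬ K ≤ q := fun q hq hle => by
    obtain ⟨hqS, hcq⟩ := Finset.mem_filter.1 hq
    have hqS' := hS.mem_toFinset.1 hqS
    haveI := hprime q hqS'
    rcases (Ideal.IsPrime.mul_le ‹q.IsPrime›).1 hle with h | h
    · exact hbad q hqS' hcq h
    · obtain ⟨q', hq', hle'⟩ := (Ideal.IsPrime.prod_le ‹q.IsPrime›).1 h
      obtain ⟨hq'S, hcq'⟩ := Finset.mem_filter.1 hq'
      exact hcq' (by rw [hinc q hqS' q' (hS.mem_toFinset.1 hq'S) hle']; exact hcq)
  obtain ⟨y, hyK, hy⟩ : ∃ y ∈ K, ∀ q ∈ B, y ∉ q := by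
    by_contra hcon
    push Not at hcon
    have hsub : (K : Set R) ⊆ ⋃ q ∈ (B : Set (Ideal R)), (q : Set R) := fun y hy => by
      obtain ⟨q, hq, hyq⟩ := hcon y hy
      exact Set.mem_biUnion hq hyq
    obtain ⟨q, hq, hle⟩ := (Ideal.subset_union_prime (f := fun q => q) ⊥ ⊥
      (fun q hq _ _ => hprime q (hS.mem_toFinset.1 (Finset.mem_filter.1 hq).1))).1 hsub
    exact hK q hq hle
  have hyK' : y ∈ J * ∏ q ∈ G, q := hyK
  have hyJ : y ∈ J := (Ideal.mul_le_inf hyK').1
  have hyP : y ∈ G.inf id := Ideal.prod_le_inf ((Ideal.mul_le_inf hyK').2)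
  refine ⟨y, hyJ, fun q hq hmem => ?_⟩
  by_cases hcq : c ∈ q
  · have := q.sub_mem hmem hcq
    rw [add_sub_cancel_left] at this
    exact hy q (Finset.mem_filter.2 ⟨hS.mem_toFinset.2 hq, hcq⟩) this
  · have hqG : q ∈ G := Finset.mem_filter.2 ⟨hS.mem_toFinset.2 hq, hcq⟩
    have hle : G.inf id ≤ q := Finset.inf_le (f := id) hqG
    have hyq : y ∈ q := hle hyP
    exact hcq (by simpa using q.sub_mem hmem hyq)

/-- A regular element avoids the minimal primes. -/
theorem not_mem_minimal_of_isWeaklyRegular {R : Type u} [CommRing R] {s : ℕ} (t : Fin s → R)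
    (h : RingTheory.Sequence.IsWeaklyRegular R (List.ofFn t)) (i : Fin s) {Q : Ideal R}
    (hQ : Q ∈ (Ideal.span (t '' {j : Fin s | j < i})).minimalPrimes) : t i ∉ Q := by
  intro hmem
  obtain ⟨u, hu, m, hum⟩ := exists_mul_pow_mem_of_minimal hQ hmem
  have hreg := h.regular_mod_prev i (by simp)
  rw [List.getElem_ofFn] at hreg
  have he : (Ideal.ofList ((List.ofFn t).take i) • ⊤ : Submodule R R) = Ideal.span (t '' {j : Fin s | j < i}) := by
    rw [smul_eq_mul, Ideal.mul_top, Ideal.ofList]
    congr 1
    ext z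
    simp only [Set.mem_image, List.mem_take_iff_getElem, List.getElem_ofFn, Set.mem_setOf_eq, List.length_ofFn]
    exact ⟨fun ⟨j, hj, e⟩ => ⟨⟨j, by omega⟩, by show j < (i : ℕ); omega, e⟩,
      fun ⟨j, hj, e⟩ => ⟨j, by have : (j : ℕ) < i := hj; omega, e⟩⟩
  refine hu (hQ.1.2 ?_)
  have hstep : ∀ m, u * t i ^ m ∈ Ideal.span (t '' {j : Fin s | j < i}) → u ∈ Ideal.span (t '' {j : Fin s | j < i}) := by
    intro m
    induction m with
    | zero => simp
    | succ m ih =>
      intro hm
      refine ih ?_
      rw [← he, ← Submodule.Quotient.mk_eq_zero]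
      refine (isSMulRegular_iff_right_eq_zero_of_smul.1 hreg) _ ?_
      rw [← Submodule.Quotient.mk_smul, Submodule.Quotient.mk_eq_zero, he, smul_eq_mul]
      rwa [pow_succ, ← mul_assoc, mul_comm] at hm
  exact hstep m hum

/-- Let A be a Noetherian local ring and p a prime ideal of A such that the local ring A_p is
Cohen–Macaulay, of dimension s; let t_1, …, t_s be a system of parameters of A_p (elements of its
maximal ideal such that A_p/(t_1, …, t_s) has dimension 0). Then there are elements x_1, …, x_s of p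
which form part of a system of parameters of A, in the sense that dim A/(x_1, …, x_s) + s = dim A,
and elements a_1, …, a_s of A outside p, such that for every i the image of x_i in A_p is congruent
to a_i t_i modulo the ideal (t_1, …, t_{i-1}) A_p. (The published statement asks for the image of
x_i to be congruent to t_i itself; this row allows the factor a_i outside p, which is what the
published proof gives, since it first multiplies each t_i by a unit of A_p to bring it into the
image of A. The published form fails already for s = 1: for A the localization of k[X, Y] at (X, Y),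
p = (X) and t_1 = X/Y, the congruence modulo the zero ideal asks for an element of A with image X/Y
in A_p, and there is none.) -/
theorem result (A : Type u) [CommRing A]
    [IsNoetherianRing A] [IsLocalRing A] (p : Ideal A) [p.IsPrime]
    [LocCoh.IsCohenMacaulayLocalRing (Localization.AtPrime p)] (s : ℕ)
    (hs : ringKrullDim (Localization.AtPrime p) = s) (t : Fin s → Localization.AtPrime p)
    (ht : ∀ i, t i ∈ IsLocalRing.maximalIdeal (Localization.AtPrime p))
    (hsop : ringKrullDim (Localization.AtPrime p ⧸ Ideal.span (Set.range t)) = 0) :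
    ∃ x a : Fin s → A, (∀ i, x i ∈ p) ∧ (∀ i, a i ∉ p) ∧
      ringKrullDim (A ⧸ Ideal.span (Set.range x)) + (s : WithBot ℕ∞) = ringKrullDim A ∧
      ∀ i : Fin s, algebraMap A (Localization.AtPrime p) (x i) -
          algebraMap A (Localization.AtPrime p) (a i) * t i ∈
        Ideal.span (t '' {j : Fin s | j < i}) := by
  classical
  let Ap := Localization.AtPrime p
  let al := algebraMap A Ap
  have hCM : LocCoh.IsCohenMacaulayModule Ap Ap := LocCoh.IsCohenMacaulayLocalRing.supportDim_eq_depth
  have hregs : RingTheory.Sequence.IsWeaklyRegular Ap (List.ofFn t) := by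
    have hle : Ideal.ofList (List.ofFn t) = Ideal.span (Set.range t) := by
      rw [Ideal.ofList]; congr 1; ext z; simp [List.mem_ofFn]
    refine H1Sop.isWeaklyRegular_of_dim_le hCM s hs _ (fun r hr => ?_) 0 ?_ (by simp)
    · obtain ⟨i, rfl⟩ := List.mem_ofFn.1 hr
      exact ht i
    · rw [hle, hsop]; simp
  have hfrac : ∀ i, ∃ c w : A, w ∉ p ∧ c ∈ p ∧ al c = al w * t i := by
    intro i
    obtain ⟨c, w, hcw⟩ := IsLocalization.exists_mk'_eq p.primeCompl (t i)
    refine ⟨c, w, w.2, ?_, ?_⟩
    · refine (IsLocalization.AtPrime.to_map_mem_maximal_iff Ap p c).1 ?_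
      rw [← IsLocalization.mk'_spec Ap c w, hcw]
      exact Ideal.mul_mem_right _ _ (ht i)
    · rw [← hcw, IsLocalization.mk'_spec']
  choose c w hw hc hcw using hfrac
  have key : ∀ n, n ≤ s → ∃ x : Fin s → A, (∀ i, x i ∈ p) ∧
      (∀ i : Fin s, (i : ℕ) < n → al (x i) - al (w i) * t i ∈ Ideal.span (t '' {j : Fin s | j < i})) ∧
      ringKrullDim (A ⧸ Ideal.span (x '' {j : Fin s | (j : ℕ) < n})) + (n : WithBot ℕ∞) ≤ ringKrullDim A := by
    intro n
    induction n with
    | zero =>
      intro _
      refine ⟨fun _ => 0, fun _ => p.zero_mem, fun i hi => absurd hi (Nat.not_lt_zero _), ?_⟩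
      simpa using ringKrullDim_quotient_le (R := A) _
    | succ n ih =>
      intro hn
      obtain ⟨x, hxp, hxc, hdim⟩ := ih (by omega)
      let i : Fin s := ⟨n, by omega⟩
      let I := Ideal.span (x '' {j : Fin s | (j : ℕ) < n})
      let T := Ideal.span (t '' {j : Fin s | j < i})
      have hIp : I ≤ p := Ideal.span_le.2 (by rintro _ ⟨j, -, rfl⟩; exact hxp j)
      have hTI : T ≤ I.map al := by
        suffices h : ∀ k, ∀ j : Fin s, (j : ℕ) = k → k < n → t j ∈ I.map al from
          Ideal.span_le.2 (by rintro _ ⟨j, hj, rfl⟩; exact h j j rfl hj)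
        intro k
        induction k using Nat.strong_induction_on with
        | h k ihk =>
          intro j hjk hkn
          have hu : IsUnit (al (w j)) := IsLocalization.map_units Ap (⟨w j, hw j⟩ : p.primeCompl)
          have h1 : Ideal.span (t '' {l : Fin s | l < j}) ≤ I.map al := Ideal.span_le.2 (by
            rintro _ ⟨l, hl, rfl⟩
            exact ihk l (by rw [← hjk]; exact hl) l rfl (by have : (l : ℕ) < j := hl; omega))
          refine (Ideal.unit_mul_mem_iff_mem _ hu).1 ?_
          have h2 := Ideal.sub_mem _ (Ideal.mem_map_of_mem al (show x j ∈ I from Ideal.subset_span ⟨j, by show (j : ℕ) < n; omega, rfl⟩))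
            (h1 (hxc j (by omega)))
          rwa [sub_sub_cancel] at h2
      have hIT : I.map al ≤ T := by
        rw [Ideal.map_span, Ideal.span_le]
        rintro _ ⟨_, ⟨j, hj, rfl⟩, rfl⟩
        have h1 : Ideal.span (t '' {l : Fin s | l < j}) ≤ T :=
          Ideal.span_mono (Set.image_mono fun l hl => (show l < i from lt_trans hl hj))
        have h2 := Ideal.add_mem _ (h1 (hxc j hj)) (Ideal.mul_mem_left T (al (w j)) (Ideal.subset_span ⟨j, hj, rfl⟩))
        rwa [sub_add_cancel] at h2
      let J := (I.map al).comap al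
      have hJp : J ≤ p := fun z hz => (IsLocalization.AtPrime.to_map_mem_maximal_iff Ap p z).1
        ((Ideal.map_le_iff_le_comap (f := al) (I := I) (K := IsLocalRing.maximalIdeal Ap)).2 (fun y hy => (IsLocalization.AtPrime.to_map_mem_maximal_iff Ap p y).2 (hIp hy)) hz)
      have hbad : ∀ q ∈ I.minimalPrimes, c i ∈ q → ¬ J ≤ q := by
        intro q hq hcq hJq
        haveI := hq.1.1
        by_cases hqp : q ≤ p
        · have hdisj : Disjoint (p.primeCompl : Set A) (q : Set A) := Set.disjoint_left.2 fun z hz hzq => hz (hqp hzq)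
          haveI : (q.map al).IsPrime := IsLocalization.isPrime_of_isPrime_disjoint p.primeCompl Ap q hq.1.1 hdisj
          have hmin : q.map al ∈ T.minimalPrimes := by
            refine ⟨⟨inferInstance, fun z hz => Ideal.map_mono hq.1.2 (hTI hz)⟩, fun Q ⟨hQ, hTQ⟩ hQq => ?_⟩
            haveI := hQ
            have hIQ : I ≤ Q.comap al := Ideal.map_le_iff_le_comap.1 (hIT.trans hTQ)
            have hQc : Q.comap al ≤ q := (Ideal.comap_mono hQq).trans (le_of_eq
              (IsLocalization.comap_map_of_isPrime_disjoint p.primeCompl Ap hq.1.1 hdisj))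
            refine Ideal.map_le_iff_le_comap.2 (hq.2 ⟨hQ.comap al, hIQ⟩ hQc)
          have hti : t i ∈ q.map al := by
            refine (Ideal.unit_mul_mem_iff_mem _ (IsLocalization.map_units Ap (⟨w i, hw i⟩ : p.primeCompl))).1 ?_
            rw [← hcw i]
            exact Ideal.mem_map_of_mem al hcq
          exact not_mem_minimal_of_isWeaklyRegular t hregs i hmin hti
        · obtain ⟨z, hzq, hzp⟩ := SetLike.not_le_iff_exists.1 hqp
          obtain ⟨u, hu, m, hum⟩ := exists_mul_pow_mem_of_minimal hq hzq
          have huJ : u ∈ J := by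
            refine (IsLocalization.algebraMap_mem_map_algebraMap_iff p.primeCompl Ap I u).2 ⟨z ^ m, ?_, by rwa [mul_comm]⟩
            exact fun hzm => hzp (Ideal.IsPrime.mem_of_pow_mem ‹p.IsPrime› m hzm)
          exact hu (hJq huJ)
      obtain ⟨y, hyJ, hy⟩ := exists_add_avoid J (c i) I.minimalPrimes (Ideal.finite_minimalPrimes_of_isNoetherianRing A I)
        (fun q hq => hq.1.1) (fun q hq q' hq' hle => le_antisymm hle (hq.2 ⟨hq'.1.1, hq'.1.2⟩ hle |>.trans le_rfl)) hbad
      let x' : Fin s → A := Function.update x i (c i + y)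
      have hsame : ∀ j : Fin s, (j : ℕ) < n → x' j = x j := fun j hj =>
        Function.update_of_ne (fun h => by rw [h] at hj; exact lt_irrefl _ hj) _ _
      have hxi : x' i = c i + y := Function.update_self _ _ _
      refine ⟨x', fun j => ?_, fun j hj => ?_, ?_⟩
      · by_cases h : j = i
        · rw [h, hxi]; exact add_mem (hc i) (hJp hyJ)
        · rw [show x' j = x j from Function.update_of_ne h _ _]; exact hxp j
      · rcases Nat.lt_or_eq_of_le (Nat.le_of_lt_succ hj) with h | h
        · rw [hsame j h]; exact hxc j h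
        · have hji : j = i := Fin.ext h
          subst hji
          rw [hxi, map_add, hcw i, add_sub_cancel_left]
          exact hIT hyJ
      · have heq : Ideal.span (x' '' {j : Fin s | (j : ℕ) < n + 1}) = I ⊔ Ideal.span {c i + y} := by
          refine le_antisymm (Ideal.span_le.2 ?_) (sup_le (Ideal.span_le.2 ?_) (Ideal.span_le.2 ?_))
          · rintro _ ⟨j, hj, rfl⟩
            rcases Nat.lt_or_eq_of_le (Nat.le_of_lt_succ hj) with h | h
            · rw [hsame j h]; exact Ideal.mem_sup_left (Ideal.subset_span ⟨j, h, rfl⟩)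
            · have hji : j = i := Fin.ext h
              subst hji
              rw [hxi]; exact Ideal.mem_sup_right (Ideal.mem_span_singleton_self _)
          · rintro _ ⟨j, hj, rfl⟩
            exact Ideal.subset_span ⟨j, Nat.lt_succ_of_lt hj, hsame j hj⟩
          · rintro _ rfl
            exact Ideal.subset_span ⟨i, Nat.lt_succ_self n, hxi⟩
        rw [heq, ← ringKrullDim_eq_of_ringEquiv (DoubleQuot.quotQuotEquivQuotSup I (Ideal.span {c i + y})),
          Ideal.map_span, Set.image_singleton, Nat.cast_succ, add_comm (n : WithBot ℕ∞) 1, ← add_assoc]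
        refine le_trans (add_le_add (dim_succ_le (Ideal.Quotient.mk I (c i + y)) fun Q hQ hmem => ?_) le_rfl) hdim
        have h1 : Q.comap (Ideal.Quotient.mk I) ∈ I.minimalPrimes := by
          rw [Ideal.minimalPrimes_eq_comap]
          exact ⟨Q, hQ, rfl⟩
        exact hy _ h1 hmem
  obtain ⟨x, hxp, hxc, hdim⟩ := key s le_rfl
  have hrange : x '' {j : Fin s | (j : ℕ) < s} = Set.range x := by
    ext z; simp [Fin.is_lt]
  rw [hrange] at hdim
  refine ⟨x, w, hxp, hw, le_antisymm hdim ?_, fun i => hxc i i.2⟩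
  have h := ringKrullDim_le_ringKrullDim_quotient_add_card (Finset.univ.image x) (by
    rw [IsLocalRing.ringJacobson_eq_maximalIdeal]
    intro z hz
    obtain ⟨j, -, rfl⟩ := Finset.mem_image.1 hz
    exact IsLocalRing.le_maximalIdeal (Ideal.IsPrime.ne_top ‹p.IsPrime›) (hxp j))
  rw [Finset.coe_image, Finset.coe_univ, Set.image_univ] at h
  refine h.trans (add_le_add le_rfl ?_)
  exact_mod_cast Finset.card_image_le.trans (by simp)

end Groth.Agent.S5987
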