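import Groth.Statements.S5993
import Groth.Agent.H1CplTensor.Main
import Groth.Agent.H1CplTensor.SemiFacts

set_option autoImplicit false
universe u
open scoped TensorProduct
open EGA418

namespace Groth.Agent.S5993

/-- Let k be a field, A a complete Noetherian local k-algebra with maximal ideal m whose residue field
is a finite extension of k, k' an extension field of k, I the ideal of A ⊗_k k' generated by m, and
A' the completed tensor product of A and k' over k, namely the I-adic completion of A ⊗_k k'. Then
A' is a Noetherian ring with finitely many maximal ideals, complete and separated for the ideal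
generated by m, and for every maximal ideal M of A' the local ring A'_M is complete, faithfully flat
over A, of the same dimension as A, and has residue field finite over k'. -/
theorem result (k A k' : Type u) [Field k]
    [CommRing A] [IsNoetherianRing A] [IsLocalRing A] [Algebra k A]
    [IsAdicComplete (IsLocalRing.maximalIdeal A) A] [Module.Finite k (IsLocalRing.ResidueField A)]
    [Field k'] [Algebra k k'] (I : Ideal (A ⊗[k] k'))
    (hI : I = (IsLocalRing.maximalIdeal A).map (algebraMap A (A ⊗[k] k'))) :
    IsNoetherianRing (AdicCompletion I (A ⊗[k] k')) ∧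
      Finite (MaximalSpectrum (AdicCompletion I (A ⊗[k] k'))) ∧
      IsAdicComplete ((IsLocalRing.maximalIdeal A).map (algebraMap A (AdicCompletion I (A ⊗[k] k'))))
        (AdicCompletion I (A ⊗[k] k')) ∧
      ∀ M : MaximalSpectrum (AdicCompletion I (A ⊗[k] k')),
        IsAdicComplete (IsLocalRing.maximalIdeal (Localization.AtPrime M.asIdeal))
            (Localization.AtPrime M.asIdeal) ∧
          Module.FaithfullyFlat A (Localization.AtPrime M.asIdeal) ∧
          ringKrullDim (Localization.AtPrime M.asIdeal) = ringKrullDim A ∧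
          (((Ideal.Quotient.mk M.asIdeal).comp (algebraMap (A ⊗[k] k') (AdicCompletion I (A ⊗[k] k')))).comp
              Algebra.TensorProduct.includeRight.toRingHom).Finite := by
  classical
  have hIJ : I = H1CplTensor.maxT k k' A := hI
  subst hIJ
  obtain ⟨d, alg, tower, hfin, hloc, -⟩ := H1CplTensor.exists_coordinates k A
  letI := alg
  haveI := tower
  haveI := hfin
  haveI := hloc
  obtain ⟨e, he⟩ := H1CplTensor.exists_cpl_equiv k k' A d
  letI := H1CplTensor.algK k k' A d
  have hS := H1CplTensor.isSemi_model k k' A d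
  haveI := hS.noetherian
  haveI hN : IsNoetherianRing (AdicCompletion (H1CplTensor.maxT k k' A) (A ⊗[k] k')) :=
    isNoetherianRing_of_ringEquiv _ e.symm
  let ι : k' →+* AdicCompletion (H1CplTensor.maxT k k' A) (A ⊗[k] k') :=
    (algebraMap (A ⊗[k] k') _).comp Algebra.TensorProduct.includeRight.toRingHom
  letI : Algebra k' (AdicCompletion (H1CplTensor.maxT k k' A) (A ⊗[k] k')) := ι.toAlgebra
  have heA : ∀ a : A, e (algebraMap A _ a) = algebraMap A _ a := fun a => by
    rw [IsScalarTower.algebraMap_apply A (A ⊗[k] k'), he]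
    show H1CplTensor.toModel k k' A d (a ⊗ₜ[k] (1 : k')) = _
    rw [H1CplTensor.toModel_tmul, map_one, ← Algebra.TensorProduct.one_def, mul_one]
    rfl
  have heK : ∀ c : k', e (algebraMap k' _ c) = algebraMap k' _ c := fun c => by
    show e (algebraMap (A ⊗[k] k') _ ((1 : A) ⊗ₜ[k] c)) = _
    rw [he, H1CplTensor.toModel_tmul, ← Algebra.TensorProduct.one_def, one_mul]
    rfl
  let εA := AlgEquiv.ofRingEquiv (f := e) heA
  have hcomp : IsAdicComplete ((IsLocalRing.maximalIdeal A).map
      (algebraMap A (AdicCompletion (H1CplTensor.maxT k k' A) (A ⊗[k] k'))))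
      (AdicCompletion (H1CplTensor.maxT k k' A) (A ⊗[k] k')) := by
    have h := (H1CplTensor.isCompl_adicCompletion (H1CplTensor.maxT k k' A)
      (Ideal.FG.map (IsNoetherian.noetherian (IsLocalRing.maximalIdeal A)) _)).complete
    rw [hI, Ideal.map_map, ← IsScalarTower.algebraMap_eq] at h
    exact h
  have hmapJ : ((IsLocalRing.maximalIdeal A).map
      (algebraMap A (AdicCompletion (H1CplTensor.maxT k k' A) (A ⊗[k] k')))).map e.toRingHom =
      (IsLocalRing.maximalIdeal A).map (algebraMap A _) := by
    rw [Ideal.map_map]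
    congr 1
    exact RingHom.ext heA
  have hSC : H1CplTensor.IsSemi A k' (AdicCompletion (H1CplTensor.maxT k k' A) (A ⊗[k] k')) := by
    refine ⟨hN, hcomp, ?_⟩
    haveI := hS.finite_fibre
    let q := Ideal.quotientEquivAlg _ _ (AlgEquiv.ofRingEquiv (f := e) heK) hmapJ.symm
    exact Module.Finite.equiv q.symm.toLinearEquiv
  haveI : Module.Flat A (A ⊗[MvPowerSeries (Fin d) k] MvPowerSeries (Fin d) k') :=
    (H1CplTensor.faithfullyFlat_model k k' A d).toFlat
  haveI : Module.Flat A (AdicCompletion (H1CplTensor.maxT k k' A) (A ⊗[k] k')) :=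
    Module.Flat.of_linearEquiv εA.toLinearEquiv
  refine ⟨hN, hSC.exists_idempotents.1, hcomp, fun M => ?_⟩
  haveI := M.isMaximal
  obtain ⟨h1, h2, h3, h4⟩ := hSC.localization_facts M.asIdeal
  exact ⟨h1, h2, h3, RingHom.finite_algebraMap.mpr h4⟩

end Groth.Agent.S5993
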