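import Groth.Statements.S5997
import Groth.Agent.S11763
import Groth.Agent.Algz7.AlgEmbed
import Groth.Agent.Algz7.FormalIso
import Groth.Agent.GrpSchLib.ThickIso
import Groth.Agent.CMReg7.PullVanish
import Groth.Agent.S0844
import Groth.Agent.S0023
import Groth.Agent.H23.PullPush
import Groth.Agent.InvX.Tensor
import Groth.Agent.Algz7.AlgInvertible
import Groth.Agent.AmpleVan.LiftFibre
import Groth.Agent.AmpleVan.NakayamaFibre
import Groth.Agent.PnCoh.Chow.Proper

set_option autoImplicit false
attribute [-instance] CategoryTheory.catToReflQuiver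
set_option backward.isDefEq.respectTransparency false
set_option backward.isDefEq.respectTransparency.types false
set_option linter.style.haveILetI false
set_option maxHeartbeats 1000000
universe u
open SGA1

namespace Groth.Agent.S5997

open AlgebraicGeometry CategoryTheory in
/-- Loci are invariant under isomorphisms. -/
theorem locus_app {Z : Scheme.{u}} {Q Q' : Z.Modules} (e : Q ≅ Q') (t : Γ(Q, ⊤)) :
    Groth.Agent.H23.TrivBasic.locus (e.hom.app ⊤ t) = Groth.Agent.H23.TrivBasic.locus t := by
  show CohB1.genLocus _ (Groth.Agent.InvX.ofSect _) = CohB1.genLocus _ (Groth.Agent.InvX.ofSect _)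
  rw [← Groth.Agent.InvX.genLocus_comp_iso (Groth.Agent.InvX.ofSect t) e]
  refine congrArg _ (Groth.Agent.AmpleVan.one_inj ?_)
  rw [Groth.Agent.InvX.one_ofSect]
  show e.hom.app ⊤ t = e.hom.app ⊤ (Groth.Agent.InvX.one (Groth.Agent.InvX.ofSect t))
  rw [Groth.Agent.InvX.one_ofSect]

open AlgebraicGeometry CategoryTheory CategoryTheory.Limits in
/-- Suppose A is a Noetherian local ring, complete for its maximal ideal, whose residue field we call k,
and consider a proper flat A-scheme X such that the closed fibre X ×_A k is isomorphic over k to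
P^r_k. Then X is isomorphic over A to P^r_A. (For ordinary schemes the published statement leaves
out flatness, yet the proof relies on it; dropping it, P^r_k regarded as an A-scheme via the closed
point gives a counterexample as soon as A fails to be a field. This row therefore assumes f is
flat.) -/
theorem result (A : Type u) [CommRing A] [IsLocalRing A]
    [IsNoetherianRing A] [IsAdicComplete (IsLocalRing.maximalIdeal A) A] (r : ℕ) {X : Scheme.{u}}
    (f : X ⟶ Spec (CommRingCat.of A)) [IsProper f] [Flat f]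
    (e₀ : pullback f (Spec.map (CommRingCat.ofHom (IsLocalRing.residue A))) ≅
      CohB1.ProjSpace r (IsLocalRing.ResidueField A))
    (he₀ : e₀.hom ≫ CohB1.ProjSpace.toSpec r (IsLocalRing.ResidueField A) = pullback.snd f _) :
    ∃ e : X ≅ CohB1.ProjSpace r A, e.hom ≫ CohB1.ProjSpace.toSpec r A = f := by
  letI : X.Over (Spec (CommRingCat.of A)) := ⟨f⟩
  haveI : IsProper (X ↘ Spec (CommRingCat.of A)) := ‹IsProper f›
  haveI : Flat (X ↘ Spec (CommRingCat.of A)) := ‹Flat f›
  let m := IsLocalRing.maximalIdeal A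
  let k := IsLocalRing.ResidueField A
  let b := Spec.map (CommRingCat.ofHom (IsLocalRing.residue A))
  let g := pullback.fst f b
  haveI : IsClosedImmersion b := IsClosedImmersion.spec_of_surjective _ Ideal.Quotient.mk_surjective
  haveI : IsClosedImmersion g := MorphismProperty.pullback_fst (P := @IsClosedImmersion) _ _ inferInstance
  let pA := CohB1.ProjSpace.toSpec r A
  let O1 := Twist.twistProjSpace r A 1
  let q := Groth.Agent.ProjX.pmap r (IsLocalRing.residue A)
  let z : pullback f b ⟶ CohB1.ProjSpace r A := e₀.hom ≫ q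
  let L₀ := (Scheme.Modules.pullback z).obj O1
  have hO1 : PicF.IsInvertible O1 :=
    Groth.Agent.PnCoh.Finite.isInvertible_twist (𝒜 := CohB1.polyGrading r A)
      (fun i : Fin (r + 1) => (MvPolynomial.X i : MvPolynomial (Fin (r + 1)) A)) (fun i => Groth.Agent.ProjPt.X_mem i)
      (top_le_iff.1 fun y _ => TopologicalSpace.Opens.mem_iSup.2 (Groth.Agent.ProjUPX.cov_X y)) 1
  have hL₀ : PicF.IsInvertible L₀ := Groth.Agent.PicClLib.isInvertible_pullback z hO1
  have hb : ∀ U, Function.Bijective (e₀.hom.app U) := fun U =>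
    (ConcreteCategory.isIso_iff_bijective _).1 inferInstance
  have h2 : Subsingleton (Coh.HH (pullback f b) (Coh.structureModule _) 2) := by
    haveI := Groth.Agent.PnCoh.isQCoh_structureModule (pullback f b)
    obtain ⟨a⟩ := Groth.Agent.S0012.result e₀.hom (Coh.structureModule _) 2
    haveI := Groth.Agent.QCoh.subsingleton_HH_of_iso (Groth.Agent.H23.PullPush.structureModuleIsoPush e₀.hom hb) 2
      (Groth.Agent.S0023.result r k 2 two_pos)
    exact a.toEquiv.subsingleton
  have h1 : Subsingleton (Coh.HH (pullback f b) L₀ 1) := by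
    obtain ⟨c⟩ := Groth.Agent.CMReg7.nonempty_pullback_twist_one r (IsLocalRing.residue A)
    let N := Twist.twistProjSpace r k 1
    haveI : Coh.IsQCoh L₀ := Groth.Agent.ProjUPX.isQCoh_of_isInvertible hL₀
    let N' := (Coh.push e₀.hom).obj L₀
    haveI : IsIso ((Scheme.Modules.pullbackPushforwardAdjunction e₀.hom).counit.app L₀) :=
      Groth.Agent.AmpleVan.isIso_counit e₀.hom ‹Coh.IsQCoh L₀›
    let d : (Scheme.Modules.pullback e₀.hom).obj N' ≅ (Scheme.Modules.pullback e₀.hom).obj N :=
      asIso ((Scheme.Modules.pullbackPushforwardAdjunction e₀.hom).counit.app L₀) ≪≫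
        ((Scheme.Modules.pullbackComp e₀.hom q).app O1).symm ≪≫ (Scheme.Modules.pullback e₀.hom).mapIso c
    let back : ∀ M : (CohB1.ProjSpace r k).Modules,
        (Scheme.Modules.pullback e₀.inv).obj ((Scheme.Modules.pullback e₀.hom).obj M) ≅ M := fun M =>
      (Scheme.Modules.pullbackComp e₀.inv e₀.hom).app M ≪≫ (Scheme.Modules.pullbackCongr e₀.inv_hom_id).app M ≪≫
        (Scheme.Modules.pullbackId _).app M
    let e : N ≅ N' := (back N).symm ≪≫ (Scheme.Modules.pullback e₀.inv).mapIso d.symm ≪≫ back N'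
    obtain ⟨a⟩ := Groth.Agent.S0012.result e₀.hom L₀ 1
    haveI := Groth.Agent.QCoh.subsingleton_HH_of_iso e 1
      (Groth.Agent.S0844.result k r 1 1 (by omega) (by omega))
    exact a.toEquiv.subsingleton
  obtain ⟨L, hL, ⟨ψ⟩⟩ := Groth.Agent.S11763.result A f h2 L₀ hL₀
  have sq : IsPullback g (pullback.snd f b) (X ↘ Spec (CommRingCat.of A))
      (Spec.map (CommRingCat.ofHom (Ideal.Quotient.mk m))) := IsPullback.of_hasPullback _ _
  let e₁ : (Scheme.Modules.pullback g).obj (Coh.structureModule X) ≅ Coh.structureModule _ :=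
    @asIso _ _ _ _ (show (Scheme.Modules.pullback g).obj (Coh.structureModule X) ⟶ Coh.structureModule _ from
        SheafOfModules.pullbackObjUnitToUnit g.toRingCatSheafHom)
      (inferInstanceAs (IsIso (SheafOfModules.pullbackObjUnitToUnit g.toRingCatSheafHom)))
  have hone : e₁.hom.app ⊤ (ProjUP.pullSec g (Coh.structureModule X) (1 : Γ(X, ⊤))) = (1 : Γ(pullback f b, ⊤)) := by
    have h := SheafOfModules.pullbackPushforwardAdjunction_homEquiv_pullbackObjUnitToUnit g.toRingCatSheafHom
    exact (congr(($h).val.app (Opposite.op ⊤) (1 : Γ(X, ⊤))) : _).trans (map_one (g.app ⊤).hom)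
  have hlift : ∀ y : Γ((Scheme.Modules.pullback g).obj L, ⊤), ∃ x : Γ(L, ⊤), ProjUP.pullSec g L x = y := fun y => by
    let c : (Groth.Agent.SheafHomX.hom (Coh.structureModule _)).obj ((Scheme.Modules.pullback g).obj L) ≅
        (Groth.Agent.SheafHomX.hom ((Scheme.Modules.pullback g).obj (Coh.structureModule X))).obj ((Scheme.Modules.pullback g).obj L) :=
      { hom := (Groth.Agent.SheafHomX.homMap e₁.hom).app _
        inv := (Groth.Agent.SheafHomX.homMap e₁.inv).app _
        hom_inv_id := by rw [← Groth.Agent.SheafHomX.homMap_comp, Iso.inv_hom_id, Groth.Agent.SheafHomX.homMap_id]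
        inv_hom_id := by rw [← Groth.Agent.SheafHomX.homMap_comp, Iso.hom_inv_id, Groth.Agent.SheafHomX.homMap_id] }
    have hv := Groth.Agent.AmpleVan.subsingleton_of_iso
      (ψ.symm ≪≫ ((Groth.Agent.SheafHomX.unitIso _).app _).symm ≪≫ c) 1 h1
    obtain ⟨v, hv⟩ := Groth.Agent.AmpleVan.exists_lift_modPow A (Coh.structureModule X) L
      (Groth.Agent.H23.PullPush.isFinLocFree_of_isInvertible Groth.Agent.InvX.isInvertible_structureModule)
      (Groth.Agent.H23.PullPush.isFinLocFree_of_isInvertible hL) sq hv (e₁.hom ≫ Groth.Agent.InvX.ofSect y)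
    refine ⟨Groth.Agent.InvX.one v, ?_⟩
    refine (congr(($((Scheme.Modules.pullbackPushforwardAdjunction g).unit.naturality v)).app ⊤ (1 : Γ(X, ⊤))) : _).trans ?_
    show ((Scheme.Modules.pullback g).map v).app ⊤ (ProjUP.pullSec g (Coh.structureModule X) (1 : Γ(X, ⊤))) = y
    rw [hv]
    show (Groth.Agent.InvX.ofSect y).app ⊤ (e₁.hom.app ⊤ (ProjUP.pullSec g (Coh.structureModule X) (1 : Γ(X, ⊤)))) = y
    rw [hone]
    exact Groth.Agent.InvX.one_ofSect y
  choose sL hsL using hlift
  let s₀ : Fin (r + 1) → Γ(L₀, ⊤) := fun l => ProjUP.pullSec z O1 (ProjUP.coord r A l)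
  let s : Fin (r + 1) → Γ(L, ⊤) := fun l => sL (ψ.inv.app ⊤ (s₀ l))
  have hs : ∀ l, ψ.hom.app ⊤ (ProjUP.pullSec g L (s l)) = s₀ l := fun l =>
    (congrArg (ψ.hom.app ⊤) (hsL _)).trans congr(($(ψ.inv_hom_id)).app ⊤ (s₀ l))
  have hcov : ∀ x : X, ∃ l, x ∈ Groth.Agent.H23.TrivBasic.locus (s l) := fun x => by
    obtain ⟨x', hx, hx'⟩ := Groth.Agent.AmpleVan.exists_specializes_closedPoint (A := A) x
    have hbk : f x' = b (IsLocalRing.closedPoint k) := by
      refine Eq.trans hx' ?_
      exact (IsLocalRing.comap_closedPoint (IsLocalRing.residue A)).symm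
    obtain ⟨y, hy, -⟩ := Scheme.Pullback.exists_preimage_pullback (f := f) (g := b) x' (IsLocalRing.closedPoint k) hbk
    have hzy : z y ∈ (⨆ i : Fin (r + 1), Proj.basicOpen (CohB1.polyGrading r A) (MvPolynomial.X i) : (CohB1.ProjSpace r A).Opens) :=
      (Groth.Agent.AmpleEmbed.iSup_basicOpen_X r A).ge trivial
    obtain ⟨l, hl⟩ := TopologicalSpace.Opens.mem_iSup.1 hzy
    have hl' : y ∈ Groth.Agent.H23.TrivBasic.locus (s₀ l) :=
      (Groth.Agent.AmpleEmbed.preimage_chart z (Iso.refl _) l (s := s₀ l) rfl).le hl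
    rw [← hs l, locus_app] at hl'
    have hl'' : g y ∈ Groth.Agent.H23.TrivBasic.locus (s l) :=
      (Groth.Agent.H23.TrivBasic.locus_pullElt hL g (s l)).le hl'
    exact ⟨l, hx.mem_open (Groth.Agent.H23.TrivBasic.locus (s l)).isOpen (hy ▸ hl'')⟩
  obtain ⟨p, hp, τ, hτ⟩ := Groth.Agent.S3572.result r f L hL s (Groth.Agent.ProjUPX.generatedBy_of_frames _ fun x => by
    obtain ⟨l, hl⟩ := hcov x
    exact ⟨l, _, hl, Groth.Agent.H23.TrivBasic.isFrame_res_of_le_locus le_rfl⟩)
  have hsqk := Groth.Agent.ProjX.isPullback_pmap r (IsLocalRing.residue A)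
  have hz : IsPullback z (pullback.snd f b) pA b := by
    have h := (IsPullback.of_horiz_isIso (fst := e₀.hom) (snd := pullback.snd f b)
      (f := CohB1.ProjSpace.toSpec r k) (g := 𝟙 _) ⟨by rw [he₀, Category.comp_id]⟩).paste_horiz hsqk
    rwa [Category.id_comp] at h
  have hgp : g ≫ p = z := by
    refine Groth.Agent.Algz7.eq_of_sections _ _ (by rw [Category.assoc, hp]; exact pullback.condition.trans hz.w.symm)
      (((Scheme.Modules.pullbackComp g p).app O1).symm ≪≫ (Scheme.Modules.pullback g).mapIso τ ≪≫ ψ) (Iso.refl _)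
      fun l => ?_
    show _ = s₀ l
    rw [← hs l, ← Groth.Agent.Algz7.pullSec_eq _ _ le_top (ProjUP.coord r A l),
      ← Groth.Agent.Algz7.pullSec_eq _ _ le_top (s l)]
    rw [← Groth.Agent.ExistEasy.pullSec_comp g p O1 (U := ⊤) le_top le_top (ProjUP.coord r A l)]
    show ψ.hom.app ⊤ (((Scheme.Modules.pullback g).map τ.hom).app ⊤
      (((Scheme.Modules.pullbackComp g p).inv.app O1).app ⊤
        (((Scheme.Modules.pullbackComp g p).hom.app O1).app ⊤ _))) = _
    refine congrArg (ψ.hom.app ⊤) ?_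
    refine (congrArg (((Scheme.Modules.pullback g).map τ.hom).app ⊤)
      congr(($((Scheme.Modules.pullbackComp g p).hom_inv_id_app O1)).app ⊤ _)).trans ?_
    refine (Groth.Agent.ExistEasy.pullSec_natural g τ.hom le_top _).trans ?_
    refine congrArg (Groth.Agent.QCoh.pullSec g _ _) ?_
    rw [Groth.Agent.Algz7.pullSec_eq _ _ le_top]
    exact hτ l
  letI : (CohB1.ProjSpace r A).Over (Spec (CommRingCat.of A)) := ⟨pA⟩
  haveI : IsProper (CohB1.ProjSpace r A ↘ Spec (CommRingCat.of A)) := Groth.Agent.PnCoh.Chow.isProper_toSpec r A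
  haveI : ∀ n, IsClosedImmersion (CohB1.specQuot m n) := fun n =>
    IsClosedImmersion.spec_of_surjective _ Ideal.Quotient.mk_surjective
  let pn : ∀ n, CohB1.thick f m n ⟶ CohB1.thick pA m n := fun n =>
    pullback.map _ _ _ _ p (𝟙 _) (𝟙 _) (by rw [Category.comp_id, hp]) (by simp)
  have hiso : ∀ n, IsIso (pn n) := fun n => by
    let B := A ⧸ m ^ (n + 1)
    let J : Ideal B := m.map (Ideal.Quotient.mk (m ^ (n + 1)))
    have hle : m ^ (n + 1) ≤ m := Ideal.pow_le_self (Nat.succ_ne_zero n)
    have hJ : IsNilpotent J := ⟨n + 1, by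
      show J ^ (n + 1) = 0
      rw [← Ideal.map_pow, Ideal.map_quotient_self]; rfl⟩
    let ε := DoubleQuot.quotQuotEquivQuotOfLE hle
    let π : Spec (CommRingCat.of (B ⧸ J)) ⟶ Spec (CommRingCat.of B) := Spec.map (CommRingCat.ofHom (Ideal.Quotient.mk J))
    haveI : IsIso (CommRingCat.ofHom ε.toRingHom) := ε.toCommRingCatIso.isIso_hom
    let θ : Spec (CommRingCat.of k) ⟶ Spec (CommRingCat.of (B ⧸ J)) := Spec.map (CommRingCat.ofHom ε.toRingHom)
    have hθ : θ ≫ π ≫ CohB1.specQuot m n = b := by
      simp only [θ, π, b, CohB1.specQuot, ← Spec.map_comp, ← CommRingCat.ofHom_comp]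
      congr 2
    have big : ∀ {T X₀ : Scheme.{u}} (t : T ⟶ Spec (CommRingCat.of A)) (i : X₀ ⟶ T) (σ : X₀ ⟶ Spec (CommRingCat.of k))
        (h : IsPullback i σ t b) (i' : X₀ ⟶ CohB1.thick t m n) (hi : i' ≫ CohB1.thickι t m n = i)
        (hi₂ : i' ≫ CohB1.thickToBase t m n = (σ ≫ θ) ≫ π),
        IsPullback i' (σ ≫ θ) (CohB1.thickToBase t m n) π := fun {T X₀} t i σ h i' hi hi₂ => by
      refine IsPullback.of_right ?_ hi₂ (IsPullback.of_hasPullback t (CohB1.specQuot m n))
      change IsPullback (i' ≫ CohB1.thickι t m n) _ _ _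
      rw [hi]
      exact h.of_iso (Iso.refl _) (Iso.refl _) (asIso θ) (Iso.refl _) (by simp) (by simp) (by simp) (by simp [hθ])
    let i : pullback f b ⟶ CohB1.thick f m n := pullback.lift g ((pullback.snd f b ≫ θ) ≫ π)
      (pullback.condition.trans (by simp only [Category.assoc]; rw [hθ]))
    let i' : pullback f b ⟶ CohB1.thick pA m n := pullback.lift z ((pullback.snd f b ≫ θ) ≫ π)
      (hz.w.trans (by simp only [Category.assoc]; rw [hθ]))
    haveI : Flat (CohB1.thickToBase f m n) :=
      MorphismProperty.of_isPullback (IsPullback.of_hasPullback f (CohB1.specQuot m n)) ‹Flat f›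
    refine Groth.Agent.GrpSchLib.ThickIso.isIso_of_thickening J hJ (CohB1.thickToBase f m n) (CohB1.thickToBase pA m n) i i'
      (pullback.snd f b ≫ θ) (big f g _ sq i (pullback.lift_fst _ _ _) (pullback.lift_snd _ _ _))
      (big pA z _ hz i' (pullback.lift_fst _ _ _) (pullback.lift_snd _ _ _)) (pn n)
      ((pullback.lift_snd _ _ _).trans (Category.comp_id _)) ?_
    refine pullback.hom_ext ?_ ?_
    · simp only [Category.assoc, pn, i, i']
      erw [pullback.lift_fst, pullback.lift_fst_assoc, pullback.lift_fst]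
      exact hgp
    · simp only [Category.assoc, pn, i, i']
      erw [pullback.lift_snd, pullback.lift_snd]
      exact (pullback.lift_snd _ _ _).symm
  let ι : ∀ n, CohB1.thick pA m n ⟶ CohB1.ProjSpace r A := fun n => CohB1.thickι pA m n
  haveI : ∀ n, IsClosedImmersion (ι n) := fun n => MorphismProperty.pullback_fst (P := @IsClosedImmersion) _ _ inferInstance
  haveI : ∀ n, IsClosedImmersion (CohB1.thickι f m n) := fun n =>
    MorphismProperty.pullback_fst (P := @IsClosedImmersion) _ _ inferInstance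
  haveI : IsClosedImmersion (inv (pn 0) ≫ CohB1.thickι f m 0) := by haveI := hiso 0; infer_instance
  haveI : IsIso p := Groth.Agent.Algz7.isIso_of_formal m p hp ι
    (fun n => (Groth.Agent.Algz7.ker_eq_baseIdeal (ι n) _ (IsPullback.of_hasPullback _ (CohB1.specQuot m n))).le)
    (fun n => haveI := hiso n; inv (pn n) ≫ CohB1.thickι f m n) (fun n => by
      haveI := hiso n
      rw [Category.assoc, IsIso.inv_comp_eq]
      exact (pullback.lift_fst _ _ _).symm)
    (by
      haveI := hiso 0
      refine (Groth.Agent.Algz7.ker_eq_baseIdeal _ _ (q := inv (pn 0) ≫ CohB1.thickToBase f m 0)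
        ((IsPullback.of_hasPullback f (CohB1.specQuot m 0)).of_iso (asIso (pn 0)) (Iso.refl _) (Iso.refl _) (Iso.refl _)
          (by simp) (by simp) (by simp; rfl) (by simp [CohB1.specQuot]))).le)
  exact ⟨asIso p, hp⟩

end Groth.Agent.S5997
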