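import Groth.Statements.S5999
import Groth.Agent.RGLib.Jacobian

set_option autoImplicit false
universe u
open SGA1

namespace Groth.Agent.S5999

open TensorProduct in
/-- Let R be a Noetherian ring, A an R-algebra of finite type, F an element of A, P a prime ideal of
A/(F) and q its preimage in A, and suppose A is smooth over R at q. Then the hypersurface A/(F) is
smooth over R at P if and only if either F is zero in the local ring A_q (F vanishes on a
neighbourhood of q) or the image dF(q) of the differential of F in κ(q) ⊗_A Ω_{A/R} is nonzero. -/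
theorem result
    (R A : Type u) [CommRing R] [CommRing A] [IsNoetherianRing R] [Algebra R A] [Algebra.FiniteType R A]
    (F : A) (P : Ideal (A ⧸ Ideal.span ({F} : Set A))) [P.IsPrime]
    (hX : Algebra.IsSmoothAt R (P.comap (Ideal.Quotient.mk (Ideal.span ({F} : Set A))))) :
    letI q : Ideal A := P.comap (Ideal.Quotient.mk (Ideal.span ({F} : Set A)))
    Algebra.IsSmoothAt R P ↔ algebraMap A (Localization.AtPrime q) F = 0 ∨
      (1 : q.ResidueField) ⊗ₜ[A] KaehlerDifferential.D R A F ≠ 0 := by
  classical
  let I : Ideal A := Ideal.span {F}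
  let q := P.comap (Ideal.Quotient.mk I)
  haveI : Algebra.IsSmoothAt R q := hX
  haveI : IsNoetherianRing A := Algebra.FiniteType.isNoetherianRing R A
  haveI : Algebra.EssFiniteType A (Localization.AtPrime q) :=
    Algebra.EssFiniteType.of_isLocalization _ q.primeCompl
  haveI : Algebra.EssFiniteType R (Localization.AtPrime q) := Algebra.EssFiniteType.comp R A _
  haveI : Algebra.FormallySmooth R (Localization.AtPrime q) := hX
  haveI : Module.Finite (Localization.AtPrime q) Ω[Localization.AtPrime q⁄R] := inferInstance
  haveI : Module.Free (Localization.AtPrime q) Ω[Localization.AtPrime q⁄R] := Module.free_of_flat_of_isLocalRing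
  obtain ⟨Φ, hΦ⟩ := Groth.Agent.RGLib.Jacobian.exists_diff_equiv R q
  let F' : Localization.AtPrime q := algebraMap A _ F
  have hF'm : F' ∈ IsLocalRing.maximalIdeal (Localization.AtPrime q) := by
    rw [← Localization.AtPrime.map_eq_maximalIdeal]
    refine Ideal.mem_map_of_mem _ ?_
    show Ideal.Quotient.mk I F ∈ P
    rw [Ideal.Quotient.eq_zero_iff_mem.2 (Ideal.mem_span_singleton_self F)]
    exact zero_mem _
  have hJ : I.map (algebraMap A (Localization.AtPrime q)) = Ideal.span {F'} := by
    rw [Ideal.map_span, Set.image_singleton]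
  have hd : (1 : q.ResidueField) ⊗ₜ[Localization.AtPrime q] KaehlerDifferential.D R (Localization.AtPrime q) F' = 0 ↔
      (1 : q.ResidueField) ⊗ₜ[A] KaehlerDifferential.D R A F = 0 := by
    rw [← hΦ, Φ.map_eq_zero_iff]
  rw [Groth.Agent.RGLib.Jacobian.isSmoothAt_iff I P q rfl, hJ]
  refine ⟨fun h => ?_, fun h y hy h0 => ?_⟩
  · refine or_iff_not_imp_right.2 fun hne => ?_
    have h1 := h F' (Ideal.mem_span_singleton_self _) (hd.2 (not_not.1 hne))
    rw [smul_eq_mul, Ideal.mem_mul_span_singleton] at h1
    obtain ⟨c, hc, hcF⟩ := h1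
    have h2 : (1 - c) * F' = 0 := by rw [sub_mul, one_mul, hcF, sub_self]
    exact ((IsLocalRing.isUnit_one_sub_self_of_mem_nonunits c hc).mul_right_eq_zero).1 h2
  · obtain ⟨c, rfl⟩ := Ideal.mem_span_singleton'.1 hy
    rw [smul_eq_mul, Ideal.mem_mul_span_singleton]
    rcases h with h | h
    · refine ⟨0, zero_mem _, ?_⟩
      show (0 : Localization.AtPrime q) * F' = c * F'
      rw [show F' = 0 from h, mul_zero, mul_zero]
    · refine ⟨c, ?_, rfl⟩
      by_contra hc
      have hcu : IsUnit c := by_contra fun h' => hc h'
      rw [Derivation.leibniz, TensorProduct.tmul_add, TensorProduct.tmul_smul, TensorProduct.tmul_smul] at h0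
      have hF0 : F' • ((1 : q.ResidueField) ⊗ₜ[Localization.AtPrime q]
          KaehlerDifferential.D R (Localization.AtPrime q) c) = 0 := by
        rw [TensorProduct.smul_tmul', Algebra.smul_def, mul_one,
          show algebraMap (Localization.AtPrime q) q.ResidueField F' = 0 from (IsLocalRing.residue_eq_zero_iff _).2 hF'm,
          TensorProduct.zero_tmul]
      rw [hF0, add_zero, hcu.smul_eq_zero] at h0
      exact h (hd.1 h0)

end Groth.Agent.S5999
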