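import Groth.Statements.S6008
import Groth.Agent.GrpSchLib.GaPts
import Groth.Agent.RGLib.ArtinSchreier
import Mathlib.Data.ZMod.QuotientRing
import Mathlib.FieldTheory.Finite.Basic

set_option autoImplicit false
universe u
open CategoryTheory AlgebraicGeometry MonoidalCategory CartesianMonoidalCategory MonObj GrpObj
open SGA1t

namespace Groth.Agent.S6008

open CategoryTheory.Limits TopologicalSpace Groth.Agent.GrpSchLib in
/-- Let p be a prime and S a scheme of characteristic p (p = 0 in the ring of global functions). Let F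
be the Frobenius endomorphism of the additive group over S, the S-endomorphism which raises the
coordinate function of every point to the p-th power, and let P be the difference of the identity
and F in the group of endomorphisms (on points x ↦ x − x^p). Let G' be the constant S-group (Z/p)_S:
an S-group together with an isomorphism of S-schemes e from G' to the disjoint union of copies of S
indexed by Z/p, under which the S-points of indices m and n multiply to the S-point of index m + n;
and let i : G' → G_a be the homomorphism of S-groups which sends the S-point of index 1 to the point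
whose coordinate is the unit global function. Then the Artin-Schreier sequence 1 → (Z/p)_S → G_a →
G_a → 1 is exact for the fpqc topology: i and P are homomorphisms with trivial composite, (x, g) ↦
(x, x + i(g)) identifies G_a ×_S G' with the fibre product of P with itself (so that i is a kernel
of P), and P acquires sections on the members of some fpqc covering family of its target. -/
theorem result (p : ℕ) [Fact p.Prime] {S : Scheme.{u}}
    (hp : (p : Γ(S, ⊤)) = 0) (F : Red.Ga S ⟶ Red.Ga S)
    (hF : ∀ (T : Over S) (x : T ⟶ Red.Ga S), Red.gaFn (x ≫ F) = Red.gaFn x ^ p)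
    {G' : Over S} [GrpObj G'] (e : G' ≅ TwC.const S (Multiplicative (ZMod p)))
    (he : TwC.IsConstGrp (Multiplicative (ZMod p)) G' e)
    (i : G' ⟶ Red.Ga S) [IsMonHom i]
    (hi : Red.gaFn (TwC.pt S (Multiplicative (ZMod p)) (Multiplicative.ofAdd 1) ≫ e.inv ≫ i) = 1) :
    NonAbH1.IsExactSeq Scheme.fpqcPrecoverage i (𝟙 (Red.Ga S) * F⁻¹) := by
  classical
  have hp1 : 1 < p := (Fact.out : p.Prime).one_lt
  have hpT : ∀ {T : Over S}, (p : Γ(T.left, ⊤)) = 0 := fun {T} => by
    rw [← map_natCast T.hom.appTop.hom, hp, map_zero]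
  have hadd : ∀ {T : Over S} (a b : Γ(T.left, ⊤)), (a + b) ^ p = a ^ p + b ^ p := fun {T} a b => by
    obtain ⟨r, hr⟩ := exists_add_pow_prime_eq (Fact.out : p.Prime) a b
    rw [hr, hpT, zero_mul, zero_mul, zero_mul, add_zero]
  have hinv : ∀ {T : Over S} (x : T ⟶ Red.Ga S), Red.gaFn x⁻¹ = - Red.gaFn x := fun {T} x => by
    refine eq_neg_of_add_eq_zero_left ?_
    rw [← GaPts.gaFn_mul, _root_.inv_mul_cancel, GaPts.gaFn_one]
  let P : Red.Ga S ⟶ Red.Ga S := 𝟙 (Red.Ga S) * F⁻¹
  have hP : ∀ {T : Over S} (x : T ⟶ Red.Ga S), Red.gaFn (x ≫ P) = Red.gaFn x - Red.gaFn x ^ p := fun {T} x => by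
    simp only [P]
    rw [MonObj.comp_mul, GrpObj.comp_inv, Category.comp_id, GaPts.gaFn_mul, hinv, hF, sub_eq_add_neg]
  haveI hPm : IsMonHom P := by
    refine ⟨GaPts.gaFn_injective ?_, GaPts.gaFn_injective ?_⟩
    · show Red.gaFn (η[Red.Ga S] ≫ P) = Red.gaFn η[Red.Ga S]
      have h0 : Red.gaFn η[Red.Ga S] = 0 := by
        rw [show η[Red.Ga S] = (1 : 𝟙_ (Over S) ⟶ Red.Ga S) by
          rw [Hom.one_def, toUnit_unique (toUnit (𝟙_ (Over S))) (𝟙 _), Category.id_comp]]
        exact GaPts.gaFn_one
      rw [hP, h0, zero_pow (by omega), sub_zero]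
    · show Red.gaFn (μ[Red.Ga S] ≫ P) = Red.gaFn ((P ⊗ₘ P) ≫ μ[Red.Ga S])
      have h2 : (P ⊗ₘ P) ≫ μ[Red.Ga S] = (fst _ _ ≫ P) * (snd _ _ ≫ P) := by
        rw [Hom.mul_def]; congr 1
      have h3 : μ[Red.Ga S] = fst (Red.Ga S) (Red.Ga S) * snd _ _ := by
        rw [Hom.mul_def, lift_fst_snd, Category.id_comp]
      rw [h2, GaPts.gaFn_mul, hP, hP, hP, h3, GaPts.gaFn_mul, hadd]
      ring
  let σ : ZMod p → (𝟙_ (Over S) ⟶ G') := fun m => TwC.pt S (Multiplicative (ZMod p)) (Multiplicative.ofAdd m) ≫ e.inv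
  have hσ : ∀ a b, σ (a + b) = σ a * σ b := fun a b => (he _ _).symm
  have hR : (p : Γ((𝟙_ (Over S)).left, ⊤)) = 0 := hpT
  obtain ⟨φ, -⟩ : ∃ φ : ZMod p →+* Γ((𝟙_ (Over S)).left, ⊤), φ 1 = 1 :=
    ⟨(Ideal.Quotient.lift (Ideal.span {(p : ℤ)}) (Int.castRingHom _) (fun a ha => by
      obtain ⟨b, rfl⟩ := Ideal.mem_span_singleton.1 ha
      simp [hR])).comp (Int.quotientSpanNatEquivZMod p).symm.toRingHom, map_one _⟩
  have hφ : ∀ m, Red.gaFn (σ m ≫ i) = φ m := by
    let g : ZMod p →+ Γ((𝟙_ (Over S)).left, ⊤) := AddMonoidHom.mk' (fun m => Red.gaFn (σ m ≫ i)) fun a b => by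
      rw [hσ, MonObj.mul_comp (σ a) (σ b) i, GaPts.gaFn_mul]
    have : g = φ.toAddMonoidHom := by
      refine AddMonoidHom.ext fun m => ?_
      obtain ⟨k, rfl⟩ := ZMod.natCast_zmod_surjective m
      have h1 : g 1 = 1 := by
        show Red.gaFn ((TwC.pt S _ _ ≫ e.inv) ≫ i) = 1
        rw [Category.assoc]
        exact hi
      rw [← nsmul_one, map_nsmul, map_nsmul, h1]
      show k • (1 : Γ((𝟙_ (Over S)).left, ⊤)) = k • φ 1
      rw [map_one]
    exact fun m => DFunLike.congr_fun this m
  have hconst_ext : ∀ {Y : Over S} (a b : G' ⟶ Y), (∀ m, σ m ≫ a = σ m ≫ b) → a = b := by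
    intro Y a b h
    rw [← cancel_epi e.inv]
    ext1
    refine Sigma.hom_ext _ _ fun m => ?_
    have := congrArg Over.Hom.left (h (Multiplicative.toAdd m))
    simpa [σ, TwC.pt] using this
  have hiP : i ≫ P = 1 := by
    refine hconst_ext _ _ fun m => GaPts.gaFn_injective ?_
    show Red.gaFn (σ m ≫ i ≫ P) = Red.gaFn (σ m ≫ 1)
    rw [← Category.assoc, hP, hφ, MonObj.comp_one, GaPts.gaFn_one, ← map_pow, ZMod.pow_card, sub_self]
  -- the points of `G'` are the solutions of `v ^ p = v`
  have hker : ∀ {T : Over S} (t : T ⟶ Red.Ga S), t ≫ P = 1 → ∃! z : T ⟶ G', z ≫ i = t := by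
    intro T t ht
    let v := Red.gaFn t
    have hv : v ^ p = v := by
      have := hP t
      rw [ht, GaPts.gaFn_one] at this
      exact (sub_eq_zero.1 this.symm).symm
    let c : ZMod p → Γ(T.left, ⊤) := fun m => (show T ⟶ 𝟙_ (Over S) from toUnit T).left.appTop (φ m)
    have hc : ∀ m k : ZMod p, c m - c k = c (m - k) := fun m k => by simp only [c, map_sub]
    let E : ZMod p → Γ(T.left, ⊤) := fun m => 1 - (v - c m) ^ (p - 1)
    let U : ZMod p → T.left.Opens := fun m => T.left.basicOpen (E m)
    have hloc : ∀ (m : ZMod p) (x : T.left), x ∈ U m ↔ ¬ IsUnit (T.left.presheaf.germ ⊤ x trivial (v - c m)) := by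
      intro m x
      show x ∈ T.left.basicOpen (E m) ↔ _
      rw [Scheme.mem_basicOpen_top]
      let w := T.left.presheaf.germ ⊤ x trivial (v - c m)
      have hE : T.left.presheaf.germ ⊤ x trivial (E m) = 1 - w ^ (p - 1) := by
        simp only [E, w, map_sub, map_one, map_pow]
      have hw : w ^ p = w := by
        have h1 : (v - c m) ^ p = v - c m := by
          have h2 := hadd (v - c m) (c m)
          have h3 : c m ^ p = c m := by simp only [c, ← map_pow, ZMod.pow_card]
          rw [sub_add_cancel, hv, h3] at h2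
          exact eq_sub_of_add_eq h2.symm
        show _ = w
        rw [← map_pow, h1]
      show IsUnit (T.left.presheaf.germ ⊤ x trivial (E m)) ↔ ¬ IsUnit w
      rw [hE]
      refine ⟨fun h hu => ?_, fun h => ?_⟩
      · have h4 : w * w ^ (p - 1) = w := by rw [← pow_succ', Nat.sub_add_cancel hp1.le, hw]
        have : w ^ (p - 1) = 1 := hu.mul_left_cancel (by rw [h4, _root_.mul_one])
        rw [this, sub_self] at h
        exact not_isUnit_zero h
      · exact IsLocalRing.isUnit_one_sub_self_of_mem_nonunits _ fun hu => h ((isUnit_pow_iff (by omega)).1 hu)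
    have hE0 : ∀ m, T.left.presheaf.map (homOfLE (T.left.basicOpen_le (E m))).op (v - c m) = 0 := by
      intro m
      refine IsUnit.mul_right_eq_zero (RingedSpace.isUnit_res_basicOpen _ (E m)) |>.1 ?_
      refine (map_mul (T.left.presheaf.map (homOfLE (T.left.basicOpen_le (E m))).op).hom _ _).symm.trans ?_
      have : E m * (v - c m) = 0 := by
        have h2 := hadd (v - c m) (c m)
        have h3 : c m ^ p = c m := by simp only [c, ← map_pow, ZMod.pow_card]
        rw [sub_add_cancel, hv, h3] at h2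
        simp only [E]
        rw [sub_mul, _root_.one_mul, ← pow_succ, Nat.sub_add_cancel hp1.le, eq_sub_of_add_eq h2.symm, sub_self]
      rw [this, map_zero]
      rfl
    have hdisj : ∀ m k, m ≠ k → U m ⊓ U k = ⊥ := by
      intro m k hmk
      refine eq_bot_iff.2 fun x hx => ?_
      have hu : IsUnit (c m - c k) := by
        rw [hc]
        exact (isUnit_iff_ne_zero.2 (sub_ne_zero.2 hmk)).map ((show T ⟶ 𝟙_ (Over S) from toUnit T).left.appTop.hom.comp φ)
      have h1 := (hloc m x).1 hx.1
      have h2 := (hloc k x).1 hx.2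
      have h3 := hu.map (T.left.presheaf.germ ⊤ x trivial).hom
      rw [show c m - c k = (v - c k) + -(v - c m) by abel, map_add, map_neg] at h3
      rcases IsLocalRing.isUnit_or_isUnit_of_isUnit_add h3 with h | h
      · exact (h2 h).elim
      · exact (h1 (by simpa using h.neg)).elim
    have hcov : iSup U = ⊤ := by
      refine eq_top_iff.2 fun x _ => Opens.mem_iSup.2 ?_
      by_contra hcon
      push_neg at hcon
      have hall : ∀ m, IsUnit (T.left.presheaf.germ ⊤ x trivial (v - c m)) := fun m => not_not.1 fun h => hcon m ((hloc m x).2 h)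
      let ψ : ZMod p →+* T.left.presheaf.stalk x := (T.left.presheaf.germ ⊤ x trivial).hom.comp
        ((show T ⟶ 𝟙_ (Over S) from toUnit T).left.appTop.hom.comp φ)
      let w := T.left.presheaf.germ ⊤ x trivial v
      have hprod : Polynomial.eval₂ ψ w (∏ m : ZMod p, (Polynomial.X - Polynomial.C m)) = 0 := by
        rw [show (∏ m : ZMod p, (Polynomial.X - Polynomial.C m)) = Polynomial.X ^ p - Polynomial.X by
          have hr := FiniteField.roots_X_pow_card_sub_X (K := ZMod p)
          rw [ZMod.card] at hr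
          have h := Polynomial.prod_multiset_X_sub_C_of_monic_of_roots_card_eq
            (p := (Polynomial.X ^ p - Polynomial.X : Polynomial (ZMod p)))
            (Polynomial.monic_X_pow_sub (by rw [Polynomial.degree_X]; exact_mod_cast hp1))
            (by rw [hr, Finset.card_val, Finset.card_univ, ZMod.card, FiniteField.X_pow_card_sub_X_natDegree_eq _ hp1])
          rw [hr] at h
          exact h]
        rw [Polynomial.eval₂_sub, Polynomial.eval₂_X_pow, Polynomial.eval₂_X, ← map_pow, hv, sub_self]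
      rw [Polynomial.eval₂_finsetProd] at hprod
      have hu : IsUnit (∏ m : ZMod p, Polynomial.eval₂ ψ w (Polynomial.X - Polynomial.C m)) :=
        Finset.prod_induction _ IsUnit (fun _ _ => IsUnit.mul) isUnit_one (fun m _ => by
          rw [Polynomial.eval₂_sub, Polynomial.eval₂_X, Polynomial.eval₂_C]
          have := hall m
          rwa [map_sub] at this)
      rw [hprod] at hu
      exact not_isUnit_zero hu
    let j : ∀ m, (U m : Scheme.{u}) ⟶ G'.left := fun m =>
      (U m).ι ≫ T.hom ≫ (σ m).left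
    have hσh : ∀ m, (σ m).left ≫ G'.hom = 𝟙 S := fun m => Over.w (σ m)
    let 𝒰 : T.left.OpenCover := Scheme.openCoverOfIsOpenCover T.left U (IsOpenCover.mk hcov)
    let zl : T.left ⟶ G'.left := 𝒰.glueMorphisms j (fun (m k : ZMod p) => by
      by_cases hmk : m = k
      · subst hmk
        exact congrArg (· ≫ j m) ((cancel_mono (U m).ι).1 pullback.condition)
      · haveI : IsEmpty ↥(pullback (U m).ι (U k).ι) := ⟨fun x => by
          have h1 : (U m).ι (pullback.fst (U m).ι (U k).ι x) ∈ U m ⊓ U k := by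
            refine ⟨(pullback.fst (U m).ι (U k).ι x).2, ?_⟩
            have := congrArg (fun q : pullback (U m).ι (U k).ι ⟶ T.left => q x) pullback.condition
            exact this.symm ▸ (pullback.snd (U m).ι (U k).ι x).2
          rw [hdisj m k hmk] at h1
          exact h1⟩
        exact (isInitialOfIsEmpty (X := pullback (U m).ι (U k).ι)).hom_ext _ _)
    have hzl : ∀ m, (U m).ι ≫ zl = j m := fun m => 𝒰.ι_glueMorphisms _ _ m
    let z : T ⟶ G' := Over.homMk zl (𝒰.hom_ext _ _ fun (m : ZMod p) => by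
      show (U m).ι ≫ zl ≫ G'.hom = (U m).ι ≫ T.hom
      rw [← Category.assoc, hzl]
      simp only [j, Category.assoc, hσh]
      rw [Category.comp_id])
    -- restriction of a point to `U m`
    let Um : ZMod p → Over S := fun m => Over.mk ((U m).ι ≫ T.hom)
    let inc : ∀ m, Um m ⟶ T := fun m => Over.homMk (U m).ι rfl
    have hres : ∀ m, inc m ≫ t = toUnit (Um m) ≫ σ m ≫ i := fun m => GaPts.gaFn_injective (by
      show Red.gaFn (inc m ≫ t) = Red.gaFn (toUnit (Um m) ≫ σ m ≫ i)
      rw [GaPts.gaFn_comp, GaPts.gaFn_comp, hφ]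
      have h1 : (U m).ι.appTop (v - c m) = 0 := by
        rw [Scheme.Opens.ι_appTop]
        have h2 := congrArg (T.left.presheaf.map (eqToHom (by simp : (U m).ι ''ᵁ ⊤ = U m)).op) (hE0 m)
        rw [map_zero, ← CommRingCat.comp_apply, ← Functor.map_comp] at h2
        exact h2
      rw [map_sub, sub_eq_zero] at h1
      refine h1.trans ?_
      simp only [c]
      rw [← CommRingCat.comp_apply, ← Scheme.Hom.comp_appTop]
      have : inc m ≫ toUnit T = toUnit (Um m) := toUnit_unique _ _
      rw [← this, Over.comp_left]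
      rfl)
    refine ⟨z, ?_, fun z' hz' => ?_⟩
    · ext1
      refine 𝒰.hom_ext _ _ fun (m : ZMod p) => ?_
      have h := congrArg Over.Hom.left (hres m)
      show (U m).ι ≫ zl ≫ i.left = (U m).ι ≫ t.left
      rw [← Category.assoc, hzl]
      refine Eq.trans ?_ h.symm
      simp only [j, Category.assoc]
      rfl
    · ext1
      refine 𝒰.hom_ext _ _ fun (m : ZMod p) => ?_
      show (U m).ι ≫ z'.left = (U m).ι ≫ zl
      rw [hzl]
      let z'' := (U m).ι ≫ z'.left ≫ e.hom.left
      let W : Multiplicative (ZMod p) → (U m).toScheme.Opens := fun k => z'' ⁻¹ᵁ (Sigma.ι (fun _ : Multiplicative (ZMod p) => S) k).opensRange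
      have hW : ∀ k, k ≠ Multiplicative.ofAdd m → ∀ x : (U m).toScheme, x ∉ W k := by
        intro k hk x hx
        let Wk : Over S := Over.mk ((W k).ι ≫ (U m).ι ≫ T.hom)
        let r : Wk ⟶ T := Over.homMk ((W k).ι ≫ (U m).ι) (by simp [Wk])
        have hfac := IsOpenImmersion.lift_fac (Sigma.ι (fun _ : Multiplicative (ZMod p) => S) k) ((W k).ι ≫ z'') (by
          rintro _ ⟨y, rfl⟩
          exact y.2)
        have hlift : IsOpenImmersion.lift (Sigma.ι (fun _ : Multiplicative (ZMod p) => S) k) ((W k).ι ≫ z'') (by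
          rintro _ ⟨y, rfl⟩
          exact y.2) = Wk.hom := by
          have h1 : (r ≫ z' ≫ e.hom).left ≫ (TwC.const S (Multiplicative (ZMod p))).hom = Wk.hom := Over.w _
          have h2 : (r ≫ z' ≫ e.hom).left = (W k).ι ≫ z'' := by simp [r, z'']
          rw [h2, ← hfac, Category.assoc] at h1
          rwa [show Sigma.ι (fun _ : Multiplicative (ZMod p) => S) k ≫ (TwC.const S (Multiplicative (ZMod p))).hom = 𝟙 S from
            Sigma.ι_desc _ _, Category.comp_id] at h1
        have h3 : r ≫ z' = toUnit Wk ≫ σ (Multiplicative.toAdd k) := by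
          rw [← cancel_mono e.hom, Category.assoc, Category.assoc]
          ext1
          have h2 : (r ≫ z' ≫ e.hom).left = (W k).ι ≫ z'' := by simp [r, z'']
          rw [h2, ← hfac, hlift]
          simp [σ, TwC.pt]
        let r' : Wk ⟶ Um m := Over.homMk (W k).ι rfl
        have h4 : r' ≫ inc m = r := by ext1; rfl
        have h5 := congrArg Red.gaFn (congrArg (r' ≫ ·) (hres m))
        rw [← Category.assoc, h4, ← hz', ← Category.assoc, h3, Category.assoc, ← Category.assoc r',
          comp_toUnit, GaPts.gaFn_comp (toUnit Wk) (σ (Multiplicative.toAdd k) ≫ i),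
          GaPts.gaFn_comp (toUnit Wk) (σ m ≫ i), hφ, hφ, ← sub_eq_zero, ← map_sub, ← map_sub] at h5
        have hu : IsUnit ((toUnit Wk).left.appTop (φ (Multiplicative.toAdd k - m))) :=
          (isUnit_iff_ne_zero.2 ((sub_ne_zero (a := (Multiplicative.toAdd k : ZMod p)) (b := m)).2
            fun h => hk (congrArg Multiplicative.ofAdd h))).map
            ((toUnit Wk).left.appTop.hom.comp φ)
        rw [h5] at hu
        haveI : Nonempty Wk.left := ⟨⟨x, hx⟩⟩
        haveI : Nonempty (⊤ : Wk.left.Opens) := ⟨⟨⟨x, hx⟩, trivial⟩⟩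
        exact not_isUnit_zero hu
      have hrange : Set.range z'' ⊆ Set.range (Sigma.ι (fun _ : Multiplicative (ZMod p) => S) (Multiplicative.ofAdd m)) := by
        rintro _ ⟨x, rfl⟩
        obtain ⟨⟨k⟩, y, hy⟩ := (Scheme.IsLocallyDirected.ι_jointly_surjective _ (z'' x))
        by_cases hk : k = Multiplicative.ofAdd m
        · subst hk; exact ⟨y, hy⟩
        · exact (hW k hk x ⟨y, hy⟩).elim
      have hfac := IsOpenImmersion.lift_fac _ _ hrange
      have hlift : IsOpenImmersion.lift _ _ hrange = (U m).ι ≫ T.hom := by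
        have h1 : (inc m ≫ z' ≫ e.hom).left ≫ (TwC.const S (Multiplicative (ZMod p))).hom = (U m).ι ≫ T.hom := Over.w _
        have h2 : (inc m ≫ z' ≫ e.hom).left = z'' := by simp [inc, z'']
        rw [h2, ← hfac, Category.assoc] at h1
        rwa [show Sigma.ι (fun _ : Multiplicative (ZMod p) => S) (Multiplicative.ofAdd m) ≫ (TwC.const S (Multiplicative (ZMod p))).hom = 𝟙 S from
          Sigma.ι_desc _ _, Category.comp_id] at h1
      haveI : IsIso e.hom.left := ((Over.forget _).mapIso e).isIso_hom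
      rw [← cancel_mono e.hom.left, Category.assoc]
      refine hfac.symm.trans ?_
      rw [hlift]
      simp only [j, σ, Over.comp_left, Category.assoc]
      simp [TwC.pt, ← Over.comp_left]
  have hdiv : ∀ {T : Over S} (a b : T ⟶ Red.Ga S), a ≫ P = b ≫ P → ∃! z : T ⟶ G', z ≫ i = a⁻¹ * b :=
    fun {T} a b h => hker _ (by
      rw [MonObj.mul_comp (a⁻¹) b P]
      rw [GrpObj.inv_comp a P]
      rw [h, _root_.inv_mul_cancel])
  have hμ : (Red.Ga S ◁ i) ≫ μ[Red.Ga S] = fst (Red.Ga S) G' * (snd _ _ ≫ i) := by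
    rw [Hom.mul_def]
    congr 1
  have hw' : fst (Red.Ga S) G' ≫ P = ((Red.Ga S ◁ i) ≫ μ[Red.Ga S]) ≫ P := by
    rw [hμ, MonObj.mul_comp (fst (Red.Ga S) G') (snd (Red.Ga S) G' ≫ i) P, Category.assoc, hiP, MonObj.comp_one, _root_.mul_one]
  refine ⟨inferInstance, hPm, hiP, ⟨⟨hw'⟩, ⟨PullbackCone.IsLimit.mk hw' (fun s => lift s.fst
      (hdiv s.fst s.snd s.condition).choose) (fun s => lift_fst _ _)
      (fun s => ?_) (fun s m h1 h2 => ?_)⟩⟩, ?_⟩
  · rw [hμ, MonObj.comp_mul, lift_fst, lift_snd_assoc, (hdiv s.fst s.snd s.condition).choose_spec.1, mul_inv_cancel_left]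
  · refine CartesianMonoidalCategory.hom_ext _ _ (h1.trans (lift_fst _ _).symm) ?_
    rw [lift_snd]
    refine (hdiv s.fst s.snd s.condition).choose_spec.2 _ ?_
    rw [hμ, MonObj.comp_mul, h1] at h2
    rw [Category.assoc, ← h2, inv_mul_cancel_left]
  · have hPeq : P = (Over.pullback (GaPts.toBaseZ S)).map (Groth.Agent.RGLib.ArtinSchreier.asMap.{u} p) :=
      GaPts.gaFn_injective (by
        show Red.gaFn P = Red.gaFn _
        rw [← Category.id_comp P, hP]
        exact ((congrArg Red.gaFn (Category.id_comp _)).symm.trans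
          (Groth.Agent.RGLib.ArtinSchreier.gaFn_asMap p (𝟙 (Red.Ga S)))).symm)
    refine ⟨Presieve.singleton P.left, ?_, fun S' f hf => ?_⟩
    · rw [hPeq]
      exact Groth.Agent.RGLib.ArtinSchreier.pullback_asMap_mem p hp1 S
    · cases hf
      exact ⟨𝟙 _, Category.id_comp _⟩

end Groth.Agent.S6008
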