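import Groth.Statements.S6020
import Groth.Agent.H1LCZ.Shift

set_option autoImplicit false
universe u
open CategoryTheory CategoryTheory.Limits TopologicalSpace
open LocCohZ

namespace Groth.Agent.S6020

/-- Consider a topological space X carrying a sheaf F of abelian groups, an open subset U whose
complement is the closed set Z, and a natural number N. The local cohomology sheaves ℋ^i_Z(F) are
zero for all i ≤ N exactly when, for each open V of X, restricting H^i(V, F) → H^i(V ∩ U, F) gives a
bijection whenever i < N and an injection when i = N. -/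
theorem result {X : TopCat.{u}} (F : CohTop.Ab X) (U : Opens X) (N : ℕ) :
    (∀ i : ℕ, i ≤ N → IsZero ((LocCohZ.HZsh U i).obj F)) ↔
      ∀ V : Opens X, (∀ i : ℕ, i < N → Function.Bijective (CohTop.res F i (inf_le_left : V ⊓ U ≤ V))) ∧
        Function.Injective (CohTop.res F N (inf_le_left : V ⊓ U ≤ V)) := by
  have h1 := Groth.Agent.H1LCZ.vanish_iff U F (N + 1)
  simp only [Nat.lt_succ_iff] at h1
  refine h1.trans ⟨fun h V => (Groth.Agent.H1LCZ.vanish_le_iff F _ N).1 fun i hi => h i hi V, fun h i hi V => ?_⟩
  exact (Groth.Agent.H1LCZ.vanish_le_iff F _ N).2 (h V) i hi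

end Groth.Agent.S6020
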