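import Groth.Statements.S6026
import Groth.Agent.H1LCZ.Excision

set_option autoImplicit false
universe u
open CategoryTheory CategoryTheory.Limits TopologicalSpace
open LocCohZ

namespace Groth.Agent.S6026

theorem exists_equiv_of_iso {A B : Type*} [Category A] [Category B] {H : A ⥤ AddCommGrpCat.{u}} {E : A ⥤ B}
    {G : B ⥤ AddCommGrpCat.{u}} (η : H ≅ E ⋙ G) :
    ∃ e : ∀ F : A, H.obj F ≃+ G.obj (E.obj F), ∀ (F F' : A) (φ : F ⟶ F') (x : H.obj F),
      e F' ((H.map φ).hom x) = (G.map (E.map φ)).hom (e F x) :=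
  ⟨fun F => (η.app F).addCommGroupIsoToAddEquiv, fun _ _ φ x =>
    ConcreteCategory.congr_hom (η.hom.naturality φ) x⟩

/-- Let X be a topological space, W ⊆ V opens of X and Z = V − W. For every i there is an isomorphism
H^i_Z(X, F) ≅ H^i_Z(V, F|_V), natural in the abelian sheaf F on X, between cohomology with supports
in Z computed on X and computed on the open subspace V. (Existence of a natural family of
isomorphisms; the published statement has the canonical maps of cohomological functors.) -/
theorem result {X : TopCat.{u}} {W V : Opens X} (h : W ≤ V) (i : ℕ) :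
    ∃ e : ∀ F : CohTop.Ab X,
        LocCohZ.HZ F i h ≃+ LocCohZ.HZc (CohTop.restr F V) i ((Opens.map (CohCx.incl V)).obj W),
      ∀ (F G : CohTop.Ab X) (φ : F ⟶ G) (x : LocCohZ.HZ F i h),
        e G (LocCohZ.map φ i h x) =
          LocCohZ.map ((CohTop.restrFunctor V).map φ) i
            (le_top : (Opens.map (CohCx.incl V)).obj W ≤ ⊤) (e F x) := by
  have hW : (V.isOpenEmbedding : Topology.IsOpenEmbedding (CohCx.incl V)).isOpenMap.functor.obj
      ((Opens.map (CohCx.incl V)).obj W) = W := Opens.ext (by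
    show Subtype.val '' (Subtype.val ⁻¹' (W : Set X) : Set V) = (W : Set X)
    ext x
    exact ⟨fun ⟨y, hy, e⟩ => e ▸ hy, fun hx => ⟨⟨x, h hx⟩, hx, rfl⟩⟩)
  have hV : (V.isOpenEmbedding : Topology.IsOpenEmbedding (CohCx.incl V)).isOpenMap.functor.obj ⊤ = V := Opens.ext (by
    show Subtype.val '' (Set.univ : Set V) = (V : Set X)
    simp)
  obtain ⟨η⟩ := Groth.Agent.H1LCZ.exists_natural_restr h (j := CohCx.incl V) V.isOpenEmbedding
    (le_top : (Opens.map (CohCx.incl V)).obj W ≤ ⊤) hW hV i
  obtain ⟨e, he⟩ := exists_equiv_of_iso η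
  exact ⟨e, he⟩

end Groth.Agent.S6026
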