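import Groth.Statements.S6027
import Groth.Agent.H1LCZ.Basic

set_option autoImplicit false
universe u
open CategoryTheory CategoryTheory.Limits TopologicalSpace
open LocCohZ

namespace Groth.Agent.S6027

/-- The case of a closed subset. Let X be a topological space and Z a closed subset with open complement
U. For every q the q-th right derived functor of F ↦ Γ_Z(X, F) is isomorphic to the functor F ↦
Ext^q(ℤ_{Z,X}, F), where ℤ_{Z,X} = ℤ_X/ℤ_U. (Existence of an isomorphism of functors for each q;
compatibility with connecting maps is not asserted.) -/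
theorem result {X : TopCat.{u}} (U : Opens X) (q : ℕ) :
    Nonempty (LocCohZ.RHZ U q ≅ ToposFin.HZFunctor (LocCohZ.openSh U) q) := by
  open CategoryTheory CategoryTheory.Limits Opposite TopologicalSpace in
  exact (by
    let J := Opens.grothendieckTopology X
    let ev := (evaluation (Opens X)ᵒᵖ AddCommGrpCat.{u}).obj (op (⊤ : Opens X))
    let G := LocCohZ.sectSuppF U ⋙ sheafToPresheaf J AddCommGrpCat.{u}
    have hW : (⊤ : Opens X) ⊓ U ≤ ⊤ := inf_le_left
    let e1 : LocCohZ.gammaZF U ≅ G ⋙ ev := (Functor.associator _ _ _).symm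
    let e2 : (Groth.Agent.H1LCZ.P U).obj ⊤ ≅ ToposFin.quotZ (LocCohZ.openSh U) :=
      eqToIso (show LocCohZ.zq hW = LocCohZ.zq (le_top : U ≤ ⊤) by congr 1 <;> simp) ≪≫ LocCohZ.zqIsoQuotZ U
    let e3 : (Groth.Agent.SiteBase.HomPres.extPsh (Groth.Agent.H1LCZ.P U) q) ⋙ ev ≅
        (Abelian.extFunctor.{u} q).obj (op ((Groth.Agent.H1LCZ.P U).obj ⊤)) :=
      NatIso.ofComponents (fun _ => Iso.refl _) (fun _ => (Category.comp_id _).trans (Category.id_comp _).symm)
    exact ⟨Groth.Agent.SiteBase.rightDerivedCongr e1 q ≪≫ Groth.Agent.SiteBase.rightDerivedCompIso G ev q ≪≫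
      Functor.isoWhiskerRight ((Groth.Agent.H1LCZ.pres U).rightDerivedIso q) ev ≪≫ e3 ≪≫
      (Abelian.extFunctor.{u} q).mapIso e2.symm.op⟩)

end Groth.Agent.S6027
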