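import Groth.Statements.S6033
import Groth.Agent.S6032
import Groth.Agent.S6024
import Groth.Agent.S6023
-- import your own Groth.Agent.* helpers here

set_option autoImplicit false
universe u
open CategoryTheory CategoryTheory.Limits TopologicalSpace AlgebraicGeometry
open LocCohZ

namespace Groth.Agent.S6033

/-- Let A be a commutative ring such that the underlying space of X = Spec A is Noetherian. Then M~ is
flasque for every injective A-module M if and only if colim_n H^1(f^n, M) = 0 (direct limit of
Koszul cohomology of the powers) for every finite family f of elements of A and every injective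
A-module M; and in that case colim_n H^i(f^n, M) = 0 for all i > 0 as well. -/
theorem result (A : Type u) [CommRing A]
    [NoetherianSpace (PrimeSpectrum A)] :
    ((∀ (M : Type u) [AddCommGroup M] [Module A M], Module.Injective A M →
        TopCat.Sheaf.IsFlasque (Coh.toAb (AlgebraicGeometry.tilde (R := CommRingCat.of A) (ModuleCat.of A M)))) ↔
      ∀ (fs : List A) (M : Type u) [AddCommGroup M] [Module A M], Module.Injective A M →
        Subsingleton (CohIII.koszulHLim fs (ModuleCat.of A M) 1)) ∧
    ((∀ (M : Type u) [AddCommGroup M] [Module A M], Module.Injective A M →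
        TopCat.Sheaf.IsFlasque (Coh.toAb (AlgebraicGeometry.tilde (R := CommRingCat.of A) (ModuleCat.of A M)))) →
      ∀ (fs : List A) (M : Type u) [AddCommGroup M] [Module A M], Module.Injective A M →
        ∀ i : ℕ, 0 < i → Subsingleton (CohIII.koszulHLim fs (ModuleCat.of A M) i)) := by
  
  have h23 : (∀ (M : Type u) [AddCommGroup M] [Module A M], Module.Injective A M →
      TopCat.Sheaf.IsFlasque (Coh.toAb (AlgebraicGeometry.tilde (R := CommRingCat.of A) (ModuleCat.of A M)))) →
      ∀ (fs : List A) (M : Type u) [AddCommGroup M] [Module A M], Module.Injective A M →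
        ∀ i : ℕ, 0 < i → Subsingleton (CohIII.koszulHLim fs (ModuleCat.of A M) i) := by
    intro hfl fs M _ _ hM i hi
    haveI := hfl M hM
    obtain ⟨e⟩ := Groth.Agent.S6032.result A fs M i
    haveI : Subsingleton (LocCohZ.HZM (Spec (CommRingCat.of A))
        (AlgebraicGeometry.tilde (R := CommRingCat.of A) (ModuleCat.of A M)) i
        (LocCoh.puncturedOpen A (Ideal.span {a | a ∈ fs}))) :=
      (Groth.Agent.S6023.result (Coh.toAb (AlgebraicGeometry.tilde (R := CommRingCat.of A) (ModuleCat.of A M)))).1
        _ _ le_top i hi
    exact e.toEquiv.subsingleton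
  refine ⟨⟨fun hfl fs M _ _ hM => h23 hfl fs M hM 1 Nat.one_pos, fun hk M _ _ hM => ?_⟩, h23⟩
  refine Groth.Agent.S6024.result _ fun U => ?_
  obtain ⟨I, ⟨G, hG⟩, hU⟩ := (PrimeSpectrum.isCompact_isOpen_iff_ideal (R := A) (s := (U.carrier : Set (PrimeSpectrum A)))).1
    ⟨TopologicalSpace.NoetherianSpace.isCompact _, U.2⟩
  have hU' : U = LocCoh.puncturedOpen A (Ideal.span {a | a ∈ G.toList}) := by
    refine TopologicalSpace.Opens.ext ?_
    have hs : {a | a ∈ G.toList} = (G : Set A) := by ext a; simp
    rw [hs, show Ideal.span (G : Set A) = I from hG]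
    exact hU.symm
  subst hU'
  obtain ⟨e⟩ := Groth.Agent.S6032.result A G.toList M 1
  haveI := hk G.toList M hM
  exact e.symm.toEquiv.subsingleton

end Groth.Agent.S6033
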