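import Groth.Statements.S6036
import Groth.Agent.SiteBase.SuppInj

set_option autoImplicit false
universe u
open CategoryTheory CategoryTheory.Limits TopologicalSpace
open LocCohZ

namespace Groth.Agent.S6036


open Groth.Agent.ClosedEmb in
/-- The adjunction `i_* ⊣ i⁻¹ Γ_Z`. -/
noncomputable def adjData {X : TopCat.{u}} (U : Opens X) :
    CohTop.push (CohCx.inclCompl U) ⊣ LocCohZ.sectSuppF U ⋙ CohTop.pull (CohCx.inclCompl U) :=
  haveI := push_full (isClosedEmbedding_inclCompl U).isInducing
  haveI := push_faithful (isClosedEmbedding_inclCompl U).isInducing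
  haveI hu : ∀ F : CohTop.Ab X, IsIso ((pAdj (CohCx.inclCompl U)).unit.app (CohCx.sectSupp U F)) :=
    fun F => isIso_unit (isClosedEmbedding_inclCompl U) _
      fun x hx => isZero_stalk_sectSupp U F x ((not_range_inclCompl_iff U x).1 hx)
  have hz : ∀ (G : CohTop.Ab _) (F : CohTop.Ab X) (ψ : (CohTop.push (CohCx.inclCompl U)).obj G ⟶ F),
      ψ ≫ (pAdj (CohCx.incl U)).unit.app F = 0 := fun G F ψ =>
    ((pAdj (CohCx.incl U)).homEquiv _ _).symm.injective ((isZero_pull_push U G).eq_of_src _ _)
  Adjunction.mkOfHomEquiv
    { homEquiv := fun G F =>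
        { toFun := fun ψ => (CohTop.push (CohCx.inclCompl U)).preimage
            (kernel.lift ((pAdj (CohCx.incl U)).unit.app F) ψ (hz G F ψ) ≫
              (pAdj (CohCx.inclCompl U)).unit.app (CohCx.sectSupp U F))
          invFun := fun φ => (CohTop.push (CohCx.inclCompl U)).map φ ≫
            (@asIso _ _ _ _ _ (hu F)).inv ≫
              kernel.ι ((pAdj (CohCx.incl U)).unit.app F)
          left_inv := fun ψ => by
            simp only [Functor.map_preimage, Category.assoc]
            refine Eq.trans (congrArg (fun z => kernel.lift _ ψ (hz G F ψ) ≫ z)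
              ((@asIso _ _ _ _ _ (hu F)).hom_inv_id_assoc _)) ?_
            exact kernel.lift_ι _ _ _
          right_inv := fun φ => by
            apply (CohTop.push (CohCx.inclCompl U)).map_injective
            rw [Functor.map_preimage]
            refine (cancel_mono (@asIso _ _ _ _ _ (hu F)).inv).1 ?_
            refine Eq.trans (Category.assoc _ _ _) ?_
            refine Eq.trans (congrArg (fun z => _ ≫ z) (@asIso _ _ _ _ _ (hu F)).hom_inv_id) ?_
            refine Eq.trans (Category.comp_id _) ?_
            apply equalizer.hom_ext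
            exact (kernel.lift_ι _ _ _).trans (Category.assoc _ _ _).symm }
      homEquiv_naturality_left_symm := fun f g => by
        simp only [Equiv.coe_fn_symm_mk, Functor.map_comp, Category.assoc]
      homEquiv_naturality_right := fun {G F F'} f g => by
        apply (CohTop.push (CohCx.inclCompl U)).map_injective
        simp only [Equiv.coe_fn_mk, Functor.map_comp, Functor.map_preimage, Category.assoc]
        have nat := (pAdj (CohCx.inclCompl U)).unit.naturality ((LocCohZ.sectSuppF U).map g)
        refine Eq.trans ?_ (congrArg (fun z => kernel.lift _ f (hz G F f) ≫ z) nat)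
        refine Eq.trans ?_ (Category.assoc _ _ _)
        refine congrArg (fun z => z ≫ (pAdj (CohCx.inclCompl U)).unit.app (CohCx.sectSupp U F')) ?_
        apply equalizer.hom_ext
        refine (kernel.lift_ι _ _ _).trans ?_
        refine Eq.symm ((Category.assoc _ _ _).trans ?_)
        refine (congrArg (fun z => kernel.lift _ f (hz G F f) ≫ z) (kernel.lift_ι _ _ _)).trans ?_
        exact (Category.assoc _ _ _).symm.trans (congrArg (fun z => z ≫ g) (kernel.lift_ι _ _ _)) }


/-- For a closed subset. Let X be a topological space and Z a closed subset with open complement U and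
inclusion i : Z → X. Then i_* : (abelian sheaves on Z) → (abelian sheaves on X) is left adjoint to F
↦ i⁻¹ Γ_Z(F), the sheaf on Z of sections of F supported in Z: Hom(i_* G, F) ≅ Hom(G, i⁻¹ Γ_Z(F))
naturally in G and F. (Existence of an adjunction; for Z closed the extension by zero i_! is i_*.) -/
theorem result {X : TopCat.{u}} (U : Opens X) :
    Nonempty (CohTop.push (CohCx.inclCompl U) ⊣ LocCohZ.sectSuppF U ⋙ CohTop.pull (CohCx.inclCompl U)) := by
  exact ⟨adjData U⟩

end Groth.Agent.S6036
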