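import Groth.Statements.S6038
import Groth.Agent.H1LCZ.Transfer

set_option autoImplicit false
universe u
open CategoryTheory CategoryTheory.Limits TopologicalSpace AlgebraicGeometry
open LocCohZ

namespace Groth.Agent.S6038

/-- In the case F = O_X (where Ext^i_Y(O_X, G) is the local cohomology sheaf ℋ^i_Y(G)). Let X be a
locally Noetherian scheme whose local rings are all regular, Y a closed subset with open complement
U, G a coherent O_X-module with underlying abelian sheaf F, and i a natural number with dim O_{X,x}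
< i for every x ∈ Y. Then ℋ^i_Y(F) = 0. -/
theorem result (X : Scheme.{u}) [IsLocallyNoetherian X]
    (hreg : ∀ x : X, IsRegularLocalRing (X.presheaf.stalk x)) (U : X.Opens) (G : X.Modules) (hG : Coh.IsCoh G)
    (i : ℕ) (hi : ∀ x : X, x ∉ (U : Set X) → ringKrullDim (X.presheaf.stalk x) < (i : WithBot ℕ∞)) :
    IsZero ((LocCohZ.HZsh (X := X.carrier) U i).obj (Coh.toAb G)) := by
  refine Groth.Agent.H1LCZ.isZero_HZsh_of_basis (Z := X.carrier) U (Coh.toAb G) i X.isBasis_affineOpens fun V (hV : IsAffineOpen V) => ?_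
  haveI : IsNoetherianRing Γ(X, V) := IsLocallyNoetherian.component_noetherian ⟨V, hV⟩
  obtain ⟨I, hI, he⟩ := Groth.Agent.H1LCZ.exists_affine_iso G hG.1 hV U
  obtain ⟨e⟩ := he i
  haveI := Groth.Agent.QCoh.finite_sections hG hV
  refine e.toEquiv.subsingleton_congr.2 ?_
  rw [← Module.support_eq_empty_iff (R := Γ(X, V))]
  by_contra hne
  obtain ⟨p, hp⟩ := Set.nonempty_iff_ne_empty.2 hne
  have hle : I ≤ p.asIdeal := Groth.Agent.LC.le_prime_of_mem_support_H I _ hp
  have hx : hV.fromSpec p ∈ V := hV.opensRange_fromSpec.le (Set.mem_range_self p)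
  have hp' : hV.primeIdealOf ⟨hV.fromSpec p, hx⟩ = p :=
    hV.fromSpec.isOpenEmbedding.injective (hV.fromSpec_primeIdealOf ⟨hV.fromSpec p, hx⟩)
  have hxU : hV.fromSpec p ∉ (U : Set X) := (hI _ hx).1 (by rw [hp']; exact hle)
  letI := Groth.Agent.QCoh.stalkAlg (X := X) hx
  haveI := Groth.Agent.QCoh.isLocalization_stalk' hV hx
  have hdim : ringKrullDim (Localization.AtPrime (hV.primeIdealOf ⟨hV.fromSpec p, hx⟩).asIdeal) < (i : WithBot ℕ∞) :=
    (ringKrullDim_eq_of_ringEquiv (IsLocalization.algEquiv (hV.primeIdealOf ⟨hV.fromSpec p, hx⟩).asIdeal.primeCompl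
      (Localization.AtPrime (hV.primeIdealOf ⟨hV.fromSpec p, hx⟩).asIdeal) (X.presheaf.stalk (hV.fromSpec p))).toRingEquiv).trans_lt
      (hi _ hxU)
  rw [hp'] at hdim
  rw [Module.mem_support_iff] at hp
  obtain ⟨eL⟩ := Groth.Agent.LC.exists_localizedH I Γ(G, V) p.asIdeal i
  refine not_subsingleton_iff_nontrivial.2 hp (eL.toEquiv.subsingleton_congr.2 ?_)
  exact Groth.Agent.LC.subsingleton_H_of_supportDim_lt _ _ i
    ((Module.supportDim_le_ringKrullDim _ _).trans_lt hdim)

end Groth.Agent.S6038
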