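import Groth.Statements.S6039
import Groth.Agent.S6034
import Groth.Agent.H1LCZ.Shift

set_option autoImplicit false
universe u
open CategoryTheory CategoryTheory.Limits TopologicalSpace AlgebraicGeometry Opposite
open LocCohZ

namespace Groth.Agent.S6039

/-- Let X be a locally Noetherian scheme, Y a closed subset with open complement U and M a coherent
O_X-module. Then depth M_x ≥ 2 for every x ∈ Y if and only if, for every open V of X, the
restriction map Γ(V, M) → Γ(V ∩ U, M) is bijective. -/
theorem result (X : Scheme.{u}) [IsLocallyNoetherian X] (U : X.Opens)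
    (M : X.Modules) (hM : Coh.IsCoh M) :
    (∀ x : X, x ∉ (U : Set X) → (2 : ℕ∞) ≤ LocCoh.depth (X.presheaf.stalk x) (M.presheaf.stalk x)) ↔
      ∀ V : X.Opens, Function.Bijective (M.val.map (homOfLE (inf_le_left : V ⊓ U ≤ V)).op).hom := by
  let F : CohTop.Ab X.carrier := Coh.toAb M
  have hres : ∀ V : X.Opens, Function.Bijective (CohTop.res (X := X.carrier) F 0 (inf_le_left : V ⊓ U ≤ V)) ↔
      Function.Bijective (F.obj.map (homOfLE (inf_le_left : V ⊓ U ≤ V)).op).hom := by
    intro V
    let J := Opens.grothendieckTopology X.carrier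
    let ev : ∀ A : X.Opens, CohTop.HU (X := X.carrier) F 0 A ≃ F.obj.obj (Opposite.op A) := fun A =>
      (Equiv.ofBijective _ (CategoryTheory.Abelian.Ext.mk₀_bijective _ _)).symm.trans (CohFree.homEquivSect J A F).toEquiv
    have hcomm : ∀ x, ev (V ⊓ U) (CohTop.res (X := X.carrier) F 0 (inf_le_left : V ⊓ U ≤ V) x) =
        (F.obj.map (homOfLE (inf_le_left : V ⊓ U ≤ V)).op).hom (ev V x) := by
      intro x
      obtain ⟨φ, rfl⟩ := (CategoryTheory.Abelian.Ext.mk₀_bijective _ _).2 x
      have h1 : ∀ (A : X.Opens) ψ, ev A (CategoryTheory.Abelian.Ext.mk₀ ψ) = CohFree.evalGen J A F ψ := fun A ψ => by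
        show CohFree.homEquivSect J A F ((Equiv.ofBijective _ (CategoryTheory.Abelian.Ext.mk₀_bijective _ _)).symm
          (CategoryTheory.Abelian.Ext.mk₀ ψ)) = _
        rw [Equiv.ofBijective_symm_apply_apply, CohFree.homEquivSect_apply]
      rw [h1 V φ]
      refine Eq.trans (congrArg (ev (V ⊓ U)) (CategoryTheory.Abelian.Ext.mk₀_comp_mk₀
        (CohCx.freeSheafMap J (homOfLE (inf_le_left : V ⊓ U ≤ V))) φ)) ?_
      rw [h1, CohFree.evalGen_freeSheafMap_comp]
    constructor
    · intro h
      have : (F.obj.map (homOfLE (inf_le_left : V ⊓ U ≤ V)).op).hom ∘ ev V =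
          ev (V ⊓ U) ∘ CohTop.res (X := X.carrier) F 0 (inf_le_left : V ⊓ U ≤ V) := funext fun x => (hcomm x).symm
      exact (Function.Bijective.of_comp_iff _ (ev V).bijective).1 (this ▸ (ev (V ⊓ U)).bijective.comp h)
    · intro h
      have : ev (V ⊓ U) ∘ CohTop.res (X := X.carrier) F 0 (inf_le_left : V ⊓ U ≤ V) =
          (F.obj.map (homOfLE (inf_le_left : V ⊓ U ≤ V)).op).hom ∘ ev V := funext hcomm
      exact (Function.Bijective.of_comp_iff' (ev (V ⊓ U)).bijective _).1 (this ▸ h.comp (ev V).bijective)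
  refine (Groth.Agent.S6034.result X U M hM 2).symm.trans ?_
  constructor
  · intro h V
    have h' := (Groth.Agent.H1LCZ.vanish_iff (X := X.carrier) U F 2).1 h
    exact (hres V).1 (((Groth.Agent.H1LCZ.vanish_le_iff (X := X.carrier) F (inf_le_left : V ⊓ U ≤ V) 1).1
      (fun i hi => h' i (by omega) V)).1 0 one_pos)
  · intro h i hi
    exact Groth.Agent.H1LCZ.isZero_HZsh (X := X.carrier) U F i
      (Groth.Agent.H1LCZ.vanish_of_bijective (X := X.carrier) U F 1 one_pos
        (fun V j hj => by obtain rfl : j = 0 := (by omega); exact (hres V).2 (h V)) i (by omega))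

end Groth.Agent.S6039
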