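import Groth.Statements.S6040
import Groth.Agent.SiteBase.DerivedPrecomp
import Groth.Agent.SiteBase.ExtByZero
import Groth.Agent.SiteBase.Rpush

set_option autoImplicit false
universe u
open CategoryTheory CategoryTheory.Limits TopologicalSpace
open LocCohZ

namespace Groth.Agent.S6040

/-- Let X be a topological space, U an open subset and j : U → X the inclusion, so that the sheaf of
sections with supports in the open U is Γ_U(F) = j_*(F|_U). For every q the local cohomology sheaf
functor ℋ^q_U, i.e. the q-th right derived functor of F ↦ j_*(F|_U), is isomorphic to F ↦ R^q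
j_*(F|_U). (Existence of an isomorphism of functors for each q.) -/
theorem result {X : TopCat.{u}} (U : Opens X) (q : ℕ) :
    Nonempty (CohCx.RpushOn (𝟙 X) U q ≅ CohTop.restrFunctor U ⋙ CohTop.Rpush (CohCx.incl U) q) := by
  haveI := Groth.Agent.ExtByZero.preservesFiniteLimits_ext0 U
  haveI : (CohTop.restrFunctor U).PreservesInjectiveObjects :=
    ⟨fun {I} hI => (Groth.Agent.ExtByZero.adj U).map_injective I hI⟩
  haveI hL : ((Opens.grothendieckTopology X).overPullback AddCommGrpCat.{u} U).IsLeftAdjoint :=
    ((Over.forget U).sheafAdjunctionCocontinuous AddCommGrpCat.{u}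
      ((Opens.grothendieckTopology X).over U) (Opens.grothendieckTopology X)).isLeftAdjoint
  haveI : (CohTop.restrFunctor U).IsLeftAdjoint :=
    inferInstanceAs (((Opens.grothendieckTopology X).overPullback AddCommGrpCat.{u} U ⋙ U.sheafEquivOver.functor).IsLeftAdjoint)
  haveI : PreservesFiniteColimits (CohTop.restrFunctor U) :=
    haveI : PreservesColimitsOfSize.{0, 0} (CohTop.restrFunctor U) := (Adjunction.ofIsLeftAdjoint _).leftAdjoint_preservesColimits
    PreservesColimitsOfSize.preservesFiniteColimits _
  haveI : (CohTop.push (CohCx.incl U)).Additive := { }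
  haveI : (CohTop.restrFunctor U ⋙ CohTop.push (CohCx.incl U)).Additive := inferInstance
  exact ⟨Groth.Agent.SiteBase.rightDerivedCongr (Functor.isoWhiskerLeft _ (eqToIso (by rw [Category.comp_id]))) q ≪≫
    Groth.Agent.SiteBase.rightDerivedPrecompIso (CohTop.restrFunctor U) (CohTop.push (CohCx.incl U)) q⟩

end Groth.Agent.S6040
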