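import Groth.Statements.S6041
import Groth.Agent.QuotSec.Fppf
-- import your own Groth.Agent.* helpers here

set_option autoImplicit false
open CategoryTheory CategoryTheory.Limits AlgebraicGeometry MonoidalCategory
set_option backward.isDefEq.respectTransparency false
set_option maxHeartbeats 1000000
set_option linter.style.haveILetI false
set_option backward.isDefEq.respectTransparency.types false
universe u
open GrpQ Groth.Agent

namespace Groth.Agent.S6041

open CartesianMonoidalCategory in
/-- For schemes and the fppf topology, easy direction: let `s, t : R ⇉ U` be a pair of morphisms of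
schemes over `S` (in the source an equivalence relation), `T` a scheme over `S` and `i : Z ⟶ U ×_S
T` such that `Z ⟶ T` is flat, surjective and locally of finite presentation and any two points of
`Z` over the same point of `T` have `R`-related images in `U`. Then the composite `h_Z ⟶ h_U ⟶ U/R`
descends to exactly one section of the fppf quotient sheaf `U/R` over `T`. -/
theorem result {S : Scheme.{u}} {R U : Over S} (s t : R ⟶ U)
    (T Z : Over S) (i : Z ⟶ U ⊗ T)
    [Flat (i ≫ snd U T).left] [Surjective (i ≫ snd U T).left] [LocallyOfFinitePresentation (i ≫ snd U T).left]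
    (hZZ : ∀ (T' : Over S) (z₁ z₂ : T' ⟶ Z), z₁ ≫ i ≫ snd U T = z₂ ≫ i ≫ snd U T →
      ∃ r : T' ⟶ R, r ≫ s = z₁ ≫ i ≫ fst U T ∧ r ≫ t = z₂ ≫ i ≫ fst U T) :
    ∃! σ : QuotSh.rep Scheme.fppfPrecoverage T ⟶ QuotSh.quot Scheme.fppfPrecoverage s t,
      QuotSh.repMap Scheme.fppfPrecoverage (i ≫ fst U T) ≫ QuotSh.quotπ Scheme.fppfPrecoverage s t =
        QuotSh.repMap Scheme.fppfPrecoverage (i ≫ snd U T) ≫ σ := by
  have hsf := (Presieve.isSheafFor_iff_generate _).2 ((QuotSec.isSheaf_val Scheme.fppfPrecoverage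
    (QuotSh.quot Scheme.fppfPrecoverage s t)) _ (QuotSec.singleton_mem (i ≫ snd U T)))
  obtain ⟨y, hy, hu⟩ := Presieve.isSheafFor_singleton.1 hsf
    (QuotSec.cls s t (i ≫ fst U T)) fun {V} p₁ p₂ e => by
      show QuotSec.qmap s t p₁ _ = QuotSec.qmap s t p₂ _
      rw [QuotSec.map_cls, QuotSec.map_cls]
      obtain ⟨r, h1, h2⟩ := hZZ V p₁ p₂ e
      unfold QuotSec.cls
      refine congrArg (QuotSec.val _) ?_
      rw [← h1, ← h2, ← QuotSec.pr_comp, ← QuotSec.pr_comp]
      unfold QuotSec.pr
      rw [QuotSh.quot_condition]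
  obtain ⟨σ, rfl⟩ := QuotSec.exists_val Scheme.fppfPrecoverage y
  have key : ∀ σ' : QuotSh.rep Scheme.fppfPrecoverage T ⟶ QuotSh.quot Scheme.fppfPrecoverage s t,
      (QuotSh.quot Scheme.fppfPrecoverage s t).obj.map (i ≫ snd U T).op (QuotSec.val _ σ') =
        QuotSec.cls s t (i ≫ fst U T) ↔
      QuotSh.repMap Scheme.fppfPrecoverage (i ≫ fst U T) ≫ QuotSh.quotπ Scheme.fppfPrecoverage s t =
        QuotSh.repMap Scheme.fppfPrecoverage (i ≫ snd U T) ≫ σ' := fun σ' => by
    rw [← QuotSec.val_repMap]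
    exact ⟨fun e => (QuotSec.val_injective _ e).symm, fun e => congrArg (QuotSec.val _) e.symm⟩
  exact ⟨σ, (key σ).1 hy, fun σ' h => QuotSec.val_injective _ (hu _ ((key σ').2 h))⟩


end Groth.Agent.S6041
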