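import Groth.Statements.S6043
import Groth.Agent.QuotSec.Fppf
-- import your own Groth.Agent.* helpers here

set_option autoImplicit false
open CategoryTheory CategoryTheory.Limits AlgebraicGeometry MonoidalCategory
set_option backward.isDefEq.respectTransparency false
set_option maxHeartbeats 1000000
set_option linter.style.haveILetI false
set_option backward.isDefEq.respectTransparency.types false
universe u
open GrpQ Groth.Agent

namespace Groth.Agent.S6043

open CartesianMonoidalCategory in
/-- The comparison of topologies, for an equivalence relation of schemes over a base scheme `S` with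
closed graph: let `s, t : R ⇉ U` be an equivalence relation of schemes over `S` with `s` flat,
surjective and locally of finite presentation and `(t, s) : R ⟶ U ×_S U` a closed immersion. Then
the fppf quotient sheaf `U/R` on schemes over `S` satisfies the sheaf condition for the fpqc
topology. (The published statement takes `R ⟶ U` faithfully flat and quasi-compact and says that its
fpqc quotient sheaf is also the quotient for the canonical topology; this row takes `R ⟶ U` flat,
surjective and locally of finite presentation and says that the fppf quotient sheaf is already an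
fpqc sheaf.) -/
theorem result {S : Scheme.{u}} {R U : Over S} (s t : R ⟶ U)
    [IsEquivalenceRelation s t]
    [Flat s.left] [Surjective s.left] [LocallyOfFinitePresentation s.left]
    (hc : IsClosedImmersion (lift t s).left) :
    Presheaf.IsSheaf (QuotSh.J Scheme.fpqcPrecoverage S)
      (QuotSh.quot Scheme.fppfPrecoverage s t).obj := by
  have h : AlgSp.IsEqvRel s t := AlgStLib.QuotShEff.isEqvRel_of_isEquivalenceRelation
  rw [isSheaf_iff_isSheaf_of_type]
  intro T R' hR' x hx
  obtain ⟨κ, W, π, hπ, hπR⟩ := QuotSec.exists_small_family hR'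
  choose κ' W' ρ a hρ ha using fun j => QuotSec.exists_cls_family s t (x (π j) (hπR j))
  have hπ' : Presieve.ofArrows (fun p : Σ j, κ' j => (W' p.1 p.2).left) (fun p => (ρ p.1 p.2 ≫ π p.1).left) ∈
      Scheme.fpqcPrecoverage T.left := by
    simpa using Precoverage.comp_mem_coverings (J := Scheme.fpqcPrecoverage) (fun j => (π j).left) hπ
      (fun j k => (ρ j k).left) hρ
  have hu : QuotSec.Compatible s t (fun p : Σ j, κ' j => ρ p.1 p.2 ≫ π p.1) (fun p => a p.1 p.2) := by
    rintro T' ⟨j, k⟩ ⟨j', k'⟩ z z' e
    refine (QuotSec.cls_eq_iff s t h _ _).1 ?_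
    rw [← QuotSec.map_cls, ← QuotSec.map_cls, ← ha, ← ha, QuotSec.map_map, QuotSec.map_map]
    exact hx (z ≫ ρ j k) (z' ≫ ρ j' k') (hπR j) (hπR j') (by simpa using e)
  obtain ⟨y, hy⟩ := QuotSec.exists_glue_cls h hc hπ' hu
  have key : ∀ ⦃T' : Over S⦄ (g : T' ⟶ T) (hg : R' g) (p : Σ j, κ' j) (z : T' ⟶ W' p.1 p.2),
      z ≫ ρ p.1 p.2 ≫ π p.1 = g → QuotSec.qmap s t g y = x g hg := by
    intro T' g hg p z e
    subst e
    rw [← QuotSec.map_map, hy, ← ha, QuotSec.map_map]
    exact (hx (z ≫ ρ p.1 p.2) (𝟙 _) (hπR p.1) hg (by simp)).trans (by simp)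
  refine ⟨y, fun T' k hk => QuotSec.quot_ext s t h hπ' k fun T'' g p z e => ?_, fun y' hy' => ?_⟩
  · refine (QuotSec.map_map s t g k y).trans ((key (g ≫ k) (R'.downward_closed hk g) p z e).trans ?_)
    exact ((hx g (𝟙 _) hk (R'.downward_closed hk g) (by simp)).trans (by simp)).symm
  · refine QuotSec.quot_ext s t h hπ' (𝟙 T) fun T' g p z e => ?_
    have hg : R' g := by
      rw [show g = (z ≫ ρ p.1 p.2) ≫ π p.1 by simpa using e.symm]
      exact R'.downward_closed (hπR p.1) _
    exact (hy' g hg).trans (key g hg p z (by simpa using e)).symm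


end Groth.Agent.S6043
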