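import Groth.Statements.S6046
import Groth.Agent.GrpQLib.ProperQuot
import Groth.Agent.S4386
import Groth.Agent.AmpleX.Separated

set_option autoImplicit false
set_option backward.isDefEq.respectTransparency false
set_option backward.isDefEq.respectTransparency.types false
universe u
open CategoryTheory AlgebraicGeometry CategoryTheory.Limits
open GrpQ

namespace Groth.Agent.S6046

open Groth.Agent.GrpdLib Groth.Agent.GrpQLib

/-- The `(t, s)` map of the restricted groupoid is quasi-finite. -/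
theorem locallyQuasiFinite_restrict_j {S : Scheme.{u}} (G : Grpd.GroupoidScheme S) (W : G.U.Opens) (hW : IsInv G W)
    [LocallyQuasiFinite G.j] : LocallyQuasiFinite (restrict G W hW).j := by
  let m : pullback (restrict G W hW).pU (restrict G W hW).pU ⟶ pullback G.pU G.pU :=
    pullback.map _ _ _ _ W.ι W.ι (𝟙 S) (by simp [restrict]) (by simp [restrict])
  have e : (restrict G W hW).j ≫ m = (G.s ⁻¹ᵁ W).ι ≫ G.j := by
    apply pullback.hom_ext
    · simp only [m, Grpd.GroupoidScheme.j, Category.assoc, pullback.lift_fst, pullback.lift_fst_assoc]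
      exact resT_ι G W hW
    · simp only [m, Grpd.GroupoidScheme.j, Category.assoc, pullback.lift_snd, pullback.lift_snd_assoc]
      exact resS_ι G W
  haveI : LocallyQuasiFinite ((restrict G W hW).j ≫ m) := by rw [e]; infer_instance
  exact LocallyQuasiFinite.of_comp _ m

/-- A slice of the restricted groupoid, seen in the whole groupoid. -/
theorem exists_srcMap_iso {S : Scheme.{u}} (G : Grpd.GroupoidScheme S) (O : G.U.Opens) (hO : IsInv G O)
    {Z : Scheme.{u}} (i : Z ⟶ O.toScheme) :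
    ∃ κ : pullback (resT G O hO) i ≅ pullback G.t (i ≫ O.ι),
      κ.hom ≫ srcMap G (i ≫ O.ι) = srcMap (restrict G O hO) i ≫ O.ι := by
  have hsq : IsPullback (resT G O hO) (G.s ⁻¹ᵁ O).ι O.ι G.t :=
    IsOpenImmersion.isPullback _ _ _ _ (resT_ι G O hO).symm (by
      rw [Scheme.Opens.opensRange_ι, Scheme.Opens.opensRange_ι]
      exact hO.symm)
  have h := (IsPullback.of_hasPullback (resT G O hO) i).paste_horiz hsq.flip
  refine ⟨h.isoPullback, ?_⟩
  rw [srcMap, h.isoPullback_hom_fst_assoc, srcMap]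
  simp only [Category.assoc]
  exact congrArg (pullback.fst _ i ≫ ·) (resS_ι G O).symm

/-- Let `S` be locally Noetherian and `(U, R, s, t, c)` a groupoid scheme over `S` with `s` proper and
flat, `U` quasi-projective over `S` and `j = (t, s) : R ⟶ U ×_S U` quasi-finite. Then every point
`z` of `U` closed in its fibre over `S` has a saturated open neighbourhood `W` over which the
induced groupoid has a quasi-section: an immersion `u : U' ⟶ W` such that `R|_W ×_{t, W} U' ⟶ W`
(induced by `s`) is finite locally free and surjective and every set of pairwise equivalent points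
of `U'` lies in an affine open of `U'`. -/
theorem result (S : Scheme.{u}) [IsLocallyNoetherian S] (G : Grpd.GroupoidScheme S)
    [IsProper G.s] [Flat G.s] (hU : RelProj.IsQuasiProjective G.pU)
    [LocallyQuasiFinite G.j] [LocallyOfFiniteType G.j]
    (z : G.U) (hz : ∀ z' : G.U, z' ∈ closure ({z} : Set G.U) → G.pU.base z' = G.pU.base z → z' = z) :
    ∃ (W : G.U.Opens) (hW : G.t ⁻¹ᵁ W = G.s ⁻¹ᵁ W), z ∈ W ∧
      ∃ (U' : Scheme.{u}) (u : U' ⟶ (W : Scheme.{u})), IsImmersion u ∧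
        Mor2.IsFinLocFree (pullback.fst (G.t.resLE W (G.s ⁻¹ᵁ W) hW.ge) u ≫ (G.s ∣_ W)) ∧
        Surjective (pullback.fst (G.t.resLE W (G.s ⁻¹ᵁ W) hW.ge) u ≫ (G.s ∣_ W)) ∧
        ∀ E : Set U', (∀ x ∈ E, ∀ y ∈ E, ∃ r : G.R,
            G.t.base r = (u ≫ W.ι).base x ∧ G.s.base r = (u ≫ W.ι).base y) →
          ∃ V : U'.Opens, IsAffineOpen V ∧ E ⊆ (V : Set U') := by
  obtain ⟨B, hB, hzB⟩ := Groth.Agent.GrpdLib.exists_affineOpen_mem (G.pU z)
  let O : G.U.Opens := G.pU ⁻¹ᵁ B
  have hO : IsInv G O := isInv_of_mem fun r hr => by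
    show G.pU (G.t r) ∈ B
    rw [← Scheme.Hom.comp_apply, G.t_over, ← G.s_over, Scheme.Hom.comp_apply]
    exact hr
  obtain ⟨hlft, hqc, L, hL⟩ := hU
  haveI := hlft
  haveI := hqc
  have hamp : CohB1.IsAmple (L.restrict O.ι) := hL.2 ⟨B, hB⟩
  haveI : IsAffine B.toScheme := hB
  let q : O.toScheme ⟶ B.toScheme := G.pU ∣_ B
  haveI : O.toScheme.IsSeparated := Groth.Agent.AmpleX.isSeparated_of_isAmple hamp
  haveI : IsSeparated q := by
    haveI : IsSeparated (q ≫ terminal.from _) := by rw [terminal.comp_from]; infer_instance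
    exact IsSeparated.of_comp q (terminal.from _)
  haveI : QuasiCompact q := IsZariskiLocalAtTarget.restrict ‹_› B
  haveI : LocallyOfFiniteType q := IsZariskiLocalAtTarget.restrict ‹_› B
  obtain ⟨n₀, hn₀⟩ := Groth.Agent.S4386.result q (L.restrict O.ι) (Coh.structureModule _) hamp
    Groth.Agent.InvX.isInvertible_structureModule
  obtain ⟨N, i₁, hi₁, hiq, -⟩ := hn₀ n₀ le_rfl
  let k : CohB1.ProjSpaceOver N B.toScheme ⟶ CohB1.ProjSpaceOver N S :=
    pullback.map _ _ _ _ (𝟙 _) B.ι (𝟙 _) (by simp) (by simp)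
  haveI : IsOpenImmersion k := inferInstanceAs (IsOpenImmersion (pullback.map _ _ _ _ (𝟙 _) B.ι (𝟙 _) _ _))
  haveI := hi₁
  let GB := restrict G O hO
  let eB : GB.U ⟶ CohB1.ProjSpaceOver N S := i₁ ≫ k
  haveI : IsImmersion eB := inferInstanceAs (IsImmersion (i₁ ≫ k))
  have heB : eB ≫ CohB1.ProjSpaceOver.toBase N S = GB.pU := by
    show (i₁ ≫ k) ≫ pullback.snd _ _ = O.ι ≫ G.pU
    rw [← morphismRestrict_ι]
    simp only [Category.assoc, k, pullback.lift_snd]
    rw [← Category.assoc, hiq]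
  haveI : IsProper GB.s := IsZariskiLocalAtTarget.restrict ‹_› O
  haveI : Flat GB.s := IsZariskiLocalAtTarget.restrict ‹_› O
  haveI : IsLocallyNoetherian G.U := LocallyOfFiniteType.isLocallyNoetherian G.pU
  haveI : LocallyOfFinitePresentation G.s := inferInstance
  haveI : LocallyOfFinitePresentation GB.s := IsZariskiLocalAtTarget.restrict ‹_› O
  haveI : LocallyQuasiFinite GB.j := locallyQuasiFinite_restrict_j G O hO
  obtain ⟨W, hW, Z, i, hzW, hWB, hci, -, h1, h2, h3, h4⟩ :=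
    exists_finite_cut eB heB (⟨z, hzB⟩ : O.toScheme) B hzB
  haveI := hci
  let W' : G.U.Opens := O.ι ''ᵁ W
  have hW' : IsInv G W' := isInv_of_mem fun r hr => by
    obtain ⟨w, hw, hwr⟩ := hr
    have hrO : r ∈ G.s ⁻¹ᵁ O := by show G.s r ∈ O; rw [← hwr]; exact w.2
    have e1 : O.ι (resS G O ⟨r, hrO⟩) = G.s r := congrArg (fun φ => φ (⟨r, hrO⟩ : (G.s ⁻¹ᵁ O).toScheme)) (resS_ι G O)
    have e2 : O.ι (resT G O hO ⟨r, hrO⟩) = G.t r :=
      congrArg (fun φ => φ (⟨r, hrO⟩ : (G.s ⁻¹ᵁ O).toScheme)) (resT_ι G O hO)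
    refine ⟨resT G O hO ⟨r, hrO⟩, ?_, e2⟩
    refine (hW.mem_iff _).1 ?_
    rw [show GB.s ⟨r, hrO⟩ = w from O.ι.isOpenEmbedding.injective (e1.trans hwr.symm)]
    exact hw
  obtain ⟨κ, hκ⟩ := exists_srcMap_iso G O hO i
  have hP : ∀ (P : MorphismProperty Scheme.{u}) [P.RespectsIso], P (srcMap GB i ∣_ W) →
      P (srcMap G (i ≫ O.ι) ∣_ W') := fun P _ h => by
    have h5 := property_restrict_comp P (srcMap GB i) O.ι W h
    rw [show srcMap GB i ≫ O.ι = κ.hom ≫ srcMap G (i ≫ O.ι) from hκ.symm, morphismRestrict_comp,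
      P.cancel_left_of_respectsIso] at h5
    exact h5
  haveI : IsImmersion (i ≫ O.ι) := inferInstance
  have hA : FinAffine (W' : Set G.U) := fun T hT hTW => by
    obtain ⟨V, hV, hTV⟩ := finAffine_preimage eB heB B hB (O.ι ⁻¹' T)
      (hT.preimage O.ι.isOpenEmbedding.injective.injOn) (fun x _ => x.2)
    refine ⟨O.ι ''ᵁ V, hV.image_of_isOpenImmersion _, fun x hx => ?_⟩
    obtain ⟨w, -, rfl⟩ := hTW hx
    exact ⟨w, hTV hx, rfl⟩
  obtain ⟨U', u, hu, ⟨f1, f2, f3, f4⟩, hfin⟩ :=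
    exists_slice_of_cut G W' hW' (i ≫ O.ι) ⟨hP @IsFinite h1, hP @Flat h2, hP @LocallyOfFinitePresentation h3,
      hP @Surjective h4⟩ hA
  refine ⟨W', hW'.symm, ⟨⟨z, hzB⟩, hzW, rfl⟩, U', u, hu, ⟨f1, f2, f3⟩, f4, fun E hE => hfin E ?_⟩
  rcases E.eq_empty_or_nonempty with rfl | ⟨x, hx⟩
  · exact Set.finite_empty
  let GW := restrict G W' hW'
  refine (((srcMap GW u).finite_preimage_singleton (u x)).image (pullback.snd GW.t u)).subset fun y hy => ?_
  obtain ⟨r, hrt, hrs⟩ := hE y hy x hx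
  have hrW : r ∈ G.s ⁻¹ᵁ W' := by show G.s r ∈ W'; rw [hrs]; exact (u x).2
  let r' : (G.s ⁻¹ᵁ W').toScheme := ⟨r, hrW⟩
  have ht : GW.t r' = u y := by
    apply W'.ι.isOpenEmbedding.injective
    refine ((congrArg (fun φ => φ r') (resT_ι G W' hW')).trans ?_)
    exact hrt
  have hs : GW.s r' = u x := by
    apply W'.ι.isOpenEmbedding.injective
    refine ((congrArg (fun φ => φ r') (resS_ι G W')).trans ?_)
    exact hrs
  obtain ⟨v, hv1, hv2⟩ := Scheme.Pullback.exists_preimage_pullback (f := GW.t) (g := u) r' y ht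
  exact ⟨v, by show GW.s (pullback.fst GW.t u v) = u x; rw [hv1]; exact hs, hv2⟩

end Groth.Agent.S6046
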