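import Groth.Statements.S6060
import Groth.Agent.GrpSchLib.SubgroupEqNhd
import Groth.Agent.GrpSchLib.ConjCentral
-- import your own Groth.Agent.* helpers here

set_option autoImplicit false
open CategoryTheory MonoidalCategory CartesianMonoidalCategory MonObj GrpObj AlgebraicGeometry
universe u
open SGA3x

namespace Groth.Agent.S6060

/-- Let G be an S-group, suppose S locally Noetherian or G of finite presentation over S, and let i₁ :
H₁ ⟶ G, i₂ : H₂ ⟶ G be two sub-group-schemes (homomorphisms which are immersions) of multiplicative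
type and of finite type. Let s ∈ S be a point such that the fibre (H₁)_s is central in G_s (every
point of G_s commutes with every point of (H₁)_s) and (H₁)_s = (H₂)_s as subgroups of G_s (an
isomorphism of the fibres compatible with the inclusions). Then there is an open neighbourhood U of
s such that H₁|_U = H₂|_U as subgroups of G|_U. -/
theorem result {S : Scheme.{u}} (G H₁ H₂ : Over S) [GrpObj G] [GrpObj H₁] [GrpObj H₂]
    (hG : IsLocallyNoetherian S ∨ (LocallyOfFinitePresentation G.hom ∧ QuasiCompact G.hom ∧ QuasiSeparated G.hom))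
    (h₁ : SGA3x.IsMultTypeFT H₁) (h₂ : SGA3x.IsMultTypeFT H₂)
    (i₁ : H₁ ⟶ G) [IsMonHom i₁] [IsImmersion i₁.left] (i₂ : H₂ ⟶ G) [IsMonHom i₂] [IsImmersion i₂.left] (s : S)
    (hc : ∀ (X : Over (Spec (S.residueField s))) (g : X ⟶ Red.bc (S.fromSpecResidueField s) G)
      (h : X ⟶ Red.bc (S.fromSpecResidueField s) H₁),
      g * (h ≫ (Over.pullback (S.fromSpecResidueField s)).map i₁) = (h ≫ (Over.pullback (S.fromSpecResidueField s)).map i₁) * g)
    (hs : ∃ ψ : Red.bc (S.fromSpecResidueField s) H₁ ≅ Red.bc (S.fromSpecResidueField s) H₂,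
      ψ.hom ≫ (Over.pullback (S.fromSpecResidueField s)).map i₂ = (Over.pullback (S.fromSpecResidueField s)).map i₁) :
    ∃ U : S.Opens, s ∈ U ∧ ∃ ψ : Red.bc U.ι H₁ ≅ Red.bc U.ι H₂,
      ψ.hom ≫ (Over.pullback U.ι).map i₂ = (Over.pullback U.ι).map i₁ := by
  haveI : Mono i₁ := Over.mono_of_mono_left _
  haveI : Mono i₂ := Over.mono_of_mono_left _
  have hfin : IsLocallyNoetherian S ∨ LocallyOfFiniteType G.hom := hG.imp id (fun h => by
    haveI := h.1
    infer_instance)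
  have hto : ∀ {T : Scheme.{u}} (g : T ⟶ S) {A B : Over S} (iA : A ⟶ G) (iB : B ⟶ G),
      Groth.Agent.GrpSchLib.SubgroupEqLocus.Le iA iB g →
        ∃ θ : Red.bc g B ⟶ Red.bc g A, θ ≫ (Over.pullback g).map iA = (Over.pullback g).map iB := by
    intro T g A B iA iB h
    obtain ⟨a, ha⟩ := h ((Over.map g).obj (Red.bc g B)) (Over.homMk (Red.bc g B).hom rfl) (DSPtsLib.theta g (𝟙 _))
    obtain ⟨θ, hθ⟩ := (DSPtsLib.theta_bijective (H := A) g).2 a
    refine ⟨θ, (DSPtsLib.theta_bijective (H := G) g).1 ?_⟩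
    have h1 : DSPtsLib.theta g (θ ≫ (Over.pullback g).map iA) = DSPtsLib.theta g θ ≫ iA :=
      (Over.mapPullbackAdj g).homEquiv_naturality_right_symm _ _
    have h2 : DSPtsLib.theta g (𝟙 _ ≫ (Over.pullback g).map iB) = DSPtsLib.theta g (𝟙 (Red.bc g B)) ≫ iB :=
      (Over.mapPullbackAdj g).homEquiv_naturality_right_symm _ _
    rw [Category.id_comp] at h2
    rw [h1, h2, hθ, ha]
  have hiso : ∀ {T : Scheme.{u}} (g : T ⟶ S), Groth.Agent.GrpSchLib.SubgroupEqLocus.Le i₁ i₂ g →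
      Groth.Agent.GrpSchLib.SubgroupEqLocus.Le i₂ i₁ g →
      ∃ ψ : Red.bc g H₁ ≅ Red.bc g H₂, ψ.hom ≫ (Over.pullback g).map i₂ = (Over.pullback g).map i₁ := by
    intro T g ha hb
    obtain ⟨θ, hθ⟩ := hto g i₁ i₂ ha
    obtain ⟨θ', hθ'⟩ := hto g i₂ i₁ hb
    haveI : Mono ((Over.pullback g).map i₁) := inferInstance
    haveI : Mono ((Over.pullback g).map i₂) := inferInstance
    exact ⟨⟨θ', θ, by rw [← cancel_mono ((Over.pullback g).map i₁), Category.assoc, hθ, hθ', Category.id_comp],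
      by rw [← cancel_mono ((Over.pullback g).map i₂), Category.assoc, hθ', hθ, Category.id_comp]⟩, hθ'⟩
  have hfrom : ∀ {T : Scheme.{u}} (g : T ⟶ S) {A B : Over S} (iA : A ⟶ G) (iB : B ⟶ G) (θ : Red.bc g B ⟶ Red.bc g A),
      θ ≫ (Over.pullback g).map iA = (Over.pullback g).map iB →
      Groth.Agent.GrpSchLib.SubgroupEqLocus.Le iA iB g := by
    intro T g A B iA iB θ hθ Y q b
    let X' := Over.mk q.left
    let e : Y ⟶ (Over.map g).obj X' := Over.homMk (𝟙 _) (by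
      show 𝟙 _ ≫ q.left ≫ g = Y.hom
      rw [Category.id_comp]; exact Over.w q)
    let e' : (Over.map g).obj X' ⟶ Y := Over.homMk (𝟙 _) (by
      show 𝟙 _ ≫ Y.hom = q.left ≫ g
      rw [Category.id_comp]; exact (Over.w q).symm)
    have hee : e ≫ e' = 𝟙 _ := Over.OverMorphism.ext (Category.id_comp _)
    obtain ⟨b₁, hb₁⟩ := (DSPtsLib.theta_bijective (H := B) (Y := X') g).2 (e' ≫ b)
    refine ⟨e ≫ DSPtsLib.theta (H := A) g (b₁ ≫ θ), ?_⟩
    have h : DSPtsLib.theta (H := G) g ((b₁ ≫ θ) ≫ (Over.pullback g).map iA) =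
        DSPtsLib.theta (H := A) g (b₁ ≫ θ) ≫ iA :=
      (Over.mapPullbackAdj g).homEquiv_naturality_right_symm _ _
    have h' : DSPtsLib.theta (H := G) g (b₁ ≫ (Over.pullback g).map iB) = DSPtsLib.theta (H := B) g b₁ ≫ iB :=
      (Over.mapPullbackAdj g).homEquiv_naturality_right_symm _ _
    rw [Category.assoc, ← h, Category.assoc, hθ, h', hb₁, Category.assoc, reassoc_of% hee]
  obtain ⟨ψ, hψ⟩ := hs
  have h12 := hfrom _ i₁ i₂ ψ.inv (by rw [← hψ, ψ.inv_hom_id_assoc])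
  have h21 := hfrom _ i₂ i₁ ψ.hom hψ
  have hc₁ : ∀ (Y : Over S) (_ : Y ⟶ Over.mk (S.fromSpecResidueField s)) (g : Y ⟶ G) (a : Y ⟶ H₁),
      g * (a ≫ i₁) = (a ≫ i₁) * g := fun Y q g a =>
    (Groth.Agent.GrpSchLib.ConjCentral.fixed_iff i₁ a g).mp
      (Groth.Agent.GrpSchLib.ConjCentral.fixed_of_fibre hc Y q a g)
  have hc₂ : ∀ (Y : Over S) (_ : Y ⟶ Over.mk (S.fromSpecResidueField s)) (g : Y ⟶ G) (a : Y ⟶ H₂),
      g * (a ≫ i₂) = (a ≫ i₂) * g := fun Y q g b => by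
    obtain ⟨a, ha⟩ := h12 Y q b
    rw [← ha]
    exact hc₁ Y q g a
  obtain ⟨U₁, hs₁, hle₁⟩ := Groth.Agent.GrpSchLib.SubgroupEqNhd.exists_nhd i₁ i₂ h₁ h₂ hfin s h12 hc₁
  obtain ⟨U₂, hs₂, hle₂⟩ := Groth.Agent.GrpSchLib.SubgroupEqNhd.exists_nhd i₂ i₁ h₂ h₁ hfin s h21 hc₂
  refine ⟨U₁ ⊓ U₂, ⟨hs₁, hs₂⟩, hiso _ ?_ ?_⟩
  · have h := hle₁.comp (S.homOfLE (inf_le_left : U₁ ⊓ U₂ ≤ U₁))
    rwa [Scheme.homOfLE_ι] at h
  · have h := hle₂.comp (S.homOfLE (inf_le_right : U₁ ⊓ U₂ ≤ U₂))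
    rwa [Scheme.homOfLE_ι] at h

end Groth.Agent.S6060
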