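import Groth.Statements.S6065
import Groth.Agent.GrpFieldLib.TorsionDenseKer

set_option autoImplicit false
open CategoryTheory MonoidalCategory CartesianMonoidalCategory MonObj GrpObj AlgebraicGeometry
universe u
open SGA3x

namespace Groth.Agent.S6065

open Groth.Agent.GrpSchLib (Good)
open Groth.Agent.GrpFieldLib

open CategoryTheory.Limits in
theorem exists_lift_iff {S P Q Y : Scheme.{u}} (f : P ⟶ S) (q : Q ⟶ P) (y : Y ⟶ P) (y' : Y ⟶ pullback f (𝟙 S))
    (hy : y' ≫ pullback.fst f (𝟙 S) = y) (m : pullback (q ≫ f) (𝟙 S) ⟶ pullback f (𝟙 S))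
    (hm : m ≫ pullback.fst f (𝟙 S) = pullback.fst (q ≫ f) (𝟙 S) ≫ q) {T : Scheme.{u}} (g : T ⟶ S) :
    (∃ l : pullback g (pullback.snd (q ≫ f) (𝟙 S)) ⟶ Y, l ≫ y' = pullback.snd g (pullback.snd (q ≫ f) (𝟙 S)) ≫ m) ↔
      ∃ l : pullback (q ≫ f) g ⟶ Y, l ≫ y = pullback.fst (q ≫ f) g ≫ q := by
  constructor
  · rintro ⟨l, hl⟩
    let B : pullback (q ≫ f) g ⟶ pullback g (pullback.snd (q ≫ f) (𝟙 S)) :=
      pullback.lift (pullback.snd _ _) (pullback.lift (pullback.fst _ _) (pullback.snd _ _ ≫ g)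
        (by rw [Category.comp_id]; exact pullback.condition)) (pullback.lift_snd _ _ _).symm
    refine ⟨B ≫ l, ?_⟩
    rw [← hy, Category.assoc, reassoc_of% hl, hm]
    simp only [B, pullback.lift_snd_assoc, pullback.lift_fst_assoc]
  · rintro ⟨l, hl⟩
    refine ⟨pullback.lift (pullback.snd _ _ ≫ pullback.fst _ _) (pullback.fst _ _) ?_ ≫ l, ?_⟩
    · rw [Category.assoc, pullback.condition, Category.comp_id, pullback.condition]
    · rw [← cancel_mono (pullback.fst f (𝟙 S))]
      simp only [Category.assoc, hy, hl, hm, pullback.lift_fst_assoc]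

open CategoryTheory.Limits in
theorem exists_lift_iff' {S P Y : Scheme.{u}} (f : P ⟶ S) (y : Y ⟶ P) (y' : Y ⟶ pullback f (𝟙 S))
    (hy : y' ≫ pullback.fst f (𝟙 S) = y) {T : Scheme.{u}} (g : T ⟶ S) :
    Good (pullback.snd f (𝟙 S)) y' g ↔ ∃ l : pullback f g ⟶ Y, l ≫ y = pullback.fst f g := by
  constructor
  · rintro ⟨l, hl⟩
    let B : pullback f g ⟶ pullback g (pullback.snd f (𝟙 S)) :=
      pullback.lift (pullback.snd _ _) (pullback.lift (pullback.fst _ _) (pullback.snd _ _ ≫ g)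
        (by rw [Category.comp_id]; exact pullback.condition)) (pullback.lift_snd _ _ _).symm
    refine ⟨B ≫ l, ?_⟩
    rw [← hy, Category.assoc, reassoc_of% hl]
    simp only [B, pullback.lift_snd_assoc, pullback.lift_fst]
  · rintro ⟨l, hl⟩
    refine ⟨pullback.lift (pullback.snd _ _ ≫ pullback.fst _ _) (pullback.fst _ _) ?_ ≫ l, ?_⟩
    · rw [Category.assoc, pullback.condition, Category.comp_id, pullback.condition]
    · rw [← cancel_mono (pullback.fst f (𝟙 S))]
      simp only [Category.assoc, hy, hl, pullback.lift_fst]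

open CategoryTheory.Limits in
/-- Let S be a locally Noetherian scheme, H a commutative S-group which is of finite type over S, and E
a nonempty set of integers n > 0 stable under multiplication, such that: a) for every n ∈ E the
kernel ₙH of the n-th power map of H (the pullback of the unit section along that map) is finite and
flat over S; b) for every s ∈ S the family of fibres (ₙH)_s ⟶ H_s, n ∈ E, is schematically dense in
H_s (a section of the structure sheaf of H_s over an open subset whose pullback to every (ₙH)_s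
vanishes is zero). Let Y be a closed subscheme of H. Then the functor on S-schemes whose value at S'
⟶ S is a point when H ×_S S' ⟶ H factors through Y and empty otherwise is representable by a closed
subscheme T of S; and if S is Noetherian there is n ∈ E such that, for every S' ⟶ S, H ×_S S' ⟶ H
factors through Y if and only if ₙH ×_S S' ⟶ H does. -/
theorem result {S : Scheme.{u}} [IsLocallyNoetherian S]
    (H : Over S) [GrpObj H] [IsCommMonObj H] [LocallyOfFiniteType H.hom] [QuasiCompact H.hom]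
    (E : Set ℕ) (hE : E.Nonempty) (hE0 : ∀ n ∈ E, 0 < n) (hEmul : ∀ m ∈ E, ∀ n ∈ E, m * n ∈ E)
    (ha : ∀ n ∈ E, IsFinite ((pullback.snd η[H].left (𝟙 H ^ n : H ⟶ H).left) ≫ H.hom) ∧ Flat ((pullback.snd η[H].left (𝟙 H ^ n : H ⟶ H).left) ≫ H.hom))
    (hb : ∀ (s : S) (V : (H.hom.fiber s).Opens) (t : Γ(H.hom.fiber s, V)),
      (∀ n ∈ E, (MoreMor.fiberMap (pullback.snd η[H].left (𝟙 H ^ n : H ⟶ H).left) H.hom s).app V t = 0) → t = 0)
    (Y : Scheme.{u}) (y : Y ⟶ H.left) [IsClosedImmersion y] :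
    (∃ (T : Scheme.{u}) (t : T ⟶ S), IsClosedImmersion t ∧
      ∀ (S' : Scheme.{u}) (g : S' ⟶ S), (∃ g' : S' ⟶ T, g' ≫ t = g) ↔
        ∃ l : pullback H.hom g ⟶ Y, l ≫ y = pullback.fst H.hom g) ∧
    (AlgebraicGeometry.IsNoetherian S → ∃ n ∈ E, ∀ (S' : Scheme.{u}) (g : S' ⟶ S),
      (∃ l : pullback H.hom g ⟶ Y, l ≫ y = pullback.fst H.hom g) ↔
        ∃ l : pullback ((pullback.snd η[H].left (𝟙 H ^ n : H ⟶ H).left) ≫ H.hom) g ⟶ Y,
          l ≫ y = pullback.fst ((pullback.snd η[H].left (𝟙 H ^ n : H ⟶ H).left) ≫ H.hom) g ≫ (pullback.snd η[H].left (𝟙 H ^ n : H ⟶ H).left)) := by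
  let q := fun n : E => TorsionDense.kerPow H n.1
  haveI : ∀ n : E, IsFinite (q n ≫ H.hom) := fun n => (ha n.1 n.2).1
  haveI : ∀ n : E, Flat (q n ≫ H.hom) := fun n => (ha n.1 n.2).2
  have hd : TorsionDense.FibDense H.hom q :=
    TorsionDense.fibDense_of_fibres H.hom q fun s V t h => hb s V t fun n hn => h ⟨n, hn⟩
  let y' : Y ⟶ pullback H.hom (𝟙 S) := y ≫ inv (pullback.fst H.hom (𝟙 S))
  have hy : y' ≫ pullback.fst H.hom (𝟙 S) = y := by simp [y']
  refine ⟨?_, fun hS => ?_⟩
  · obtain ⟨T, t, ht, hT⟩ := TorsionDense.exists_closed H.hom q (𝟙 S) y' hd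
    exact ⟨T, t, ht, fun S' g => (hT S' g).trans (exists_lift_iff' H.hom y y' hy g)⟩
  · haveI : Nonempty E := hE.to_subtype
    obtain ⟨k, hk⟩ := TorsionDense.exists_goodAt_suffices H.hom q (𝟙 S) y' hd
      (TorsionDense.kerPow_directed H hEmul)
    refine ⟨k.1, k.2, fun S' g => ?_⟩
    exact ((exists_lift_iff' H.hom y y' hy g).symm.trans (hk S' g)).trans
      (exists_lift_iff H.hom (q k) y y' hy _ (pullback.lift_fst _ _ _) g)

end Groth.Agent.S6065
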