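import Groth.Statements.S6066
import Groth.Agent.GrpFieldLib.TorsionDenseKer
import Mathlib.Tactic.Group

set_option autoImplicit false
open CategoryTheory MonoidalCategory CartesianMonoidalCategory MonObj GrpObj AlgebraicGeometry
universe u
open SGA3x

namespace Groth.Agent.S6066

open Groth.Agent.GrpSchLib (Good)
open Groth.Agent.GrpFieldLib

open CategoryTheory.Limits in
/-- Points with `h ^ n = 1` see the restriction to the `n`-th kernel. -/
theorem goodAt_of_points {S : Scheme.{u}} {H G M K : Over S} [GrpObj H] (c : H ⊗ G ⟶ M) (j : K ⟶ M) {E : Set ℕ}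
    (n : E) (X : Over S) (g : X ⟶ G)
    (hall : ∀ (X' : Over S) (x : X' ⟶ X) (h : X' ⟶ H), h ^ n.1 = 1 → ∃ κ : X' ⟶ K, lift h (x ≫ g) ≫ c = κ ≫ j) :
    TorsionDense.GoodAt H.hom (fun n : E => TorsionDense.kerPow H n.1) G.hom
      (pullback.fst (X := pullback H.hom G.hom) c.left j.left) n g.left := by
  let q := fun n : E => TorsionDense.kerPow H n.1
  let π := pullback.snd (q n ≫ H.hom) G.hom
  let w := pullback.snd g.left π ≫ pullback.fst (q n ≫ H.hom) G.hom
  let X' : Over S := Over.mk (pullback.fst g.left π ≫ X.hom)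
  let x : X' ⟶ X := Over.homMk (pullback.fst g.left π) rfl
  let h : X' ⟶ H := Over.homMk (w ≫ q n) (by
    show (w ≫ q n) ≫ H.hom = pullback.fst g.left π ≫ X.hom
    rw [Category.assoc, Category.assoc, pullback.condition, ← Over.w g, pullback.condition_assoc])
  obtain ⟨κ, hκ⟩ := hall X' x h ((TorsionDense.pow_eq_one_iff H h n.1).mpr ⟨w, rfl⟩)
  have hl : (lift h (x ≫ g)).left = pullback.snd g.left π ≫ TorsionDense.qa H.hom q G.hom n := by
    rw [Over.lift_left]
    refine pullback.hom_ext ((pullback.lift_fst _ _ _).trans ?_) ((pullback.lift_snd _ _ _).trans ?_)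
    · show w ≫ q n = _
      simp only [w, TorsionDense.qa, pullback.map, Category.assoc]
      exact (congrArg (pullback.snd g.left π ≫ ·) (pullback.lift_fst _ _ _)).symm
    · show pullback.fst g.left π ≫ g.left = _
      rw [pullback.condition]
      simp only [π, TorsionDense.qa, pullback.map, Category.assoc]
      refine congrArg (pullback.snd g.left π ≫ ·) ?_
      exact ((pullback.lift_snd _ _ _).trans (Category.comp_id _)).symm
  have h2 : (pullback.snd g.left π ≫ TorsionDense.qa H.hom q G.hom n) ≫ c.left = κ.left ≫ j.left := by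
    rw [← hl]; exact congrArg CommaMorphism.left hκ
  exact ⟨pullback.lift _ κ.left h2, pullback.lift_fst _ _ _⟩

open CategoryTheory.Limits in
/-- Let S be a locally Noetherian scheme, H a commutative S-group which is of finite type over S, and E
a nonempty set of integers n > 0 stable under multiplication such that a) every kernel ₙH of the
n-th power map (n ∈ E; the pullback of the unit section along that map) is finite and flat over S
and b) for every s ∈ S the family of fibres (ₙH)_s ⟶ H_s, n ∈ E, is schematically dense in H_s. Let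
u : H ⟶ G be a homomorphism into an S-group G locally of finite type over S and k : K ⟶ G a closed
sub-group-scheme. Then the transporter of u into K — the subfunctor of G of those points g, with
values in an S-scheme X, such that for every X' ⟶ X and every X'-valued point h of H the point g
u(h) g⁻¹ lies in K — is representable by a closed subscheme of G; and if the scheme G is Noetherian
there is n ∈ E such that a point g of G lies in the transporter if and only if g u(h) g⁻¹ lies in K
for all points h of H with h^n = 1. (The published statement is over an arbitrary base S and also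
asserts that the transporter is smooth over S when G is smooth, K is smooth or of multiplicative
type and the ₙH, n ∈ E, are of multiplicative type; this row assumes S locally Noetherian, the
setting in which the printed argument through the base G applies, and does not state the smoothness
assertion.) -/
theorem result {S : Scheme.{u}} [IsLocallyNoetherian S]
    (H : Over S) [GrpObj H] [IsCommMonObj H] [LocallyOfFiniteType H.hom] [QuasiCompact H.hom]
    (E : Set ℕ) (hE : E.Nonempty) (hE0 : ∀ n ∈ E, 0 < n) (hEmul : ∀ m ∈ E, ∀ n ∈ E, m * n ∈ E)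
    (ha : ∀ n ∈ E, IsFinite ((pullback.snd η[H].left (𝟙 H ^ n : H ⟶ H).left) ≫ H.hom) ∧ Flat ((pullback.snd η[H].left (𝟙 H ^ n : H ⟶ H).left) ≫ H.hom))
    (hb : ∀ (s : S) (V : (H.hom.fiber s).Opens) (t : Γ(H.hom.fiber s, V)),
      (∀ n ∈ E, (MoreMor.fiberMap (pullback.snd η[H].left (𝟙 H ^ n : H ⟶ H).left) H.hom s).app V t = 0) → t = 0)
    (G K : Over S) [GrpObj G] [GrpObj K] [LocallyOfFiniteType G.hom] (u : H ⟶ G) [IsMonHom u]
    (k : K ⟶ G) [IsMonHom k] [IsClosedImmersion k.left] :
    (∃ (T : Over S) (j : T ⟶ G), IsClosedImmersion j.left ∧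
      ∀ (X : Over S) (g : X ⟶ G), (∃ t : X ⟶ T, t ≫ j = g) ↔
        ∀ (X' : Over S) (x : X' ⟶ X) (h : X' ⟶ H), ∃ κ : X' ⟶ K, (x ≫ g) * (h ≫ u) * (x ≫ g)⁻¹ = κ ≫ k) ∧
    (AlgebraicGeometry.IsNoetherian G.left → ∃ n ∈ E, ∀ (X : Over S) (g : X ⟶ G),
      (∀ (X' : Over S) (x : X' ⟶ X) (h : X' ⟶ H), ∃ κ : X' ⟶ K, (x ≫ g) * (h ≫ u) * (x ≫ g)⁻¹ = κ ≫ k) ↔
        ∀ (X' : Over S) (x : X' ⟶ X) (h : X' ⟶ H), h ^ n = 1 → ∃ κ : X' ⟶ K, (x ≫ g) * (h ≫ u) * (x ≫ g)⁻¹ = κ ≫ k) := by
  let c : H ⊗ G ⟶ G := snd H G * (fst H G ≫ u) * (snd H G)⁻¹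
  have hc : ∀ {X : Over S} (h : X ⟶ H) (g : X ⟶ G), lift h g ≫ c = g * (h ≫ u) * g⁻¹ := fun h g => by
    simp [c, MonObj.comp_mul, GrpObj.comp_inv]
  let q := fun n : E => TorsionDense.kerPow H n.1
  haveI : ∀ n : E, IsFinite (q n ≫ H.hom) := fun n => (ha n.1 n.2).1
  haveI : ∀ n : E, Flat (q n ≫ H.hom) := fun n => (ha n.1 n.2).2
  haveI : IsLocallyNoetherian G.left := LocallyOfFiniteType.isLocallyNoetherian G.hom
  have hd : TorsionDense.FibDense H.hom q :=
    TorsionDense.fibDense_of_fibres H.hom q fun s V t h => hb s V t fun n hn => h ⟨n, hn⟩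
  let y := CategoryTheory.Limits.pullback.fst (X := CategoryTheory.Limits.pullback H.hom G.hom) c.left k.left
  haveI : IsClosedImmersion y := MorphismProperty.pullback_fst _ _ inferInstance
  obtain ⟨T, t, ht, hT⟩ := TorsionDense.exists_closed H.hom q G.hom y hd
  have hpts := fun (X : Over S) (g : X ⟶ G) => (Jet.points_of_locus c k hT X g).trans
    (show _ ↔ ∀ (X' : Over S) (x : X' ⟶ X) (h : X' ⟶ H), ∃ κ : X' ⟶ K, (x ≫ g) * (h ≫ u) * (x ≫ g)⁻¹ = κ ≫ k by
      simp only [hc])
  refine ⟨⟨Over.mk (t ≫ G.hom), Over.homMk t rfl, ht, hpts⟩, fun hN => ?_⟩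
  haveI : Nonempty E := hE.to_subtype
  obtain ⟨n, hn⟩ := TorsionDense.exists_goodAt_suffices H.hom q G.hom y hd (TorsionDense.kerPow_directed H hEmul)
  refine ⟨n.1, n.2, fun X g => ⟨fun h X' x p _ => h X' x p, fun h => (hpts X g).mp ?_⟩⟩
  have hg : Good (CategoryTheory.Limits.pullback.snd H.hom G.hom) y g.left := (hn X.left g.left).mpr
    (goodAt_of_points c k n X g fun X' x p hp => by simpa only [hc] using h X' x p hp)
  obtain ⟨w, hw⟩ := (hT X.left g.left).mpr hg
  exact ⟨Over.homMk w (by show w ≫ t ≫ G.hom = X.hom; rw [← Category.assoc, hw, Over.w g]),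
    Over.OverMorphism.ext hw⟩

end Groth.Agent.S6066
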