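import Groth.Statements.S6070
import Groth.Agent.MultConjLib.SubLift
import Groth.Agent.GrpSchLib.HomUnitLocus
import Groth.Agent.GrpSchLib.RankOneNonComm
-- import your own Groth.Agent.* helpers here

set_option autoImplicit false
open CategoryTheory MonoidalCategory CartesianMonoidalCategory MonObj GrpObj AlgebraicGeometry
universe u
open SGA3x

set_option backward.isDefEq.respectTransparency false

namespace Groth.Agent.S6070

/-- In lifting form: what formal smoothness of the morphism H ↦ ₙH of the functor of multiplicative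
subgroups means. Let S = Spec R be affine, J a nilpotent ideal of R, S₀ = Spec (R/J), n a natural
number and G an S-group which is smooth over S. Let j₀ : H₀ ⟶ G₀ = G ×_S S₀ be a sub-group-scheme (a
homomorphism which is an immersion) of multiplicative type (fpqc-locally isomorphic, as a group, to
diagonalisable groups D(M), M allowed to vary and taken in Type 0), and l : L ⟶ G a sub-group-scheme
of multiplicative type whose base change to S₀ is the n-torsion of H₀ inside G₀: a point of G₀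
factors through L ×_S S₀ if and only if it is j₀(h) for a point h of H₀ with h^n = 1. Then there is
a sub-group-scheme j : H ⟶ G of multiplicative type whose base change to S₀ coincides with H₀ as a
subgroup of G₀ (an isomorphism compatible with the maps to G₀) and whose n-torsion is L: a point of
G factors through L if and only if it is j(h) for a point h of H with h^n = 1. -/
theorem result {R : Type u} [CommRing R] (J : Ideal R) (hJ : IsNilpotent J) (n : ℕ)
    (G : Over (Spec (CommRingCat.of R))) [GrpObj G] (hG : Smooth G.hom)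
    (H₀ : Over (Spec (CommRingCat.of (R ⧸ J)))) [GrpObj H₀]
    (hH₀ : TwC.Locally (Spec (CommRingCat.of (R ⧸ J))) TwC.Topology.fpqc (fun S' f => ∃ (M : Type) (_ : AddCommGroup M), Nonempty (Grp.mk (Red.bc f H₀) ≅ Grp.mk (Red.DS S' M))))
    (j₀ : H₀ ⟶ Red.bc (Spec.map (CommRingCat.ofHom (Ideal.Quotient.mk J))) G) [IsMonHom j₀] [IsImmersion j₀.left]
    (L : Over (Spec (CommRingCat.of R))) [GrpObj L] (hL : TwC.Locally (Spec (CommRingCat.of R)) TwC.Topology.fpqc (fun S' f => ∃ (M : Type) (_ : AddCommGroup M), Nonempty (Grp.mk (Red.bc f L) ≅ Grp.mk (Red.DS S' M))))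
    (l : L ⟶ G) [IsMonHom l] [IsImmersion l.left]
    (hL0 : ∀ (X : Over (Spec (CommRingCat.of (R ⧸ J)))) (g : X ⟶ Red.bc (Spec.map (CommRingCat.ofHom (Ideal.Quotient.mk J))) G),
      (∃ y : X ⟶ Red.bc (Spec.map (CommRingCat.ofHom (Ideal.Quotient.mk J))) L, y ≫ (Over.pullback (Spec.map (CommRingCat.ofHom (Ideal.Quotient.mk J)))).map l = g) ↔
        ∃ h : X ⟶ H₀, h ^ n = 1 ∧ h ≫ j₀ = g) :
    ∃ (H : Over (Spec (CommRingCat.of R))) (_ : GrpObj H) (j : H ⟶ G), IsMonHom j ∧ IsImmersion j.left ∧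
      TwC.Locally (Spec (CommRingCat.of R)) TwC.Topology.fpqc (fun S' f => ∃ (M : Type) (_ : AddCommGroup M), Nonempty (Grp.mk (Red.bc f H) ≅ Grp.mk (Red.DS S' M))) ∧
      (∃ φ : Red.bc (Spec.map (CommRingCat.ofHom (Ideal.Quotient.mk J))) H ≅ H₀, φ.hom ≫ j₀ = (Over.pullback (Spec.map (CommRingCat.ofHom (Ideal.Quotient.mk J)))).map j) ∧
      ∀ (X : Over (Spec (CommRingCat.of R))) (g : X ⟶ G),
        (∃ y : X ⟶ L, y ≫ l = g) ↔ ∃ h : X ⟶ H, h ^ n = 1 ∧ h ≫ j = g := by
  classical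
  let jR : Spec (CommRingCat.of (R ⧸ J)) ⟶ Spec (CommRingCat.of R) := Spec.map (CommRingCat.ofHom (Ideal.Quotient.mk J))
  let S₀ : Over (Spec (CommRingCat.of R)) := Over.mk jR
  obtain ⟨H, iH, f', hf'm, hHft, hf'i, φ, hφm, hφ⟩ := MultConjLib.exists_subgroup_lift J hJ G hG H₀ hH₀ j₀
  have hHl := MultConjLib.isLocDS_of_multTypeFT hHft
  haveI : Mono f' := Over.mono_of_mono_left _
  haveI : Mono l := Over.mono_of_mono_left _
  haveI := hG
  haveI : LocallyOfFiniteType L.hom := by rw [← Over.w l]; infer_instance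
  have hLft := MultConjLib.isMultTypeFT_of_locDS hL
  haveI : IsAffineHom H.hom := MultConjLib.isAffineHom_of_locDS hHl
  haveI : IsAffineHom L.hom := MultConjLib.isAffineHom_of_locDS hL
  have htr : ∀ {X₀ : Over (Spec (CommRingCat.of (R ⧸ J)))} (a : X₀ ⟶ Red.bc jR H) (m : ℕ),
      DSPtsLib.theta jR (a ^ m) = DSPtsLib.theta jR a ^ m := fun a m =>
    map_pow (MonoidHom.mk' (DSPtsLib.theta jR) (DSPtsLib.theta_mul jR)) a m
  have hcm : ∀ {A B : Over (Spec (CommRingCat.of R))} [GrpObj A] [GrpObj B] (v : A ⟶ B)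
      {X₀ : Over (Spec (CommRingCat.of (R ⧸ J)))} (a : X₀ ⟶ Red.bc jR A),
      DSPtsLib.theta jR (a ≫ (Over.pullback jR).map v) = DSPtsLib.theta jR a ≫ v := fun v _ a =>
    (Over.mapPullbackAdj jR).homEquiv_naturality_right_symm a v
  have hiso : ∀ {Y : Over (Spec (CommRingCat.of R))} (p : Y ⟶ S₀),
      ∃ i : (Over.map jR).obj (Over.mk p.left) ≅ Y, True := fun {Y} p => ⟨Over.isoMk (Iso.refl _) (by
    show 𝟙 Y.left ≫ Y.hom = p.left ≫ jR
    rw [Category.id_comp]; exact (Over.w p).symm), trivial⟩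
  have h1 : ∀ {Y : Over (Spec (CommRingCat.of R))} (_ : Y ⟶ S₀) (y : Y ⟶ L),
      ∃ q : Y ⟶ H, q ^ n = 1 ∧ q ≫ f' = y ≫ l := by
    intro Y p y
    obtain ⟨i, -⟩ := hiso p
    obtain ⟨a, ha⟩ := (DSPtsLib.theta_bijective (g := jR) (H := L) (Y := Over.mk p.left)).2 (i.hom ≫ y)
    obtain ⟨h, hh, hhj⟩ := (hL0 _ (a ≫ (Over.pullback jR).map l)).mp ⟨a, rfl⟩
    haveI := hφm
    let b := h ≫ φ.inv
    have hb : b ^ n = 1 := by
      haveI : Mono φ.hom := inferInstance
      rw [← cancel_mono φ.hom, MonObj.pow_comp, MonObj.one_comp, Category.assoc, φ.inv_hom_id, Category.comp_id, hh]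
    have hbf : DSPtsLib.theta jR b ≫ f' = i.hom ≫ y ≫ l := by
      rw [← hcm, ← hφ, Category.assoc, φ.inv_hom_id_assoc, hhj, hcm, ha, Category.assoc]
    refine ⟨i.inv ≫ DSPtsLib.theta jR b, ?_, by rw [Category.assoc, hbf, i.inv_hom_id_assoc]⟩
    rw [← MonObj.comp_pow, ← htr, hb, GrpSchLib.HomUnitLocus.theta_one, MonObj.comp_one]
  have h2 : ∀ {Y : Over (Spec (CommRingCat.of R))} (_ : Y ⟶ S₀) (q : Y ⟶ H), q ^ n = 1 →
      ∃ y : Y ⟶ L, y ≫ l = q ≫ f' := by
    intro Y p q hq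
    obtain ⟨i, -⟩ := hiso p
    obtain ⟨b, hb⟩ := (DSPtsLib.theta_bijective (g := jR) (H := H) (Y := Over.mk p.left)).2 (i.hom ≫ q)
    have hbn : b ^ n = 1 := by
      apply (DSPtsLib.theta_bijective (g := jR) (H := H)).1
      rw [htr, hb, ← MonObj.comp_pow, hq, MonObj.comp_one, GrpSchLib.HomUnitLocus.theta_one]
    haveI := hφm
    obtain ⟨y₀, hy₀⟩ := (hL0 _ (b ≫ φ.hom ≫ j₀)).mpr
      ⟨b ≫ φ.hom, by rw [← MonObj.pow_comp, hbn, MonObj.one_comp], Category.assoc _ _ _⟩
    refine ⟨i.inv ≫ DSPtsLib.theta jR y₀, ?_⟩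
    rw [Category.assoc, ← hcm, hy₀, hφ, hcm, hb, Category.assoc, i.inv_hom_id_assoc]
  -- the comparison with the subgroup lifting the torsion
  obtain ⟨θ, hθm, hθ⟩ := MultConjLib.exists_hom_lift_into hL (Or.inr hHl) hJ f' l (1 : S₀ ⟶ G) fun B _ _ ρ q => by
    obtain ⟨q', -, hq'⟩ := h1 (MultConjLib.toS₀ J ρ) q
    exact ⟨q', by rw [MonObj.comp_one, _root_.one_mul, _root_.inv_one, _root_.mul_one, hq']⟩
  haveI := hθm
  have hθ' : ∀ (X : Over (Spec (CommRingCat.of R))) (_ : X ⟶ S₀) (z : X ⟶ L), z ≫ θ ≫ f' = z ≫ l := fun X p z => by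
    rw [hθ X p z, MonObj.comp_one, _root_.one_mul, _root_.inv_one, _root_.mul_one]
  -- `θ` lands in the torsion
  have hθn : θ ^ n = 1 := by
    haveI : IsMonHom (θ ^ n) := GrpSchLib.RankOne.isMonHom_of_comp _ fun W a b => by
      rw [MonObj.comp_pow, MonObj.comp_pow, MonObj.comp_pow, MonObj.mul_comp]
      exact (Commute.mul_pow (MultConjLib.points_comm hHl _ _) n)
    haveI : IsMonHom (1 : L ⟶ H) := GrpSchLib.RankOne.isMonHom_of_comp _ fun W a b => by
      rw [MonObj.comp_one, MonObj.comp_one, MonObj.comp_one, _root_.mul_one]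
    obtain ⟨A, _, _, x, hx, -, -, j, hj⟩ := MultConjLib.exists_univ_int hL (𝟙 (Spec (CommRingCat.of R)))
    refine MultConjLib.hom_ext_of_ptHom (MultConjLib.ptHom_eq_of_nilpotent hx hj
      (fun Y a b => MultConjLib.points_comm hHl a b) J hJ _ _ ?_)
    refine MultConjLib.PtHom.ext ?_
    funext B _ _ ρ q
    show q ≫ θ ^ n = q ≫ 1
    obtain ⟨q', hq'n, hq'⟩ := h1 (MultConjLib.toS₀ J ρ) q
    rw [MonObj.comp_pow, MonObj.comp_one]
    rw [← hθ' _ (MultConjLib.toS₀ J ρ) q, ← Category.assoc, cancel_mono] at hq'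
    rw [← hq', hq'n]
  obtain ⟨g, hg, hgc⟩ := Groth.Agent.S5273.result J hJ L G hL hG (θ ≫ f') l (1 : S₀ ⟶ G) fun X p z => by
    rw [MonObj.comp_one, _root_.one_mul, _root_.inv_one, _root_.mul_one, hθ' X p z]
  let f : H ⟶ G := (toUnit H ≫ g) * f' * (toUnit H ≫ g)⁻¹
  have hfp : ∀ (X : Over (Spec (CommRingCat.of R))) (z : X ⟶ H),
      z ≫ f = (toUnit X ≫ g) * (z ≫ f') * (toUnit X ≫ g)⁻¹ := fun X z => by
    simp only [f, MonObj.comp_mul, GrpObj.comp_inv, ← Category.assoc, comp_toUnit]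
  haveI := hf'm
  haveI hfm : IsMonHom f := GrpSchLib.RankOne.isMonHom_of_comp f fun W a b => by
    rw [hfp, hfp, hfp, MonObj.mul_comp]; group
  have hlf : l = θ ≫ f := by
    have := hgc L (𝟙 L)
    rw [Category.id_comp, Category.id_comp] at this
    rw [this, hfp]
  have hred : ∀ (X : Over (Spec (CommRingCat.of R))) (_ : X ⟶ S₀) (z : X ⟶ H), z ≫ f = z ≫ f' := fun X p z => by
    rw [hfp, show toUnit X ≫ g = (1 : X ⟶ G) by
      rw [← comp_toUnit p, Category.assoc, hg, MonObj.comp_one]]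
    group
  have hbc : (Over.pullback jR).map f = (Over.pullback jR).map f' := by
    apply (DSPtsLib.theta_bijective (g := jR) (H := G)).1
    have e₁ := hcm f (𝟙 (Red.bc jR H))
    have e₂ := hcm f' (𝟙 (Red.bc jR H))
    rw [Category.id_comp] at e₁ e₂
    rw [e₁, e₂]
    exact hred _ (Over.homMk (Red.bc jR H).hom rfl) _
  haveI : IsImmersion f.left := MultConjLib.isImmersion_of_bc hJ hG hHft f (by
    rw [hbc, ← hφ]
    haveI : IsIso φ.hom.left := inferInstanceAs (IsIso ((Over.forget _).map φ.hom))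
    show IsImmersion (φ.hom.left ≫ j₀.left)
    infer_instance)
  -- the torsion of `H`
  let K : Over (Spec (CommRingCat.of R)) := Over.mk (Limits.pullback.fst (𝟙 H ^ n : H ⟶ H).left η[H].left ≫ H.hom)
  let κ₀ : K ⟶ H := Over.homMk (Limits.pullback.fst (𝟙 H ^ n : H ⟶ H).left η[H].left) rfl
  haveI : Mono η[H].left := by
    have : η[H].left ≫ H.hom = 𝟙 _ := Over.w η[H]
    exact mono_of_mono_fac this
  haveI : Mono κ₀ := (Over.forget _).mono_of_mono_map (inferInstanceAs (Mono (Limits.pullback.fst _ η[H].left)))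
  have hκn : κ₀ ^ n = 1 := by
    rw [← Category.comp_id κ₀, ← MonObj.comp_pow, Hom.one_def]
    refine Over.OverMorphism.ext ?_
    show Limits.pullback.fst _ _ ≫ (𝟙 H ^ n : H ⟶ H).left = K.hom ≫ η[H].left
    rw [Limits.pullback.condition]
    congr 1
    show _ = Limits.pullback.fst (𝟙 H ^ n : H ⟶ H).left η[H].left ≫ H.hom
    rw [← Over.w (𝟙 H ^ n : H ⟶ H), Limits.pullback.condition_assoc, Over.w η[H]]
    exact (Category.comp_id _).symm
  obtain ⟨θK, hθK⟩ : ∃ θK : L ⟶ K, θK ≫ κ₀ = θ := by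
    have hc : θ.left ≫ (𝟙 H ^ n : H ⟶ H).left = L.hom ≫ η[H].left := by
      rw [← Over.comp_left, MonObj.comp_pow, Category.comp_id, hθn, Hom.one_def]
      rfl
    exact ⟨Over.homMk (Limits.pullback.lift θ.left L.hom hc) (by
      show Limits.pullback.lift _ _ hc ≫ Limits.pullback.fst _ _ ≫ H.hom = _
      rw [Limits.pullback.lift_fst_assoc, Over.w θ]), Over.OverMorphism.ext (Limits.pullback.lift_fst _ _ hc)⟩
  haveI : Mono θK := by
    haveI : Mono (θK ≫ κ₀ ≫ f) := by rw [reassoc_of% hθK, ← hlf]; infer_instance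
    exact mono_of_mono θK (κ₀ ≫ f)
  haveI : IsIso θK.left := by
    -- on the reduced base every torsion point comes from `L`
    obtain ⟨y, hy⟩ := h2 (Over.homMk (Red.bc jR K).hom rfl : (Over.map jR).obj (Red.bc jR K) ⟶ S₀)
      (DSPtsLib.theta jR (𝟙 _) ≫ κ₀) (by rw [← MonObj.comp_pow, hκn, MonObj.comp_one])
    obtain ⟨r, hr⟩ := (DSPtsLib.theta_bijective (g := jR) (H := L) (Y := Red.bc jR K)).2 y
    haveI : IsMonHom (1 : L ⟶ H) := GrpSchLib.RankOne.isMonHom_of_comp _ fun W a b => by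
      rw [MonObj.comp_one, MonObj.comp_one, MonObj.comp_one, _root_.mul_one]
    have hθK' : DSPtsLib.theta jR r ≫ θK = DSPtsLib.theta jR (𝟙 (Red.bc jR K)) := by
      rw [← cancel_mono κ₀, ← cancel_mono f', hr, Category.assoc, Category.assoc, Category.assoc, reassoc_of% hθK,
        hθ' _ (Over.homMk (Red.bc jR K).hom rfl : (Over.map jR).obj (Red.bc jR K) ⟶ S₀), hy, Category.assoc]
    let c := (Over.pullback jR).map θK
    have hrc : r ≫ c = 𝟙 _ := by
      apply (DSPtsLib.theta_bijective (g := jR) (H := K)).1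
      rw [show DSPtsLib.theta jR (r ≫ c) = DSPtsLib.theta jR r ≫ θK from
        (Over.mapPullbackAdj jR).homEquiv_naturality_right_symm r θK, hθK']
    haveI : IsIso c := ⟨r, by rw [← cancel_mono c, Category.assoc, hrc, Category.comp_id, Category.id_comp], hrc⟩
    haveI : IsIso c.left := inferInstanceAs (IsIso ((Over.forget _).map c))
    haveI : Flat L.hom := HomSchLib.flat_of_multTypeFT hLft
    refine GrpSchLib.ThickIso.isIso_of_thickening J hJ L.hom K.hom (Limits.pullback.fst L.hom jR)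
      (c.left ≫ Limits.pullback.fst K.hom jR) (Limits.pullback.snd L.hom jR) (IsPullback.of_hasPullback _ _)
      ?_ θK.left (Over.w θK) (Limits.pullback.lift_fst _ _ _).symm
    exact (IsPullback.of_hasPullback K.hom jR).of_iso (asIso c.left).symm (Iso.refl _) (Iso.refl _) (Iso.refl _)
      (by simp) (by rw [Iso.refl_hom, Category.comp_id, Iso.symm_hom, asIso_inv, IsIso.eq_inv_comp]; exact Over.w c)
      (by simp) (by simp; rfl)
  haveI : IsIso θK := haveI : IsIso ((Over.forget _).map θK) := ‹IsIso θK.left›; isIso_of_reflects_iso θK (Over.forget _)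
  refine ⟨H, iH, f, hfm, ‹_›, hHl, ⟨φ, by rw [hφ, hbc]⟩, fun X z => ⟨?_, ?_⟩⟩
  · rintro ⟨y, rfl⟩
    exact ⟨y ≫ θ, by rw [← MonObj.comp_pow, hθn, MonObj.comp_one], by rw [Category.assoc, ← hlf]⟩
  · rintro ⟨h, hh, rfl⟩
    have hc : h.left ≫ (𝟙 H ^ n : H ⟶ H).left = X.hom ≫ η[H].left := by
      rw [← Over.comp_left, MonObj.comp_pow, Category.comp_id, hh, Hom.one_def]
      rfl
    let hK : X ⟶ K := Over.homMk (Limits.pullback.lift h.left X.hom hc) (by
      show Limits.pullback.lift _ _ hc ≫ Limits.pullback.fst _ _ ≫ H.hom = _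
      rw [Limits.pullback.lift_fst_assoc, Over.w h])
    have hK' : hK ≫ κ₀ = h := Over.OverMorphism.ext (Limits.pullback.lift_fst _ _ hc)
    refine ⟨hK ≫ inv θK, ?_⟩
    rw [hlf, ← hK', Category.assoc, Category.assoc, ← hθK, Category.assoc, IsIso.inv_hom_id_assoc]

end Groth.Agent.S6070
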