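import Groth.Statements.S6074
import Groth.Agent.GenSub.Exhaust
import Groth.Agent.GenSub.BaseChange

set_option autoImplicit false
universe u
open CategoryTheory CategoryTheory.Limits MonoidalCategory CartesianMonoidalCategory MonObj GrpObj AlgebraicGeometry
open SGA3

namespace Groth.Agent.S6074

open Groth.Agent.GrpFieldLib in
/-- The length of a word. -/
def len : GenSub.Word.{u} → ℕ
  | .one => 0
  | .gen => 1
  | .inv t => len t
  | .mul a b => len a + len b

theorem exists_list_of_word {k : Type u} [Field k] {G X : Over (Spec (CommRingCat.of k))} [GrpObj G] (f : X ⟶ G)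
    (t : GenSub.Word.{u}) : ∀ (T : Over (Spec (CommRingCat.of k))) (h : T ⟶ GenSub.src X t),
      (∃ l : List (Bool × (T ⟶ X)), l.length = len t ∧ GenSub.wordPt f l = h ≫ GenSub.word f t) ∧
      (∃ l : List (Bool × (T ⟶ X)), l.length = len t ∧ GenSub.wordPt f l = (h ≫ GenSub.word f t)⁻¹) := by
  induction t with
  | one =>
    intro T h
    let h1 : T ⟶ 𝟙_ _ := h
    have e : h1 ≫ η[G] = 1 := by rw [MonObj.one_eq_one, MonObj.comp_one]
    exact ⟨⟨[], rfl, e.symm⟩, ⟨[], rfl, by show (1 : T ⟶ G) = (h1 ≫ η[G])⁻¹; rw [e, inv_one]⟩⟩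
  | gen =>
    intro T h
    let h1 : T ⟶ X := h
    exact ⟨⟨[(true, h1)], rfl, by simp [GenSub.wordPt]; rfl⟩, ⟨[(false, h1)], rfl, by simp [GenSub.wordPt]; rfl⟩⟩
  | inv t ih =>
    intro T h
    let h1 : T ⟶ GenSub.src X t := h
    have e : h ≫ GenSub.word f (.inv t) = (h1 ≫ GenSub.word f t)⁻¹ := by
      show h1 ≫ GenSub.word f t ≫ (GrpObj.inv : G ⟶ G) = _
      rw [GrpObj.inv_eq_inv, GrpObj.comp_inv, Category.comp_id, GrpObj.comp_inv]
    rw [e, _root_.inv_inv]
    exact ⟨(ih T h1).2, (ih T h1).1⟩
  | mul a b iha ihb =>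
    intro T h
    let h1 : T ⟶ GenSub.src X a ⊗ GenSub.src X b := h
    have e : h ≫ GenSub.word f (.mul a b) =
        ((h1 ≫ fst _ _) ≫ GenSub.word f a) * ((h1 ≫ snd _ _) ≫ GenSub.word f b) := by
      show h1 ≫ (GenSub.word f a ⊗ₘ GenSub.word f b) ≫ μ[G] = _
      rw [Hom.mul_def, ← Category.assoc]
      congr 1
      apply CartesianMonoidalCategory.hom_ext <;> simp
    obtain ⟨⟨la, hla, ea⟩, ⟨la', hla', ea'⟩⟩ := iha T (h1 ≫ fst _ _)
    obtain ⟨⟨lb, hlb, eb⟩, ⟨lb', hlb', eb'⟩⟩ := ihb T (h1 ≫ snd _ _)
    refine ⟨⟨la ++ lb, by simp [len, hla, hlb], ?_⟩, ⟨lb' ++ la', by simp [len, hla', hlb', Nat.add_comm], ?_⟩⟩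
    · rw [e, ← ea, ← eb, GenSub.wordPt, List.map_append, List.prod_append]; rfl
    · rw [e, _root_.mul_inv_rev, ← ea', ← eb', GenSub.wordPt, List.map_append, List.prod_append]; rfl

theorem wordPt_hom {k K : Type u} [Field k] [Field K] (g : Spec (CommRingCat.of K) ⟶ Spec (CommRingCat.of k))
    {G X : Over (Spec (CommRingCat.of k))} [GrpObj G] (f : X ⟶ G) {T : Over (Spec (CommRingCat.of K))}
    (l : List (Bool × (T ⟶ Red.bc g X))) :
    GenSub.wordPt f (l.map fun y => (y.1, DSPtsLib.theta g y.2)) =
      DSPtsLib.theta g (GenSub.wordPt ((Over.pullback g).map f) l) := by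
  have hf : ∀ x : T ⟶ Red.bc g X, DSPtsLib.theta g (x ≫ (Over.pullback g).map f) = DSPtsLib.theta g x ≫ f := by
    intro x
    refine Over.OverMorphism.ext ?_
    rw [Over.comp_left, DSPtsLib.theta_left, DSPtsLib.theta_left, Over.comp_left, Category.assoc, Category.assoc]
    exact congrArg (x.left ≫ ·) (GenSub.bcMap_left_fst g f)
  induction l with
  | nil => exact (map_one (GrpFieldLib.SolvBound.thetaEquiv G g T)).symm
  | cons y l ih =>
    obtain ⟨ε, z⟩ := y
    simp only [GenSub.wordPt, List.map_cons, List.prod_cons] at ih ⊢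
    refine ((congrArg₂ (· * ·) ?_ ih).trans (map_mul (GrpFieldLib.SolvBound.thetaEquiv G g T) _ _).symm)
    cases ε
    · simp only [Bool.false_eq_true, if_false]
      exact (congrArg Inv.inv (hf z).symm).trans (map_inv (GrpFieldLib.SolvBound.thetaEquiv G g T) _).symm
    · simp only [if_true]
      exact (hf z).symm

theorem wordPt_bc {k K : Type u} [Field k] [Field K] (g : Spec (CommRingCat.of K) ⟶ Spec (CommRingCat.of k))
    {G X : Over (Spec (CommRingCat.of k))} [GrpObj G] (f : X ⟶ G) {T : Over (Spec (CommRingCat.of k))}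
    (l : List (Bool × (T ⟶ X))) :
    GenSub.wordPt ((Over.pullback g).map f) (l.map fun y => (y.1, (Over.pullback g).map y.2)) =
      (Over.pullback g).map (GenSub.wordPt f l) := by
  induction l with
  | nil => exact (map_one (Over.pullback g).homMonoidHom).symm
  | cons y l ih =>
    obtain ⟨ε, z⟩ := y
    simp only [GenSub.wordPt, List.map_cons, List.prod_cons] at ih ⊢
    refine ((congrArg₂ (· * ·) ?_ ih).trans ((Over.pullback g).map_mul _ _).symm)
    cases ε
    · simp only [Bool.false_eq_true, if_false]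
      exact (congrArg Inv.inv ((Over.pullback g).map_comp z f).symm).trans
        (map_inv ((Over.pullback g).homMonoidHom : (T ⟶ G) →* _) (z ≫ f)).symm
    · simp only [if_true]
      exact ((Over.pullback g).map_comp z f).symm


/-- Let k be a field, G a group scheme locally of finite type over k, X a k-scheme of finite type,
geometrically reduced and geometrically connected, and f : X → G a k-morphism whose image contains
the unit point of G. Let i : Γ → G be the smallest closed subgroup scheme of G through which f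
factors. Then there is a natural number N such that the underlying set of Γ is the set of points of
G lying under a word of length N in f: a point g of G is in the image of i if and only if there are
a k-scheme T, a point p of T, T-valued points x_1, …, x_N of X and signs such that the T-valued
point f(x_1)^{±1} ⋯ f(x_N)^{±1} of G maps p to g. (The set of points of G lying under words of
length exactly N is the image of the N-th iterated word morphism X^N → G built from f and its
inverse.) -/
theorem result (k : Type u) [Field k]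
    (G X : Over (Spec (CommRingCat.of k))) [GrpObj G] [LocallyOfFiniteType G.hom]
    [LocallyOfFiniteType X.hom] [QuasiCompact X.hom] [GeometricallyReduced X.hom] [GeometricallyConnected X.hom]
    (f : X ⟶ G) (he : ∃ x : X.left, f.left.base x ∈ Set.range (η[G] : 𝟙_ (Over (Spec (CommRingCat.of k))) ⟶ G).left.base)
    (Γ : Over (Spec (CommRingCat.of k))) [GrpObj Γ] (i : Γ ⟶ G) [IsMonHom i] [IsClosedImmersion i.left]
    (hf : ∃ f' : X ⟶ Γ, f' ≫ i = f)
    (hmin : ∀ (Γ' : Over (Spec (CommRingCat.of k))) (_ : GrpObj Γ') (i' : Γ' ⟶ G), IsMonHom i' → IsClosedImmersion i'.left →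
        (∃ f'' : X ⟶ Γ', f'' ≫ i' = f) → ∃ j : Γ ⟶ Γ', j ≫ i' = i) :
    ∃ N : ℕ, Set.range i.left.base =
      {g : G.left | ∃ (T : Over (Spec (CommRingCat.of k))) (p : T.left) (x : Fin N → (T ⟶ X)) (ε : Fin N → Bool),
        ((List.ofFn fun j : Fin N => if ε j then x j ≫ f else (x j ≫ f)⁻¹).prod : T ⟶ G).left.base p = g} := by
  let g : Spec (CommRingCat.of (AlgebraicClosure k)) ⟶ Spec (CommRingCat.of k) :=
    Spec.map (CommRingCat.ofHom (algebraMap k (AlgebraicClosure k)))
  let GK := Red.bc g G
  let XK := Red.bc g X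
  let fK : XK ⟶ GK := (Over.pullback g).map f
  haveI : LocallyOfFiniteType GK.hom :=
    MorphismProperty.pullback_snd (P := @LocallyOfFiniteType) _ _ inferInstance
  haveI : LocallyOfFiniteType XK.hom :=
    MorphismProperty.pullback_snd (P := @LocallyOfFiniteType) _ _ inferInstance
  haveI : QuasiCompact XK.hom := MorphismProperty.pullback_snd (P := @QuasiCompact) _ _ inferInstance
  haveI : ConnectedSpace XK.left :=
    GeometricallyConnected.geometrically_connectedSpace (f := X.hom) _ _ _ (IsPullback.of_hasPullback X.hom g)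
  haveI : Surjective g := ⟨fun x => ⟨IsLocalRing.closedPoint _, Subsingleton.elim _ _⟩⟩
  haveI : UniversallyOpen g := VarGeom.universallyOpen_of_field g
  -- the unit lies in the image
  have hX : ∀ x : XK.left, ∃ y ∈ connectedComponent x, fK.left y = GrpFieldLib.SolvBound.pt (1 : 𝟙_ _ ⟶ GK) := by
    intro x
    obtain ⟨x₀, hx₀⟩ := he
    obtain ⟨y, hy, -⟩ := Scheme.Pullback.exists_preimage_pullback (f := X.hom) (g := g) x₀
      (IsLocalRing.closedPoint _) (Subsingleton.elim _ _)
    refine ⟨y, by rw [PreconnectedSpace.connectedComponent_eq_univ]; trivial, ?_⟩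
    have h1 : fK.left y ∈ Set.range ((Over.pullback g).map η[G]).left := by
      rw [GenSub.range_bcMap]
      refine Set.mem_preimage.mpr ?_
      rw [← Scheme.Hom.comp_apply, GenSub.bcMap_left_fst, Scheme.Hom.comp_apply]
      exact hy.symm ▸ hx₀
    obtain ⟨w, hw⟩ := h1
    haveI : Subsingleton ((Over.pullback g).obj (𝟙_ (Over (Spec (CommRingCat.of k))))).left := by
      constructor
      intro a b
      have hinj : Function.Injective (Limits.pullback.snd (𝟙 (Spec (CommRingCat.of k))) g) :=
        (Limits.pullback.snd (𝟙 (Spec (CommRingCat.of k))) g).isOpenEmbedding.injective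
      exact hinj (@Subsingleton.elim (Spec (CommRingCat.of (AlgebraicClosure k))) inferInstance _ _)
    have e1 : ∃ w', ((Over.pullback g).map η[G]).left w' = GrpFieldLib.SolvBound.pt (1 : 𝟙_ _ ⟶ GK) := by
      refine ⟨(Functor.LaxMonoidal.ε (Over.pullback g)).left (IsLocalRing.closedPoint (AlgebraicClosure k)), ?_⟩
      have : (1 : 𝟙_ _ ⟶ GK) = Functor.LaxMonoidal.ε (Over.pullback g) ≫ (Over.pullback g).map η[G] :=
        (MonObj.one_eq_one GK).symm
      rw [this, GrpFieldLib.SolvBound.pt, GrpSchLib.left_comp_apply]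
    obtain ⟨w', hw'⟩ := e1
    rw [← hw, ← hw', Subsingleton.elim w w']
  obtain ⟨t, ht, -⟩ := GenSub.exists_word_range fK hX
  refine ⟨len t, ?_⟩
  obtain ⟨f', hf'⟩ := hf
  apply Set.Subset.antisymm
  · obtain ⟨str, hm, h2, -, -⟩ := GenSub.exists_generated f
    obtain ⟨j, hj⟩ := hmin (GenSub.gen f) str (GenSub.genι f) hm inferInstance h2
    rintro _ ⟨z, rfl⟩
    have hz : i.left z ∈ closure (⋃ t, Set.range (GenSub.word f t).left) := by
      rw [← GenSub.range_genι]
      exact ⟨j.left z, by rw [← GrpSchLib.left_comp_apply, hj]⟩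
    obtain ⟨y, hy, -⟩ := Scheme.Pullback.exists_preimage_pullback (f := G.hom) (g := g) (i.left z)
      (IsLocalRing.closedPoint _) (Subsingleton.elim _ _)
    have hy' : y ∈ closure (Limits.pullback.fst G.hom g ⁻¹' ⋃ t, Set.range (GenSub.word f t).left) := by
      rw [← (Limits.pullback.fst G.hom g).isOpenMap.preimage_closure_eq_closure_preimage
        (Limits.pullback.fst G.hom g).continuous]
      refine Set.mem_preimage.mpr ?_
      rw [hy]; exact hz
    have hyK : y ∈ closure (⋃ t, Set.range (GenSub.word fK t).left) := by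
      refine closure_mono ?_ hy'
      intro q hq
      obtain ⟨s, hs⟩ := Set.mem_iUnion.mp hq
      obtain ⟨w, hw⟩ : q ∈ Set.range ((Over.pullback g).map (GenSub.word f s)).left := by
        rw [GenSub.range_bcMap]; exact hs
      obtain ⟨⟨l, -, hl⟩, -⟩ := exists_list_of_word f s _ (𝟙 _)
      rw [Category.id_comp] at hl
      rw [← hl, ← wordPt_bc] at hw
      obtain ⟨s', h', hs'⟩ := GenSub.exists_word_of_list fK (l.map fun y => (y.1, (Over.pullback g).map y.2))
      refine Set.mem_iUnion.mpr ⟨s', h'.left w, ?_⟩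
      rw [← GrpSchLib.left_comp_apply, hs']
      exact hw
    rw [← ht] at hyK
    obtain ⟨p, hp⟩ := hyK
    obtain ⟨⟨l, hlen, hl⟩, -⟩ := exists_list_of_word fK t _ (𝟙 _)
    rw [Category.id_comp] at hl
    refine ⟨(Over.map g).obj (GenSub.src XK t), p, fun j => DSPtsLib.theta g (l.get (j.cast hlen.symm)).2,
      fun j => (l.get (j.cast hlen.symm)).1, ?_⟩
    have e : (List.ofFn fun j : Fin (len t) =>
        if (l.get (j.cast hlen.symm)).1 then DSPtsLib.theta g (l.get (j.cast hlen.symm)).2 ≫ f
        else (DSPtsLib.theta g (l.get (j.cast hlen.symm)).2 ≫ f)⁻¹).prod =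
        GenSub.wordPt f (l.map fun y => (y.1, DSPtsLib.theta g y.2)) := by
      rw [GenSub.wordPt]
      congr 1
      refine List.ext_getElem (by simp [hlen]) fun n h1 h2 => ?_
      simp
    rw [e, wordPt_hom, hl, DSPtsLib.theta_left]
    show Limits.pullback.fst G.hom g ((GenSub.word fK t).left p) = _
    rw [hp, hy]
  · rintro _ ⟨T, p, x, ε, rfl⟩
    subst hf'
    have e : (List.ofFn fun j : Fin (len t) => if ε j then x j ≫ f' ≫ i else (x j ≫ f' ≫ i)⁻¹).prod =
        (List.ofFn fun j : Fin (len t) => if ε j then x j ≫ f' else (x j ≫ f')⁻¹).prod ≫ i := by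
      have hh : ∀ l : List (T ⟶ Γ), (l.map (fun y => y ≫ i)).prod = l.prod ≫ i := by
        intro l
        induction l with
        | nil => simp [MonObj.one_comp]
        | cons y l ih => simp [MonObj.mul_comp, ih]
      rw [← hh, List.map_ofFn]
      congr 2
      funext j
      cases hε : ε j <;> simp [hε, GrpObj.inv_comp]
    rw [e]
    exact ⟨_, (GrpSchLib.left_comp_apply _ _ _).symm⟩

end Groth.Agent.S6074
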