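import Groth.Statements.S6076
import Groth.Agent.AlgSpDec.ConstrTop
import Groth.Agent.AlgSpPts.Sep

set_option autoImplicit false
universe u
open CategoryTheory CategoryTheory.Limits MonoidalCategory CartesianMonoidalCategory MonObj GrpObj AlgebraicGeometry
open SGA3

namespace Groth.Agent.S6076

set_option backward.isDefEq.respectTransparency false
set_option backward.isDefEq.respectTransparency.types false

open Topology

/-- compactness of words in the constructible topology -/
theorem exists_bound_affine {H : Scheme.{u}} (V : H.Opens) (hV : IsAffineOpen V) (I : Type u) (ℓ : I → ℕ)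
    (P : I → Scheme.{u}) (w : ∀ i, P i ⟶ H) [∀ i, LocallyOfFinitePresentation (w i)]
    (hcov : ∀ h : H, ∃ i, h ∈ Set.range (w i).base) :
    ∃ n, ∀ h ∈ V, ∃ i, ℓ i ≤ n ∧ h ∈ Set.range (w i).base := by
  haveI : IsAffine (V : Scheme.{u}) := hV
  have hch : ∀ h : ↥V.toScheme, ∃ (i : I) (C : Set ↥V.toScheme), IsConstructible C ∧ h ∈ C ∧
      ∀ v ∈ C, v.1 ∈ Set.range (w i).base := fun h => by
    obtain ⟨i, p, hp⟩ := hcov h.1
    obtain ⟨U, hU, hpU, hUV⟩ := exists_isAffineOpen_mem_and_subset (U := (w i) ⁻¹ᵁ V) (x := p)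
      (show (w i) p ∈ V from hp.symm ▸ h.2)
    let g : (U : Scheme.{u}) ⟶ (V : Scheme.{u}) := (w i).resLE V U hUV
    haveI : IsAffine (U : Scheme.{u}) := hU
    haveI : LocallyOfFinitePresentation g := inferInstanceAs (LocallyOfFinitePresentation ((w i).resLE V U hUV))
    haveI : QuasiCompact g := inferInstance
    have hg : ∀ a : ↥U.toScheme, V.ι (g a) = w i (U.ι a) := fun a => by
      rw [← Scheme.Hom.comp_apply, ← Scheme.Hom.comp_apply, Scheme.Hom.resLE_comp_ι]
    refine ⟨i, g.base '' Set.univ, g.isConstructible_image .univ,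
      ⟨⟨p, hpU⟩, trivial, Subtype.ext ((hg ⟨p, hpU⟩).trans hp)⟩, ?_⟩
    rintro v ⟨a, -, rfl⟩
    exact ⟨a.1, (hg a).symm⟩
  choose i C hC hmem hsub using hch
  let π := WithTopology.ofTopology (X := ↥V.toScheme) (t := constructibleTopology ↥V.toScheme)
  obtain ⟨t, ht⟩ := isCompact_univ.elim_finite_subcover (fun h : ↥V.toScheme => π ⁻¹' C h)
    (fun h => (AlgSpDec.isClopen_of_isConstructible (hC h)).isOpen)
    (fun z _ => Set.mem_iUnion.2 ⟨π z, hmem _⟩)
  refine ⟨t.sup fun h => ℓ (i h), fun h hh => ?_⟩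
  obtain ⟨a, ha⟩ := Set.mem_iUnion.1 (ht (Set.mem_univ (WithTopology.toTopology _ (⟨h, hh⟩ : ↥V.toScheme))))
  obtain ⟨hat, hha⟩ := Set.mem_iUnion.1 ha
  exact ⟨i a, Finset.le_sup (f := fun h => ℓ (i h)) hat, hsub a _ hha⟩

theorem exists_bound {H : Scheme.{u}} [CompactSpace H] (I : Type u) (ℓ : I → ℕ) (P : I → Scheme.{u})
    (w : ∀ i, P i ⟶ H) [∀ i, LocallyOfFinitePresentation (w i)]
    (hcov : ∀ h : H, ∃ i, h ∈ Set.range (w i).base) :
    ∃ n, ∀ h : H, ∃ i, ℓ i ≤ n ∧ h ∈ Set.range (w i).base := by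
  have hV : ∀ h : H, ∃ V : H.Opens, IsAffineOpen V ∧ h ∈ V := fun h => by
    obtain ⟨V, h1, h2, -⟩ := exists_isAffineOpen_mem_and_subset (X := H) (x := h) (U := ⊤) trivial
    exact ⟨V, h1, h2⟩
  choose V hVa hVm using hV
  obtain ⟨t, ht⟩ := isCompact_univ.elim_finite_subcover (fun h : H => (V h : Set H)) (fun h => (V h).2)
    (fun z _ => Set.mem_iUnion.2 ⟨z, hVm z⟩)
  choose n hn using fun h => exists_bound_affine (V h) (hVa h) I ℓ P w hcov
  refine ⟨t.sup n, fun h => ?_⟩
  obtain ⟨a, ha⟩ := Set.mem_iUnion.1 (ht (Set.mem_univ h))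
  obtain ⟨hat, hha⟩ := Set.mem_iUnion.1 ha
  obtain ⟨i, hi, hr⟩ := hn a h hha
  exact ⟨i, hi.trans (Finset.le_sup hat), hr⟩

variable {S : Scheme.{u}} (X : Over S)

/-- `m`-fold fibre product -/
noncomputable def pw : ℕ → Over S
  | 0 => 𝟙_ (Over S)
  | m + 1 => X ⊗ pw m

noncomputable def pr : (m : ℕ) → Fin m → (pw X m ⟶ X)
  | 0, j => j.elim0
  | m + 1, j => Fin.cases (fst X (pw X m)) (fun k => snd X (pw X m) ≫ pr m k) j

theorem exists_lift {T : Over S} : ∀ (m : ℕ) (x : Fin m → (T ⟶ X)), ∃ l : T ⟶ pw X m, ∀ j, l ≫ pr X m j = x j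
  | 0, _ => ⟨toUnit T, fun j => j.elim0⟩
  | m + 1, x => by
    obtain ⟨l, hl⟩ := exists_lift m (fun k => x k.succ)
    refine ⟨lift (x 0) l, fun j => ?_⟩
    induction j using Fin.cases with
    | zero => exact lift_fst _ _
    | succ k =>
      change lift (x 0) l ≫ snd X (pw X m) ≫ pr X m k = x k.succ
      rw [lift_snd_assoc, hl]

theorem lfp_pw [LocallyOfFinitePresentation X.hom] : ∀ m, LocallyOfFinitePresentation (pw X m).hom
  | 0 => inferInstanceAs (LocallyOfFinitePresentation (𝟙 S))
  | m + 1 => by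
    haveI := lfp_pw m
    exact inferInstanceAs (LocallyOfFinitePresentation (pullback.fst X.hom (pw X m).hom ≫ X.hom))

variable {X} {H : Over S} [GrpObj H] (f : X ⟶ H)

noncomputable def word {T : Over S} {m : ℕ} (x : Fin m → (T ⟶ X)) (ε : Fin m → Bool) : T ⟶ H :=
  (List.ofFn fun j : Fin m => if ε j then x j ≫ f else (x j ≫ f)⁻¹).prod

theorem comp_word {T T' : Over S} (g : T' ⟶ T) : ∀ {m : ℕ} (x : Fin m → (T ⟶ X)) (ε : Fin m → Bool),
    g ≫ word f x ε = word f (fun j => g ≫ x j) ε
  | 0, x, ε => by simp [word, MonObj.comp_one]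
  | m + 1, x, ε => by
    have ih := comp_word g (fun j : Fin m => x j.succ) (fun j => ε j.succ)
    simp only [word, List.ofFn_succ, List.prod_cons, MonObj.comp_mul] at ih ⊢
    rw [ih]
    congr 1
    split <;> simp [GrpObj.comp_inv, Category.assoc]

/-- (iii) ⟹ (iv): let S be a scheme, X an S-scheme which is flat and locally of finite presentation over
S, H an S-group scheme locally of finite presentation over S with reduced fibres and quasi-compact
underlying space, and f : X → H an S-morphism. Say that a point h of H lies under a word of length n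
in f when there are an S-scheme T, a point p of T, T-valued points x_1, …, x_n of X and signs such
that the T-valued point f(x_1)^{±1} ⋯ f(x_n)^{±1} of H maps p to h. If every point of H lies under
some word in f, then there is a natural number n such that every point of H lies under a word of
length at most n. (The published statement concludes with words of one fixed length n and an
fppf-covering word morphism; for the constant group of order two over a field and f the non-trivial
point, the points under words of length n alternate between the two points of H, so only the bound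
on the length is stated here, and the covering assertion is not stated.) -/
theorem result (S : Scheme.{u}) (X H : Over S) [GrpObj H]
    [Flat X.hom] [LocallyOfFinitePresentation X.hom] [LocallyOfFinitePresentation H.hom]
    (hred : ∀ s : S, IsReduced (H.hom.fiber s)) [CompactSpace H.left] (f : X ⟶ H)
    (hsurj : ∀ h : H.left, ∃ (n : ℕ) (T : Over S) (p : T.left) (x : Fin n → (T ⟶ X)) (ε : Fin n → Bool),
      ((List.ofFn fun j : Fin n => if ε j then x j ≫ f else (x j ≫ f)⁻¹).prod : T ⟶ H).left.base p = h) :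
    ∃ n : ℕ, ∀ h : H.left, ∃ (m : ℕ) (_ : m ≤ n) (T : Over S) (p : T.left) (x : Fin m → (T ⟶ X)) (ε : Fin m → Bool),
      ((List.ofFn fun j : Fin m => if ε j then x j ≫ f else (x j ≫ f)⁻¹).prod : T ⟶ H).left.base p = h := by
  haveI : LocallyOfFiniteType H.hom := inferInstance
  let I : Type u := ULift.{u} ((m : ℕ) × (Fin m → Bool))
  let w : ∀ i : I, (pw X i.down.1).left ⟶ H.left := fun i => (word f (pr X i.down.1) i.down.2).left
  haveI : ∀ i, LocallyOfFinitePresentation (w i) := fun i => by
    haveI : LocallyOfFinitePresentation ((w i) ≫ H.hom) := by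
      rw [show w i ≫ H.hom = (pw X i.down.1).hom from Over.w _]
      exact lfp_pw X _
    exact AlgSpPts.locallyOfFinitePresentation_of_comp (w i) H.hom
  have hcov : ∀ h : H.left, ∃ i, h ∈ Set.range (w i).base := fun h => by
    obtain ⟨m, T, p, x, ε, hp⟩ := hsurj h
    obtain ⟨l, hl⟩ := exists_lift X m x
    refine ⟨⟨m, ε⟩, l.left.base p, ?_⟩
    show (word f (pr X m) ε).left (l.left p) = h
    rw [← Scheme.Hom.comp_apply, ← Over.comp_left, comp_word]
    simp only [hl]
    exact hp
  obtain ⟨n, hn⟩ := exists_bound I (fun i => i.down.1) _ w hcov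
  refine ⟨n, fun h => ?_⟩
  obtain ⟨⟨⟨m, ε⟩⟩, hm, p, hp⟩ := hn h
  exact ⟨m, hm, pw X m, p, pr X m, ε, hp⟩

end Groth.Agent.S6076
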