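import Groth.Statements.S6077
import Groth.Agent.GenSub.Points

set_option autoImplicit false
universe u
open CategoryTheory CategoryTheory.Limits MonoidalCategory CartesianMonoidalCategory MonObj GrpObj AlgebraicGeometry
open SGA3

namespace Groth.Agent.S6077

theorem wordPt_comp {k : Type u} [Field k] {G X : Over (Spec (CommRingCat.of k))} [GrpObj G] (f : X ⟶ G)
    {T T' : Over (Spec (CommRingCat.of k))} (q : T' ⟶ T) (l : List (Bool × (T ⟶ X))) :
    GenSub.wordPt f (l.map fun y => (y.1, q ≫ y.2)) = q ≫ GenSub.wordPt f l := by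
  induction l with
  | nil => simp [GenSub.wordPt, MonObj.comp_one]
  | cons y l ih =>
    obtain ⟨ε, z⟩ := y
    simp only [GenSub.wordPt, List.map_cons, List.prod_cons, MonObj.comp_mul] at ih ⊢
    rw [ih]
    cases ε <;> simp [GrpObj.comp_inv]

theorem wordPt_ofFn {k : Type u} [Field k] {G X : Over (Spec (CommRingCat.of k))} [GrpObj G] (f : X ⟶ G)
    {T : Over (Spec (CommRingCat.of k))} {n : ℕ} (x : Fin n → (T ⟶ X)) (ε : Fin n → Bool) :
    GenSub.wordPt f (List.ofFn fun j => (ε j, x j)) =
      (List.ofFn fun j : Fin n => if ε j then x j ≫ f else (x j ≫ f)⁻¹).prod := by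
  rw [GenSub.wordPt, List.map_ofFn]; rfl

theorem exists_ofFn {k : Type u} [Field k] {G X : Over (Spec (CommRingCat.of k))} [GrpObj G] (f : X ⟶ G)
    {T : Over (Spec (CommRingCat.of k))} (l : List (Bool × (T ⟶ X))) {m : ℕ} (hm : l.length = m) :
    ∃ (x : Fin m → (T ⟶ X)) (ε : Fin m → Bool),
      (List.ofFn fun j : Fin m => if ε j then x j ≫ f else (x j ≫ f)⁻¹).prod = GenSub.wordPt f l := by
  subst hm
  refine ⟨fun j => (l.get j).2, fun j => (l.get j).1, ?_⟩
  rw [← wordPt_ofFn]
  exact congrArg _ (List.ofFn_get l)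

theorem translate_eq {k : Type u} [Field k] {G : Over (Spec (CommRingCat.of k))} [GrpObj G]
    (a : 𝟙_ _ ⟶ G) : (λ_ G).inv ≫ (a ▷ G) ≫ μ[G] = (toUnit G ≫ a) * 𝟙 G := by
  rw [Hom.mul_def, ← Category.assoc]
  congr 1
  apply CartesianMonoidalCategory.hom_ext <;> simp


/-- Let k be an algebraically closed field, G a group scheme locally of finite type over k, X a
geometrically reduced k-scheme locally of finite type, f : X → G a k-morphism, and h : H → G a
closed subgroup scheme whose underlying set is contained in the image of f. Let i : Γ → G be the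
smallest closed subgroup scheme of G through which f factors. Say that a point of G lies under a
word of length n in f when there are a k-scheme T, a point p of T, T-valued points x_1, …, x_n of X
and signs such that f(x_1)^{±1} ⋯ f(x_n)^{±1} maps p to it; let Γ'₀ be the set of k-points of G
whose point lies under some word (of any length n ≥ 0). Suppose that Γ'₀ is covered by finitely many
left translates a · H(k) of the image of H(k) in G(k), with the a in Γ'₀ (H(k) has finite index in
Γ'₀). Then there is m such that the underlying set of Γ is the set of points of G lying under a word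
of length m, and there are finitely many k-points a_1, …, a_r of G such that the underlying set of Γ
is the union of the left translates a_j · H of the underlying set of H. -/
theorem result (k : Type u) [Field k] [IsAlgClosed k]
    (G X H : Over (Spec (CommRingCat.of k))) [GrpObj G] [GrpObj H] [LocallyOfFiniteType G.hom]
    [LocallyOfFiniteType X.hom] [GeometricallyReduced X.hom] (f : X ⟶ G)
    (h : H ⟶ G) [IsMonHom h] [IsClosedImmersion h.left] (hH : Set.range h.left.base ⊆ Set.range f.left.base)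
    (Γ : Over (Spec (CommRingCat.of k))) [GrpObj Γ] (i : Γ ⟶ G) [IsMonHom i] [IsClosedImmersion i.left]
    (hf : ∃ f' : X ⟶ Γ, f' ≫ i = f)
    (hmin : ∀ (Γ' : Over (Spec (CommRingCat.of k))) (_ : GrpObj Γ') (i' : Γ' ⟶ G), IsMonHom i' → IsClosedImmersion i'.left →
        (∃ f'' : X ⟶ Γ', f'' ≫ i' = f) → ∃ j : Γ ⟶ Γ', j ≫ i' = i)
    (hfin : ∃ F : Finset (𝟙_ (Over (Spec (CommRingCat.of k))) ⟶ G),
      (∀ a ∈ F, ∃ (n : ℕ) (T : Over (Spec (CommRingCat.of k))) (p : T.left) (p₀ : (𝟙_ (Over (Spec (CommRingCat.of k)))).left) (x : Fin n → (T ⟶ X)) (ε : Fin n → Bool),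
        ((List.ofFn fun j : Fin n => if ε j then x j ≫ f else (x j ≫ f)⁻¹).prod : T ⟶ G).left.base p = a.left.base p₀) ∧
      ∀ g : 𝟙_ (Over (Spec (CommRingCat.of k))) ⟶ G, (∃ (n : ℕ) (T : Over (Spec (CommRingCat.of k))) (p : T.left) (p₀ : (𝟙_ (Over (Spec (CommRingCat.of k)))).left) (x : Fin n → (T ⟶ X)) (ε : Fin n → Bool),
        ((List.ofFn fun j : Fin n => if ε j then x j ≫ f else (x j ≫ f)⁻¹).prod : T ⟶ G).left.base p = g.left.base p₀) →
        ∃ a ∈ F, ∃ y : 𝟙_ (Over (Spec (CommRingCat.of k))) ⟶ H, g = a * (y ≫ h)) :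
    (∃ m : ℕ, Set.range i.left.base =
      {g : G.left | ∃ (T : Over (Spec (CommRingCat.of k))) (p : T.left) (x : Fin m → (T ⟶ X)) (ε : Fin m → Bool),
        ((List.ofFn fun j : Fin m => if ε j then x j ≫ f else (x j ≫ f)⁻¹).prod : T ⟶ G).left.base p = g}) ∧
    ∃ F : Finset (𝟙_ (Over (Spec (CommRingCat.of k))) ⟶ G), Set.range i.left.base =
      ⋃ a ∈ F, (fun z => ((λ_ G).inv ≫ (a ▷ G) ≫ μ[G]).left.base z) '' Set.range h.left.base := by
  classical
  obtain ⟨F, hFw, hFc⟩ := hfin
  let τ : (𝟙_ (Over (Spec (CommRingCat.of k))) ⟶ G) → (G ≅ G) := fun a =>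
    { hom := (λ_ G).inv ≫ (a ▷ G) ≫ μ[G]
      inv := (toUnit G ≫ a⁻¹) * 𝟙 G
      hom_inv_id := by
        rw [translate_eq, MonObj.comp_mul, comp_toUnit_assoc, Category.comp_id, ← _root_.mul_assoc, GrpObj.comp_inv,
          _root_.inv_mul_cancel, _root_.one_mul]
      inv_hom_id := by
        rw [translate_eq, MonObj.comp_mul, comp_toUnit_assoc, Category.comp_id, ← _root_.mul_assoc, GrpObj.comp_inv,
          _root_.mul_inv_cancel, _root_.one_mul] }
  have hτ : ∀ a {T : Over (Spec (CommRingCat.of k))} (g : T ⟶ G), g ≫ (τ a).hom = (toUnit T ≫ a) * g := by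
    intro a T g
    show g ≫ (λ_ G).inv ≫ (a ▷ G) ≫ μ[G] = _
    rw [translate_eq, MonObj.comp_mul, comp_toUnit_assoc, Category.comp_id]
  let R : Set G.left := ⋃ a ∈ F, (τ a).hom.left '' Set.range h.left
  have hRc : IsClosed R := F.finite_toSet.isClosed_biUnion fun a _ => by
    haveI : IsClosedImmersion (τ a).hom.left :=
      inferInstanceAs (IsClosedImmersion ((Over.forget _).mapIso (τ a)).hom)
    exact (τ a).hom.left.isClosedEmbedding.isClosedMap _ h.left.isClosedEmbedding.isClosed_range
  -- rational points of words lie in `R`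
  have hwR : ∀ t, Set.range (GenSub.word f t).left ⊆ R := by
    intro t
    haveI := GenSub.lft_src (X := X) t
    haveI : JacobsonSpace (GenSub.src X t).left := LocallyOfFiniteType.jacobsonSpace (GenSub.src X t).hom
    rintro _ ⟨z, rfl⟩
    by_contra hz
    obtain ⟨q, hq, hqc⟩ := nonempty_inter_closedPoints (Z := (GenSub.word f t).left ⁻¹' Rᶜ) ⟨z, hz⟩
      (hRc.isOpen_compl.preimage (GenSub.word f t).left.continuous).isLocallyClosed
    obtain ⟨s, rfl⟩ := GrpFieldLib.SolvBound.exists_pt_eq (H := GenSub.src X t) hqc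
    obtain ⟨l, hl⟩ := GenSub.exists_list_of_mem_closure f _ (GenSub.word_mem_closure f t s)
    obtain ⟨x, ε, hx⟩ := exists_ofFn f l rfl
    obtain ⟨a, haF, y, hy⟩ := hFc (s ≫ GenSub.word f t) ⟨l.length, 𝟙_ _, IsLocalRing.closedPoint k,
      IsLocalRing.closedPoint k, x, ε, by rw [hx, hl]⟩
    apply hq
    refine Set.mem_biUnion haF ⟨h.left (GrpFieldLib.SolvBound.pt y), ⟨_, rfl⟩, ?_⟩
    rw [← GrpFieldLib.SolvBound.pt_comp, ← GrpFieldLib.SolvBound.pt_comp, ← GrpFieldLib.SolvBound.pt_comp, hτ,
      toUnit_unit, Category.id_comp, ← hy]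
  -- lists representing the translations
  have hla : ∀ a ∈ F, ∃ l : List (Bool × (𝟙_ _ ⟶ X)), GenSub.wordPt f l = a := by
    intro a ha
    obtain ⟨n, T, p, p₀, x, ε, hp⟩ := hFw a ha
    obtain ⟨t, e, ht⟩ := GenSub.exists_word_of_list f (List.ofFn fun j => (ε j, x j))
    haveI := GenSub.lft_src (X := X) t
    rw [show p₀ = IsLocalRing.closedPoint k from
      @Subsingleton.elim (Spec (CommRingCat.of k)) inferInstance _ _] at hp
    obtain ⟨s, rfl⟩ := GenSub.exists_rat_lift (GenSub.word f t) a ⟨e.left p, by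
      rw [← GrpSchLib.left_comp_apply, ht, wordPt_ofFn]; exact hp⟩
    exact GenSub.exists_list_of_mem_closure f _ (GenSub.word_mem_closure f t s)
  choose la hla using hla
  obtain ⟨x₀, hx₀⟩ := GenSub.exists_rat_lift f (1 : 𝟙_ _ ⟶ G) (hH ⟨GrpFieldLib.SolvBound.pt (1 : 𝟙_ _ ⟶ H), by
    rw [← GrpFieldLib.SolvBound.pt_comp, MonObj.one_comp]⟩)
  let M : ℕ := F.attach.sup fun a => (la a.1 a.2).length
  let W : Set G.left := {g : G.left | ∃ (T : Over (Spec (CommRingCat.of k))) (p : T.left) (x : Fin (M + 1) → (T ⟶ X))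
    (ε : Fin (M + 1) → Bool),
    ((List.ofFn fun j : Fin (M + 1) => if ε j then x j ≫ f else (x j ≫ f)⁻¹).prod : T ⟶ G).left.base p = g}
  obtain ⟨f', hf'⟩ := hf
  have hWi : W ⊆ Set.range i.left := by
    rintro _ ⟨T, p, x, ε, rfl⟩
    have e : (List.ofFn fun j : Fin (M + 1) => if ε j then x j ≫ f else (x j ≫ f)⁻¹).prod =
        (List.ofFn fun j : Fin (M + 1) => if ε j then x j ≫ f' else (x j ≫ f')⁻¹).prod ≫ i := by
      have hh : ∀ l : List (T ⟶ Γ), (l.map (fun y => y ≫ i)).prod = l.prod ≫ i := by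
        intro l
        induction l with
        | nil => simp [MonObj.one_comp]
        | cons y l ih => simp [MonObj.mul_comp, ih]
      rw [← hh, List.map_ofFn]
      congr 2
      funext j
      subst hf'
      cases hε : ε j <;> simp [hε, GrpObj.inv_comp]
    rw [e]
    exact ⟨_, (GrpSchLib.left_comp_apply _ _ _).symm⟩
  have hRW : R ⊆ W := by
    intro g hg
    obtain ⟨a, haF, _, ⟨z, rfl⟩, rfl⟩ := Set.mem_iUnion₂.mp hg
    obtain ⟨x, hx⟩ := hH ⟨z, rfl⟩
    have hlen : (la a haF).length ≤ M := Finset.le_sup (f := fun b : {b // b ∈ F} => (la b.1 b.2).length)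
      (F.mem_attach ⟨a, haF⟩)
    let L : List (Bool × (X ⟶ X)) :=
      (List.replicate (M - (la a haF).length) (true, x₀) ++ la a haF).map (fun y => (y.1, toUnit X ≫ y.2)) ++
        [(true, 𝟙 X)]
    have hLw : GenSub.wordPt f L = f ≫ (τ a).hom := by
      have e1 : GenSub.wordPt f (List.replicate (M - (la a haF).length) (true, x₀) ++ la a haF) = a := by
        have hrep : GenSub.wordPt f (List.replicate (M - (la a haF).length) (true, x₀)) = 1 := by
          simp [GenSub.wordPt, hx₀]
        rw [GenSub.wordPt, List.map_append, List.prod_append]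
        exact (congrArg₂ (· * ·) hrep (hla a haF)).trans (_root_.one_mul a)
      rw [hτ, GenSub.wordPt, List.map_append, List.prod_append]
      refine congrArg₂ (· * ·) ((wordPt_comp f (toUnit X) _).trans (by rw [e1])) (by simp)
    obtain ⟨xs, εs, hxs⟩ := exists_ofFn f L (m := M + 1) (by
      simp only [L, List.length_append, List.length_map, List.length_replicate, List.length_singleton]; omega)
    refine ⟨X, x, xs, εs, ?_⟩
    rw [hxs, hLw, GrpSchLib.left_comp_apply]
    exact congrArg _ hx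
  have hiR : Set.range i.left ⊆ R := by
    obtain ⟨str, hm, h2, -, -⟩ := GenSub.exists_generated f
    obtain ⟨j, hj⟩ := hmin (GenSub.gen f) str (GenSub.genι f) hm inferInstance h2
    rintro _ ⟨z, rfl⟩
    have : i.left z ∈ closure (⋃ t, Set.range (GenSub.word f t).left) := by
      rw [← GenSub.range_genι]
      exact ⟨j.left z, by rw [← GrpSchLib.left_comp_apply, hj]⟩
    exact closure_minimal (Set.iUnion_subset hwR) hRc this
  exact ⟨⟨M + 1, (hiR.trans hRW).antisymm hWi⟩, F, hiR.antisymm (hRW.trans hWi)⟩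

end Groth.Agent.S6077
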