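import Groth.Statements.S6084
import Groth.Agent.GrpQuotLib.Field
-- import your own Groth.Agent.* helpers here

set_option autoImplicit false
set_option backward.isDefEq.respectTransparency false
set_option maxHeartbeats 1000000
set_option linter.style.haveILetI false
universe u
open CategoryTheory CategoryTheory.Limits MonoidalCategory CartesianMonoidalCategory MonObj GrpObj AlgebraicGeometry
open SGA3

namespace Groth.Agent.S6084

/-- Let k be a perfect field, G a group scheme locally of finite type over k and u : F → G a
homomorphism of k-group schemes which is a closed immersion and surjective on underlying spaces,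
with F reduced (so F is G_red with its group structure). Let p : G → X be a k-morphism which is
flat, surjective and locally of finite presentation and makes the square formed by (f, g) ↦ u(f) ·
g, the second projection F ×_k G → G and p (twice) cartesian (X is the quotient of G by F acting by
left translations). Then X is the spectrum of a finite local k-algebra with residue field k: X is
affine, its underlying space is a single point at which the structure morphism induces an
isomorphism of residue fields, and the ring of global sections of X is finite over k. -/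
theorem result (k : Type u) [Field k] [PerfectField k]
    (F G : Over (Spec (CommRingCat.of k))) [GrpObj F] [GrpObj G] [LocallyOfFiniteType G.hom] [IsReduced F.left]
    (u : F ⟶ G) [IsMonHom u] [IsClosedImmersion u.left] [Surjective u.left]
    (X : Over (Spec (CommRingCat.of k))) (p : G ⟶ X) [Flat p.left] [Surjective p.left] [LocallyOfFinitePresentation p.left]
    (hp : IsPullback ((u ▷ G) ≫ μ[G]) (snd F G) p p) :
    IsAffine X.left ∧ (∃ x : X.left, (Set.univ : Set X.left) = {x} ∧ IsIso (X.hom.residueFieldMap x)) ∧
      ((Scheme.ΓSpecIso (CommRingCat.of k)).inv ≫ X.hom.appTop).hom.Finite := by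
  haveI : LocallyOfFiniteType X.hom := by
    haveI : LocallyOfFiniteType (p.left ≫ X.hom) := by rw [Over.w]; infer_instance
    exact SrcDescent.locallyOfFiniteType_of_fppf_comp (f := p.left) (g := X.hom)
  let pt : ↥(𝟙_ (Over (Spec (CommRingCat.of k)))).left := IsLocalRing.closedPoint k
  have hone : ∀ x : X.left, x = (η[G] ≫ p).left pt := fun x => by
    obtain ⟨y, rfl⟩ := p.left.surjective x
    obtain ⟨f, rfl⟩ := u.left.surjective y
    let s : F ⟶ F ⊗ G := lift (𝟙 F) (toUnit F ≫ η[G])
    have e : s ≫ (u ▷ G) ≫ μ[G] ≫ p = s ≫ snd F G ≫ p := congrArg (s ≫ ·) (by simpa [Category.assoc] using hp.w)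
    have e1 : s ≫ (u ▷ G) ≫ μ[G] = u := by
      rw [← Category.assoc, lift_whiskerRight, Category.id_comp, ← Hom.mul_def, ← Hom.one_def, _root_.mul_one]
    have e2 : s ≫ snd F G = toUnit F ≫ η[G] := lift_snd _ _
    rw [reassoc_of% e1, reassoc_of% e2] at e
    have := congrArg (fun m : F ⟶ X => m.left f) e
    simp only [Over.comp_left, Scheme.Hom.comp_apply] at this ⊢
    refine this.trans ?_
    exact congrArg (fun z => p.left (η[G].left z)) (Subsingleton.elim (α := Spec (CommRingCat.of k)) _ _)
  haveI : Subsingleton X.left := ⟨fun a b => (hone a).trans (hone b).symm⟩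
  haveI : IsAffine X.left := by
    obtain ⟨V, hV, hxV, -⟩ := exists_isAffineOpen_mem_and_subset
      (show (η[G] ≫ p).left pt ∈ (⊤ : X.left.Opens) from trivial)
    have hVt : V = ⊤ := by
      ext z; simp only [TopologicalSpace.Opens.coe_top, Set.mem_univ, iff_true]; rw [hone z]; exact hxV
    subst hVt
    exact @IsAffine.of_isIso _ _ (X.left.topIso.inv) inferInstance hV
  haveI : QuasiCompact X.hom := (quasiCompact_iff_compactSpace X.hom).2 inferInstance
  haveI : LocallyQuasiFinite X.hom :=
    LocallyQuasiFinite.of_finite_preimage_singleton _ fun _ => Set.toFinite _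
  haveI : IsFinite X.hom := IsFinite.of_locallyQuasiFinite X.hom
  refine ⟨inferInstance, ⟨(η[G] ≫ p).left pt, Set.eq_singleton_iff_unique_mem.2 ⟨trivial, fun z _ => hone z⟩, ?_⟩, ?_⟩
  · have hsec : (η[G] ≫ p).left ≫ X.hom = 𝟙 _ := Over.w (η[G] ≫ p)
    have hcomp : IsIso (((η[G] ≫ p).left ≫ X.hom).residueFieldMap pt) := by
      rw [hsec]; infer_instance
    rw [Scheme.residueFieldMap_comp] at hcomp
    have hb := (ConcreteCategory.isIso_iff_bijective _).1 hcomp
    rw [ConcreteCategory.isIso_iff_bijective]
    have hinj := (RingHom.injective ((η[G] ≫ p).left.residueFieldMap pt).hom)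
    refine ⟨RingHom.injective _, fun z => ?_⟩
    obtain ⟨w, hw⟩ := hb.2 (((η[G] ≫ p).left.residueFieldMap pt) z)
    exact ⟨w, hinj hw⟩
  · exact RingHom.Finite.comp (X.hom.finite_appTop) (RingHom.Finite.of_surjective _
      (ConcreteCategory.bijective_of_isIso (Scheme.ΓSpecIso (CommRingCat.of k)).inv).2)

end Groth.Agent.S6084
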