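import Groth.Statements.S6087
import Groth.Agent.GrpLimLib.QuotDesc
-- import your own Groth.Agent.* helpers here

set_option autoImplicit false
set_option backward.isDefEq.respectTransparency false
set_option maxHeartbeats 1000000
set_option linter.style.haveILetI false
universe u
open CategoryTheory CategoryTheory.Limits MonoidalCategory CartesianMonoidalCategory MonObj GrpObj AlgebraicGeometry
open SGA3

namespace Groth.Agent.S6087

/-- Let S be the limit of a cofiltered system (S_i) of quasi-compact quasi-separated schemes with affine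
transition morphisms, j an index, G_j an S_j-group scheme of finite presentation over S_j and u_j :
G'_j → G_j a subgroup scheme (a homomorphism which is a monomorphism) with G'_j flat and of finite
presentation over S_j. For a base change G, G' of G_j, G'_j say that G/G' is representable when
there are Q and a morphism p : G → Q which is flat, surjective and locally of finite presentation
and makes the square formed by (g, h) ↦ g · u(h), the first projection G × G' → G and p (twice)
cartesian. Then G/G' is representable over S for the base changes to S if and only if there is an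
index i over j such that G_i/G'_i is representable over S_i for the base changes to S_i. (The
published statement is for representability of the fpqc quotient sheaf; with G' flat of finite
presentation this is the same as the existence of such a p. The published setting takes all S_i
affine over a fixed quasi-compact quasi-separated S_0.) -/
theorem result {I : Type u} [SmallCategory I] [IsCofiltered I]
    (D : I ⥤ Scheme.{u}) (c : Limits.Cone D) (hc : Limits.IsLimit c)
    [∀ (i i' : I) (f : i ⟶ i'), IsAffineHom (D.map f)] [∀ i, CompactSpace (D.obj i)] [∀ i, QuasiSeparatedSpace (D.obj i)]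
    (j : I) (Gj G'j : Over (D.obj j)) [GrpObj Gj] [GrpObj G'j]
    [LocallyOfFinitePresentation Gj.hom] [QuasiCompact Gj.hom] [QuasiSeparated Gj.hom]
    [Flat G'j.hom] [LocallyOfFinitePresentation G'j.hom] [QuasiCompact G'j.hom] [QuasiSeparated G'j.hom]
    (uj : G'j ⟶ Gj) [IsMonHom uj] [Mono uj] :
    (∃ (Q : Over c.pt) (p : (Red.bc (c.π.app j) Gj) ⟶ Q), Flat p.left ∧ Surjective p.left ∧ LocallyOfFinitePresentation p.left ∧
        IsPullback (((Red.bc (c.π.app j) Gj) ◁ ((Over.pullback (c.π.app j)).map uj)) ≫ μ[(Red.bc (c.π.app j) Gj)]) (fst (Red.bc (c.π.app j) Gj) (Red.bc (c.π.app j) G'j)) p p) ↔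
    ∃ (i : I) (f : i ⟶ j), ∃ (Q : Over (D.obj i)) (p : (Red.bc (D.map f) Gj) ⟶ Q), Flat p.left ∧ Surjective p.left ∧ LocallyOfFinitePresentation p.left ∧
        IsPullback (((Red.bc (D.map f) Gj) ◁ ((Over.pullback (D.map f)).map uj)) ≫ μ[(Red.bc (D.map f) Gj)]) (fst (Red.bc (D.map f) Gj) (Red.bc (D.map f) G'j)) p p := by

  haveI : LocallyOfFinitePresentation (Gj ⊗ G'j).hom :=
    inferInstanceAs (LocallyOfFinitePresentation (Limits.pullback.fst Gj.hom G'j.hom ≫ Gj.hom))
  haveI : QuasiCompact (Gj ⊗ G'j).hom :=
    inferInstanceAs (QuasiCompact (Limits.pullback.fst Gj.hom G'j.hom ≫ Gj.hom))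
  haveI : QuasiSeparated (Gj ⊗ G'j).hom :=
    inferInstanceAs (QuasiSeparated (Limits.pullback.fst Gj.hom G'j.hom ≫ Gj.hom))
  have key : ∀ {S' : Scheme.{u}} (σ : S' ⟶ D.obj j),
      (∃ (Q : Over S') (p : (Red.bc σ Gj) ⟶ Q), Flat p.left ∧ Surjective p.left ∧ LocallyOfFinitePresentation p.left ∧
        IsPullback (((Red.bc σ Gj) ◁ ((Over.pullback σ).map uj)) ≫ μ[(Red.bc σ Gj)]) (fst (Red.bc σ Gj) (Red.bc σ G'j)) p p) ↔
      GrpLimLib.HasQuot σ ((Gj ◁ uj) ≫ μ[Gj]) (fst Gj G'j) := by
    intro S' σ
    have e1 : (Functor.Monoidal.μIso (Over.pullback σ) Gj G'j).hom ≫ (Over.pullback σ).map ((Gj ◁ uj) ≫ μ[Gj]) =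
        ((Red.bc σ Gj) ◁ ((Over.pullback σ).map uj)) ≫ μ[(Red.bc σ Gj)] := by
      show _ = _ ≫ (Functor.LaxMonoidal.μ (Over.pullback σ) Gj Gj ≫ (Over.pullback σ).map μ[Gj])
      rw [Functor.Monoidal.μIso_hom, Functor.map_comp, Functor.LaxMonoidal.μ_natural_right_assoc]
    have e2 : (Functor.Monoidal.μIso (Over.pullback σ) Gj G'j).hom ≫ (Over.pullback σ).map (fst Gj G'j) =
        fst (Red.bc σ Gj) (Red.bc σ G'j) := Functor.Monoidal.μ_fst _ _ _
    refine exists_congr fun Q => exists_congr fun p => and_congr_right fun _ => and_congr_right fun _ =>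
      and_congr_right fun _ => ⟨fun h => ?_, fun h => ?_⟩
    · exact h.of_iso (Functor.Monoidal.μIso (Over.pullback σ) Gj G'j) (Iso.refl _) (Iso.refl _) (Iso.refl _)
        ((Category.comp_id _).trans e1.symm) ((Category.comp_id _).trans e2.symm) (by simp) (by simp)
    · exact h.of_iso (Functor.Monoidal.μIso (Over.pullback σ) Gj G'j).symm (Iso.refl _) (Iso.refl _) (Iso.refl _)
        (by rw [← e1]; simp) (by rw [← e2]; simp) (by simp) (by simp)
  rw [key, GrpLimLib.hasQuot_iff D hc Gj (Gj ⊗ G'j)]
  exact exists_congr fun i => exists_congr fun f => (key (D.map f)).symm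


end Groth.Agent.S6087
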