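import Groth.Statements.S6088
import Groth.Agent.GrpLimLib.Descend
-- import your own Groth.Agent.* helpers here

set_option autoImplicit false
set_option backward.isDefEq.respectTransparency false
set_option maxHeartbeats 1000000
set_option linter.style.haveILetI false
universe u
open CategoryTheory CategoryTheory.Limits MonoidalCategory CartesianMonoidalCategory MonObj GrpObj AlgebraicGeometry
open SGA3

namespace Groth.Agent.S6088

/-- Let S be the limit of a cofiltered system (S_i) of quasi-compact quasi-separated schemes with affine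
transition morphisms, j an index and u_j : H_j → G_j a homomorphism of S_j-group schemes of finite
presentation over S_j; write u and u_i for its base changes to S and to S_i. Then u is a
monomorphism with H normal in G (for every S-scheme T, conjugates of T-points of H by T-points of G
are T-points of H) if and only if there is an index i over j such that u_i is a monomorphism with
H_i normal in G_i; and u is a monomorphism with H central in G (every T-point of H commutes with
every T-point of G) if and only if there is an index i over j with the same property for u_i. (The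
published statement starts from a homomorphism u of S-groups of finite presentation and first
descends it to some u_j; this row starts from u_j. The published setting takes all S_i affine over a
fixed quasi-compact quasi-separated S_0.) -/
theorem result {I : Type u} [SmallCategory I] [IsCofiltered I]
    (D : I ⥤ Scheme.{u}) (c : Limits.Cone D) (hc : Limits.IsLimit c)
    [∀ (i i' : I) (f : i ⟶ i'), IsAffineHom (D.map f)] [∀ i, CompactSpace (D.obj i)] [∀ i, QuasiSeparatedSpace (D.obj i)]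
    (j : I) (Gj Hj : Over (D.obj j)) [GrpObj Gj] [GrpObj Hj]
    [LocallyOfFinitePresentation Gj.hom] [QuasiCompact Gj.hom] [QuasiSeparated Gj.hom]
    [LocallyOfFinitePresentation Hj.hom] [QuasiCompact Hj.hom] [QuasiSeparated Hj.hom]
    (uj : Hj ⟶ Gj) [IsMonHom uj] :
    ((Mono ((Over.pullback (c.π.app j)).map uj) ∧ AlgGrp.IsNormalHom ((Over.pullback (c.π.app j)).map uj)) ↔
      ∃ (i : I) (f : i ⟶ j), Mono ((Over.pullback (D.map f)).map uj) ∧ AlgGrp.IsNormalHom ((Over.pullback (D.map f)).map uj)) ∧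
    ((Mono ((Over.pullback (c.π.app j)).map uj) ∧ (∀ (T : Over c.pt) (g : T ⟶ (Red.bc (c.π.app j) Gj)) (n : T ⟶ (Red.bc (c.π.app j) Hj)), g * (n ≫ ((Over.pullback (c.π.app j)).map uj)) = (n ≫ ((Over.pullback (c.π.app j)).map uj)) * g)) ↔
      ∃ (i : I) (f : i ⟶ j), Mono ((Over.pullback (D.map f)).map uj) ∧ (∀ (T : Over (D.obj i)) (g : T ⟶ (Red.bc (D.map f) Gj)) (n : T ⟶ (Red.bc (D.map f) Hj)), g * (n ≫ ((Over.pullback (D.map f)).map uj)) = (n ≫ ((Over.pullback (D.map f)).map uj)) * g)) := by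

  haveI : ∀ {X Y : Over (D.obj j)}, QuasiCompact Y.hom → QuasiCompact X.hom → QuasiCompact (X ⊗ Y).hom :=
    fun {X Y} hY hX => by
      haveI := hY; haveI := hX
      exact inferInstanceAs (QuasiCompact (Limits.pullback.fst X.hom Y.hom ≫ X.hom))
  haveI hGH1 : QuasiCompact (Gj ⊗ Hj).hom := this ‹_› ‹_›
  haveI hGH2 : QuasiSeparated (Gj ⊗ Hj).hom :=
    inferInstanceAs (QuasiSeparated (Limits.pullback.fst Gj.hom Hj.hom ≫ Gj.hom))
  haveI : QuasiCompact uj.left := by
    haveI : QuasiCompact (uj.left ≫ Gj.hom) := by rw [Over.w uj]; infer_instance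
    exact QuasiCompact.of_comp uj.left Gj.hom
  haveI : QuasiSeparated uj.left := by
    haveI : QuasiSeparated (uj.left ≫ Gj.hom) := by rw [Over.w uj]; infer_instance
    exact QuasiSeparated.of_comp uj.left Gj.hom
  haveI hK1 : QuasiCompact (Limits.pullback uj uj).hom := by
    rw [← Over.w (Limits.pullback.fst uj uj)]
    haveI : QuasiCompact (Limits.pullback.fst uj uj).left :=
      MorphismProperty.of_isPullback (P := @QuasiCompact)
        ((IsPullback.of_hasPullback uj uj).map (Over.forget _)).flip (show QuasiCompact uj.left from inferInstance)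
    infer_instance
  haveI hK2 : QuasiSeparated (Limits.pullback uj uj).hom := by
    rw [← Over.w (Limits.pullback.fst uj uj)]
    haveI : QuasiSeparated (Limits.pullback.fst uj uj).left :=
      MorphismProperty.of_isPullback (P := @QuasiSeparated)
        ((IsPullback.of_hasPullback uj uj).map (Over.forget _)).flip (show QuasiSeparated uj.left from inferInstance)
    infer_instance
  obtain ⟨a, ha⟩ : ∃ a : Gj ⊗ Hj ⟶ Gj, a = fst Gj Hj * (snd Gj Hj ≫ uj) := ⟨_, rfl⟩
  obtain ⟨b, hb⟩ : ∃ b : Gj ⊗ Hj ⟶ Gj, b = (snd Gj Hj ≫ uj) * fst Gj Hj := ⟨_, rfl⟩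
  obtain ⟨cj, hcj⟩ : ∃ cj : Gj ⊗ Hj ⟶ Gj, cj = fst Gj Hj * (snd Gj Hj ≫ uj) * (fst Gj Hj)⁻¹ := ⟨_, rfl⟩
  have hmono : ∀ {S' : Scheme.{u}} (σ : S' ⟶ D.obj j), Mono ((Over.pullback σ).map uj) ↔
      (Over.pullback σ).map (Limits.pullback.fst uj uj) = (Over.pullback σ).map (Limits.pullback.snd uj uj) := by
    intro S' σ
    haveI : (Over.pullback σ).IsRightAdjoint := (Over.mapPullbackAdj σ).isRightAdjoint
    have sq := (IsPullback.of_hasPullback uj uj).map (Over.pullback σ)
    refine ⟨fun h => ?_, fun h => ⟨fun x y hxy => ?_⟩⟩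
    · rw [← cancel_mono ((Over.pullback σ).map uj)]; exact sq.w
    · have h1 := congrArg (sq.lift x y hxy ≫ ·) h
      simp only [sq.lift_fst, sq.lift_snd] at h1
      exact h1
  have hmap : ∀ {S' : Scheme.{u}} (σ : S' ⟶ D.obj j) (T : Over S') (g : T ⟶ Red.bc σ Gj) (n : T ⟶ Red.bc σ Hj),
      ∃ l : T ⟶ (Over.pullback σ).obj (Gj ⊗ Hj), l ≫ (Over.pullback σ).map (fst Gj Hj) = g ∧
        l ≫ (Over.pullback σ).map (snd Gj Hj) = n := by
    intro S' σ T g n
    refine ⟨lift g n ≫ Functor.LaxMonoidal.μ (Over.pullback σ) Gj Hj, ?_, ?_⟩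
    · rw [Category.assoc, Functor.Monoidal.μ_fst, lift_fst]
    · rw [Category.assoc, Functor.Monoidal.μ_snd, lift_snd]
  have hcen : ∀ {S' : Scheme.{u}} (σ : S' ⟶ D.obj j),
      (∀ (T : Over S') (g : T ⟶ Red.bc σ Gj) (n : T ⟶ Red.bc σ Hj),
        g * (n ≫ (Over.pullback σ).map uj) = (n ≫ (Over.pullback σ).map uj) * g) ↔
      (Over.pullback σ).map a = (Over.pullback σ).map b := by
    intro S' σ
    refine ⟨fun h => ?_, fun h T g n => ?_⟩
    · have h1 := h _ ((Over.pullback σ).map (fst Gj Hj)) ((Over.pullback σ).map (snd Gj Hj))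
      rw [ha, hb, Functor.map_mul, Functor.map_mul, Functor.map_comp]
      exact h1
    · obtain ⟨l, hl1, hl2⟩ := hmap σ T g n
      have h1 := congrArg (l ≫ ·) h
      simp only [ha, hb, Functor.map_mul, Functor.map_comp, MonObj.comp_mul] at h1
      rwa [← Category.assoc, hl1, hl2] at h1
  have hnor : ∀ {S' : Scheme.{u}} (σ : S' ⟶ D.obj j), AlgGrp.IsNormalHom ((Over.pullback σ).map uj) ↔
      ∃ w : (Over.pullback σ).obj (Gj ⊗ Hj) ⟶ (Over.pullback σ).obj Hj,
        w ≫ (Over.pullback σ).map uj = (Over.pullback σ).map cj := by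
    intro S' σ
    refine ⟨fun h => ?_, fun ⟨w, hw⟩ T g n => ?_⟩
    · obtain ⟨w, hw⟩ := h _ ((Over.pullback σ).map (fst Gj Hj)) ((Over.pullback σ).map (snd Gj Hj))
      refine ⟨w, ?_⟩
      rw [hcj, Functor.map_mul, Functor.map_mul, Functor.map_inv', Functor.map_comp]
      exact hw.symm
    · obtain ⟨l, hl1, hl2⟩ := hmap σ T g n
      refine ⟨l ≫ w, ?_⟩
      rw [Category.assoc, hw, hcj, Functor.map_mul, Functor.map_mul, Functor.map_inv', Functor.map_comp]
      simp only [MonObj.comp_mul, GrpObj.comp_inv]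
      rw [← Category.assoc, hl1, hl2]
  -- equalities descend and propagate
  have heq : ∀ {P : Over (D.obj j)} [QuasiCompact P.hom] [QuasiSeparated P.hom] (x y : P ⟶ Gj),
      (Over.pullback (c.π.app j)).map x = (Over.pullback (c.π.app j)).map y →
      ∃ (i : I) (f : i ⟶ j), (Over.pullback (D.map f)).map x = (Over.pullback (D.map f)).map y :=
    fun x y h => GrpLimLib.exists_map_eq D hc x y h
  have hpush : ∀ {P Q : Over (D.obj j)} (x y : P ⟶ Q) {i i' : I} (f : i ⟶ j) (g : i' ⟶ i),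
      (Over.pullback (D.map f)).map x = (Over.pullback (D.map f)).map y →
      (Over.pullback (D.map (g ≫ f))).map x = (Over.pullback (D.map (g ≫ f))).map y :=
    fun x y i i' f g h => GrpLimLib.map_map_eq (D.map f) (D.map g) _ (D.map_comp g f).symm h
  have hlim : ∀ {P Q : Over (D.obj j)} (x y : P ⟶ Q) {i : I} (f : i ⟶ j),
      (Over.pullback (D.map f)).map x = (Over.pullback (D.map f)).map y →
      (Over.pullback (c.π.app j)).map x = (Over.pullback (c.π.app j)).map y :=
    fun x y i f h => GrpLimLib.map_map_eq (D.map f) (c.π.app i) _ (c.w f) h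
  have hwpush : ∀ {S₁ S₂ : Scheme.{u}} (σ : S₁ ⟶ D.obj j) (τ : S₂ ⟶ S₁) (ρ : S₂ ⟶ D.obj j), τ ≫ σ = ρ →
      (∃ w, w ≫ (Over.pullback σ).map uj = (Over.pullback σ).map cj) →
      ∃ w, w ≫ (Over.pullback ρ).map uj = (Over.pullback ρ).map cj := by
    rintro S₁ S₂ σ τ ρ e ⟨w, hw⟩
    refine ⟨(GrpLimLib.cmp e _).inv ≫ (Over.pullback τ).map w ≫ (GrpLimLib.cmp e _).hom, ?_⟩
    rw [Category.assoc, Category.assoc, ← GrpLimLib.cmp_natural e uj, ← Functor.map_comp_assoc, hw,
      GrpLimLib.cmp_natural e cj, Iso.inv_hom_id_assoc]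
  have hmonoD : ∀ (h : Mono ((Over.pullback (c.π.app j)).map uj)), ∃ (i : I) (f : i ⟶ j),
      (Over.pullback (D.map f)).map (Limits.pullback.fst uj uj) =
        (Over.pullback (D.map f)).map (Limits.pullback.snd uj uj) := fun h =>
    GrpLimLib.exists_map_eq D hc _ _ ((hmono _).1 h)
  refine ⟨⟨?_, ?_⟩, ⟨?_, ?_⟩⟩
  · rintro ⟨hm, hn⟩
    obtain ⟨i₁, f₁, e₁⟩ := hmonoD hm
    obtain ⟨w, hw⟩ := (hnor _).1 hn
    obtain ⟨i₂, f₂, w₂, hw₂⟩ := GrpLimLib.exists_map_fst_eq D hc w
    haveI : QuasiCompact (Red.bc (D.map f₂) (Gj ⊗ Hj)).hom := MorphismProperty.pullback_snd _ _ hGH1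
    haveI : QuasiSeparated (Red.bc (D.map f₂) (Gj ⊗ Hj)).hom := MorphismProperty.pullback_snd _ _ hGH2
    haveI : LocallyOfFiniteType (Red.bc (D.map f₂) Gj).hom := MorphismProperty.pullback_snd _ _ inferInstance
    obtain ⟨i₃, g₃, e₃⟩ := GrpLimLib.exists_map_eq D hc (w₂ ≫ (Over.pullback (D.map f₂)).map uj)
      ((Over.pullback (D.map f₂)).map cj) (by
        rw [← cancel_mono (GrpLimLib.cmp (c.w f₂) Gj).hom, Functor.map_comp, Category.assoc,
          GrpLimLib.cmp_natural, hw₂, GrpLimLib.cmp_natural]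
        simp only [Category.assoc, Iso.inv_hom_id_assoc]
        exact congrArg (_ ≫ ·) hw)
    have e₃' : ∃ w', w' ≫ (Over.pullback (D.map (g₃ ≫ f₂))).map uj = (Over.pullback (D.map (g₃ ≫ f₂))).map cj := by
      have e := (D.map_comp g₃ f₂).symm
      refine ⟨(GrpLimLib.cmp e _).inv ≫ (Over.pullback (D.map g₃)).map w₂ ≫ (GrpLimLib.cmp e _).hom, ?_⟩
      rw [Category.assoc, Category.assoc, ← GrpLimLib.cmp_natural e uj, ← Functor.map_comp_assoc, e₃,
        GrpLimLib.cmp_natural e cj, Iso.inv_hom_id_assoc]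
    obtain ⟨k, p, q, hpq⟩ := IsCofiltered.cospan f₁ (g₃ ≫ f₂)
    refine ⟨k, p ≫ f₁, (hmono _).2 (hpush _ _ f₁ p e₁), (hnor _).2 ?_⟩
    rw [hpq]
    exact hwpush _ (D.map q) _ (D.map_comp q _).symm e₃'
  · rintro ⟨i, f, hm, hn⟩
    exact ⟨(hmono _).2 (hlim _ _ f ((hmono _).1 hm)), (hnor _).2 (hwpush _ (c.π.app i) _ (c.w f) ((hnor _).1 hn))⟩
  · rintro ⟨hm, hn⟩
    obtain ⟨i₁, f₁, e₁⟩ := hmonoD hm
    obtain ⟨i₂, f₂, e₂⟩ := heq a b ((hcen _).1 hn)
    obtain ⟨k, p, q, hpq⟩ := IsCofiltered.cospan f₁ f₂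
    refine ⟨k, p ≫ f₁, (hmono _).2 (hpush _ _ f₁ p e₁), (hcen _).2 ?_⟩
    rw [hpq]
    exact hpush _ _ f₂ q e₂
  · rintro ⟨i, f, hm, hn⟩
    exact ⟨(hmono _).2 (hlim _ _ f ((hmono _).1 hm)), (hcen _).2 (hlim _ _ f ((hcen _).1 hn))⟩


end Groth.Agent.S6088
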