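import Groth.Statements.S6092
import Groth.Agent.GrpLimLib.Descend
import Groth.Agent.LimSm.Cover
import Groth.Agent.LimSm.Flat
import Groth.Agent.ConsPropLib.NoethApprox
import Groth.Agent.ConsPropLib.Cores
-- import your own Groth.Agent.* helpers here

set_option autoImplicit false
set_option backward.isDefEq.respectTransparency false
set_option maxHeartbeats 1000000
set_option linter.style.haveILetI false
universe u
open CategoryTheory CategoryTheory.Limits MonoidalCategory CartesianMonoidalCategory MonObj GrpObj AlgebraicGeometry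
open SGA3

namespace Groth.Agent.S6092

/-- Let S be the limit of a cofiltered system (S_i) of quasi-compact quasi-separated schemes with affine
transition morphisms, j an index, G_j an S_j-group scheme and X_j an S_j-scheme with an action of
G_j, both of finite presentation over S_j. For a base change G, X (with the base-changed action) say
that X is a G-torsor for the fppf topology when (g, x) ↦ (g · x, x) is an isomorphism G × X → X × X
and the structure morphism of X is covering for the fppf topology: some faithfully flat morphism of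
finite presentation Z → (base) factors through X. Then X_j ×_{S_j} S is a torsor under G_j ×_{S_j} S
if and only if there is an index i over j such that X_j ×_{S_j} S_i is a torsor under G_j ×_{S_j}
S_i. (The published statement also treats homogeneous spaces, where (g, x) ↦ (g · x, x) is only
required to be an fppf covering; that case is not stated. The published setting takes all S_i affine
over a fixed quasi-compact quasi-separated S_0.) -/
theorem result {I : Type u} [SmallCategory I] [IsCofiltered I]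
    (D : I ⥤ Scheme.{u}) (c : Limits.Cone D) (hc : Limits.IsLimit c)
    [∀ (i i' : I) (f : i ⟶ i'), IsAffineHom (D.map f)] [∀ i, CompactSpace (D.obj i)] [∀ i, QuasiSeparatedSpace (D.obj i)]
    (j : I) (Gj Xj : Over (D.obj j)) [GrpObj Gj] (act : AlgGrp.Action Gj Xj)
    [LocallyOfFinitePresentation Gj.hom] [QuasiCompact Gj.hom] [QuasiSeparated Gj.hom]
    [LocallyOfFinitePresentation Xj.hom] [QuasiCompact Xj.hom] [QuasiSeparated Xj.hom] :
    (IsIso (lift (Functor.LaxMonoidal.μ (Over.pullback (c.π.app j)) Gj Xj ≫ (Over.pullback (c.π.app j)).map act.act) (snd (Red.bc (c.π.app j) Gj) (Red.bc (c.π.app j) Xj))) ∧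
        ∃ (Z : Scheme.{u}) (v : Z ⟶ c.pt) (w : Z ⟶ (Red.bc (c.π.app j) Xj).left), w ≫ (Red.bc (c.π.app j) Xj).hom = v ∧
          Flat v ∧ Surjective v ∧ LocallyOfFinitePresentation v ∧ QuasiCompact v ∧ QuasiSeparated v) ↔
    ∃ (i : I) (f : i ⟶ j), (IsIso (lift (Functor.LaxMonoidal.μ (Over.pullback (D.map f)) Gj Xj ≫ (Over.pullback (D.map f)).map act.act) (snd (Red.bc (D.map f) Gj) (Red.bc (D.map f) Xj))) ∧
        ∃ (Z : Scheme.{u}) (v : Z ⟶ (D.obj i)) (w : Z ⟶ (Red.bc (D.map f) Xj).left), w ≫ (Red.bc (D.map f) Xj).hom = v ∧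
          Flat v ∧ Surjective v ∧ LocallyOfFinitePresentation v ∧ QuasiCompact v ∧ QuasiSeparated v) := by

  haveI hqcT : ∀ {X Y : Over (D.obj j)} [QuasiCompact X.hom] [QuasiCompact Y.hom], QuasiCompact (X ⊗ Y).hom :=
    fun {X Y} _ _ => inferInstanceAs (QuasiCompact (Limits.pullback.fst X.hom Y.hom ≫ X.hom))
  haveI hqsT : ∀ {X Y : Over (D.obj j)} [QuasiSeparated X.hom] [QuasiSeparated Y.hom], QuasiSeparated (X ⊗ Y).hom :=
    fun {X Y} _ _ => inferInstanceAs (QuasiSeparated (Limits.pullback.fst X.hom Y.hom ≫ X.hom))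
  haveI hfpT : ∀ {X Y : Over (D.obj j)} [LocallyOfFinitePresentation X.hom] [LocallyOfFinitePresentation Y.hom],
      LocallyOfFinitePresentation (X ⊗ Y).hom :=
    fun {X Y} _ _ => inferInstanceAs (LocallyOfFinitePresentation (Limits.pullback.fst X.hom Y.hom ≫ X.hom))
  obtain ⟨φ, hφ⟩ : ∃ φ : Gj ⊗ Xj ⟶ Xj ⊗ Xj, φ = lift act.act (snd Gj Xj) := ⟨_, rfl⟩
  have hiso : ∀ {S' : Scheme.{u}} (σ : S' ⟶ D.obj j),
      IsIso (lift (Functor.LaxMonoidal.μ (Over.pullback σ) Gj Xj ≫ (Over.pullback σ).map act.act)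
        (snd (Red.bc σ Gj) (Red.bc σ Xj))) ↔ IsIso ((Over.pullback σ).map φ) := by
    intro S' σ
    have e : lift (Functor.LaxMonoidal.μ (Over.pullback σ) Gj Xj ≫ (Over.pullback σ).map act.act)
        (snd (Red.bc σ Gj) (Red.bc σ Xj)) = (Functor.Monoidal.μIso (Over.pullback σ) Gj Xj).hom ≫
          (Over.pullback σ).map φ ≫ (Functor.Monoidal.μIso (Over.pullback σ) Xj Xj).inv := by
      apply CartesianMonoidalCategory.hom_ext
      · simp only [lift_fst, Functor.Monoidal.μIso_hom, Functor.Monoidal.μIso_inv, Category.assoc]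
        erw [Functor.OplaxMonoidal.δ_fst]
        rw [← Functor.map_comp, hφ, lift_fst]
      · simp only [lift_snd, Functor.Monoidal.μIso_hom, Functor.Monoidal.μIso_inv, Category.assoc]
        erw [Functor.OplaxMonoidal.δ_snd]
        rw [← Functor.map_comp, hφ, lift_snd, Functor.Monoidal.μ_snd]
    rw [e, isIso_comp_left_iff, isIso_comp_right_iff]
  -- pushing the two conditions to a later base
  have hpushI : ∀ {S₁ S₂ : Scheme.{u}} (σ : S₁ ⟶ D.obj j) (τ : S₂ ⟶ S₁) (ρ : S₂ ⟶ D.obj j), τ ≫ σ = ρ →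
      IsIso ((Over.pullback σ).map φ) → IsIso ((Over.pullback ρ).map φ) := by
    intro S₁ S₂ σ τ ρ e h
    haveI := h
    haveI : IsIso ((GrpLimLib.cmp e (Gj ⊗ Xj)).hom ≫ (Over.pullback ρ).map φ) := by
      rw [← GrpLimLib.cmp_natural]; infer_instance
    exact IsIso.of_isIso_comp_left (GrpLimLib.cmp e (Gj ⊗ Xj)).hom _
  have hpushC : ∀ {S₁ S₂ : Scheme.{u}} (σ : S₁ ⟶ D.obj j) (τ : S₂ ⟶ S₁) (ρ : S₂ ⟶ D.obj j), τ ≫ σ = ρ →
      (∃ (Z : Scheme.{u}) (v : Z ⟶ S₁) (w : Z ⟶ (Red.bc σ Xj).left), w ≫ (Red.bc σ Xj).hom = v ∧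
          Flat v ∧ Surjective v ∧ LocallyOfFinitePresentation v ∧ QuasiCompact v ∧ QuasiSeparated v) →
      ∃ (Z : Scheme.{u}) (v : Z ⟶ S₂) (w : Z ⟶ (Red.bc ρ Xj).left), w ≫ (Red.bc ρ Xj).hom = v ∧
          Flat v ∧ Surjective v ∧ LocallyOfFinitePresentation v ∧ QuasiCompact v ∧ QuasiSeparated v := by
    rintro S₁ S₂ σ τ ρ e ⟨Z, v, w, hw, h1, h2, h3, h4, h5⟩
    let wv : Over.mk v ⟶ Red.bc σ Xj := Over.homMk w hw
    exact ⟨_, Limits.pullback.snd v τ, ((Over.pullback τ).map wv ≫ (GrpLimLib.cmp e Xj).hom).left, Over.w _,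
      MorphismProperty.pullback_snd _ _ h1, MorphismProperty.pullback_snd _ _ h2,
      MorphismProperty.pullback_snd _ _ h3, MorphismProperty.pullback_snd _ _ h4,
      MorphismProperty.pullback_snd _ _ h5⟩
  constructor
  · rintro ⟨hI, Z, v, w, hw, h1, h2, h3, h4, h5⟩
    haveI := (hiso _).1 hI
    haveI := h1; haveI := h2; haveI := h3; haveI := h4; haveI := h5
    -- the inverse descends
    obtain ⟨i₁, f₁, ψ, hψ⟩ := GrpLimLib.exists_map_fst_eq D hc (P := Xj ⊗ Xj) (Q := Gj ⊗ Xj)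
      (inv ((Over.pullback (c.π.app j)).map φ))
    haveI : QuasiCompact (Red.bc (D.map f₁) (Gj ⊗ Xj)).hom := MorphismProperty.pullback_snd _ _ hqcT
    haveI : QuasiSeparated (Red.bc (D.map f₁) (Gj ⊗ Xj)).hom := MorphismProperty.pullback_snd _ _ hqsT
    haveI : QuasiCompact (Red.bc (D.map f₁) (Xj ⊗ Xj)).hom := MorphismProperty.pullback_snd _ _ hqcT
    haveI : QuasiSeparated (Red.bc (D.map f₁) (Xj ⊗ Xj)).hom := MorphismProperty.pullback_snd _ _ hqsT
    haveI : LocallyOfFiniteType (Red.bc (D.map f₁) (Gj ⊗ Xj)).hom :=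
      MorphismProperty.pullback_snd _ _ (show LocallyOfFiniteType (Gj ⊗ Xj).hom from inferInstance)
    haveI : LocallyOfFiniteType (Red.bc (D.map f₁) (Xj ⊗ Xj)).hom :=
      MorphismProperty.pullback_snd _ _ (show LocallyOfFiniteType (Xj ⊗ Xj).hom from inferInstance)
    have hl1 : (Over.pullback (c.π.app i₁)).map ((Over.pullback (D.map f₁)).map φ ≫ ψ) =
        (Over.pullback (c.π.app i₁)).map (𝟙 _) := by
      rw [← cancel_mono (GrpLimLib.cmp (c.w f₁) _).hom, Functor.map_comp, Category.assoc, hψ]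
      simp only [Category.assoc, Iso.inv_hom_id, Category.comp_id]
      rw [reassoc_of% (GrpLimLib.cmp_natural (c.w f₁) φ), IsIso.hom_inv_id, Category.comp_id,
        CategoryTheory.Functor.map_id, Category.id_comp]
    have hl2 : (Over.pullback (c.π.app i₁)).map (ψ ≫ (Over.pullback (D.map f₁)).map φ) =
        (Over.pullback (c.π.app i₁)).map (𝟙 _) := by
      rw [← cancel_mono (GrpLimLib.cmp (c.w f₁) _).hom, Functor.map_comp, Category.assoc,
        GrpLimLib.cmp_natural, hψ]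
      simp only [Category.assoc, Iso.inv_hom_id_assoc, IsIso.inv_hom_id, Category.comp_id]
      rw [CategoryTheory.Functor.map_id, Category.id_comp]
    obtain ⟨i₂, g₂, e₂⟩ := GrpLimLib.exists_map_eq D hc _ _ hl1
    obtain ⟨i₃, g₃, e₃⟩ := GrpLimLib.exists_map_eq D hc _ _ hl2
    obtain ⟨i₄, p₂, p₃, hp⟩ := IsCofiltered.cospan g₂ g₃
    have hI₄ : IsIso ((Over.pullback (D.map (p₂ ≫ g₂))).map ((Over.pullback (D.map f₁)).map φ)) := by
      have a1 := GrpLimLib.map_map_eq (D.map g₂) (D.map p₂) _ (D.map_comp p₂ g₂).symm e₂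
      have a2 := GrpLimLib.map_map_eq (D.map g₃) (D.map p₃) _ (D.map_comp p₃ g₃).symm e₃
      rw [← hp] at a2
      rw [(Over.pullback (D.map (p₂ ≫ g₂))).map_comp, (Over.pullback (D.map (p₂ ≫ g₂))).map_id] at a1 a2
      exact ⟨⟨_, a1, a2⟩⟩
    obtain ⟨iI, fI, hIi⟩ : ∃ (i : I) (f : i ⟶ j), IsIso ((Over.pullback (D.map f)).map φ) := by
      refine ⟨i₄, (p₂ ≫ g₂) ≫ f₁, ?_⟩
      have e := (D.map_comp (p₂ ≫ g₂) f₁).symm
      haveI := hI₄
      haveI : IsIso ((GrpLimLib.cmp e (Gj ⊗ Xj)).hom ≫ (Over.pullback (D.map ((p₂ ≫ g₂) ≫ f₁))).map φ) := by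
        rw [← GrpLimLib.cmp_natural]; infer_instance
      exact IsIso.of_isIso_comp_left (GrpLimLib.cmp e (Gj ⊗ Xj)).hom _
    -- the cover descends
    obtain ⟨m, Zm, fm, gm, hm⟩ := ConsPropLib.hasModel hc v
    obtain ⟨o, a, b, -⟩ := IsCofilteredOrEmpty.cone_objs j m
    have hp := hm.pushed b
    haveI := hp.lfp; haveI := hp.qc; haveI := hp.qs
    let Zo : Over (D.obj o) := Over.mk (Limits.pullback.snd fm (D.map b))
    let Xo : Over (D.obj o) := Red.bc (D.map a) Xj
    haveI : LocallyOfFinitePresentation Xo.hom := MorphismProperty.pullback_snd _ _ inferInstance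
    haveI : QuasiCompact Zo.hom := hp.qc
    haveI : QuasiSeparated Zo.hom := hp.qs
    let u : Red.bc (c.π.app o) Zo ⟶ Red.bc (c.π.app o) Xo :=
      (Over.homMk hp.sq.isoPullback.inv hp.sq.isoPullback_inv_snd : Red.bc (c.π.app o) Zo ⟶ Over.mk v) ≫
        (Over.homMk w hw : Over.mk v ⟶ Red.bc (c.π.app j) Xj) ≫ (GrpLimLib.cmp (c.w a) Xj).inv
    obtain ⟨o₁, a₁, w₁, -⟩ := GrpLimLib.exists_map_fst_eq D hc u
    let Z₁ : Over (D.obj o₁) := Red.bc (D.map a₁) Zo
    haveI : QuasiCompact Z₁.hom := MorphismProperty.pullback_snd _ _ hp.qc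
    haveI : QuasiSeparated Z₁.hom := MorphismProperty.pullback_snd _ _ hp.qs
    have hZ₁fp : LocallyOfFinitePresentation Z₁.hom := MorphismProperty.pullback_snd _ _ hp.lfp
    haveI : ∀ {X Y : I} (f : X ⟶ Y), IsAffineHom (D.map f) := fun f => inferInstance
    have hsq : IsPullback (hp.push a₁) v Z₁.hom (c.π.app o₁) := (hp.pushed a₁).sq
    obtain ⟨k₁, q₁, hk₁⟩ := MorLib.Desc.descend D c hc o₁ (P := @Flat) (Q := @LocallyOfFinitePresentation)
      LimSm.core_flat Z₁.hom hZ₁fp (MorLib.Desc.of_two @Flat hsq (IsPullback.of_hasPullback _ _) h1)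
    obtain ⟨k₂, q₂, hk₂⟩ := MorLib.Desc.descend D c hc o₁ (P := @Surjective) (Q := @LocallyOfFinitePresentation)
      ConsPropLib.core_surjective Z₁.hom hZ₁fp
      (MorLib.Desc.of_two @Surjective hsq (IsPullback.of_hasPullback _ _) h2)
    obtain ⟨k, r₁, r₂, hr⟩ := IsCofiltered.cospan q₁ q₂
    have hC : ∃ (Z : Scheme.{u}) (v : Z ⟶ D.obj k) (w : Z ⟶ (Red.bc (D.map ((r₁ ≫ q₁) ≫ a₁ ≫ a)) Xj).left),
        w ≫ (Red.bc (D.map ((r₁ ≫ q₁) ≫ a₁ ≫ a)) Xj).hom = v ∧
          Flat v ∧ Surjective v ∧ LocallyOfFinitePresentation v ∧ QuasiCompact v ∧ QuasiSeparated v := by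
      let wk := (Over.pullback (D.map (r₁ ≫ q₁))).map (w₁ ≫ (GrpLimLib.cmp (D.map_comp a₁ a).symm Xj).hom) ≫
        (GrpLimLib.cmp (D.map_comp (r₁ ≫ q₁) (a₁ ≫ a)).symm Xj).hom
      refine ⟨_, Limits.pullback.snd Z₁.hom (D.map (r₁ ≫ q₁)), wk.left, Over.w wk, ?_, ?_,
        MorphismProperty.pullback_snd _ _ hZ₁fp, inferInstance, inferInstance⟩
      · exact MorLib.Desc.of_factor @Flat hk₁ (a := D.map r₁) (D.map_comp _ _).symm (IsPullback.of_hasPullback _ _)
      · exact MorLib.Desc.of_factor @Surjective hk₂ (a := D.map r₂) (by rw [← D.map_comp, hr])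
          (IsPullback.of_hasPullback _ _)
    obtain ⟨i, s₁, s₂, hs⟩ := IsCofiltered.cospan fI ((r₁ ≫ q₁) ≫ a₁ ≫ a)
    refine ⟨i, s₁ ≫ fI, (hiso _).2 (hpushI _ (D.map s₁) _ (D.map_comp _ _).symm hIi), ?_⟩
    rw [hs]
    exact hpushC _ (D.map s₂) _ (D.map_comp _ _).symm hC
  · rintro ⟨i, f, hI, hC⟩
    exact ⟨(hiso _).2 (hpushI _ (c.π.app i) _ (c.w f) ((hiso _).1 hI)), hpushC _ (c.π.app i) _ (c.w f) hC⟩


end Groth.Agent.S6092
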