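import Groth.Statements.S6108
import Groth.Agent.RootChartLib.OrderedHom

set_option autoImplicit false
open CategoryTheory MonoidalCategory CartesianMonoidalCategory MonObj GrpObj AlgebraicGeometry
universe u
open RedSub

set_option backward.isDefEq.respectTransparency false
set_option backward.isDefEq.respectTransparency.types false

namespace Groth.Agent.S6108

/-- Let G be a split reductive S-group (splitting D with root homomorphisms u_a, lattice M), fix a total
order on M compatible with addition, let a_1 < ⋯ < a_N be the positive roots enumerated increasingly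
by e, and let f_1, …, f_N : G_a ⟶ H be homomorphisms into an S-group scheme H. Let F be the map
u_{a_1}(x_1) ⋯ u_{a_N}(x_N) ↦ f_1(x_1) ⋯ f_N(x_N) on points of U = U_{a_1} ⋯ U_{a_N}. Then F is
multiplicative if and only if, for all i < j and all points a, c of G_a, F applied to the
coordinates of u_{a_j}(c) u_{a_i}(a) u_{a_j}(c)⁻¹ equals f_j(c) f_i(a) f_j(c)⁻¹. (The published
statement allows H to be any group functor over S; this row takes H to be a group scheme over S.) -/
theorem result {S : Scheme.{u}} {G H : Over S} [GrpObj G] [GrpObj H]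
    (D : Red.SplitRed G) [LinearOrder D.M] [IsOrderedAddMonoid D.M] {N : ℕ} (e : Fin N → D.idx)
    (he : Function.Injective e) (hrange : ∀ a : D.idx, a ∈ Set.range e ↔ 0 < D.P.root a)
    (hmono : StrictMono (fun k => D.P.root (e k))) (f : Fin N → (Red.Ga S ⟶ H)) (hf : ∀ k, IsMonHom (f k)) :
    (∀ (X : Over S) (x y z : Fin N → (X ⟶ Red.Ga S)),
      (List.ofFn (fun k => z k ≫ D.u (e k))).prod =
          (List.ofFn (fun k => x k ≫ D.u (e k))).prod * (List.ofFn (fun k => y k ≫ D.u (e k))).prod →
        (List.ofFn (fun k => z k ≫ f k)).prod =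
          (List.ofFn (fun k => x k ≫ f k)).prod * (List.ofFn (fun k => y k ≫ f k)).prod) ↔
    (∀ (X : Over S) (i j : Fin N), i < j → ∀ (a c : X ⟶ Red.Ga S) (z : Fin N → (X ⟶ Red.Ga S)),
      (List.ofFn (fun k => z k ≫ D.u (e k))).prod = (c ≫ D.u (e j)) * (a ≫ D.u (e i)) * (c ≫ D.u (e j))⁻¹ →
        (List.ofFn (fun k => z k ≫ f k)).prod = (c ≫ f j) * (a ≫ f i) * (c ≫ f j)⁻¹) := by
    open Groth.Agent.RootChartLib in
    constructor
    · intro h X i j hij a c z hz
      haveI := hf i
      haveI := hf j
      have key : ∀ (X : CategoryTheory.Over S), ∃ q : Fin N → ((X ⟶ Red.Ga S) →* (X ⟶ H)),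
          ∀ k x, q k x = x ≫ f k := fun X => ⟨fun k => haveI := hf k; MonoidHom.mk' (fun x => x ≫ f k) fun x y => MonObj.mul_comp x y (f k), fun _ _ => rfl⟩
      obtain ⟨q, hq⟩ := key X
      set P := ordProd (U := X ⟶ G) fun k => rootPtsHom D X (e k) with hP
      set Q := ordProd (U := X ⟶ H) q with hQ
      have hPQ : ∀ x y w, P w = P x * P y → Q w = Q x * Q y := fun x y w hw => by
        have := h X x y w hw
        simpa only [hQ, ordProd, hq] using this
      have e1 : ∀ k b, P (Function.update (fun _ => 1) k b) = b ≫ D.u (e k) := fun k b => ordProd_single _ k b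
      have e2 : ∀ k b, Q (Function.update (fun _ => 1) k b) = b ≫ f k := fun k b => (ordProd_single q k b).trans (hq k b)
      obtain ⟨w, -, hw⟩ := ordProd_roots_mul D e he hrange hmono X 0 (Function.update (fun _ => 1) j c)
        (Function.update (fun _ => 1) i a) (fun k hk => absurd hk (Nat.not_lt_zero _)) (fun k hk => absurd hk (Nat.not_lt_zero _))
      have hzP : P z = (c ≫ D.u (e j)) * (a ≫ D.u (e i)) * (c ≫ D.u (e j))⁻¹ := hz
      have hwP : P w = P z * P (Function.update (fun _ => 1) j c) :=
        hw.trans (by rw [ordProd_single, ordProd_single, hzP, e1, inv_mul_cancel_right]; rfl)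
      have h1 := hPQ _ _ _ hw
      have h2 := hPQ _ _ _ hwP
      rw [h1, e2, e2] at h2
      show (List.ofFn (fun k => z k ≫ f k)).prod = _
      have hQz : Q z = (List.ofFn (fun k => z k ≫ f k)).prod := by simp only [hQ, ordProd, hq]
      rw [← hQz, h2, mul_inv_cancel_right]
    · intro h X x y z hz
      let q : Fin N → ((X ⟶ Red.Ga S) →* (X ⟶ H)) :=
        fun k => haveI := hf k; MonoidHom.mk' (fun x => x ≫ f k) fun x y => MonObj.mul_comp x y (f k)
      exact ordProd_hom (U := X ⟶ G) (K := X ⟶ H) (A := X ⟶ Red.Ga S) (q := q)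
        (ordProd_roots_injective D e he hrange X)
        (ordProd_roots_mul D e he hrange hmono X)
        (ordProd_roots_conj D e he hrange hmono X)
        (fun i j hij _ a c w hw => by
          simp only [ordProd, rootPtsHom, q, MonoidHom.mk'_apply] at hw ⊢
          exact h X i j hij a c w hw) N 0 (by omega) x y z
        (fun k hk => absurd hk (Nat.not_lt_zero _)) (fun k hk => absurd hk (Nat.not_lt_zero _)) hz

end Groth.Agent.S6108
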