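import Groth.Statements.S6174
import Groth.Agent.SiteBase.CechInst

set_option autoImplicit false
universe u
open CategoryTheory
open CohSite

namespace Groth.Agent.S6174

section Aux

open CategoryTheory CategoryTheory.Limits Opposite Abelian
open Groth.Agent.SiteBase

variable {C : Type u} [SmallCategory C] [HasPullbacks C] {X : C} {ι : Type u} (Y : ι → Over X)

/-- The sieve generated by the family. -/
abbrev sv : Sieve X := Sieve.ofArrows (fun i => (Y i).left) (fun i => (Y i).hom)

/-- The free presheaf on the sieve. -/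
noncomputable abbrev freeP : Cᵒᵖ ⥤ AddCommGrpCat.{u} := (sv Y).functor ⋙ AddCommGrpCat.free

/-- The generator attached to an arrow of the sieve. -/
noncomputable abbrev gen {V : C} (k : (sv Y).functor.obj (op V)) : (freeP Y).obj (op V) :=
  FreeAbelianGroup.of k

/-- The member of the sieve given by a member of the family. -/
abbrev mem (i : ι) : (sv Y).functor.obj (op (Y i).left) :=
  ⟨(Y i).hom, Sieve.ofArrows_mk _ _ i⟩

omit [HasPullbacks C] in
lemma exists_factor {V : Cᵒᵖ} (k : (sv Y).functor.obj V) :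
    ∃ i, ∃ a : V.unop ⟶ (Y i).left, a ≫ (Y i).hom = k.1 := by
  obtain ⟨k, Z, a, b, hb, hk⟩ := k
  cases hb with
  | mk i => exact ⟨i, a, hk⟩

variable (L : Sheaf (⊥ : GrothendieckTopology C) AddCommGrpCat.{u})
  (e : (presheafToSheaf (⊥ : GrothendieckTopology C) AddCommGrpCat.{u}).obj (freeP Y) ≅ L)
variable (F : Sheaf (⊥ : GrothendieckTopology C) AddCommGrpCat.{u})

/-- The presheaf map of a morphism out of `L`. -/
noncomputable def pmap (φ : L ⟶ F) : freeP Y ⟶ F.obj :=
  (sheafificationAdjunction (⊥ : GrothendieckTopology C) AddCommGrpCat.{u}).homEquiv (freeP Y) F (e.hom ≫ φ)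

lemma pmap_bijective : Function.Bijective (pmap Y L e F) :=
  (((sheafificationAdjunction (⊥ : GrothendieckTopology C) AddCommGrpCat.{u}).homEquiv
    (freeP Y) F).bijective).comp ((e.homCongr (Iso.refl F)).symm.bijective)

lemma pmap_comp {G : Sheaf (⊥ : GrothendieckTopology C) AddCommGrpCat.{u}} (g : F ⟶ G) (φ : L ⟶ F) :
    pmap Y L e G (φ ≫ g) = pmap Y L e F φ ≫ g.hom := by
  rw [pmap, ← Category.assoc, Adjunction.homEquiv_naturality_right]
  rfl

lemma pmap_add (φ ψ : L ⟶ F) : pmap Y L e F (φ + ψ) = pmap Y L e F φ + pmap Y L e F ψ := by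
  simp only [pmap, Preadditive.comp_add, Adjunction.homEquiv_unit]
  exact Preadditive.comp_add _ _ _ _ _ _

/-- The value at a member of the family. -/
noncomputable def ev (i : ι) : (L ⟶ F) →+ F.obj.obj (op (Y i).left) :=
  AddMonoidHom.mk' (fun φ => (pmap Y L e F φ).app _ (gen Y (mem Y i)))
    fun φ ψ => by rw [pmap_add]; rfl

/-- Morphisms out of `L` as Cech cochains of degree zero. -/
noncomputable def tHom :
    AddCommGrpCat.of (L ⟶ F) ⟶ (cechCx (Over.forget X) Y F).X 0 :=
  Pi.lift fun i : Fin 1 → ι => AddCommGrpCat.ofHom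
    (((F.obj.map (Pi.π (fun k => Y (i k)) 0).left.op).hom).comp (ev Y L e F (i 0)))

lemma comp0_tHom (φ : L ⟶ F) :
    comp0 Y ((Over.forget X).op ⋙ F.obj) ((tHom Y L e F) φ) = fun i => ev Y L e F i φ := by
  obtain ⟨x, hx⟩ := exists_comp0 Y ((Over.forget X).op ⋙ F.obj) (fun i => ev Y L e F i φ)
  rw [show (tHom Y L e F) φ = x from cev_ext Y _ fun i => by
    rw [cev_zero_eq Y _ x i, hx]
    exact ConcreteCategory.congr_hom (Pi.lift_π (fun i : Fin 1 → ι => AddCommGrpCat.ofHom
      (((F.obj.map (Pi.π (fun k => Y (i k)) 0).left.op).hom).comp (ev Y L e F (i 0)))) i) φ, hx]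

lemma pmap_gen {V : C} (φ : L ⟶ F) (i : ι) (a : V ⟶ (Y i).left) (k : (sv Y).functor.obj (op V))
    (hk : k.1 = a ≫ (Y i).hom) :
    (pmap Y L e F φ).app (op V) (gen Y k) = F.obj.map a.op (ev Y L e F i φ) := by
  refine Eq.trans ?_ (ConcreteCategory.congr_hom ((pmap Y L e F φ).naturality a.op) (gen Y (mem Y i)))
  refine congrArg ((pmap Y L e F φ).app (op V)) ?_
  refine Eq.trans ?_ (FreeAbelianGroup.map_of_apply _).symm
  exact congrArg FreeAbelianGroup.of (Subtype.ext hk)

lemma tHom_cocycle : tHom Y L e F ≫ (cechCx (Over.forget X) Y F).d 0 1 = 0 := by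
  refine AddCommGrpCat.hom_ext (AddMonoidHom.ext fun φ => ?_)
  refine (d_zero_eq_zero_iff Y _ ((tHom Y L e F) φ)).2 fun i => ?_
  rw [comp0_tHom]
  refine (pmap_gen Y L e F φ (i 0) (Pi.π (fun k => Y (i k)) 0).left
    ⟨(∏ᶜ fun k => Y (i k)).hom, _, (Pi.π (fun k => Y (i k)) 0).left, _, Presieve.ofArrows.mk (i 0),
      Over.w _⟩ (Over.w _).symm).symm.trans ?_
  exact pmap_gen Y L e F φ (i 1) (Pi.π (fun k => Y (i k)) 1).left _ (Over.w _).symm

/-- Degree zero classes. -/
noncomputable def tH0Hom : AddCommGrpCat.of (L ⟶ F) ⟶ (cechCx (Over.forget X) Y F).homology 0 :=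
  (cechCx (Over.forget X) Y F).liftCycles (tHom Y L e F) 1 (by simp) (tHom_cocycle Y L e F) ≫
    (cechCx (Over.forget X) Y F).homologyπ 0

lemma tH0_bijective : Function.Bijective (tH0Hom Y L e F) := by
  let K := cechCx (Over.forget X) Y F
  have : IsIso (K.homologyπ 0) := K.isIso_homologyπ _ 0 rfl (by simp)
  refine (ConcreteCategory.bijective_of_isIso (K.homologyπ 0)).comp ?_
  have hi : ∀ φ, K.iCycles 0 (K.liftCycles (tHom Y L e F) 1 (by simp) (tHom_cocycle Y L e F) φ) =
      tHom Y L e F φ := fun φ =>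
    ConcreteCategory.congr_hom (K.liftCycles_i (tHom Y L e F) 1 (by simp) (tHom_cocycle Y L e F)) φ
  constructor
  · intro φ ψ h
    have h' := congrArg (comp0 Y ((Over.forget X).op ⋙ F.obj)) ((hi φ).symm.trans ((congrArg _ h).trans (hi ψ)))
    rw [comp0_tHom, comp0_tHom] at h'
    refine (pmap_bijective Y L e F).1 ?_
    apply NatTrans.ext
    funext V
    refine AddCommGrpCat.hom_ext (FreeAbelianGroup.lift_ext _ _ ?_)
    intro (k : (sv Y).functor.obj V)
    obtain ⟨i, a, hk⟩ := exists_factor Y k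
    refine (pmap_gen Y L e F φ i a k hk.symm).trans (Eq.trans ?_ (pmap_gen Y L e F ψ i a k hk.symm).symm)
    exact congrArg _ (congrFun h' i)
  · intro w
    have hw := (d_zero_eq_zero_iff Y _ (K.iCycles 0 w)).1 (ConcreteCategory.congr_hom (K.iCycles_d 0 1) w)
    let t := comp0 Y ((Over.forget X).op ⋙ F.obj) (K.iCycles 0 w)
    have hdec : ∀ {V : Cᵒᵖ} (k : (sv Y).functor.obj V),
        ∃ i, ∃ a : V.unop ⟶ (Y i).left, a ≫ (Y i).hom = k.1 := fun k => exists_factor Y k
    choose ii aa haa using @hdec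
    have hwd : ∀ {V : C} (i j : ι) (a : V ⟶ (Y i).left) (b : V ⟶ (Y j).left),
        a ≫ (Y i).hom = b ≫ (Y j).hom → F.obj.map a.op (t i) = F.obj.map b.op (t j) := by
      intro V i j a b hab
      obtain ⟨k, rfl, rfl⟩ := (ctxOver Y).fact ![i, j] a b hab
      exact (map_op_comp_apply F.obj k _ _).trans ((congrArg (F.obj.map k.op).hom (hw ![i, j])).trans
        (map_op_comp_apply F.obj k _ _).symm)
    let v : freeP Y ⟶ F.obj :=
      { app := fun V => AddCommGrpCat.ofHom
          (FreeAbelianGroup.lift fun k : (sv Y).functor.obj V => F.obj.map (aa k).op (t (ii k)))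
        naturality := fun V W f => AddCommGrpCat.hom_ext (FreeAbelianGroup.lift_ext _ _ (by
          intro (k : (sv Y).functor.obj V)
          show FreeAbelianGroup.lift _ (FreeAbelianGroup.map _ (FreeAbelianGroup.of k)) =
            F.obj.map f (FreeAbelianGroup.lift _ (FreeAbelianGroup.of k))
          rw [FreeAbelianGroup.map_of_apply, FreeAbelianGroup.lift_apply_of,
            FreeAbelianGroup.lift_apply_of]
          refine (hwd _ (ii k) _ (f.unop ≫ aa k) ?_).trans (map_op_comp_apply F.obj f.unop (aa k) _)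
          rw [haa, Category.assoc, haa]
          rfl)) }
    obtain ⟨φ, hφ⟩ := (pmap_bijective Y L e F).2 v
    refine ⟨φ, (AddCommGrpCat.mono_iff_injective (K.iCycles 0)).1 inferInstance
      ((hi φ).trans (comp0_ext Y _ ?_))⟩
    rw [comp0_tHom]
    funext i
    show (pmap Y L e F φ).app _ (gen Y (mem Y i)) = t i
    rw [hφ]
    refine (FreeAbelianGroup.lift_apply_of _ _).trans ?_
    refine (hwd _ i _ (𝟙 _) (by rw [haa, Category.id_comp])).trans ?_
    simp

lemma tH0_natural {G : Sheaf (⊥ : GrothendieckTopology C) AddCommGrpCat.{u}} (g : F ⟶ G) (φ : L ⟶ F) :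
    HomologicalComplex.homologyMap
      ((cechComplexFunctor Y).map (Functor.whiskerLeft (Over.forget X).op g.hom)) 0
        (tH0Hom Y L e F φ) = tH0Hom Y L e G (φ ≫ g : L ⟶ G) := by
  let ψ : cechCx (Over.forget X) Y F ⟶ cechCx (Over.forget X) Y G :=
    (cechComplexFunctor Y).map (Functor.whiskerLeft (Over.forget X).op g.hom)
  refine (ConcreteCategory.congr_hom (HomologicalComplex.homologyπ_naturality ψ 0) _).trans ?_
  refine congrArg ((cechCx (Over.forget X) Y G).homologyπ 0) ?_
  refine (AddCommGrpCat.mono_iff_injective ((cechCx (Over.forget X) Y G).iCycles 0)).1 inferInstance ?_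
  refine (ConcreteCategory.congr_hom (HomologicalComplex.cyclesMap_i ψ 0) _).trans ?_
  refine (congrArg (ψ.f 0) (ConcreteCategory.congr_hom ((cechCx (Over.forget X) Y F).liftCycles_i
    (tHom Y L e F) 1 (by simp) (tHom_cocycle Y L e F)) φ)).trans ?_
  refine Eq.trans ?_ (ConcreteCategory.congr_hom ((cechCx (Over.forget X) Y G).liftCycles_i
    (tHom Y L e G) 1 (by simp) (tHom_cocycle Y L e G)) (φ ≫ g : L ⟶ G)).symm
  refine comp0_ext Y _ (funext fun i => ?_)
  refine (comp0_map Y _ _ _ i).trans ?_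
  refine (congrArg _ (congrFun (comp0_tHom Y L e F φ) i)).trans ?_
  refine Eq.trans ?_ (congrFun (comp0_tHom Y L e G (φ ≫ g)) i).symm
  show g.hom.app _ ((pmap Y L e F φ).app _ _) = (pmap Y L e G (φ ≫ g)).app _ _
  rw [pmap_comp]
  rfl

omit [HasPullbacks C] in
lemma sections_surjective {E : ShortComplex (Sheaf (⊥ : GrothendieckTopology C) AddCommGrpCat.{u})}
    (hE : E.ShortExact) (W : C) : Function.Surjective (E.g.hom.app (op W)) := fun s => by
  have := hE.epi_g
  have : Sheaf.IsLocallySurjective E.g := (Sheaf.isLocallySurjective_iff_epi' _ _).2 this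
  obtain ⟨t, ht⟩ : (Presheaf.imageSieve E.g.hom s).arrows (𝟙 W) := by
    have h := Presheaf.imageSieve_mem (⊥ : GrothendieckTopology C) E.g.hom (U := op W) s
    rw [GrothendieckTopology.bot_covering.1 h]
    trivial
  exact ⟨t, ht.trans (by simp)⟩

variable [HasExt.{u} (Sheaf (⊥ : GrothendieckTopology C) AddCommGrpCat.{u})]

include e in
theorem nonempty_cech_addEquiv (p : ℕ) :
    ∀ F : Sheaf (⊥ : GrothendieckTopology C) AddCommGrpCat.{u},
      Nonempty ((cechCx (Over.forget X) Y F).homology p ≃+ Ext L F p) := by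
  induction p with
  | zero => exact fun F => ⟨(AddEquiv.ofBijective (tH0Hom Y L e F).hom (tH0_bijective Y L e F)).symm.trans
      Ext.addEquiv₀.symm⟩
  | succ p ih =>
    suffices H : ∀ E : ShortComplex (Sheaf (⊥ : GrothendieckTopology C) AddCommGrpCat.{u}),
        E.ShortExact → Injective E.X₂ →
          Nonempty ((cechCx (Over.forget X) Y E.X₁).homology (p + 1) ≃+ Ext L E.X₁ (p + 1)) from
      fun F => injectiveSES_X₁ F ▸ H (injectiveSES F) (injectiveSES_shortExact F) inferInstance
    intro E hE hI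
    have hS : (cechSES (Over.forget X) Y E).ShortExact :=
      cechSES_shortExact _ Y hE fun n i => sections_surjective hE _
    have hex : ∀ p, (cechCx (Over.forget X) Y E.X₂).ExactAt (p + 1) := injAcyclic_over Y E.X₂ hI
    have hsub : ∀ q, Subsingleton (Ext L E.X₂ (q + 1)) := fun q => Ext.subsingleton_of_injective L E.X₂ q
    rcases p with _ | p
    · let a : (L ⟶ E.X₃) →+ (cechCx (Over.forget X) Y E.X₁).homology 1 :=
        (hS.δ 0 1 rfl).hom.comp (tH0Hom Y L e E.X₃).hom
      let c : (L ⟶ E.X₃) →+ Ext L E.X₁ 1 :=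
        AddMonoidHom.mk' (fun φ => (Ext.mk₀ φ).comp hE.extClass (zero_add 1))
          (fun x y => by rw [Ext.mk₀_add, Ext.add_comp])
      have hepi : Function.Surjective (hS.δ 0 1 rfl).hom :=
        (AddCommGrpCat.epi_iff_surjective _).1 ((hS.homology_exact₁ 0 1 rfl).epi_f
          (((HomologicalComplex.exactAt_iff_isZero_homology _ _).1 (hex 0)).eq_of_tgt _ _))
      refine nonempty_addEquiv_of_surjective' a c (hepi.comp (tH0_bijective Y L e E.X₃).2)
        (fun z => ?_) fun φ => ?_
      · obtain ⟨y, hy⟩ := Ext.covariant_sequence_exact₁ L hE z ((hsub 0).elim _ _) (n₀ := 0) rfl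
        obtain ⟨φ, rfl⟩ := (Ext.mk₀_bijective _ _).2 y
        exact ⟨φ, hy⟩
      · constructor
        · intro h
          obtain ⟨w, hw⟩ := (ShortComplex.ab_exact_iff _).1 (hS.homology_exact₃ 0 1 rfl) _ h
          obtain ⟨t, rfl⟩ := (tH0_bijective Y L e E.X₂).2 w
          rw [show φ = t ≫ E.g from (tH0_bijective Y L e E.X₃).1 (hw.symm.trans (tH0_natural Y L e _ E.g t))]
          show (Ext.mk₀ (t ≫ E.g)).comp hE.extClass (zero_add 1) = 0
          rw [← Ext.mk₀_comp_mk₀, Ext.comp_assoc_of_second_deg_zero, hE.comp_extClass, Ext.comp_zero]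
        · intro h
          obtain ⟨y, hy⟩ := Ext.covariant_sequence_exact₃ L hE _ rfl h
          obtain ⟨t, rfl⟩ := (Ext.mk₀_bijective _ _).2 y
          rw [Ext.mk₀_comp_mk₀] at hy
          rw [← (Ext.mk₀_bijective _ _).1 hy]
          exact (congrArg (hS.δ 0 1 rfl).hom (tH0_natural Y L e _ E.g t).symm).trans
            (ConcreteCategory.congr_hom (hS.comp_δ 0 1 rfl) _)
    · obtain ⟨e₁⟩ := δ_bijective hS p hex
      obtain ⟨e₂⟩ := ih E.X₃
      have hb : Function.Bijective (hE.extClass.postcomp L rfl :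
          Ext L E.X₃ (p + 1) →+ Ext L E.X₁ (p + 1 + 1)) := by
        refine ⟨(injective_iff_map_eq_zero _).2 fun x hx => ?_, fun z =>
          Ext.covariant_sequence_exact₁ _ hE z ((hsub (p + 1)).elim _ _) rfl⟩
        obtain ⟨y, rfl⟩ := Ext.covariant_sequence_exact₃ _ hE x rfl hx
        rw [show y = 0 from (hsub p).elim _ _, Ext.zero_comp]
      exact ⟨e₁.addCommGroupIsoToAddEquiv.symm.trans (e₂.trans (AddEquiv.ofBijective _ hb))⟩

end Aux

open CategoryTheory.Limits in
/-- C a small category with fibre products; presheaves are the sheaves for the trivial topology: for a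
presheaf of abelian groups M, a family of arrows (U_i -> X) and the sieve R it generates, viewed as
a sub-presheaf of h_X, the Cech cohomology group H^q((U_i -> X), M) is isomorphic to H^q(R, M), the
q-th Ext group out of the free abelian presheaf on R. Existence of an isomorphism only (the source's
is canonical). -/
theorem result {C : Type u} [SmallCategory C] [HasPullbacks C]
    (M : Cᵒᵖ ⥤ AddCommGrpCat.{u}) {X : C} {ι : Type u} (Y : ι → Over X) (q : ℕ) :
    Nonempty (CohCx.cechH M Y q ≅ AddCommGrpCat.of (CohCx.HK (J := (⊥ : GrothendieckTopology C))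
      ⟨(Sieve.ofArrows (fun i => (Y i).left) (fun i => (Y i).hom)).functor, Presheaf.isSheaf_bot _⟩
      ⟨M, Presheaf.isSheaf_bot _⟩ q)) := by
  obtain ⟨e⟩ := nonempty_cech_addEquiv Y _ (Iso.refl _) q
    (⟨M, Presheaf.isSheaf_bot _⟩ : Sheaf (⊥ : GrothendieckTopology C) AddCommGrpCat.{u})
  exact ⟨e.toAddCommGrpIso⟩

end Groth.Agent.S6174
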