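import Groth.Statements.S6202
import Groth.Agent.PerfGen7.RelOpen

set_option autoImplicit false
universe u
open CategoryTheory CategoryTheory.Limits AlgebraicGeometry
attribute [local instance] HasDerivedCategory.standard
open KSix

namespace Groth.Agent.S6202

/-- Let f : X ⟶ Y be a morphism of schemes, n an integer and E a cochain complex of O_X-modules whose
class in D(O_X) is n-pseudo-coherent relative to f (chart form; in particular f is locally of finite
type). Then for every open U of X the termwise restriction E|_U is n-pseudo-coherent relative to U ⟶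
X ⟶ Y. -/
theorem result {X Y : Scheme.{u}} (f : X ⟶ Y) (n : ℤ) (E : CochainComplex X.Modules ℤ)
    (hE : DerSch.IsPseudoCoherentRel f n (DCoh.toD X E)) (U : X.Opens) :
    DerSch.IsPseudoCoherentRel (U.ι ≫ f) n (DCoh.toD (U : Scheme.{u}) ((DCoh.restrictCx U).obj E)) := by
  haveI := hE.1
  haveI : LocallyOfFiniteType (U.ι ≫ f) := inferInstance
  refine Groth.Agent.PerfGen7.isPseudoCoherentRel_iff.2 fun x => ?_
  obtain ⟨W₀, V, hxW, hg⟩ := Groth.Agent.PerfGen7.isPseudoCoherentRel_iff.1 hE x.1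
  obtain ⟨g, hg₁, hxg⟩ := hg.1.exists_basicOpen_le (V := U) ⟨x.1, x.2⟩ hxW
  have hW : IsAffineOpen (U.ι ⁻¹ᵁ X.basicOpen g) :=
    (hg.1.basicOpen g).preimage_of_isOpenImmersion U.ι (by rwa [Scheme.Opens.opensRange_ι])
  have he : U.ι ''ᵁ (U.ι ⁻¹ᵁ X.basicOpen g) = X.basicOpen g := by
    rw [Scheme.Hom.image_preimage_eq_opensRange_inf, Scheme.Opens.opensRange_ι, inf_eq_right]
    exact hg₁
  obtain ⟨_, hV, hle, n', φ, hφ, hp⟩ :=
    (Groth.Agent.PerfGen7.goodPair_image_iff U.ι (U.ι ≫ f) rfl (DCoh.toD X E) hW V).2 (by rw [he]; exact hg.basic g)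
  refine ⟨_, V, hxg, hW, hV, hle, n', φ, hφ, fun hi' => ?_⟩
  haveI := hi'
  exact (hp hi').of_iso ((Groth.Agent.PerfGen7.pushD _).mapIso ((Groth.Agent.KFlatLib.rho _).mapIso
    ((Groth.Agent.KFlatLib.rhoQ U.ι).app E)))

end Groth.Agent.S6202
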