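import Groth.Statements.S6207
import Groth.Agent.PerfGen7.RelUnit

set_option autoImplicit false
universe u
open CategoryTheory CategoryTheory.Limits AlgebraicGeometry
attribute [local instance] HasDerivedCategory.standard
open KSix

namespace Groth.Agent.S6207

/-- Suppose g : Y ⟶ Z is locally of finite type and pseudo-coherent (meaning O_Y, placed in degree 0, is
n-pseudo-coherent relative to g for each integer n). Fix an integer r and an object E of D(O_Y)
whose cohomology is bounded above. Then absolute r-pseudo-coherence of E on Y holds exactly when E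
is r-pseudo-coherent relative to g (chart form). -/
theorem result {Y Z : Scheme.{u}} (g : Y ⟶ Z)
    [LocallyOfFiniteType g] (hg : ∀ n : ℤ, DerSch.IsNPseudoCoherent g n) (r b : ℤ) (E : DCoh.D Y) [E.IsLE b] :
    DCoh.IsPseudoCoherentD r E ↔ DerSch.IsPseudoCoherentRel g r E := by
  rw [Groth.Agent.KFlatLib.isPseudoCoherentD_iff]
  have hpc : ∀ (U : Y.Opens) (V : Z.Opens) (_ : IsAffineOpen U) (_ : IsAffineOpen V) (h : U ≤ g ⁻¹ᵁ V) (n : ℕ)
      (φ : MvPolynomial (Fin n) Γ(Z, V) →+* Γ(Y, U)), DerSch.IsChart g U V h φ →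
      ∀ [IsClosedImmersion (Groth.Agent.PerfGen7.imm U φ)],
        Groth.Agent.PerfGen7.PCImm (Groth.Agent.PerfGen7.imm U φ) :=
    fun U V hU hV h n φ hφ _ => (Groth.Agent.PerfGen7.pcImm_iff_immPC_unit φ).1 fun k =>
      (Groth.Agent.PerfGen7.chartPC_iff hU φ hφ.1).1
        (Groth.Agent.PerfGen7.chartPC_of_rel (hg k) hU hV h φ hφ)
  constructor
  · intro hE
    refine Groth.Agent.PerfGen7.isPseudoCoherentRel_iff.2 fun x => ?_
    obtain ⟨U, V, hxU, hU, hV, h, n, φ, hφ, -⟩ := Groth.Agent.PerfGen7.isPseudoCoherentRel_iff.1 (hg 0) x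
    exact ⟨U, V, hxU, hU, hV, h, n, φ, hφ, fun hi => haveI := hi
      Groth.Agent.PerfGen7.locPC_pushD _ (hpc U V hU hV h n φ hφ) (hE.restrict U.ι)⟩
  · intro hE
    refine Groth.Agent.KFlatLib.LocPC.of_local fun x => ?_
    obtain ⟨U, V, hxU, hU, hV, h, n, φ, hφ, hp⟩ := Groth.Agent.PerfGen7.isPseudoCoherentRel_iff.1 hE x
    haveI := Groth.Agent.PerfGen7.isClosedImmersion_imm hU φ hφ.1
    exact ⟨_, U.ι, inferInstance, ⟨⟨x, hxU⟩, rfl⟩,
      (Groth.Agent.PerfGen7.locPC_pushD_iff _ (hpc U V hU hV h n φ hφ) _).1 (hp inferInstance)⟩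

end Groth.Agent.S6207
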