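import Groth.Statements.S6209
import Groth.Agent.PerfGen7.RelNPC
import Groth.Agent.PerfGen7.PCTower

set_option autoImplicit false
universe u
open CategoryTheory CategoryTheory.Limits AlgebraicGeometry
attribute [local instance] HasDerivedCategory.standard
open KSix

namespace Groth.Agent.S6209

/-- Let f : X ⟶ Y and g : Y ⟶ Z be locally of finite type, with f r-pseudo-coherent and g
s-pseudo-coherent (O_X, resp. O_Y, placed in degree 0 is r-, resp. s-pseudo-coherent relative to f,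
resp. g, in chart form). Then f ≫ g is max(r, s)-pseudo-coherent. -/
theorem result {X Y Z : Scheme.{u}} (f : X ⟶ Y) (g : Y ⟶ Z)
    [LocallyOfFiniteType f] [LocallyOfFiniteType g] (r s : ℤ)
    (hf : DerSch.IsNPseudoCoherent f r) (hg : DerSch.IsNPseudoCoherent g s) :
    DerSch.IsNPseudoCoherent (f ≫ g) (max r s) := by
  refine Groth.Agent.PerfGen7.isNPseudoCoherent_of_charts fun x => ?_
  obtain ⟨W, hW, hxW, -⟩ := exists_isAffineOpen_mem_and_subset (x := g (f x)) (U := (⊤ : Z.Opens)) trivial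
  obtain ⟨V, hV, hxV, hVW⟩ := exists_isAffineOpen_mem_and_subset (x := f x) (U := g ⁻¹ᵁ W) hxW
  obtain ⟨U, hU, hxU, hUV⟩ := exists_isAffineOpen_mem_and_subset (x := x) (U := f ⁻¹ᵁ V) hxV
  obtain ⟨k, φ, hφ⟩ := Groth.Agent.PerfGen7.exists_chart_of_affine (f := g) hV hW hVW
  obtain ⟨n, ψ, hψ⟩ := Groth.Agent.PerfGen7.exists_chart_of_affine (f := f) hU hV hUV
  have e : U ≤ (f ≫ g) ⁻¹ᵁ W := fun y hy => hVW (hUV hy)
  obtain ⟨θ, hθ, hC, hθ'⟩ := Groth.Agent.PerfGen7.exists_presentation_comp (g.appLE W V hVW).hom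
    (f.appLE V U hUV).hom φ hφ.1 hφ.2 ψ hψ.1 hψ.2
    (by
      letI := φ.toAlgebra
      exact Groth.Agent.H9Misc.DRingPC.module_mono (le_max_right r s)
        (Groth.Agent.PerfGen7.module_of_isNPseudoCoherent hg hV hW hVW φ hφ))
    (by
      letI := ψ.toAlgebra
      exact Groth.Agent.H9Misc.DRingPC.module_mono (le_max_left r s)
        (Groth.Agent.PerfGen7.module_of_isNPseudoCoherent hf hU hV hUV ψ hψ))
  refine ⟨U, W, hxU, hU, hW, e, n + k, θ, ⟨hθ, ?_⟩, hθ'⟩
  rw [hC, ← CommRingCat.hom_comp, Scheme.Hom.appLE_comp_appLE]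

end Groth.Agent.S6209
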