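import Groth.Statements.S6225
import Groth.Agent.PerfGen7.RelNPC

set_option autoImplicit false
universe u
open CategoryTheory CategoryTheory.Limits AlgebraicGeometry
attribute [local instance] HasDerivedCategory.standard
open KSix

namespace Groth.Agent.S6225

/-- Last assertion: a morphism f : X ⟶ Y locally of finite type is (-1)-pseudo-coherent (O_X placed in
degree 0 is (-1)-pseudo-coherent relative to f, in chart form) if and only if f is locally of finite
presentation. -/
theorem result {X Y : Scheme.{u}} (f : X ⟶ Y) [LocallyOfFiniteType f] :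
    DerSch.IsNPseudoCoherent f (-1) ↔ LocallyOfFinitePresentation f := by
  have hpair : ∀ x : X, ∃ (U : X.Opens) (V : Y.Opens), x ∈ U ∧ IsAffineOpen U ∧ IsAffineOpen V ∧ U ≤ f ⁻¹ᵁ V := by
    intro x
    obtain ⟨V, hV, hxV, -⟩ := exists_isAffineOpen_mem_and_subset (x := f x) (U := (⊤ : Y.Opens)) trivial
    obtain ⟨U, hU, hxU, hUV⟩ := exists_isAffineOpen_mem_and_subset (x := x) (U := f ⁻¹ᵁ V) hxV
    exact ⟨U, V, hxU, hU, hV, hUV⟩
  constructor
  · intro hf
    rw [HasRingHomProperty.iff_exists_appLE (P := @LocallyOfFinitePresentation)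
      (RingHom.finitePresentation_stableUnderComposition.stableUnderCompositionWithLocalizationAway
        RingHom.finitePresentation_holdsForLocalizationAway).left]
    intro x
    obtain ⟨U, V, hxU, hU, hV, e⟩ := hpair x
    obtain ⟨n, φ, hφ⟩ := Groth.Agent.PerfGen7.exists_chart_of_affine (f := f) hU hV e
    exact ⟨⟨V, hV⟩, ⟨U, hU⟩, hxU, e, (Groth.Agent.PerfGen7.finitePresentation_module_iff φ hφ.1 _ hφ.2).1
      (Groth.Agent.PerfGen7.module_of_isNPseudoCoherent hf hU hV e φ hφ)⟩
  · intro hf
    refine Groth.Agent.PerfGen7.isNPseudoCoherent_of_charts fun x => ?_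
    obtain ⟨U, V, hxU, hU, hV, e⟩ := hpair x
    obtain ⟨n, φ, hφ⟩ := Groth.Agent.PerfGen7.exists_chart_of_affine (f := f) hU hV e
    exact ⟨U, V, hxU, hU, hV, e, n, φ, hφ, (Groth.Agent.PerfGen7.finitePresentation_module_iff φ hφ.1 _ hφ.2).2
      (LocallyOfFinitePresentation.finitePresentation_appLE f hV hU e)⟩

end Groth.Agent.S6225
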