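import Groth.Statements.S6214
import Groth.Agent.PerfGen7.RelFlatZero
import Groth.Agent.S6225

set_option autoImplicit false
universe u
open CategoryTheory CategoryTheory.Limits AlgebraicGeometry
attribute [local instance] HasDerivedCategory.standard
open KSix

namespace Groth.Agent.S6214

/-- A morphism f : X ⟶ Y locally of finite type has perfect dimension at most 0 (O_X placed in degree 0
is pseudo-coherent relative to f in chart form and has stalkwise tor amplitude in [0, 0] over the
local rings of Y) if and only if f is flat and locally of finite presentation. -/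
theorem result {X Y : Scheme.{u}} (f : X ⟶ Y) [LocallyOfFiniteType f] :
    DerSch.HasPerfDimLE f 0 ↔ (Flat f ∧ LocallyOfFinitePresentation f) := by
  constructor
  · intro h
    refine ⟨Groth.Agent.PerfGen7.flat_of_isFlatOver f fun x => ?_,
      (Groth.Agent.S6225.result f).1 (h.1 (-1))⟩
    refine (Groth.Agent.PerfGen7.torAmplitudeAt_single_iff f _ x).1 ?_
    simpa using h.2 x
  · rintro ⟨_, _⟩
    refine ⟨fun m => Groth.Agent.PerfGen7.isNPseudoCoherent_of_flat f m, fun x => ?_⟩
    have h := (Groth.Agent.PerfGen7.torAmplitudeAt_single_iff f _ x).2
      (Groth.Agent.H1GeomRk.isFlatOver_structureModule f x)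
    simpa using h

end Groth.Agent.S6214
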