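import Groth.Statements.S6236
import Groth.Agent.PerfGen7.RelPCBasic

set_option autoImplicit false
universe u
open CategoryTheory CategoryTheory.Limits AlgebraicGeometry
attribute [local instance] HasDerivedCategory.standard
open KSix

namespace Groth.Agent.S6236

/-- Let f : X ⟶ Y be a morphism of schemes with X quasi-compact, n an integer, and E an object of D(O_X)
which is n-pseudo-coherent relative to f (chart form; in particular f is locally of finite type).
Then the cohomology of E is bounded above. (Without quasi-compactness of X the cohomology is only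
locally bounded above.) -/
theorem result {X Y : Scheme.{u}} [CompactSpace X] (f : X ⟶ Y) (n : ℤ)
    (E : DCoh.D X) (hE : DerSch.IsPseudoCoherentRel f n E) : ∃ b : ℤ, E.IsLE b := by
  classical
  choose N b hx hb using Groth.Agent.PerfGen7.exists_nhd_isZero_stalk hE
  obtain ⟨t, ht⟩ := isCompact_univ.elim_finite_subcover (fun x => (N x : Set X)) (fun x => (N x).2)
    (fun x _ => Set.mem_iUnion.2 ⟨x, hx x⟩)
  obtain ⟨B, hB⟩ := (t.image b).bddAbove
  refine ⟨B, (DerivedCategory.isLE_iff E B).2 fun j hj =>
    Groth.Agent.KFlatLib.isZero_of_stalk _ fun x' => ?_⟩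
  obtain ⟨x, hxt, hx'⟩ := Set.mem_iUnion₂.1 (ht (Set.mem_univ x'))
  have h := hb x x' hx' j (lt_of_le_of_lt (hB (Finset.mem_image_of_mem b hxt)) hj)
  haveI := AddCommGrpCat.subsingleton_of_isZero h
  exact @ModuleCat.isZero_of_subsingleton _ _ _ ‹_›

end Groth.Agent.S6236
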