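import Groth.Statements.S6237
import Groth.Agent.KRegLib.Perfect
import Groth.Agent.KFlatLib.Scheme.TildePerf
import Groth.Agent.KFlatLib.Scheme.CohD
import Groth.Agent.PerfGen7.AffineX
import Groth.Agent.QCoh.PullbackBC
import Groth.Agent.QCoh.Qcqs

set_option autoImplicit false
set_option backward.isDefEq.respectTransparency false
set_option backward.isDefEq.respectTransparency.types false
universe u
open CategoryTheory CategoryTheory.Limits AlgebraicGeometry
attribute [local instance] HasDerivedCategory.standard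
open KSix

namespace Groth.Agent.S6237

/-- Let i : Z ⟶ X be a closed immersion which is Koszul-regular (around every point the ideal of Z in an
affine open of X is generated by a finite sequence whose Koszul complex is acyclic in positive
degrees). Then i_*O_Z placed in degree 0 is a perfect object of D(O_X); in particular it is
pseudo-coherent. -/
theorem result {Z X : Scheme.{u}} (i : Z ⟶ X)
    [IsClosedImmersion i] (hi : RegImm.IsRegularImmersion RegImm.Kind.koszul i) :
    DCoh.IsPerfect (DCoh.inD X ((Scheme.Modules.pushforward i).obj (Coh.structureModule Z))) := by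
  let M := (Scheme.Modules.pushforward i).obj (Coh.structureModule Z)
  have hM : Coh.IsQCoh M := QCoh.isQCoh_pushforward i QCoh.isQCoh_structureModule
  refine PerfGen7.isPerfect_of_cover fun x => ?_
  by_cases hx : x ∈ Set.range i.base
  swap
  · let U : X.Opens := ⟨(Set.range i.base)ᶜ, i.isClosedEmbedding.isClosed_range.isOpen_compl⟩
    refine ⟨_, U.ι, inferInstance, ⟨⟨x, hx⟩, rfl⟩, ?_⟩
    let e := ((Scheme.Modules.restrictFunctor U.ι).mapDerivedCategorySingleFunctor 0).app M
    refine PerfGen7.isPerfect_of_isZero' (IsZero.of_iso ((DerivedCategory.singleFunctor _ 0).map_isZero ?_) e)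
    rw [IsZero.iff_id_eq_zero]
    refine Scheme.Modules.hom_ext _ _ fun W => ?_
    ext s
    have hW : i ⁻¹ᵁ (U.ι ''ᵁ W) = ⊥ := by
      refine eq_bot_iff.2 fun z hz => ?_
      obtain ⟨w, -, hw⟩ := hz
      exact w.2 ⟨z, hw.symm⟩
    have hs : ∀ t : Γ(Coh.structureModule Z, i ⁻¹ᵁ (U.ι ''ᵁ W)), t = 0 := by
      rw [hW]
      intro t
      haveI : Subsingleton Γ(Z, ⊥) := CommRingCat.subsingleton_of_isTerminal Z.sheaf.isTerminalOfEmpty
      exact Subsingleton.elim (α := Γ(Z, ⊥)) t 0
    exact (hs _).trans (hs _).symm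
  obtain ⟨z, rfl⟩ := hx
  obtain ⟨U, hzU, -, rs, hrs, hker⟩ := hi.2 z
  let j := U.2.fromSpec
  refine ⟨_, j, inferInstance, (U.2.range_fromSpec).symm ▸ hzU, ?_⟩
  let e := ((Scheme.Modules.restrictFunctor j).mapDerivedCategorySingleFunctor 0).app M
  haveI : IsIso (M.restrict j).fromTildeΓ :=
    (isQuasicoherent_iff_isIso_fromTildeΓ (M.restrict j)).1 (QCoh.isQCoh_restrict j hM)
  refine PerfGen7.isPerfect_of_iso' (((tilde.functor Γ(X, U.1)).mapDerivedCategorySingleFunctor 0).app _ ≪≫
    (DerivedCategory.singleFunctor _ 0).mapIso (asIso (M.restrict j).fromTildeΓ) ≪≫ e.symm) ?_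
  refine (KFlatLib.perfect_tildeD_iff _).2 ?_
  -- the sections are the quotient by the regular sequence
  let q : Γ(X, U.1) →ₗ[Γ(X, U.1)] Γ(M, U.1) :=
    LinearMap.toSpanSingleton Γ(X, U.1) Γ(M, U.1) (show Γ(M, U.1) from (1 : Γ(Z, i ⁻¹ᵁ U.1)))
  have hq : ∀ r, q r = (show Γ(M, U.1) from i.app U.1 r) := fun r =>
    (QCoh.pushforward_smul (M := Coh.structureModule Z) i U.1 r
      (show Γ(Coh.structureModule Z, i ⁻¹ᵁ U.1) from (1 : Γ(Z, i ⁻¹ᵁ U.1)))).trans
      (mul_one (show Γ(Z, i ⁻¹ᵁ U.1) from i.app U.1 r))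
  have hqs : Function.Surjective q := fun y => by
    obtain ⟨r, hr⟩ := i.app_surjective U.1 U.2 (show Γ(Z, i ⁻¹ᵁ U.1) from y)
    exact ⟨r, (hq r).trans hr⟩
  have hqk : LinearMap.ker q = Ideal.span {a | a ∈ rs} := by
    show _ = Ideal.ofList rs
    rw [← hker]
    ext r
    rw [LinearMap.mem_ker, RingHom.mem_ker, hq]
  let t : Γ(M, U.1) ≃ₗ[Γ(X, U.1)] (moduleSpecΓFunctor.obj (M.restrict j)) :=
    LinearEquiv.ofBijective { toFun := QCoh.toChart U.2 M, map_add' := QCoh.toChart_add U.2 M,
                              map_smul' := QCoh.toChart_smul U.2 M } (QCoh.bijective_toChart U.2 M)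
  obtain ⟨E, a, b, hz, hE, hiso⟩ := KRegLib.isPerfectModule_congr
    ((Submodule.quotEquivOfEq _ _ hqk.symm).trans ((q.quotKerEquivOfSurjective hqs).trans t))
    (KRegLib.isPerfectModule_of_seq rs hrs)
  exact ⟨E, a, b, hz, hE, hiso⟩

end Groth.Agent.S6237
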