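import Groth.Statements.S6238
import Groth.Agent.KRegLib.Perfect
import Groth.Agent.KRegLib.Local
import Groth.Agent.PerfGen7.RelNPC
import Groth.Agent.PerfGen7.ApproxRing
import Groth.Agent.H9Misc.DRingPerfect
import Groth.Agent.H1GeomRk.Unit
import Groth.Agent.Synt29.KoszulSyntomic

set_option autoImplicit false
set_option backward.isDefEq.respectTransparency false
set_option backward.isDefEq.respectTransparency.types false
set_option maxHeartbeats 1000000
universe u
open CategoryTheory CategoryTheory.Limits AlgebraicGeometry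
attribute [local instance] HasDerivedCategory.standard
open KSix

namespace Groth.Agent.S6238

theorem surjective_app_of_appLE {Z X : Scheme.{u}} (i : Z ⟶ X) {U U' : X.Opens} {W' : Z.Opens}
    (hU : U' = U) (hW : W' = i ⁻¹ᵁ U) (e : W' ≤ i ⁻¹ᵁ U') (h : Function.Surjective (i.appLE U' W' e)) :
    Function.Surjective (i.app U) := by
  subst hU hW
  rwa [Scheme.Hom.appLE_eq_app] at h

theorem isKoszulRegularSeq_map {R S : Type u} [CommRing R] [CommRing S] [Algebra R S] [Module.Flat R S]
    (l : List R) (h : LCI.IsKoszulRegularSeq R l) : LCI.IsKoszulRegularSeq S (l.map (algebraMap R S)) := by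
  have h1 := KoszulFlatLib.isKoszulRegularSeq_of_isExact
    (WiebeLib.isExact_map (S := S) (WiebeLib.isExact_of_isKoszulRegularSeq l.get (by rwa [List.ofFn_get])))
  rwa [← Function.comp_def, ← List.map_ofFn, List.ofFn_get] at h1

theorem exists_koszul_rep {A : Type u} [CommRing A] (l : List A) (h : LCI.IsKoszulRegularSeq A l) :
    ∃ K : DRing.Cx A, DRing.VanishesOutside K (-(l.length : ℤ)) 0 ∧
      (∀ i, Module.Finite A (K.X i) ∧ Module.Projective A (K.X i)) ∧
      Nonempty (DRing.toD K ≅ Dual.inD A (A ⧸ Ideal.span {x | x ∈ l})) := by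
  let K := CohIII.koszulCx (ModuleCat.of A A) l
  have h' : ∀ i : ℤ, i ≠ 0 → IsZero (K.homology i) := fun i hi => by
    have := h i hi
    rwa [← HomologicalComplex.exactAt_iff_isZero_homology, Synt29.koszul_eq,
      HomologicalComplex.exactAt_iff_isZero_homology] at this
  let X : Dual.D A := DRing.toD K
  have hH : ∀ i : ℤ, (DerivedCategory.homologyFunctor (ModuleCat.{u} A) i).obj X ≅ K.homology i := fun i =>
    (DerivedCategory.homologyFunctorFactors (ModuleCat.{u} A) i).app K
  haveI : X.IsGE 0 := (DerivedCategory.isGE_iff _ _).2 fun i hi => (h' i (by omega)).of_iso (hH i)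
  haveI : X.IsLE 0 := (DerivedCategory.isLE_iff _ _).2 fun i hi => (h' i (by omega)).of_iso (hH i)
  obtain ⟨Y, ⟨e⟩⟩ := DerivedCategory.exists_iso_singleFunctor_obj_of_isGE_of_isLE X 0
  obtain ⟨t⟩ := Koszul15.nonempty_top_equiv l (ModuleCat.of A A)
  have he : (Ideal.ofList l • (⊤ : Submodule A (ModuleCat.of A A)) : Submodule A A) = Ideal.span {x | x ∈ l} := by
    show Ideal.ofList l • (⊤ : Submodule A A) = _
    rw [smul_eq_mul, Ideal.mul_top]
  let eY : Y ≅ ModuleCat.of A (A ⧸ Ideal.span {x | x ∈ l}) :=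
    ((DerivedCategory.singleFunctorCompHomologyFunctorIso (ModuleCat.{u} A) 0).app Y).symm ≪≫
      (DerivedCategory.homologyFunctor (ModuleCat.{u} A) 0).mapIso e.symm ≪≫ hH 0 ≪≫ t.toModuleIso ≪≫
      (Submodule.quotEquivOfEq _ _ he).toModuleIso
  refine ⟨K, fun i hi => Koszul15.isZero_X _ l i (hi.symm.imp id id), fun i => ?_,
    ⟨e ≪≫ (DerivedCategory.singleFunctor (ModuleCat.{u} A) 0).mapIso eY⟩⟩
  obtain ⟨hfin, hfree⟩ := KRegLib.koszulCx_finiteFree l i
  exact ⟨hfin, Module.Projective.of_free⟩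


/-- An immersion i : Z ⟶ X which is Koszul-regular of codimension d (around every point, over an affine
open of X on which i is a closed immersion, the ideal is generated by d sections whose Koszul
complex is acyclic in positive degrees) has perfect dimension at most d: O_Z placed in degree 0 is
pseudo-coherent relative to i (chart form) with stalkwise tor amplitude in [-d, 0] over the local
rings of X. -/
theorem result {Z X : Scheme.{u}} (i : Z ⟶ X) (d : ℕ)
    (hi : RegImm.IsRegularImmersionOfCodim RegImm.Kind.koszul d i) :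
    DerSch.HasPerfDimLE i d := by
  haveI := hi.1
  have hch : ∀ z : Z, ∃ (U : X.Opens) (hU : IsAffineOpen U) (hVU : IsAffineOpen (i ⁻¹ᵁ U)) (rs : List Γ(X, U)),
      i z ∈ U ∧ rs.length = d ∧ LCI.IsKoszulRegularSeq Γ(X, U) rs ∧ Function.Surjective (i.app U) ∧
      RingHom.ker (i.app U).hom = Ideal.ofList rs := fun z => by
    obtain ⟨U, hz, hcl, rs, hlen, hrs, hker⟩ := hi.2 z
    haveI := hcl
    haveI : IsAffine (U.1 : Scheme.{u}) := U.2
    refine ⟨U.1, U.2, isAffine_of_isAffineHom (i ∣_ U.1), rs, hz, hlen, hrs, ?_, hker⟩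
    have hs := (i ∣_ U.1).app_surjective ⊤ (isAffineOpen_top _)
    rw [morphismRestrict_app'] at hs
    exact surjective_app_of_appLE i U.1.ι_image_top
      ((congrArg ((i ⁻¹ᵁ U.1).ι ''ᵁ ·) (Scheme.Hom.preimage_top (i ∣_ U.1))).trans (i ⁻¹ᵁ U.1).ι_image_top) _ hs
  refine ⟨fun m => ?_, fun z => ?_⟩
  · refine PerfGen7.isNPseudoCoherent_of_charts fun z => ?_
    obtain ⟨U, hU, hW, rs, hz, -, hrs, hsurj, hker⟩ := hch z
    let φ : MvPolynomial (Fin 0) Γ(X, U) →+* Γ(Z, i ⁻¹ᵁ U) :=
      (i.app U).hom.comp (MvPolynomial.isEmptyAlgEquiv Γ(X, U) (Fin 0)).toRingEquiv.toRingHom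
    have hφC : φ.comp MvPolynomial.C = (i.appLE U (i ⁻¹ᵁ U) le_rfl).hom := by
      ext r
      rw [Scheme.Hom.appLE_eq_app]
      exact congrArg (i.app U).hom ((MvPolynomial.isEmptyAlgEquiv Γ(X, U) (Fin 0)).commutes r)
    have hφs : Function.Surjective φ := hsurj.comp (MvPolynomial.isEmptyAlgEquiv Γ(X, U) (Fin 0)).surjective
    refine ⟨i ⁻¹ᵁ U, U, hz, hW, hU, le_rfl, 0, φ, ⟨hφs, hφC⟩, ?_⟩
    letI := φ.toAlgebra
    let e := (MvPolynomial.isEmptyAlgEquiv Γ(X, U) (Fin 0)).symm.toRingEquiv
    have hl := Synt29.isKoszulRegularSeq_map_equiv e rs hrs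
    let q := Algebra.linearMap (MvPolynomial (Fin 0) Γ(X, U)) Γ(Z, i ⁻¹ᵁ U)
    have hk : LinearMap.ker q = Ideal.span {a | a ∈ rs.map e} := by
      have h1 : Ideal.span {a | a ∈ rs.map e} = (Ideal.span {a | a ∈ rs}).map e.toRingHom := by
        rw [Ideal.map_span]
        congr 1
        ext a
        simp
      have h2 : Ideal.span {a | a ∈ rs} = RingHom.ker (i.app U).hom := hker.symm
      rw [h1, h2]
      ext a
      show _ ↔ a ∈ Ideal.map e (RingHom.ker (i.app U).hom)
      rw [← Ideal.comap_symm]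
      rfl
    obtain hp := KRegLib.isPerfectModule_congr ((Submodule.quotEquivOfEq _ _ hk.symm).trans
      (q.quotKerEquivOfSurjective hφs)) (KRegLib.isPerfectModule_of_seq _ hl)
    exact PerfGen7.pc_of_isPerfect (R := CommRingCat.of (MvPolynomial (Fin 0) Γ(X, U))) hp m
  · obtain ⟨U, hU, hW, rs, hz, hlen, hrs, hsurj, hker⟩ := hch z
    let A := Γ(X, U)
    let S := X.presheaf.stalk (i z)
    letI : Algebra A S := (X.presheaf.germ U (i z) hz).hom.toAlgebra
    haveI : IsLocalization.AtPrime S (hU.primeIdealOf ⟨i z, hz⟩).asIdeal := hU.isLocalization_stalk ⟨i z, hz⟩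
    haveI : Module.Flat A S := IsLocalization.flat S (hU.primeIdealOf ⟨i z, hz⟩).asIdeal.primeCompl
    let l := rs.map (algebraMap A S)
    have hl : LCI.IsKoszulRegularSeq S l := isKoszulRegularSeq_map rs hrs
    obtain ⟨E, hE0, hE, hiso⟩ := exists_koszul_rep l hl
    letI := (i.stalkMap z).hom.toAlgebra
    letI : Module S ((Coh.structureModule Z).presheaf.stalk z) := Module.compHom _ (i.stalkMap z).hom
    haveI : IsScalarTower S (Z.presheaf.stalk z) ((Coh.structureModule Z).presheaf.stalk z) :=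
      IsScalarTower.of_algebraMap_smul fun _ _ => rfl
    obtain ⟨eu⟩ := H1GeomRk.nonempty_stalkUnitEquiv (X := Z) z
    let q : S →ₗ[S] Z.presheaf.stalk z := Algebra.linearMap S (Z.presheaf.stalk z)
    have hgerm : ∀ a : A, i.stalkMap z (algebraMap A S a) = Z.presheaf.germ (i ⁻¹ᵁ U) z hz (i.app U a) :=
      fun a => Scheme.Hom.germ_stalkMap_apply i U z hz a
    have hqs : Function.Surjective q := i.stalkMap_surjective z
    have hqk : LinearMap.ker q = Ideal.span {a | a ∈ l} := by
      have hspan : Ideal.span {a | a ∈ l} = (RingHom.ker (i.app U).hom).map (algebraMap A S) := by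
        rw [hker, Ideal.ofList, Ideal.map_span]
        congr 1
        ext a
        simp [l]
        rfl
      rw [hspan]
      refine le_antisymm (fun s hs => ?_) ?_
      · obtain ⟨a, m, rfl⟩ := IsLocalization.exists_mk'_eq (hU.primeIdealOf ⟨i z, hz⟩).asIdeal.primeCompl s
        have hs' : i.stalkMap z (algebraMap A S a) = 0 := by
          rw [← IsLocalization.mk'_spec S a m, map_mul]
          exact mul_eq_zero_of_left hs _
        rw [hgerm] at hs'
        letI : Algebra Γ(Z, i ⁻¹ᵁ U) (Z.presheaf.stalk z) := (Z.presheaf.germ (i ⁻¹ᵁ U) z hz).hom.toAlgebra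
        haveI : IsLocalization.AtPrime (Z.presheaf.stalk z) (hW.primeIdealOf ⟨z, hz⟩).asIdeal :=
          hW.isLocalization_stalk ⟨z, hz⟩
        obtain ⟨t, ht⟩ := (IsLocalization.map_eq_zero_iff (hW.primeIdealOf ⟨z, hz⟩).asIdeal.primeCompl
          (Z.presheaf.stalk z) _).1 hs'
        obtain ⟨b, hb⟩ := hsurj t.1
        have hbu : IsUnit (algebraMap A S b) := by
          haveI : IsLocalHom (i.stalkMap z).hom := inferInstance
          refine isUnit_of_map_unit (i.stalkMap z).hom _ ?_
          rw [show (i.stalkMap z).hom (algebraMap A S b) = _ from hgerm b, hb]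
          exact IsLocalization.map_units (Z.presheaf.stalk z) t
        have hmem : b * a ∈ RingHom.ker (i.app U).hom := by
          rw [RingHom.mem_ker, map_mul]
          exact (congrArg (· * _) hb).trans ht
        have h3 := Ideal.mem_map_of_mem (algebraMap A S) hmem
        rw [map_mul] at h3
        rw [IsLocalization.mk'_mem_iff]
        exact (Ideal.unit_mul_mem_iff_mem _ hbu).1 h3
      · refine Ideal.map_le_iff_le_comap.2 fun a ha => ?_
        show i.stalkMap z (algebraMap A S a) = 0
        rw [hgerm, show i.app U a = 0 from ha, map_zero]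
    let e : (S ⧸ Ideal.span {a | a ∈ l}) ≃ₗ[S] ((Coh.structureModule Z).presheaf.stalk z) :=
      ((Submodule.quotEquivOfEq _ _ hqk.symm).trans (q.quotKerEquivOfSurjective hqs)).trans
        (eu.restrictScalars S)
    let M' := (DerSch.stalkOver i z).obj (Coh.structureModule Z)
    obtain ⟨e'⟩ : Nonempty (ModuleCat.of S (S ⧸ Ideal.span {a | a ∈ l}) ≅ M') := ⟨e.toModuleIso⟩
    refine ⟨E, fun k hk => hE0 k (hk.imp (fun h => by simp only [l, List.length_map, hlen]; exact h) id), fun k => ?_, ⟨hiso.some ≪≫ (DerivedCategory.singleFunctor _ 0).mapIso e' ≪≫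
      (DerivedCategory.singleFunctorIsoCompQ _ 0).app M' ≪≫ (DerivedCategory.Q.mapIso
        ((HomologicalComplex.singleMapHomologicalComplex (DerSch.stalkOver i z) (ComplexShape.up ℤ) 0).app _)).symm⟩⟩
    haveI := (hE k).2
    infer_instance

end Groth.Agent.S6238
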