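import Groth.Statements.S6239


set_option autoImplicit false
universe u
open CategoryTheory CategoryTheory.Limits AlgebraicGeometry
attribute [local instance] HasDerivedCategory.standard
open KSix

namespace Groth.Agent.S6239

/-- Let f : X ⟶ Y be a morphism with X quasi-compact and F a cochain complex of O_X-modules which is
perfect relative to f (pseudo-coherent relative to f in chart form, and locally on X of finite
stalkwise tor amplitude over the local rings of Y). Then F has finite perfect amplitude relative to
f: one interval [a, b] works at every point of X. -/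
theorem result {X Y : Scheme.{u}} [CompactSpace X] (f : X ⟶ Y)
    (F : CochainComplex X.Modules ℤ) (hF : DerSch.IsPerfectRel f F) :
    DerSch.HasFinitePerfAmplitudeRel f F := by
  classical
  obtain ⟨hpc, hloc⟩ := hF
  choose V a b hx hV using hloc
  obtain ⟨t, ht⟩ := isCompact_univ.elim_finite_subcover (fun x => (V x : Set X)) (fun x => (V x).2)
    (fun x _ => Set.mem_iUnion.2 ⟨x, hx x⟩)
  obtain ⟨A, hA⟩ := (t.image a).bddBelow
  obtain ⟨B, hB⟩ := (t.image b).bddAbove
  refine ⟨A, B, hpc, fun x' => ?_⟩
  obtain ⟨x, hxt, hx'⟩ := Set.mem_iUnion₂.1 (ht (Set.mem_univ x'))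
  obtain ⟨E, hE, hfl, he⟩ := hV x x' hx'
  exact ⟨E, fun i hi => hE i (hi.imp (fun h => lt_of_lt_of_le h (hA (Finset.mem_image_of_mem a hxt)))
    (fun h => lt_of_le_of_lt (hB (Finset.mem_image_of_mem b hxt)) h)), hfl, he⟩

end Groth.Agent.S6239
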