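import Groth.Statements.S6243
import Groth.Agent.Exact7.LocalData

set_option autoImplicit false
universe u
open CategoryTheory CategoryTheory.Limits AlgebraicGeometry
attribute [local instance] HasDerivedCategory.standard
open KSix

namespace Groth.Agent.S6243

/-- Let X be a scheme, p an integer and E ∈ D⁻(O_X), given by a cochain complex F, a
(p-1)-pseudo-coherent object. If, the derived tensor product with F being assumed to exist, the
functor M ↦ H^p(M ⊗^L F) from O_X-modules to O_X-modules is exact (preserves finite limits and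
finite colimits), then the cohomology sheaf H^p(E) is finite locally free and, the derived pullbacks
to the points Spec κ(x) ⟶ X being assumed to exist, the function x ↦ dim_{κ(x)} H^p(E ⊗^L κ(x)) is
locally constant. (The published statement is for a locally ringed topos with enough points and
writes the functor as M ↦ H^p(E ⊗^L M); this row is the case of the Zariski topos of a scheme, with
the derived tensor product taken with F as the fixed right-hand factor.) -/
theorem result {X : Scheme.{u}} (F : CochainComplex X.Modules ℤ) (e : ℤ)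
    [(DCoh.toD X F).IsLE e] (p : ℤ) (hE : DCoh.IsPseudoCoherentD (p - 1) (DCoh.toD X F))
    [DCoh.HasLTensorCx F]
    [PreservesFiniteLimits (DerivedCategory.singleFunctor X.Modules 0 ⋙ DCoh.LTensorCx F ⋙ DerivedCategory.homologyFunctor X.Modules p)]
    [PreservesFiniteColimits (DerivedCategory.singleFunctor X.Modules 0 ⋙ DCoh.LTensorCx F ⋙ DerivedCategory.homologyFunctor X.Modules p)]
    [∀ x : X, DCoh.HasLpull (X.fromSpecResidueField x)] :
    FlatMod.IsFinLocFree (DCoh.HD (DCoh.toD X F) p) ∧
      IsLocallyConstant (fun x : X => PerfD.betti (DCoh.toD X F) x p) := by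
  let E' := (KFlatLib.kRes X).obj F
  let β : E' ⟶ F := (KFlatLib.flatCover X).ψ.app F
  haveI : QuasiIso β := (KFlatLib.flatCover X).quasiIso_ψ F
  have hE' : DCoh.IsKFlat E' := KFlatLib.isKFlat_kRes F
  obtain ⟨e₀⟩ := Exact7.scheme_homology_iso β hE' p
  haveI : PreservesFiniteLimits (Exact7.hom' (Exact7.phi DCoh.tensorBi E') p) :=
    preservesFiniteLimits_of_natIso e₀
  haveI : PreservesFiniteColimits (Exact7.hom' (Exact7.phi DCoh.tensorBi E') p) :=
    preservesFiniteColimits_of_natIso e₀
  refine Exact7.glue _ p fun x => ?_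
  obtain ⟨U, j, _, hx, P, n, e, α, hP, hα⟩ :=
    KFlatLib.exists_betti_data (DCoh.toD X F) ((KFlatLib.isPseudoCoherentD_iff _ _).1 hE) x
  obtain ⟨e₁⟩ := Exact7.nonempty_model_iso β hE' j hP α hα p (sub_one_lt p)
  haveI := Exact7.leftExact_restrict j E' p
  haveI := Exact7.rightExact_restrict j E' p
  haveI := preservesFiniteLimits_of_natIso e₁.symm
  haveI := preservesFiniteColimits_of_natIso e₁.symm
  obtain ⟨h₀, h₁⟩ := Exact7.flat_opcycles_of_exact P
    (fun i => KFlatLib.IsFlat.of_iso (e i).symm (KFlatLib.isFlat_freeMod (n i))) p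
  exact ⟨U, j, inferInstance, hx, Exact7.locus_of_flat _ j hP e α hα p (sub_one_lt p) h₀ h₁⟩

end Groth.Agent.S6243
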