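import Groth.Statements.S6245
import Groth.Agent.Exact7.Nbhd
import Groth.Agent.Exact7.SchemeTensor

set_option autoImplicit false
universe u
open CategoryTheory CategoryTheory.Limits AlgebraicGeometry
attribute [local instance] HasDerivedCategory.standard
open KSix

namespace Groth.Agent.S6245

/-- Let X be a scheme, p an integer, x a point of X and E ∈ D⁻(O_X), given by a cochain complex F, a
p-pseudo-coherent object; let F_x be the complex of stalks of F at x, a complex of modules over the
local ring O_{X,x}. The derived tensor products with F_x and with the restrictions of F to the opens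
of X being assumed to exist: if the functor M ↦ H^p(M ⊗^L F_x) on O_{X,x}-modules is right exact,
then x has an open neighbourhood U such that the functor M ↦ H^p(M ⊗^L (F restricted to U)) from
O_U-modules to O_U-modules is right exact. (The published statement is for a point of a locally
ringed topos and writes the functors as M ↦ H^p(E_x ⊗^L M) and M ↦ H^p(E|_U ⊗^L M); this row is the
case of a scheme, with the derived tensor products taken with the complex as the fixed right-hand
factor.) -/
theorem result {X : Scheme.{u}} (F : CochainComplex X.Modules ℤ)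
    (e : ℤ) [(DCoh.toD X F).IsLE e] (p : ℤ) (hE : DCoh.IsPseudoCoherentD p (DCoh.toD X F)) (x : X)
    [DRing.HasLTensorCx (X.presheaf.stalk x) (((DerSch.stalkFunctor X x).mapHomologicalComplex (ComplexShape.up ℤ)).obj F)]
    [PreservesFiniteColimits (DerivedCategory.singleFunctor (ModuleCat.{u} (X.presheaf.stalk x)) 0 ⋙ DRing.LTensorCx (X.presheaf.stalk x) (((DerSch.stalkFunctor X x).mapHomologicalComplex (ComplexShape.up ℤ)).obj F) ⋙ DerivedCategory.homologyFunctor (ModuleCat.{u} (X.presheaf.stalk x)) p)]
    [∀ U : X.Opens, DCoh.HasLTensorCx ((DCoh.restrictCx U).obj F)] :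
    ∃ U : X.Opens, x ∈ U ∧ PreservesFiniteColimits (DerivedCategory.singleFunctor (U : Scheme.{u}).Modules 0 ⋙ DCoh.LTensorCx ((DCoh.restrictCx U).obj F) ⋙ DerivedCategory.homologyFunctor (U : Scheme.{u}).Modules p) := by
  let E' := (KFlatLib.kRes X).obj F
  let β : E' ⟶ F := (KFlatLib.flatCover X).ψ.app F
  haveI : QuasiIso β := (KFlatLib.flatCover X).quasiIso_ψ F
  have hE' : DCoh.IsKFlat E' := KFlatLib.isKFlat_kRes F
  obtain ⟨e₀⟩ := Exact7.ring_homology_iso ((KFlatLib.stalkCx x).map β)
    ((KFlatLib.kFlat_iff_stalk E').1 hE' x) p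
  haveI := preservesFiniteColimits_of_natIso e₀
  haveI := (Exact7.rightExact_iff_leftExact_succ (Exact7.ring_shortExact_phi ((KFlatLib.stalkCx x).obj E')
    fun n => KFlatLib.isFlat_kRes F n x) p (p + 1) rfl).1 inferInstance
  obtain ⟨V, hx, hV⟩ := Exact7.exists_nhd_leftExact β hE' (p + 1)
    ((congrArg (fun m => KFlatLib.LocPC m (DCoh.toD X F)) (add_sub_cancel_right p 1)).mpr
      ((KFlatLib.isPseudoCoherentD_iff _ _).1 hE)) x
  have hfl : ∀ n, FlatMod.IsFlat (((KFlatLib.rCx V.ι).obj E').X n) := fun n =>
    KFlatLib.IsFlat.of_iso ((Scheme.Modules.restrictFunctorIsoPullback V.ι).symm.app (E'.X n))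
      (KFlatLib.isFlat_pullback V.ι (KFlatLib.isFlat_kRes F n))
  haveI := (Exact7.rightExact_iff_leftExact_succ (Exact7.scheme_shortExact_phi _ hfl) p (p + 1) rfl).2 hV
  obtain ⟨e₁⟩ := Exact7.scheme_homology_iso ((KFlatLib.rCx V.ι).map β) (KFlatLib.isKFlat_restrict V.ι hE') p
  exact ⟨V, hx, preservesFiniteColimits_of_natIso e₁.symm⟩

end Groth.Agent.S6245
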