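import Groth.Statements.S6248
import Groth.Agent.Exact7.Proper
import Groth.Agent.Exact7.AffineData

set_option autoImplicit false
universe u
open CategoryTheory CategoryTheory.Limits AlgebraicGeometry
attribute [local instance] HasDerivedCategory.standard
open KSix

namespace Groth.Agent.S6248

/-- Let Y be a Noetherian scheme, f : X ⟶ Y a proper morphism, p an integer, and E ∈ D^b(O_X), given by
a cochain complex F, perfect relative to f (pseudo-coherent relative to f in chart form and locally
on X of finite stalkwise tor amplitude over the local rings of Y). The derived functors Lf^*, − ⊗^L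
F and Rf_* and the derived pullbacks to the points Spec κ(y) ⟶ Y being assumed to exist: if the
functor M ↦ R^p f_*(Lf^* M ⊗^L F) is exact on the full subcategory of quasi-coherent O_Y-modules
(preserves finite limits and finite colimits there), then R^p f_*(E) = H^p(Rf_* E) is a finite
locally free O_Y-module and the function y ↦ dim_{κ(y)} H^p(Rf_* E ⊗^L κ(y)) is locally constant on
Y. (The published statement is for a proper morphism of quasi-compact schemes with Y
quasi-separated, under the finiteness property for proper pseudo-coherent direct images, which holds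
over a Noetherian base; it writes the functor as M ↦ R^p f_*(E ⊗_Y^L M) with E ⊗_Y^L M = E ⊗^L Lf^*
M, and this row takes the derived tensor product with F as the fixed right-hand factor.) -/
theorem result {X Y : Scheme.{u}} [IsNoetherian Y]
    (f : X ⟶ Y) [IsProper f] (F : CochainComplex X.Modules ℤ) (a b : ℤ) [(DCoh.toD X F).IsGE a]
    [(DCoh.toD X F).IsLE b] (hF : DerSch.IsPerfectRel f F) (p : ℤ) [DCoh.HasLpull f]
    [DCoh.HasLTensorCx F] [DCoh.HasRpush f]
    [PreservesFiniteLimits ((QCohCat.isQCoh Y).ι ⋙ DerivedCategory.singleFunctor Y.Modules 0 ⋙ DCoh.Lpull f ⋙ DCoh.LTensorCx F ⋙ DCoh.Rpush f ⋙ DerivedCategory.homologyFunctor Y.Modules p)]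
    [PreservesFiniteColimits ((QCohCat.isQCoh Y).ι ⋙ DerivedCategory.singleFunctor Y.Modules 0 ⋙ DCoh.Lpull f ⋙ DCoh.LTensorCx F ⋙ DCoh.Rpush f ⋙ DerivedCategory.homologyFunctor Y.Modules p)]
    [∀ y : Y, DCoh.HasLpull (Y.fromSpecResidueField y)] :
    FlatMod.IsFinLocFree (DCoh.HD ((DCoh.Rpush f).obj (DCoh.toD X F)) p) ∧
      IsLocallyConstant (fun y : Y => PerfD.betti ((DCoh.Rpush f).obj (DCoh.toD X F)) y p) := by
  haveI := LocallyOfFiniteType.isLocallyNoetherian f
  have hq : DCoh.IsQCohD (DCoh.toD X F) := fun i => (Exact7.isCoh_HD_of_rel hF.1 i).1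
  obtain ⟨C, R, β, hβ, hR, hfl, ⟨eC⟩, he⟩ := Exact7.exists_rpush_hom_iso f F hq
  haveI := hβ
  obtain ⟨e⟩ := he p
  have hpc := (Exact7.locPC_rpush_of_rel f (DCoh.toD X F) a b hF.1 (p - 1)).of_iso eC.symm
  haveI := preservesFiniteLimits_of_natIso e.symm
  haveI := preservesFiniteColimits_of_natIso e.symm
  obtain ⟨h₁, h₂⟩ := Exact7.criterion_qcoh β hR p hpc Exact7.monoQ_of_preserves Exact7.epiQ_of_preserves
  refine ⟨fun y => ?_, ?_⟩
  · obtain ⟨U, n, hy, ⟨i⟩⟩ := h₁ y
    exact ⟨U, n, hy, ⟨((Scheme.Modules.restrictFunctor U.ι).mapIso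
      ((DerivedCategory.homologyFunctor Y.Modules p).mapIso eC)).symm ≪≫ i⟩⟩
  exact (funext fun y => Exact7.betti_congr eC y p) ▸ h₂

end Groth.Agent.S6248
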