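import Groth.Statements.S6250
import Groth.Agent.Exact7.Betti
import Groth.Agent.QCohSupX.Groth

set_option autoImplicit false
universe u
open CategoryTheory CategoryTheory.Limits AlgebraicGeometry
attribute [local instance] HasDerivedCategory.standard
open KSix

namespace Groth.Agent.S6250

/-- Let X be a locally Noetherian, reduced and quasi-separated scheme, p an integer, and E ∈ D⁻(O_X),
given by a cochain complex F, a (p-1)-pseudo-coherent object with quasi-coherent and locally bounded
cohomology. The derived pullbacks to the points Spec κ(x) ⟶ X and the derived tensor product with F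
being assumed to exist: if the function x ↦ dim_{κ(x)} H^p(E ⊗^L κ(x)) is locally constant on X,
then the functor M ↦ H^p(M ⊗^L F) is exact on the full subcategory of quasi-coherent O_X-modules
(preserves finite limits and finite colimits there). (The published statement writes the functor as
M ↦ H^p(E ⊗^L M); this row takes the derived tensor product with F as the fixed right-hand factor.) -/
theorem result {X : Scheme.{u}} [IsLocallyNoetherian X]
    [IsReduced X] [QuasiSeparatedSpace X] (F : CochainComplex X.Modules ℤ) (e : ℤ) [(DCoh.toD X F).IsLE e]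
    (p : ℤ) (hq : DCoh.IsQCohD (DCoh.toD X F))
    (hb : ∀ x : X, ∃ (U : X.Opens) (a : ℤ), x ∈ U ∧ ∀ i : ℤ, i < a →
      IsZero ((Scheme.Modules.restrictFunctor U.ι).obj (DCoh.HD (DCoh.toD X F) i)))
    (hE : DCoh.IsPseudoCoherentD (p - 1) (DCoh.toD X F))
    [∀ x : X, DCoh.HasLpull (X.fromSpecResidueField x)] [DCoh.HasLTensorCx F]
    (hc : IsLocallyConstant (fun x : X => PerfD.betti (DCoh.toD X F) x p)) :
    PreservesFiniteLimits ((QCohCat.isQCoh X).ι ⋙ DerivedCategory.singleFunctor X.Modules 0 ⋙ DCoh.LTensorCx F ⋙ DerivedCategory.homologyFunctor X.Modules p) ∧ PreservesFiniteColimits ((QCohCat.isQCoh X).ι ⋙ DerivedCategory.singleFunctor X.Modules 0 ⋙ DCoh.LTensorCx F ⋙ DerivedCategory.homologyFunctor X.Modules p) := by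
  let E' := (KFlatLib.kRes X).obj F
  let β : E' ⟶ F := (KFlatLib.flatCover X).ψ.app F
  haveI : QuasiIso β := (KFlatLib.flatCover X).quasiIso_ψ F
  have hE' : DCoh.IsKFlat E' := KFlatLib.isKFlat_kRes F
  obtain ⟨e₀⟩ := Exact7.scheme_homology_iso β hE' p
  obtain ⟨hl, hr⟩ := Exact7.exact_of_betti β hE' (KFlatLib.isFlat_kRes F) p
    ((KFlatLib.isPseudoCoherentD_iff _ _).1 hE) hc
  haveI := preservesFiniteLimits_of_natIso e₀.symm
  haveI := preservesFiniteColimits_of_natIso e₀.symm
  haveI : PreservesFiniteLimits (QCohCat.isQCoh X).ι := QCohSupX.preservesFiniteLimits_ι X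
  haveI : PreservesColimitsOfSize.{0, 0} (QCohCat.isQCoh X).ι :=
    haveI := QCohSupX.preservesColimits_ι X
    preservesColimitsOfSize_shrink.{0, u, 0, u} _
  haveI : PreservesFiniteColimits (QCohCat.isQCoh X).ι := ⟨fun _ => inferInstance⟩
  exact ⟨comp_preservesFiniteLimits (QCohCat.isQCoh X).ι _, comp_preservesFiniteColimits (QCohCat.isQCoh X).ι _⟩

end Groth.Agent.S6250
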