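import Groth.Statements.S6252
import Groth.Agent.Exact7.Proper
import Groth.Agent.Exact7.Betti
import Groth.Agent.QCohSupX.Groth

set_option autoImplicit false
universe u
open CategoryTheory CategoryTheory.Limits AlgebraicGeometry
attribute [local instance] HasDerivedCategory.standard
open KSix

namespace Groth.Agent.S6252

/-- Let Y be a Noetherian reduced scheme, f : X ⟶ Y a proper morphism, p an integer, and E ∈ D^b(O_X),
given by a cochain complex F, perfect relative to f (pseudo-coherent relative to f in chart form and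
locally on X of finite stalkwise tor amplitude over the local rings of Y). The derived functors
Lf^*, − ⊗^L F and Rf_* and the derived pullbacks to the points Spec κ(y) ⟶ Y being assumed to exist:
if the function y ↦ dim_{κ(y)} H^p(Rf_* E ⊗^L κ(y)) is locally constant on Y, then the functor M ↦
R^p f_*(Lf^* M ⊗^L F) is exact on the full subcategory of quasi-coherent O_Y-modules (preserves
finite limits and finite colimits there). (The published statement is for a proper morphism of
quasi-compact schemes under the finiteness property for proper pseudo-coherent direct images, which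
holds over a Noetherian base; it writes the functor as M ↦ R^p f_*(E ⊗^L Lf^* M), and this row takes
the derived tensor product with F as the fixed right-hand factor.) -/
theorem result {X Y : Scheme.{u}} [IsNoetherian Y]
    [IsReduced Y] (f : X ⟶ Y) [IsProper f] (F : CochainComplex X.Modules ℤ) (a b : ℤ)
    [(DCoh.toD X F).IsGE a] [(DCoh.toD X F).IsLE b] (hF : DerSch.IsPerfectRel f F) (p : ℤ)
    [DCoh.HasLpull f] [DCoh.HasLTensorCx F] [DCoh.HasRpush f]
    [∀ y : Y, DCoh.HasLpull (Y.fromSpecResidueField y)]
    (hc : IsLocallyConstant (fun y : Y => PerfD.betti ((DCoh.Rpush f).obj (DCoh.toD X F)) y p)) :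
    PreservesFiniteLimits ((QCohCat.isQCoh Y).ι ⋙ DerivedCategory.singleFunctor Y.Modules 0 ⋙ DCoh.Lpull f ⋙ DCoh.LTensorCx F ⋙ DCoh.Rpush f ⋙ DerivedCategory.homologyFunctor Y.Modules p) ∧ PreservesFiniteColimits ((QCohCat.isQCoh Y).ι ⋙ DerivedCategory.singleFunctor Y.Modules 0 ⋙ DCoh.Lpull f ⋙ DCoh.LTensorCx F ⋙ DCoh.Rpush f ⋙ DerivedCategory.homologyFunctor Y.Modules p) := by
  haveI := LocallyOfFiniteType.isLocallyNoetherian f
  have hq : DCoh.IsQCohD (DCoh.toD X F) := fun i => (Exact7.isCoh_HD_of_rel hF.1 i).1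
  obtain ⟨C, R, β, hβ, hR, hfl, ⟨eC⟩, he⟩ := Exact7.exists_rpush_hom_iso f F hq
  haveI := hβ
  obtain ⟨e⟩ := he p
  have hpc := (Exact7.locPC_rpush_of_rel f (DCoh.toD X F) a b hF.1 (p - 1)).of_iso eC.symm
  have hc' : IsLocallyConstant fun y : Y => PerfD.betti (DCoh.toD Y C) y p :=
    (funext fun y => Exact7.betti_congr eC y p : (fun y : Y => PerfD.betti (DCoh.toD Y C) y p) = _) ▸ hc
  obtain ⟨hl, hr⟩ := Exact7.exact_of_betti β hR hfl p hpc hc'
  haveI := hl
  haveI := hr
  haveI : PreservesFiniteLimits (QCohCat.isQCoh Y).ι := QCohSupX.preservesFiniteLimits_ι Y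
  haveI : PreservesColimitsOfSize.{0, 0} (QCohCat.isQCoh Y).ι :=
    haveI := QCohSupX.preservesColimits_ι Y
    preservesColimitsOfSize_shrink.{0, u, 0, u} _
  haveI : PreservesFiniteColimits (QCohCat.isQCoh Y).ι := ⟨fun _ => inferInstance⟩
  haveI := comp_preservesFiniteLimits (QCohCat.isQCoh Y).ι (Exact7.hom' (Exact7.phi DCoh.tensorBi R) p)
  haveI := comp_preservesFiniteColimits (QCohCat.isQCoh Y).ι (Exact7.hom' (Exact7.phi DCoh.tensorBi R) p)
  exact ⟨preservesFiniteLimits_of_natIso e, preservesFiniteColimits_of_natIso e⟩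

end Groth.Agent.S6252
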