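import Groth.Statements.S6254
import Groth.Agent.Exact7.Site
import Groth.Agent.Exact7.Opcycles

set_option autoImplicit false
universe u
open CategoryTheory CategoryTheory.Limits AlgebraicGeometry
attribute [local instance] HasDerivedCategory.standard
open KSix

namespace Groth.Agent.S6254

set_option linter.style.haveILetI false
set_option maxHeartbeats 1000000

/-- Let (C, J, O) be a small site with a sheaf of commutative rings O, p an integer, and E a bounded
above cochain complex of FLAT O-modules (termwise zero above some degree). Then, the derived tensor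
product − ⊗^L_O E being assumed to exist, the functor M ↦ H^p(M ⊗^L E) from Mod(O) to Mod(O) is
right exact if and only if the cokernel of the differential E^p ⟶ E^{p+1} is a flat O-module. (The
published statement is for a commutative ringed topos and writes E ⊗^L M; this row is the topos of
sheaves on a small site, with the derived tensor product taken with E as the fixed right-hand
factor.) -/
theorem result {C : Type u} [SmallCategory C]
    {J : GrothendieckTopology C} (O : Sheaf J CommRingCat.{u}) (E : CochainComplex (ModSite.Mod O) ℤ)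
    (e : ℤ) (hEb : ∀ i : ℤ, e < i → IsZero (E.X i)) (hEf : ∀ i : ℤ, ModSite.IsFlat (E.X i)) (p : ℤ)
    [ModSite.HasLTensorCx E] :
    PreservesFiniteColimits (DerivedCategory.singleFunctor (ModSite.Mod O) 0 ⋙ ModSite.LTensorCx E ⋙ DerivedCategory.homologyFunctor (ModSite.Mod O) p) ↔ ModSite.IsFlat (cokernel (E.d p (p + 1))) := by
  haveI : E.IsStrictlyLE e := (CochainComplex.isStrictlyLE_iff E e).2 hEb
  obtain ⟨e₁⟩ := Exact7.site_homology_iso (𝟙 E) (ModTensor.isKFlat_of_isStrictlyLE E e hEf) p
  have hΦ := Exact7.site_shortExact_phi E hEf
  have h₁ : PreservesFiniteColimits (DerivedCategory.singleFunctor (ModSite.Mod O) 0 ⋙ ModSite.LTensorCx E ⋙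
      DerivedCategory.homologyFunctor (ModSite.Mod O) p) ↔
      PreservesFiniteColimits (Exact7.hom' (Exact7.phi (ModSite.tensorBi O) E) p) :=
    ⟨fun _ => preservesFiniteColimits_of_natIso e₁, fun _ => preservesFiniteColimits_of_natIso e₁.symm⟩
  refine h₁.trans ((Exact7.rightExact_iff_leftExact_succ hΦ p (p + 1) rfl).trans
    ((Exact7.leftExact_phi_iff (ModSite.tensorBi O) E hΦ (p + 1)).trans ?_))
  let c : E.opcycles (p + 1) ≅ cokernel (E.d p (p + 1)) :=
    (E.opcyclesIsCokernel p (p + 1) (by simp)).coconePointUniqueUpToIso (colimit.isColimit _)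
  exact (ModTensor.isFlat_iff_mono _).symm.trans
    ⟨ModTensor.isFlat_of_iso c, ModTensor.isFlat_of_iso c.symm⟩

end Groth.Agent.S6254
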