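import Groth.Statements.S6260
import Groth.Agent.PerfGen7.ExtTensor
import Groth.Agent.S6235
import Groth.Agent.PerfGen7.RelComp

set_option autoImplicit false
set_option backward.isDefEq.respectTransparency false
set_option backward.isDefEq.respectTransparency.types false
universe u
open CategoryTheory CategoryTheory.Limits AlgebraicGeometry
attribute [local instance] HasDerivedCategory.standard
open KSix

namespace Groth.Agent.S6260

/-- Let S be a scheme and, for i = 1, 2, f_i : X_i ⟶ Y_i a morphism of S-schemes (structure morphisms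
q_i : Y_i ⟶ S), with X₂ and Y₂ flat over S; let X = X₁ ×_S X₂ and Y = Y₁ ×_S Y₂ be given by pullback
squares, with projections p₁ : X ⟶ X₁, p₂ : X ⟶ X₂, and f : X ⟶ Y the morphism compatible with the
projections. If f₁ and f₂ are locally of finite type and pseudo-coherent (their structure sheaves in
degree 0 are n-pseudo-coherent relative to them for every n, in chart form), then f = f₁ ×_S f₂ is
pseudo-coherent. (The published statement assumes only that X₁, X₂ and Y₁, Y₂ are tor-independent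
over S; this row takes X₂ and Y₂ flat over S, which implies both conditions.) -/
theorem result {S X₁ Y₁ X₂ Y₂ X Y : Scheme.{u}} (f₁ : X₁ ⟶ Y₁) (q₁ : Y₁ ⟶ S)
    (f₂ : X₂ ⟶ Y₂) (q₂ : Y₂ ⟶ S) [Flat q₂] [Flat (f₂ ≫ q₂)]
    (pX₁ : X ⟶ X₁) (pX₂ : X ⟶ X₂) (hX : IsPullback pX₁ pX₂ (f₁ ≫ q₁) (f₂ ≫ q₂))
    (pY₁ : Y ⟶ Y₁) (pY₂ : Y ⟶ Y₂) (hY : IsPullback pY₁ pY₂ q₁ q₂)
    (f : X ⟶ Y) (hf₁ : f ≫ pY₁ = pX₁ ≫ f₁) (hf₂ : f ≫ pY₂ = pX₂ ≫ f₂)
    [LocallyOfFiniteType f₁] [LocallyOfFiniteType f₂]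
    (h₁ : ∀ n : ℤ, DerSch.IsNPseudoCoherent f₁ n) (h₂ : ∀ n : ℤ, DerSch.IsNPseudoCoherent f₂ n) (n : ℤ) :
    DerSch.IsNPseudoCoherent f n := by
  obtain ⟨T, a, b, p₁, p₂, hA, hq, hB, hab, -⟩ := Groth.Agent.PerfGen7.ExtTensor.exists_factor hX hY hf₁ hf₂
  haveI : Flat pY₁ := MorphismProperty.of_isPullback hY.flip ‹Flat q₂›
  haveI : LocallyOfFiniteType b := MorphismProperty.of_isPullback hB ‹LocallyOfFiniteType f₁›
  haveI : LocallyOfFiniteType a := MorphismProperty.of_isPullback hA ‹LocallyOfFiniteType f₂›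
  haveI := Groth.Agent.KFlatLib.hasLpull pX₂
  obtain ⟨u₂⟩ := Groth.Agent.PerfGen7.nonempty_lpull_unit pX₂
  subst hab
  have hb : ∀ k, DerSch.IsNPseudoCoherent b k := fun k =>
    Groth.Agent.PerfGen7.isNPseudoCoherent_baseChange hB (h₁ k)
  exact (Groth.Agent.PerfGen7.rel_comp_iff a b hb _).2 (Groth.Agent.PerfGen7.rel_of_iso u₂
    (Groth.Agent.PerfGen7.TorIndep.rel_lpull_of_flat hA hq (Groth.Agent.S6235.result f₂ _ h₂) (h₂ n)))

end Groth.Agent.S6260
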