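import Groth.Statements.S6334
import Groth.Agent.H1Fields.InsepTower

set_option autoImplicit false
universe u
open Fields

namespace Groth.Agent.S6334

open IntermediateField in
/-- Let E/F be a finite purely inseparable extension of fields of characteristic p > 0. Then there are
elements a_1, ..., a_n of E generating E over F such that for each i the p-th power of a_i lies in
F(a_1, ..., a_{i-1}) while a_i itself does not (so each step adjoins a p-th root and has degree p);
in particular [E : F] = p ^ n. -/
theorem result {F E : Type u} [Field F] [Field E] [Algebra F E] (p : ℕ)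
    [Fact p.Prime] [CharP F p] [FiniteDimensional F E] [IsPurelyInseparable F E] :
    ∃ (n : ℕ) (a : Fin n → E), adjoin F (Set.range a) = ⊤ ∧
      (∀ i : Fin n, a i ^ p ∈ adjoin F (a '' {j | j < i}) ∧ a i ∉ adjoin F (a '' {j | j < i})) ∧
      Module.finrank F E = p ^ n := by
  obtain ⟨n, a, h1, h2, h3⟩ := H1Fields.exists_tower p (Module.finrank F E) (⊥ : IntermediateField F E) (Nat.sub_le _ _)
  have h : ∀ S : Set E, adjoin F (((⊥ : IntermediateField F E) : Set E) ∪ S) = adjoin F S := fun S => by
    refine le_antisymm (adjoin_le_iff.mpr (Set.union_subset ?_ (subset_adjoin F S))) (adjoin.mono F _ _ Set.subset_union_right)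
    intro x hx
    exact (bot_le : (⊥ : IntermediateField F E) ≤ adjoin F S) hx
  simp only [h] at h1 h2
  exact ⟨n, a, h1, h2, by rw [h3, IntermediateField.finrank_bot, mul_one]⟩

end Groth.Agent.S6334
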