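import Groth.Statements.S6363
import Mathlib

set_option autoImplicit false
universe u
open scoped TensorProduct
open Fields

namespace Groth.Agent.S6363

/-- For a finite field extension L/K and a normal closure M of L/K, some K-algebra homomorphism from the
n-fold tensor power L ⊗_K ⋯ ⊗_K L to M is surjective, where n = [L : K]_s is the separable degree
(so n ≤ [L : K]). -/
theorem result {K L M : Type u} [Field K] [Field L] [Field M]
    [Algebra K L] [Algebra K M] [Algebra L M] [IsScalarTower K L M] [FiniteDimensional K L]
    [IsNormalClosure K L M] :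
    ∃ f : (⨂[K] _ : Fin (Field.finSepDegree K L), L) →ₐ[K] M, Function.Surjective f := by
  classical
  haveI hN : Normal K M := IsNormalClosure.normal (F := K) (K := L) (L := M)
  obtain ⟨hsplit, htop⟩ := (Algebra.IsAlgebraic.isNormalClosure_iff (F := K) (K := L) (L := M)).1 inferInstance
  let Ω := AlgebraicClosure M
  let e₁ : (L →ₐ[K] M) ≃ (L →ₐ[K] Ω) := Algebra.IsAlgebraic.algHomEquivAlgHomOfSplits Ω M hsplit
  have hcard : Field.finSepDegree K L = Nat.card (L →ₐ[K] M) :=
    (Field.finSepDegree_eq_of_isAlgClosed K L Ω).trans (Nat.card_congr e₁.symm)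
  let e : Fin (Field.finSepDegree K L) ≃ (L →ₐ[K] M) := (finCongr hcard).trans (Finite.equivFin _).symm
  let m : MultilinearMap K (fun _ : Fin (Field.finSepDegree K L) => L) M :=
    (MultilinearMap.mkPiAlgebra K (Fin (Field.finSepDegree K L)) M).compLinearMap (fun i => (e i).toLinearMap)
  let f := PiTensorProduct.liftAlgHom m (by simp [m]) (fun x y => by simp [m, Finset.prod_mul_distrib])
  refine ⟨f, fun z => ?_⟩
  let S : Subalgebra K M := f.range
  have hle : IntermediateField.normalClosure K L M ≤ S.toIntermediateField' (Subalgebra.isField_of_algebraic S) := by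
    rw [normalClosure_def]
    refine iSup_le fun φ => ?_
    rintro _ ⟨a, rfl⟩
    refine ⟨PiTensorProduct.singleAlgHom (e.symm φ) a, ?_⟩
    show f (PiTensorProduct.singleAlgHom (e.symm φ) a) = φ a
    simp only [f, PiTensorProduct.liftAlgHom_apply, PiTensorProduct.singleAlgHom_apply, PiTensorProduct.lift.tprod, m,
      MultilinearMap.compLinearMap_apply, MultilinearMap.mkPiAlgebra_apply]
    rw [Finset.prod_eq_single (e.symm φ)]
    · simp
    · intro b _ hb; simp [MonoidHom.mulSingle_apply, Pi.mulSingle_eq_of_ne hb]
    · intro h; exact absurd (Finset.mem_univ _) h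
  rw [htop] at hle
  exact hle (IntermediateField.mem_top (x := z))

end Groth.Agent.S6363
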