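import Groth.Statements.S6387
import Groth.Agent.H1FibInj.Exact
import Mathlib
set_option backward.isDefEq.respectTransparency false
set_option backward.isDefEq.respectTransparency.types false
set_option maxHeartbeats 1000000
set_option linter.style.haveILetI false
open TensorProduct

set_option autoImplicit false
universe u
open CategoryTheory
open CAlg

namespace Groth.Agent.S6387

/-- Let R and S be Noetherian local rings, R → S a local ring map, and m the maximal ideal of R. Take a
bounded complex F_e → … → F_1 → F_0 of finitely generated S-modules, zero to the left of F_e (a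
chain complex C with C_j = 0 for j > e) such that every F_j is flat over R and the complex 0 →
F_e/mF_e → … → F_0/mF_0 (C tensored over S with S/mS) is exact at F_e, …, F_1. Then 0 → F_e → … →
F_0 is exact at F_e, …, F_1 and the cokernel of F_1 → F_0 (the homology of C in degree 0) is flat
over R. -/
theorem result {R S : Type u} [CommRing R] [CommRing S]
    [IsLocalRing R] [IsLocalRing S] [IsNoetherianRing R] [IsNoetherianRing S] [Algebra R S]
    [IsLocalHom (algebraMap R S)] (C : ChainComplex (ModuleCat.{u} S) ℕ) (e : ℕ)
    (hzero : ∀ j, e < j → Limits.IsZero (C.X j)) (hfin : ∀ j, Module.Finite S (C.X j))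
    (hflat : ∀ j, Module.Flat R ((ModuleCat.restrictScalars (algebraMap R S)).obj (C.X j)))
    (hex : ∀ j, 1 ≤ j → j ≤ e →
      (((MonoidalCategory.tensorLeft
          (ModuleCat.of S (S ⧸ (IsLocalRing.maximalIdeal R).map (algebraMap R S)))).mapHomologicalComplex
          (ComplexShape.down ℕ)).obj C).ExactAt j) :
    (∀ j, 1 ≤ j → j ≤ e → C.ExactAt j) ∧
      Module.Flat R ((ModuleCat.restrictScalars (algebraMap R S)).obj (C.homology 0)) := by
  haveI := hfin
  letI iM : ∀ j, Module R (C.X j) := fun j => Module.compHom _ (algebraMap R S)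
  haveI iT : ∀ j, IsScalarTower R S (C.X j) := fun j => IsScalarTower.of_algebraMap_smul fun _ _ => rfl
  haveI iF : ∀ j, Module.Flat R (C.X j) := fun j => hflat j
  let P : ℕ → Prop := fun j => C.ExactAt (j + 1) ∧
    Module.Flat R (C.X j ⧸ LinearMap.range (((C.d (j + 1) j).hom).restrictScalars R))
  have key : ∀ j, j + 1 ≤ e → P j := fun j hj => by
    let a := (C.d (j + 2) (j + 1)).hom
    let c := (C.d (j + 1) j).hom
    have hle : LinearMap.range a ≤ LinearMap.ker c := by
      rintro _ ⟨x, rfl⟩
      exact congrArg (fun φ => φ.hom x) (C.d_comp_d (j + 2) (j + 1) j)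
    let u := (LinearMap.range a).liftQ c hle
    have hu : Function.Injective (u.lTensor (S ⧸ (IsLocalRing.maximalIdeal R).map (algebraMap R S))) := by
      rw [H1FibInj.injective_iff_ker_le_range (a.lTensor _) ((LinearMap.range a).mkQ.lTensor _) _
        (lTensor_exact _ (LinearMap.exact_map_mkQ_range a) (Submodule.mkQ_surjective _))
        (LinearMap.lTensor_surjective _ (Submodule.mkQ_surjective _)), ← LinearMap.lTensor_comp, Submodule.liftQ_mkQ]
      intro z hz
      have h := hex (j + 1) (by omega) hj
      rw [HomologicalComplex.exactAt_iff' _ (j + 2) (j + 1) j (by simp) (by simp), ShortComplex.moduleCat_exact_iff] at h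
      obtain ⟨y, hy⟩ := h z hz
      exact ⟨y, hy⟩
    obtain ⟨hinj, hfl⟩ := H1FibInj.local_criterion (A := R) (L := S) u hu
    refine ⟨?_, ?_⟩
    · rw [HomologicalComplex.exactAt_iff' C (j + 2) (j + 1) j (by simp) (by simp), ShortComplex.moduleCat_exact_iff]
      intro x hx
      exact LinearMap.mem_range.1 ((Submodule.Quotient.mk_eq_zero _).1
        (hinj (show u (Submodule.Quotient.mk x) = u 0 by rw [map_zero]; exact hx)))
    · haveI := hfl
      refine Module.Flat.of_linearEquiv (Submodule.quotEquivOfEq _
        (LinearMap.range (u.restrictScalars R)) ?_)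
      ext x
      constructor
      · rintro ⟨y, rfl⟩; exact ⟨Submodule.Quotient.mk y, rfl⟩
      · rintro ⟨y, rfl⟩
        obtain ⟨y, rfl⟩ := Submodule.Quotient.mk_surjective _ y
        exact ⟨y, rfl⟩
  refine ⟨fun j h1 h2 => ?_, ?_⟩
  · obtain ⟨j, rfl⟩ := Nat.exists_eq_add_of_le h1
    rw [add_comm 1 j]
    exact (key j (by omega)).1
  · have hflat0 : Module.Flat R (C.X 0 ⧸ LinearMap.range (((C.d 1 0).hom).restrictScalars R)) := by
      rcases Nat.eq_zero_or_pos e with rfl | he
      · refine Module.Flat.of_linearEquiv (Submodule.quotEquivOfEqBot _ ?_)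
        haveI := ModuleCat.subsingleton_of_isZero (hzero 1 one_pos)
        rw [eq_bot_iff]
        rintro _ ⟨x, rfl⟩
        rw [Submodule.mem_bot, Subsingleton.elim x 0, map_zero]
      · exact (key 0 he).2
    haveI := hflat0
    have hπs : Function.Surjective (C.homologyπ 0).hom := (ModuleCat.epi_iff_surjective _).1 inferInstance
    have hcyc : Function.Bijective (C.iCycles 0).hom := by
      haveI : IsIso (C.iCycles 0) := C.isIso_iCycles 0 _ rfl (C.shape _ _ (by simp))
      exact (ConcreteCategory.bijective_of_isIso (C.iCycles 0))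
    let e₀ := LinearEquiv.ofBijective _ hcyc
    let π : C.X 0 →ₗ[S] C.homology 0 := (C.homologyπ 0).hom ∘ₗ e₀.symm.toLinearMap
    have hker : LinearMap.ker π = LinearMap.range (C.d 1 0).hom := by
      have hex' : (ShortComplex.mk _ _ (C.toCycles_comp_homologyπ 1 0)).Exact :=
        ShortComplex.exact_of_g_is_cokernel _ (C.homologyIsCokernel 1 0 (by simp))
      rw [ShortComplex.moduleCat_exact_iff] at hex'
      have hti : ∀ y, (C.iCycles 0).hom ((C.toCycles 1 0).hom y) = (C.d 1 0).hom y := fun y =>
        congrArg (fun φ => φ.hom y) (C.toCycles_i 1 0)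
      ext x
      constructor
      · intro hx
        obtain ⟨y, hy⟩ := hex' (e₀.symm x) hx
        refine ⟨y, ?_⟩
        rw [← hti, show (C.toCycles 1 0).hom y = e₀.symm x from hy]
        exact e₀.apply_symm_apply x
      · rintro ⟨y, rfl⟩
        show (C.homologyπ 0).hom (e₀.symm ((C.d 1 0).hom y)) = 0
        rw [← hti, show e₀.symm ((C.iCycles 0).hom ((C.toCycles 1 0).hom y)) = (C.toCycles 1 0).hom y from
          e₀.symm_apply_apply _]
        exact congrArg (fun φ => φ.hom y) (C.toCycles_comp_homologyπ 1 0)
    let E : (C.X 0 ⧸ LinearMap.range (C.d 1 0).hom) ≃ₗ[S] C.homology 0 :=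
      (Submodule.quotEquivOfEq _ _ hker.symm).trans (π.quotKerEquivOfSurjective (hπs.comp e₀.symm.surjective))
    letI : Module R (C.homology 0) := Module.compHom _ (algebraMap R S)
    haveI : IsScalarTower R S (C.homology 0) := IsScalarTower.of_algebraMap_smul fun _ _ => rfl
    show Module.Flat R (C.homology 0)
    exact Module.Flat.of_linearEquiv (M := C.X 0 ⧸ LinearMap.range (((C.d 1 0).hom).restrictScalars R)) ((E.restrictScalars R).symm.trans ((Submodule.Quotient.restrictScalarsEquiv R _).symm.trans (Submodule.quotEquivOfEq _ _ (LinearMap.range_restrictScalars (C.d 1 0).hom).symm)))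

end Groth.Agent.S6387
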