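import Groth.Statements.S6434
import Groth.Agent.S6433
import Mathlib

set_option autoImplicit false
open CategoryTheory
universe v u v' u'
open CatLoc

namespace Groth.Agent.S6434


variable {C : Type u} [Category.{v} C] {D : Type u'} [Category.{v'} D] (W : MorphismProperty C)
  (L : C ⥤ D) [L.IsLocalization W] [W.HasLeftCalculusOfFractions]

include L in
lemma exists_postcomp {ι : Type} [Finite ι] {X : ι → C} {Y : C} (u v : ∀ a, X a ⟶ Y)
    (h : ∀ a, L.map (u a) = L.map (v a)) :
    ∃ (Y' : C) (τ : Y ⟶ Y') (_ : W τ), ∀ a, u a ≫ τ = v a ≫ τ := by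
  classical
  cases nonempty_fintype ι
  suffices key : ∀ S : Finset ι, ∃ (Y' : C) (τ : Y ⟶ Y') (_ : W τ), ∀ a ∈ S, u a ≫ τ = v a ≫ τ by
    obtain ⟨Y', τ, hτ, h⟩ := key Finset.univ
    exact ⟨Y', τ, hτ, fun a => h a (Finset.mem_univ a)⟩
  intro S
  induction S using Finset.induction with
  | empty => exact ⟨Y, 𝟙 Y, W.id_mem Y, by simp⟩
  | insert a S _ ih =>
    obtain ⟨Y', τ, hτ, hS⟩ := ih
    obtain ⟨Y'', τ', hτ', e⟩ :=
      (MorphismProperty.map_eq_iff_postcomp L W (u a ≫ τ) (v a ≫ τ)).1 (by simp [h a])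
    refine ⟨Y'', τ ≫ τ', W.comp_mem _ _ hτ hτ', fun b hb => ?_⟩
    rcases Finset.mem_insert.1 hb with rfl | hb
    · simpa using e
    · rw [reassoc_of% (hS b hb)]


/-- The localization functor at a left multiplicative system commutes with finite colimits. -/
theorem result {C : Type u} [Category.{v} C] {D : Type u'} [Category.{v'} D] (W : MorphismProperty C) (L : C ⥤ D) [L.IsLocalization W] [W.HasLeftCalculusOfFractions] :
    Limits.PreservesFiniteColimits L := by
  refine ⟨fun J _ _ => ⟨fun {K} => ⟨fun {c} hc => ⟨?_⟩⟩⟩⟩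
  have := Localization.essSurj L W
  have hinv := Localization.inverts L W
  -- uniqueness of maps out of `L.obj c.pt`
  have huniq : ∀ {Z : D} (m m' : L.obj c.pt ⟶ Z),
      (∀ j, L.map (c.ι.app j) ≫ m = L.map (c.ι.app j) ≫ m') → m = m' := by
    intro Z m m' hm
    let e := L.objObjPreimageIso Z
    obtain ⟨Y', σ, hσ, f, hf⟩ := Groth.Agent.S6433.result W L (fun _ : Fin 2 => c.pt)
      (L.objPreimage Z) ![m ≫ e.inv, m' ≫ e.inv]
    have h0 : m ≫ e.inv ≫ L.map σ = L.map (f 0) := by simpa using hf 0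
    have h1 : m' ≫ e.inv ≫ L.map σ = L.map (f 1) := by simpa using hf 1
    obtain ⟨Y'', τ, hτ, hh⟩ := exists_postcomp W L (fun j => c.ι.app j ≫ f 0)
      (fun j => c.ι.app j ≫ f 1) (fun j => by
        simp only [L.map_comp, ← h0, ← h1]
        rw [← Category.assoc, hm j, Category.assoc])
    have hh' : f 0 ≫ τ = f 1 ≫ τ := hc.hom_ext fun j => by simpa using hh j
    have : IsIso (L.map σ) := hinv σ hσ
    have : IsIso (L.map τ) := hinv τ hτ
    rw [← cancel_mono e.inv, ← cancel_mono (L.map σ), Category.assoc, Category.assoc, h0, h1,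
      ← cancel_mono (L.map τ), ← L.map_comp, ← L.map_comp, hh']
  -- existence of maps out of `L.obj c.pt`
  have hex : ∀ s : Limits.Cocone (K ⋙ L), ∃ m : L.obj c.pt ⟶ s.pt,
      ∀ j, L.map (c.ι.app j) ≫ m = s.ι.app j := by
    intro s
    let e := L.objObjPreimageIso s.pt
    obtain ⟨Y', σ, hσ, f, hf⟩ := Groth.Agent.S6433.result W L (fun j => K.obj j)
      (L.objPreimage s.pt) (fun j => s.ι.app j ≫ e.inv)
    have : IsIso (L.map σ) := hinv σ hσ
    obtain ⟨Y'', τ, hτ, hh⟩ := exists_postcomp W L (ι := Σ p : J × J, p.1 ⟶ p.2)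
      (fun a => K.map a.2 ≫ f a.1.2) (fun a => f a.1.1) (fun a => by
        rw [L.map_comp, ← hf a.1.2, ← hf a.1.1, ← s.w a.2]
        simp)
    have : IsIso (L.map τ) := hinv τ hτ
    let s' : Limits.Cocone K :=
      { pt := Y''
        ι := { app := fun j => f j ≫ τ
               naturality := fun i j a => by simpa using hh ⟨(i, j), a⟩ } }
    refine ⟨L.map (hc.desc s') ≫ inv (L.map τ) ≫ inv (L.map σ) ≫ e.hom, fun j => ?_⟩
    rw [← L.map_comp_assoc, hc.fac]
    simp only [s', L.map_comp, Category.assoc, IsIso.hom_inv_id_assoc, ← hf j]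
    simp
  choose d hd using hex
  exact
    { desc := d
      fac := hd
      uniq := fun s m hm => huniq _ _ fun j => (hm j).trans (hd s j).symm }

end Groth.Agent.S6434
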