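import Groth.Statements.S6453
import Groth.Agent.IntMultCartier.Basic
import Groth.Agent.H23.TopDim
-- import your own Groth.Agent.* helpers here

set_option autoImplicit false
set_option backward.isDefEq.respectTransparency false
set_option backward.isDefEq.respectTransparency.types false
set_option linter.style.haveILetI false
set_option maxHeartbeats 1000000
universe u
open CategoryTheory AlgebraicGeometry
attribute [local instance] HasDerivedCategory.standard
open IntMult

namespace Groth.Agent.S6453
open Groth.Agent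

/-- Suppose the ideal of V in O_{X,ξ} is generated by a single nonzerodivisor g (c = 1: V is an
effective Cartier divisor at ξ). Then e(X, V·W, Z) = length_{O_{X,ξ}}(O_{W,ξ}/g O_{W,ξ}), i.e. the
length of O_{X,ξ}/(I_{W,ξ} + (g)). Here X is a nonsingular variety over an algebraically closed
field K (smooth, separated, quasi-compact, integral), V and W are closed subvarieties given by
quasi-coherent ideal sheaves with integral subschemes, of dimensions r and s with dim X = n,
intersecting properly, and ξ is the generic point of an irreducible component Z of V ∩ W (a point of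
V ∩ W maximal under specialization); e(X, V·W, Z) = IntMult.mult is the alternating sum of lengths
of Tor over O_{X,ξ}, and O_{W,ξ} = O_{X,ξ}/I_{W,ξ}. -/
theorem result (K : Type u) [Field K] [IsAlgClosed K] (X : Scheme.{u}) (f : X ⟶ Spec (CommRingCat.of K)) [Smooth f] [IsSeparated f] [QuasiCompact f] [IsIntegral X] (IV IW : X.IdealSheafData) [IsIntegral IV.subscheme] [IsIntegral IW.subscheme] (n r s : ℕ) (hn : topologicalKrullDim X = n) (hr : topologicalKrullDim IV.support = r) (hs : topologicalKrullDim IW.support = s) (hprop : IntMult.ProperInt (IV.support : Set X) (IW.support : Set X) n r s) (ξ : X) (hξV : ξ ∈ IV.support) (hξW : ξ ∈ IW.support) (hmax : ∀ ξ' : X, ξ' ∈ IV.support → ξ' ∈ IW.support → ξ' ⤳ ξ → ξ' = ξ) (g : ↑(X.presheaf.stalk ξ)) (hg : IntMult.stalkIdeal IV ξ = Ideal.span {g}) (hreg : IsSMulRegular (↑(X.presheaf.stalk ξ)) g) : (IntMult.mult IV IW ξ : ℤ) = (Module.length (X.presheaf.stalk ξ) (↑(X.presheaf.stalk ξ) ⧸ (IntMult.stalkIdeal IW ξ ⊔ Ideal.span {g}))).toNat := by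
  haveI : IsLocallyNoetherian X := LocallyOfFiniteType.isLocallyNoetherian f
  haveI := Groth.Agent.IntMultCartier.stalkIdeal_isPrime IV hξV
  haveI := Groth.Agent.IntMultCartier.stalkIdeal_isPrime IW hξW
  have hgW : g ∉ IntMult.stalkIdeal IW ξ := by
    intro hgW
    obtain ⟨U₀, hU₀, hξU, -⟩ := exists_isAffineOpen_mem_and_subset (U := (⊤ : X.Opens)) (x := ξ) trivial
    let U : X.affineOpens := ⟨U₀, hU₀⟩
    have hle : IV.ideal U ≤ IW.ideal U := by
      refine Groth.Agent.IntMultCartier.ideal_le_of_stalkIdeal_le IV U hξU IW hξW ?_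
      rw [hg, Ideal.span_le, Set.singleton_subset_iff]
      exact hgW
    let η : PrimeSpectrum Γ(X, (U : X.Opens)) :=
      ⟨IW.ideal U, Groth.Agent.IntMultCartier.ideal_isPrime IW U hξW hξU⟩
    have hηξ : hU₀.fromSpec η ⤳ ξ := by
      have h1 : η ⤳ hU₀.primeIdealOf ⟨ξ, hξU⟩ :=
        (PrimeSpectrum.le_iff_specializes η _).1
          (Groth.Agent.IntMultCartier.ideal_le_primeIdealOf IW U hξU hξW)
      have h2 := h1.map hU₀.fromSpec.continuous
      rwa [hU₀.fromSpec_primeIdealOf] at h2
    have hηe : hU₀.fromSpec η = ξ := hmax _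
      ((Groth.Agent.IntMultCartier.fromSpec_mem_support_iff IV U η).2 hle)
      ((Groth.Agent.IntMultCartier.fromSpec_mem_support_iff IW U η).2 le_rfl) hηξ
    haveI hWirr : IrreducibleSpace IW.subscheme := inferInstance
    have hWirr' : IsIrreducible (IW.support : Set X) := by
      rw [← IW.range_subschemeι, ← Set.image_univ]
      exact (IrreducibleSpace.isIrreducible_univ IW.subscheme).image _ IW.subschemeι.continuous.continuousOn
    have hdense : (IW.support : Set X) ⊆ closure ((IW.support : Set X) ∩ (U : X.Opens)) :=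
      subset_closure_inter_of_isPreirreducible_of_isOpen hWirr'.2 (U : X.Opens).isOpen ⟨ξ, hξW, hξU⟩
    have hsub : (IW.support : Set X) ∩ (U : X.Opens) ⊆ (IV.support : Set X) := by
      rintro z ⟨hzW, hzU⟩
      have hz := Groth.Agent.IntMultCartier.ideal_le_primeIdealOf IW U hzU hzW
      have := (Groth.Agent.IntMultCartier.fromSpec_mem_support_iff IV U (hU₀.primeIdealOf ⟨z, hzU⟩)).2
        (hle.trans hz)
      rwa [hU₀.fromSpec_primeIdealOf] at this
    have hWV : (IW.support : Set X) ⊆ (IV.support : Set X) :=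
      hdense.trans (closure_minimal hsub IV.support.isClosed)
    obtain ⟨h1, h2⟩ := hprop ⟨ξ, hξV, hξW⟩
    rw [Set.inter_eq_right.2 hWV] at h2
    have h3 : s ≤ r + s - n := by
      have h4 := hs.symm.trans_le h2
      exact_mod_cast h4
    have hnr : n ≤ r := by omega
    have hVall : (IV.support : Set X) = Set.univ := by
      by_contra hne
      have hlt := Groth.Agent.H23.TopDim.dim_lt_of_ssubset (X := X)
        (by rw [hn]; exact WithBot.coe_lt_coe.2 (ENat.coe_lt_top n) |>.ne) IV.support.isClosed hne
      rw [hn] at hlt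
      have := hr.symm.trans_lt hlt
      have : r < n := by exact_mod_cast this
      omega
    haveI : Nonempty (U : X.Opens) := ⟨⟨ξ, hξU⟩⟩
    have hbot : IV.ideal U = ⊥ := by
      refine le_bot_iff.1 ((Groth.Agent.IntMultCartier.fromSpec_mem_support_iff IV U ⟨⊥, Ideal.isPrime_bot⟩).1 ?_)
      exact hVall.ge (Set.mem_univ _)
    have hg0 : g = 0 := by
      have h4 := hg
      rw [Groth.Agent.IntMultCartier.stalkIdeal_eq IV U hξU, hbot, Ideal.map_bot] at h4
      exact Ideal.span_singleton_eq_bot.1 h4.symm
    subst hg0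
    exact one_ne_zero (hreg (show (0 : X.presheaf.stalk ξ) • (1 : X.presheaf.stalk ξ) = (0 : X.presheaf.stalk ξ) • 0 by simp))
  have hreg' : IsSMulRegular ((X.presheaf.stalk ξ) ⧸ IntMult.stalkIdeal IW ξ)
      (Ideal.Quotient.mk (IntMult.stalkIdeal IW ξ) g) := by
    haveI : IsDomain ((X.presheaf.stalk ξ) ⧸ IntMult.stalkIdeal IW ξ) :=
      Ideal.Quotient.isDomain _
    exact isSMulRegular_iff_right_eq_zero_of_smul.2 fun y hy =>
      (mul_eq_zero.1 hy).resolve_left fun h => hgW (Ideal.Quotient.eq_zero_iff_mem.1 h)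
  have hne : IntMult.stalkIdeal IW ξ ⊔ Ideal.span {g} ≠ ⊤ := by
    refine ne_top_of_le_ne_top (IsLocalRing.maximalIdeal.isMaximal _).ne_top (sup_le ?_ ?_)
    · exact IsLocalRing.le_maximalIdeal (Ideal.IsPrime.ne_top inferInstance)
    · rw [← hg]
      exact IsLocalRing.le_maximalIdeal (Ideal.IsPrime.ne_top inferInstance)
  unfold IntMult.mult
  rw [hg]
  exact Groth.Agent.IntMultCartier.chi_span_singleton _ g hne hreg hreg'

end Groth.Agent.S6453
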