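import Groth.Statements.S6461
import Groth.Agent.CycLib.Basic
import Groth.Agent.CycLib.Supp
import Groth.Agent.LC.ExtDim

set_option autoImplicit false
universe u
open CategoryTheory AlgebraicGeometry
open Cyc

namespace Groth.Agent.S6461

/-- If all local rings of X are Cohen–Macaulay then every x ∈ X has an open neighbourhood U and an
integer n with δ(ξ) = n for every generic point ξ of an irreducible component of U (every point of U
maximal under specialization). Here a pair (X, δ) with Cyc.IsSetup plays the role of a scheme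
locally of finite type over the base (S, δ) (X locally Noetherian with universally catenary local
rings, δ a dimension function). -/
theorem result (X : Scheme.{u}) (δ : X → ℤ) (hX : Cyc.IsSetup X δ) (hCM : ∀ x : X, LocCoh.IsCohenMacaulayLocalRing ↑(X.presheaf.stalk x)) (x : X) : ∃ (U : X.Opens) (n : ℤ), x ∈ U ∧ ∀ ξ : X, ξ ∈ U → (∀ ξ' : X, ξ' ⤳ ξ → ξ' = ξ) → δ ξ = n := by
  haveI := hX.1
  obtain ⟨V, hV, hxV, -⟩ := exists_isAffineOpen_mem_and_subset (x := x) (U := ⊤) trivial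
  haveI : IsNoetherianRing Γ(X, V) := IsLocallyNoetherian.component_noetherian ⟨V, hV⟩
  have hfin : {ξ : X | ξ ∈ V ∧ ∀ ξ' : X, ξ' ⤳ ξ → ξ' = ξ}.Finite := by
    refine (((minimalPrimes.finite_of_isNoetherianRing Γ(X, V)).preimage (f := PrimeSpectrum.asIdeal)
      fun a _ b _ h => PrimeSpectrum.ext h).image hV.fromSpec).subset ?_
    rintro ξ ⟨hξ, hmax⟩
    have e0 : hV.fromSpec (hV.primeIdealOf ⟨ξ, hξ⟩) = ξ := hV.fromSpec_primeIdealOf ⟨ξ, hξ⟩
    rw [← e0] at hmax ⊢
    refine ⟨_, ?_, rfl⟩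
    refine ⟨⟨(hV.primeIdealOf ⟨ξ, hξ⟩).isPrime, bot_le⟩, fun q hq hle => ?_⟩
    have h1 := hmax _ ((VarDim.fromSpec_specializes_iff hV (⟨q, hq.1⟩ : PrimeSpectrum Γ(X, V)) _).2 hle)
    exact (congrArg PrimeSpectrum.asIdeal (hV.fromSpec.isOpenEmbedding.injective h1)).ge
  let W : X.Opens := ⟨(V : Set X) \ ⋃ ξ ∈ {ξ : X | ξ ∈ V ∧ (∀ ξ' : X, ξ' ⤳ ξ → ξ' = ξ) ∧ ¬ ξ ⤳ x}, closure {ξ},
    V.2.sdiff ((hfin.subset fun ξ h => ⟨h.1, h.2.1⟩).isClosed_biUnion fun ξ _ => isClosed_closure)⟩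
  obtain ⟨D, hD⟩ : ∃ D : WithBot ℕ∞, D = ringKrullDim (X.presheaf.stalk x) := ⟨_, rfl⟩
  refine ⟨W, δ x + ((WithBot.unbotD 0 D).toNat : ℤ), ⟨hxV, ?_⟩, fun ξ hξ hmax => ?_⟩
  · intro h
    obtain ⟨ξ, ⟨-, -, hn⟩, hx⟩ := Set.mem_iUnion₂.1 h
    exact hn (specializes_iff_mem_closure.2 hx)
  · have h : ξ ⤳ x := by_contra fun hn => hξ.2 (Set.mem_biUnion (x := ξ) ⟨hξ.1, hmax, hn⟩ (subset_closure rfl))
    have hmin : (CDiv6.primeOf h).asIdeal ∈ minimalPrimes (X.presheaf.stalk x) := by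
      refine ⟨⟨(CDiv6.primeOf h).isPrime, bot_le⟩, fun q hq hle => ?_⟩
      have hs : X.fromSpecStalk x ⟨q, hq.1⟩ ⤳ ξ := by
        rw [← CDiv6.fromSpecStalk_primeOf h]
        exact ((PrimeSpectrum.le_iff_specializes ⟨q, hq.1⟩ (CDiv6.primeOf h)).1 hle).map (X.fromSpecStalk x).continuous
      have e := hmax _ hs
      rw [← CDiv6.fromSpecStalk_primeOf h] at e
      exact (congrArg PrimeSpectrum.asIdeal ((X.fromSpecStalk x).isEmbedding.injective e)).ge
    have hass := Module.associatedPrimes.minimalPrimes_annihilator_subset_associatedPrimes (X.presheaf.stalk x)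
      (X.presheaf.stalk x)
      (show (CDiv6.primeOf h).asIdeal ∈ (Module.annihilator (X.presheaf.stalk x) (X.presheaf.stalk x)).minimalPrimes by
        rw [Module.annihilator_eq_bot.2 inferInstance]; exact hmin)
    have h1 := LC.coheight_eq_of_ass_of_isCM (X.presheaf.stalk x) (hCM x).supportDim_eq_depth hass
    rw [Module.supportDim_self_eq_ringKrullDim, VarDim.coheight_eq_ringKrullDim_quotient,
      ← CycLib.ker_specMap h] at h1
    have h2 := (CycLib.ringKrullDim_locQuot h).symm.trans h1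
    rw [← hD] at h2
    have h3 := CycLib.cd_eq hX.2.2 h
    rw [← h2]
    show δ ξ = δ x + ((DimFormula.cd ξ x : ℕ∞).toNat : ℤ)
    rw [ENat.toNat_natCast]
    omega

end Groth.Agent.S6461
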