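import Groth.Statements.S6463
import Groth.Agent.H23.Rigid

set_option autoImplicit false
set_option backward.isDefEq.respectTransparency false
set_option backward.isDefEq.respectTransparency.types false
set_option maxHeartbeats 1000000
set_option linter.style.haveILetI false
universe u
open CategoryTheory CategoryTheory.Limits AlgebraicGeometry
open PicF

namespace Groth.Agent.S6463

/-- For a field k and a smooth projective curve X over k that has a k-rational point σ, the conditions
under which the Picard functor is computed through the section are met: f : X → Spec k is flat,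
proper and of finite presentation with a section, and O_T → f_{T,*} O_{X_T} is an isomorphism for
every scheme T over k. Only the last assertion is stated (the others are part of the hypotheses or
immediate): for every t : T → Spec k, the sheaf map of the base change X ×_k T → T is an
isomorphism. Proper replaces projective (they agree for curves over a field). -/
theorem result (k : Type u) [Field k] (X : Scheme.{u}) (f : X ⟶ Spec (CommRingCat.of k)) (hX : Curve.IsSmoothProperCurve k X f) (σ : Spec (CommRingCat.of k) ⟶ X) (hσ : σ ≫ f = 𝟙 (Spec (CommRingCat.of k))) (T : Scheme.{u}) (t : T ⟶ Spec (CommRingCat.of k)) : IsIso (pullback.snd f t).c := by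
  obtain ⟨hp, hs, hi, -⟩ := hX
  haveI := hp; haveI := hi
  have hcomp : f.appTop ≫ σ.appTop = 𝟙 _ := by
    rw [← Scheme.Hom.comp_appTop, hσ, Scheme.Hom.id_appTop]
  have hinv : ∀ a, σ.appTop (f.appTop a) = a := fun a => ConcreteCategory.congr_hom hcomp a
  letI := (isField_of_universallyClosed k f).toField
  haveI : Nontrivial Γ(Spec (CommRingCat.of k), ⊤) :=
    (Scheme.ΓSpecIso (CommRingCat.of k)).commRingCatIsoToRingEquiv.toEquiv.nontrivial
  have hσi : Function.Injective σ.appTop := σ.appTop.hom.injective
  have hv : Function.Bijective f.appTop :=
    ⟨fun a b h => by rw [← hinv a, h, hinv b], fun s => ⟨σ.appTop s, hσi (hinv _)⟩⟩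
  haveI : ∀ U, IsIso ((pullback.snd f t).c.app U) := fun U =>
    (ConcreteCategory.isIso_iff_bijective _).mpr (H23.Rigid.bijective_app_snd_of_bijective f t hv U.unop)
  exact NatIso.isIso_of_isIso_app _

end Groth.Agent.S6463
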