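import Groth.Statements.S6468
import Groth.Agent.CycK.Chi.Rat
-- import your own Groth.Agent.* helpers here

set_option autoImplicit false
universe u
open CategoryTheory AlgebraicGeometry
open Cyc
open Groth.Agent.CycK

namespace Groth.Agent.S6468

/-- The map CH_k(X) → K_0(Coh_{≤k+1}(X)/Coh_{≤k−1}(X)) is a bijection onto its image B_k(X); the content
beyond well-definedness is: if a k-cycle α = Σ n_Z [Z] has [⊕_{n_Z>0} O_Z^{n_Z}] = [⊕_{n_Z<0}
O_Z^{−n_Z}] in K_0(Coh_{≤k+1}(X)/Coh_{≤k−1}(X)) then α ∼_rat 0. K_0 of the Serre quotient is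
modelled as K_0(Coh_{≤k+1}) modulo the classes of Coh_{≤k−1} (Cyc.K0CohQuot), O_Z is the
pushed-forward structure sheaf of the reduced closure of the generic point (Cyc.cycleSheafPos/Neg).
Here a pair (X, δ) with Cyc.IsSetup plays the role of a scheme locally of finite type over the base
(S, δ) (X locally Noetherian with universally catenary local rings, δ a dimension function). -/
theorem result (X : Scheme.{u}) (δ : X → ℤ) (hX : Cyc.IsSetup X δ) (k : ℤ) (α : AlgebraicCycle X ℤ) (hα : α ∈ Cyc.Zk X δ k) (h : Cyc.toK0CohQuot δ (k + 1) (k - 1) (Cyc.cycleSheafPos ⇑α) = Cyc.toK0CohQuot δ (k + 1) (k - 1) (Cyc.cycleSheafNeg ⇑α)) : Cyc.RatEquivZero δ k α := by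
  haveI := hX.1
  have hl : LF ⇑α := lf_cycle α
  have hn : LF (-⇑α) := fun x => by
    obtain ⟨U, hU, hx, hfin⟩ := hl x
    exact ⟨U, hU, hx, hfin.subset fun ζ hζ => ⟨hζ.1, fun e => hζ.2 (by simp [e])⟩⟩
  have hk : ∀ ζ, α ζ ≠ 0 → δ ζ = k := fun ζ hζ => by_contra fun hc => hζ (hα ζ hc)
  have hk' : ∀ ζ, (-⇑α) ζ ≠ 0 → δ ζ = k := fun ζ hζ => hk ζ fun e => hζ (by simp [e])
  have hm := Chi.sheafFun_sub_mem hX.2.2 (cohLe_pos hX.2.2 hl fun ζ hζ => (hk ζ hζ.ne').le)
    (cohLe_pos hX.2.2 hn fun ζ hζ => (hk' ζ hζ.ne').le) h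
  rw [sheafFun_pos hX.2.2 hl hk, sheafFun_pos hX.2.2 hn hk'] at hm
  refine Chi.ratEquivZero_of_mem hX.2.2 ?_
  convert hm using 1
  funext x
  simp only [Pi.sub_apply, Pi.neg_apply]
  omega

end Groth.Agent.S6468
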