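import Groth.Statements.S6475
import Groth.Agent.CycK.Chern
import Groth.Agent.S1899
import Groth.Agent.IntSym.Num
import Groth.Agent.H23.PicMul

set_option autoImplicit false
set_option linter.style.haveILetI false
set_option backward.isDefEq.respectTransparency false
set_option backward.isDefEq.respectTransparency.types false
universe u
open CategoryTheory AlgebraicGeometry
open Cyc

namespace Groth.Agent.S6475

open CategoryTheory.Limits Groth.Agent Groth.Agent.CycK

/-- Let X be proper over a field k, Z ⊂ X a closed subscheme of dimension d and L_1, …, L_d invertible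
O_X-modules. Then the intersection number (L_1 ⋯ L_d · Z) equals deg(c_1(L_1) ∩ … ∩ c_1(L_d) ∩
[Z]_d). The left side is FGA.intNum (alternating sum of Euler characteristics of (⊗_{i∈I} M_i) ⊗ O_Z
with M_i inverse to L_i, which is the number defined through the numerical polynomial); the right
side iterates Cyc.c1CapFun with any nonzero rational sections starting from [Z]_d and takes
ChowOps.deg of the resulting 0-cycle. Dimension function: transcendence degree over k. The caps are
applied starting with L_1 (innermost), the reverse of the displayed order; the degree does not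
depend on the order. (The published statement also gives deg_L(Z) = deg(c_1(L)^d ∩ [Z]_d) for an
ample L, the case L_1 = … = L_d = L; this row does not restate it.) -/
theorem result (k : Type u) [Field k] (X : Scheme.{u}) [X.Over (Spec (CommRingCat.of k))] [IsProper (X ↘ Spec (CommRingCat.of k))] (δ : X → ℤ) (hX : Cyc.IsSetup X δ) (hδ : Cyc.DeltaCompat (X ↘ Spec (CommRingCat.of k)) δ (fun _ => 0)) (Z : Scheme.{u}) (ι : Z ⟶ X) [IsClosedImmersion ι] (d : ℕ) (hd : topologicalKrullDim Z = d) (L M : Fin d → X.Modules) (hL : ∀ i, PicF.IsInvertible (L i)) (hM : ∀ i, Nonempty (CohB1.tensorMod (M i) (L i) ≅ Coh.structureModule X)) (s : (i : Fin d) → (ξ : X) → Cyc.secFibre (L i) ξ) (hs : ∀ i ξ, s i ξ ≠ 0) (γ : ℕ → X → ℤ) (hγ0 : γ 0 = Cyc.subschemeFun δ d ι) (hγs : ∀ (i : ℕ) (h : i < d), γ (i + 1) = Cyc.c1CapFun δ (L ⟨i, h⟩) (γ i) (s ⟨i, h⟩)) (α : AlgebraicCycle X ℤ) (hα : ⇑α = γ d) : FGA.intNum k X d M ((Coh.push ι).obj (Coh.structureModule Z)) = ChowOps.deg (X ↘ Spec (CommRingCat.of k)) δ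 α := by
  classical
  haveI := CurveCohLib.isNoetherian_of_proper (k := k) (X := X)
  have hd' := hX.2.2
  have hMi : ∀ i, PicF.IsInvertible (M i) := fun i => by
    obtain ⟨e⟩ := hM i
    obtain ⟨D, hD, ⟨c⟩⟩ := H23.PicInv.exists_inverse (hL i)
    refine H23.PicMul.isInvertible_of_iso (?_ : D ≅ M i) hD
    exact (CurveTensor.structureTensorIso D).symm ≪≫ (AmpleVan.tw D).mapIso e.symm ≪≫
      (AmpleVan.twComp (L i) D).app (M i) ≪≫ ((DCoh.tensorBi (X := X)).obj (M i)).mapIso c ≪≫
      AmpleVan.twUnit.app (M i)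
  set F := (Coh.push ι).obj (Coh.structureModule Z)
  have hsupp : CohB1.support F ⊆ Set.range ι := QCoh.support_push_subset ι QCoh.isQCoh_structureModule
  have hFc : Coh.IsCoh F := QCoh.isCoh_push_structure ι
  have hdR : topologicalKrullDim ↥(Set.range ι) ≤ (d : WithBot ℕ∞) :=
    ((IntSym.dim_eq_of_range ι rfl).symm.trans hd).le
  have hle : ∀ x ∈ Set.range ι, δ x ≤ d := fun x hx => delta_le_dim hδ ι.isClosedEmbedding.isClosed_range hdR hx
  have hF : Cyc.CohLe δ (d : ℤ) F := ⟨hFc, fun x hx => hle x (hsupp (not_subsingleton_iff_nontrivial.2 hx))⟩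
  have hγ0' : γ 0 = Cyc.sheafFun δ (d : ℤ) F :=
    hγ0.trans (Groth.Agent.S1899.result X Z δ hX ι (d : ℤ) fun z => hle _ ⟨z, rfl⟩)
  have hinv : ∀ n, IntSym.Inv ((List.ofFn L).drop n) := fun n A hA => by
    obtain ⟨i, rfl⟩ := List.mem_ofFn.1 (List.mem_of_mem_drop hA)
    exact hL i
  have hfs : ∀ n, n ≤ d → (Function.support (γ n)).Finite ∧ ∀ x, γ n x ≠ 0 → δ x = (d : ℤ) - n := by
    intro n
    induction n with
    | zero =>
      refine fun _ => ⟨hγ0' ▸ finite_of_lf (lf_sheafFun hd' hF), fun x hx => ?_⟩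
      rw [hγ0'] at hx
      rw [Nat.cast_zero, sub_zero]
      exact by_contra fun hne => hx (by simp [Cyc.sheafFun, hne])
    | succ n ih =>
      intro hn
      obtain ⟨h1, h2⟩ := ih (by omega)
      rw [hγs n (by omega)]
      refine ⟨finite_support_c1CapFun hd' (hL _) _ (fun ξ => hs _ ξ) h1, fun x hx => ?_⟩
      obtain ⟨ξ, hξ⟩ := exists_ne_of_finsum hx
      rw [mul_ne_zero_iff] at hξ
      obtain ⟨h3, h4⟩ := hξ
      simp only [Cyc.secDivFun] at h4
      split_ifs at h4 with hh
      · have := h2 ξ h3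
        push_cast
        omega
      · exact absurd rfl h4
  have hlen : ∀ n, ((List.ofFn L).drop n).length = d - n := fun n => by simp
  let v : ℕ → ℤ := fun n => ∑ᶠ x, γ n x * IntSym.sym k ((List.ofFn L).drop n) (Cyc.closureStructureSheaf x)
  have hv0 : IntSym.sym k (List.ofFn L) F = v 0 := by
    obtain ⟨Ψ, hΨ⟩ := exists_sym_hom hδ (hinv 0) (m := d) (by simp) (d : ℤ)
    obtain ⟨h1, h2⟩ := hfs 0 (Nat.zero_le d)
    rw [hγ0', Nat.cast_zero, sub_zero] at h2
    rw [hγ0'] at h1
    have hN : Cyc.CohLe δ (d : ℤ) (Cyc.cycleSheafNeg (Cyc.sheafFun δ (d : ℤ) F)) :=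
      cohLe_pos hd' (lf_of_finite (by simpa using h1)) fun x hx => (h2 x fun h => by simp [h] at hx).le
    have h := congrArg Ψ (class_sub (a := (d : ℤ)) (b := (d : ℤ) - 1) hd' hF cohLe_zero le_rfl le_rfl
      (lf_of_finite h1) h2 fun x _ => by
        haveI := subsingleton_stalk_of_isZero (Limits.isZero_zero X.Modules) x
        simp [Cyc.sheafFun])
    rw [eq_zero_of_small cohLe_zero, sub_zero, map_sub, hΨ F hF,
      hΨ _ (cohLe_pos hd' (lf_of_finite h1) fun x hx => (h2 x hx.ne').le), hΨ _ hN] at h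
    have h' := h.trans (sym_pos_sub_neg hδ (hinv 0) (m := d) (by simp) h1 h2)
    rw [List.drop_zero] at h'
    show _ = ∑ᶠ x, γ 0 x * IntSym.sym k ((List.ofFn L).drop 0) (Cyc.closureStructureSheaf x)
    rw [List.drop_zero, hγ0']
    exact h'
  have hstep : ∀ n, n < d → v n = v (n + 1) := fun n hn => by
    obtain ⟨h1, h2⟩ := hfs n hn.le
    obtain ⟨m, hm⟩ : ∃ m, d - n = m + 1 := ⟨d - n - 1, by omega⟩
    have hdrop : (List.ofFn L).drop n = L ⟨n, hn⟩ :: (List.ofFn L).drop (n + 1) := by
      rw [List.drop_eq_getElem_cons (by simpa using hn)]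
      simp
    have hk : ∀ x, γ n x ≠ 0 → δ x = ((m + 1 : ℕ) : ℤ) := fun x hx => by rw [h2 x hx]; omega
    have hk' : ∀ x, (-γ n) x ≠ 0 → δ x = ((m + 1 : ℕ) : ℤ) := fun x hx => hk x fun h => hx (by simp [h])
    have hf' : (Function.support (-γ n)).Finite := by simpa using h1
    have h0 := sym_pos_sub_neg hδ (hinv n) (m := m + 1) (by rw [hlen]; exact hm) h1 hk
    have hcast : ((m + 1 : ℕ) : ℤ) = (m : ℤ) + 1 := by push_cast; rfl
    have hPp : Cyc.CohLe δ ((m : ℤ) + 1) (Cyc.cycleSheafPos (γ n)) :=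
      cohLe_pos hd' (lf_of_finite h1) fun x hx => ((hk x hx.ne').trans hcast).le
    have hPn : Cyc.CohLe δ ((m : ℤ) + 1) (Cyc.cycleSheafNeg (γ n)) :=
      cohLe_pos hd' (lf_of_finite hf') fun x hx => ((hk' x hx.ne').trans hcast).le
    have hl1 : ((List.ofFn L).drop (n + 1)).length = m := by rw [hlen]; omega
    rw [hdrop, sym_step hδ (hinv (n + 1)) hl1 (hL _) hPp (s ⟨n, hn⟩) (hs _),
      sym_step hδ (hinv (n + 1)) hl1 (hL _) hPn (s ⟨n, hn⟩) (hs _), Cyc.cycleSheafNeg,
      sheafFun_pos hd' (lf_of_finite h1) (fun x hx => (hk x hx).trans hcast),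
      sheafFun_pos hd' (lf_of_finite hf') (fun x hx => (hk' x hx).trans hcast)] at h0
    have hp : (Function.support fun x => max (γ n x) 0).Finite := h1.subset fun x hx h => hx (by simp [h])
    have hq : (Function.support fun x => max ((-γ n) x) 0).Finite := h1.subset fun x hx h => hx (by simp [h])
    have hcp := finite_support_c1CapFun hd' (hL ⟨n, hn⟩) _ (fun ξ => hs ⟨n, hn⟩ ξ) hp
    have hcq := finite_support_c1CapFun hd' (hL ⟨n, hn⟩) _ (fun ξ => hs ⟨n, hn⟩ ξ) hq
    rw [← finsum_sub_distrib (hcp.subset fun x hx h => hx (mul_eq_zero_of_left h _)) (hcq.subset fun x hx h => hx (mul_eq_zero_of_left h _))] at h0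
    show ∑ᶠ x, γ n x * IntSym.sym k ((List.ofFn L).drop n) (Cyc.closureStructureSheaf x) = _
    rw [hdrop, ← h0]
    refine finsum_congr fun x => ?_
    rw [← sub_mul, hγs n hn]
    congr 1
    simp only [Cyc.c1CapFun]
    rw [← finsum_sub_distrib (hp.subset fun y hy h => hy (mul_eq_zero_of_left h _)) (hq.subset fun y hy h => hy (mul_eq_zero_of_left h _))]
    refine finsum_congr fun y => ?_
    rw [← sub_mul]
    congr 1
    simp only [Pi.neg_apply]
    omega
  have hiter : ∀ n, n ≤ d → v 0 = v n := by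
    intro n
    induction n with
    | zero => exact fun _ => rfl
    | succ n ih => exact fun hn => (ih (by omega)).trans (hstep n (by omega))
  have hsign : FGA.intNum k X d M F = IntSym.sym k (List.ofFn L) F := by
    have hdF : topologicalKrullDim ↥(CohB1.support F) ≤ (d : WithBot ℕ∞) :=
      (H23.TopDim.dim_le_dim_of_subset hsupp).trans hdR
    rw [intNum_eq_supp k M hMi hFc hdF]
    have := sym_inverses k M L hMi hL hM [] (List.forall_mem_nil _) F hFc (by simpa using hdF)
    simp only [List.nil_append] at this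
    rw [this, ← mul_assoc, ← pow_add, ← two_mul, pow_mul, neg_one_sq, one_pow, one_mul]
  rw [hsign, hv0, hiter d le_rfl]
  show ∑ᶠ x, γ d x * IntSym.sym k ((List.ofFn L).drop d) (Cyc.closureStructureSheaf x) = _
  rw [List.drop_of_length_le (by simp), ChowOps.deg, CycLib.map_apply', CycLib.preimage_pt, finsum_mem_univ, hα]
  refine finsum_congr fun x => ?_
  rcases eq_or_ne (γ d x) 0 with h | h
  · simp [h]
  · have h0 : δ x = 0 := by rw [(hfs d le_rfl).2 x h]; omega
    rw [CycLib.mapCoeff_point, if_pos h0, euler_point hδ h0]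

end Groth.Agent.S6475
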