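import Groth.Statements.S6495
import Groth.Agent.H23.FlatShift
import Groth.Agent.CycLim.Descend

set_option autoImplicit false
universe u
open CategoryTheory AlgebraicGeometry
open Cyc

namespace Groth.Agent.S6495

/-- Surjectivity of colim Z_k(X_i) → Z_k(X'): every k-cycle α' on the limit X' is g_i^*α for some i and
some k-cycle α on X_i, where g_i : X' → X_i is the projection and g_i^* the shift-0 base-change
pullback on coefficient functions. Setting: a directed inverse system (X_i) of quasi-compact schemes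
with affine flat transition morphisms and limit X' (a limit cone), each X_i and X' carrying a
dimension function with Cyc.IsSetup, and every transition map and every projection X' → X_i shifting
the dimension functions by c = 0 at generic points of fibres, so that the base-change pullbacks g^*
are Cyc.pullFun with shift 0. (The published statement takes X_i and X′ to be the base changes of
one quasi-compact scheme of finite type over a base S along S_i → S and lim S_i → S; this row allows
any such inverse system.) -/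
theorem result (I : Type u) [Preorder I] [IsDirected I (fun a b => a ≤ b)] [Nonempty I] (D : Iᵒᵖ ⥤ Scheme.{u}) (c : Limits.Cone D) (hc : Limits.IsLimit c) (haff : ∀ (i j : Iᵒᵖ) (f : i ⟶ j), IsAffineHom (D.map f)) (hflat : ∀ (i j : Iᵒᵖ) (f : i ⟶ j), Flat (D.map f)) (hqc : ∀ i, CompactSpace ↥(D.obj i)) (δ : (i : Iᵒᵖ) → ↥(D.obj i) → ℤ) (δ' : ↥c.pt → ℤ) (hset : ∀ i, Cyc.IsSetup (D.obj i) (δ i)) (hset' : Cyc.IsSetup c.pt δ') (hshift : ∀ (i j : Iᵒᵖ) (f : i ⟶ j) (x : ↥(D.obj i)), (∀ y, D.map f y = D.map f x → y ⤳ x → y = x) → δ i x = δ j (D.map f x)) (hflat' : ∀ i, Flat (c.π.app i)) (hshift' : ∀ (i : Iᵒᵖ) (x : ↥c.pt), (∀ y, c.π.app i y = c.π.app i x → y ⤳ x → y = x) → δ' x = δ i (c.π.app i x)) (k : ℤ) (α' : AlgebraicCycle c.pt ℤ) (hα' : α' ∈ Cyc.Zk c.pt δ' k) : ∃ (i : Iᵒᵖ) (α : AlgebraicCycle (D.obj i) ℤ), α ∈ Cyc.Zk (D.obj i) (δ i) k ∧ Cyc.pullFun (c.π.app i) δ' (δ i) 0 ⇑α = ⇑α' := by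
  classical
  haveI : IsLocallyNoetherian c.pt := hset'.1
  haveI : ∀ {a b : Iᵒᵖ} (f : a ⟶ b), IsAffineHom (D.map f) := fun f => haff _ _ f
  haveI : CompactSpace ↥c.pt := Scheme.compactSpace_of_isLimit D c hc
  have hfin : (Function.support ⇑α').Finite := by
    choose t ht htf using fun z : ↥c.pt => α'.supportLocallyFiniteWithinDomain' z (Set.mem_univ z)
    obtain ⟨s, -, hs⟩ := isCompact_univ.elim_nhds_subcover t fun z _ => ht z
    refine ((s.finite_toSet.biUnion fun z _ => htf z).subset fun z hz => ?_)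
    obtain ⟨w, hw, hwz⟩ := Set.mem_iUnion₂.1 (hs (Set.mem_univ z))
    exact Set.mem_iUnion₂.2 ⟨w, hw, hwz, hz⟩
  choose js hjs using CycLim.exists_cutOut D c hc
  obtain ⟨j, hj⟩ := IsCofiltered.inf_objs_exists (hfin.toFinset.image js)
  let p : c.pt ⟶ D.obj j := c.π.app j
  have hP : ∀ y ∈ hfin.toFinset, CycLim.CutOut p y := fun y hy => by
    obtain ⟨g⟩ := hj (Finset.mem_image_of_mem js hy)
    refine CycLim.CutOut.of_comp (g := D.map g) ?_
    have e : p ≫ D.map g = c.π.app (js y) := c.w g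
    rw [e]
    exact hjs y
  let a : ↥(D.obj j) → ℤ := fun x => ∑ y ∈ hfin.toFinset.filter (fun y => p y = x), α' y
  have ha : ∀ x, a x ≠ 0 → ∃ y ∈ hfin.toFinset, p y = x := fun x hx => by
    obtain ⟨y, hy, -⟩ := Finset.exists_ne_zero_of_sum_ne_zero hx
    exact ⟨y, (Finset.mem_filter.1 hy).1, (Finset.mem_filter.1 hy).2⟩
  have hafin : (Function.support a).Finite := (hfin.toFinset.image p).finite_toSet.subset fun x hx => by
    obtain ⟨y, hy, e⟩ := ha x hx
    exact Finset.mem_image.2 ⟨y, hy, e⟩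
  let α : AlgebraicCycle (D.obj j) ℤ := ⟨a, Set.subset_univ _,
    fun z _ => ⟨Set.univ, Filter.univ_mem, by rw [Set.univ_inter]; exact hafin⟩⟩
  refine ⟨j, α, fun x hx => ?_, funext fun z => ?_⟩
  · by_contra h
    obtain ⟨y, hy, rfl⟩ := ha x h
    refine hx ((hshift' j y (hP y hy).fibMax).symm.trans ?_)
    by_contra hk
    exact hfin.mem_toFinset.1 hy (hα' y hk)
  show (if δ' z = δ j (p z) + 0 then a (p z) * _ else 0) = α' z
  rw [add_zero]
  split_ifs with hz
  · have hd : Cyc.IsDimFun c.pt δ' := hset'.2.2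
    have hmax : ∀ w, p w = p z → w ⤳ z → w = z := (H23.FlatShift.fibMax_iff p z).1
      (H23.FlatShift.HasShift.fibMax_of_ge (f := p) (c := 0) (δX := δ') (δY := δ j)
        (fun x hx => by rw [add_zero]; exact hshift' j x hx) hd (by rw [add_zero]; exact hz.ge))
    have hsub : ∀ y ∈ hfin.toFinset.filter (fun y => p y = p z), y = z := fun y hy =>
      (hP y (Finset.mem_filter.1 hy).1).eq_of_fibMax (Finset.mem_filter.1 hy).2.symm hmax
    by_cases hzS : z ∈ hfin.toFinset
    · have e : a (p z) = α' z := Finset.sum_eq_single_of_mem z (Finset.mem_filter.2 ⟨hzS, rfl⟩)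
        (fun y hy hne => (hne (hsub y hy)).elim)
      have hl : Ideal.map (p.stalkMap z).hom (IsLocalRing.maximalIdeal ((D.obj j).presheaf.stalk (p z))) =
          IsLocalRing.maximalIdeal _ := (hP z hzS).2
      rw [e]
      erw [hl]
      haveI : IsSimpleModule (c.pt.presheaf.stalk z)
          (c.pt.presheaf.stalk z ⧸ IsLocalRing.maximalIdeal (c.pt.presheaf.stalk z)) :=
        isSimpleModule_iff_quot_maximal.2 ⟨_, IsLocalRing.maximalIdeal.isMaximal _, ⟨LinearEquiv.refl _ _⟩⟩
      erw [Module.length_eq_one (c.pt.presheaf.stalk z) (c.pt.presheaf.stalk z ⧸ IsLocalRing.maximalIdeal (c.pt.presheaf.stalk z))]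
      simp
    · have e : a (p z) = 0 := Finset.sum_eq_zero fun y hy =>
        absurd (hsub y hy ▸ (Finset.mem_filter.1 hy).1) hzS
      rw [e, zero_mul]
      exact (by_contra fun h => hzS (hfin.mem_toFinset.2 (Ne.symm h)))
  · by_contra h
    exact hz (hshift' j z (hP z (hfin.mem_toFinset.2 (Ne.symm h))).fibMax)

end Groth.Agent.S6495
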