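import Groth.Statements.S6496
import Groth.Agent.H23.FlatPushPull
import Groth.Agent.MorLib.LimPoints

set_option autoImplicit false
universe u
open CategoryTheory AlgebraicGeometry
open Cyc

namespace Groth.Agent.S6496

/-- Injectivity of colim Z_k(X_i) → Z_k(X'): if a k-cycle α on X_i pulls back to the zero cycle on X',
then it pulls back to zero on some stage X_j above X_i. Setting: a directed inverse system (X_i) of
quasi-compact schemes with affine flat transition morphisms and limit X' (a limit cone), each X_i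
and X' carrying a dimension function with Cyc.IsSetup, and every transition map and every projection
X' → X_i shifting the dimension functions by c = 0 at generic points of fibres, so that the
base-change pullbacks g^* are Cyc.pullFun with shift 0. (The published statement takes X_i and X′ to
be the base changes of one quasi-compact scheme of finite type over a base S along S_i → S and lim
S_i → S; this row allows any such inverse system.) -/
theorem result (I : Type u) [Preorder I] [IsDirected I (fun a b => a ≤ b)] [Nonempty I] (D : Iᵒᵖ ⥤ Scheme.{u}) (c : Limits.Cone D) (hc : Limits.IsLimit c) (haff : ∀ (i j : Iᵒᵖ) (f : i ⟶ j), IsAffineHom (D.map f)) (hflat : ∀ (i j : Iᵒᵖ) (f : i ⟶ j), Flat (D.map f)) (hqc : ∀ i, CompactSpace ↥(D.obj i)) (δ : (i : Iᵒᵖ) → ↥(D.obj i) → ℤ) (δ' : ↥c.pt → ℤ) (hset : ∀ i, Cyc.IsSetup (D.obj i) (δ i)) (hset' : Cyc.IsSetup c.pt δ') (hshift : ∀ (i j : Iᵒᵖ) (f : i ⟶ j) (x : ↥(D.obj i)), (∀ y, D.map f y = D.map f x → y ⤳ x → y = x) → δ i x = δ j (D.map f x)) (hflat' : ∀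 i, Flat (c.π.app i)) (hshift' : ∀ (i : Iᵒᵖ) (x : ↥c.pt), (∀ y, c.π.app i y = c.π.app i x → y ⤳ x → y = x) → δ' x = δ i (c.π.app i x)) (k : ℤ) (i : Iᵒᵖ) (α : AlgebraicCycle (D.obj i) ℤ) (hα : α ∈ Cyc.Zk (D.obj i) (δ i) k) (h0 : Cyc.pullFun (c.π.app i) δ' (δ i) 0 ⇑α = 0) : ∃ (j : Iᵒᵖ) (f : j ⟶ i), Cyc.pullFun (D.map f) (δ j) (δ i) 0 ⇑α = 0 := by
  classical
  haveI : IsLocallyNoetherian c.pt := hset'.1
  haveI : ∀ {a b : Iᵒᵖ} (f : a ⟶ b), IsAffineHom (D.map f) := fun f => haff _ _ f
  haveI : CompactSpace ↥(D.obj i) := hqc i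
  have hfin : (Function.support ⇑α).Finite := by
    choose t ht htf using fun z : ↥(D.obj i) => α.supportLocallyFiniteWithinDomain' z (Set.mem_univ z)
    obtain ⟨s, -, hs⟩ := isCompact_univ.elim_nhds_subcover t fun z _ => ht z
    refine ((s.finite_toSet.biUnion fun z _ => htf z).subset fun z hz => ?_)
    obtain ⟨w, hw, hwz⟩ := Set.mem_iUnion₂.1 (hs (Set.mem_univ z))
    exact Set.mem_iUnion₂.2 ⟨w, hw, hwz, hz⟩
  -- every point of the support of `α` is missed by some transition map
  have key : ∀ x ∈ Function.support ⇑α, ∃ (j : Iᵒᵖ) (f : j ⟶ i), x ∉ Set.range (D.map f) := by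
    intro x hx
    by_contra hne
    push Not at hne
    obtain ⟨s, hs⟩ := MorLib.LimPts.mem_range_π hc x hne
    let p : c.pt ⟶ D.obj i := c.π.app i
    obtain ⟨z, -, hz, hmax⟩ := H23.FlatShift.exists_fibMax_gen p s
    replace hz : p z = x := hz.trans hs
    have h1 := congrFun h0 z
    have h2 := hshift' i z ((H23.FlatShift.fibMax_iff _ z).1 hmax)
    have hlen := H23.FlatShift.fibreLen_ne_top p hmax
    have hlen0 : H23.FiniteFibreSum.fibreLen p z ≠ 0 := by
      intro h
      unfold H23.FiniteFibreSum.fibreLen at h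
      rw [Module.length_eq_zero_iff, Ideal.Quotient.subsingleton_iff] at h
      have hle : Ideal.map (p.stalkMap z).hom (IsLocalRing.maximalIdeal _) ≤
          IsLocalRing.maximalIdeal (c.pt.presheaf.stalk z) :=
        ((IsLocalRing.local_hom_TFAE (p.stalkMap z).hom).out 0 2).1
          (inferInstance : IsLocalHom (p.stalkMap z).hom)
      rw [h, top_le_iff] at hle
      exact (IsLocalRing.maximalIdeal.isMaximal _).ne_top hle
    simp only [Cyc.pullFun, Pi.zero_apply, add_zero] at h1
    rw [if_pos h2, mul_eq_zero] at h1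
    rcases h1 with h1 | h1
    · exact hx (by rw [← hz]; exact h1)
    · have : (H23.FiniteFibreSum.fibreLen p z).toNat = 0 := by exact_mod_cast h1
      rcases ENat.toNat_eq_zero.1 this with h | h
      · exact hlen0 h
      · exact hlen h
  choose jf ff hff using key
  obtain ⟨j, hj⟩ := IsCofiltered.inf_objs_exists
    (insert i (hfin.toFinset.attach.image fun x : {x // x ∈ hfin.toFinset} => jf x.1 (hfin.mem_toFinset.1 x.2)))
  obtain ⟨f⟩ := hj (Finset.mem_insert_self _ _)
  refine ⟨j, f, funext fun z => ?_⟩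
  have h : α (D.map f z) = 0 := by
    by_contra h
    obtain ⟨g⟩ := hj (Finset.mem_insert_of_mem (Finset.mem_image.2
      ⟨⟨_, hfin.mem_toFinset.2 h⟩, Finset.mem_attach _ _, rfl⟩))
    refine hff _ h ⟨D.map g z, ?_⟩
    rw [← Scheme.Hom.comp_apply, ← Functor.map_comp, Subsingleton.elim (g ≫ ff _ h) f]
  simp [Cyc.pullFun, h]

end Groth.Agent.S6496
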