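import Groth.Statements.S6497
import Groth.Agent.H23.FlatClass
import Groth.Agent.H23.RatEquivPull
import Groth.Agent.CycLim.Residue
import Groth.Agent.CycLib.RatSum
import Groth.Agent.S6496

set_option autoImplicit false
universe u
open CategoryTheory AlgebraicGeometry
open Cyc

namespace Groth.Agent.S6497

/-- Injectivity of colim CH_k(X_i) → CH_k(X'): if α ∈ Z_k(X_i) and g_i^*α ∼_rat 0 on X' (for a cycle
with the pulled-back coefficients), then for some stage X_j above X_i the pullback of α to X_j is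
∼_rat 0. Setting: a directed inverse system (X_i) of quasi-compact schemes with affine flat
transition morphisms and limit X' (a limit cone), each X_i and X' carrying a dimension function with
Cyc.IsSetup, and every transition map and every projection X' → X_i shifting the dimension functions
by c = 0 at generic points of fibres, so that the base-change pullbacks g^* are Cyc.pullFun with
shift 0. (The published statement takes X_i and X′ to be the base changes of one quasi-compact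
scheme of finite type over a base S along S_i → S and lim S_i → S; this row allows any such inverse
system.) -/
theorem result (I : Type u) [Preorder I] [IsDirected I (fun a b => a ≤ b)] [Nonempty I] (D : Iᵒᵖ ⥤ Scheme.{u}) (c : Limits.Cone D) (hc : Limits.IsLimit c) (haff : ∀ (i j : Iᵒᵖ) (f : i ⟶ j), IsAffineHom (D.map f)) (hflat : ∀ (i j : Iᵒᵖ) (f : i ⟶ j), Flat (D.map f)) (hqc : ∀ i, CompactSpace ↥(D.obj i)) (δ : (i : Iᵒᵖ) → ↥(D.obj i) → ℤ) (δ' : ↥c.pt → ℤ) (hset : ∀ i, Cyc.IsSetup (D.obj i) (δ i)) (hset' : Cyc.IsSetup c.pt δ') (hshift : ∀ (i j : Iᵒᵖ) (f : i ⟶ j) (x : ↥(D.obj i)), (∀ y, D.map f y = D.map f x → y ⤳ x → y = x) → δ i x = δ j (D.map f x)) (hflat' : ∀ i, Flat (c.π.app i)) (hshift' : ∀ (i : Iᵒᵖ) (x : ↥c.pt), (∀ y, c.π.app i y = c.π.app i x → y ⤳ x → y = x) → δ' x = δ i (c.π.app i x)) (k : ℤ) (i : Iᵒᵖ) (α : AlgebraicCycle (D.obj i) ℤ) (hα : α ∈ Cyc.Zk (D.obj i) (δ i) k) (α' : AlgebraicCycle c.pt ℤ) (hα' : ⇑α' =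 Cyc.pullFun (c.π.app i) δ' (δ i) 0 ⇑α) (h0 : Cyc.RatEquivZero δ' k α') : ∃ (j : Iᵒᵖ) (f : j ⟶ i) (αj : AlgebraicCycle (D.obj j) ℤ), ⇑αj = Cyc.pullFun (D.map f) (δ j) (δ i) 0 ⇑α ∧ Cyc.RatEquivZero (δ j) k αj := by
  classical
  haveI : IsLocallyNoetherian c.pt := hset'.1
  haveI : ∀ a, IsLocallyNoetherian (D.obj a) := fun a => (hset a).1
  haveI : ∀ {a b : Iᵒᵖ} (f : a ⟶ b), IsAffineHom (D.map f) := fun f => haff _ _ f
  haveI : ∀ {a b : Iᵒᵖ} (f : a ⟶ b), Flat (D.map f) := fun f => hflat _ _ f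
  haveI : CompactSpace ↥c.pt := Scheme.compactSpace_of_isLimit D c hc
  obtain ⟨L, ξ, u, hξ, hu, hloc, hsum⟩ := h0
  haveI : Finite L := by
    choose U hUo hxU hUf using hloc
    obtain ⟨s, hs⟩ := isCompact_univ.elim_finite_subcover U hUo fun x _ => Set.mem_iUnion.2 ⟨x, hxU x⟩
    rw [← Set.finite_univ_iff]
    refine (s.finite_toSet.biUnion fun x _ => hUf x).subset fun l _ => ?_
    obtain ⟨x, hx, hl⟩ := Set.mem_iUnion₂.1 (hs (Set.mem_univ (ξ l)))
    exact Set.mem_iUnion₂.2 ⟨x, hx, ξ l, subset_closure rfl, hl⟩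
  haveI := Fintype.ofFinite L
  choose j1 hj1 using fun l => CycLim.exists_cutOut D c hc (ξ l)
  choose j2 hj2 using fun l => CycLim.exists_inRange D c hc (ξ l) (u l)
  obtain ⟨j, hj⟩ := IsCofiltered.inf_objs_exists
    (insert i (Finset.univ.image j1 ∪ Finset.univ.image j2))
  obtain ⟨φ⟩ := hj (Finset.mem_insert_self _ _)
  let p : c.pt ⟶ D.obj j := c.π.app j
  haveI : Flat p := hflat' j
  have hcut : ∀ l, CycLim.CutOut p (ξ l) := fun l => by
    obtain ⟨g⟩ := hj (Finset.mem_insert_of_mem (Finset.mem_union_left _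
      (Finset.mem_image_of_mem j1 (Finset.mem_univ l))))
    refine CycLim.CutOut.of_comp (g := D.map g) ?_
    have e : p ≫ D.map g = c.π.app (j1 l) := c.w g
    rw [e]
    exact hj1 l
  have hran : ∀ l, CycLim.InRange p (ξ l) (u l) := fun l => by
    obtain ⟨g⟩ := hj (Finset.mem_insert_of_mem (Finset.mem_union_right _
      (Finset.mem_image_of_mem j2 (Finset.mem_univ l))))
    exact CycLim.InRange.map D c g (hj2 l)
  choose g hg using hran
  have hg0 : ∀ l, g l ≠ 0 := fun l h => hu l (by rw [← hg l, h, map_zero])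
  have hloc' : ∀ x : D.obj j, ∃ U : Set ↥(D.obj j), IsOpen U ∧ x ∈ U ∧
      {l | (closure {p (ξ l)} ∩ U).Nonempty}.Finite := fun x =>
    ⟨Set.univ, isOpen_univ, trivial, Set.toFinite _⟩
  let γ := CycLib.sumDiv (hset j).2.2 (fun l => p (ξ l)) g hg0 hloc'
  have hγ : Cyc.RatEquivZero (δ j) k γ :=
    ⟨L, fun l => p (ξ l), g, fun l => by rw [← hshift' j (ξ l) (hcut l).fibMax, hξ], hg0, hloc', fun x => rfl⟩
  have hsh : ∀ {a b : Iᵒᵖ} (f : a ⟶ b), H23.FlatShift.HasShift (D.map f) (δ a) (δ b) 0 := fun f x hx => by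
    rw [add_zero]; exact hshift _ _ f x hx
  have hshp : ∀ a, H23.FlatShift.HasShift (c.π.app a) δ' (δ a) 0 := fun a x hx => by
    rw [add_zero]; exact hshift' a x hx
  have hpγ : Cyc.pullFun p δ' (δ j) 0 ⇑γ = ⇑α' := by
    funext x
    have e : Cyc.pullFun p δ' (δ j) 0 ⇑γ x =
        ∑ l, Cyc.pullFun p δ' (δ j) 0 (Cyc.divFun (δ j) (p (ξ l)) (g l)) x := by
      simp only [Cyc.pullFun, γ, CycLib.sumDiv_apply, finsum_eq_sum_of_fintype]
      split_ifs
      · rw [Finset.sum_mul]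
      · simp
    rw [e, hsum x, finsum_eq_sum_of_fintype]
    refine Finset.sum_congr rfl fun l _ => ?_
    rw [H23.DivPull.pullFun_divFun p (hshp j) (hset j).2.2 hset'.2.2 (hg0 l)]
    have hset1 : {z : ↥c.pt | p z = p (ξ l) ∧ FibDim.FibMax p z} = {ξ l} := by
      ext z
      refine ⟨fun hz => ((hcut l).eq_of_fibMax hz.1 ((H23.FlatShift.fibMax_iff p z).1 hz.2)).symm, ?_⟩
      rintro rfl
      exact ⟨rfl, (H23.FlatShift.fibMax_iff p _).2 (hcut l).fibMax⟩
    rw [hset1, finsum_mem_singleton, H23.DivPull.term, dif_pos rfl, H23.DivPull.pullRes_rfl, hg l]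
    have hlen : H23.FiniteFibreSum.fibreLen p (ξ l) = 1 := by
      have hm : Ideal.map (p.stalkMap (ξ l)).hom (IsLocalRing.maximalIdeal
          ((D.obj j).presheaf.stalk (p (ξ l)))) = IsLocalRing.maximalIdeal _ := (hcut l).2
      haveI : IsSimpleModule (c.pt.presheaf.stalk (ξ l))
          (c.pt.presheaf.stalk (ξ l) ⧸ IsLocalRing.maximalIdeal (c.pt.presheaf.stalk (ξ l))) :=
        isSimpleModule_iff_quot_maximal.2 ⟨_, IsLocalRing.maximalIdeal.isMaximal _, ⟨LinearEquiv.refl _ _⟩⟩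
      rw [H23.FiniteFibreSum.fibreLen, hm, Module.length_eq_one]
    rw [hlen]
    simp
  let αj : AlgebraicCycle (D.obj j) ℤ := H23.FlatClass.pullCycle (hsh φ) (hset j).2.2 α
  have hγk : γ ∈ Cyc.Zk (D.obj j) (δ j) k := fun x hx => by
    show (∑ᶠ l, Cyc.divFun (δ j) (p (ξ l)) (g l) x) = 0
    refine finsum_eq_zero_of_forall_eq_zero fun l => CycLib.divFun_eq_zero_of_delta _ _ ?_
    rw [← hshift' j (ξ l) (hcut l).fibMax, hξ]
    intro h
    exact hx (by omega)
  have hαjk : αj ∈ Cyc.Zk (D.obj j) (δ j) k :=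
    H23.FlatClass.pullCycle_mem (hsh φ) (hset j).2.2 hα (add_zero k).symm
  have hβ : αj - γ ∈ Cyc.Zk (D.obj j) (δ j) k := fun x hx => by
    show αj x - γ x = 0
    rw [hαjk x hx, hγk x hx, sub_zero]
  have hsub : ∀ {A B : Scheme.{u}} (f : A ⟶ B) (dA : A → ℤ) (dB : B → ℤ) (r : ℤ)
      (a b : AlgebraicCycle B ℤ), Cyc.pullFun f dA dB r ⇑(a - b) =
      Cyc.pullFun f dA dB r ⇑a - Cyc.pullFun f dA dB r ⇑b := fun f dA dB r a b => by
    funext x
    rw [Function.locallyFinsuppWithin.coe_sub]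
    simp only [Cyc.pullFun, Pi.sub_apply]
    split_ifs <;> ring
  have hle' : ∀ x, δ' x ≤ δ j (p x) + 0 := (hshp j).le hset'.2.2
  have hleφ : ∀ x, δ j x ≤ δ i (D.map φ x) + 0 := (hsh φ).le (hset j).2.2
  have h0' : Cyc.pullFun p δ' (δ j) 0 ⇑(αj - γ) = 0 := by
    rw [hsub, hpγ, show ⇑αj = Cyc.pullFun (D.map φ) (δ j) (δ i) 0 ⇑α from rfl,
      H23.FlatShift.pullFun_comp_of_le p (D.map φ) δ' (δ j) (δ i) hle' hleφ, add_zero,
      show p ≫ D.map φ = c.π.app i from c.w φ, ← hα', sub_self]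
  obtain ⟨m, ψ, hψ⟩ := S6496.result I D c hc haff hflat hqc δ δ' hset hset' hshift hflat' hshift' k j
    (αj - γ) hβ h0'
  let αm : AlgebraicCycle (D.obj m) ℤ := H23.FlatClass.pullCycle (hsh (ψ ≫ φ)) (hset m).2.2 α
  refine ⟨m, ψ ≫ φ, αm, rfl, ?_⟩
  have key : ⇑αm = Cyc.pullFun (D.map ψ) (δ m) (δ j) 0 ⇑γ := by
    rw [hsub, sub_eq_zero] at hψ
    rw [← hψ, show ⇑αj = Cyc.pullFun (D.map φ) (δ j) (δ i) 0 ⇑α from rfl,
      H23.FlatShift.pullFun_comp_of_le (D.map ψ) (D.map φ) (δ m) (δ j) (δ i)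
        ((hsh ψ).le (hset m).2.2) hleφ, add_zero, ← Functor.map_comp]
    rfl
  have := H23.DivPull.ratEquivZero_pull (D.map ψ) (hsh ψ) (hset j).2.2 (hset m).2.2 hγ αm key
  rwa [add_zero] at this

end Groth.Agent.S6497
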