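import Groth.Statements.S6534
import Groth.Agent.TriCat.DerivedCoproducts
import Groth.Agent.TriCat.KInjRes
import Mathlib.CategoryTheory.Abelian.GrothendieckAxioms.Colim
import Mathlib.CategoryTheory.Functor.OfSequence
import Mathlib.Algebra.Homology.DerivedCategory.KInjective
import Mathlib.Algebra.Homology.HomotopyCategory.Pretriangulated

set_option autoImplicit false
set_option backward.isDefEq.respectTransparency false
set_option backward.isDefEq.respectTransparency.types false
set_option linter.style.haveILetI false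
set_option maxHeartbeats 1000000
universe w v u
open CategoryTheory
open CohDer

namespace Groth.Agent.S6534

section
open CategoryTheory.Limits CochainComplex CochainComplex.HomComplex ZeroObject

variable {A : Type u} [Category.{v} A] [Abelian A]

/-- Extension of a null-homotopic map to the cone of the identity. -/
lemma exists_cone_extension {K I : CochainComplex A ℤ} (f : K ⟶ I) (hf : Homotopy f 0) :
    ∃ φ : mappingCone (𝟙 K) ⟶ I, mappingCone.inr (𝟙 K) ≫ φ = f := by
  obtain ⟨z, hz⟩ := Cochain.equivHomotopy f 0 hf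
  exact ⟨mappingCone.desc (𝟙 K) z f (by rw [Category.id_comp, hz, Cochain.ofHom_zero, add_zero]), by simp⟩

lemma mono_inr (K : CochainComplex A ℤ) : Mono (mappingCone.inr (𝟙 K)) :=
  HomologicalComplex.mono_of_mono_f _ fun n =>
    mono_of_mono_fac (mappingCone.inr_f_snd_v (𝟙 K) n)

variable [IsGrothendieckAbelian.{v} A] [HasDerivedCategory.{w} A]

lemma isZero_Q_cone (K : CochainComplex A ℤ) : IsZero (DerivedCategory.Q.obj (mappingCone (𝟙 K))) := by
  have h : IsZero ((HomotopyCategory.quotient A (ComplexShape.up ℤ)).obj (mappingCone (𝟙 K))) := by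
    rw [IsZero.iff_id_eq_zero, ← CategoryTheory.Functor.map_id]
    exact (HomotopyCategory.eq_of_homotopy _ _ (mappingCone.homotopyToZeroOfId K)).trans (Functor.map_zero _ _ _)
  exact IsZero.of_iso (DerivedCategory.Qh.map_isZero h) ((DerivedCategory.quotientCompQhIso A).app _).symm

lemma isZero_Q_sigma_cone {J : Type} (K : J → CochainComplex A ℤ) :
    IsZero (DerivedCategory.Q.obj (∐ fun j => mappingCone (𝟙 (K j)))) := by
  let s : ∀ j, mappingCone (𝟙 (K j)) ⟶ (fun _ : J => (0 : CochainComplex A ℤ)) j := fun j => 0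
  have hs : ∀ j, QuasiIso (s j) := fun j => by
    rw [← DerivedCategory.isIso_Q_map_iff_quasiIso]
    exact ⟨0, (isZero_Q_cone (K j)).eq_of_src _ _, ((DerivedCategory.Q.map_isZero (isZero_zero _))).eq_of_src _ _⟩
  have := Groth.Agent.TriCat.quasiIso_sigmaMap s hs
  have h0 : IsZero (∐ fun _ : J => (0 : CochainComplex A ℤ)) := by
    rw [IsZero.iff_id_eq_zero]
    exact Sigma.hom_ext _ _ fun j => (isZero_zero _).eq_of_src _ _
  exact IsZero.of_iso (DerivedCategory.Q.map_isZero h0) (asIso (DerivedCategory.Q.map (Limits.Sigma.map s)))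

/-- An inverse system in the derived category is realized by monomorphisms over a common complex. -/
theorem exists_rigid (I : CochainComplex A ℤ) (X : ℤ → CochainComplex A ℤ) (t : ∀ i, X (i + 1) ⟶ X i)
    (a : ∀ i, X i ⟶ I) (hat : ∀ i, Homotopy (t i ≫ a i) (a (i + 1))) :
    ∃ (T : CochainComplex A ℤ) (F : ℤ → CochainComplex A ℤ) (inc : ∀ i, F (i + 1) ⟶ F i)
      (m : ∀ i, F i ⟶ T) (p : ∀ i, F i ⟶ X i) (q : T ⟶ I),
      (∀ i, Mono (m i)) ∧ (∀ i, inc i ≫ m i = m (i + 1)) ∧
      (∀ i, IsIso (DerivedCategory.Q.map (p i))) ∧ IsIso (DerivedCategory.Q.map q) ∧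
      (∀ i, inc i ≫ p i = p (i + 1) ≫ t i) ∧
      (∀ i, DerivedCategory.Q.map (m i ≫ q) = DerivedCategory.Q.map (p i ≫ a i)) := by
  let J : ℤ → Type := fun i => {j : ℤ // i < j}
  let C : ℤ → CochainComplex A ℤ := fun j => mappingCone (𝟙 (X j))
  let S : ℤ → CochainComplex A ℤ := fun i => ∐ fun j : J i => C j.1
  have hS : ∀ i, IsZero (DerivedCategory.Q.obj (S i)) := fun i => isZero_Q_sigma_cone fun j : J i => X j.1
  let F : ℤ → CochainComplex A ℤ := fun i => X i ⊞ S i
  let e : ∀ i, X (i + 1) ⟶ S i := fun i =>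
    mappingCone.inr (𝟙 (X (i + 1))) ≫ Sigma.ι (fun j : J i => C j.1) ⟨i + 1, by omega⟩
  let r : ∀ i, S (i + 1) ⟶ S i := fun i =>
    Sigma.desc fun j : J (i + 1) => Sigma.ι (fun j : J i => C j.1) ⟨j.1, by have := j.2; omega⟩
  let inc : ∀ i, F (i + 1) ⟶ F i := fun i =>
    biprod.desc (biprod.lift (t i) (e i)) (r i ≫ biprod.inr)
  have hinc : ∀ i, Mono (inc i) := fun i => by
    have := mono_inr (X (i + 1))
    refine Preadditive.mono_of_cancel_zero _ fun {W} z hz => ?_
    let u : S i ⟶ C (i + 1) := Sigma.desc fun j : J i => if h : j.1 = i + 1 then eqToHom (congrArg C h) else 0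
    let v : S i ⟶ S (i + 1) := Sigma.desc fun j : J i =>
      if h : i + 1 < j.1 then Sigma.ι (fun j : J (i + 1) => C j.1) ⟨j.1, h⟩ else 0
    have heu : e i ≫ u = mappingCone.inr (𝟙 (X (i + 1))) := by simp [e, u, C]
    have hru : r i ≫ u = 0 := Sigma.hom_ext _ _ fun j => by
      have := j.2
      simp only [r, u, Sigma.ι_desc_assoc, Sigma.ι_desc, comp_zero]
      rw [dif_neg (by omega)]
    have hrv : r i ≫ v = 𝟙 _ := Sigma.hom_ext _ _ fun j => by
      simp only [r, v, Sigma.ι_desc_assoc, Sigma.ι_desc]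
      rw [dif_pos j.2]
      exact (Category.comp_id _).symm
    have h2 : (z ≫ biprod.fst) ≫ e i + (z ≫ biprod.snd) ≫ r i = 0 := by
      have h0 := congrArg (· ≫ biprod.snd) hz
      simp only [zero_comp, inc, Category.assoc] at h0
      rw [← h0, Category.assoc, Category.assoc, ← Preadditive.comp_add]
      congr 1
      ext <;> simp
    have hx : z ≫ biprod.fst = 0 := by
      have h3 := congrArg (· ≫ u) h2
      simp only [Preadditive.add_comp, Category.assoc, heu, hru, comp_zero, add_zero, zero_comp] at h3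
      rw [← Category.assoc] at h3
      exact zero_of_comp_mono _ h3
    refine biprod.hom_ext _ _ (by simpa using hx) ?_
    rw [hx, zero_comp, zero_add] at h2
    simpa [Category.assoc, hrv] using congrArg (· ≫ v) h2
  let p : ∀ i, F i ⟶ X i := fun i => biprod.fst
  have hp : ∀ i, inc i ≫ p i = p (i + 1) ≫ t i := fun i => by
    ext <;> simp [inc, p]
  have hpQ : ∀ i, IsIso (DerivedCategory.Q.map (p i)) := fun i => by
    refine ⟨DerivedCategory.Q.map biprod.inl, ?_, by rw [← Functor.map_comp, biprod.inl_fst, CategoryTheory.Functor.map_id]⟩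
    have h0 : DerivedCategory.Q.map (biprod.snd : F i ⟶ S i) = 0 := (hS i).eq_of_tgt _ _
    rw [← Functor.map_comp, ← CategoryTheory.Functor.map_id, ← biprod.total, Functor.map_add,
      Functor.map_comp DerivedCategory.Q biprod.snd, h0, zero_comp, add_zero]
  -- the map to the target
  have hφ : ∀ j : ℤ, ∃ φ : mappingCone (𝟙 (X (j + 1))) ⟶ I,
      mappingCone.inr (𝟙 (X (j + 1))) ≫ φ = a (j + 1) - t j ≫ a j := fun j =>
    exists_cone_extension _ (Homotopy.equivSubZero (hat j).symm)
  choose φ hφ using hφ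
  let Φ : ∀ j : ℤ, C j ⟶ I := fun j => eqToHom (congrArg C (show j = j - 1 + 1 by omega)) ≫ φ (j - 1)
  have hΦ : ∀ i, Φ (i + 1) = φ i := fun i => by
    have key : ∀ k (h : i + 1 = k + 1), eqToHom (congrArg C h) ≫ φ k = φ i := by
      intro k h
      obtain rfl : k = i := by omega
      simp
    exact key _ (by omega)
  let b : ∀ i, F i ⟶ I := fun i => biprod.desc (a i) (Sigma.desc fun j : J i => Φ j.1)
  have hb : ∀ i, inc i ≫ b i = b (i + 1) := fun i => by
    refine biprod.hom_ext' _ _ ?_ ?_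
    · simp [inc, b, e, hΦ, hφ]
    · simp only [inc, b, biprod.inr_desc_assoc, Category.assoc, biprod.inr_desc]
      exact Sigma.hom_ext _ _ fun j => by simp [r]
  have hbp : ∀ i, DerivedCategory.Q.map (b i) = DerivedCategory.Q.map (p i ≫ a i) := fun i => by
    have : IsIso (DerivedCategory.Q.map (p i)) := hpQ i
    have h0 : DerivedCategory.Q.map (biprod.inl : X i ⟶ F i) = inv (DerivedCategory.Q.map (p i)) :=
      IsIso.eq_inv_of_inv_hom_id (by rw [← Functor.map_comp, biprod.inl_fst, CategoryTheory.Functor.map_id])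
    rw [← cancel_epi (inv (DerivedCategory.Q.map (p i))), ← h0, ← Functor.map_comp, ← Functor.map_comp]
    simp [b, p]
  -- the union
  let f : ∀ n : ℕ, F (-(n : ℤ)) ⟶ F (-((n + 1 : ℕ) : ℤ)) := fun n =>
    eqToHom (congrArg F (show -(n : ℤ) = -((n + 1 : ℕ) : ℤ) + 1 by omega)) ≫ inc (-((n + 1 : ℕ) : ℤ))
  let D : ℕ ⥤ CochainComplex A ℤ := Functor.ofSequence f
  have hbe : ∀ (i j : ℤ) (h : i = j), eqToHom (congrArg F h) ≫ b j = b i := by
    rintro i _ rfl; simp
  let c : Cocone D := ⟨I, NatTrans.ofSequence (fun n => b (-(n : ℤ))) fun n => by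
    simp [D, f, hb, hbe]⟩
  have hmf : ∀ n, Mono (f n) := fun n => by have := hinc (-((n + 1 : ℕ) : ℤ)); infer_instance
  have hD : ∀ (j j' : ℕ) (g : j ⟶ j'), Mono (D.map g) := by
    intro j j' g
    obtain ⟨k, rfl⟩ := Nat.exists_eq_add_of_le (leOfHom g)
    induction k with
    | zero =>
      rw [show g = 𝟙 j from Subsingleton.elim _ _, CategoryTheory.Functor.map_id]
      infer_instance
    | succ k ih =>
      rw [show g = homOfLE (Nat.le_add_right j k) ≫ homOfLE (Nat.le_succ (j + k)) from Subsingleton.elim _ _,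
        Functor.map_comp]
      have := ih (homOfLE (Nat.le_add_right j k))
      have : Mono (D.map (homOfLE (Nat.le_succ (j + k)))) := by
        rw [show D.map (homOfLE (Nat.le_succ (j + k))) = f (j + k) from Functor.ofSequence_map_homOfLE_succ f _]
        exact hmf _
      infer_instance
  haveI : HasFilteredColimitsOfSize.{0, 0} (CochainComplex A ℤ) := hasFilteredColimitsOfSize_of_univLE.{0, 0, v, v}
  haveI : AB5OfSize.{0, 0} (CochainComplex A ℤ) := AB5OfSize_of_univLE.{0, 0, v, v} _
  let L := colimit D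
  let g : L ⟶ I := colimit.desc D c
  have hι : ∀ n, Mono (colimit.ι D n) := fun n => (colimit.isColimit D).mono_ι_app_of_isFiltered n
  -- all the legs
  let P : ∀ n : ℕ, F (n : ℤ) ⟶ L := fun n => Nat.rec (motive := fun n => F (n : ℤ) ⟶ L) (colimit.ι D 0)
    (fun n l => inc (n : ℤ) ≫ l) n
  let l : ∀ i : ℤ, F i ⟶ L := fun i => Int.rec (motive := fun i => F i ⟶ L) P
    (fun n => colimit.ι D (n + 1)) i
  have hl : ∀ i, inc i ≫ l i = l (i + 1) := by
    intro i
    match i with
    | Int.ofNat n => rfl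
    | Int.negSucc 0 =>
      have h := colimit.w D (homOfLE (Nat.le_add_right 0 1))
      rw [Functor.ofSequence_map_homOfLE_succ] at h
      show inc (Int.negSucc 0) ≫ colimit.ι D 1 = colimit.ι D 0
      simp [f] at h
      exact h
    | Int.negSucc (n + 1) =>
      have h := colimit.w D (homOfLE (Nat.le_add_right (n + 1) 1))
      rw [Functor.ofSequence_map_homOfLE_succ] at h
      show inc (Int.negSucc (n + 1)) ≫ colimit.ι D (n + 2) = colimit.ι D (n + 1)
      simp [f] at h
      exact h
  have hlm : ∀ i, Mono (l i) ∧ l i ≫ g = b i := by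
    intro i
    match i with
    | Int.negSucc n => exact ⟨hι (n + 1), colimit.ι_desc c (n + 1)⟩
    | Int.ofNat n =>
      induction n with
      | zero => exact ⟨hι 0, colimit.ι_desc c 0⟩
      | succ n ih =>
        obtain ⟨h1, h2⟩ := ih
        have := hinc (n : ℤ)
        refine ⟨?_, ?_⟩
        · show Mono (inc (n : ℤ) ≫ l (Int.ofNat n))
          exact mono_comp _ _
        · show (inc (n : ℤ) ≫ l (Int.ofNat n)) ≫ g = _
          rw [Category.assoc, h2]
          exact hb _
  let κ : L ⟶ mappingCone (𝟙 L) := mappingCone.inr (𝟙 L)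
  refine ⟨I ⊞ mappingCone (𝟙 L), F, inc, fun i => biprod.lift (b i) (l i ≫ κ), p, biprod.fst,
    fun i => ?_, fun i => ?_, hpQ, ?_, hp, fun i => by rw [biprod.lift_fst, hbp]⟩
  · have := (hlm i).1
    have := mono_inr L
    exact mono_of_mono_fac (biprod.lift_snd (b i) (l i ≫ κ))
  · refine biprod.hom_ext _ _ ?_ ?_
    · simp [hb]
    · simp [← hl i]
  · refine ⟨DerivedCategory.Q.map biprod.inl, ?_, by rw [← Functor.map_comp, biprod.inl_fst, CategoryTheory.Functor.map_id]⟩
    have h0 : DerivedCategory.Q.map (biprod.snd : I ⊞ mappingCone (𝟙 L) ⟶ _) = 0 := (isZero_Q_cone L).eq_of_tgt _ _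
    rw [← Functor.map_comp, ← CategoryTheory.Functor.map_id, ← biprod.total, Functor.map_add,
      Functor.map_comp DerivedCategory.Q biprod.snd, h0, zero_comp, add_zero]

end



open CategoryTheory.Limits in
/-- Let A be a Grothendieck abelian category, E ∈ D(A), and … → E^{i+1} → E^i → … → E an inverse system
in D(A) over ℤ with compatible maps to E. Then there exists a filtered complex K of A such that K
represents E and F^iK represents E^i, compatibly: there are isomorphisms in D(A) from the images of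
K and of the subcomplexes F^iK to E and E^i under which the inclusions F^iK → K and F^{i+1}K → F^iK
correspond to the given maps E^i → E and E^{i+1} → E^i. -/
theorem result {A : Type u} [Category.{v} A] [Abelian A]
    [IsGrothendieckAbelian.{v} A] [HasDerivedCategory.{w} A]
    (E : DerivedCategory A) (Es : ℤ → DerivedCategory A) (t : ∀ i : ℤ, Es (i + 1) ⟶ Es i)
    (a : ∀ i : ℤ, Es i ⟶ E) (hat : ∀ i : ℤ, t i ≫ a i = a (i + 1)) :
    ∃ (K : SpSeq.FilCx A) (e : DerivedCategory.Q.obj K.obj ≅ E)
      (ei : ∀ i : ℤ, DerivedCategory.Q.obj (K.step i) ≅ Es i),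
      (∀ i : ℤ, DerivedCategory.Q.map (K.fil i).arrow ≫ e.hom = (ei i).hom ≫ a i) ∧
      (∀ i : ℤ, DerivedCategory.Q.map (K.stepLE (le_of_lt (Int.lt_succ_self i))) ≫ (ei i).hom =
        (ei (i + 1)).hom ≫ t i) := by
  have hres : ∀ Y : DerivedCategory A, ∃ I : CochainComplex A ℤ, I.IsKInjective ∧
      Nonempty (DerivedCategory.Q.obj I ≅ Y) := fun Y => by
    obtain ⟨I, f, hI, hf, -, -⟩ := Groth.Agent.TriCat.exists_kInjective_resolution'.{v} (DerivedCategory.Q.objPreimage Y)
    have : IsIso (DerivedCategory.Q.map f) := by rwa [DerivedCategory.isIso_Q_map_iff_quasiIso]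
    exact ⟨I, hI, ⟨(asIso (DerivedCategory.Q.map f)).symm ≪≫ DerivedCategory.Q.objObjPreimageIso Y⟩⟩
  obtain ⟨I, hI, ⟨eI⟩⟩ := hres E
  choose X hX eX using fun i => hres (Es i)
  let u : ∀ i, DerivedCategory.Q.obj (X i) ≅ Es i := fun i => (eX i).some
  have hlift : ∀ (K L : CochainComplex A ℤ) [L.IsKInjective] (φ : DerivedCategory.Q.obj K ⟶ DerivedCategory.Q.obj L),
      ∃ ψ : K ⟶ L, DerivedCategory.Q.map ψ = φ := fun K L _ φ => by
    let c := DerivedCategory.quotientCompQhIso A
    obtain ⟨g, hg⟩ := (CochainComplex.IsKInjective.Qh_map_bijective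
      ((HomotopyCategory.quotient A (ComplexShape.up ℤ)).obj K) L).2 (c.hom.app K ≫ φ ≫ c.inv.app L)
    obtain ⟨ψ, rfl⟩ := (HomotopyCategory.quotient A (ComplexShape.up ℤ)).map_surjective g
    refine ⟨ψ, ?_⟩
    have h := c.hom.naturality ψ
    rw [Functor.comp_map, hg] at h
    simpa using h.symm
  have hhom : ∀ (K L : CochainComplex A ℤ) [L.IsKInjective] (φ ψ : K ⟶ L),
      DerivedCategory.Q.map φ = DerivedCategory.Q.map ψ → Nonempty (Homotopy φ ψ) := fun K L _ φ ψ h => by
    let c := DerivedCategory.quotientCompQhIso A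
    refine ⟨HomotopyCategory.homotopyOfEq _ _ ((CochainComplex.IsKInjective.Qh_map_bijective _ L).1 ?_)⟩
    rw [← cancel_mono (c.hom.app L)]
    have h1 := c.hom.naturality φ
    have h2 := c.hom.naturality ψ
    rw [Functor.comp_map] at h1 h2
    rw [h1, h2, h]
  choose t' ht' using fun i => haveI := hX i; hlift (X (i + 1)) (X i) ((u (i + 1)).hom ≫ t i ≫ (u i).inv)
  choose a' ha' using fun i => hlift (X i) I ((u i).hom ≫ a i ≫ eI.inv)
  have hta : ∀ i, DerivedCategory.Q.map (t' i ≫ a' i) = DerivedCategory.Q.map (a' (i + 1)) := fun i => by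
    rw [Functor.map_comp, ht', ha', ha', ← hat i]
    simp
  obtain ⟨T, F, inc, m, p, q, hm, hinc, hp, hq, hpt, hmq⟩ :=
    exists_rigid I X t' a' fun i => (hhom _ _ _ _ (hta i)).some
  let fil : ℤ → Subobject T := fun i => haveI := hm i; Subobject.mk (m i)
  have hle : ∀ i, fil (i + 1) ≤ fil i := fun i => by
    haveI := hm i
    haveI := hm (i + 1)
    exact Subobject.mk_le_mk_of_comm (inc i) (hinc i)
  let K : SpSeq.FilCx A := ⟨T, fil, antitone_int_of_succ_le hle⟩
  let v : ∀ i, K.step i ≅ F i := fun i => haveI := hm i; Subobject.underlyingIso (m i)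
  have hv : ∀ i, (v i).hom ≫ m i = (K.fil i).arrow := fun i => haveI := hm i; Subobject.underlyingIso_hom_comp_eq_mk (m i)
  refine ⟨K, @asIso _ _ _ _ (DerivedCategory.Q.map q) hq ≪≫ eI,
    fun i => DerivedCategory.Q.mapIso (v i) ≪≫ @asIso _ _ _ _ (DerivedCategory.Q.map (p i)) (hp i) ≪≫ u i,
    fun i => ?_, fun i => ?_⟩
  · simp only [Iso.trans_hom, asIso_hom, Functor.mapIso_hom, Category.assoc]
    rw [← hv i, Functor.map_comp, Category.assoc, ← Functor.map_comp_assoc _ (m i), hmq, Functor.map_comp,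
      Category.assoc, ha']
    simp
  · have hs : K.stepLE (le_of_lt (Int.lt_succ_self i)) ≫ (v i).hom = (v (i + 1)).hom ≫ inc i := by
      haveI := hm i
      rw [← cancel_mono (m i), Category.assoc, Category.assoc, hinc, hv, hv]
      exact Subobject.ofLE_arrow _
    simp only [Iso.trans_hom, asIso_hom, Functor.mapIso_hom, Category.assoc]
    rw [← Functor.map_comp_assoc, hs, Functor.map_comp, Category.assoc, ← Functor.map_comp_assoc _ (inc i), hpt,
      Functor.map_comp, Category.assoc, ht']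
    simp

end Groth.Agent.S6534
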