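import Groth.Statements.S6536
import Groth.Agent.NefCurve.RegSection
import Groth.Agent.NefCurve.EmbedPow

set_option autoImplicit false
set_option backward.isDefEq.respectTransparency false
set_option backward.isDefEq.respectTransparency.types false
set_option linter.style.haveILetI false
universe u
open CategoryTheory CategoryTheory.Limits AlgebraicGeometry
open Curves

namespace Groth.Agent.S6536
open Groth.Agent

/-- Let X be proper over the field k, of dimension one, with H^0(X, O_X) = k, and let L be an invertible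
O_X-module which has a regular global section (a monomorphism O_X → L), satisfies H^1(X, L) = 0 and
is ample. Then L^{⊗6} is very ample on X over k: there is a closed immersion i : X → P^n_k over k
with i^* O(1) ≅ L^{⊗6}. -/
theorem result (k : Type u) [Field k] (X : Scheme.{u}) [X.Over (Spec (CommRingCat.of k))]
    [IsProper (X ↘ (Spec (CommRingCat.of k)))] (hdim : topologicalKrullDim X = 1)
    (h0 : Module.finrank k (Coh.HH X (Coh.structureModule X) 0) = 1) (L : X.Modules) (hL : PicF.IsInvertible L)
    (hs : ∃ s : Coh.structureModule X ⟶ L, Mono s) (h1 : Subsingleton (Coh.HH X L 1)) (hample : CohB1.IsAmple L) :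
    ∃ (n : ℕ) (i : X ⟶ CohB1.ProjSpace n k), IsClosedImmersion i ∧ i ≫ CohB1.ProjSpace.toSpec n k = X ↘ (Spec (CommRingCat.of k)) ∧
      Nonempty ((Scheme.Modules.pullback i).obj (Twist.twistProjSpace n k 1) ≅ CohB1.tensorPow L 6) := by
  haveI := CurveCohLib.isNoetherian_of_proper (k := k) (X := X)
  haveI : Nonempty X := by
    by_contra hne
    rw [not_nonempty_iff] at hne
    haveI : IsEmpty (TopologicalSpace.IrreducibleCloseds X) := ⟨fun Z => hne.false Z.isIrreducible.nonempty.choose⟩
    have : topologicalKrullDim X = ⊥ := Order.krullDim_eq_bot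
    rw [hdim] at this
    exact WithBot.coe_ne_bot this
  obtain ⟨s, hs'⟩ := hs
  haveI := hs'
  let A := CohB1.tensorPow L 2
  have hAi : PicF.IsInvertible A := InvX.isInvertible_tensorPow hL 2
  obtain ⟨hA1, hAg⟩ := NefCurve.main_of_section k hdim.le hL s h1
  have hA1' : Subsingleton (Coh.HH X (CohB1.tensorPow A 1) 1) :=
    (CurveCohLib.hhEquiv (k := k) (CurveTensor.structureTensorIso A) 1).toEquiv.subsingleton
  have hgg := NefCurve.isGloballyGenerated_of_gen hAg
  obtain ⟨n, i, hi, hik, ⟨e⟩⟩ := NefCurve.exists_embedding_pow k (AmpleX.isAmple_tensorPow hample two_pos) hAg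
    (d := 3) (by norm_num) fun n hn z =>
      NefCurve.closure_of_h1_pow k hdim.le A hAi hgg 1 hA1' n (by omega) z
  obtain ⟨e'⟩ := H23.PicMul.cl_eq_iff.1 (show PicF.cl (CohB1.tensorPow A 3) = PicF.cl (CohB1.tensorPow L 6) by
    simp only [A, H23.PicMul.cl_tensorPow, ← pow_mul])
  exact ⟨n, i, hi, hik, ⟨e ≪≫ e'⟩⟩

end Groth.Agent.S6536
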