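import Groth.Statements.S6537
import Groth.Agent.NefCurve.EmbedPow
import Groth.Agent.NefCurve.Regular

set_option autoImplicit false
set_option backward.isDefEq.respectTransparency false
set_option backward.isDefEq.respectTransparency.types false
set_option linter.style.haveILetI false
universe u
open CategoryTheory CategoryTheory.Limits AlgebraicGeometry
open Curves

namespace Groth.Agent.S6537
open Groth.Agent

/-- Let X be proper over the field k, of dimension one, with H^0(X, O_X) = k, and let L be an invertible
O_X-module generated by its global sections, with H^1(X, L) = 0 and L ample. Then the tensor square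
L^{⊗2} is very ample on X over k: some closed immersion i : X → P^n_k over k has i^* O(1) ≅ L^{⊗2}. -/
theorem result (k : Type u) [Field k] (X : Scheme.{u}) [X.Over (Spec (CommRingCat.of k))]
    [IsProper (X ↘ (Spec (CommRingCat.of k)))] (hdim : topologicalKrullDim X = 1)
    (h0 : Module.finrank k (Coh.HH X (Coh.structureModule X) 0) = 1) (L : X.Modules) (hL : PicF.IsInvertible L)
    (hgg : Curv2.IsGloballyGenerated L) (h1 : Subsingleton (Coh.HH X L 1)) (hample : CohB1.IsAmple L) :
    ∃ (n : ℕ) (i : X ⟶ CohB1.ProjSpace n k), IsClosedImmersion i ∧ i ≫ CohB1.ProjSpace.toSpec n k = X ↘ (Spec (CommRingCat.of k)) ∧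
      Nonempty ((Scheme.Modules.pullback i).obj (Twist.twistProjSpace n k 1) ≅ CohB1.tensorPow L 2) := by
  haveI := CurveCohLib.isNoetherian_of_proper (k := k) (X := X)
  haveI : Nonempty X := by
    by_contra hne
    rw [not_nonempty_iff] at hne
    haveI : IsEmpty (TopologicalSpace.IrreducibleCloseds X) := ⟨fun Z => hne.false Z.isIrreducible.nonempty.choose⟩
    have : topologicalKrullDim X = ⊥ := Order.krullDim_eq_bot
    rw [hdim] at this
    exact WithBot.coe_ne_bot this
  have h1' : Subsingleton (Coh.HH X (CohB1.tensorPow L 1) 1) :=
    (CurveCohLib.hhEquiv (k := k) (CurveTensor.structureTensorIso L) 1).toEquiv.subsingleton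
  exact NefCurve.exists_embedding_pow k hample (NefCurve.gen_of_isGloballyGenerated hgg) two_pos
    fun n hn z => NefCurve.closure_of_h1_pow k hdim.le L hL hgg 1 h1' n hn z

end Groth.Agent.S6537
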