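import Groth.Statements.S6555
import Groth.Agent.TameSep.Main
import Groth.Agent.SmoothCrit.Omega
import Groth.Agent.ExtShX.SmDualAll
import Groth.Agent.GrpSchLib.SmoothRegular
-- import your own Groth.Agent.* helpers here

set_option autoImplicit false
set_option backward.isDefEq.respectTransparency false
set_option backward.isDefEq.respectTransparency.types false
set_option linter.style.haveILetI false
set_option maxHeartbeats 1000000
universe u
open CategoryTheory CategoryTheory.Limits AlgebraicGeometry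
attribute [local instance] Curv2.resAlgebra Curv2.stalkAlgebra
open Curves

namespace Groth.Agent.S6555
open Groth.Agent

/-- Let X be a scheme over the field k and x ∈ X a closed point near which X → Spec k is smooth of
relative dimension 1 (on some open neighbourhood of x), with κ(x)/k separable. If s is an
irreducible element of the local ring O_{X,x} (a discrete valuation ring, so s generates its maximal
ideal), then Ω_{O_{X,x}/k}, which is the stalk of Ω_{X/k} at x, is free of rank one with basis d s: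
the map a ↦ a · d s from O_{X,x} to Ω_{O_{X,x}/k} is bijective. -/
theorem result (k : Type u) [Field k] (X : Scheme.{u}) [X.Over (Spec (CommRingCat.of k))]
    (x : X) (hx : IsClosed ({x} : Set X))
    (hsm : ∃ U : X.Opens, x ∈ U ∧ SmoothOfRelativeDimension 1 (U.ι ≫ (X ↘ (Spec (CommRingCat.of k)))))
    (hsep : Algebra.IsSeparable k (X.residueField x))
    (s : X.presheaf.stalk x) (hs : Irreducible s) :
    Function.Bijective (fun a : X.presheaf.stalk x => a • KaehlerDifferential.D k (X.presheaf.stalk x) s) := by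
  obtain ⟨U, hxU, hsU⟩ := hsm
  let q := X ↘ Spec (CommRingCat.of k)
  haveI : SmoothOfRelativeDimension 1 (U.ι ≫ q) := hsU
  let B := X.presheaf.stalk x
  let K := (Spec (CommRingCat.of k)).presheaf.stalk (q x)
  letI : Algebra k B := Curv2.stalkAlgebra k X x
  letI : Algebra k K := StructureSheaf.stalkAlgebra k (q x)
  letI : Algebra K B := (q.stalkMap x).hom.toAlgebra
  haveI : IsScalarTower k K B := IsScalarTower.of_algebraMap_eq' (RingHom.ext fun c =>
    (q.germ_stalkMap_apply ⊤ x trivial _).symm)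
  have hsurj : Function.Surjective (algebraMap k K) := by
    let pt : PrimeSpectrum k := q x
    haveI : IsLocalization.AtPrime K pt.asIdeal := StructureSheaf.IsLocalization.to_stalk k pt
    have hu : pt.asIdeal.primeCompl ≤ IsUnit.submonoid k := fun s hs =>
      IsUnit.mk0 s fun h0 => hs (h0 ▸ pt.asIdeal.zero_mem)
    exact (IsLocalization.atUnits k pt.asIdeal.primeCompl hu (S := K)).surjective
  haveI : Algebra.FormallyUnramified k K := Algebra.FormallyUnramified.of_surjective (Algebra.ofId k K) hsurj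
  haveI : Algebra.IsSeparable k (IsLocalRing.ResidueField B) := hsep
  haveI : Algebra.FormallyUnramified k (IsLocalRing.ResidueField B) := Algebra.FormallyUnramified.of_isSeparable _ _
  -- chart inside U
  obtain ⟨W, hW, V₀, hV₀, hxV, e₀, hstd⟩ := SmoothOfRelativeDimension.exists_isStandardSmoothOfRelativeDimension
    (n := 1) (f := U.ι ≫ q) ⟨x, hxU⟩
  have hV : IsAffineOpen (U.ι ''ᵁ V₀) := hV₀.image_of_isOpenImmersion U.ι
  have hxV' : x ∈ U.ι ''ᵁ V₀ := ⟨⟨x, hxU⟩, hxV, rfl⟩
  have eV : U.ι ''ᵁ V₀ ≤ q ⁻¹ᵁ W := by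
    rintro _ ⟨v, hv, rfl⟩
    exact e₀ hv
  have hcomp : q.appLE W (U.ι ''ᵁ V₀) eV ≫ (U.ι.appIso V₀).hom = (U.ι ≫ q).appLE W V₀ e₀ := by
    rw [Scheme.Hom.appIso_hom', Scheme.Hom.appLE_comp_appLE]
  have hstd' : (q.appLE W (U.ι ''ᵁ V₀) eV).hom.IsStandardSmoothOfRelativeDimension 1 := by
    rw [show q.appLE W (U.ι ''ᵁ V₀) eV = (U.ι ≫ q).appLE W V₀ e₀ ≫ (U.ι.appIso V₀).inv from
      (Iso.eq_comp_inv _).2 hcomp]
    exact (RingHom.isStandardSmoothOfRelativeDimension_respectsIso (n := 1)).1
      ((U.ι ≫ q).appLE W V₀ e₀).hom (U.ι.appIso V₀).symm.commRingCatIsoToRingEquiv hstd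
  obtain ⟨hfree, hfin, hrk⟩ := SmoothCrit.free_stalk q hW hV eV hxV' 1 (by
    letI := (q.appLE W (U.ι ''ᵁ V₀) eV).hom.toAlgebra
    haveI : Algebra.IsStandardSmoothOfRelativeDimension 1 Γ(Spec (CommRingCat.of k), W) Γ(X, U.ι ''ᵁ V₀) := hstd'
    haveI : Algebra.IsStandardSmooth Γ(Spec (CommRingCat.of k), W) Γ(X, U.ι ''ᵁ V₀) :=
      Algebra.IsStandardSmoothOfRelativeDimension.isStandardSmooth 1
    haveI : Nonempty (U.ι ''ᵁ V₀ : X.Opens) := ⟨⟨x, hxV'⟩⟩
    exact ⟨inferInstance, inferInstance, Module.finrank_eq_of_rank_eq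
      (Algebra.IsStandardSmoothOfRelativeDimension.rank_kaehlerDifferential
        (R := Γ(Spec (CommRingCat.of k), W)) (S := Γ(X, U.ι ''ᵁ V₀)) 1)⟩)
  haveI : Module.Free B Ω[B⁄K] := hfree
  let b : Module.Basis Unit B Ω[B⁄K] := Module.basisUnique Unit hrk
  let E : Ω[B⁄k] ≃ₗ[B] Ω[B⁄K] := LinearEquiv.ofBijective (KaehlerDifferential.map k K B B)
    ⟨(injective_iff_map_eq_zero _).2 fun ω hω => by
      obtain ⟨t, rfl⟩ := (KaehlerDifferential.exact_mapBaseChange_map k K B ω).1 hω
      rw [Subsingleton.elim t 0, map_zero], KaehlerDifferential.map_surjective k K B⟩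
  -- the maximal ideal
  haveI : Smooth (U.ι ≫ q) := SmoothOfRelativeDimension.smooth (n := 1) _
  letI : (U : Scheme.{u}).Over (Spec (CommRingCat.of k)) := ⟨U.ι ≫ q⟩
  haveI : SmoothOfRelativeDimension 1 ((U : Scheme.{u}) ↘ Spec (CommRingCat.of k)) := hsU
  let eS := (U.stalkIso ⟨x, hxU⟩).commRingCatIsoToRingEquiv
  haveI : IsRegularLocalRing ((U : Scheme.{u}).presheaf.stalk ⟨x, hxU⟩) :=
    GrpSchLib.isRegularLocalRing_stalk_of_smooth (U.ι ≫ q) _
  haveI : IsRegularLocalRing B := IsRegularLocalRing.of_ringEquiv eS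
  have hcl : IsClosed ({⟨x, hxU⟩} : Set (U : Scheme.{u})) := by
    have : ({⟨x, hxU⟩} : Set (U : Scheme.{u})) = Subtype.val ⁻¹' {x} := by
      ext z; exact ⟨fun h => congrArg Subtype.val h, fun h => Subtype.ext h⟩
    rw [this]; exact hx.preimage continuous_subtype_val
  have hdim : ringKrullDim B = 1 :=
    (ringKrullDim_eq_of_ringEquiv eS).symm.trans (ExtShX.SmDual.ringKrullDim_stalk_eq (k := k) (r := 1) _ hcl)
  have hm : IsLocalRing.maximalIdeal B = Ideal.span {s} := by
    have h1 : ((IsLocalRing.maximalIdeal B).spanFinrank : WithBot ℕ∞) = 1 :=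
      ((isRegularLocalRing_iff (R := B)).1 ‹_›).trans hdim
    obtain ⟨S, hS, hspan⟩ := (IsNoetherian.noetherian (IsLocalRing.maximalIdeal B)).exists_span_finset_card_eq_spanFinrank
    have hcard : S.card = 1 := by rw [hS]; exact_mod_cast h1
    obtain ⟨t, rfl⟩ := Finset.card_eq_one.1 hcard
    rw [Finset.coe_singleton] at hspan
    have hsm' : s ∈ Ideal.span {t} := hspan.ge (show s ∈ IsLocalRing.maximalIdeal B from hs.not_isUnit)
    obtain ⟨r, hr⟩ := Ideal.mem_span_singleton'.1 hsm'
    have htu : ¬ IsUnit t := by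
      have : t ∈ IsLocalRing.maximalIdeal B := hspan ▸ Ideal.mem_span_singleton_self t
      exact this
    have hru : IsUnit r := (hs.isUnit_or_isUnit hr.symm).resolve_right htu
    rw [← hspan, ← hr, Ideal.span_singleton_mul_left_unit hru]
  exact TameSep.bijective_smul_D (b.map E.symm) hm

end Groth.Agent.S6555
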