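import Groth.Statements.S6557
import Groth.Agent.GrpSchLib.SmoothQuot
import Groth.Agent.DimFormula.DedekindFlat
import Groth.Agent.SchTop.Closed
-- import your own Groth.Agent.* helpers here

set_option autoImplicit false
set_option backward.isDefEq.respectTransparency false
set_option backward.isDefEq.respectTransparency.types false
set_option linter.style.haveILetI false
set_option maxHeartbeats 1000000
universe u
open CategoryTheory CategoryTheory.Limits AlgebraicGeometry
open Curves

namespace Groth.Agent.S6557
open Groth.Agent

/-- Let k be a field and f : X → Y a surjective morphism over k of curves over k (integral, separated,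
of finite type over k, of dimension one). If X is smooth over k and every local ring of Y is an
integrally closed domain, then Y is also smooth over k. -/
theorem result (k : Type u) [Field k]
    (X Y : Scheme.{u}) [X.Over (Spec (CommRingCat.of k))] [Y.Over (Spec (CommRingCat.of k))]
    [IsIntegral X] [IsSeparated (X ↘ (Spec (CommRingCat.of k)))] [LocallyOfFiniteType (X ↘ (Spec (CommRingCat.of k)))] [QuasiCompact (X ↘ (Spec (CommRingCat.of k)))] (hdX : topologicalKrullDim X = 1) [IsIntegral Y] [IsSeparated (Y ↘ (Spec (CommRingCat.of k)))] [LocallyOfFiniteType (Y ↘ (Spec (CommRingCat.of k)))] [QuasiCompact (Y ↘ (Spec (CommRingCat.of k)))] (hdY : topologicalKrullDim Y = 1)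
    (f : X ⟶ Y) (hf : f ≫ (Y ↘ (Spec (CommRingCat.of k))) = X ↘ (Spec (CommRingCat.of k))) [Surjective f]
    [Smooth (X ↘ (Spec (CommRingCat.of k)))] (hY : Pi1.IsNormalScheme Y) :
    Smooth (Y ↘ (Spec (CommRingCat.of k))) := by
  haveI : IsLocallyNoetherian Y := LocallyOfFiniteType.isLocallyNoetherian (Y ↘ Spec (CommRingCat.of k))
  have hreg : ∀ y : Y, IsRegularLocalRing (Y.presheaf.stalk y) ∧ ringKrullDim (Y.presheaf.stalk y) ≤ 1 := fun y => by
    haveI := (hY y).1
    haveI := (hY y).2
    have hd : ringKrullDim (Y.presheaf.stalk y) ≤ 1 := (SchTop.ringKrullDim_stalk_le y).trans hdY.le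
    haveI : Ring.KrullDimLE 1 (Y.presheaf.stalk y) := Ring.krullDimLE_iff.2 hd
    haveI : Ring.DimensionLEOne (Y.presheaf.stalk y) :=
      ⟨fun {p} hp hprime => (Ring.krullDimLE_one_iff.1 inferInstance p hprime).resolve_left
        (by rw [minimalPrimes_eq_minimals]; exact fun h => hp (le_bot_iff.1 (h.2 Ideal.isPrime_bot bot_le)))⟩
    haveI : IsDedekindDomain (Y.presheaf.stalk y) :=
      { (inferInstance : IsIntegrallyClosed (Y.presheaf.stalk y)) with
        maximalOfPrime := fun {p} hp hprime => (Ring.DimensionLEOne.maximalOfPrime hp hprime) }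
    haveI : IsPrincipalIdealRing (Y.presheaf.stalk y) := inferInstance
    exact ⟨inferInstance, hd⟩
  haveI : Flat f := DimFormula.flat_of_regular_dim_le_one hreg f fun η hη => by
    have h1 : genericPoint X = η := hη _ ((genericPoint_spec X).specializes (Set.mem_univ η))
    obtain ⟨z, hz⟩ := f.surjective (genericPoint Y)
    refine (genericPoint_spec Y).eq ?_ |>.symm
    rw [← h1]
    have h2 : f (genericPoint X) ⤳ genericPoint Y := hz ▸ ((genericPoint_spec X).specializes (Set.mem_univ z)).map f.continuous
    exact Set.eq_univ_of_univ_subset ((genericPoint_spec Y).def ▸ closure_minimal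
      (by simpa using specializes_iff_mem_closure.1 h2) isClosed_closure)
  haveI : Smooth (f ≫ (Y ↘ Spec (CommRingCat.of k))) := by rw [hf]; infer_instance
  exact GrpSchLib.smooth_of_flat_surjective f _

end Groth.Agent.S6557
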