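import Groth.Statements.S6563
import Groth.Agent.DimOne.Completion
import Groth.Agent.DimOne.Ample
-- import your own Groth.Agent.* helpers here

set_option autoImplicit false
set_option backward.isDefEq.respectTransparency false
set_option backward.isDefEq.respectTransparency.types false
set_option linter.style.haveILetI false
set_option maxHeartbeats 1000000
universe u
open CategoryTheory CategoryTheory.Limits AlgebraicGeometry
open Curves

namespace Groth.Agent.S6563
open Groth.Agent

/-- Let k be a field and f : X → Y a morphism over k of varieties over k, with X a curve (integral,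
separated and of finite type over k, of dimension one) and Y proper over k (and integral). Then f
extends over a projective completion of X: there are a projective curve X̄ over k (integral, of
dimension one, admitting a closed immersion over k into some P^n_k), an open immersion j : X → X̄
over k and a k-morphism g : X̄ → Y with g ∘ j = f. -/
theorem result (k : Type u) [Field k]
    (X Y : Scheme.{u}) [X.Over (Spec (CommRingCat.of k))] [Y.Over (Spec (CommRingCat.of k))]
    [IsIntegral X] [IsSeparated (X ↘ (Spec (CommRingCat.of k)))] [LocallyOfFiniteType (X ↘ (Spec (CommRingCat.of k)))] [QuasiCompact (X ↘ (Spec (CommRingCat.of k)))] (hdX : topologicalKrullDim X = 1)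
    [IsIntegral Y] [IsProper (Y ↘ (Spec (CommRingCat.of k)))]
    (f : X ⟶ Y) (hf : f ≫ (Y ↘ (Spec (CommRingCat.of k))) = X ↘ (Spec (CommRingCat.of k))) :
    ∃ (Xb : Scheme.{u}) (_ : Xb.Over (Spec (CommRingCat.of k))) (j : X ⟶ Xb) (g : Xb ⟶ Y),
      IsOpenImmersion j ∧ j ≫ g = f ∧ j ≫ (Xb ↘ (Spec (CommRingCat.of k))) = X ↘ (Spec (CommRingCat.of k)) ∧ g ≫ (Y ↘ (Spec (CommRingCat.of k))) = Xb ↘ (Spec (CommRingCat.of k)) ∧
      IsIntegral Xb ∧ topologicalKrullDim Xb = 1 ∧
      ∃ (n : ℕ) (i : Xb ⟶ CohB1.ProjSpace n k), IsClosedImmersion i ∧ i ≫ CohB1.ProjSpace.toSpec n k = Xb ↘ (Spec (CommRingCat.of k)) := by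
  have hd1 : topologicalKrullDim X ≤ 1 := hdX.le
  haveI : IsLocallyNoetherian X := LocallyOfFiniteType.isLocallyNoetherian (X ↘ Spec (CommRingCat.of k))
  haveI : CompactSpace X := QuasiCompact.compactSpace_of_compactSpace (X ↘ Spec (CommRingCat.of k))
  haveI : AlgebraicGeometry.IsNoetherian X := {}
  haveI : X.IsSeparated := ⟨by rw [← terminal.comp_from (X ↘ Spec (CommRingCat.of k))]; infer_instance⟩
  obtain ⟨L, hL⟩ := Groth.Agent.DimOne.exists_isAmple hd1
  obtain ⟨d, r₀, hr₀, hr₀f⟩ := Groth.Agent.AmpleEmbed.exists_immersion (X ↘ Spec (CommRingCat.of k)) hL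
  haveI := hr₀
  haveI : IsProper (CohB1.ProjSpace.toSpec d k) := Groth.Agent.PnCoh.Chow.isProper_toSpec d k
  let sY := Y ↘ Spec (CommRingCat.of k)
  let P := pullback (CohB1.ProjSpace.toSpec d k) sY
  let r : X ⟶ P := pullback.lift r₀ f (by rw [hr₀f, hf])
  let sP : P ⟶ Spec (CommRingCat.of k) := pullback.snd _ _ ≫ sY
  haveI : IsProper sP := inferInstance
  haveI : IsImmersion r := by
    haveI : IsImmersion (r ≫ pullback.fst (CohB1.ProjSpace.toSpec d k) sY) := by rw [pullback.lift_fst]; exact hr₀
    exact IsImmersion.of_comp r (pullback.fst (CohB1.ProjSpace.toSpec d k) sY)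
  haveI : IsLocallyNoetherian P := LocallyOfFiniteType.isLocallyNoetherian sP
  haveI : QuasiCompact r := inferInstance
  let Xb := r.image
  let g₀ : Xb ⟶ Spec (CommRingCat.of k) := r.imageι ≫ sP
  haveI : IsProper g₀ := inferInstance
  have hfac : r.toImage ≫ g₀ = X ↘ Spec (CommRingCat.of k) := by
    show r.toImage ≫ r.imageι ≫ sP = _
    rw [r.toImage_imageι_assoc]
    show r ≫ pullback.snd _ _ ≫ sY = _
    rw [pullback.lift_snd_assoc, hf]
  have hd : Dense (Set.range r.toImage) := r.toImage.denseRange
  have hirr : IrreducibleSpace Xb := by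
    rw [irreducibleSpace_def]
    have h1 := (PreirreducibleSpace.isPreirreducible_univ (X := X)).image r.toImage r.toImage.continuous.continuousOn
    rw [Set.image_univ] at h1
    have h2 : IsIrreducible (Set.range r.toImage) := ⟨Set.range_nonempty _, h1⟩
    simpa [hd.closure_eq] using h2.closure
  haveI := hirr
  haveI : IsReduced Xb := by
    haveI : IsSchemeTheoreticallyDominant r.toImage := by
      rw [isSchemeTheoreticallyDominant_iff]
      refine Scheme.IdealSheafData.ext_of_iSup_eq_top
        (fun V : P.affineOpens => (⟨r.imageι ⁻¹ᵁ V.1, V.2.preimage r.imageι⟩ : r.image.affineOpens)) ?_ ?_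
      · rw [← Scheme.Hom.preimage_iSup, iSup_affineOpens_eq_top, Scheme.Hom.preimage_top]
      · intro V
        rw [Scheme.Hom.ker_apply, Scheme.IdealSheafData.ideal_bot]
        exact (RingHom.injective_iff_ker_eq_bot _).1 (r.toImage_app_injective V)
    exact IsSchemeTheoreticallyDominant.isReduced r.toImage
  haveI : IsIntegral Xb := isIntegral_of_irreducibleSpace_of_isReduced Xb
  haveI : IsLocallyNoetherian Xb := LocallyOfFiniteType.isLocallyNoetherian g₀
  haveI : CompactSpace Xb := QuasiCompact.compactSpace_of_compactSpace g₀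
  haveI : AlgebraicGeometry.IsNoetherian Xb := {}
  have hle : topologicalKrullDim Xb ≤ 1 :=
    (Groth.Agent.DimOne.topologicalKrullDim_le_of_dense k g₀ r.toImage hd).trans hd1
  have hdb : topologicalKrullDim Xb = 1 :=
    le_antisymm hle (hdX.symm.le.trans r.toImage.isOpenEmbedding.isInducing.topologicalKrullDim_le)
  haveI : Xb.IsSeparated := ⟨by rw [← terminal.comp_from g₀]; infer_instance⟩
  obtain ⟨L', hL'⟩ := Groth.Agent.DimOne.exists_isAmple hle
  obtain ⟨N, i, hi, hif⟩ := Groth.Agent.AmpleEmbed.exists_immersion g₀ hL'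
  haveI := hi
  haveI : IsProper (i ≫ CohB1.ProjSpace.toSpec N k) := by rw [hif]; infer_instance
  haveI : IsProper (CohB1.ProjSpace.toSpec N k) := Groth.Agent.PnCoh.Chow.isProper_toSpec N k
  haveI : IsProper i := IsProper.of_comp i (CohB1.ProjSpace.toSpec N k)
  refine ⟨Xb, ⟨g₀⟩, r.toImage, r.imageι ≫ pullback.snd _ _, inferInstance, ?_, hfac, ?_, inferInstance, hdb,
    N, i, IsClosedImmersion.of_isPreimmersion i i.isClosedMap.isClosed_range, hif⟩
  · rw [r.toImage_imageι_assoc]
    exact pullback.lift_snd _ _ _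
  · exact (Category.assoc _ _ _)

end Groth.Agent.S6563
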