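import Groth.Statements.S6573
import Groth.Agent.NodeLib.NormalForm
import Groth.Agent.SmNhd17.Fibre
-- import your own Groth.Agent.* helpers here

set_option autoImplicit false
set_option backward.isDefEq.respectTransparency false
set_option backward.isDefEq.respectTransparency.types false
set_option linter.style.haveILetI false
set_option maxHeartbeats 1000000
universe u
open CategoryTheory CategoryTheory.Limits AlgebraicGeometry
open Curves

namespace Groth.Agent.S6573
open Groth.Agent

/-- Let f : T → S be a morphism of schemes, t ∈ T with image s ∈ S. Assume that the local ring O_{S,s}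
is Noetherian, that f is locally of finite type, that f is flat at the point t, and that t is a
split node of the fibre T_s — here taken in the form: t is a closed point of T_s and the completion
of O_{T_s,t} is isomorphic, compatibly with κ(s), to κ(s)[[x,y]]/(xy). Then there are h in the
maximal ideal of the completion Â of O_{S,s} and an isomorphism of the completion of O_{T,t} with
Â[[x,y]]/(xy − h) compatible with the maps from O_{S,s} (hence an isomorphism of Â-algebras). -/
theorem result {T S : Scheme.{u}} (f : T ⟶ S) [LocallyOfFiniteType f] (t : T)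
    [IsNoetherianRing (S.presheaf.stalk (f t))] (hfl : (f.stalkMap t).hom.Flat)
    (ht : letI : (f.fiber (f t)).Over (Spec (S.residueField (f t))) := ⟨f.fiberToSpecResidueField (f t)⟩
      letI := Curv2.stalkAlgebra (S.residueField (f t)) (f.fiber (f t)) (f.asFiber t)
      IsClosed ({f.asFiber t} : Set (f.fiber (f t))) ∧
        Curv2.IsOrdDoublePt (S.residueField (f t)) ((f.fiber (f t)).presheaf.stalk (f.asFiber t))) :
    ∃ h ∈ IsLocalRing.maximalIdeal (Curv2.cpl (S.presheaf.stalk (f t))),
      ∃ e : Curv2.cpl (T.presheaf.stalk t) ≃+*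
          (MvPowerSeries (Fin 2) (Curv2.cpl (S.presheaf.stalk (f t))) ⧸
            Ideal.span {(MvPowerSeries.X 0 * MvPowerSeries.X 1 - MvPowerSeries.C h : MvPowerSeries (Fin 2) (Curv2.cpl (S.presheaf.stalk (f t))))}),
        ∀ a : S.presheaf.stalk (f t),
          e (algebraMap (T.presheaf.stalk t) (Curv2.cpl (T.presheaf.stalk t)) ((f.stalkMap t).hom a)) =
            Ideal.Quotient.mk _ (MvPowerSeries.C (algebraMap (S.presheaf.stalk (f t)) (Curv2.cpl (S.presheaf.stalk (f t))) a)) := by
  let A := S.presheaf.stalk (f t)
  let B := T.presheaf.stalk t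
  let φ : A →+* B := (f.stalkMap t).hom
  letI : Algebra A B := φ.toAlgebra
  haveI : Algebra.EssFiniteType A B := LocallyOfFiniteType.stalkMap f t
  haveI : IsNoetherianRing B := Algebra.EssFiniteType.isNoetherianRing A B
  haveI : IsLocalHom (algebraMap A B) := inferInstanceAs (IsLocalHom (f.stalkMap t).hom)
  haveI : Module.Flat A B := hfl
  let κ := IsLocalRing.ResidueField A
  letI : (f.fiber (f t)).Over (Spec (CommRingCat.of κ)) := ⟨f.fiberToSpecResidueField (f t)⟩
  let F := (f.fiber (f t)).presheaf.stalk (f.asFiber t)
  letI : Algebra κ F := Curv2.stalkAlgebra κ (f.fiber (f t)) (f.asFiber t)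
  letI : Algebra A F := ((algebraMap κ F).comp (IsLocalRing.residue A)).toAlgebra
  letI : Algebra κ (B ⧸ (IsLocalRing.maximalIdeal A).map φ) :=
    (Ideal.quotientMap _ φ Ideal.le_comap_map).toAlgebra
  obtain ⟨E⟩ := SmNhd17.exists_algEquiv_fibre_stalk f t
  haveI : IsNoetherianRing F := isNoetherianRing_of_ringEquiv _ E.toRingEquiv
  let q : B →ₐ[A] F :=
    { (E.toRingEquiv.toRingHom.comp (Ideal.Quotient.mk _) : B →+* F) with
      commutes' := fun a => E.commutes (IsLocalRing.residue A a) }
  have hq : Function.Surjective q := E.surjective.comp Ideal.Quotient.mk_surjective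
  have hker : RingHom.ker q = (IsLocalRing.maximalIdeal A).map (algebraMap A B) := by
    ext x
    exact E.map_eq_zero_iff.trans Ideal.Quotient.eq_zero_iff_mem
  obtain ⟨e, he⟩ := ht.2
  exact NodeLib.exists_normalForm A B F q hq hker e fun a => he (IsLocalRing.residue A a)

end Groth.Agent.S6573
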