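import Groth.Statements.S6616
import Groth.Agent.PerfGen7.RightExt

set_option autoImplicit false
universe v u
open CategoryTheory CategoryTheory.Limits
open CohDer

namespace Groth.Agent.S6616
open CategoryTheory.Limits ZeroObject

/-- Let I be a class of objects of an abelian category, closed under isomorphisms, containing 0, closed
under binary products, and such that every object is a subobject of an object of I. For any cochain
complex K there are bounded below complexes Iₙ (n ≥ 0) with terms in I, termwise injective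
quasi-isomorphisms πₙ : τ_{≥ -n}K ⟶ Iₙ and termwise split surjections pₙ : Iₙ₊₁ ⟶ Iₙ with termwise
kernels in I, such that K ⟶ τ_{≥ -(n+1)}K ⟶ Iₙ₊₁ ⟶ Iₙ equals K ⟶ τ_{≥ -n}K ⟶ Iₙ. (The published
system starts at τ_{≥ -1}K; this row starts at n = 0 with τ_{≥ 0}K. Closure of I under isomorphisms
is assumed so that closure under binary products has a meaning for a class of objects.) -/
theorem result {A : Type u} [Category.{v} A] [Abelian A] (I : ObjectProperty A) [I.IsClosedUnderIsomorphisms]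
    (hI0 : ∃ Z : A, IsZero Z ∧ I Z) (hIprod : ∀ X Y : A, I X → I Y → I (X ⊞ Y))
    (hI : ∀ X : A, ∃ (Y : A) (ι : X ⟶ Y), I Y ∧ Mono ι) (K : CochainComplex A ℤ) :
    ∃ (Q : ℕ → CochainComplex A ℤ) (p : ∀ n, Q (n + 1) ⟶ Q n) (π : ∀ n : ℕ, K.truncGE (-(n : ℤ)) ⟶ Q n),
      (∀ n, QuasiIso (π n) ∧ ∀ i, Mono ((π n).f i)) ∧
      (∀ n, ∃ a : ℤ, (Q n).IsStrictlyGE a) ∧ (∀ n i, I ((Q n).X i)) ∧
      (∀ n i, (∃ s : (Q n).X i ⟶ (Q (n + 1)).X i, s ≫ (p n).f i = 𝟙 _) ∧ I (kernel ((p n).f i))) ∧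
      (∀ n : ℕ, K.πTruncGE (-((n + 1 : ℕ) : ℤ)) ≫ π (n + 1) ≫ p n = K.πTruncGE (-(n : ℤ)) ≫ π n) := by
  classical
  let tm : ∀ n : ℕ, K.truncGE (-((n + 1 : ℕ) : ℤ)) ⟶ K.truncGE (-(n : ℤ)) := fun n =>
    haveI : (K.truncGE (-(n : ℤ))).IsStrictlyGE (-((n + 1 : ℕ) : ℤ)) :=
      CochainComplex.isStrictlyGE_of_ge _ _ (-(n : ℤ)) (by omega)
    CochainComplex.truncGEMap (K.πTruncGE (-(n : ℤ))) (-((n + 1 : ℕ) : ℤ)) ≫
      inv ((K.truncGE (-(n : ℤ))).πTruncGE (-((n + 1 : ℕ) : ℤ)))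
  have htm : ∀ n : ℕ, K.πTruncGE (-((n + 1 : ℕ) : ℤ)) ≫ tm n = K.πTruncGE (-(n : ℤ)) := fun n => by
    simp only [tm, CochainComplex.πTruncGE_naturality_assoc, IsIso.hom_inv_id, Category.comp_id]
  let St : ℕ → Type _ := fun n => Σ' (Q : CochainComplex A ℤ) (π : K.truncGE (-(n : ℤ)) ⟶ Q),
    QuasiIso π ∧ (∀ i, Mono (π.f i)) ∧ (∃ a : ℤ, Q.IsStrictlyGE a) ∧ ∀ i, I (Q.X i)
  obtain ⟨st0⟩ : Nonempty (St 0) := by
    obtain ⟨Z, hZ, hIZ⟩ := hI0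
    obtain ⟨R, π, p, -, h1, h2, h3, h4, -⟩ := Groth.Agent.PerfGen7.RightExt.exists_ext I ⟨Z, hZ, hIZ⟩
      hIprod hI (0 : K.truncGE (-((0 : ℕ) : ℤ)) ⟶ (0 : CochainComplex A ℤ))
      (fun i => I.prop_of_iso (hZ.iso
        ((HomologicalComplex.eval A (ComplexShape.up ℤ) i).map_isZero (Limits.isZero_zero _))) hIZ)
      (-((0 : ℕ) : ℤ))
    exact ⟨⟨R, π, h1, h2, ⟨_, h3⟩, h4⟩⟩
  have hstep : ∀ n (s : St n), ∃ (t : St (n + 1)) (p : t.1 ⟶ s.1),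
      t.2.1 ≫ p = tm n ≫ s.2.1 ∧
      ∀ i, (∃ r : s.1.X i ⟶ t.1.X i, r ≫ p.f i = 𝟙 _) ∧ I (Limits.kernel (p.f i)) := by
    intro n s
    obtain ⟨a, ha⟩ := s.2.2.2.2.1
    have : s.1.IsStrictlyGE (min a (-((n + 1 : ℕ) : ℤ))) :=
      CochainComplex.isStrictlyGE_of_ge _ _ a (min_le_left _ _)
    have : (K.truncGE (-((n + 1 : ℕ) : ℤ))).IsStrictlyGE (min a (-((n + 1 : ℕ) : ℤ))) :=
      CochainComplex.isStrictlyGE_of_ge _ _ (-((n + 1 : ℕ) : ℤ)) (min_le_right _ _)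
    obtain ⟨R, π, p, hp, h1, h2, h3, h4, h5⟩ := Groth.Agent.PerfGen7.RightExt.exists_ext I hI0
      hIprod hI (tm n ≫ s.2.1) s.2.2.2.2.2 (min a (-((n + 1 : ℕ) : ℤ)))
    exact ⟨⟨R, π, h1, h2, ⟨_, h3⟩, h4⟩, p, hp, h5⟩
  let st : ∀ n, St n := fun n => Nat.rec st0 (fun n s => (hstep n s).choose) n
  have hst : ∀ n, ∃ p : (st (n + 1)).1 ⟶ (st n).1, (st (n + 1)).2.1 ≫ p = tm n ≫ (st n).2.1 ∧
      ∀ i, (∃ r : (st n).1.X i ⟶ (st (n + 1)).1.X i, r ≫ p.f i = 𝟙 _) ∧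
        I (Limits.kernel (p.f i)) := fun n => (hstep n (st n)).choose_spec
  choose p hp hp' using hst
  refine ⟨fun n => (st n).1, p, fun n => (st n).2.1, fun n => ⟨(st n).2.2.1, (st n).2.2.2.1⟩,
    fun n => (st n).2.2.2.2.1, fun n => (st n).2.2.2.2.2, hp', fun n => ?_⟩
  rw [hp n, ← Category.assoc, htm]

end Groth.Agent.S6616
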