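import Groth.Statements.S6627
import Groth.Agent.EtFound.IntegralProps
import Mathlib.AlgebraicGeometry.ZariskisMainTheorem

set_option autoImplicit false
open CategoryTheory CategoryTheory.Limits AlgebraicGeometry Opposite
universe u
open EtCore

namespace Groth.Agent.S6627

/-- A separated morphism of schemes that is locally quasi-finite (locally of finite type with discrete
fibres) satisfies condition (A): for every etale U ⟶ X and every point u of U there are an etale V ⟶
Y, an open and closed subscheme W of X ×_Y V and an X-morphism W ⟶ U whose image contains u.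
(Locally of finite type is part of the meaning of locally quasi-finite here and is carried as a
separate hypothesis.) -/
theorem result {X Y : Scheme.{u}} (f : X ⟶ Y) [IsSeparated f]
    [LocallyQuasiFinite f] [LocallyOfFiniteType f] : BigSite.PropA f := by
  intro U g _ u
  have hx : f.QuasiFiniteAt (g u) := (f.mem_quasiFiniteLocus).1 (by rw [f.quasiFiniteLocus_eq_top]; trivial)
  obtain ⟨T, t, ht, -, V0, W0, x', hVW, hfin, hx'⟩ := exists_etale_isCompl_of_quasiFiniteAt f rfl hx
  haveI := ht
  haveI := hfin
  haveI : IsClosedImmersion V0.ι := by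
    refine .of_isPreimmersion _ ?_
    rw [Scheme.Opens.range_ι]
    have hs : (V0 : Set ↥(pullback f t)) = (W0 : Set ↥(pullback f t))ᶜ := by
      refine Set.ext fun z => ⟨fun hz hz' => ?_, fun hz => ?_⟩
      · exact (hVW.disjoint.le_bot ⟨hz, hz'⟩ :)
      · exact (hVW.codisjoint.top_le (trivial : z ∈ (⊤ : (pullback f t).Opens))).resolve_right hz
    rw [hs]
    exact W0.2.isClosed_compl
  let π := V0.ι ≫ pullback.snd f t
  let k := V0.ι ≫ pullback.fst f t
  have hk : k (show V0.toScheme from x') = g u :=
    (Scheme.Hom.comp_apply _ _ _).trans hx'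
  obtain ⟨u', hu', -⟩ := Scheme.Pullback.exists_preimage_pullback (f := g) (g := k) u (show V0.toScheme from x') hk.symm
  obtain ⟨V', v', hv', W, hW, h, hh, w, hw⟩ := Groth.Agent.EtFound.propA_integral π _ (pullback.snd g k) u'
  haveI := hv'
  let j₀ : pullback π v' ⟶ pullback (pullback.snd f t) v' :=
    pullback.map π v' (pullback.snd f t) v' V0.ι (𝟙 _) (𝟙 _) (by simp [π]) (by simp)
  haveI : IsOpenImmersion j₀ := inferInstance
  haveI : IsClosedImmersion j₀ := by
    refine .of_isPreimmersion _ ?_
    rw [Scheme.Pullback.range_map]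
    exact (V0.ι.isClosedEmbedding.isClosed_range.preimage (pullback.fst (pullback.snd f t) v').continuous).inter
      ((𝟙 V' : V' ⟶ V').isClosedEmbedding.isClosed_range.preimage (pullback.snd (pullback.snd f t) v').continuous)
  let j : pullback π v' ⟶ pullback f (v' ≫ t) := j₀ ≫ (pullbackLeftPullbackSndIso f t v').hom
  have hj : j ≫ pullback.fst f (v' ≫ t) = pullback.fst π v' ≫ k := by
    show (j₀ ≫ (pullbackLeftPullbackSndIso f t v').hom) ≫ _ = _
    rw [Category.assoc, pullbackLeftPullbackSndIso_hom_fst, ← Category.assoc]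
    show (pullback.lift (pullback.fst π v' ≫ V0.ι) _ _ ≫ pullback.fst (pullback.snd f t) v') ≫ _ = _
    rw [pullback.lift_fst, Category.assoc]
  refine ⟨V', v' ≫ t, inferInstance, j ''ᵁ W, ?_, (j.isoImage W).inv ≫ h ≫ pullback.fst g k, ?_, ?_⟩
  · show IsClosed (j '' (W : Set ↥(pullback π v')))
    exact j.isClosedEmbedding.isClosedMap _ hW
  · rw [Category.assoc, Category.assoc, pullback.condition, ← Category.assoc h, hh, Category.assoc,
      ← hj, ← Category.assoc W.ι, ← Scheme.Hom.isoImage_hom_ι, Category.assoc, Iso.inv_hom_id_assoc]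
  · refine ⟨(j.isoImage W).hom w, ?_⟩
    rw [← Scheme.Hom.comp_apply, Iso.hom_inv_id_assoc, Scheme.Hom.comp_apply, hw, hu']

end Groth.Agent.S6627
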