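import Groth.Statements.S6655
import Groth.Agent.ModWLib.Stalk
import Groth.Agent.EtFound.FLCAb

set_option autoImplicit false
open CategoryTheory CategoryTheory.Limits AlgebraicGeometry Opposite
universe u
open EtModW

namespace Groth.Agent.S6655

/-- Part (3): with both sheaves of finite type: let Λ be a commutative ring and φ : F ⟶ G a map of
finite type locally constant sheaves of Λ-modules on the small etale site of a scheme X. Then on the
members of some etale covering of X the restriction of φ is, up to isomorphisms with constant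
sheaves on both sides, the map of constant sheaves induced by a Λ-linear map. (The published
statement allows G to be any locally constant sheaf of Λ-modules; this row assumes G of finite type
as well.) -/
theorem result (Λ : Type (u + 1)) [CommRing Λ] {X : Scheme.{u}} (F G : EtModW.Mod Λ X)
    (φ : F ⟶ G) (hF : EtModW.IsFTLocConst Λ F) (hG : EtModW.IsFTLocConst Λ G) :
    ∃ (ι : Type u) (U : ι → X.Etale), EtCoh.Covers U ∧ ∀ i, ∃ (M N : Type (u + 1)) (_ : AddCommGroup M) (_ : AddCommGroup N)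
      (_ : Module Λ M) (_ : Module Λ N) (h : M →ₗ[Λ] N)
      (α : EtModW.restr Λ F (U i) ≅ (constantSheaf (X.smallEtaleTopology.over (U i)) (ModuleCat.{u + 1} Λ)).obj (ModuleCat.of Λ M))
      (β : EtModW.restr Λ G (U i) ≅ (constantSheaf (X.smallEtaleTopology.over (U i)) (ModuleCat.{u + 1} Λ)).obj (ModuleCat.of Λ N)),
      (X.smallEtaleTopology.overPullback (ModuleCat.{u + 1} Λ) (U i)).map φ ≫ β.hom =
        α.hom ≫ (constantSheaf (X.smallEtaleTopology.over (U i)) (ModuleCat.{u + 1} Λ)).map (ModuleCat.ofHom h) := by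
  obtain ⟨ι₁, U₁, hU₁, h₁⟩ := hF
  obtain ⟨ι₂, U₂, hU₂, h₂⟩ := hG
  suffices key : ∀ x : X, ∃ (V : X.Etale), x ∈ Set.range V.hom.base ∧
      ∃ (M N : Type (u + 1)) (_ : AddCommGroup M) (_ : AddCommGroup N) (_ : Module Λ M) (_ : Module Λ N) (h : M →ₗ[Λ] N)
      (α : EtModW.restr Λ F V ≅ (constantSheaf (X.smallEtaleTopology.over V) (ModuleCat.{u + 1} Λ)).obj (ModuleCat.of Λ M))
      (β : EtModW.restr Λ G V ≅ (constantSheaf (X.smallEtaleTopology.over V) (ModuleCat.{u + 1} Λ)).obj (ModuleCat.of Λ N)),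
      (X.smallEtaleTopology.overPullback (ModuleCat.{u + 1} Λ) V).map φ ≫ β.hom = α.hom ≫
        (constantSheaf (X.smallEtaleTopology.over V) (ModuleCat.{u + 1} Λ)).map (ModuleCat.ofHom h) by
    choose V hx rest using key
    exact ⟨X, V, fun x => ⟨x, hx x⟩, rest⟩
  intro x
  obtain ⟨i, p₁, hp₁⟩ := hU₁ x
  obtain ⟨j, p₂, hp₂⟩ := hU₂ x
  obtain ⟨M, iM, iM', fM, ⟨eM⟩⟩ := h₁ i
  obtain ⟨N, iN, iN', fN, ⟨eN⟩⟩ := h₂ j
  obtain ⟨φM, hM⟩ := EtFound.exists_constBy eM
  obtain ⟨φN, hN⟩ := EtFound.exists_constBy eN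
  obtain ⟨Ω, _, _, ξ, u₁, hu₁⟩ := EtFound.exists_algClosed_point (U₁ i) p₁
  have hξ : ξ.base (default : Spec (CommRingCat.of Ω)) = x :=
    (EtFound.base_of_point u₁).symm.trans ((congrArg _ hu₁).trans hp₁)
  obtain ⟨u₂, -⟩ := Scheme.pointSmallEtaleFiberObjToPreimage_surjective ξ hξ (U₂ j) ⟨p₂, hp₂⟩
  obtain ⟨⟨W, w⟩, ⟨a, -⟩, ⟨b, -⟩, -⟩ := IsCofilteredOrEmpty.cone_objs
    ((Scheme.pointSmallEtale ξ).fiber.elementsMk (U₁ i) u₁) ((Scheme.pointSmallEtale ξ).fiber.elementsMk (U₂ j) u₂)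
  have hM' := hM.restrict a
  have hN' := hN.restrict b
  let φW := φM ≫ F.obj.map a.op
  let ψW := φN ≫ G.obj.map b.op
  let eN' : N ≃ₗ[Λ] _ := LinearEquiv.ofBijective
    (ψW ≫ (Scheme.pointSmallEtale ξ).toPresheafFiber W w G.obj).hom (hN' Ω ξ w)
  let h : M →ₗ[Λ] N := eN'.symm.toLinearMap.comp
    (φW ≫ φ.hom.app (op W) ≫ (Scheme.pointSmallEtale ξ).toPresheafFiber W w G.obj).hom
  obtain ⟨r, s, hs⟩ := Module.Finite.exists_fin' Λ M
  let gen : ULift.{u + 1} (Fin r) → M := fun k => s (Pi.single k.down 1)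
  obtain ⟨V, g, v, -, hg⟩ := EtFound.exists_forall_eq G.obj w (fun k => φ.hom.app (op W) (φW (gen k)))
    (fun k => ψW (h (gen k))) (fun k => ((eN'.apply_symm_apply _).symm.trans
      (ConcreteCategory.comp_apply ψW ((Scheme.pointSmallEtale ξ).toPresheafFiber W w G.obj) (h (gen k)))))
  have hMV := hM'.restrict g
  have hNV := hN'.restrict g
  have := EtFound.isIso_constMap hMV
  have := EtFound.isIso_constMap hNV
  have e : (φW ≫ F.obj.map g.op) ≫ φ.hom.app (op V) = ModuleCat.ofHom h ≫ ψW ≫ G.obj.map g.op := by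
    have hcomp : ((φW ≫ F.obj.map g.op) ≫ φ.hom.app (op V)).hom.comp s =
        (ModuleCat.ofHom h ≫ ψW ≫ G.obj.map g.op).hom.comp s := by
      refine LinearMap.pi_ext' fun k => LinearMap.ext_ring ?_
      exact (NatTrans.naturality_apply φ.hom g.op (φW (gen ⟨k⟩))).trans (hg ⟨k⟩)
    refine ModuleCat.hom_ext (LinearMap.ext fun m => ?_)
    obtain ⟨c, rfl⟩ := hs m
    exact LinearMap.congr_fun hcomp c
  refine ⟨V, ⟨_, (EtFound.base_of_point v).trans hξ⟩, M, N, iM, iN, iM', iN', h,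
    (asIso (EtFound.constMap (φW ≫ F.obj.map g.op))).symm, (asIso (EtFound.constMap (ψW ≫ G.obj.map g.op))).symm, ?_⟩
  simp only [Iso.symm_hom, asIso_inv]
  rw [IsIso.comp_inv_eq, Category.assoc, IsIso.eq_inv_comp]
  exact EtFound.constMap_natural φ (ModuleCat.ofHom h) e

end Groth.Agent.S6655
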