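import Groth.Statements.S6664
import Groth.Agent.EtBCFib.Field
import Groth.Agent.EtBCFib.IntBase
import Groth.Agent.EtBCFib.Const
import Groth.Agent.EtBCFib.NormalFactor
import Groth.Agent.S6661

set_option autoImplicit false
universe u
open CategoryTheory CategoryTheory.Limits AlgebraicGeometry Opposite
open EtBC

namespace Groth.Agent.S6664

/-- Let f : X → S be a morphism of schemes and n ≥ 1, q ≥ 1 integers such that BC(f, n, q − 1) holds and
BC(f, n, q) fails. Here BC(f, n, q − 1) means: for every base change f₁ : X₁ → S₁ of f along a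
morphism S₁ → S, every cartesian square Y₁ = X₁ ×_{S₁} T₁ over a quasi-compact quasi-separated g₁ :
T₁ → S₁ (with h₁ : Y₁ → X₁, e₁ : Y₁ → T₁), and every abelian sheaf G on the small etale site of T₁
killed by n, the base change map f₁⁻¹ R^a g₁,_* G → R^a h₁,_* e₁⁻¹ G is an isomorphism for all a ≤ q
− 1. (BC(f, n, q) is the same with a ≤ q.) Then there exist an affine integral scheme S' over S all
of whose local rings are integrally closed and whose function field is algebraically closed, the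
base change f' : X' = X ×_S S' → S', an algebraically closed field K with a dominant morphism g :
Spec K → S', the cartesian square Y = X' ×_{S'} Spec K with projection h : Y → X', and a natural
number d dividing n such that the higher direct image R^q h_* of the constant sheaf with value ℤ/d
on Y is nonzero. (The published statement allows n = 0, where its proof's splitting of a ℤ/n-module
into cyclic summands does not apply; this row assumes n ≥ 1.) -/
theorem result {X S : Scheme.{u}} (f : X ⟶ S) (n q : ℕ) (hq : 1 ≤ q)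
    (hn : 0 < n)
    (hBC : (∀ ⦃S₁ X₁ T₁ Y₁ : Scheme.{u}⦄ (p₁ : S₁ ⟶ S) (f₁ : X₁ ⟶ S₁) (r₁ : X₁ ⟶ X),
        IsPullback r₁ f₁ f p₁ →
        ∀ (g₁ : T₁ ⟶ S₁) (h₁ : Y₁ ⟶ X₁) (e₁ : Y₁ ⟶ T₁) (c₁ : IsPullback e₁ h₁ g₁ f₁)
          [QuasiCompact g₁] [QuasiSeparated g₁] [PreservesFiniteLimits (EtCoh.pull e₁)]
          (G₁ : EtCoh.Ab T₁), EtCoh.KilledBy n G₁ →
          ∀ q₁ : ℕ, q₁ ≤ q - 1 → IsIso (EtBC.bcQ g₁ f₁ h₁ e₁ c₁.w q₁ G₁)))
    (hnot : ¬ (∀ ⦃S₂ X₂ T₂ Y₂ : Scheme.{u}⦄ (p₂ : S₂ ⟶ S) (f₂ : X₂ ⟶ S₂) (r₂ : X₂ ⟶ X),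
        IsPullback r₂ f₂ f p₂ →
        ∀ (g₂ : T₂ ⟶ S₂) (h₂ : Y₂ ⟶ X₂) (e₂ : Y₂ ⟶ T₂) (c₂ : IsPullback e₂ h₂ g₂ f₂)
          [QuasiCompact g₂] [QuasiSeparated g₂] [PreservesFiniteLimits (EtCoh.pull e₂)]
          (G₂ : EtCoh.Ab T₂), EtCoh.KilledBy n G₂ →
          ∀ q₂ : ℕ, q₂ ≤ q → IsIso (EtBC.bcQ g₂ f₂ h₂ e₂ c₂.w q₂ G₂))) :
    ∃ (S' X' Y : Scheme.{u}) (_ : IsAffine S') (_ : IsIntegral S')
      (_ : ∀ s : S', IsIntegrallyClosed (S'.presheaf.stalk s)) (_ : IsAlgClosed S'.functionField)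
      (p : S' ⟶ S) (f' : X' ⟶ S') (r : X' ⟶ X) (_ : IsPullback r f' f p)
      (K : Type u) (_ : Field K) (_ : IsAlgClosed K) (g : Spec (CommRingCat.of K) ⟶ S') (_ : IsDominant g)
      (h : Y ⟶ X') (e : Y ⟶ Spec (CommRingCat.of K)) (_ : IsPullback e h g f') (d : ℕ) (_ : d ∣ n),
      ¬ IsZero ((EtCoh.Rpush h q).obj (EtCoh.const Y (ZMod d))) := by
  classical
  by_contra H
  refine hnot fun S₂ X₂ T₂ Y₂ p₂ f₂ r₂ hX₂ g₂ h₂ e₂ c₂ _ _ _ G₂ hG₂ q₂ hq₂ => ?_
  rcases Nat.lt_or_ge q₂ q with hlt | hge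
  · exact hBC p₂ f₂ r₂ hX₂ g₂ h₂ e₂ c₂ G₂ hG₂ q₂ (by omega)
  obtain rfl : q₂ = q := le_antisymm hq₂ hge
  by_contra hfail
  obtain ⟨S', X', Y, _, p, f', r, hX, K, hK, g, h, e, c, F, hF, hne⟩ :=
    EtBCFib.exists_field_failure f n q₂ hq hBC p₂ f₂ r₂ hX₂ g₂ h₂ e₂ c₂ G₂ hG₂ hfail
  let L := AlgebraicClosure K
  let π : Spec (CommRingCat.of L) ⟶ Spec (CommRingCat.of K) := Spec.map (CommRingCat.ofHom (algebraMap K L))
  haveI : IsIntegralHom π := (IsIntegralHom.SpecMap_iff).mpr (algebraMap_isIntegral_iff.mpr inferInstance)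
  haveI : Surjective π := ⟨fun x => ⟨default, @Subsingleton.elim (PrimeSpectrum K) inferInstance _ _⟩⟩
  let π' := pullback.snd π e
  let e' := pullback.fst π e
  have c' : IsPullback e' π' π e := IsPullback.of_hasPullback _ _
  have c'' : IsPullback e' (π' ≫ h) (π ≫ g) f' := c'.paste_vert c
  haveI := EtFound.pull_preservesFiniteLimits e
  haveI := EtFound.pull_preservesFiniteLimits e'
  haveI := EtFound.pull_preservesFiniteLimits f'
  have hne' : ¬ IsIso (EtBC.bcQ (π ≫ g) f' (π' ≫ h) e' c''.w q₂ ((EtCoh.pull π).obj F)) := fun hi =>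
    hne (S6661.result f n q₂ hq hBC p f' r hX g h e c π π' e' c' c'' F hF hi)
  obtain ⟨S'', πS, g', hA'', hI'', hN'', hF'', _, hdom, hfac⟩ := EtBCFib.exists_normal_factor (π ≫ g)
  let π₂ := pullback.fst f' πS
  let f'' := pullback.snd f' πS
  have hX'' : IsPullback π₂ f'' f' πS := IsPullback.of_hasPullback _ _
  have hb : IsPullback e' (π' ≫ h) (g' ≫ πS) f' := by rw [hfac]; exact c''
  let h'' := hX''.lift (π' ≫ h) (e' ≫ g') (by rw [Category.assoc]; exact hb.w.symm)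
  have hh : h'' ≫ π₂ = π' ≫ h := hX''.lift_fst _ _ _
  have hh' : e' ≫ g' = h'' ≫ f'' := (hX''.lift_snd _ _ _).symm
  have hb' : IsPullback e' (h'' ≫ π₂) (g' ≫ πS) f' := by rw [hh]; exact hb
  have cY : IsPullback e' h'' g' f'' := IsPullback.of_bot hb' hh' hX''.flip
  haveI : QuasiCompact g' := inferInstance
  haveI : QuasiSeparated g' := inferInstance
  haveI : QuasiCompact h'' := MorphismProperty.of_isPullback cY ‹QuasiCompact g'›
  haveI : QuasiSeparated h'' := MorphismProperty.of_isPullback cY ‹QuasiSeparated g'›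
  haveI := EtFound.pull_preservesFiniteLimits f''
  let M := (EtCoh.pull π).obj F
  have hM : EtCoh.KilledBy n M := EtBCFib.killedBy_map _ hF
  have hfail'' : ¬ IsIso (EtBC.bcQ g' f'' h'' e' cY.w q₂ M) := fun hi => by
    have h1 := EtBCFib.isIso_bcQ_comp_integral_base f' πS f'' π₂ hX'' g' h'' e' cY.w hb'.w M q₂ hi
    refine hne' ?_
    have h2 : ∀ (a : Spec (CommRingCat.of L) ⟶ S') (b : pullback π e ⟶ X') (w : e' ≫ a = b ≫ f'),
        a = g' ≫ πS → b = h'' ≫ π₂ → IsIso (EtBC.bcQ a f' b e' w q₂ M) := by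
      rintro a b w rfl rfl
      exact h1
    exact h2 _ _ c''.w hfac.symm hh.symm
  have hB : ∀ G₁ : EtCoh.Ab (Spec (CommRingCat.of L)), EtCoh.KilledBy n G₁ →
      IsIso (EtBC.bcQ g' f'' h'' e' cY.w (q₂ - 1) G₁) :=
    fun G₁ hG₁ => hBC (πS ≫ p) f'' (π₂ ≫ r) (hX''.paste_horiz hX) g' h'' e' cY G₁ hG₁ (q₂ - 1) le_rfl
  haveI := EtBCQ.mono_bcQ_of_below g' f'' h'' e' cY.w hq hB M hM
  have hnz : ¬ IsZero ((EtCoh.Rpush h'' q₂).obj ((EtCoh.pull e').obj M)) := fun hz => hfail'' (by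
    haveI : Epi (EtBC.bcQ g' f'' h'' e' cY.w q₂ M) := ⟨fun a b _ => hz.eq_of_src a b⟩
    exact isIso_of_mono_of_epi _)
  obtain ⟨d, hd, hdne⟩ := EtBCFib.exists_const_nonzero h'' e' hn q₂ M hM hnz
  exact H ⟨S'', _, _, hA'', hI'', hN'', hF'', πS ≫ p, f'', π₂ ≫ r, hX''.paste_horiz hX, L, inferInstance, inferInstance,
    g', hdom, h'', e', cY, d, hd, hdne⟩

end Groth.Agent.S6664
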