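import Groth.Statements.S6666
import Groth.Agent.AlgGlue.Models
import Groth.Agent.MorLib.Thick.Affine
import Groth.Agent.MorLib.LimExists

set_option backward.isDefEq.respectTransparency false

set_option autoImplicit false
set_option linter.style.haveILetI false
set_option backward.isDefEq.respectTransparency false
set_option backward.isDefEq.respectTransparency.types false
universe u
open CategoryTheory AlgebraicGeometry
open Lim

namespace Groth.Agent.S6666

/-- Let T be a nonempty quasi-compact quasi-separated scheme and P a property of schemes over T (applied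
to quasi-compact quasi-separated ones). Assume: (1) for every thickening T'' → T' (a surjective
closed immersion) of quasi-compact quasi-separated schemes over T, P(T'') if and only if P(T'); (2)
if a scheme T' over T is a limit (in schemes over T) of a cofiltered system of quasi-compact
quasi-separated schemes over T with affine transition morphisms and P holds for every member, then
P(T'); (3) if T' is quasi-compact quasi-separated over T with P(T') and Z ⊂ T' is a closed subscheme
whose open complement V is quasi-compact, then P(V) or P(Z). Then P(T) implies P(Spec K → T) for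
some field K and some morphism Spec K → T. (The published statement does not require T nonempty; for
T empty and P identically true there is no morphism from the spectrum of a field to T, so
nonemptiness is assumed here.) -/
theorem result (T : Scheme.{u}) [CompactSpace T] [QuasiSeparatedSpace T]
    [Nonempty T] (P : ∀ ⦃T' : Scheme.{u}⦄, (T' ⟶ T) → Prop)
    (h1 : ∀ ⦃T' T'' : Scheme.{u}⦄ (a : T' ⟶ T) (t : T'' ⟶ T') [IsClosedImmersion t] [Surjective t]
      [CompactSpace T'] [QuasiSeparatedSpace T'] [CompactSpace T''] [QuasiSeparatedSpace T''], P (t ≫ a) ↔ P a)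
    (h2 : ∀ ⦃I : Type u⦄ [SmallCategory I] [IsCofiltered I] (D : I ⥤ Over T) (c : Limits.Cone D) (_ : Limits.IsLimit c),
      (∀ (i j : I) (m : i ⟶ j), IsAffineHom (D.map m).left) →
      (∀ i, CompactSpace (D.obj i).left ∧ QuasiSeparatedSpace (D.obj i).left) →
      (∀ i, P (D.obj i).hom) → P c.pt.hom)
    (h3 : ∀ ⦃T' Z V : Scheme.{u}⦄ (a : T' ⟶ T) [CompactSpace T'] [QuasiSeparatedSpace T'] (i : Z ⟶ T') [IsClosedImmersion i]
      (j : V ⟶ T') [IsOpenImmersion j] [CompactSpace V], Set.range j = (Set.range i)ᶜ → P a → P (j ≫ a) ∨ P (i ≫ a))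
    (hT : P (𝟙 T)) :
    ∃ (K : Type u) (_ : Field K) (t : Spec (CommRingCat.of K) ⟶ T), P t := by
  classical
  have hsub : ∀ I : T.IdealSheafData, CompactSpace I.subscheme ∧ QuasiSeparatedSpace I.subscheme :=
    fun I => ⟨QuasiCompact.compactSpace_of_compactSpace I.subschemeι,
      quasiSeparatedSpace_of_quasiSeparated I.subschemeι⟩
  -- a largest ideal whose nonempty closed subscheme has the property
  let 𝒮 : Set T.IdealSheafData := {I | Nonempty I.subscheme ∧ P I.subschemeι}
  have hbot : (⊥ : T.IdealSheafData) ∈ 𝒮 := by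
    haveI : IsIso (⊥ : T.IdealSheafData).subschemeι :=
      IsClosedImmersion.isIso_iff_ker_eq_bot.mpr (by simp)
    haveI := (hsub ⊥).1; haveI := (hsub ⊥).2
    refine ⟨⟨(inv (⊥ : T.IdealSheafData).subschemeι) (Classical.arbitrary T)⟩, ?_⟩
    rw [← Category.comp_id (⊥ : T.IdealSheafData).subschemeι, h1 (𝟙 T)]
    exact hT
  obtain ⟨I, hI⟩ := zorn_le₀ 𝒮 fun c hc𝒮 hc => by
    rcases c.eq_empty_or_nonempty with rfl | hne
    · exact ⟨⊥, hbot, fun z hz => absurd hz (Set.notMem_empty z)⟩
    refine ⟨sSup c, ?_, fun z hz => le_sSup hz⟩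
    haveI : Nonempty c := hne.to_subtype
    haveI : Nonempty (↥c)ᵒᵈ := ‹Nonempty c›
    haveI : IsDirectedOrder (↥c) := ⟨fun a b => (hc.total a.2 b.2).elim
      (fun h => ⟨b, h, le_rfl⟩) (fun h => ⟨a, le_rfl, h⟩)⟩
    haveI : IsCofiltered (↥c)ᵒᵈ := inferInstance
    have hlim := Groth.Agent.MorLib.Thick.isLimitCone c hc
    have haff : ∀ {i j : (↥c)ᵒᵈ} (f : i ⟶ j),
        IsAffineHom ((Groth.Agent.MorLib.Thick.diag c).map f) := fun {i j} f => by
      let f' : (OrderDual.ofDual i).1.subscheme ⟶ (OrderDual.ofDual j).1.subscheme :=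
        Scheme.IdealSheafData.inclusion (show _ ≤ _ from f.le)
      exact inferInstanceAs (IsAffineHom f')
    haveI : ∀ {i j : (↥c)ᵒᵈ} (f : i ⟶ j),
        IsAffineHom ((Groth.Agent.MorLib.Thick.diag c).map f) := haff
    haveI : ∀ i, CompactSpace ((Groth.Agent.MorLib.Thick.diag c).obj i) := fun i => (hsub _).1
    haveI : ∀ i, Nonempty ((Groth.Agent.MorLib.Thick.diag c).obj i) := fun i =>
      (hc𝒮 (OrderDual.ofDual i).2).1
    refine ⟨Scheme.nonempty_of_isLimit _ _ hlim, ?_⟩
    let t : Groth.Agent.MorLib.Thick.diag c ⟶ (Functor.const _).obj T :=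
      { app := fun K => (OrderDual.ofDual K).1.subschemeι
        naturality := fun K L f => by simp [Groth.Agent.MorLib.Thick.diag] }
    obtain ⟨E, hE, c', hc', hEobj, ⟨e⟩⟩ := Groth.Agent.AlgGlue.exists_over_limit
      (Groth.Agent.MorLib.Thick.diag c) t _ hlim (sSup c).subschemeι (fun K => by
        simp [t, Groth.Agent.MorLib.Thick.cone])
    have h := h2 E c' hc' (fun i j m => by
      have : ∀ (D : (↥c)ᵒᵈ ⥤ Scheme.{u}), D = Groth.Agent.MorLib.Thick.diag c →
          IsAffineHom (D.map m) := fun D hD => by subst hD; exact haff m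
      exact this _ hE) (fun i => by
      rw [(hEobj i).1]; exact hsub _) (fun i => by
      have : ∀ (W : Scheme.{u}) (g : W ⟶ T), W = (OrderDual.ofDual i).1.subscheme →
          HEq g (t.app i) → P g := fun W g hW hg => by
        subst hW; rw [eq_of_heq hg]; exact (hc𝒮 (OrderDual.ofDual i).2).2
      exact this _ _ (hEobj i).1 (hEobj i).2)
    haveI : IsIso e.hom.left := inferInstanceAs (IsIso ((Over.forget T).map e.hom))
    haveI := (hsub (sSup c)).1; haveI := (hsub (sSup c)).2
    haveI : CompactSpace (Over.mk (sSup c).subschemeι).left := (hsub (sSup c)).1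
    haveI : QuasiSeparatedSpace (Over.mk (sSup c).subschemeι).left := (hsub (sSup c)).2
    haveI : CompactSpace c'.pt.left :=
      QuasiCompact.compactSpace_of_compactSpace e.hom.left
    haveI : QuasiSeparatedSpace c'.pt.left := quasiSeparatedSpace_of_quasiSeparated e.hom.left
    exact (h1 (sSup c).subschemeι e.hom.left).1 (by
      have := Over.w e.hom
      rw [show e.hom.left ≫ (sSup c).subschemeι = c'.pt.hom from this]
      exact h)
  haveI := (hsub I).1; haveI := (hsub I).2
  obtain ⟨⟨hne, hPI⟩, hmax⟩ := And.intro hI.1 (fun J hJ hle => hI.2 (y := J) hJ hle)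
  -- its reduction
  let N : I.subscheme.IdealSheafData := Scheme.IdealSheafData.vanishingIdeal ⊤
  let Z : Scheme.{u} := N.subscheme
  let a : Z ⟶ T := N.subschemeι ≫ I.subschemeι
  haveI : IsReduced Z := inferInstanceAs (IsReduced (Scheme.IdealSheafData.vanishingIdeal ⊤).subscheme)
  haveI hsN : Surjective N.subschemeι := by
    refine ⟨fun x => ?_⟩
    have hx : x ∈ Set.range N.subschemeι := by
      rw [Scheme.IdealSheafData.range_subschemeι, Scheme.IdealSheafData.coe_support_vanishingIdeal]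
      trivial
    exact hx
  haveI : CompactSpace Z := QuasiCompact.compactSpace_of_compactSpace N.subschemeι
  haveI : QuasiSeparatedSpace Z := quasiSeparatedSpace_of_quasiSeparated N.subschemeι
  have hPZ : P a := (h1 I.subschemeι N.subschemeι).2 hPI
  -- closed subschemes with the property are everything
  have hsurj : ∀ {W : Scheme.{u}} (i : W ⟶ Z) [IsClosedImmersion i], Nonempty W → P (i ≫ a) →
      Function.Surjective i := by
    intro W i _ hW hP
    let b : W ⟶ T := i ≫ a
    haveI : IsClosedImmersion b := inferInstanceAs (IsClosedImmersion (i ≫ N.subschemeι ≫ I.subschemeι))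
    have hle : I ≤ b.ker := by
      refine le_trans (Scheme.IdealSheafData.ker_subschemeι I).ge ?_
      show _ ≤ (i ≫ N.subschemeι ≫ I.subschemeι).ker
      rw [← Category.assoc]
      exact Scheme.Hom.le_ker_comp _ _
    haveI : CompactSpace W := QuasiCompact.compactSpace_of_compactSpace i
    haveI : QuasiSeparatedSpace W := quasiSeparatedSpace_of_quasiSeparated i
    haveI := (hsub b.ker).1; haveI := (hsub b.ker).2
    let w : W ⟶ b.ker.subscheme := b.toImage
    haveI : IsIso w := inferInstanceAs (IsIso b.toImage)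
    have hw : w ≫ b.ker.subschemeι = b := b.toImage_imageι
    have hmem : b.ker ∈ 𝒮 := ⟨⟨w (Classical.arbitrary W)⟩, (h1 b.ker.subschemeι w).1 (by rw [hw]; exact hP)⟩
    have hge : b.ker ≤ I := hmax _ hmem hle
    intro z
    have hz : a z ∈ Set.range b := by
      have h' : a z ∈ I.support := by
        rw [← SetLike.mem_coe, ← Scheme.IdealSheafData.range_subschemeι]
        exact ⟨N.subschemeι z, rfl⟩
      rw [← hw, Scheme.Hom.comp_base, TopCat.coe_comp, Set.range_comp,
        Set.range_eq_univ.2 w.surjective, Set.image_univ, Scheme.IdealSheafData.range_subschemeι,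
        le_antisymm hge hle]
      exact h'
    obtain ⟨x, hx⟩ := hz
    haveI : IsClosedImmersion a := inferInstanceAs (IsClosedImmersion (N.subschemeι ≫ I.subschemeι))
    exact ⟨x, a.isClosedEmbedding.injective hx⟩
  -- a generic point of the reduction in an affine open
  obtain ⟨z₀⟩ : Nonempty Z := by
    obtain ⟨x, -⟩ := hsN.surj (Classical.arbitrary I.subscheme)
    exact ⟨x⟩
  obtain ⟨V₀, hV₀, hzV₀, -⟩ := exists_isAffineOpen_mem_and_subset (x := z₀) (U := ⊤) trivial
  let 𝔭₀ := hV₀.primeIdealOf ⟨z₀, hzV₀⟩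
  obtain ⟨𝔮, h𝔮min, h𝔮le⟩ := Ideal.exists_minimalPrimes_le (I := (⊥ : Ideal Γ(Z, V₀))) (J := 𝔭₀.asIdeal) bot_le
  haveI : 𝔮.IsPrime := h𝔮min.1.1
  let η : Z := hV₀.fromSpec ⟨𝔮, inferInstance⟩
  have hηV : η ∈ V₀ := by
    show hV₀.fromSpec _ ∈ (V₀ : Set Z)
    rw [← hV₀.range_fromSpec]; exact ⟨_, rfl⟩
  have hmem : ∀ f : Γ(Z, V₀), η ∈ Z.basicOpen f ↔ f ∉ 𝔮 := fun f => by
    show (⟨𝔮, inferInstance⟩ : PrimeSpectrum Γ(Z, V₀)) ∈ hV₀.fromSpec ⁻¹ᵁ Z.basicOpen f ↔ _
    rw [hV₀.fromSpec_preimage_basicOpen]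
    exact Iff.rfl
  -- opens containing the generic point have the property
  have hPopen : ∀ f : Γ(Z, V₀), f ∉ 𝔮 → P ((Z.basicOpen f).ι ≫ a) := by
    intro f hf
    let C : TopologicalSpace.Closeds Z := ⟨(Z.basicOpen f : Set Z)ᶜ, (Z.basicOpen f).2.isClosed_compl⟩
    let K : Z.IdealSheafData := Scheme.IdealSheafData.vanishingIdeal C
    have hK : Set.range K.subschemeι = (Z.basicOpen f : Set Z)ᶜ := by
      rw [Scheme.IdealSheafData.range_subschemeι, Scheme.IdealSheafData.coe_support_vanishingIdeal]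
      rfl
    haveI : CompactSpace (Z.basicOpen f : Scheme.{u}) :=
      isCompact_iff_compactSpace.mp (hV₀.basicOpen f).isCompact
    haveI : QuasiSeparatedSpace (Z.basicOpen f : Scheme.{u}) :=
      QuasiSeparatedSpace.of_isOpenEmbedding (Z.basicOpen f).ι.isOpenEmbedding
    rcases h3 a K.subschemeι (Z.basicOpen f).ι (by rw [hK, compl_compl, Scheme.Opens.range_ι]) hPZ
      with h | h
    · exact h
    · by_cases hW : Nonempty K.subscheme
      · have := (hsurj K.subschemeι hW h) η
        obtain ⟨x, hx⟩ := this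
        exact absurd ((hmem f).2 hf) (show η ∈ (Z.basicOpen f : Set Z)ᶜ from hK ▸ ⟨x, hx⟩)
      · have htop : (Z.basicOpen f : Set Z) = Set.univ := by
          rw [not_nonempty_iff] at hW
          rw [← compl_compl (Z.basicOpen f : Set Z), ← hK, Set.range_eq_empty, Set.compl_empty]
        haveI : Surjective (Z.basicOpen f).ι :=
          ⟨fun x => ⟨⟨x, htop.ge (Set.mem_univ x)⟩, rfl⟩⟩
        haveI : Epi (Z.basicOpen f).ι.base :=
          (TopCat.epi_iff_surjective _).2 (Z.basicOpen f).ι.surjective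
        haveI : IsIso (Z.basicOpen f).ι := IsOpenImmersion.isIso _
        exact (h1 a (Z.basicOpen f).ι).2 hPZ
  -- the limit of those opens
  let J : Type u := {f : Γ(Z, V₀) // f ∉ 𝔮}
  letI : Preorder J :=
    { le := fun f g => Z.basicOpen g.1 ≤ Z.basicOpen f.1
      le_refl := fun f => le_rfl
      le_trans := fun f g k h h' => h'.trans h }
  haveI : IsDirectedOrder J := ⟨fun f g => ⟨⟨f.1 * g.1, fun h => (Ideal.IsPrime.mem_or_mem
      inferInstance h).elim f.2 g.2⟩, (Z.basicOpen_mul f.1 g.1).le.trans inf_le_left,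
    (Z.basicOpen_mul f.1 g.1).le.trans inf_le_right⟩⟩
  let one : J := ⟨1, fun h => (inferInstance : 𝔮.IsPrime).ne_top ((Ideal.eq_top_iff_one _).2 h)⟩
  haveI : Nonempty J := ⟨one⟩
  let D : Jᵒᵖ ⥤ Scheme.{u} :=
    { obj := fun f => (Z.basicOpen f.unop.1 : Scheme.{u})
      map := fun {f g} h => Z.homOfLE (leOfHom h.unop)
      map_id := fun f => by simp
      map_comp := fun h h' => by simp }
  haveI hDaff : ∀ f, IsAffine (D.obj f) := fun f => hV₀.basicOpen _
  haveI : ∀ {f g : Jᵒᵖ} (h : f ⟶ g), IsAffineHom (D.map h) := fun {f g} h => inferInstance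
  haveI := Groth.Agent.MorLib.LimExists.hasLimit (D := D)
  let cL := Limits.limit.cone D
  have hL : Limits.IsLimit cL := Limits.limit.isLimit D
  let L : Scheme.{u} := cL.pt
  let t : D ⟶ (Functor.const _).obj T :=
    { app := fun f => (Z.basicOpen f.unop.1).ι ≫ a
      naturality := fun f g h => by simp [D] }
  let b : L ⟶ T := cL.π.app (Opposite.op one) ≫ t.app (Opposite.op one)
  have hb : ∀ f, cL.π.app f ≫ (Z.basicOpen f.unop.1).ι =
      cL.π.app (Opposite.op one) ≫ (Z.basicOpen one.1).ι := fun f => by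
    obtain ⟨m, hf, ho⟩ := exists_ge_ge f.unop one
    rw [← cL.w (homOfLE hf).op, ← cL.w (homOfLE ho).op]
    simp [D]
  obtain ⟨E, hE, c', hc', hEobj, ⟨e⟩⟩ := Groth.Agent.AlgGlue.exists_over_limit D t cL hL b
    (fun f => by
      show cL.π.app f ≫ (Z.basicOpen f.unop.1).ι ≫ a = _
      rw [← Category.assoc, hb, Category.assoc]
      )
  have hPb : P c'.pt.hom := h2 E c' hc' (fun i j m => by
      have : ∀ (D' : Jᵒᵖ ⥤ Scheme.{u}), D' = D → IsAffineHom (D'.map m) := fun D' hD => by
        subst hD; infer_instance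
      exact this _ hE) (fun i => by rw [(hEobj i).1]; exact ⟨inferInstance, inferInstance⟩)
    (fun i => by
      have : ∀ (W : Scheme.{u}) (g : W ⟶ T), W = D.obj i → HEq g (t.app i) → P g := fun W g hW hg => by
        subst hW; rw [eq_of_heq hg]; exact hPopen _ i.unop.2
      exact this _ _ (hEobj i).1 (hEobj i).2)
  haveI : IsAffineHom (cL.π.app (Opposite.op one)) := isAffineHom_π_app D cL hL _
  haveI : IsAffine L := isAffine_of_isAffineHom (cL.π.app (Opposite.op one))
  haveI : IsIso e.hom.left := inferInstanceAs (IsIso ((Over.forget T).map e.hom))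
  haveI : IsAffine ((Over.mk b).left) := ‹IsAffine L›
  haveI : CompactSpace c'.pt.left := QuasiCompact.compactSpace_of_compactSpace e.hom.left
  haveI : QuasiSeparatedSpace c'.pt.left := quasiSeparatedSpace_of_quasiSeparated e.hom.left
  have hPL : P b := (h1 b e.hom.left).1 (by
    rw [show e.hom.left ≫ b = c'.pt.hom from Over.w e.hom]; exact hPb)
  -- the limit is one point
  haveI : ∀ f, Nonempty (D.obj f) := fun f => ⟨⟨η, (hmem _).2 f.unop.2⟩⟩
  haveI : ∀ f, CompactSpace (D.obj f) := fun f => inferInstance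
  haveI : Nonempty L := Scheme.nonempty_of_isLimit D cL hL
  let m : L ⟶ Z := cL.π.app (Opposite.op one) ≫ (Z.basicOpen one.1).ι
  haveI : Mono m := ⟨fun {W} p q h => hL.hom_ext fun f => by
    rw [← cancel_mono (Z.basicOpen f.unop.1).ι, Category.assoc, Category.assoc, hb]; exact h⟩
  have hpt : ∀ x : L, m x = η := by
    intro x
    have hV : m x ∈ V₀ := Z.basicOpen_le _ ((cL.π.app (Opposite.op one)) x).2
    obtain ⟨𝔯, h𝔯⟩ : m x ∈ Set.range hV₀.fromSpec := by rw [hV₀.range_fromSpec]; exact hV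
    have hle : 𝔯.asIdeal ≤ 𝔮 := by
      intro f hf
      by_contra hfq
      have h1' : m x ∈ Z.basicOpen f := by
        show (cL.π.app (Opposite.op one) ≫ (Z.basicOpen one.1).ι) x ∈ Z.basicOpen f
        rw [← hb (Opposite.op ⟨f, hfq⟩)]
        exact ((cL.π.app (Opposite.op (⟨f, hfq⟩ : J))) x).2
      rw [← h𝔯] at h1'
      have h2' : 𝔯 ∈ hV₀.fromSpec ⁻¹ᵁ Z.basicOpen f := h1'
      rw [hV₀.fromSpec_preimage_basicOpen] at h2'
      exact h2' hf
    have heq : 𝔯.asIdeal = 𝔮 := le_antisymm hle (h𝔮min.2 ⟨𝔯.isPrime, bot_le⟩ hle)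
    rw [← h𝔯]
    exact congrArg hV₀.fromSpec (PrimeSpectrum.ext heq)
  haveI : Subsingleton L := ⟨fun x y => m.injective ((hpt x).trans (hpt y).symm)⟩
  -- its residue field
  let A := Γ(L, ⊤)
  haveI : Subsingleton (PrimeSpectrum A) :=
    (Scheme.homeoOfIso L.isoSpec.symm).injective.subsingleton
  obtain ⟨𝔪⟩ : Nonempty (PrimeSpectrum A) :=
    ⟨(Scheme.homeoOfIso L.isoSpec) (Classical.arbitrary L)⟩
  haveI : Nontrivial A := PrimeSpectrum.nonempty_iff_nontrivial.1 ⟨𝔪⟩
  haveI : 𝔪.asIdeal.IsMaximal := by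
    obtain ⟨M, hM⟩ := Ideal.exists_maximal A
    rw [Subsingleton.elim 𝔪 ⟨M, hM.isPrime⟩]
    exact hM
  letI := Ideal.Quotient.field 𝔪.asIdeal
  let q : Spec (CommRingCat.of (A ⧸ 𝔪.asIdeal)) ⟶ L :=
    Spec.map (CommRingCat.ofHom (Ideal.Quotient.mk 𝔪.asIdeal)) ≫ L.isoSpec.inv
  haveI : IsClosedImmersion (Spec.map (CommRingCat.ofHom (Ideal.Quotient.mk 𝔪.asIdeal))) :=
    IsClosedImmersion.spec_of_surjective _ Ideal.Quotient.mk_surjective
  haveI : Surjective q := by
    refine ⟨fun x => ⟨(⟨⊥, inferInstance⟩ : PrimeSpectrum (A ⧸ 𝔪.asIdeal)), Subsingleton.elim _ _⟩⟩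
  exact ⟨A ⧸ 𝔪.asIdeal, inferInstance, q ≫ b, (h1 b q).2 hPL⟩

end Groth.Agent.S6666
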