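import Groth.Statements.S6677
import Groth.Agent.EtPhAcy.Direct

set_option autoImplicit false
universe u
open CategoryTheory CategoryTheory.Limits AlgebraicGeometry Opposite
open HTop

set_option backward.isDefEq.respectTransparency false
set_option backward.isDefEq.respectTransparency.types false
set_option maxHeartbeats 1000000

namespace Groth.Agent.S6677

/-- For a torsion abelian sheaf, i.e. a complex in degree 0: let X be a scheme and F a torsion abelian
sheaf on the small etale site of X, and let a_X compare the big ph site of X with the small etale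
site. Then the unit F → a_X,_* a_X⁻¹ F is an isomorphism and R^q a_X,_* (a_X⁻¹ F) = 0 for every q >
0. (Continuity of the comparison functor carried as an instance hypothesis.) -/
theorem result (X : Scheme.{u}) [HTop.APhCont X] (F : EtCoh.Ab X)
    (hF : EtCoh.IsTorsion F) :
    IsIso ((HTop.aPhAdj X).unit.app F) ∧
      ∀ q : ℕ, 0 < q → IsZero ((HTop.RaPhPush X q).obj ((HTop.aPhPull X).obj F)) := by
  refine ⟨Groth.Agent.EtPhAcy.isIso_unit_piEtAdj (K := HTop.phPrecoverage) le_rfl Groth.Agent.EtPhAcy.etale_le_ph F, fun q hq => ?_⟩
  obtain ⟨n, rfl⟩ := Nat.exists_eq_add_of_le hq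
  rw [Nat.add_comm]
  exact Groth.Agent.EtPhAcy.isZero_RresEt_piEtPull (K := HTop.phPrecoverage) le_rfl Groth.Agent.EtPhAcy.etale_le_ph F hF n

end Groth.Agent.S6677
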