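import Groth.Statements.S6681
import Groth.Agent.EtPhAcy.Direct

set_option autoImplicit false
universe u
open CategoryTheory CategoryTheory.Limits AlgebraicGeometry Opposite
open HTop

set_option backward.isDefEq.respectTransparency false
set_option backward.isDefEq.respectTransparency.types false
set_option maxHeartbeats 1000000

namespace Groth.Agent.S6681

/-- Let X be a scheme and F a torsion abelian sheaf on the small etale site of X. Write a_X⁻¹ F for its
pullback to the big h site of X, ε_X,_* for restriction from the big h site to the big etale site of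
X (the identity on underlying presheaves) and π_X⁻¹ F for the pullback of F to the big etale site.
Then ε_X,_* (a_X⁻¹ F) is isomorphic to π_X⁻¹ F (existence of an isomorphism) and R^i ε_X,_* (a_X⁻¹
F) = 0 for every i > 0. (Continuity of the comparison functors is carried as instance hypotheses.) -/
theorem result (X : Scheme.{u}) [HTop.AHCont X] [HTop.EpsHCont X] (F : EtCoh.Ab X)
    (hF : EtCoh.IsTorsion F) :
    Nonempty ((HTop.epsHPush X).obj ((HTop.aHPull X).obj F) ≅
      ((Scheme.Etale.forget X).sheafPullback AddCommGrpCat.{u + 1} X.smallEtaleTopology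
        (Scheme.etaleTopology.over X)).obj F) ∧
    ∀ i : ℕ, 0 < i → IsZero ((HTop.RepsHPush X i).obj ((HTop.aHPull X).obj F)) := by
  refine ⟨⟨(Groth.Agent.EtPhAcy.epsK HTop.hPrecoverage X).mapIso (Groth.Agent.EtPhAcy.piEtPullIso (K := HTop.hPrecoverage) Groth.Agent.EtPhAcy.hPrecoverage_le_phPrecoverage Groth.Agent.EtPhAcy.etale_le_h F)⟩, fun i hi => ?_⟩
  obtain ⟨n, rfl⟩ := Nat.exists_eq_add_of_le hi
  rw [Nat.add_comm]
  exact Groth.Agent.EtPhAcy.isZero_Reps_piEtPull (K := HTop.hPrecoverage) Groth.Agent.EtPhAcy.hPrecoverage_le_phPrecoverage Groth.Agent.EtPhAcy.etale_le_h F hF n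

end Groth.Agent.S6681
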