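import Groth.Statements.S6693
import Groth.Agent.EtLARel.Main

set_option autoImplicit false
universe u
open CategoryTheory CategoryTheory.Limits AlgebraicGeometry Opposite
open EtBC

namespace Groth.Agent.S6693

/-- For a single abelian sheaf (a bounded below complex concentrated in degree 0): let f : X → S be a
morphism of schemes and F an abelian sheaf on the small etale site of X such that f is locally
acyclic relative to F. Let s be a point of S, R_S a strict henselization of the local ring of S at
s, X' = X ×_S Spec R_S with projection p : X' → X, t̄ : Spec Ω → Spec R_S a geometric point with Ω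
algebraically closed, h : X_t̄ = X' ×_{Spec R_S} Spec Ω → X' and i : X_s̄ = X' ×_{Spec R_S} Spec
κ(R_S) → X' the fibres over t̄ and over the closed point. Put F' = p⁻¹ F. Then the restriction along
i of the unit F' → h_* h⁻¹ F' is an isomorphism, and i⁻¹ R^q h_* (h⁻¹ F') is zero for every q > 0;
together these say that i⁻¹ applied to β : F' → Rh_* (F'|X_t̄) is an isomorphism. -/
theorem result {X S : Scheme.{u}} (f : X ⟶ S) (F : EtCoh.Ab X)
    (hla : SGA4h.IsLARel f F) (s : S) (RS : Type u) [CommRing RS] [IsLocalRing RS] [Algebra (S.presheaf.stalk s) RS]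
      [IsLocalHom (algebraMap (S.presheaf.stalk s) RS)] [Hensel.IsStrictHenselization (S.presheaf.stalk s) RS]
    (X' : Scheme.{u}) (f' : X' ⟶ Spec (CommRingCat.of RS)) (p : X' ⟶ X) (cX : IsPullback p f' f (Hens2.specOf S s RS))
    (Ω : Type u) [Field Ω] [IsAlgClosed Ω] (τ : RS →+* Ω)
    (Xt : Scheme.{u}) (h : Xt ⟶ X') (ft : Xt ⟶ Spec (CommRingCat.of Ω))
    (ct : IsPullback h ft f' (Spec.map (CommRingCat.ofHom τ)))
    (Xs : Scheme.{u}) (i : Xs ⟶ X') (fs : Xs ⟶ Spec (CommRingCat.of (IsLocalRing.ResidueField RS)))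
    (cs : IsPullback i fs f' (Spec.map (CommRingCat.ofHom (IsLocalRing.residue RS)))) :
    IsIso ((EtCoh.pull i).map ((EtCoh.pullPushAdj h).unit.app ((EtCoh.pull p).obj F))) ∧
      ∀ q : ℕ, 0 < q →
        IsZero ((EtCoh.pull i).obj ((EtCoh.Rpush h q).obj ((EtCoh.pull h).obj ((EtCoh.pull p).obj F)))) := by
  haveI : IsSepClosed Ω := inferInstance
  haveI := EtFound.pull_preservesFiniteLimits i
  -- at every geometric point of the closed fibre
  have key : ∀ (K : Type u) [Field K] [IsSepClosed K] (η : Spec (CommRingCat.of K) ⟶ Xs),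
      IsIso ((EtCoh.stalk (η ≫ i)).map ((EtCoh.pullPushAdj h).unit.app ((EtCoh.pull p).obj F))) ∧
      ∀ q : ℕ, 0 < q → IsIso ((EtCoh.stalk (η ≫ i)).map
        (0 : (EtCoh.Rpush h q).obj ((EtCoh.pull h).obj ((EtCoh.pull p).obj F)) ⟶
          (EtCoh.Rpush h q).obj ((EtCoh.pull h).obj ((EtCoh.pull p).obj F)))) := by
    intro K _ _ η
    obtain ⟨⟨x', φ⟩, hx⟩ := (Scheme.SpecToEquivOfField K X').symm.surjective (η ≫ i)
    have hη : Spec.map φ ≫ X'.fromSpecResidueField x' = η ≫ i := hx
    have hx' : f'.base x' = IsLocalRing.closedPoint RS := by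
      have h₁ := congrArg (fun z : Spec (CommRingCat.of K) ⟶ X' => (z ≫ f').base (IsLocalRing.closedPoint K)) hη
      have h₂ : (η ≫ i) ≫ f' = (η ≫ fs) ≫ Spec.map (CommRingCat.ofHom (IsLocalRing.residue RS)) := by
        rw [Category.assoc, cs.w, Category.assoc]
      simp only at h₁
      rw [h₂] at h₁
      change f'.base ((X'.fromSpecResidueField x').base ((Spec.map φ).base _)) =
        (Spec.map (CommRingCat.ofHom (IsLocalRing.residue RS))).base _ at h₁
      rwa [Scheme.fromSpecResidueField_apply, EtLARel.closedPoint_of_field] at h₁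
    have hs : f.base (p.base x') = s := by
      show (p ≫ f).base x' = s
      rw [cX.w]
      show (Hens2.specOf S s RS).base (f'.base x') = s
      rw [hx', EtLARel.specOf_closedPoint]
    subst hs
    obtain ⟨R, _, _, _, _, _, hu, hz⟩ := EtLARel.local_fibre f F hla p Ω h ft x' RS f' cX τ ct hx'
    haveI : IsSepClosed (IsLocalRing.ResidueField R) :=
      (Hensel.IsStrictHenselization.isSepClosure (R := X'.presheaf.stalk x') (S := R)).sep_closed
    haveI : Algebra.IsSeparable (IsLocalRing.ResidueField (X'.presheaf.stalk x')) (IsLocalRing.ResidueField R) :=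
      (Hensel.IsStrictHenselization.isSepClosure (R := X'.presheaf.stalk x') (S := R)).separable
    letI : Algebra (IsLocalRing.ResidueField (X'.presheaf.stalk x')) K :=
      (show X'.residueField x' ⟶ CommRingCat.of K from φ).hom.toAlgebra
    let t : IsLocalRing.ResidueField R →ₐ[IsLocalRing.ResidueField (X'.presheaf.stalk x')] K := IsSepClosed.lift
    have ht : Spec.map (CommRingCat.ofHom t.toRingHom) ≫ Hens2.geomPt X' x' R = η ≫ i := by
      rw [← hη, Scheme.fromSpecResidueField]
      simp only [Hens2.geomPt, Hens2.specOf, ← Category.assoc, ← Spec.map_comp]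
      refine congrArg (fun z => Spec.map z ≫ X'.fromSpecStalk x') (CommRingCat.hom_ext (RingHom.ext fun a => ?_))
      exact t.commutes (IsLocalRing.residue (X'.presheaf.stalk x') a)
    exact ⟨EtLARel.isIso_stalk_of_strict x' R _ ((ConcreteCategory.isIso_iff_bijective _).2 hu) K t.toRingHom _ ht,
      fun q hq => EtLARel.isIso_stalk_of_strict x' R _ (EtLARel.isIso_of_isZero_endo (hz q hq) _) K t.toRingHom _ ht⟩
  constructor
  · refine (EtFound.isIso_iff_stalks _).2 fun K _ _ η => ?_
    exact (NatIso.isIso_map_iff (EtFound.sheafFiberPullIso (A := AddCommGrpCat.{u + 1}) i η) _).2 (key K η).1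
  · intro q hq
    let M := (EtCoh.Rpush h q).obj ((EtCoh.pull h).obj ((EtCoh.pull p).obj F))
    haveI h0 : IsIso ((EtCoh.pull i).map (0 : M ⟶ M)) := by
      refine (EtFound.isIso_iff_stalks _).2 fun K _ _ η => ?_
      exact (NatIso.isIso_map_iff (EtFound.sheafFiberPullIso (A := AddCommGrpCat.{u + 1}) i η) _).2 ((key K η).2 q hq)
    rw [Functor.map_zero] at h0
    refine (IsZero.iff_id_eq_zero _).2 ?_
    rw [← IsIso.hom_inv_id (0 : (EtCoh.pull i).obj M ⟶ (EtCoh.pull i).obj M), zero_comp]

end Groth.Agent.S6693
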