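import Groth.Statements.S6712
import Groth.Agent.S2387

set_option autoImplicit false
set_option backward.isDefEq.respectTransparency false
set_option backward.isDefEq.respectTransparency.types false
universe u
open CategoryTheory AlgebraicGeometry
open DEquiv

namespace Groth.Agent.S6712

open CategoryTheory.Limits in
/-- Let S be a Noetherian scheme, s ∈ S, and p : X ⟶ Y a morphism over S where X ⟶ S and Y ⟶ S are
proper and X ⟶ S is flat. If the fibre X_s ⟶ Y_s of p is an isomorphism, then there is an open
neighbourhood U of s such that the base change X_U ⟶ Y_U of p is an isomorphism. -/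
theorem result
    {S X Y : Scheme.{u}} [IsNoetherian S] (s : S) (g : X ⟶ S) (h : Y ⟶ S) (p : X ⟶ Y)
    (w : p ≫ h = g) [IsProper g] [IsProper h] [Flat g]
    (hs : IsIso (pullback.map g (S.fromSpecResidueField s) h (S.fromSpecResidueField s) p (𝟙 _)
      (𝟙 _) ((Category.comp_id g).trans w.symm)
      ((Category.comp_id _).trans (Category.id_comp _).symm))) :
    ∃ U : S.Opens, s ∈ U ∧
      IsIso (pullback.map g U.ι h U.ι p (𝟙 _) (𝟙 _) ((Category.comp_id g).trans w.symm)
        ((Category.comp_id _).trans (Category.id_comp _).symm)) := by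
  haveI : IsIso (CohIII.fiberMapOver p g h w s) := hs
  obtain ⟨U, hsU, hU⟩ := Groth.Agent.S2387.result p g h w s
  refine ⟨U, hsU, ?_⟩
  haveI := hU
  have sq1 : IsPullback (pullback.fst g U.ι) (pullback.map g U.ι h U.ι p (𝟙 _) (𝟙 _)
      ((Category.comp_id g).trans w.symm) ((Category.comp_id _).trans (Category.id_comp _).symm))
      p (pullback.fst h U.ι) := by
    refine IsPullback.of_bot ?_ (by simp [pullback.map]) (IsPullback.of_hasPullback h U.ι)
    have := IsPullback.of_hasPullback g U.ι
    simp only [pullback.map, pullback.lift_snd, Category.comp_id, w]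
    exact this
  have sq2 : IsPullback (p ⁻¹ᵁ (h ⁻¹ᵁ U)).ι (p ∣_ (h ⁻¹ᵁ U)) p (h ⁻¹ᵁ U).ι :=
    (isPullback_morphismRestrict p (h ⁻¹ᵁ U)).flip
  haveI : IsIso (pullback.snd p (h ⁻¹ᵁ U).ι) := by
    rw [← sq2.isoPullback_inv_snd]; infer_instance
  let e := pullbackRestrictIsoRestrict h U
  have he : e.hom ≫ (h ⁻¹ᵁ U).ι = pullback.fst h U.ι := pullbackRestrictIsoRestrict_hom_ι h U
  haveI : IsIso (pullback.snd p (pullback.fst h U.ι)) := by
    rw [← he, ← pullbackLeftPullbackSndIso_inv_snd_snd p (h ⁻¹ᵁ U).ι e.hom]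
    infer_instance
  rw [← sq1.isoPullback_hom_snd]
  infer_instance

end Groth.Agent.S6712
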