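import Groth.Statements.S6713
import Groth.Agent.PerfGen7.Sibling.Ext

set_option autoImplicit false
universe w v u
open CategoryTheory
open DEquiv

namespace Groth.Agent.S6713

open CategoryTheory CategoryTheory.Limits CategoryTheory.Pretriangulated DerivedCategory ZeroObject
open Groth.Agent.PerfGen7.Sibling

section
variable {C : Type u} [Category.{v} C] [Preadditive C] [HasZeroObject C] [HasShift C ℤ]
  [∀ n : ℤ, (shiftFunctor C n).Additive] [Pretriangulated C]

lemma countable_of_iso {X X' Y Y' : C} (h : Countable (X ⟶ Y)) (e : X ≅ X') (e' : Y ≅ Y') :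
    Countable (X' ⟶ Y') :=
  (e.homCongr e').symm.injective.countable

lemma countable_right {W : C} (T : Triangle C) (hT : T ∈ distTriang C)
    (h₂ : Countable (W ⟶ T.obj₂)) (h₁ : Countable (W ⟶ T.obj₁⟦(1 : ℤ)⟧)) :
    Countable (W ⟶ T.obj₃) := by
  classical
  let pick : (W ⟶ T.obj₁⟦(1 : ℤ)⟧) → (W ⟶ T.obj₃) := fun z =>
    if h : ∃ f : W ⟶ T.obj₃, f ≫ T.mor₃ = z then h.choose else 0
  refine Function.Surjective.countable
    (f := fun q : (W ⟶ T.obj₁⟦(1 : ℤ)⟧) × (W ⟶ T.obj₂) => pick q.1 + q.2 ≫ T.mor₂) fun f => ?_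
  have h : ∃ f' : W ⟶ T.obj₃, f' ≫ T.mor₃ = f ≫ T.mor₃ := ⟨f, rfl⟩
  obtain ⟨g, hg⟩ := Triangle.coyoneda_exact₃ T hT (f - pick (f ≫ T.mor₃)) (by
    simp only [pick, dif_pos h, Preadditive.sub_comp, h.choose_spec, sub_self])
  exact ⟨(f ≫ T.mor₃, g), by simp [← hg]⟩

lemma countable_left {W : C} (T : Triangle C) (hT : T ∈ distTriang C)
    (h₂ : Countable (T.obj₂ ⟶ W)) (h₁ : Countable (T.obj₁⟦(1 : ℤ)⟧ ⟶ W)) :
    Countable (T.obj₃ ⟶ W) := by
  classical
  let pick : (T.obj₂ ⟶ W) → (T.obj₃ ⟶ W) := fun z =>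
    if h : ∃ f : T.obj₃ ⟶ W, T.mor₂ ≫ f = z then h.choose else 0
  refine Function.Surjective.countable
    (f := fun q : (T.obj₂ ⟶ W) × (T.obj₁⟦(1 : ℤ)⟧ ⟶ W) => pick q.1 + T.mor₃ ≫ q.2) fun f => ?_
  have h : ∃ f' : T.obj₃ ⟶ W, T.mor₂ ≫ f' = T.mor₂ ≫ f := ⟨f, rfl⟩
  obtain ⟨g, hg⟩ := Triangle.yoneda_exact₃ T hT (f - pick (T.mor₂ ≫ f)) (by
    simp only [pick, dif_pos h, Preadditive.comp_sub, h.choose_spec, sub_self])
  exact ⟨(T.mor₂ ≫ f, g), by simp [← hg]⟩

end

variable {A : Type u} [Category.{v} A] [Abelian A] [HasDerivedCategory.{w} A]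

lemma countable_ext (hhom : ∀ X Y : A, Countable (X ⟶ Y)) (e : ℕ → A)
    (he : ∀ X : A, ∃ i, Nonempty (X ≅ e i)) (m : ℤ) (X Y : A) :
    Countable ((DEquiv.singleB A).obj X ⟶ sh m Y) := by
  have hFull : (DEquiv.singleB A).Full :=
    inferInstanceAs (ObjectProperty.lift _ (DerivedCategory.singleFunctor A 0) _).Full
  by_cases hm : 0 ≤ m
  swap
  · have : Subsingleton ((DEquiv.singleB A).obj X ⟶ sh m Y) := ⟨fun f g => by
      rw [hom_eq_zero (single_le X) (sh_ge m Y (n := -m) (by omega)) (by omega) f,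
        hom_eq_zero (single_le X) (sh_ge m Y (n := -m) (by omega)) (by omega) g]⟩
    infer_instance
  obtain ⟨n, rfl⟩ := Int.eq_ofNat_of_zero_le hm
  clear hm
  induction n generalizing X with
  | zero =>
    have := hhom X Y
    refine countable_of_iso (Function.Surjective.countable (f := (DEquiv.singleB A).map)
      (DEquiv.singleB A).map_surjective) (Iso.refl _)
      ((shiftFunctorZero' (Bounded A) ((0 : ℕ) : ℤ) rfl).app _).symm
  | succ n ih =>
    classical
    let J := Σ i : ℕ, {p : e i ⟶ X // Epi p}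
    have : Countable J := by
      have : ∀ i, Countable {p : e i ⟶ X // Epi p} := fun i =>
        haveI := hhom (e i) X; Subtype.countable
      exact instCountableSigma
    let S : J → ShortComplex A := fun q => ShortComplex.mk (kernel.ι q.2.1) q.2.1 (kernel.condition _)
    have hS : ∀ q, (S q).ShortExact := fun q =>
      { exact := ShortComplex.exact_of_f_is_kernel _ (kernelIsKernel q.2.1)
        mono_f := inferInstanceAs (Mono (kernel.ι q.2.1))
        epi_g := q.2.2 }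
    let M := Σ q : J, ((DEquiv.singleB A).obj (S q).X₁)⟦(1 : ℤ)⟧ ⟶ sh ((n + 1 : ℕ) : ℤ) Y
    have : Countable M := by
      have : ∀ q : J, Countable
          (((DEquiv.singleB A).obj (S q).X₁)⟦(1 : ℤ)⟧ ⟶ sh ((n + 1 : ℕ) : ℤ) Y) := fun q => by
        have := ih (S q).X₁
        refine countable_of_iso ?_ (Iso.refl _)
          ((shiftFunctorAdd' (Bounded A) (n : ℤ) 1 ((n + 1 : ℕ) : ℤ) (by omega)).app
            ((DEquiv.singleB A).obj Y)).symm
        exact Function.Surjective.countable (f := (shiftFunctor (Bounded A) (1 : ℤ)).map)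
          (shiftFunctor (Bounded A) (1 : ℤ)).map_surjective
      exact instCountableSigma
    refine Function.Surjective.countable (f := fun q : M =>
      (show (DEquiv.singleB A).obj X ⟶ ((DEquiv.singleB A).obj (S q.1).X₁)⟦(1 : ℤ)⟧ from
        sesδ (hS q.1)) ≫ q.2) fun ξ => ?_
    obtain ⟨E, g, hg, hgξ⟩ := exists_cover (single_le X) (sh_le ((n + 1 : ℕ) : ℤ) Y
      (n := -((n + 1 : ℕ) : ℤ)) (by omega)) (by omega) ξ
    obtain ⟨i, ⟨φ⟩⟩ := he E
    obtain ⟨p, hp⟩ := (DEquiv.singleB A).map_surjective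
      (((shiftFunctorZero' (Bounded A) (-0 : ℤ) (by omega)).app ((DEquiv.singleB A).obj E)).inv ≫ g)
    have hepi : Epi ((homologyFunctor A 0).map ((DerivedCategory.singleFunctor A 0).map p)) := by
      have : IsIso (((shiftFunctorZero' (Bounded A) (-0 : ℤ) (by omega)).app
          ((DEquiv.singleB A).obj E)).inv).hom := inferInstance
      change Epi ((homologyFunctor A 0).map ((DEquiv.singleB A).map p).hom)
      rw [hp, ObjectProperty.FullSubcategory.comp_hom, Functor.map_comp]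
      exact epi_comp' inferInstance hg
    have hp' : Epi p := by
      have := (NatIso.naturality_1 (DerivedCategory.singleFunctorCompHomologyFunctorIso A 0) p)
      rw [← show _ = p from this]
      have : Epi ((DerivedCategory.singleFunctor A 0 ⋙ homologyFunctor A 0).map p) := hepi
      infer_instance
    have h0 : (DEquiv.singleB A).map (φ.inv ≫ p) ≫ ξ = 0 := by
      rw [Functor.map_comp, hp, Category.assoc, Category.assoc, hgξ, comp_zero, comp_zero]
    obtain ⟨χ, hχ⟩ := Triangle.yoneda_exact₃ _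
      (ses_distinguished (hS ⟨i, φ.inv ≫ p, epi_comp _ _⟩)) ξ h0
    exact ⟨⟨⟨i, φ.inv ≫ p, epi_comp _ _⟩, χ⟩, hχ.symm⟩

lemma countable_sh (hhom : ∀ X Y : A, Countable (X ⟶ Y)) (e : ℕ → A)
    (he : ∀ X : A, ∃ i, Nonempty (X ≅ e i)) (m m' : ℤ) (X Y : A) :
    Countable (sh m X ⟶ sh m' Y) := by
  have := countable_ext hhom e he (m' - m) X Y
  refine countable_of_iso ?_ (Iso.refl _)
    ((shiftFunctorAdd' (Bounded A) (m' - m) m m' (by omega)).app ((DEquiv.singleB A).obj Y)).symm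
  exact Function.Surjective.countable (f := (shiftFunctor (Bounded A) m).map)
    (shiftFunctor (Bounded A) m).map_surjective

lemma countable_hom (hhom : ∀ X Y : A, Countable (X ⟶ Y)) (e : ℕ → A)
    (he : ∀ X : A, ∃ i, Nonempty (X ≅ e i)) (K W : Bounded A) : Countable (K ⟶ W) := by
  have hs : ∀ (b : ℤ) (E : A), (sh (-b) E)⟦(1 : ℤ)⟧ ≅ sh (-b + 1) E := fun b E =>
    ((shiftFunctorAdd (Bounded A) (-b) 1).app ((DEquiv.singleB A).obj E)).symm
  have h1 : ∀ (W : Bounded A) (m : ℤ) (X : A), Countable (sh m X ⟶ W) := by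
    intro W
    obtain ⟨b, hb⟩ := exists_le W
    refine induction_bound (P := fun W _ => ∀ (m : ℤ) (X : A), Countable (sh m X ⟶ W))
      ?_ ?_ ?_ ?_ W b hb
    · exact fun K L b e h m X => countable_of_iso (h m X) (Iso.refl _) e
    · intro K b h m X
      have : Subsingleton (sh m X ⟶ K) := ⟨fun _ _ => h.eq_of_tgt _ _⟩
      infer_instance
    · exact fun b Y m X => countable_sh hhom e he m (-b) X Y
    · exact fun b E K L u g p hT _ _ _ hL hM m X =>
        countable_right _ hT (countable_sh hhom e he m (-b) X E) (hM m X)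
  obtain ⟨b, hb⟩ := exists_le K
  revert W
  refine induction_bound (P := fun K _ => ∀ W, Countable (K ⟶ W)) ?_ ?_ ?_ ?_ K b hb
  · exact fun K L b e h W => countable_of_iso (h W) e (Iso.refl _)
  · intro K b h W
    have : Subsingleton (K ⟶ W) := ⟨fun _ _ => h.eq_of_src _ _⟩
    infer_instance
  · exact fun b Y W => h1 W (-b) Y
  · exact fun b E K L u g p hT _ _ _ hL hM W => countable_left _ hT (h1 W (-b) E) (hM W)


/-- Let A be an abelian category which is countable: Hom(X, Y) is countable for all objects X, Y and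
there are countably many isomorphism classes of objects. Then the bounded derived category D^b(A) is
countable in the same sense. -/
theorem result
    {A : Type u} [Category.{v} A] [Abelian A] [HasDerivedCategory.{w} A]
    (hhom : ∀ X Y : A, Countable (X ⟶ Y))
    (hiso : ∃ e : ℕ → A, ∀ X : A, ∃ n : ℕ, Nonempty (X ≅ e n)) :
    (∀ K L : DerivedCategory.Bounded A, Countable (K ⟶ L)) ∧
      ∃ e : ℕ → DerivedCategory.Bounded A, ∀ K : DerivedCategory.Bounded A,
        ∃ n : ℕ, Nonempty (K ≅ e n) := by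
  classical
  obtain ⟨e, he⟩ := hiso
  have hH := countable_hom hhom e he
  refine ⟨hH, ?_⟩
  let gen : ℕ → Set (Bounded A) := Nat.rec
    (Set.range fun q : ℤ × ℕ => sh q.1 (e q.2))
    (fun _ T => T ∪ Set.range fun q : Σ t : ↥T, Σ i : ℕ, Σ m : ℤ, (t.1 ⟶ sh m (e i)) =>
      (Pretriangulated.distinguished_cocone_triangle q.2.2.2).choose⟦(-1 : ℤ)⟧)
  have hcount : ∀ n, (gen n).Countable := by
    intro n
    induction n with
    | zero => exact Set.countable_range _
    | succ n ih =>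
      have : Countable ↥(gen n) := ih.to_subtype
      have : ∀ (t : ↥(gen n)) (i : ℕ) (m : ℤ), Countable (t.1 ⟶ sh m (e i)) :=
        fun t i m => hH _ _
      exact ih.union (Set.countable_range _)
  have key : ∀ (n : ℕ) (K : Bounded A) (a b : ℤ), GE K a → LE K b → b - a ≤ n →
      ∃ Z ∈ gen n, Nonempty (K ≅ Z) := by
    intro n
    induction n with
    | zero =>
      intro K a b ha hb h
      obtain ⟨X, ⟨f⟩⟩ := exists_iso_sh (hb.of_le (show b ≤ a by omega)) ha
      obtain ⟨i, ⟨φ⟩⟩ := he X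
      exact ⟨_, ⟨(-a, i), rfl⟩,
        ⟨f ≪≫ (DEquiv.singleB A ⋙ shiftFunctor (Bounded A) (-a)).mapIso φ⟩⟩
    | succ n ih =>
      intro K a b ha hb h
      by_cases hab : a < b
      · have hz : LE (0 : Bounded A) (b - 1) :=
          (DerivedCategory.TStructure.t (C := A)).isLE_of_isZero (Bounded.ι.map_isZero (isZero_zero _)) _
        obtain ⟨E, g, hg, -⟩ := exists_cover hb hz (by omega) (0 : K ⟶ 0)
        obtain ⟨L, u, p, hT, -, -, h₃, h₄⟩ := exists_triangle ha hb hab g hg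
        obtain ⟨Z, hZ, ⟨f⟩⟩ := ih _ a (b - 1) h₃ h₄ (by omega)
        obtain ⟨i, ⟨φ⟩⟩ := he E
        let ψ : (sh (-b) E)⟦(1 : ℤ)⟧ ≅ sh (-b + 1) (e i) :=
          ((shiftFunctorAdd (Bounded A) (-b) 1).app ((DEquiv.singleB A).obj E)).symm ≪≫
            (DEquiv.singleB A ⋙ shiftFunctor (Bounded A) (-b + 1)).mapIso φ
        let δ : Z ⟶ sh (-b + 1) (e i) := f.inv ≫ (-(u⟦(1 : ℤ)⟧')) ≫ ψ.hom
        have hT₀ := (Pretriangulated.distinguished_cocone_triangle δ).choose_spec.choose_spec.choose_spec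
        have hT₁ := rot_of_distTriang _ (rot_of_distTriang _ (rot_of_distTriang _ hT))
        let iso := isoTriangleOfIso₁₂ _ _ hT₁ hT₀ f ψ (by
          change (-(u⟦(1 : ℤ)⟧')) ≫ ψ.hom = f.hom ≫ δ
          simp [δ])
        exact ⟨_, Or.inr ⟨⟨⟨Z, hZ⟩, i, -b + 1, δ⟩, rfl⟩,
          ⟨(shiftShiftNeg K (1 : ℤ)).symm ≪≫
            (shiftFunctor (Bounded A) (-1 : ℤ)).mapIso (Triangle.π₃.mapIso iso)⟩⟩
      · obtain ⟨Z, hZ, f⟩ := ih K a b ha hb (by omega)
        exact ⟨Z, Or.inl hZ, f⟩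
  obtain ⟨φ, hφ⟩ := (Set.countable_iUnion hcount).exists_eq_range
    ⟨sh 0 (e 0), Set.mem_iUnion.2 ⟨0, (0, 0), rfl⟩⟩
  refine ⟨φ, fun K => ?_⟩
  obtain ⟨a, ha⟩ := exists_ge K
  obtain ⟨b, hb⟩ := exists_le K
  obtain ⟨Z, hZ, hKZ⟩ := key (b - a).toNat K a b ha hb (Int.self_le_toNat _)
  have : Z ∈ Set.range φ := hφ ▸ Set.mem_iUnion.2 ⟨_, hZ⟩
  obtain ⟨n, rfl⟩ := this
  exact ⟨n, hKZ⟩

end Groth.Agent.S6713
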