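import Groth.Statements.S6716
import Groth.Agent.FunMorLib.IndRight

set_option autoImplicit false
universe u v' u'
open CategoryTheory CategoryTheory.Limits
open FunMor

namespace Groth.Agent.S6716

/-- Let A be a commutative ring and B an additive category with cokernels and filtered colimits. Let F'
be a functor from A-modules to B commuting with filtered colimits whose restriction to the full
subcategory of finitely presented A-modules is right exact (F' is then the extension of that
restriction). Then F' is additive and right exact, and it preserves all small direct sums. -/
theorem result
    (A : Type u) [CommRing A] {B : Type u'} [Category.{v'} B] [Preadditive B] [HasFiniteBiproducts B]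
    [HasCokernels B] [HasFilteredColimitsOfSize.{u, u} B]
    (F' : ModuleCat.{u} A ⥤ B) [PreservesFilteredColimitsOfSize.{u, u} F']
    [PreservesFiniteColimits (ObjectProperty.ι (fun M : ModuleCat.{u} A => Module.FinitePresentation A M) ⋙ F')] :
    F'.Additive ∧ PreservesFiniteColimits F' ∧
      ∀ J : Type u, PreservesColimitsOfShape (Discrete J) F' := by
  haveI : PreservesFiniteColimits (Groth.Agent.FunMorLib.fpι A ⋙ F') := inferInstanceAs (PreservesFiniteColimits
    (ObjectProperty.ι (fun M : ModuleCat.{u} A => Module.FinitePresentation A M) ⋙ F'))
  haveI : (Groth.Agent.FunMorLib.fpι A ⋙ F').Additive := Groth.Agent.FunMorLib.additive_of_rightExact _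
  exact ⟨Groth.Agent.FunMorLib.additive_of_restriction F', Groth.Agent.FunMorLib.preservesFiniteColimits_of_restriction F',
    Groth.Agent.FunMorLib.preservesCoproducts F'⟩

end Groth.Agent.S6716
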