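import Groth.Statements.S6719
import Groth.Agent.PointHom7.Main
import Groth.Agent.KFlatLib.PsiC

set_option autoImplicit false
universe u
open CategoryTheory AlgebraicGeometry
attribute [local instance] HasDerivedCategory.standard
open DEquiv

namespace Groth.Agent.S6719

/-- Let X be a Noetherian scheme, x ∈ X a closed point and O_x the skyscraper sheaf at x with value κ(x)
(the direct image of the structure sheaf of Spec κ(x)). Let K be a bounded object of D(O_X) with
coherent cohomology sheaves and b ∈ ℤ. Then H^i(K)_x = 0 for all i > b if and only if Hom(K,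
O_x⟦-i⟧) = 0 for all i > b. -/
theorem result
    (X : Scheme.{u}) [IsNoetherian X] (x : X) (hx : IsClosed ({x} : Set X))
    (K : DCoh.D X) (hK : DCoh.IsCohD K) (a c : ℤ) [DerivedCategory.IsGE K a]
    [DerivedCategory.IsLE K c] (b : ℤ) :
    (∀ i : ℤ, b < i → x ∉ CohB1.support (DCoh.HD K i)) ↔
      ∀ i : ℤ, b < i → ∀ φ : K ⟶ (shiftFunctor (DCoh.D X) (-i)).obj (DCoh.inD X ((Coh.push (X.fromSpecResidueField x)).obj (Coh.structureModule _))),
        φ = 0 := by
  set M := (Coh.push (X.fromSpecResidueField x)).obj (Coh.structureModule _) with hMdef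
  obtain ⟨hoff, hnt, hkill⟩ := PointHom7.point_sheaf x hx
  set R : Type u := (X.presheaf.stalk x : Type u)
  set N : ModuleCat.{u} (X.presheaf.stalk x) := (DerSch.stalkFunctor X x).obj M
  haveI : Nontrivial N := hnt
  haveI := (PointHom7.sky_preserves (X := X) x).1
  haveI := (PointHom7.sky_preserves (X := X) x).2
  obtain ⟨eM⟩ := PointHom7.nonempty_iso_sky x hx M hoff
  set F := (DerSch.stalkFunctor X x).mapDerivedCategory
  -- maps into the shifted point sheaf are maps out of the stalk complex
  have hhom : ∀ i : ℤ, (∀ φ : K ⟶ (shiftFunctor (DCoh.D X) (-i)).obj (DCoh.inD X M), φ = 0) ↔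
      (∀ ψ : F.obj K ⟶ (DerivedCategory.singleFunctor (ModuleCat.{u} (X.presheaf.stalk x)) i).obj N, ψ = 0) := by
    intro i
    obtain ⟨e, he⟩ := PointHom7.exists_homEquiv x N K (-i)
    let c : (shiftFunctor (DCoh.D X) (-i)).obj (DCoh.inD X M) ≅
        ((DerivedCategory.singleFunctor X.Modules 0).obj ((KFlatLib.sky x).obj N))⟦-i⟧ :=
      (shiftFunctor (DCoh.D X) (-i)).mapIso ((DerivedCategory.singleFunctor X.Modules 0).mapIso eM)
    let d : ((DerivedCategory.singleFunctor (ModuleCat.{u} (X.presheaf.stalk x)) 0).obj N)⟦-i⟧ ≅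
        (DerivedCategory.singleFunctor (ModuleCat.{u} (X.presheaf.stalk x)) i).obj N :=
      (((DerivedCategory.singleFunctors (ModuleCat.{u} (X.presheaf.stalk x))).shiftIso (-i) i 0 (by omega)).app N)
    constructor
    · intro h ψ
      obtain ⟨φ, hφ⟩ := e.surjective (ψ ≫ d.inv)
      have hz : φ = 0 := by rw [← cancel_mono c.inv, Limits.zero_comp]; exact h _
      rw [← cancel_mono d.inv, Limits.zero_comp, ← hφ, hz, he]
    · intro h φ
      rw [← cancel_mono c.hom, Limits.zero_comp]
      apply e.injective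
      rw [he, ← cancel_mono d.hom, Limits.zero_comp]
      exact h _
  have hH : ∀ i : ℤ, x ∈ CohB1.support (DCoh.HD K i) ↔
      ¬ Limits.IsZero ((DerivedCategory.homologyFunctor (ModuleCat.{u} (X.presheaf.stalk x)) i).obj (F.obj K)) := by
    intro i
    refine Iff.trans ?_ (not_congr
      ((KFlatLib.mapDCHomologyIso (DerSch.stalkFunctor X x) i).app K).isZero_iff).symm
    rw [ModuleCat.isZero_iff_subsingleton]
    exact Iff.rfl
  constructor
  · intro h i hi
    rw [hhom i]
    intro ψ
    haveI : DerivedCategory.IsLE (F.obj K) b := (DerivedCategory.isLE_iff _ _).2 fun j hj =>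
      not_not.1 fun hne => h j hj ((hH j).2 hne)
    exact DerivedCategory.TStructure.t.zero_of_isLE_of_isGE ψ b i hi inferInstance inferInstance
  · intro h i hi hxi
    -- pass to the highest degree with nonzero stalk
    obtain ⟨m, ⟨hbm, hm⟩, hmax⟩ : ∃ m, (b < m ∧ x ∈ CohB1.support (DCoh.HD K m)) ∧
        ∀ z, (b < z ∧ x ∈ CohB1.support (DCoh.HD K z)) → z ≤ m := by
      refine Int.exists_greatest_of_bdd ⟨c, fun z hz => ?_⟩ ⟨i, hi, hxi⟩
      by_contra hcz
      refine (hH z).1 hz.2 ?_
      exact ((DerSch.stalkFunctor X x).map_isZero (DerivedCategory.isZero_of_isLE K c z (not_le.1 hcz))).of_iso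
        ((KFlatLib.mapDCHomologyIso (DerSch.stalkFunctor X x) z).app K)
    haveI : DerivedCategory.IsLE (F.obj K) m := (DerivedCategory.isLE_iff _ _).2 fun j hj =>
      not_not.1 fun hne => absurd (hmax j ⟨hbm.trans hj, (hH j).2 hne⟩) (not_le.2 hj)
    have hfin : Module.Finite (X.presheaf.stalk x)
        ((DerivedCategory.homologyFunctor (ModuleCat.{u} (X.presheaf.stalk x)) m).obj (F.obj K)) := by
      haveI := (hK m).2
      haveI : Module.Finite (X.presheaf.stalk x) ((DerSch.stalkFunctor X x).obj (DCoh.HD K m)) :=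
        FDescent.finite_stalk (DCoh.HD K m) x
      exact @Module.Finite.equiv _ _ _ _ _ _ _ _ this ((KFlatLib.mapDCHomologyIso (DerSch.stalkFunctor X x) m).app K).symm.toLinearEquiv
    obtain ⟨ψ, hψ⟩ := PointHom7.exists_hom_ne_zero (F.obj K) m hfin ((hH m).1 hm) N hkill
    exact hψ ((hhom m).1 (h m hbm) ψ)

end Groth.Agent.S6719
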