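import Groth.Statements.S6720
import Groth.Agent.PointDetect7.Main
import Groth.Agent.KZ.RegPerf
import Groth.Agent.S6719

set_option autoImplicit false
set_option backward.isDefEq.respectTransparency false
set_option linter.style.haveILetI false
set_option maxHeartbeats 1000000
universe u
open CategoryTheory AlgebraicGeometry
attribute [local instance] HasDerivedCategory.standard
open DEquiv

namespace Groth.Agent.S6720

/-- Let X be a scheme of finite type over a field k which is regular, x ∈ X a closed point, O_x the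
skyscraper sheaf at x with value κ(x), and K a perfect object of D(O_X). If Hom(O_x, K⟦i⟧) = 0 for
all i ∈ ℤ, then K is zero on an open neighbourhood of x; likewise if Hom(K, O_x⟦i⟧) = 0 for all i ∈
ℤ. (K zero on U is expressed as: no cohomology sheaf of K has a point of U in its support.) -/
theorem result
    (k : Type u) [Field k] (X : Scheme.{u}) [X.Over (Spec (.of k))]
    [LocallyOfFiniteType (X ↘ Spec (.of k))] [CompactSpace X]
    (hreg : Models.IsRegularScheme X) (x : X) (hx : IsClosed ({x} : Set X))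
    (K : DCoh.D X) (hK : DCoh.IsPerfect K) :
    ((∀ (i : ℤ) (φ : DCoh.inD X ((Coh.push (X.fromSpecResidueField x)).obj (Coh.structureModule _)) ⟶ (shiftFunctor (DCoh.D X) i).obj K), φ = 0) →
      ∃ U : X.Opens, x ∈ U ∧ ∀ (i : ℤ) (y : X), y ∈ U → y ∉ CohB1.support (DCoh.HD K i)) ∧
    ((∀ (i : ℤ) (φ : K ⟶ (shiftFunctor (DCoh.D X) i).obj (DCoh.inD X ((Coh.push (X.fromSpecResidueField x)).obj (Coh.structureModule _)))), φ = 0) →
      ∃ U : X.Opens, x ∈ U ∧ ∀ (i : ℤ) (y : X), y ∈ U → y ∉ CohB1.support (DCoh.HD K i)) := by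
  haveI : IsLocallyNoetherian (Spec (CommRingCat.of k)) := inferInstance
  haveI : IsLocallyNoetherian X := LocallyOfFiniteType.isLocallyNoetherian (X ↘ Spec (.of k))
  haveI : IsNoetherian X := ⟨⟩
  obtain ⟨hcoh, a, b, ha, hb⟩ := (KZ.isPerfect_iff_of_regular hreg K).1 hK
  haveI := ha
  haveI := hb
  have hnhd : (∀ i : ℤ, x ∉ CohB1.support (DCoh.HD K i)) →
      ∃ U : X.Opens, x ∈ U ∧ ∀ (i : ℤ) (y : X), y ∈ U → y ∉ CohB1.support (DCoh.HD K i) := by
    intro hx0
    let Z : Set X := ⋃ i ∈ Set.Icc a b, CohB1.support (DCoh.HD K i)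
    have hZ : IsClosed Z := Set.Finite.isClosed_biUnion (Set.finite_Icc a b) fun i _ =>
      QCoh.isClosed_support_of_isFT (hcoh i).1 (hcoh i).2
    refine ⟨⟨Zᶜ, hZ.isOpen_compl⟩, fun hxZ => ?_, fun i y hy hyi => hy ?_⟩
    · obtain ⟨i, -, hi⟩ := Set.mem_iUnion₂.1 hxZ
      exact hx0 i hi
    · refine Set.mem_iUnion₂.2 ⟨i, Set.mem_Icc.2 ⟨?_, ?_⟩, hyi⟩
      · by_contra hlt
        exact hyi (ModuleCat.subsingleton_of_isZero ((DerSch.stalkFunctor X y).map_isZero
          (DerivedCategory.isZero_of_isGE K a i (by omega))))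
      · by_contra hlt
        exact hyi (ModuleCat.subsingleton_of_isZero ((DerSch.stalkFunctor X y).map_isZero
          (DerivedCategory.isZero_of_isLE K b i (by omega))))
  refine ⟨fun h => hnhd fun i => PointDetect7.notMem_support x hx K hcoh a h i, fun h => hnhd fun i => ?_⟩
  exact (S6719.result X x hx K hcoh a b (i - 1)).2 (fun j _ φ => h (-j) φ) i (by omega)

end Groth.Agent.S6720
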