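import Groth.Statements.S6725
import Groth.Agent.FunMorLib.FpExt

set_option autoImplicit false
universe u v' u'
open CategoryTheory CategoryTheory.Limits
open FunMor

namespace Groth.Agent.S6725

/-- Essential surjectivity of the functor F ↦ (F(A), induced A-action): let A be a commutative ring and
B an additive category with cokernels. For every object K of B and ring map κ : A → End(K) there
exist a right exact functor F from the category of finitely presented A-modules to B and an
isomorphism F(A) ≅ K carrying F(multiplication by a) to κ(a) for every a ∈ A. -/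
theorem result
    (A : Type u) [CommRing A] {B : Type u'} [Category.{v'} B] [Preadditive B] [HasFiniteBiproducts B]
    [HasCokernels B] (K : B) (κ : A →+* End K) :
    ∃ (F : (ObjectProperty.FullSubcategory (fun M : ModuleCat.{u} A => Module.FinitePresentation A M)) ⥤ B) (_ : PreservesFiniteColimits F)
      (e : F.obj (⟨ModuleCat.of A A, inferInstance⟩ : (ObjectProperty.FullSubcategory (fun M : ModuleCat.{u} A => Module.FinitePresentation A M))) ≅ K),
      ∀ a : A, F.map (ObjectProperty.homMk (ModuleCat.ofHom (LinearMap.lsmul A A a)) : (⟨ModuleCat.of A A, inferInstance⟩ : (ObjectProperty.FullSubcategory (fun M : ModuleCat.{u} A => Module.FinitePresentation A M))) ⟶ (⟨ModuleCat.of A A, inferInstance⟩ : (ObjectProperty.FullSubcategory (fun M : ModuleCat.{u} A => Module.FinitePresentation A M)))) ≫ e.hom = e.hom ≫ κ a := by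
  let O : (ObjectProperty.FullSubcategory (fun M : ModuleCat.{u} A => Module.FinitePresentation A M)) :=
    ⟨ModuleCat.of A A, inferInstance⟩
  let φ₀ : A →ₗ[A] Groth.Agent.FunMorLib.HK κ K :=
    LinearMap.toSpanSingleton A _ (show Groth.Agent.FunMorLib.HK κ K from 𝟙 K)
  obtain ⟨s, hs, -⟩ := Groth.Agent.FunMorLib.ext_univ (κ := κ) O φ₀
  let t : K ⟶ (Groth.Agent.FunMorLib.ext κ).obj O := Groth.Agent.FunMorLib.el κ O (1 : A)
  have hts : t ≫ s = 𝟙 K := by
    have h1 := LinearMap.congr_fun hs (1 : A)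
    exact h1.trans (one_smul A _)
  have hst : s ≫ t = 𝟙 _ := Groth.Agent.FunMorLib.ext_hom_ext (by
    rw [Groth.Agent.FunMorLib.post_comp, LinearMap.comp_assoc, hs, Groth.Agent.FunMorLib.post_id, LinearMap.id_comp]
    refine LinearMap.ext_ring ?_
    show ((κ 1 : K ⟶ K) ≫ 𝟙 K) ≫ t = t
    rw [map_one]
    show (𝟙 K ≫ 𝟙 K) ≫ t = t
    rw [Category.id_comp, Category.id_comp])
  refine ⟨Groth.Agent.FunMorLib.ext κ, inferInstance, ⟨s, t, hst, hts⟩, fun a => ?_⟩
  refine Groth.Agent.FunMorLib.ext_hom_ext ?_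
  rw [Groth.Agent.FunMorLib.post_comp, Groth.Agent.FunMorLib.post_comp, LinearMap.comp_assoc,
    LinearMap.comp_assoc, Groth.Agent.FunMorLib.ext_el, hs, ← LinearMap.comp_assoc, hs]
  refine LinearMap.ext_ring ?_
  show ((κ (a * 1) : K ⟶ K) ≫ 𝟙 K) = ((κ 1 : K ⟶ K) ≫ 𝟙 K) ≫ (κ a : K ⟶ K)
  rw [mul_one, map_one]
  show (κ a : K ⟶ K) ≫ 𝟙 K = (𝟙 K ≫ 𝟙 K) ≫ (κ a : K ⟶ K)
  rw [Category.comp_id, Category.id_comp, Category.id_comp]

end Groth.Agent.S6725
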