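import Groth.Statements.S6726
import Groth.Agent.FunMorLib.FpHom

set_option autoImplicit false
universe u v' u'
open CategoryTheory CategoryTheory.Limits
open FunMor

namespace Groth.Agent.S6726

/-- Full faithfulness of the functor F ↦ (F(A), induced A-action): let A be a commutative ring, B an
additive category with cokernels, and F, F' right exact functors from the category of finitely
presented A-modules to B. Then two natural transformations F ⟶ F' with the same component at A are
equal, and a morphism φ : F(A) ⟶ F'(A) is the component at A of a natural transformation as soon as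
it commutes with F and F' applied to multiplication by every a ∈ A. -/
theorem result
    (A : Type u) [CommRing A] {B : Type u'} [Category.{v'} B] [Preadditive B] [HasFiniteBiproducts B]
    [HasCokernels B] (F F' : (ObjectProperty.FullSubcategory (fun M : ModuleCat.{u} A => Module.FinitePresentation A M)) ⥤ B)
    [PreservesFiniteColimits F] [PreservesFiniteColimits F'] :
    (∀ t t' : F ⟶ F', t.app (⟨ModuleCat.of A A, inferInstance⟩ : (ObjectProperty.FullSubcategory (fun M : ModuleCat.{u} A => Module.FinitePresentation A M))) = t'.app (⟨ModuleCat.of A A, inferInstance⟩ : (ObjectProperty.FullSubcategory (fun M : ModuleCat.{u} A => Module.FinitePresentation A M))) → t = t') ∧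
    ∀ φ : F.obj (⟨ModuleCat.of A A, inferInstance⟩ : (ObjectProperty.FullSubcategory (fun M : ModuleCat.{u} A => Module.FinitePresentation A M))) ⟶ F'.obj (⟨ModuleCat.of A A, inferInstance⟩ : (ObjectProperty.FullSubcategory (fun M : ModuleCat.{u} A => Module.FinitePresentation A M))),
      (∀ a : A, F.map (ObjectProperty.homMk (ModuleCat.ofHom (LinearMap.lsmul A A a)) : (⟨ModuleCat.of A A, inferInstance⟩ : (ObjectProperty.FullSubcategory (fun M : ModuleCat.{u} A => Module.FinitePresentation A M))) ⟶ (⟨ModuleCat.of A A, inferInstance⟩ : (ObjectProperty.FullSubcategory (fun M : ModuleCat.{u} A => Module.FinitePresentation A M)))) ≫ φ = φ ≫ F'.map (ObjectProperty.homMk (ModuleCat.ofHom (LinearMap.lsmul A A a)) : (⟨ModuleCat.of A A, inferInstance⟩ : (ObjectProperty.FullSubcategory (fun M : ModuleCat.{u} A => Module.FinitePresentation A M))) ⟶ (⟨ModuleCat.of A A, inferInstance⟩ : (ObjectProperty.FullSubcategory (fun M : ModuleCat.{u} A => Module.FinitePresentation A M))))) →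
      ∃ t : F ⟶ F', t.app (⟨ModuleCat.of A A, inferInstance⟩ : (ObjectProperty.FullSubcategory (fun M : ModuleCat.{u} A => Module.FinitePresentation A M))) = φ := by
  refine ⟨fun t t' h => ?_, fun φ hφ => ?_⟩
  · refine NatTrans.ext (funext fun M => ?_)
    obtain ⟨s, -, hu⟩ := Groth.Agent.FunMorLib.existsUnique_desc F M (T := F'.obj M)
      (fun x => F.map (Groth.Agent.FunMorLib.sp x) ≫ t.app M)
      (fun x y => by rw [Groth.Agent.FunMorLib.sp_add, F.map_add, Preadditive.add_comp])
      (fun a x => by rw [Groth.Agent.FunMorLib.sp_smul, F.map_comp, Category.assoc])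
    have h2 : ∀ x, F.map (Groth.Agent.FunMorLib.sp x) ≫ t'.app M = F.map (Groth.Agent.FunMorLib.sp x) ≫ t.app M := fun x => by
      rw [t.naturality, t'.naturality]
      exact congrArg (fun z => z ≫ F'.map (Groth.Agent.FunMorLib.sp x)) h.symm
    exact (hu _ fun x => rfl).trans (hu _ h2).symm
  · have key : ∀ M, ∃! s : F.obj M ⟶ F'.obj M, ∀ x, F.map (Groth.Agent.FunMorLib.sp x) ≫ s =
        φ ≫ F'.map (Groth.Agent.FunMorLib.sp x) := fun M =>
      Groth.Agent.FunMorLib.existsUnique_desc F M _
        (fun x y => by rw [Groth.Agent.FunMorLib.sp_add, F'.map_add, Preadditive.comp_add])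
        (fun a x => by
          rw [Groth.Agent.FunMorLib.sp_smul, F'.map_comp]
          exact (reassoc_of% (hφ a).symm) _)
    choose s hs hu using key
    refine ⟨{ app := s, naturality := fun M N g => ?_ }, ?_⟩
    · obtain ⟨w, -, hw⟩ := Groth.Agent.FunMorLib.existsUnique_desc F M (T := F'.obj N)
        (fun x => F.map (Groth.Agent.FunMorLib.sp x) ≫ F.map g ≫ s N)
        (fun x y => by rw [Groth.Agent.FunMorLib.sp_add, F.map_add, Preadditive.add_comp])
        (fun a x => by rw [Groth.Agent.FunMorLib.sp_smul, F.map_comp, Category.assoc])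
      refine (hw _ fun x => rfl).trans (hw _ fun x => ?_).symm
      rw [reassoc_of% hs M x, ← F'.map_comp, Groth.Agent.FunMorLib.sp_comp, ← F.map_comp_assoc,
        Groth.Agent.FunMorLib.sp_comp, hs N]
    · symm
      refine hu _ φ fun x => ?_
      have h1 : Groth.Agent.FunMorLib.sp (M := Groth.Agent.FunMorLib.unit A) x = Groth.Agent.FunMorLib.mulHom x :=
        (Groth.Agent.FunMorLib.mulHom_eq x).symm
      erw [h1]
      exact hφ x

end Groth.Agent.S6726
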