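import Groth.Statements.S6729
import Groth.Agent.BoxSurj.Main
import Groth.Agent.QCoh.DevissageP
import Groth.Agent.QCoh.Support
import Groth.Agent.Lib.CurveDeg

set_option autoImplicit false
set_option backward.isDefEq.respectTransparency false
set_option linter.style.haveILetI false
universe u
open CategoryTheory AlgebraicGeometry
open DEquiv

namespace Groth.Agent.S6729

open CategoryTheory.Limits

noncomputable section

section Build

variable {A : Type*} [Category A] [Abelian A] {Good : A → Prop} (T : ∀ K : A, Good K → A)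
  (p : ∀ (K : A) (h : Good K), T K h ⟶ K) (hk : ∀ (K : A) (h : Good K), Good (kernel (p K h)))
  (K₀ : A) (h₀ : Good K₀)

/-- The iterated syzygies. -/
def syz : ℕ → { K : A // Good K }
  | 0 => ⟨K₀, h₀⟩
  | n + 1 => ⟨kernel (p (syz n).1 (syz n).2), hk _ _⟩

/-- The terms of the resolution. -/
def term (n : ℕ) : A := T (syz T p hk K₀ h₀ n).1 (syz T p hk K₀ h₀ n).2

/-- The differentials. -/
def diffl (n : ℕ) : term T p hk K₀ h₀ (n + 1) ⟶ term T p hk K₀ h₀ n :=
  p (syz T p hk K₀ h₀ (n + 1)).1 (syz T p hk K₀ h₀ (n + 1)).2 ≫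
    kernel.ι (p (syz T p hk K₀ h₀ n).1 (syz T p hk K₀ h₀ n).2)

theorem diffl_comp (n : ℕ) :
    diffl T p hk K₀ h₀ n ≫ p (syz T p hk K₀ h₀ n).1 (syz T p hk K₀ h₀ n).2 = 0 :=
  (Category.assoc _ _ _).trans ((congrArg _ (kernel.condition _)).trans comp_zero)

theorem sq (n : ℕ) : diffl T p hk K₀ h₀ (n + 1) ≫ diffl T p hk K₀ h₀ n = 0 := by
  show _ ≫ (_ ≫ _) = 0
  rw [← Category.assoc]
  exact (congrArg (· ≫ _) (diffl_comp T p hk K₀ h₀ (n + 1))).trans zero_comp

variable (hp : ∀ (K : A) (h : Good K), Epi (p K h))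
include hp

theorem exact_aux (n : ℕ) (hz : diffl T p hk K₀ h₀ n ≫ p (syz T p hk K₀ h₀ n).1 (syz T p hk K₀ h₀ n).2 = 0) :
    (ShortComplex.mk _ _ hz).Exact := by
  haveI := hp (syz T p hk K₀ h₀ (n + 1)).1 (syz T p hk K₀ h₀ (n + 1)).2
  let k : ShortComplex A := ShortComplex.mk (kernel.ι (p (syz T p hk K₀ h₀ n).1 (syz T p hk K₀ h₀ n).2))
    (p (syz T p hk K₀ h₀ n).1 (syz T p hk K₀ h₀ n).2) (kernel.condition _)
  let φ : ShortComplex.mk _ _ hz ⟶ k :=
    { τ₁ := p (syz T p hk K₀ h₀ (n + 1)).1 (syz T p hk K₀ h₀ (n + 1)).2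
      τ₂ := 𝟙 _
      τ₃ := 𝟙 _
      comm₁₂ := (Category.comp_id _).symm
      comm₂₃ := (Category.id_comp _).trans (Category.comp_id _).symm }
  haveI : Epi φ.τ₁ := hp (syz T p hk K₀ h₀ (n + 1)).1 (syz T p hk K₀ h₀ (n + 1)).2
  haveI : IsIso φ.τ₂ := (inferInstance : IsIso (𝟙 _))
  haveI : Mono φ.τ₃ := (inferInstance : Mono (𝟙 _))
  exact (ShortComplex.exact_iff_of_epi_of_isIso_of_mono φ).2 (ShortComplex.exact_of_f_is_kernel _ (kernelIsKernel _))

theorem exact_succ (n : ℕ) :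
    (ShortComplex.mk _ _ (sq T p hk K₀ h₀ n)).Exact := by
  let f : ShortComplex.mk _ _ (diffl_comp T p hk K₀ h₀ (n + 1)) ⟶ ShortComplex.mk _ _ (sq T p hk K₀ h₀ n) :=
    { τ₁ := 𝟙 _
      τ₂ := 𝟙 _
      τ₃ := kernel.ι (p (syz T p hk K₀ h₀ n).1 (syz T p hk K₀ h₀ n).2)
      comm₁₂ := (Category.id_comp _).trans (Category.comp_id _).symm
      comm₂₃ := Category.id_comp _ }
  haveI : Epi f.τ₁ := (inferInstance : Epi (𝟙 _))
  haveI : IsIso f.τ₂ := (inferInstance : IsIso (𝟙 _))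
  haveI : Mono f.τ₃ := (inferInstance : Mono (kernel.ι _))
  exact (ShortComplex.exact_iff_of_epi_of_isIso_of_mono f).1 (exact_aux T p hk K₀ h₀ hp (n + 1) _)

end Build

theorem exists_resolution {A : Type*} [Category A] [Abelian A] {Good : A → Prop} (Nice : A → Prop)
    (hex : ∀ K : A, Good K → ∃ (T : A) (p : T ⟶ K), Epi p ∧ Nice T ∧ Good (kernel p)) (K₀ : A) (h₀ : Good K₀) :
    ∃ (C : ChainComplex A ℕ) (π : C ⟶ (ChainComplex.single₀ _).obj K₀), QuasiIso π ∧ ∀ n : ℕ, Nice (C.X n) := by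
  choose T p hp hT hk using hex
  let C : ChainComplex A ℕ := ChainComplex.of (term T p hk K₀ h₀) (diffl T p hk K₀ h₀) (sq T p hk K₀ h₀)
  have hd : ∀ n, C.d (n + 1) n = diffl T p hk K₀ h₀ n := fun n => ChainComplex.of_d _ _ _
  have hC : C.d 1 0 ≫ p K₀ h₀ = 0 := (congrArg (· ≫ p K₀ h₀) (hd 0)).trans (diffl_comp T p hk K₀ h₀ 0)
  refine ⟨C, (ChainComplex.toSingle₀Equiv _ _).symm ⟨p K₀ h₀, hC⟩, ⟨fun n => ?_⟩, fun n => hT _ _⟩
  cases n with
  | zero =>
    rw [ChainComplex.quasiIsoAt₀_iff, ShortComplex.quasiIso_iff_of_zeros']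
    · refine (ShortComplex.exact_and_epi_g_iff_of_iso (?_ :
          _ ≅ ShortComplex.mk _ _ (diffl_comp T p hk K₀ h₀ 0))).2
        ⟨exact_aux T p hk K₀ h₀ hp 0 (diffl_comp T p hk K₀ h₀ 0), hp _ _⟩
      refine ShortComplex.isoMk (Iso.refl _) (Iso.refl _) (Iso.refl _) ?_ ?_
      · exact (Category.id_comp _).trans ((hd 0).symm.trans (Category.comp_id _).symm)
      · exact (Category.id_comp _).trans ((ChainComplex.toSingle₀Equiv_symm_apply_f_zero _ hC).symm.trans (Category.comp_id _).symm)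
    all_goals rfl
  | succ n =>
    rw [quasiIsoAt_iff_exactAt' (hL := ChainComplex.exactAt_succ_single_obj _ _)]
    rw [HomologicalComplex.exactAt_iff' _ (n + 1 + 1) (n + 1) n (by simp) (by simp)]
    refine (ShortComplex.exact_iff_of_iso (?_ : _ ≅ ShortComplex.mk _ _ (sq T p hk K₀ h₀ n))).2
      (exact_succ T p hk K₀ h₀ hp n)
    refine ShortComplex.isoMk (Iso.refl _) (Iso.refl _) (Iso.refl _) ?_ ?_
    · exact (Category.id_comp _).trans ((hd (n + 1)).symm.trans (Category.comp_id _).symm)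
    · exact (Category.id_comp _).trans ((hd n).symm.trans (Category.comp_id _).symm)

end


open CategoryTheory.Limits in
/-- Let R be a Noetherian ring and X a separated scheme of finite type over R which has the resolution
property. Let O_Δ = Δ_* O_X on X ×_R X, where Δ is the diagonal. Then there is a resolution ⋯ ⟶ E_1
⊠ G_1 ⟶ E_0 ⊠ G_0 ⟶ O_Δ ⟶ 0 with every E_i and G_i a finite locally free O_X-module: an ℕ-indexed
chain complex with a quasi-isomorphism to O_Δ in degree 0, each of whose terms is isomorphic to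
pr_1^* E_i ⊗ pr_2^* G_i. -/
theorem result
    (R : Type u) [CommRing R] [IsNoetherianRing R] (X : Scheme.{u}) [X.Over (Spec (.of R))]
    [IsSeparated (X ↘ Spec (.of R))] [LocallyOfFiniteType (X ↘ Spec (.of R))] [CompactSpace X]
    (hX : PerfAux.HasResolutionProperty X) :
    ∃ (C : ChainComplex (pullback (X ↘ Spec (.of R)) (X ↘ Spec (.of R))).Modules ℕ)
      (π : C ⟶ (ChainComplex.single₀ _).obj
        ((Coh.push (pullback.diagonal (X ↘ Spec (.of R)))).obj (Coh.structureModule X))),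
      QuasiIso π ∧ ∀ n : ℕ, ∃ (E G : X.Modules), FlatMod.IsFinLocFree E ∧ FlatMod.IsFinLocFree G ∧
        Nonempty (C.X n ≅ CohB1.tensorMod
          ((Scheme.Modules.pullback (pullback.fst (X ↘ Spec (.of R)) (X ↘ Spec (.of R)))).obj E)
          ((Scheme.Modules.pullback (pullback.snd (X ↘ Spec (.of R)) (X ↘ Spec (.of R)))).obj G)) := by
  haveI : QuasiCompact (X ↘ Spec (.of R)) :=
    (HasAffineProperty.iff_of_isAffine (P := @QuasiCompact)).2 inferInstance
  haveI : IsLocallyNoetherian (pullback (X ↘ Spec (.of R)) (X ↘ Spec (.of R))) :=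
    LocallyOfFiniteType.isLocallyNoetherian (pullback.fst (X ↘ Spec (.of R)) (X ↘ Spec (.of R)) ≫ (X ↘ Spec (.of R)))
  haveI : CompactSpace ↥(pullback (X ↘ Spec (.of R)) (X ↘ Spec (.of R))) :=
    QuasiCompact.compactSpace_of_compactSpace (pullback.fst (X ↘ Spec (.of R)) (X ↘ Spec (.of R)))
  haveI : IsNoetherian (pullback (X ↘ Spec (.of R)) (X ↘ Spec (.of R))) := ⟨⟩
  haveI : QuasiSeparatedSpace X := by
    exact (quasiSeparated_iff_quasiSeparatedSpace (X ↘ Spec (.of R))).1 inferInstance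
  refine exists_resolution (Good := Coh.IsCoh)
    (fun T => ∃ (E G : X.Modules), FlatMod.IsFinLocFree E ∧ FlatMod.IsFinLocFree G ∧
        Nonempty (T ≅ CohB1.tensorMod
          ((Scheme.Modules.pullback (pullback.fst (X ↘ Spec (.of R)) (X ↘ Spec (.of R)))).obj E)
          ((Scheme.Modules.pullback (pullback.snd (X ↘ Spec (.of R)) (X ↘ Spec (.of R)))).obj G)))
    (fun K hK => ?_) _
    (QCoh.isCoh_push_structure (pullback.diagonal (X ↘ Spec (.of R))))
  obtain ⟨E, G, hE, hG, π, hπ⟩ := BoxSurj.exists_box_epi (X ↘ Spec (.of R)) (X ↘ Spec (.of R)) hX hX K hK.1 hK.2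
  refine ⟨_, π, hπ, ⟨E, G, hE, hG, ⟨Iso.refl _⟩⟩, QCoh.isCoh_kernel ?_ hK π⟩
  exact CurveDeg.isCoh_of_isFinLocFree
    (KFlatLib.isFinLocFree_tensor (KFlatLib.isFinLocFree_pullback _ hE) (KFlatLib.isFinLocFree_pullback _ hG))

end Groth.Agent.S6729
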