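import Groth.Statements.S6732
import Mathlib

set_option autoImplicit false
universe w v u
open CategoryTheory
open DEquiv

namespace Groth.Agent.S6732


open CategoryTheory CategoryTheory.Limits CategoryTheory.Pretriangulated

section
variable {k : Type w} [Field k]
    {T : Type u} [Category.{v} T] [Preadditive T] [Linear k T] [HasZeroObject T] [HasShift T ℤ]
    [∀ n : ℤ, (shiftFunctor T n).Additive] [∀ n : ℤ, (shiftFunctor T n).Linear k] [Pretriangulated T]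
    [∀ X Y : T, Module.Finite k (X ⟶ Y)]
    (S : T ≌ T) (c : ∀ X Y : T, (X ⟶ Y) ≃ₗ[k] Module.Dual k (Y ⟶ S.functor.obj X))

lemma exists_eq (X Y : T) (ψ : Module.Dual k (X ⟶ Y)) :
    ∃ η : Y ⟶ S.functor.obj X, ∀ f, c X Y f η = ψ f := by
  obtain ⟨η, hη⟩ := (Module.evalEquiv k (Y ⟶ S.functor.obj X)).surjective
    (ψ ∘ₗ (c X Y).symm.toLinearMap)
  refine ⟨η, fun f => ?_⟩
  simpa using LinearMap.congr_fun hη (c X Y f)

lemma ext_eq {X Y : T} {η η' : Y ⟶ S.functor.obj X} (h : ∀ f, c X Y f η = c X Y f η') : η = η' := by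
  apply (Module.evalEquiv k (Y ⟶ S.functor.obj X)).injective
  refine LinearMap.ext fun φ => ?_
  obtain ⟨f, rfl⟩ := (c X Y).surjective φ
  simpa using h f

lemma exists_eta (X : T) : ∃ η : (S.functor.obj X)⟦(1 : ℤ)⟧ ⟶ S.functor.obj (X⟦(1 : ℤ)⟧),
    ∀ g : X ⟶ S.functor.obj X, c _ _ (g⟦(1 : ℤ)⟧') η = - c _ _ g (𝟙 _) := by
  let sh : (X ⟶ S.functor.obj X) ≃ₗ[k] (X⟦(1 : ℤ)⟧ ⟶ (S.functor.obj X)⟦(1 : ℤ)⟧) :=
    LinearEquiv.ofBijective ((shiftFunctor T (1 : ℤ)).mapLinearMap k)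
      ⟨fun _ _ h => (shiftFunctor T (1 : ℤ)).map_injective h, (shiftFunctor T (1 : ℤ)).map_surjective⟩
  obtain ⟨η, hη⟩ := exists_eq S c _ _
    ((-(LinearMap.applyₗ (R := k) (𝟙 (S.functor.obj X)) ∘ₗ (c X _).toLinearMap)) ∘ₗ sh.symm.toLinearMap)
  refine ⟨η, fun g => ?_⟩
  rw [hη, show g⟦(1 : ℤ)⟧' = sh g from rfl]
  simp

end

section
variable {T : Type u} [Category.{v} T]

lemma exists_shift_iso [HasShift T ℤ] (Y : T) : ∃ Y' : T, Nonempty (Y ≅ Y'⟦(1 : ℤ)⟧) :=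
  ⟨_, ⟨((shiftFunctor T (1 : ℤ)).objObjPreimageIso Y).symm⟩⟩

end


open CategoryTheory.Limits CategoryTheory.Pretriangulated in
/-- Let k be a field and T a k-linear triangulated category with dim_k Hom(X, Y) < ∞ for all X, Y, and
let (S, c) be a Serre functor: a k-linear equivalence T ⥤ T with k-linear isomorphisms c_{X,Y} :
Hom(X, Y) ≅ Hom(Y, S X)^∨ natural in X and Y. Then S is an exact functor of triangulated categories:
there is an isomorphism of functors S ∘ ⟦1⟧ ≅ ⟦1⟧ ∘ S such that for every distinguished triangle (A,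
B, C, f, g, h) the triangle (S A, S B, S C, S f, S g, S h followed by that isomorphism at A) is
distinguished. -/
theorem result
    {k : Type w} [Field k]
    {T : Type u} [Category.{v} T] [Preadditive T] [Linear k T] [HasZeroObject T] [HasShift T ℤ]
    [∀ n : ℤ, (shiftFunctor T n).Additive] [∀ n : ℤ, (shiftFunctor T n).Linear k] [Pretriangulated T]
    [IsTriangulated T] [∀ X Y : T, Module.Finite k (X ⟶ Y)]
    (S : T ≌ T) [S.functor.Additive] [S.functor.Linear k]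
    (c : ∀ X Y : T, (X ⟶ Y) ≃ₗ[k] Module.Dual k (Y ⟶ S.functor.obj X))
    (hc₁ : ∀ (X Y Y' : T) (f : X ⟶ Y) (g : Y ⟶ Y'),
      c X Y' (f ≫ g) = (c X Y f) ∘ₗ Linear.leftComp k (S.functor.obj X) g)
    (hc₂ : ∀ (X' X Y : T) (a : X' ⟶ X) (f : X ⟶ Y),
      c X' Y (a ≫ f) = (c X Y f) ∘ₗ Linear.rightComp k Y (S.functor.map a)) :
    ∃ e : shiftFunctor T (1 : ℤ) ⋙ S.functor ≅ S.functor ⋙ shiftFunctor T (1 : ℤ),
      ∀ T' ∈ distTriang T,
        Triangle.mk (S.functor.map T'.mor₁) (S.functor.map T'.mor₂)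
          (S.functor.map T'.mor₃ ≫ e.hom.app T'.obj₁) ∈ distTriang T := by
  classical
  choose η hη using exists_eta S c
  have hc₁' : ∀ {X Y Y' : T} (f : X ⟶ Y) (g : Y ⟶ Y') (z : Y' ⟶ S.functor.obj X),
      c X Y' (f ≫ g) z = c X Y f (g ≫ z) := fun f g z => by rw [hc₁]; rfl
  have hc₂' : ∀ {X' X Y : T} (a : X' ⟶ X) (f : X ⟶ Y) (z : Y ⟶ S.functor.obj X'),
      c X' Y (a ≫ f) z = c X Y f (z ≫ S.functor.map a) := fun a f z => by rw [hc₂]; rfl
  have hcyc : ∀ {X Y : T} (a : X ⟶ Y) (v : Y ⟶ S.functor.obj X),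
      c _ _ (a ≫ v) (𝟙 _) = c _ _ (v ≫ S.functor.map a) (𝟙 _) := fun a v => by
    rw [hc₂', hc₁', Category.id_comp, Category.comp_id]
  have hiso : ∀ X, IsIso (η X) := by
    intro X
    have bij : ∀ (Y Y' : T) (e : Y ≅ Y'⟦(1 : ℤ)⟧), Function.Bijective
        (fun t : Y ⟶ (S.functor.obj X)⟦(1 : ℤ)⟧ => t ≫ η X) := by
      intro Y Y' e
      have key : ∀ (t' : Y' ⟶ S.functor.obj X) (f' : X ⟶ Y'),
          c _ _ (f'⟦(1 : ℤ)⟧' ≫ e.inv) (e.hom ≫ t'⟦(1 : ℤ)⟧' ≫ η X) = - c _ _ f' t' := by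
        intro t' f'
        rw [← hc₁', Category.assoc, e.inv_hom_id, Category.comp_id, ← hc₁', ← Functor.map_comp, hη,
          hc₁', Category.comp_id]
      have hsurj : ∀ f : X⟦(1 : ℤ)⟧ ⟶ Y, ∃ f' : X ⟶ Y', f = f'⟦(1 : ℤ)⟧' ≫ e.inv := by
        intro f
        obtain ⟨f', hf'⟩ := (shiftFunctor T (1 : ℤ)).map_surjective (f ≫ e.hom)
        exact ⟨f', by simp [hf']⟩
      have hsurj' : ∀ t : Y ⟶ (S.functor.obj X)⟦(1 : ℤ)⟧, ∃ t' : Y' ⟶ S.functor.obj X,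
          t = e.hom ≫ t'⟦(1 : ℤ)⟧' := by
        intro t
        obtain ⟨t', ht'⟩ := (shiftFunctor T (1 : ℤ)).map_surjective (e.inv ≫ t)
        exact ⟨t', by simp [ht']⟩
      refine ⟨fun t₁ t₂ h => ?_, fun z => ?_⟩
      · obtain ⟨a₁, rfl⟩ := hsurj' t₁
        obtain ⟨a₂, rfl⟩ := hsurj' t₂
        have : a₁ = a₂ := ext_eq S c fun f' => by
          rw [← neg_inj, ← key, ← key]
          simp only [Category.assoc] at h
          rw [h]
        rw [this]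
      · let ψ : Module.Dual k (X ⟶ Y') :=
          (-(LinearMap.applyₗ (R := k) z ∘ₗ (c _ Y).toLinearMap)) ∘ₗ
            (Linear.rightComp k _ e.inv ∘ₗ (shiftFunctor T (1 : ℤ)).mapLinearMap k)
        obtain ⟨t', ht'⟩ := exists_eq S c X Y' ψ
        refine ⟨e.hom ≫ t'⟦(1 : ℤ)⟧', ext_eq S c fun f => ?_⟩
        obtain ⟨f', rfl⟩ := hsurj f
        simp only [Category.assoc]
        rw [key, ht']
        simp [ψ]
    obtain ⟨Y', ⟨e⟩⟩ := exists_shift_iso (S.functor.obj (X⟦(1 : ℤ)⟧))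
    obtain ⟨t, ht⟩ := (bij _ _ e).2 (𝟙 _)
    simp only at ht
    refine ⟨t, (bij _ _ (Iso.refl _)).1 ?_, ht⟩
    simp only [Category.assoc, ht, Category.comp_id, Category.id_comp]
  have hnat : ∀ {X X' : T} (a : X ⟶ X'),
      η X ≫ S.functor.map (a⟦(1 : ℤ)⟧') = (S.functor.map a)⟦(1 : ℤ)⟧' ≫ η X' := by
    intro X X' a
    refine ext_eq S c fun f => ?_
    obtain ⟨g, rfl⟩ := (shiftFunctor T (1 : ℤ)).map_surjective f
    rw [← hc₂', ← Functor.map_comp, hη, ← hc₁', ← Functor.map_comp, hη, hcyc a g]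
  let eI : ∀ X, S.functor.obj (X⟦(1 : ℤ)⟧) ≅ (S.functor.obj X)⟦(1 : ℤ)⟧ :=
    fun X => (@asIso _ _ _ _ (η X) (hiso X)).symm
  have heη : ∀ X, (eI X).hom ≫ η X = 𝟙 _ := fun X => (eI X).hom_inv_id
  have hηe : ∀ X, η X ≫ (eI X).hom = 𝟙 _ := fun X => (eI X).inv_hom_id
  refine ⟨NatIso.ofComponents eI fun {X X'} a => ?_, fun T' hT' => ?_⟩
  · change S.functor.map (a⟦(1 : ℤ)⟧') ≫ (eI X').hom = (eI X).hom ≫ (S.functor.map a)⟦(1 : ℤ)⟧'
    have := hiso X
    rw [← cancel_epi (η X), reassoc_of% hnat a, hηe, Category.comp_id, reassoc_of% hηe X]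
  obtain ⟨A, B, C, m, g, h, rfl⟩ : ∃ (A B C : T) (m : A ⟶ B) (g : B ⟶ C) (h : C ⟶ A⟦(1 : ℤ)⟧),
      T' = Triangle.mk m g h := ⟨_, _, _, T'.mor₁, T'.mor₂, T'.mor₃, rfl⟩
  simp only [NatIso.ofComponents_hom_app]
  change Triangle.mk (S.functor.map m) (S.functor.map g) (S.functor.map h ≫ (eI A).hom) ∈ distTriang T
  obtain ⟨C₀, b, c₀, hT₀⟩ := distinguished_cocone_triangle (S.functor.map m)
  have hrot := rot_of_distTriang _ hT'
  have hgh : g ≫ h = 0 := comp_distTriang_mor_zero₂₃ _ hT'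
  have hmg : m ≫ g = 0 := comp_distTriang_mor_zero₁₂ _ hT'
  have hab : S.functor.map m ≫ b = 0 := comp_distTriang_mor_zero₁₂ _ hT₀
  have hca : c₀ ≫ (S.functor.map m)⟦(1 : ℤ)⟧' = 0 := comp_distTriang_mor_zero₃₁ _ hT₀
  let Φ : ((C ⟶ S.functor.obj B) × (A⟦(1 : ℤ)⟧ ⟶ C₀)) →ₗ[k] (C ⟶ C₀) :=
    (Linear.rightComp k C b).coprod (Linear.leftComp k C₀ h)
  let ψ : Module.Dual k ((C ⟶ S.functor.obj B) × (A⟦(1 : ℤ)⟧ ⟶ C₀)) :=
    (LinearMap.applyₗ (R := k) (S.functor.map g) ∘ₗ (c C _).toLinearMap).coprod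
      (LinearMap.applyₗ (R := k) (c₀ ≫ η A) ∘ₗ (c _ C₀).toLinearMap)
  have hψ : ψ ∈ (LinearMap.ker Φ).dualAnnihilator := by
    rw [Submodule.mem_dualAnnihilator]
    rintro ⟨f, u⟩ hfu
    rw [LinearMap.mem_ker] at hfu
    change f ≫ b + h ≫ u = 0 at hfu
    change c _ _ f (S.functor.map g) + c _ _ u (c₀ ≫ η A) = 0
    obtain ⟨v, hv⟩ : ∃ v : B ⟶ S.functor.obj A, g ≫ f = v ≫ S.functor.map m :=
      Triangle.coyoneda_exact₂ _ hT₀ (g ≫ f) (by
      change (g ≫ f) ≫ b = 0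
      rw [Category.assoc, eq_neg_of_add_eq_zero_left hfu, Preadditive.comp_neg, reassoc_of% hgh,
        zero_comp, neg_zero])
    obtain ⟨w, hw₂, hw₃⟩ : ∃ w : A⟦(1 : ℤ)⟧ ⟶ C₀, h ≫ w = f ≫ b ∧
        (-(m⟦(1 : ℤ)⟧')) ≫ v⟦(1 : ℤ)⟧' = w ≫ c₀ :=
      complete_distinguished_triangle_morphism _ _ hrot hT₀ v f hv
    obtain ⟨r, hr⟩ := Triangle.yoneda_exact₃ _ hrot (u + w) (by
      change h ≫ (u + w) = 0
      rw [Preadditive.comp_add, hw₂, add_comm]; exact hfu)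
    change B⟦(1 : ℤ)⟧ ⟶ C₀ at r
    change u + w = (-(m⟦(1 : ℤ)⟧')) ≫ r at hr
    obtain ⟨s, hs⟩ := (shiftFunctor T (1 : ℤ)).map_surjective (r ≫ c₀)
    have hs0 : s ≫ S.functor.map m = 0 := (shiftFunctor T (1 : ℤ)).map_injective (by
      rw [Functor.map_comp, hs, Category.assoc, hca, comp_zero, Functor.map_zero])
    have huc : u ≫ c₀ = (m ≫ v - m ≫ s)⟦(1 : ℤ)⟧' := by
      rw [eq_sub_of_add_eq hr, Preadditive.sub_comp, ← hw₃, Category.assoc, ← hs, Functor.map_sub,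
        Functor.map_comp, Functor.map_comp, Preadditive.neg_comp, Preadditive.neg_comp]
      abel
    rw [← hc₁', huc, hη, map_sub, LinearMap.sub_apply, hcyc m v, hcyc m s, hs0, map_zero,
      LinearMap.zero_apply, sub_zero, ← hv, hc₂', Category.id_comp, add_neg_cancel]
  rw [← LinearMap.range_dualMap_eq_dualAnnihilator_ker] at hψ
  obtain ⟨L, hL⟩ := hψ
  obtain ⟨ξ, hξ⟩ := exists_eq S c C C₀ L
  have hbξ : b ≫ ξ = S.functor.map g := ext_eq S c fun f => by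
    have := LinearMap.congr_fun hL (f, 0)
    rw [← hc₁', hξ]
    simpa [Φ, ψ] using this
  have hξh : ξ ≫ S.functor.map h = c₀ ≫ η A := ext_eq S c fun u => by
    have := LinearMap.congr_fun hL (0, u)
    rw [← hc₂', hξ]
    simpa [Φ, ψ] using this
  have hξh' : ξ ≫ S.functor.map h ≫ (eI A).hom = c₀ := by
    rw [reassoc_of% hξh, hηe, Category.comp_id]
  -- exactness of the image triangle
  have hex₂ : ∀ {Y : T} (y : Y ⟶ S.functor.obj B), y ≫ S.functor.map g = 0 →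
      ∃ r, y = r ≫ S.functor.map m := by
    intro Y y hy
    let i := S.functor.objObjPreimageIso Y
    obtain ⟨y', hy'⟩ := S.functor.map_surjective (i.hom ≫ y)
    obtain ⟨r, hr⟩ : ∃ r : S.functor.objPreimage Y ⟶ A, y' = r ≫ m :=
      Triangle.coyoneda_exact₂ _ hT' y' (S.functor.map_injective (by
        refine (Functor.map_comp _ _ _).trans (Eq.trans ?_ (Functor.map_zero _ _ _).symm)
        exact (congrArg (· ≫ S.functor.map g) hy').trans
          ((Category.assoc _ _ _).trans ((congrArg (i.hom ≫ ·) hy).trans comp_zero))))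
    refine ⟨i.inv ≫ S.functor.map r, ?_⟩
    rw [Category.assoc, ← Functor.map_comp, ← hr, hy', i.inv_hom_id_assoc]
  have hex₃ : ∀ {Y : T} (y : Y ⟶ S.functor.obj C), y ≫ S.functor.map h = 0 →
      ∃ r, y = r ≫ S.functor.map g := by
    intro Y y hy
    let i := S.functor.objObjPreimageIso Y
    obtain ⟨y', hy'⟩ := S.functor.map_surjective (i.hom ≫ y)
    obtain ⟨r, hr⟩ : ∃ r : S.functor.objPreimage Y ⟶ B, y' = r ≫ g :=
      Triangle.coyoneda_exact₃ _ hT' y' (S.functor.map_injective (by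
        refine (Functor.map_comp _ _ _).trans (Eq.trans ?_ (Functor.map_zero _ _ _).symm)
        exact (congrArg (· ≫ S.functor.map h) hy').trans
          ((Category.assoc _ _ _).trans ((congrArg (i.hom ≫ ·) hy).trans comp_zero))))
    refine ⟨i.inv ≫ S.functor.map r, ?_⟩
    rw [Category.assoc, ← Functor.map_comp, ← hr, hy', i.inv_hom_id_assoc]
  have hinj : ∀ {Y : T} (t : Y ⟶ C₀), t ≫ ξ = 0 → t = 0 := by
    intro Y t ht
    have : t ≫ c₀ = 0 := by rw [← hξh', reassoc_of% ht, zero_comp]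
    obtain ⟨s, rfl⟩ := Triangle.coyoneda_exact₃ _ hT₀ t this
    change Y ⟶ S.functor.obj B at s
    obtain ⟨r, rfl⟩ := hex₂ s (by rw [← hbξ]; exact (Category.assoc _ _ _).symm.trans ht)
    change (r ≫ S.functor.map m) ≫ b = 0
    rw [Category.assoc, hab, comp_zero]
  have hsurj : ∀ {Y : T} (y : Y ⟶ S.functor.obj C), ∃ t, t ≫ ξ = y := by
    intro Y y
    have hy : (y ≫ S.functor.map h ≫ (eI A).hom) ≫ (S.functor.map m)⟦(1 : ℤ)⟧' = 0 := by
      have h0 : h ≫ m⟦(1 : ℤ)⟧' = 0 := comp_distTriang_mor_zero₃₁ _ hT'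
      have hn : (eI A).hom ≫ (S.functor.map m)⟦(1 : ℤ)⟧' =
          S.functor.map (m⟦(1 : ℤ)⟧') ≫ (eI B).hom := by
        have := hiso A
        rw [← cancel_epi (η A), reassoc_of% hηe A, reassoc_of% hnat m, hηe, Category.comp_id]
      simp only [Category.assoc]
      rw [hn, ← Functor.map_comp_assoc, h0, Functor.map_zero, zero_comp, comp_zero]
    obtain ⟨t, ht⟩ := Triangle.coyoneda_exact₁ _ hT₀ (y ≫ S.functor.map h ≫ (eI A).hom) hy
    change Y ⟶ C₀ at t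
    change y ≫ S.functor.map h ≫ (eI A).hom = t ≫ c₀ at ht
    obtain ⟨s, hs⟩ := hex₃ (y - t ≫ ξ) (by
      rw [← cancel_mono (eI A).hom, zero_comp, Category.assoc, Preadditive.sub_comp, sub_eq_zero,
        ht, Category.assoc, hξh'])
    refine ⟨t + s ≫ b, ?_⟩
    rw [Preadditive.add_comp, Category.assoc, hbξ, ← hs]
    abel
  obtain ⟨t, ht⟩ := hsurj (𝟙 (S.functor.obj C))
  have : IsIso ξ := ⟨t, sub_eq_zero.1 (hinj _ (by
    rw [Preadditive.sub_comp, Category.assoc, ht, Category.comp_id, Category.id_comp, sub_self])), ht⟩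
  refine isomorphic_distinguished _ hT₀ _ (Triangle.isoMk (Triangle.mk (S.functor.map m) b c₀)
    (Triangle.mk (S.functor.map m) (S.functor.map g) (S.functor.map h ≫ (eI A).hom))
    (Iso.refl _) (Iso.refl _) (@asIso _ _ _ _ ξ this)
    ?_ ?_ ?_).symm
  · exact (Category.comp_id _).trans (Category.id_comp _).symm
  · exact hbξ.trans (Category.id_comp _).symm
  · change c₀ ≫ (𝟙 (S.functor.obj A))⟦(1 : ℤ)⟧' = ξ ≫ S.functor.map h ≫ (eI A).hom
    rw [CategoryTheory.Functor.map_id, Category.comp_id, hξh']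

end Groth.Agent.S6732
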