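import Groth.Statements.S6742
import Groth.Agent.ExtFin7.Derived
import Groth.Agent.ExtFin7.PerfectVanish
import Groth.Agent.PerfGen7.AffineOpen
import Groth.Agent.KFlatLib.Scheme.CohD

set_option autoImplicit false
set_option backward.isDefEq.respectTransparency false
set_option backward.isDefEq.respectTransparency.types false
set_option maxHeartbeats 1000000
universe u
open CategoryTheory AlgebraicGeometry
attribute [local instance] HasDerivedCategory.standard
open DEquiv

namespace Groth.Agent.S6742

/-- Let X be a scheme proper over a field k, let K be an object of D(O_X) which is bounded and has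
coherent cohomology sheaves, and let E be a perfect object of D(O_X). Then the k-vector spaces
Ext^i_X(E, K) = Hom(E, K⟦i⟧) (k-linear structure induced by X → Spec k) are finite-dimensional for
all i ∈ ℤ and nonzero for only finitely many i. -/
theorem result
    (k : Type u) [Field k] (X : Scheme.{u}) [X.Over (Spec (.of k))] [IsProper (X ↘ Spec (.of k))]
    (K : DCoh.D X) (hK : SGA6.cohbP X K) (E : DCoh.D X) (hE : DCoh.IsPerfect E) :
    (∀ i : ℤ, Module.Finite k (E ⟶ (shiftFunctor (DCoh.D X) i).obj K)) ∧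
        Set.Finite {i : ℤ | Nontrivial (E ⟶ (shiftFunctor (DCoh.D X) i).obj K)} := by
  obtain ⟨hKc, a, b, hKa, hKb⟩ := hK
  haveI : IsLocallyNoetherian X := LocallyOfFiniteType.isLocallyNoetherian (X ↘ Spec (CommRingCat.of k))
  haveI : CompactSpace X := QuasiCompact.compactSpace_of_compactSpace (X ↘ Spec (CommRingCat.of k))
  haveI : QuasiSeparatedSpace X := inferInstance
  have hsp := (Groth.Agent.KFlatLib.isPerfect_iff E).1 hE
  have hEq := Groth.Agent.PerfGen7.isQCohD_of_isPerfect hE
  obtain ⟨b', hb'⟩ := Groth.Agent.KFlatLib.exists_bound_of_locPC (hsp.locPC 0)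
  obtain ⟨a', ha'⟩ := Groth.Agent.KFlatLib.exists_lower_bound_of_locSP hsp
  have hEc : DCoh.IsCohD E := fun i => Groth.Agent.KFlatLib.isCoh_of_locPC hEq (hsp.locPC i) i le_rfl
  haveI hE' : E.IsLE b' := (DerivedCategory.isLE_iff E b').2 hb'
  have hsh : ∀ i : ℤ, (K⟦i⟧).IsGE (a - i) := fun i =>
    (DerivedCategory.TStructure.t (C := X.Modules)).isGE_shift K a i (a - i) (by omega)
  refine ⟨fun i => Groth.Agent.ExtFin7.finite_hom hEc b' hE' (Groth.Agent.KFlatLib.isCohD_shift hKc i) (a - i)
    (hsh i), ?_⟩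
  obtain ⟨N, hN⟩ := Groth.Agent.ExtFin7.evZero_of_isPerfect
    (Groth.Agent.KFlatLib.isCohD_isQCohD hKc) b hKb hE
  refine (Set.finite_Icc (a - b') N).subset fun i hi => ?_
  simp only [Set.mem_setOf_eq] at hi
  rw [Set.mem_Icc]
  by_contra hc
  have h0 : ∀ φ : E ⟶ (shiftFunctor (DCoh.D X) i).obj K, φ = 0 := by
    by_cases h : N ≤ i
    · exact hN i h
    · exact fun φ => (DerivedCategory.TStructure.t (C := X.Modules)).zero_of_isLE_of_isGE φ b' (a - i)
        (by omega) hE' (hsh i)
  obtain ⟨x, y, hxy⟩ := hi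
  exact hxy ((h0 x).trans (h0 y).symm)

end Groth.Agent.S6742
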