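import Groth.Statements.S6793
import Mathlib
-- import your own Groth.Agent.* helpers here

set_option autoImplicit false
set_option backward.isDefEq.respectTransparency false
set_option backward.isDefEq.respectTransparency.types false
open CategoryTheory CategoryTheory.Limits
universe v u
open SpSeq SpSeq.FilCx

namespace Groth.Agent.S6793

open HomologicalComplex

variable {A : Type u} [Category.{v} A] [Abelian A]

section Gen

variable {X : A}

theorem factors_descend (S : Subobject X) {Z Z' : A} (z : Z ⟶ X) (ρ : Z' ⟶ Z) [Epi ρ]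
    (h : S.Factors (ρ ≫ z)) : S.Factors z := by
  have h1 : z ≫ cokernel.π S.arrow = 0 := by
    rw [← cancel_epi ρ, comp_zero, ← Category.assoc, ← S.factorThru_arrow _ h, Category.assoc,
      cokernel.condition, comp_zero]
  exact (Subobject.factors_iff _ _).2 ⟨Abelian.monoLift _ z h1, Abelian.monoLift_comp _ _ h1⟩

theorem factors_sub (S : Subobject X) {Z : A} {f g : Z ⟶ X} (hf : S.Factors f) (hg : S.Factors g) :
    S.Factors (f - g) :=
  (Subobject.factors_iff _ _).2 ⟨S.factorThru f hf - S.factorThru g hg, by simp⟩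

theorem factors_precomp (S : Subobject X) {Z Z' : A} {f : Z ⟶ X} (g : Z' ⟶ Z) (hf : S.Factors f) :
    S.Factors (g ≫ f) :=
  Subobject.factors_of_factors_right g hf

theorem factors_arrow (S : Subobject X) {Z : A} (g : Z ⟶ (S : A)) : S.Factors (g ≫ S.arrow) :=
  (Subobject.factors_iff _ _).2 ⟨g, rfl⟩

theorem exists_of_factors_image {W Z : A} (g : W ⟶ X) (z : Z ⟶ X) (h : (imageSubobject g).Factors z) :
    ∃ (Z' : A) (ρ : Z' ⟶ Z) (_ : Epi ρ) (w : Z' ⟶ W), ρ ≫ z = w ≫ g := by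
  obtain ⟨Z', ρ, hρ, w, hw⟩ :=
    surjective_up_to_refinements_of_epi (factorThruImageSubobject g) ((imageSubobject g).factorThru z h)
  refine ⟨Z', ρ, hρ, w, ?_⟩
  rw [← imageSubobject_arrow_comp g, ← reassoc_of% hw, Subobject.factorThru_arrow]

theorem factors_image {W Z : A} (g : W ⟶ X) (w : Z ⟶ W) : (imageSubobject g).Factors (w ≫ g) :=
  imageSubobject_factors_comp_self _ w

theorem exists_of_factors_sup (S T : Subobject X) {Z : A} (z : Z ⟶ X) (h : (S ⊔ T).Factors z) :
    ∃ (Z' : A) (ρ : Z' ⟶ Z) (_ : Epi ρ) (a b : Z' ⟶ X), S.Factors a ∧ T.Factors b ∧ ρ ≫ z = a + b := by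
  have hle : S ⊔ T ≤ imageSubobject (biprod.desc S.arrow T.arrow) :=
    sup_le (Subobject.le_of_comm ((imageSubobject _).factorThru _ (factors_image _ biprod.inl)) (by simp))
      (Subobject.le_of_comm ((imageSubobject _).factorThru _ (factors_image _ biprod.inr)) (by simp))
  obtain ⟨Z', ρ, hρ, w, hw⟩ := exists_of_factors_image _ z (Subobject.factors_of_le z hle h)
  refine ⟨Z', ρ, hρ, (w ≫ biprod.fst) ≫ S.arrow, (w ≫ biprod.snd) ≫ T.arrow, factors_arrow _ _, factors_arrow _ _, ?_⟩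
  rw [hw, biprod.desc_eq, Preadditive.comp_add, Category.assoc, Category.assoc]

/-- The class in a subquotient. -/
noncomputable def cls (Z B : Subobject X) (h : B ≤ Z) {W : A} (z : W ⟶ X) (hz : Z.Factors z) :
    W ⟶ subquot Z B h :=
  Z.factorThru z hz ≫ cokernel.π (B.ofLE Z h)

theorem cls_eq_zero_iff (Z B : Subobject X) (h : B ≤ Z) {W : A} (z : W ⟶ X) (hz : Z.Factors z) :
    cls Z B h z hz = 0 ↔ B.Factors z := by
  constructor
  · intro hc
    have hc' : Z.factorThru z hz ≫ cokernel.π (B.ofLE Z h) = 0 := hc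
    refine (Subobject.factors_iff _ _).2 ⟨Abelian.monoLift (B.ofLE Z h) _ hc', ?_⟩
    show Abelian.monoLift (B.ofLE Z h) _ hc' ≫ B.arrow = z
    conv_lhs => rw [← Subobject.ofLE_arrow h, ← Category.assoc, Abelian.monoLift_comp, Subobject.factorThru_arrow]
  · intro hb
    have e : Z.factorThru z hz = B.factorThru z hb ≫ B.ofLE Z h := by
      rw [← cancel_mono Z.arrow]; simp
    show Z.factorThru z hz ≫ cokernel.π (B.ofLE Z h) = 0
    rw [e, Category.assoc, cokernel.condition, comp_zero]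

theorem comp_cls (Z B : Subobject X) (h : B ≤ Z) {W W' : A} (g : W' ⟶ W) (z : W ⟶ X) (hz : Z.Factors z) :
    g ≫ cls Z B h z hz = cls Z B h (g ≫ z) (factors_precomp Z g hz) := by
  rw [cls, cls, ← Category.assoc]
  congr 1
  rw [← cancel_mono Z.arrow]
  simp

theorem cls_congr (Z B : Subobject X) (h : B ≤ Z) {W : A} {z z' : W ⟶ X} (e : z = z') (hz : Z.Factors z) :
    cls Z B h z hz = cls Z B h z' (e ▸ hz) := by
  subst e; rfl

theorem cls_sub (Z B : Subobject X) (h : B ≤ Z) {W : A} (z z' : W ⟶ X) (hz : Z.Factors z) (hz' : Z.Factors z') :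
    cls Z B h z hz - cls Z B h z' hz' = cls Z B h (z - z') (factors_sub Z hz hz') := by
  rw [cls, cls, cls, ← Preadditive.sub_comp]
  congr 1
  rw [← cancel_mono Z.arrow]
  simp

theorem cls_eq_iff (Z B : Subobject X) (h : B ≤ Z) {W : A} (z z' : W ⟶ X) (hz : Z.Factors z) (hz' : Z.Factors z') :
    cls Z B h z hz = cls Z B h z' hz' ↔ B.Factors (z - z') := by
  rw [← sub_eq_zero, cls_sub, cls_eq_zero_iff]

theorem exists_cls (Z B : Subobject X) (h : B ≤ Z) {W : A} (e : W ⟶ subquot Z B h) :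
    ∃ (W' : A) (ρ : W' ⟶ W) (_ : Epi ρ) (z : W' ⟶ X) (hz : Z.Factors z), ρ ≫ e = cls Z B h z hz := by
  obtain ⟨W', ρ, hρ, w, hw⟩ := surjective_up_to_refinements_of_epi (cokernel.π (B.ofLE Z h)) e
  refine ⟨W', ρ, hρ, w ≫ Z.arrow, factors_arrow _ _, hw.trans ?_⟩
  rw [cls]
  congr 1
  rw [← cancel_mono Z.arrow]
  simp

/-- Two quotients with the same kernel. -/
theorem nonempty_iso {S Q Q' : A} (f : S ⟶ Q) (g : S ⟶ Q') [Epi f] [Epi g]
    (h : ∀ {W : A} (z : W ⟶ S), z ≫ f = 0 ↔ z ≫ g = 0) : Nonempty (Q ≅ Q') :=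
  ⟨{ hom := Abelian.epiDesc f g ((h _).1 (kernel.condition f))
     inv := Abelian.epiDesc g f ((h _).2 (kernel.condition g))
     hom_inv_id := by
       rw [← cancel_epi f, ← Category.assoc, Abelian.comp_epiDesc, Abelian.comp_epiDesc, Category.comp_id]
     inv_hom_id := by
       rw [← cancel_epi g, ← Category.assoc, Abelian.comp_epiDesc, Abelian.comp_epiDesc, Category.comp_id] }⟩

end Gen

variable (K : SpSeq.FilCx A)

/-- The elements of `F^p` whose differential lies in `F^q`. -/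
noncomputable def AS (p q n m : ℤ) : Subobject (K.obj.X n) :=
  K.filX p n ⊓ (Subobject.pullback (K.obj.d n m)).obj (K.filX q m)

theorem AS_iff {p q n m : ℤ} {W : A} (z : W ⟶ K.obj.X n) :
    (AS K p q n m).Factors z ↔ (K.filX p n).Factors z ∧ (K.filX q m).Factors (z ≫ K.obj.d n m) := by
  rw [AS, Subobject.inf_factors, pullback_factors_iff]

theorem AS_le_Z {r : ℕ} {p q n m : ℤ} (hq : p + r ≤ q) (hm : n + 1 = m) : AS K p q n m ≤ K.ZSub r p n := by
  subst hm
  exact (inf_le_inf_left _ ((Subobject.pullback _).monotone (K.filX_anti _ hq))).trans le_sup_left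

theorem BSub_iff {r : ℕ} {p n l k : ℤ} (hl : p - r + 1 = l) (hk : k + 1 = n) {W : A} (z : W ⟶ K.obj.X n)
    (hz : (K.filX p n).Factors z) :
    (K.BSub r p n).Factors z ↔ ∃ (W' : A) (ρ : W' ⟶ W) (_ : Epi ρ) (w : W' ⟶ K.obj.X k) (y : W' ⟶ K.obj.X n),
      (K.filX l k).Factors w ∧ (K.filX (p + 1) n).Factors y ∧ ρ ≫ z = w ≫ K.obj.d k n + y := by
  obtain rfl : k = n - 1 := by omega
  subst hl
  constructor
  · intro h
    obtain ⟨W₁, ρ, hρ, a, b, ha, hb, hab⟩ := exists_of_factors_sup _ _ z h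
    obtain ⟨W₂, σ, hσ, w, hw⟩ := exists_of_factors_image _ a ((Subobject.inf_factors _).1 ha).2
    refine ⟨W₂, σ ≫ ρ, inferInstance, w ≫ (K.filX (p - r + 1) (n - 1)).arrow, σ ≫ b, factors_arrow _ _,
      factors_precomp _ _ hb, ?_⟩
    rw [Category.assoc, hab, Preadditive.comp_add, hw, Category.assoc]
  · rintro ⟨W', ρ, hρ, w, y, hw, hy, e⟩
    refine factors_descend _ z ρ ?_
    rw [e]
    refine Subobject.factors_add _ _ ?_ (Subobject.factors_of_le _ le_sup_right hy)
    refine Subobject.factors_of_le _ le_sup_left ((Subobject.inf_factors _).2 ⟨?_, ?_⟩)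
    · rw [← sub_eq_iff_eq_add.2 e]
      exact factors_sub _ (factors_precomp _ _ hz)
        (Subobject.factors_of_le _ (K.filX_anti n (by omega)) hy)
    · rw [← (K.filX (p - r + 1) (n - 1)).factorThru_arrow w hw, Category.assoc]
      exact factors_image _ _

theorem filX_succ_le_B (r : ℕ) (p n : ℤ) : K.filX (p + 1) n ≤ K.BSub r p n := le_sup_right

/-- The projection onto a term of the spectral sequence. -/
noncomputable def φ (r : ℕ) (p q n m : ℤ) (hq : p + r ≤ q) (hm : n + 1 = m) :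
    ((AS K p q n m : Subobject _) : A) ⟶ K.E r p n :=
  cls _ _ (K.BSub_le_ZSub r p n) (AS K p q n m).arrow
    (Subobject.factors_of_le _ (AS_le_Z K hq hm) ((Subobject.factors_iff _ _).2 ⟨𝟙 _, by simp⟩))

theorem comp_φ (r : ℕ) (p q n m : ℤ) (hq : p + r ≤ q) (hm : n + 1 = m) {W : A} (g : W ⟶ (AS K p q n m : A)) :
    g ≫ φ K r p q n m hq hm = cls _ _ (K.BSub_le_ZSub r p n) (g ≫ (AS K p q n m).arrow)
      (Subobject.factors_of_le _ (AS_le_Z K hq hm) (factors_arrow _ g)) := comp_cls _ _ _ _ _ _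

theorem comp_φ_eq_zero_iff (r : ℕ) (p q n m : ℤ) (hq : p + r ≤ q) (hm : n + 1 = m) {W : A}
    (g : W ⟶ (AS K p q n m : A)) :
    g ≫ φ K r p q n m hq hm = 0 ↔ (K.BSub r p n).Factors (g ≫ (AS K p q n m).arrow) := by
  rw [comp_φ, cls_eq_zero_iff]

theorem exists_φ (r : ℕ) (p q n m : ℤ) (hq : p + r = q) (hm : n + 1 = m) {W : A} (e : W ⟶ K.E r p n) :
    ∃ (W' : A) (ρ : W' ⟶ W) (_ : Epi ρ) (g : W' ⟶ (AS K p q n m : A)), ρ ≫ e = g ≫ φ K r p q n m hq.le hm := by
  obtain ⟨W₁, ρ, hρ, z, hz, he⟩ := exists_cls _ _ _ e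
  obtain ⟨W₂, σ, hσ, a, b, ha, hb, hab⟩ := exists_of_factors_sup _ _ z hz
  have ha' : (AS K p q n m).Factors a := by subst hq hm; exact ha
  refine ⟨W₂, σ ≫ ρ, inferInstance, (AS K p q n m).factorThru a ha', ?_⟩
  rw [comp_φ, Category.assoc, he, comp_cls, cls_eq_iff, hab, Subobject.factorThru_arrow, add_sub_cancel_left]
  exact Subobject.factors_of_le _ (filX_succ_le_B K r p n) hb

instance (r : ℕ) (p n : ℤ) : Epi (φ K r p (p + r) n (n + 1) le_rfl rfl) :=
  (epi_iff_surjective_up_to_refinements _).2 fun _ e => exists_φ K r p (p + r) n (n + 1) rfl rfl e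

theorem epi_φ (r : ℕ) (p q n m : ℤ) (hq : p + r = q) (hm : n + 1 = m) : Epi (φ K r p q n m hq.le hm) := by
  subst hq hm; infer_instance

/-- The differential on elements. -/
noncomputable def δ (r : ℕ) (p q n m : ℤ) (hm : n + 1 = m) : ((AS K p q n m : Subobject _) : A) ⟶ K.E r q m :=
  cls _ _ (K.BSub_le_ZSub r q m) ((AS K p q n m).arrow ≫ K.obj.d n m)
    (Subobject.factors_of_le _ (AS_le_Z K le_rfl rfl) ((AS_iff K (q := q + r) (m := m + 1) _).2
      ⟨((AS_iff K _).1 ((Subobject.factors_iff _ _).2 ⟨𝟙 _, by simp⟩)).2, by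
        subst hm; simp [Subobject.factors_zero]⟩))

theorem kernel_φ_δ (r : ℕ) (p q n m : ℤ) (hq : p + r = q) (hm : n + 1 = m) :
    kernel.ι (φ K r p q n m hq.le hm) ≫ δ K r p q n m hm = 0 := by
  have h0 := kernel.condition (φ K r p q n m hq.le hm)
  generalize kernel.ι (φ K r p q n m hq.le hm) = g at h0 ⊢
  have hA := (AS_iff K _).1 (factors_arrow (AS K p q n m) g)
  rw [comp_φ_eq_zero_iff, BSub_iff K (l := p - r + 1) (k := n - 1) rfl (by simp) _ hA.1] at h0
  obtain ⟨W', ρ, hρ, w, y, -, hy, e⟩ := h0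
  rw [← cancel_epi ρ, comp_zero, δ, comp_cls, comp_cls, cls_eq_zero_iff]
  have e' : ρ ≫ g ≫ (AS K p q n m).arrow ≫ K.obj.d n m = y ≫ K.obj.d n m := by
    rw [reassoc_of% e, Preadditive.add_comp, Category.assoc, HomologicalComplex.d_comp_d, comp_zero, zero_add]
  rw [e', BSub_iff K (l := p + 1) (k := n) (by omega) hm _ ?_]
  · exact ⟨W', 𝟙 _, inferInstance, y, 0, hy, Subobject.factors_zero, by simp⟩
  · rw [← e']
    have h2 := factors_precomp _ ρ hA.2
    rwa [Category.assoc] at h2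

/-- The differential of the page `r`. -/
noncomputable def D (r : ℕ) (p q n m : ℤ) (hq : p + r = q) (hm : n + 1 = m) : K.E r p n ⟶ K.E r q m :=
  haveI := epi_φ K r p q n m hq hm
  Abelian.epiDesc (φ K r p q n m hq.le hm) (δ K r p q n m hm) (kernel_φ_δ K r p q n m hq hm)

theorem φ_D (r : ℕ) (p q n m : ℤ) (hq : p + r = q) (hm : n + 1 = m) :
    φ K r p q n m hq.le hm ≫ D K r p q n m hq hm = δ K r p q n m hm := by
  haveI := epi_φ K r p q n m hq hm
  exact Abelian.comp_epiDesc _ _ _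

theorem cls_D (r : ℕ) (p q n m : ℤ) (hq : p + r = q) (hm : n + 1 = m) {W : A} (z : W ⟶ K.obj.X n)
    (hz : (K.filX p n).Factors z) (hzd : (K.filX q m).Factors (z ≫ K.obj.d n m)) :
    cls _ _ (K.BSub_le_ZSub r p n) z (Subobject.factors_of_le _ (AS_le_Z K hq.le hm) ((AS_iff K _).2 ⟨hz, hzd⟩)) ≫
      D K r p q n m hq hm =
    cls _ _ (K.BSub_le_ZSub r q m) (z ≫ K.obj.d n m) (Subobject.factors_of_le _ (AS_le_Z K le_rfl rfl)
      ((AS_iff K (q := q + r) (m := m + 1) _).2 ⟨hzd, by simp [Subobject.factors_zero]⟩)) := by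
  have h1 := (AS K p q n m).factorThru_arrow z ((AS_iff K _).2 ⟨hz, hzd⟩)
  generalize (AS K p q n m).factorThru z ((AS_iff K _).2 ⟨hz, hzd⟩) = g at h1
  subst h1
  rw [← comp_φ K r p q n m hq.le hm g, Category.assoc, φ_D, δ, comp_cls]
  exact cls_congr _ _ _ (Category.assoc _ _ _).symm _

theorem D_D (r : ℕ) (p q s n m k : ℤ) (hq : p + r = q) (hm : n + 1 = m) (hs : q + r = s) (hk : m + 1 = k) :
    D K r p q n m hq hm ≫ D K r q s m k hs hk = 0 := by
  haveI := epi_φ K r p q n m hq hm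
  have h1 := (AS_iff K _).1 ((Subobject.factors_iff (AS K p q n m) (AS K p q n m).arrow).2 ⟨𝟙 _, by simp⟩)
  rw [← cancel_epi (φ K r p q n m hq.le hm), comp_zero, ← Category.assoc, φ_D, δ,
    cls_D K r q s m k hs hk _ h1.2 (by simp [Subobject.factors_zero]), cls_eq_zero_iff]
  simp [Subobject.factors_zero]

/-- The term `E_{r+1}` is the cohomology of `E_r`. -/
theorem nonempty_iso_succ (r : ℕ) (p n : ℤ) :
    Nonempty (K.E (r + 1) p n ≅ cokernel (kernel.lift (D K r p (p + r) n (n + 1) rfl rfl)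
      (D K r (p - r) p (n - 1) n (by simp) (by simp)) (D_D K r _ _ _ _ _ _ _ _ _ _))) := by
  let Dout := D K r p (p + r) n (n + 1) rfl rfl
  let Din := D K r (p - r) p (n - 1) n (by simp) (by simp)
  let S := AS K p (p + r + 1) n (n + 1)
  have hr1 : p + ((r + 1 : ℕ) : ℤ) = p + r + 1 := by push_cast; ring
  have hS := (AS_iff K _).1 ((Subobject.factors_iff S S.arrow).2 ⟨𝟙 _, by simp⟩)
  haveI := epi_φ K (r + 1) p (p + r + 1) n (n + 1) hr1 rfl
  have h1 : φ K r p (p + r + 1) n (n + 1) (by omega) rfl ≫ Dout = 0 := by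
    have h2 : (K.filX (p + r) (n + 1)).Factors (S.arrow ≫ K.obj.d n (n + 1)) :=
      Subobject.factors_of_le _ (K.filX_anti _ (by omega)) hS.2
    rw [φ, cls_D K r p (p + r) n (n + 1) rfl rfl S.arrow hS.1 h2, cls_eq_zero_iff]
    exact Subobject.factors_of_le _ (filX_succ_le_B K r _ _) hS.2
  let g := kernel.lift Dout _ h1 ≫ cokernel.π (kernel.lift Dout Din (D_D K r _ _ _ _ _ _ _ _ _ _))
  haveI : Epi g := (epi_iff_surjective_up_to_refinements g).2 fun W e => by
    obtain ⟨W₁, ρ₁, hρ₁, e₁, he₁⟩ := surjective_up_to_refinements_of_epi (cokernel.π _) e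
    obtain ⟨W₂, ρ₂, hρ₂, x, hx⟩ := exists_φ K r p (p + r) n (n + 1) rfl rfl (e₁ ≫ kernel.ι Dout)
    have hxA := (AS_iff K _).1 (factors_arrow (AS K p (p + r) n (n + 1)) x)
    have h0 : (x ≫ φ K r p (p + r) n (n + 1) le_rfl rfl) ≫ Dout = 0 := by
      rw [← hx]; simp
    rw [Category.assoc, φ_D, δ, comp_cls, cls_eq_zero_iff,
      BSub_iff K (l := p + 1) (k := n) (by omega) rfl _ (by simpa using hxA.2)] at h0
    obtain ⟨W₃, ρ₃, hρ₃, w, y, hw, hy, hwy⟩ := h0
    have hz : S.Factors (ρ₃ ≫ x ≫ (AS K p (p + r) n (n + 1)).arrow - w) := by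
      rw [AS_iff]
      refine ⟨factors_sub _ (factors_precomp _ _ hxA.1) (Subobject.factors_of_le _ (K.filX_anti n (by omega)) hw), ?_⟩
      rw [Preadditive.sub_comp, Category.assoc, Category.assoc, hwy, add_sub_cancel_left]
      exact hy
    refine ⟨W₃, ρ₃ ≫ ρ₂ ≫ ρ₁, inferInstance, S.factorThru _ hz, ?_⟩
    have he : ρ₃ ≫ ρ₂ ≫ e₁ = S.factorThru _ hz ≫ kernel.lift Dout _ h1 := by
      rw [← cancel_mono (kernel.ι Dout), Category.assoc, Category.assoc, Category.assoc, kernel.lift_ι, hx,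
        comp_φ, comp_φ, comp_cls, cls_eq_iff, Subobject.factorThru_arrow, sub_sub_cancel]
      exact Subobject.factors_of_le _ (filX_succ_le_B K r p n) hw
    rw [Category.assoc, Category.assoc, he₁, reassoc_of% he]
  refine nonempty_iso (φ K (r + 1) p (p + r + 1) n (n + 1) hr1.le rfl) g fun {W} z => ?_
  have hzA := (AS_iff K _).1 (factors_arrow S z)
  rw [comp_φ_eq_zero_iff, BSub_iff K (l := p - r) (k := n - 1) (by omega) (by simp) _ hzA.1]
  constructor
  · rintro ⟨W', ρ, hρ, w, y, hw, hy, e⟩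
    have hwd : (K.filX p n).Factors (w ≫ K.obj.d (n - 1) n) := by
      rw [← sub_eq_iff_eq_add.2 e]
      exact factors_sub _ (factors_precomp _ _ hzA.1) (Subobject.factors_of_le _ (K.filX_anti n (by omega)) hy)
    have h3 : ρ ≫ z ≫ kernel.lift Dout _ h1 = cls _ _ (K.BSub_le_ZSub r (p - r) (n - 1)) w
        (Subobject.factors_of_le _ (AS_le_Z K (q := p) (m := n) (by omega) (by omega)) ((AS_iff K _).2 ⟨hw, hwd⟩)) ≫
        kernel.lift Dout Din (D_D K r _ _ _ _ _ _ _ _ _ _) := by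
      rw [← cancel_mono (kernel.ι Dout), Category.assoc, Category.assoc, Category.assoc, kernel.lift_ι,
        kernel.lift_ι, cls_D K r (p - r) p (n - 1) n (by omega) (by omega) w hw hwd, comp_φ, comp_cls, cls_eq_iff,
        e, add_sub_cancel_left]
      exact Subobject.factors_of_le _ (filX_succ_le_B K r p n) hy
    rw [← cancel_epi ρ, comp_zero, reassoc_of% h3, cokernel.condition, comp_zero]
  · intro h0
    obtain ⟨W₁, ρ₁, hρ₁, e, he⟩ := (ShortComplex.exact_of_g_is_cokernel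
      (ShortComplex.mk _ _ (cokernel.condition (kernel.lift Dout Din (D_D K r _ _ _ _ _ _ _ _ _ _))))
      (cokernelIsCokernel _)).exact_up_to_refinements (z ≫ kernel.lift Dout _ h1) (by simpa [g] using h0)
    obtain ⟨W₂, ρ₂, hρ₂, a, ha⟩ := exists_φ K r (p - r) p (n - 1) n (by omega) (by omega) e
    have haA := (AS_iff K _).1 (factors_arrow (AS K (p - r) p (n - 1) n) a)
    have h4 : ρ₂ ≫ ρ₁ ≫ z ≫ φ K r p (p + r + 1) n (n + 1) (by omega) rfl = (ρ₂ ≫ e) ≫ Din := by
      have he' := he =≫ kernel.ι Dout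
      simp only [Category.assoc, kernel.lift_ι] at he'
      rw [he', Category.assoc]
    rw [ha, Category.assoc, φ_D, δ, comp_cls, comp_φ, comp_cls, comp_cls, cls_eq_iff,
      BSub_iff K (l := p - r + 1) (k := n - 1) rfl (by simp) _ ?_] at h4
    · obtain ⟨W₃, ρ₃, hρ₃, u, y, hu, hy, e'⟩ := h4
      refine ⟨W₃, ρ₃ ≫ ρ₂ ≫ ρ₁, inferInstance, ρ₃ ≫ a ≫ (AS K (p - r) p (n - 1) n).arrow + u, y,
        Subobject.factors_add _ _ (factors_precomp _ _ haA.1)
          (Subobject.factors_of_le _ (K.filX_anti _ (by omega)) hu), hy, ?_⟩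
      rw [Preadditive.comp_sub, sub_eq_iff_eq_add] at e'
      simp only [Category.assoc, Preadditive.add_comp] at e' ⊢
      rw [e']
      abel
    · exact factors_sub _ (factors_precomp _ _ (factors_precomp _ _ hzA.1)) (by simpa using haA.2)

theorem mono_cyc {p m k : ℤ} {Z : A} (y : Z ⟶ (K.step p).X m) (h : (y ≫ (K.fil p).arrow.f m) ≫ K.obj.d m k = 0) :
    y ≫ (K.step p).d m k = 0 := by
  rw [← cancel_mono ((K.fil p).arrow.f k), zero_comp, Category.assoc, ← (K.fil p).arrow.comm, ← Category.assoc, h]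

/-- The limit term is the graded piece of cohomology. -/
theorem nonempty_iso_gr (R : ℕ) (p n : ℤ) (hb : K.filX (p + R) (n + 1) = ⊥) (ha : K.filX (p - R + 1) (n - 1) = ⊤) :
    Nonempty (K.E R p n ≅ grPiece (fun i => K.filH i n) (K.filH_anti n) p) := by
  let S := AS K p (p + R) n (n + 1)
  have hS := (AS_iff K _).1 ((Subobject.factors_iff S S.arrow).2 ⟨𝟙 _, by simp⟩)
  have hSd : S.arrow ≫ K.obj.d n (n + 1) = 0 := by
    have h2 := hS.2
    rw [hb, Subobject.bot_factors_iff_zero] at h2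
    exact h2
  obtain ⟨x, hx⟩ : ∃ x : (S : A) ⟶ (K.step p).X n, x ≫ (K.fil p).arrow.f n = S.arrow :=
    (Subobject.mk_factors_iff _ _).1 hS.1
  have hxd : x ≫ (K.step p).d n (n + 1) = 0 := mono_cyc K x (by rw [hx]; exact hSd)
  let c : (S : A) ⟶ K.obj.homology n := K.obj.liftCycles S.arrow (n + 1) (by simp) hSd ≫ K.obj.homologyπ n
  have hc : c = ((K.step p).liftCycles x (n + 1) (by simp) hxd ≫ (K.step p).homologyπ n) ≫
      HomologicalComplex.homologyMap (K.fil p).arrow n := by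
    rw [Category.assoc, HomologicalComplex.homologyπ_naturality, HomologicalComplex.liftCycles_comp_cyclesMap_assoc]
    simp only [c]
    congr 1
    rw [← cancel_mono (K.obj.iCycles n)]
    simp [hx]
  have hcF : (K.filH p n).Factors c := by rw [hc]; exact factors_image _ _
  let g := cls (K.filH p n) (K.filH (p + 1) n) (K.filH_anti n (by omega)) c hcF
  haveI : Epi g := (epi_iff_surjective_up_to_refinements g).2 fun W e => by
    obtain ⟨W₁, ρ₁, hρ₁, h, hh, he⟩ := exists_cls _ _ _ e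
    obtain ⟨W₂, ρ₂, hρ₂, w, hw⟩ := exists_of_factors_image _ h hh
    obtain ⟨W₃, ρ₃, hρ₃, z, hz, hz'⟩ :=
      (K.step p).eq_liftCycles_homologyπ_up_to_refinements w (n + 1) (by simp)
    have hzS : S.Factors (z ≫ (K.fil p).arrow.f n) := (AS_iff K _).2 ⟨(Subobject.mk_factors_iff _ _).2 ⟨z, rfl⟩,
      by rw [Category.assoc, (K.fil p).arrow.comm, reassoc_of% hz, zero_comp]; exact Subobject.factors_zero⟩
    refine ⟨W₃, ρ₃ ≫ ρ₂ ≫ ρ₁, inferInstance, S.factorThru _ hzS, ?_⟩
    rw [Category.assoc, Category.assoc, he, comp_cls, comp_cls, comp_cls]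
    refine cls_congr _ _ _ ?_ _
    rw [hw, reassoc_of% hz', hc]
    simp only [Category.assoc]
    rw [← Category.assoc (S.factorThru _ _)]
    congr 1
    rw [← cancel_mono ((K.step p).iCycles n), ← cancel_mono ((K.fil p).arrow.f n)]
    simp [hx]
  haveI := epi_φ K R p (p + R) n (n + 1) rfl rfl
  refine nonempty_iso (φ K R p (p + R) n (n + 1) le_rfl rfl) g fun {W} z => ?_
  have hzA := (AS_iff K _).1 (factors_arrow S z)
  have hzd : (z ≫ S.arrow) ≫ K.obj.d n (n + 1) = 0 := by rw [Category.assoc, hSd, comp_zero]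
  have hzc : z ≫ c = K.obj.liftCycles (z ≫ S.arrow) (n + 1) (by simp) hzd ≫ K.obj.homologyπ n := by
    simp [c, HomologicalComplex.comp_liftCycles_assoc]
  rw [comp_φ_eq_zero_iff, BSub_iff K (l := p - R + 1) (k := n - 1) rfl (by simp) _ hzA.1, comp_cls, cls_eq_zero_iff]
  constructor
  · rintro ⟨W', ρ, hρ, w, y, -, hy, e⟩
    obtain ⟨y', hy'⟩ : ∃ y' : W' ⟶ (K.step (p + 1)).X n, y' ≫ (K.fil (p + 1)).arrow.f n = y :=
      (Subobject.mk_factors_iff _ _).1 hy
    have hyd : y ≫ K.obj.d n (n + 1) = 0 := by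
      have := e =≫ K.obj.d n (n + 1)
      simpa [hSd] using this.symm
    refine factors_descend _ _ ρ ?_
    have h5 : ρ ≫ z ≫ c = ((K.step (p + 1)).liftCycles y' (n + 1) (by simp) (mono_cyc K y' (by rw [hy']; exact hyd)) ≫
        (K.step (p + 1)).homologyπ n) ≫ HomologicalComplex.homologyMap (K.fil (p + 1)).arrow n := by
      rw [Category.assoc, HomologicalComplex.homologyπ_naturality, HomologicalComplex.liftCycles_comp_cyclesMap_assoc,
        hzc, HomologicalComplex.comp_liftCycles_assoc,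
        HomologicalComplex.liftCycles_comp_homologyπ_eq_iff_up_to_refinements (K := K.obj) (n - 1) n (n + 1) (by simp) (by simp)]
      exact ⟨W', 𝟙 _, inferInstance, w, by rw [Category.id_comp, Category.id_comp, hy', e, add_comm]⟩
    rw [h5]
    exact factors_image _ _
  · intro h0
    obtain ⟨W₁, ρ₁, hρ₁, w, hw⟩ := exists_of_factors_image _ _ h0
    obtain ⟨W₂, ρ₂, hρ₂, y, hy, hy'⟩ :=
      (K.step (p + 1)).eq_liftCycles_homologyπ_up_to_refinements w (n + 1) (by simp)
    have h6 : (ρ₂ ≫ ρ₁) ≫ z ≫ c = ((K.step (p + 1)).liftCycles y (n + 1) (by simp) hy ≫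
        (K.step (p + 1)).homologyπ n) ≫ HomologicalComplex.homologyMap (K.fil (p + 1)).arrow n := by
      rw [Category.assoc, hw, ← Category.assoc, hy']
    rw [Category.assoc, Category.assoc, HomologicalComplex.homologyπ_naturality,
      HomologicalComplex.liftCycles_comp_cyclesMap_assoc, hzc, HomologicalComplex.comp_liftCycles_assoc,
      HomologicalComplex.comp_liftCycles_assoc,
      HomologicalComplex.liftCycles_comp_homologyπ_eq_iff_up_to_refinements (K := K.obj) (n - 1) n (n + 1) (by simp) (by simp)] at h6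
    obtain ⟨W₃, ρ₃, hρ₃, v, hv⟩ := h6
    refine ⟨W₃, ρ₃ ≫ ρ₂ ≫ ρ₁, inferInstance, v, ρ₃ ≫ y ≫ (K.fil (p + 1)).arrow.f n,
      by rw [ha]; exact Subobject.top_factors _, ?_, ?_⟩
    · exact factors_precomp _ _ ((Subobject.mk_factors_iff _ _).2 ⟨y, rfl⟩)
    · simp only [Category.assoc] at hv ⊢
      rw [hv, add_comm]

section Serre

variable (P : ObjectProperty A)

/-- The five-term condition. -/
theorem five (hP : ∀ S : ComposableArrows A 4, S.Exact → P (S.obj 0) → P (S.obj 1) → P (S.obj 3) → P (S.obj 4) → P (S.obj 2))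
    {a b c d e : A} (f₁ : a ⟶ b) (f₂ : b ⟶ c) (f₃ : c ⟶ d) (f₄ : d ⟶ e) (w₁ : f₁ ≫ f₂ = 0) (w₂ : f₂ ≫ f₃ = 0)
    (w₃ : f₃ ≫ f₄ = 0) (e₁ : (ShortComplex.mk f₁ f₂ w₁).Exact) (e₂ : (ShortComplex.mk f₂ f₃ w₂).Exact)
    (e₃ : (ShortComplex.mk f₃ f₄ w₃).Exact) (pa : P a) (pb : P b) (pd : P d) (pe : P e) : P c :=
  hP (ComposableArrows.mk₄ f₁ f₂ f₃ f₄)
    (ComposableArrows.exact_of_δ₀ e₁.exact_toComposableArrows
      (ComposableArrows.exact_of_δ₀ e₂.exact_toComposableArrows e₃.exact_toComposableArrows)) pa pb pd pe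

end Serre


/-- For a filtered complex with degreewise finite filtration, if all terms of some page of its spectral
sequence lie in a weak Serre class `P`, then so does each cohomology object. -/
theorem result {A : Type u} [Category.{v} A] [Abelian A] (K : SpSeq.FilCx A) (hK : ∀ n : ℤ, (K.XFil n).IsFinite) (P : ObjectProperty A) [P.IsClosedUnderIsomorphisms] (h0 : ∃ Z : A, IsZero Z ∧ P Z) (hP : ∀ S : ComposableArrows A 4, S.Exact → P (S.obj 0) → P (S.obj 1) → P (S.obj 3) → P (S.obj 4) → P (S.obj 2)) (r : ℕ) (hr : ∀ p n : ℤ, P (K.E r p n)) (n : ℤ) : P (K.obj.homology n) := by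
  obtain ⟨Z, hZ, hPZ⟩ := h0
  have hker : ∀ {X Y : A} (f : X ⟶ Y), P X → P Y → P (kernel f) := fun {X Y} f hX hY =>
    five P hP (0 : Z ⟶ Z) (0 : Z ⟶ kernel f) (kernel.ι f) f (by simp) (by simp) (kernel.condition f)
      (ShortComplex.exact_of_isZero_X₂ _ hZ) ((ShortComplex.exact_iff_mono _ rfl).2 inferInstance)
      (ShortComplex.exact_of_f_is_kernel _ (kernelIsKernel f)) hPZ hPZ hX hY
  have hcoker : ∀ {X Y : A} (f : X ⟶ Y), P X → P Y → P (cokernel f) := fun {X Y} f hX hY =>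
    five P hP f (cokernel.π f) (0 : cokernel f ⟶ Z) (0 : Z ⟶ Z) (cokernel.condition f) (by simp) (by simp)
      (ShortComplex.exact_of_g_is_cokernel _ (cokernelIsCokernel f))
      ((ShortComplex.exact_iff_epi _ rfl).2 inferInstance)
      (ShortComplex.exact_of_isZero_X₂ _ hZ) hX hY hPZ hPZ
  have hE : ∀ s, r ≤ s → ∀ p m : ℤ, P (K.E s p m) := by
    intro s hs
    induction s, hs using Nat.le_induction with
    | base => exact hr
    | succ s hs ih =>
      intro p m
      exact P.prop_of_iso (nonempty_iso_succ K s p m).some.symm (hcoker _ (ih _ _) (hker _ (ih _ _) (ih _ _)))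
  obtain ⟨a₀, ha₀⟩ := (hK (n - 1)).1
  obtain ⟨a₁, ha₁⟩ := (hK n).1
  obtain ⟨a₂, ha₂⟩ := (hK (n + 1)).1
  obtain ⟨b₀, hb₀⟩ := (hK n).2
  obtain ⟨b₁, hb₁⟩ := (hK (n + 1)).2
  have hgr : ∀ p, P (grPiece (fun i => K.filH i n) (K.filH_anti n) p) := fun p => by
    let R : ℕ := max r (max (b₁ - p).toNat (p + 1 - a₀).toNat)
    have h1 : r ≤ R := le_max_left _ _
    have h2 : (b₁ - p).toNat ≤ R := (le_max_left _ _).trans (le_max_right _ _)
    have h3 : (p + 1 - a₀).toNat ≤ R := (le_max_right _ _).trans (le_max_right _ _)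
    exact P.prop_of_iso (nonempty_iso_gr K R p n (le_bot_iff.1 ((K.filX_anti _ (by omega)).trans hb₁.le))
      (top_le_iff.1 (ha₀.ge.trans (K.filX_anti _ (by omega))))).some (hE R h1 p n)
  have hbot : K.filH b₀ n = ⊥ := by
    have hz : IsZero ((K.step b₀).X n) := by
      have h : K.filX b₀ n = ⊥ := hb₀
      rw [filX, Subobject.mk_eq_bot_iff_zero] at h
      exact IsZero.of_mono_eq_zero _ h
    have hH : IsZero ((K.step b₀).homology n) :=
      ((HomologicalComplex.exactAt_iff' _ (n - 1) n (n + 1) (by simp) (by simp)).2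
        (ShortComplex.exact_of_isZero_X₂ _ hz)).isZero_homology
    show imageSubobject (HomologicalComplex.homologyMap (K.fil b₀).arrow n) = ⊥
    rw [hH.eq_of_src (HomologicalComplex.homologyMap (K.fil b₀).arrow n) 0, imageSubobject_zero]
  let q := min (min a₀ a₁) (min a₂ b₀)
  have htop : K.filH q n = ⊤ := by
    have hiso : ∀ m a, K.filX a m = ⊤ → q ≤ a → IsIso ((K.fil q).arrow.f m) := fun m a ha hqa =>
      (Subobject.isIso_iff_mk_eq_top _).2 (top_le_iff.1 (ha.ge.trans (K.filX_anti m hqa)))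
    have := hiso (n - 1) a₀ ha₀ (by omega)
    have := hiso n a₁ ha₁ (by omega)
    have := hiso (n + 1) a₂ ha₂ (by omega)
    have : QuasiIsoAt (K.fil q).arrow n := by
      rw [quasiIsoAt_iff' _ (n - 1) n (n + 1) (by simp) (by simp)]
      have h1 : Epi ((HomologicalComplex.shortComplexFunctor' A _ (n - 1) n (n + 1)).map
          (K.fil q).arrow).τ₁ := inferInstanceAs (Epi ((K.fil q).arrow.f (n - 1)))
      have h2 : IsIso ((HomologicalComplex.shortComplexFunctor' A _ (n - 1) n (n + 1)).map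
          (K.fil q).arrow).τ₂ := inferInstanceAs (IsIso ((K.fil q).arrow.f n))
      have h3 : Mono ((HomologicalComplex.shortComplexFunctor' A _ (n - 1) n (n + 1)).map
          (K.fil q).arrow).τ₃ := inferInstanceAs (Mono ((K.fil q).arrow.f (n + 1)))
      exact ShortComplex.quasiIso_of_epi_of_isIso_of_mono _
    rw [quasiIsoAt_iff_isIso_homologyMap] at this
    show imageSubobject (HomologicalComplex.homologyMap (K.fil q).arrow n) = ⊤
    have : Epi (imageSubobject (HomologicalComplex.homologyMap (K.fil q).arrow n)).arrow :=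
      epi_of_epi_fac (imageSubobject_arrow_comp (HomologicalComplex.homologyMap (K.fil q).arrow n))
    have := isIso_of_mono_of_epi (imageSubobject (HomologicalComplex.homologyMap (K.fil q).arrow n)).arrow
    exact Subobject.eq_top_of_isIso_arrow _
  have hfil : ∀ (k : ℕ), P (K.filH (b₀ - k) n : A) := by
    intro k
    induction k with
    | zero =>
      rw [Nat.cast_zero, sub_zero, hbot]
      exact P.prop_of_iso (hZ.iso ((Limits.isZero_zero A).of_iso Subobject.botCoeIsoZero)) hPZ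
    | succ k ih =>
      have hle : K.filH (b₀ - k) n ≤ K.filH (b₀ - (k + 1 : ℕ)) n := K.filH_anti n (by omega)
      have hq : P (cokernel ((K.filH (b₀ - k) n).ofLE _ hle)) := by
        have gen : ∀ i j : ℤ, i + 1 = j → ∀ hij : K.filH j n ≤ K.filH i n,
            P (cokernel ((K.filH j n).ofLE (K.filH i n) hij)) := by
          rintro i _ rfl _
          exact hgr i
        exact gen _ _ (by push_cast; ring) hle
      exact five P hP (0 : Z ⟶ _) ((K.filH (b₀ - k) n).ofLE _ hle) (cokernel.π _) (0 : _ ⟶ Z) (by simp)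
        (cokernel.condition _) (by simp) ((ShortComplex.exact_iff_mono _ rfl).2 inferInstance)
        (ShortComplex.exact_of_g_is_cokernel _ (cokernelIsCokernel _))
        ((ShortComplex.exact_iff_epi _ rfl).2 inferInstance) hPZ ih hq hPZ
  have h := hfil (b₀ - q).toNat
  rw [show b₀ - ((b₀ - q).toNat : ℕ) = q by omega, htop] at h
  exact P.prop_of_iso (asIso (⊤ : Subobject (K.obj.homology n)).arrow) h

end Groth.Agent.S6793
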