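import Groth.Statements.S6794
import Mathlib
-- import your own Groth.Agent.* helpers here

set_option autoImplicit false
set_option backward.isDefEq.respectTransparency false
set_option backward.isDefEq.respectTransparency.types false
open CategoryTheory CategoryTheory.Limits
universe v u
open SpSeq SpSeq.FilCx

namespace Groth.Agent.S6794

variable {A : Type u} [Category.{v} A] [Abelian A]

theorem le_of_refine {X : A} (S T : Subobject X)
    (h : ∀ {Z : A} (z : Z ⟶ X), S.Factors z → ∃ (Z' : A) (ρ : Z' ⟶ Z) (_ : Epi ρ), T.Factors (ρ ≫ z)) :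
    S ≤ T := by
  obtain ⟨Z', ρ, hρ, hT⟩ := h S.arrow ((S.factors_iff _).2 ⟨𝟙 _, by simp⟩)
  have h1 : S.arrow ≫ cokernel.π T.arrow = 0 := by
    rw [← cancel_epi ρ, comp_zero, ← Category.assoc, ← T.factorThru_arrow _ hT, Category.assoc,
      cokernel.condition, comp_zero]
  exact Subobject.le_of_comm (Abelian.monoLift T.arrow S.arrow h1) (Abelian.monoLift_comp _ _ h1)

theorem factors_image {W X Z Z' : A} (g : W ⟶ X) (z : Z ⟶ X) (ρ : Z' ⟶ Z) [Epi ρ] (w : Z' ⟶ W)
    (h : ρ ≫ z = w ≫ g) : (imageSubobject g).Factors z := by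
  have h1 : z ≫ cokernel.π (imageSubobject g).arrow = 0 := by
    have hg : g ≫ cokernel.π (imageSubobject g).arrow = 0 := calc
      g ≫ cokernel.π (imageSubobject g).arrow =
          (factorThruImageSubobject g ≫ (imageSubobject g).arrow) ≫ cokernel.π (imageSubobject g).arrow := by
        rw [imageSubobject_arrow_comp]
      _ = 0 := by rw [Category.assoc, cokernel.condition, comp_zero]
    rw [← cancel_epi ρ, comp_zero, ← Category.assoc, h, Category.assoc, hg, comp_zero]
  exact (Subobject.factors_iff _ _).2 ⟨Abelian.monoLift _ z h1, Abelian.monoLift_comp _ _ h1⟩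

theorem exists_of_factors_image {W X Z : A} (g : W ⟶ X) (z : Z ⟶ X) (h : (imageSubobject g).Factors z) :
    ∃ (Z' : A) (ρ : Z' ⟶ Z) (_ : Epi ρ) (w : Z' ⟶ W), ρ ≫ z = w ≫ g := by
  obtain ⟨Z', ρ, hρ, w, hw⟩ :=
    surjective_up_to_refinements_of_epi (factorThruImageSubobject g) ((imageSubobject g).factorThru z h)
  refine ⟨Z', ρ, hρ, w, ?_⟩
  rw [← imageSubobject_arrow_comp g, ← reassoc_of% hw, Subobject.factorThru_arrow]

variable (K : SpSeq.FilCx A)

/-- The inclusion of a step of the filtration. -/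
noncomputable abbrev ι (p : ℤ) : K.step p ⟶ K.obj := (K.fil p).arrow

@[reassoc]
theorem ι_fac {p q : ℤ} (h : p ≤ q) (m : ℤ) : (K.stepLE h).f m ≫ (ι K p).f m = (ι K q).f m := by
  rw [← HomologicalComplex.comp_f, Subobject.ofLE_arrow]

theorem filX_factors {p m : ℤ} {Z : A} (z : Z ⟶ (K.step p).X m) : (K.filX p m).Factors (z ≫ (ι K p).f m) :=
  (Subobject.mk_factors_iff _ _).2 ⟨z, rfl⟩

theorem exists_of_filX {p m : ℤ} {Z : A} (z : Z ⟶ K.obj.X m) (h : (K.filX p m).Factors z) :
    ∃ y : Z ⟶ (K.step p).X m, y ≫ (ι K p).f m = z := (Subobject.mk_factors_iff _ _).1 h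

theorem mono_cyc {p m : ℤ} {Z : A} (y : Z ⟶ (K.step p).X m) (h : (y ≫ (ι K p).f m) ≫ K.obj.d m (m + 1) = 0) :
    y ≫ (K.step p).d m (m + 1) = 0 := by
  rw [← cancel_mono ((ι K p).f (m + 1)), zero_comp, Category.assoc, ← (ι K p).comm, ← Category.assoc, h]

/-- The first page vanishes where consecutive steps have the same cohomology. -/
theorem isZero_E_one (p n : ℤ) (hm : Mono (HomologicalComplex.homologyMap (ι K (p + 1)) (n + 1)))
    (he : Epi (HomologicalComplex.homologyMap (K.stepLE (p := p) (q := p + 1) (by omega)) n)) :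
    IsZero (K.E 1 p n) := by
  have key : K.ZSub 1 p n = K.BSub 1 p n := by
    refine le_antisymm (sup_le ?_ le_sup_right) (K.BSub_le_ZSub 1 p n)
    refine le_of_refine _ _ fun z hz => ?_
    rw [Subobject.inf_factors, pullback_factors_iff] at hz
    obtain ⟨x, rfl⟩ := exists_of_filX K z hz.1
    obtain ⟨y, hy'⟩ := exists_of_filX K (p := p + 1) _ hz.2
    have hyc : y ≫ (K.step (p + 1)).d (n + 1) (n + 1 + 1) = 0 :=
      mono_cyc K y (by rw [hy']; simp)
    obtain ⟨Z₁, ρ, hρ, w, hw⟩ := (HomologicalComplex.mono_homologyMap_iff_up_to_refinements (ι K (p + 1))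
      n (n + 1) (n + 1 + 1) (by simp) (by simp)).1 hm y hyc (x ≫ (ι K p).f n) hy'
    have hc : (ρ ≫ x - w ≫ (K.stepLE (p := p) (q := p + 1) (by omega)).f n) ≫ (K.step p).d n (n + 1) = 0 := by
      refine mono_cyc K _ ?_
      rw [Preadditive.sub_comp, Preadditive.sub_comp, Category.assoc, Category.assoc, Category.assoc,
        Category.assoc, ι_fac_assoc, (ι K (p + 1)).comm, ← reassoc_of% hw, hy', Category.assoc, sub_self]
    obtain ⟨Z₂, σ, hσ, u, -, v, huv⟩ := (HomologicalComplex.epi_homologyMap_iff_up_to_refinements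
      (K.stepLE (p := p) (q := p + 1) (by omega)) (n - 1) n (n + 1) (by simp) (by simp)).1 he _ hc
    refine ⟨Z₂, σ ≫ ρ, inferInstance, ?_⟩
    have e : (σ ≫ ρ) ≫ x ≫ (ι K p).f n =
        (v ≫ (K.step p).d (n - 1) n) ≫ (ι K p).f n + (σ ≫ w + u) ≫ (ι K (p + 1)).f n := by
      rw [Preadditive.comp_sub, sub_eq_iff_eq_add] at huv
      simp only [Category.assoc, reassoc_of% huv, Preadditive.add_comp, ι_fac]
      abel
    rw [e]
    refine Subobject.factors_add _ _ ?_ (Subobject.factors_of_le _ le_sup_right (filX_factors K _))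
    refine Subobject.factors_of_le _ le_sup_left ((Subobject.inf_factors _).2 ⟨filX_factors K _, ?_⟩)
    refine factors_image _ _ (𝟙 _) ((K.filX (p - ((1 : ℕ) : ℤ) + 1) (n - 1)).factorThru _
      (filX_factors K (v ≫ (K.stepLE (p := p - ((1 : ℕ) : ℤ) + 1) (q := p) (by omega)).f (n - 1)))) ?_
    rw [Category.id_comp, ← Category.assoc (Subobject.factorThru _ _ _), Subobject.factorThru_arrow,
      Category.assoc, Category.assoc, Category.assoc, ι_fac_assoc, (ι K p).comm]
  have : ∀ {X : A} (Z B : Subobject X) (h : B ≤ Z), Z = B → IsZero (subquot Z B h) := by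
    rintro X Z B h rfl
    have : Epi (Z.ofLE Z h) := by rw [Subobject.ofLE_refl]; infer_instance
    exact isZero_cokernel_of_epi _
  exact this _ _ _ key

theorem ZSub_eq_ZTop (p n : ℤ) (r : ℕ) (hr : 1 ≤ r)
    (hz : IsZero ((K.step (p + r)).homology (n + 1))) : K.ZSub r p n = K.ZTop p n := by
  refine le_antisymm (sup_le ?_ le_sup_right) (sup_le_sup_right (inf_le_inf_left _ (kernelSubobject_le_pullback _ _)) _)
  refine le_of_refine _ _ fun z hz' => ?_
  rw [Subobject.inf_factors, pullback_factors_iff] at hz'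
  obtain ⟨x, rfl⟩ := exists_of_filX K z hz'.1
  obtain ⟨y, hy⟩ := exists_of_filX K _ hz'.2
  have hyc : y ≫ (K.step (p + r)).d (n + 1) (n + 1 + 1) = 0 := mono_cyc K y (by rw [hy]; simp)
  obtain ⟨Z₁, ρ, hρ, w, hw⟩ := ((K.step (p + r)).exactAt_iff_exact_up_to_refinements n (n + 1) (n + 1 + 1)
    (by simp) (by simp)).1 ((HomologicalComplex.exactAt_iff_isZero_homology _ _).2 hz) y hyc
  refine ⟨Z₁, ρ, hρ, ?_⟩
  let x' := ρ ≫ x - w ≫ (K.stepLE (p := p) (q := p + r) (by omega)).f n
  have e : ρ ≫ x ≫ (ι K p).f n = x' ≫ (ι K p).f n +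
      (w ≫ (K.stepLE (p := p + 1) (q := p + r) (by omega)).f n) ≫ (ι K (p + 1)).f n := by
    simp only [x', Preadditive.sub_comp, Category.assoc, ι_fac]
    abel
  rw [e]
  refine Subobject.factors_add _ _ ?_ (Subobject.factors_of_le _ le_sup_right (filX_factors K _))
  refine Subobject.factors_of_le _ le_sup_left ((Subobject.inf_factors _).2 ⟨filX_factors K _, ?_⟩)
  refine (kernelSubobject_factors_iff _ _).2 ?_
  simp only [x', Preadditive.sub_comp, Category.assoc, ι_fac_assoc, reassoc_of% hy]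
  rw [(ι K (p + r)).comm, ← reassoc_of% hw, hy, Category.assoc, sub_self]

theorem BSub_eq_BBot (p n : ℤ) (r : ℕ) (h : p - r + 1 ≤ p)
    (hm : Mono (HomologicalComplex.homologyMap (ι K (p - r + 1)) n)) : K.BSub r p n = K.BBot p n := by
  refine le_antisymm (sup_le_sup_right (inf_le_inf_left _ (imageSubobject_comp_le _ _)) _) (sup_le ?_ le_sup_right)
  refine le_of_refine _ _ fun z hz => ?_
  rw [Subobject.inf_factors] at hz
  obtain ⟨Z₁, ρ, hρ, w, hw⟩ := exists_of_factors_image _ _ hz.2
  obtain ⟨x, rfl⟩ := exists_of_filX K z hz.1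
  let x' := ρ ≫ x ≫ (K.stepLE h).f n
  have hx' : x' ≫ (ι K (p - r + 1)).f n = w ≫ K.obj.d (n - 1) n := by
    simp only [x', Category.assoc, ι_fac]; exact hw
  obtain ⟨Z₂, σ, hσ, v, hv⟩ := (HomologicalComplex.mono_homologyMap_iff_up_to_refinements (ι K (p - r + 1))
    (n - 1) n (n + 1) (by simp) (by simp)).1 hm x' (mono_cyc K x' (by rw [hx']; simp)) w hx'
  refine ⟨Z₂, σ ≫ ρ, inferInstance, Subobject.factors_of_le _ le_sup_left ((Subobject.inf_factors _).2
    ⟨by rw [← Category.assoc]; exact filX_factors K _, ?_⟩)⟩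
  refine factors_image _ _ (𝟙 _) ((K.filX (p - r + 1) (n - 1)).factorThru _ (filX_factors K v)) ?_
  rw [Category.id_comp, ← Category.assoc (Subobject.factorThru _ _ _), Subobject.factorThru_arrow,
    Category.assoc, Category.assoc, (ι K (p - r + 1)).comm, ← reassoc_of% hv]
  simp only [x', Category.assoc, ι_fac]


/-- If the cohomology of the filtration steps of a filtered complex vanishes in each degree for large
filtration index and maps isomorphically to the cohomology of the whole complex for small filtration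
index, then the spectral sequence is bounded from page `1` on, the induced filtrations on cohomology
are finite, and the spectral sequence converges. (The published statement asserts boundedness
without naming a page, which read from page `0` fails for an acyclic complex with an infinite
filtration by acyclic subcomplexes; this row asserts boundedness from page `1`, which is what the
published proof shows.) -/
theorem result {A : Type u} [Category.{v} A] [Abelian A] (K : SpSeq.FilCx A) (h0 : ∀ n : ℤ, ∃ p₀ : ℤ, ∀ p : ℤ, p₀ ≤ p → IsZero ((K.fil p : CochainComplex A ℤ).homology n)) (h1 : ∀ n : ℤ, ∃ p₁ : ℤ, ∀ p : ℤ, p ≤ p₁ → IsIso (HomologicalComplex.homologyMap (K.fil p).arrow n)) : K.IsBounded 1 ∧ (∀ n : ℤ, (K.HFil n).IsFinite) ∧ K.Converges := by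
  choose b hb using h0
  choose a ha using h1
  have hmono : ∀ p n, p ≤ a n → Mono (HomologicalComplex.homologyMap (ι K p) n) := fun p n hp => by
    haveI := ha n p hp
    infer_instance
  have hfin : ∀ n, (K.HFil n).IsFinite := fun n => by
    refine ⟨⟨a n, ?_⟩, ⟨b n, ?_⟩⟩
    · haveI := ha n (a n) le_rfl
      show imageSubobject (HomologicalComplex.homologyMap (K.fil (a n)).arrow n) = ⊤
      refine top_le_iff.1 (le_of_refine _ _ fun z _ => ⟨_, 𝟙 _, inferInstance,
        factors_image _ _ (𝟙 _) (z ≫ inv (HomologicalComplex.homologyMap (K.fil (a n)).arrow n)) (by simp)⟩)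
    · show imageSubobject (HomologicalComplex.homologyMap (K.fil (b n)).arrow n) = ⊥
      rw [(hb n (b n) le_rfl).eq_of_src (HomologicalComplex.homologyMap (K.fil (b n)).arrow n) 0,
        imageSubobject_zero]
  have hreg : ∀ p n (r : ℕ), b (n + 1) ≤ p + (r : ℕ) → 1 ≤ r → K.ZSub r p n = K.ZTop p n := fun p n r h hr =>
    ZSub_eq_ZTop K p n r hr (hb _ _ h)
  refine ⟨fun n => ?_, hfin, ?_, ⟨?_, fun n => ?_⟩, fun n => ?_⟩
  · refine (Set.finite_Icc (min (a n - 1) (a (n + 1) - 1)) (max (b n) (b (n + 1)))).subset fun p hp => ?_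
    by_contra h
    rw [Set.mem_Icc, not_and_or, not_le, not_le] at h
    refine hp (isZero_E_one K p n ?_ ?_)
    · obtain h | h := h
      · exact hmono _ _ (by omega)
      · exact ⟨fun g g' _ => (hb (n + 1) (p + 1) (by omega)).eq_of_tgt g g'⟩
    · obtain h | h := h
      · haveI := ha n (p + 1) (by omega)
        haveI := ha n p (by omega)
        have e : HomologicalComplex.homologyMap (K.stepLE (p := p) (q := p + 1) (by omega)) n ≫
            HomologicalComplex.homologyMap (K.fil p).arrow n = HomologicalComplex.homologyMap (K.fil (p + 1)).arrow n := by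
          rw [← HomologicalComplex.homologyMap_comp, Subobject.ofLE_arrow]
        haveI := IsIso.of_isIso_fac_right e
        infer_instance
      · exact ⟨fun g g' _ => (hb n p (by omega)).eq_of_src g g'⟩
  · intro p n
    refine ⟨(b (n + 1) - p).toNat + 1, fun r hr => ?_⟩
    rw [hreg p n r (by omega) (by omega), hreg p n _ (by omega) (by omega)]
  · refine fun p n => ⟨IsLeast.isGLB ⟨⟨(b (n + 1) - p).toNat + 1, hreg p n _ (by omega) (by omega)⟩, ?_⟩,
      IsGreatest.isLUB ⟨⟨(p + 1 - a n).toNat + 1, BSub_eq_BBot K p n _ (by omega) (hmono _ _ (by omega))⟩, ?_⟩⟩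
    · rintro _ ⟨r, rfl⟩
      exact sup_le_sup_right (inf_le_inf_left _ (kernelSubobject_le_pullback _ _)) _
    · rintro _ ⟨r, rfl⟩
      exact sup_le_sup_right (inf_le_inf_left _ (imageSubobject_comp_le _ _)) _
  · obtain ⟨⟨a', ha''⟩, ⟨b', hb''⟩⟩ := hfin n
    exact ⟨IsLeast.isGLB ⟨⟨b', hb''⟩, fun _ _ => bot_le⟩,
      IsGreatest.isLUB ⟨⟨a', ha''⟩, fun _ _ => le_top⟩⟩
  · intro T f hf
    obtain ⟨q0, hq0⟩ := (hfin n).2
    have hiso : ∀ q, q0 ≤ q → IsIso (Limits.cokernel.π ((K.HFil n).fil q).arrow) := fun q hq => by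
      have : (K.HFil n).fil q = ⊥ := le_bot_iff.1 (((K.HFil n).anti hq).trans hq0.le)
      have hz : ((K.HFil n).fil q).arrow = 0 := by rw [this, Subobject.bot_arrow]
      refine ⟨cokernel.desc _ (𝟙 _) (by rw [hz, zero_comp]), cokernel.π_desc _ _ _,
        coequalizer.hom_ext ?_⟩
      exact (cokernel.π_desc_assoc _ _ _ _).trans ((Category.id_comp _).trans (Category.comp_id _).symm)
    have hπ : ∀ {p q : ℤ} (h : p ≤ q), Limits.cokernel.π ((K.HFil n).fil q).arrow ≫
        (K.HFil n).quotMap h = Limits.cokernel.π ((K.HFil n).fil p).arrow :=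
      fun h => Limits.cokernel.π_desc _ _ _
    have := hiso q0 le_rfl
    refine ⟨f q0 ≫ inv (Limits.cokernel.π ((K.HFil n).fil q0).arrow), fun p => ?_⟩
    let q := max p q0
    have := hiso q (le_max_right _ _)
    have e1 := hπ (le_max_right p q0)
    have : IsIso ((K.HFil n).quotMap (le_max_right p q0)) := IsIso.of_isIso_fac_left e1
    have e2 : f q = (f q0 ≫ inv (cokernel.π ((K.HFil n).fil q0).arrow)) ≫
        cokernel.π ((K.HFil n).fil q).arrow := by
      rw [← cancel_mono ((K.HFil n).quotMap (le_max_right p q0)), hf, Category.assoc,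
        Category.assoc, e1, IsIso.inv_hom_id, Category.comp_id]
    rw [← hf p q (le_max_left _ _), e2]
    simp only [Category.assoc, hπ]


end Groth.Agent.S6794
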