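import Groth.Statements.S6804
import Groth.Agent.FilObjX.Basic

set_option autoImplicit false
open CategoryTheory CategoryTheory.Limits
universe v u
open SpSeq SpSeq.FilObj

namespace Groth.Agent.S6804

/-- Fibre products exist in the category of filtered objects of an abelian category, and the base change
of a strict morphism is strict. -/
theorem result {A : Type u} [Category.{v} A] [Abelian A] {K L M : SpSeq.FilObj A} (f : L ⟶ K) (g : M ⟶ K) : HasPullback f g ∧ ∀ (P : SpSeq.FilObj A) (g' : P ⟶ L) (f' : P ⟶ M), IsPullback g' f' f g → SpSeq.FilObj.IsStrict f → SpSeq.FilObj.IsStrict f' := by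
  have h := Groth.Agent.FilObjX.isPullback f g
  refine ⟨h.hasPullback, fun P g' f' hP hf => ?_⟩
  let e := hP.isoIsPullback _ _ h
  have he : f' = e.hom ≫ Groth.Agent.FilObjX.snd f g := (hP.isoIsPullback_hom_snd _ _ h).symm
  rw [he]
  exact Groth.Agent.FilObjX.isStrict_isIso_comp e.hom (Groth.Agent.FilObjX.isStrict_snd f g hf)

end Groth.Agent.S6804
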