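import Groth.Statements.S6831
import Groth.Agent.RSpaceFT.Basic

set_option autoImplicit false
universe u
open CategoryTheory CategoryTheory.Limits TopologicalSpace
open ModSite

namespace Groth.Agent.S6831
set_option backward.isDefEq.respectTransparency false
set_option backward.isDefEq.respectTransparency.types false
open Groth.Agent Groth.Agent.RSpaceFT Opposite

/-- Let (X, O) be a ringed space, φ : G → F a map of O-modules with F of finite type, and x a point such
that the map of stalks φ_x : G_x → F_x is surjective (stalks are taken at the point of the site of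
opens of X given by x). Then φ|_U is surjective for some open neighbourhood U of x. -/
theorem result {X : TopCat.{u}} (O : TopCat.Sheaf CommRingCat.{u} X)
    {G F : ModSite.Mod O} (φ : G ⟶ F) [SheafOfModules.IsFiniteType (R := ModSite.ringSh O) F] (x : X)
    (hx : Function.Surjective (ModSite.stalkMap (Opens.pointGrothendieckTopology x) φ).hom) :
    ∃ U : Opens X, x ∈ U ∧ Epi ((ModSite.restr O U).map φ) := by
  obtain ⟨U, n, t, hxU, ht⟩ := RSpaceFT.exists_gens' (F := F) x
  have h : ∀ i, ∃ (V : Opens X) (e : V ≤ U), x ∈ V ∧ ∃ g : ModSite.sect G V, φ.val.app (op V) g = mres F e (t i) := fun i => by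
    obtain ⟨z, hz⟩ := hx (ModSite.germ (Opens.pointGrothendieckTopology x) F U ⟨⟨hxU⟩⟩ (t i))
    exact RSpaceFT.exists_preimage_of_germ φ (t i) hxU z hz
  choose V e hxV g hg using h
  obtain ⟨U', hxU', hU', hUV⟩ := RSpaceFT.exists_common_nhd x V hxV U hxU
  refine ⟨U', hxU', RSpaceFT.epi_restr_of_preimage φ fun W hW s y hy => ?_⟩
  obtain ⟨V', e', hyV', c, hc⟩ := ht W (hW.trans hU') s y hy
  refine ⟨V', e', hyV', ∑ i, c i • mres G ((e'.trans hW).trans (hUV i)) (g i), ?_⟩
  rw [mapp_sum_smul, ← hc]
  refine Finset.sum_congr rfl fun i _ => congrArg (c i • ·) ?_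
  exact (mapp_res G φ _ _).trans ((congrArg (mres F _) (hg i)).trans (mres_mres F _ _ _))

end Groth.Agent.S6831
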