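import Groth.Statements.S6832
import Groth.Agent.RSpaceFT.Basic
import Groth.Agent.SiteBase.ModGroth

set_option autoImplicit false
universe u
open CategoryTheory CategoryTheory.Limits TopologicalSpace
open ModSite

namespace Groth.Agent.S6832
set_option backward.isDefEq.respectTransparency false
set_option backward.isDefEq.respectTransparency.types false
open Groth.Agent Groth.Agent.RSpaceFT Opposite

/-- On a ringed space (X, O), if θ : G → F is a surjective map of O-modules with G of finite type and F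
of finite presentation, then Ker(θ) is of finite type. (Part (1) of the source is the case G = O^r.) -/
theorem result {X : TopCat.{u}} (O : TopCat.Sheaf CommRingCat.{u} X)
    {G F : ModSite.Mod O} (θ : G ⟶ F) [Epi θ] [SheafOfModules.IsFiniteType (R := ModSite.ringSh O) G]
    [SheafOfModules.IsFinitePresentation (R := ModSite.ringSh O) F] : SheafOfModules.IsFiniteType (R := ModSite.ringSh O) (kernel θ) := by
  refine RSpaceFT.isFiniteType_of_gens fun x => ?_
  obtain ⟨U₁, q, k, hx₁, hk⟩ := RSpaceFT.exists_gens' (F := G) x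
  obtain ⟨U₂, n, m, t, g, hx₂, hP⟩ := RSpaceFT.exists_isPres (F := F) ‹_› x
  choose V e hxV b hb using fun i => RSpaceFT.exists_preimage θ (t i) hx₂
  choose V' e' hxV' a ha using fun l => hP.gen (U₁ ⊓ U₂) inf_le_right
    (θ.val.app (op (U₁ ⊓ U₂)) (mres G inf_le_left (k l))) x ⟨hx₁, hx₂⟩
  obtain ⟨U₀, hxU₀, hU₀, hU₀V⟩ := RSpaceFT.exists_common_nhd x V hxV (U₁ ⊓ U₂) ⟨hx₁, hx₂⟩
  obtain ⟨U, hxU, hU, hUV'⟩ := RSpaceFT.exists_common_nhd x V' hxV' U₀ hxU₀
  have eU₁ : U ≤ U₁ := (hU.trans hU₀).trans inf_le_left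
  have eU₂ : U ≤ U₂ := (hU.trans hU₀).trans inf_le_right
  let B : ULift.{u} (Fin n) → ModSite.sect G U := fun i => mres G (hU.trans (hU₀V i)) (b i)
  let A : ULift.{u} (Fin q) → ULift.{u} (Fin n) → O.obj.obj (op U) := fun l i => ores O (hUV' l) (a l i)
  have hθB : ∀ i, θ.val.app (op U) (B i) = mres F eU₂ (t i) := fun i =>
    (mapp_res _ θ _ _).trans ((congrArg (mres F _) (hb i)).trans (mres_mres F _ _ _))
  have hA : ∀ l, ∑ i, A l i • mres F eU₂ (t i) = θ.val.app (op U) (mres G eU₁ (k l)) := fun l => by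
    have h1 := congrArg (mres F (hUV' l)) (ha l)
    rw [mres_sum_smul, ← mapp_res, ← mapp_res] at h1
    simp only [mres_mres] at h1
    exact h1
  have h1 : ∀ l, θ.val.app (op U) (mres G eU₁ (k l) - ∑ i, A l i • B i) = 0 := fun l => by
    rw [map_sub, mapp_sum_smul, sub_eq_zero, ← hA l]
    exact Finset.sum_congr rfl fun i _ => congrArg (A l i • ·) (hθB i).symm
  have h2 : ∀ j, θ.val.app (op U) (∑ i, ores O eU₂ (g j i) • B i) = 0 := fun j => by
    rw [mapp_sum_smul]
    refine Eq.trans (Finset.sum_congr rfl fun i _ => congrArg (ores O eU₂ (g j i) • ·) (hθB i)) ?_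
    rw [← mres_sum_smul, hP.rel0 j, RSpaceFT.mres_zero]
  choose z₁ hz₁ using fun l => RSpaceFT.exists_kernel_lift θ U _ (h1 l)
  choose z₂ hz₂ using fun j => RSpaceFT.exists_kernel_lift θ U _ (h2 j)
  refine ⟨U, q + m, fun j => Fin.addCases (fun l => z₁ ⟨l⟩) (fun j => z₂ ⟨j⟩) j.down, hxU, fun W hW s y hy => ?_⟩
  obtain ⟨W₁, f₁, hyW₁, c, hc⟩ := hk W (hW.trans eU₁) ((kernel.ι θ).val.app (op W) s) y hy
  have h3 : ∑ i, (∑ l, c l * ores O (f₁.trans hW) (A l i)) • mres F ((f₁.trans hW).trans eU₂) (t i) = 0 := by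
    simp only [Finset.sum_smul, mul_smul]
    rw [Finset.sum_comm]
    have h5 : ∀ l, ∑ i, c l • ores O (f₁.trans hW) (A l i) • mres F ((f₁.trans hW).trans eU₂) (t i) =
        c l • θ.val.app (op W₁) (mres G ((f₁.trans hW).trans eU₁) (k l)) := fun l => by
      rw [← Finset.smul_sum, ← mres_mres G eU₁ (f₁.trans hW) (k l), mapp_res, ← hA l, mres_sum_smul]
      simp only [mres_mres]
    rw [Finset.sum_congr rfl fun l _ => h5 l, ← mapp_sum_smul]
    refine (congrArg (θ.val.app (op W₁)) hc).trans ?_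
    rw [mapp_res]
    refine Eq.trans ?_ (RSpaceFT.mres_zero (F := F) f₁)
    exact congrArg (mres F f₁) (congrArg (fun f : kernel θ ⟶ F => f.val.app (op W) s) (kernel.condition θ))
  obtain ⟨W₂, f₂, hyW₂, d, hd⟩ := hP.rel W₁ ((f₁.trans hW).trans eU₂) _ h3 y hyW₁
  refine ⟨W₂, f₂.trans f₁, hyW₂,
    fun j => Fin.addCases (fun l => ores O f₂ (c ⟨l⟩)) (fun j => d ⟨j⟩) j.down, ?_⟩
  apply RSpaceFT.sect_injective_of_mono (kernel.ι θ) W₂
  rw [mapp_sum_smul, mapp_res, ← mres_mres _ f₁ f₂, ← hc, mres_sum_smul]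
  rw [← Equiv.sum_comp Equiv.ulift.symm, Fin.sum_univ_add]
  simp only [Equiv.ulift_symm_down, Fin.addCases_left, Fin.addCases_right, mapp_res, hz₁, hz₂, mres_mres,
    RSpaceFT.mres_sub, mres_sum_smul, smul_sub, Finset.sum_sub_distrib, Finset.smul_sum, smul_smul, ores_ores]
  rw [Fintype.sum_equiv Equiv.ulift.symm (fun l : Fin q => ores O f₂ (c ⟨l⟩) • mres G _ (k ⟨l⟩))
      (fun l => ores O f₂ (c l) • mres G _ (k l)) (fun _ => rfl), sub_add, sub_eq_self, sub_eq_zero,
    Finset.sum_comm]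
  conv_rhs => rw [Finset.sum_comm]
  refine Finset.sum_congr rfl fun i _ => ?_
  rw [← Finset.sum_smul, ← Finset.sum_smul]
  refine congrArg (· • mres G _ (B i)) ?_
  have h4 := hd i
  simp only [map_sum, map_mul, ores_ores] at h4
  rw [← Equiv.sum_comp Equiv.ulift.symm, ← Equiv.sum_comp Equiv.ulift.symm (fun l => ores O f₂ (c l) * _)] at h4
  exact h4.symm

end Groth.Agent.S6832
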