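import Groth.Statements.S6833
import Groth.Agent.RSpaceFT.Basic
import Groth.Agent.SiteBase.ModGroth

set_option autoImplicit false
universe u
open CategoryTheory CategoryTheory.Limits TopologicalSpace
open ModSite

namespace Groth.Agent.S6833
set_option backward.isDefEq.respectTransparency false
set_option backward.isDefEq.respectTransparency.types false
open Groth.Agent Groth.Agent.RSpaceFT Opposite

/-- On a ringed space (X, O), if φ : G → F is a map of O-modules with G of finite type and F of finite
presentation, then Coker(φ) is of finite presentation. -/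
theorem result {X : TopCat.{u}} (O : TopCat.Sheaf CommRingCat.{u} X)
    {G F : ModSite.Mod O} (φ : G ⟶ F) [SheafOfModules.IsFiniteType (R := ModSite.ringSh O) G] [SheafOfModules.IsFinitePresentation (R := ModSite.ringSh O) F] :
    SheafOfModules.IsFinitePresentation (R := ModSite.ringSh O) (cokernel φ) := by
  refine isFinitePresentation_of_isPres fun x => ?_
  obtain ⟨U₁, q, k, hx₁, hk⟩ := RSpaceFT.exists_gens' (F := G) x
  obtain ⟨U₂, n, m, t, g, hx₂, hP⟩ := RSpaceFT.exists_isPres (F := F) ‹_› x
  choose V e hxV a ha using fun l => hP.gen (U₁ ⊓ U₂) inf_le_right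
    (φ.val.app (op (U₁ ⊓ U₂)) (mres G inf_le_left (k l))) x ⟨hx₁, hx₂⟩
  obtain ⟨U, hxU, hU, hUV⟩ := RSpaceFT.exists_common_nhd x V hxV (U₁ ⊓ U₂) ⟨hx₁, hx₂⟩
  refine ⟨U, _, _, _, _, hxU, IsPres.coker φ (cokernel.π φ) (cokernel.condition φ)
    (fun W b hb y hy => RSpaceFT.exists_lift_of_exact (ShortComplex.exact_cokernel φ) b hb hy)
    (hP.mono (hU.trans inf_le_right)) (RSpaceFT.Gens.mono hk (hU.trans inf_le_left))
    (fun l i => ores O (hUV l) (a l i)) fun l => ?_⟩
  have h1 := congrArg (mres F (hUV l)) (ha l)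
  rw [mres_sum_smul, ← mapp_res, ← mapp_res] at h1
  simp only [mres_mres] at h1
  exact h1

end Groth.Agent.S6833
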