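import Groth.Statements.S6834
import Groth.Agent.RSpaceFT.Basic
import Groth.Agent.SiteBase.ModGroth

set_option autoImplicit false
universe u
open CategoryTheory CategoryTheory.Limits TopologicalSpace
open ModSite

namespace Groth.Agent.S6834
set_option backward.isDefEq.respectTransparency false
set_option backward.isDefEq.respectTransparency.types false
open Groth.Agent Groth.Agent.RSpaceFT Opposite

/-- Let (X, O) be a ringed space with X quasi-compact, I a directed preordered set (nonempty, with upper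
bounds for pairs), (F_i) a system of O-modules over I and F = colim F_i. If F is of finite type then
F_i → F is surjective for some i; if moreover all transition maps are injective then F_i → F is an
isomorphism for some i. -/
theorem result {X : TopCat.{u}} (O : TopCat.Sheaf CommRingCat.{u} X)
    [CompactSpace X] {I : Type u} [Preorder I] [Nonempty I] [IsDirected I (· ≤ ·)] (D : I ⥤ ModSite.Mod O)
    (c : Cocone D) (hc : IsColimit c) [SheafOfModules.IsFiniteType (R := ModSite.ringSh O) c.pt] :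
    (∃ i : I, Epi (c.ι.app i)) ∧
      ((∀ (i j : I) (f : i ⟶ j), Mono (D.map f)) → ∃ i : I, IsIso (c.ι.app i)) := by
  obtain ⟨i₀, hi₀⟩ : ∃ i : I, Epi (c.ι.app i) := by
    have h : ∀ x : X, ∃ (i : I) (U : Opens X), x ∈ U ∧ ∀ j, i ≤ j → ∀ W : Opens X, W ≤ U →
        ∀ (s : ModSite.sect c.pt W), ∀ y ∈ W, ∃ (V : Opens X) (e : V ≤ W), y ∈ V ∧
          ∃ g : ModSite.sect (D.obj j) V, (c.ι.app j).val.app (op V) g = mres c.pt e s := fun x => by
      obtain ⟨U, n, t, hxU, ht⟩ := RSpaceFT.exists_gens' (F := c.pt) x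
      choose i V e hxV g hg using fun k => RSpaceFT.exists_stage_near hc (t k) hxU
      obtain ⟨i₀, hi⟩ := Finite.exists_le i
      obtain ⟨U', hxU', hU', hUV⟩ := RSpaceFT.exists_common_nhd x V hxV U hxU
      refine ⟨i₀, U', hxU', fun j hj W hW s y hy => ?_⟩
      obtain ⟨V', e', hyV', a, ha⟩ := ht W (hW.trans hU') s y hy
      refine ⟨V', e', hyV', ∑ k, a k • mres (D.obj j) ((e'.trans hW).trans (hUV k))
        ((D.map (homOfLE ((hi k).trans hj))).val.app (op (V k)) (g k)), ?_⟩
      rw [mapp_sum_smul, ← ha]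
      refine Finset.sum_congr rfl fun k _ => congrArg (a k • ·) ?_
      refine (mapp_res _ (c.ι.app j) _ _).trans ?_
      refine (congrArg (mres c.pt _) (a₂ := mres c.pt (e k) (t k)) ?_).trans (mres_mres c.pt _ _ _)
      exact (congrArg (fun f : D.obj (i k) ⟶ c.pt => f.val.app (op (V k)) (g k))
        (c.w (homOfLE ((hi k).trans hj)))).trans (hg k)
    choose i U hxU h using h
    obtain ⟨T, hT⟩ := isCompact_univ.elim_finite_subcover (fun x => (U x : Set X)) (fun x => (U x).2)
      (fun y _ => Set.mem_iUnion.mpr ⟨y, hxU y⟩)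
    obtain ⟨j, hj⟩ := Finite.exists_le (fun x : T => i x)
    refine ⟨j, RSpaceFT.epi_of_preimage _ fun W s y hy => ?_⟩
    obtain ⟨x, hxT, hyx⟩ := Set.mem_iUnion₂.mp (hT (Set.mem_univ y))
    obtain ⟨V, e, hyV, g, hg⟩ := h x j (hj ⟨x, hxT⟩) (W ⊓ U x) inf_le_right (mres _ inf_le_left s) y ⟨hy, hyx⟩
    exact ⟨V, e.trans inf_le_left, hyV, g, hg.trans (mres_mres _ _ _ _)⟩
  refine ⟨⟨i₀, hi₀⟩, fun hmono => ⟨i₀, ?_⟩⟩
  haveI : ∀ (i j : I) (f : i ⟶ j), Mono (D.map f) := hmono
  haveI : Mono (c.ι.app i₀) := hc.mono_ι_app_of_isFiltered i₀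
  exact isIso_of_mono_of_epi _

end Groth.Agent.S6834
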