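import Groth.Statements.S6836
import Groth.Agent.RSpaceFT.Basis
import Groth.Agent.SiteBase.ModGroth

set_option autoImplicit false
universe u
open CategoryTheory CategoryTheory.Limits TopologicalSpace
open ModSite

namespace Groth.Agent.S6836
set_option backward.isDefEq.respectTransparency false
set_option backward.isDefEq.respectTransparency.types false
open Groth.Agent Groth.Agent.RSpaceFT Opposite

/-- On a ringed space (X, O), let r ≥ 0 and let φ : F → G be a map of O-modules which are both finite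
locally free of rank r (every point has an open neighbourhood U with F|_U ≅ O_U^r, the free
O_U-module on r generators, and likewise for G). Then φ is an isomorphism if and only if it is
surjective. -/
theorem result {X : TopCat.{u}} (O : TopCat.Sheaf CommRingCat.{u} X) (r : ℕ)
    {F G : ModSite.Mod O}
    (hF : ∀ x : X, ∃ U : Opens X, x ∈ U ∧
      Nonempty ((ModSite.restr O U).obj F ≅ SheafOfModules.free (ULift.{u} (Fin r))))
    (hG : ∀ x : X, ∃ U : Opens X, x ∈ U ∧
      Nonempty ((ModSite.restr O U).obj G ≅ SheafOfModules.free (ULift.{u} (Fin r))))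
    (φ : F ⟶ G) : IsIso φ ↔ Epi φ := by
  refine ⟨fun _ => inferInstance, fun _ => ?_⟩
  haveI : Mono φ := mono_of_sect_injective φ fun W => by
    refine (injective_iff_map_eq_zero _).mpr fun s hs => eq_of_locally F fun y hy => ?_
    obtain ⟨U₁, hy₁, ⟨e₁⟩⟩ := hF y
    obtain ⟨U₂, hy₂, ⟨e₂⟩⟩ := hG y
    obtain ⟨t, ht⟩ := exists_basis e₁
    obtain ⟨v, hv⟩ := exists_basis e₂
    have hy₀ : y ∈ W ⊓ (U₁ ⊓ U₂) := ⟨hy, hy₁, hy₂⟩
    have i₁ : W ⊓ (U₁ ⊓ U₂) ≤ U₁ := inf_le_right.trans inf_le_left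
    have i₂ : W ⊓ (U₁ ⊓ U₂) ≤ U₂ := inf_le_right.trans inf_le_right
    choose V eV hyV g hg using fun j => exists_preimage φ (mres G i₂ (v j)) hy₀
    obtain ⟨Z₁, hyZ₁, eZ₁, hZV⟩ := exists_common_nhd y V hyV _ hy₀
    choose B eB hyB b hb using fun j => ht.gens Z₁ (eZ₁.trans i₁) (mres F (hZV j) (g j)) y hyZ₁
    choose A eA hyA a ha using fun i => hv.gens Z₁ (eZ₁.trans i₂)
      (φ.val.app (op Z₁) (mres F (eZ₁.trans i₁) (t i))) y hyZ₁
    obtain ⟨N, eN, hyN, c, hc⟩ := ht.gens Z₁ (eZ₁.trans i₁) (mres F (eZ₁.trans inf_le_left) s) y hyZ₁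
    obtain ⟨Z₂, hyZ₂, eZ₂, hZB⟩ := exists_common_nhd y B hyB N hyN
    obtain ⟨Z, hyZ, eZ, hZA⟩ := exists_common_nhd y A hyA Z₂ hyZ₂
    have j₁ : Z ≤ Z₁ := (eZ.trans eZ₂).trans eN
    let P : Matrix (ULift.{u} (Fin r)) (ULift.{u} (Fin r)) (O.obj.obj (op Z)) :=
      Matrix.of fun j i => ores O (eZ.trans (hZB j)) (b j i)
    let Q : Matrix (ULift.{u} (Fin r)) (ULift.{u} (Fin r)) (O.obj.obj (op Z)) :=
      Matrix.of fun i l => ores O (hZA i) (a i l)
    have hQ : ∀ i, ∑ l, Q i l • mres G (j₁.trans (eZ₁.trans i₂)) (v l) =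
        φ.val.app (op Z) (mres F (j₁.trans (eZ₁.trans i₁)) (t i)) := fun i => by
      have h1 := congrArg (mres G (hZA i)) (ha i)
      rw [mres_sum_smul, ← mapp_res, ← mapp_res] at h1
      simp only [mres_mres] at h1
      exact h1
    have hP : ∀ j, ∑ i, P j i • φ.val.app (op Z) (mres F (j₁.trans (eZ₁.trans i₁)) (t i)) =
        mres G (j₁.trans (eZ₁.trans i₂)) (v j) := fun j => by
      rw [← mapp_sum_smul]
      have h1 := congrArg (mres F (eZ.trans (hZB j))) (hb j)
      rw [mres_sum_smul] at h1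
      simp only [mres_mres] at h1
      refine (congrArg (φ.val.app (op Z)) h1).trans ?_
      rw [mapp_res, hg j, mres_mres, mres_mres]
    have hPQ : P * Q = 1 := by
      refine Matrix.ext fun j => congrFun (hv.ext (j₁.trans (eZ₁.trans i₂))
        (c := fun l => (P * Q) j l) (d := fun l => (1 : Matrix _ _ (O.obj.obj (op Z))) j l) ?_)
      refine Eq.trans ?_ (Eq.trans (hP j) ?_)
      · simp only [Matrix.mul_apply, Finset.sum_smul, mul_smul, ← hQ, Finset.smul_sum]
        rw [Finset.sum_comm]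
      · simp [Matrix.one_apply, ite_smul]
    have hQP : Q * P = 1 := mul_eq_one_comm.mp hPQ
    have hs' : ∑ i, ores O (eZ.trans eZ₂) (c i) • mres F (j₁.trans (eZ₁.trans i₁)) (t i) =
        mres F (j₁.trans (eZ₁.trans inf_le_left)) s := by
      have h1 := congrArg (mres F (eZ.trans eZ₂)) hc
      rw [mres_sum_smul] at h1
      simp only [mres_mres] at h1
      exact h1
    let cc : ULift.{u} (Fin r) → O.obj.obj (op Z) := fun i => ores O (eZ.trans eZ₂) (c i)
    have hcQ : ∀ l, ∑ i, cc i * Q i l = 0 := congrFun (hv.indep Z (j₁.trans (eZ₁.trans i₂))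
      (fun l => ∑ i, cc i * Q i l) (by
        have h1 := congrArg (φ.val.app (op Z)) hs'
        rw [mapp_sum_smul, mapp_res, hs, mres_zero] at h1
        refine Eq.trans ?_ h1
        simp only [cc, ← hQ, Finset.sum_smul, mul_smul, Finset.smul_sum]
        rw [Finset.sum_comm]))
    have hc0 : cc = 0 := by
      funext i
      calc cc i = ∑ k, cc k * (1 : Matrix _ _ (O.obj.obj (op Z))) k i := by simp [Matrix.one_apply]
        _ = ∑ l, (∑ k, cc k * Q k l) * P l i := by
            simp only [← hQP, Matrix.mul_apply, Finset.mul_sum, Finset.sum_mul, mul_assoc]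
            exact Finset.sum_comm
        _ = 0 := by simp [hcQ]
    refine ⟨Z, j₁.trans (eZ₁.trans inf_le_left), hyZ, ?_⟩
    rw [← hs', mres_zero]
    exact Finset.sum_eq_zero fun i _ => by rw [show ores O (eZ.trans eZ₂) (c i) = 0 from congrFun hc0 i, zero_smul]
  exact isIso_of_mono_of_epi φ

end Groth.Agent.S6836
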