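import Groth.Statements.S6839
import Groth.Agent.RSpaceFT.Basic

set_option autoImplicit false
universe u
open CategoryTheory CategoryTheory.Limits TopologicalSpace
open ModSite

namespace Groth.Agent.S6839
set_option backward.isDefEq.respectTransparency false
set_option backward.isDefEq.respectTransparency.types false
open Groth.Agent Groth.Agent.RSpaceFT Opposite

/-- On a ringed space (X, O), if 0 → F₁ → F₂ → F₃ → 0 is a short exact sequence of O-modules with F₁ and
F₃ of finite type, then F₂ is of finite type. (The first assertion of the source, that images of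
finite type modules are of finite type, is not restated.) -/
theorem result {X : TopCat.{u}} (O : TopCat.Sheaf CommRingCat.{u} X)
    (S : ShortComplex (ModSite.Mod O)) (hS : S.ShortExact) [SheafOfModules.IsFiniteType (R := ModSite.ringSh O) S.X₁]
    [SheafOfModules.IsFiniteType (R := ModSite.ringSh O) S.X₃] : SheafOfModules.IsFiniteType (R := ModSite.ringSh O) S.X₂ := by
  haveI := hS.epi_g
  refine RSpaceFT.isFiniteType_of_gens fun x => ?_
  obtain ⟨U₁, n, k, hx₁, hk⟩ := RSpaceFT.exists_gens' (F := S.X₁) x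
  obtain ⟨U₃, m, t, hx₃, ht⟩ := RSpaceFT.exists_gens' (F := S.X₃) x
  choose V e hxV b hb using fun i => RSpaceFT.exists_preimage S.g (t i) hx₃
  obtain ⟨U, hxU, hU, hUV⟩ := RSpaceFT.exists_common_nhd x V hxV (U₁ ⊓ U₃) ⟨hx₁, hx₃⟩
  have e₁ : U ≤ U₁ := hU.trans inf_le_left
  have e₃ : U ≤ U₃ := hU.trans inf_le_right
  refine ⟨U, n + m, fun j => Fin.addCases (fun i => S.f.val.app (op U) (mres S.X₁ e₁ (k ⟨i⟩)))
    (fun i => mres S.X₂ (hUV ⟨i⟩) (b ⟨i⟩)) j.down, hxU, fun W hW s y hy => ?_⟩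
  obtain ⟨W₁, f₁, hyW₁, c, hc⟩ := ht W (hW.trans e₃) (S.g.val.app (op W) s) y hy
  have hz : S.g.val.app (op W₁) (mres S.X₂ f₁ s - ∑ i, c i • mres S.X₂ ((f₁.trans hW).trans (hUV i)) (b i)) = 0 := by
    rw [map_sub, mapp_sum_smul, sub_eq_zero, mapp_res, ← hc]
    refine Finset.sum_congr rfl fun i _ => congrArg (c i • ·) ?_
    exact ((mapp_res _ S.g _ _).trans ((congrArg (mres S.X₃ _) (hb i)).trans (mres_mres S.X₃ _ _ _))).symm
  obtain ⟨W₂, f₂, hyW₂, a, ha⟩ := RSpaceFT.exists_lift_of_exact hS.exact _ hz hyW₁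
  obtain ⟨W₃, f₃, hyW₃, d, hd⟩ := hk W₂ ((f₂.trans f₁).trans (hW.trans e₁)) a y hyW₂
  refine ⟨W₃, (f₃.trans f₂).trans f₁, hyW₃,
    fun j => Fin.addCases (fun i => d ⟨i⟩) (fun i => ores O (f₃.trans f₂) (c ⟨i⟩)) j.down, ?_⟩
  rw [← Equiv.sum_comp Equiv.ulift.symm, Fin.sum_univ_add]
  simp only [Equiv.ulift_symm_down, Fin.addCases_left, Fin.addCases_right]
  have h1 := congrArg (S.f.val.app (op W₃)) hd
  rw [mapp_sum_smul, mapp_res, ha] at h1
  simp only [mres_mres, RSpaceFT.mres_sub, mres_sum_smul] at h1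
  rw [eq_sub_iff_add_eq] at h1
  refine Eq.trans ?_ h1
  refine congrArg₂ (· + ·) (Fintype.sum_equiv Equiv.ulift.symm _ _ fun i => ?_)
    (Fintype.sum_equiv Equiv.ulift.symm _ _ fun i => ?_)
  · simp only [Equiv.ulift_symm_down, mres_mres, ← mapp_res]
    rfl
  · simp only [Equiv.ulift_symm_down, mres_mres, ores_ores]
    rfl

end Groth.Agent.S6839
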