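import Groth.Statements.S6840
import Groth.Agent.RSpaceFT.HomGlue

set_option autoImplicit false
universe u
open CategoryTheory CategoryTheory.Limits TopologicalSpace
open ModSite

namespace Groth.Agent.S6840
set_option backward.isDefEq.respectTransparency false
set_option backward.isDefEq.respectTransparency.types false
open Groth.Agent Groth.Agent.RSpaceFT Opposite

/-- Let (X, O) be a ringed space such that every open covering of X is refined by a finite open covering
X = ⋃ U_j whose pairwise intersections U_j ∩ U_{j'} are quasi-compact. Let I be a directed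
preordered set (nonempty, with upper bounds), (F_i) a system of O-modules over I, and G an O-module
of finite presentation. Then colim_i Hom(G, F_i) → Hom(G, colim_i F_i) is bijective, i.e. Hom(G, −)
preserves the colimit of the system. -/
theorem result {X : TopCat.{u}} (O : TopCat.Sheaf CommRingCat.{u} X)
    (hX : ∀ (ι : Type u) (V : ι → Opens X), iSup V = ⊤ →
      ∃ (J : Type u) (_ : Finite J) (U : J → Opens X), iSup U = ⊤ ∧ (∀ j, ∃ i, U j ≤ V i) ∧
        ∀ j j', IsCompact ((U j ⊓ U j' : Opens X) : Set X))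
    {I : Type u} [Preorder I] [Nonempty I] [IsDirected I (· ≤ ·)] (D : I ⥤ ModSite.Mod O)
    (G : ModSite.Mod O) [SheafOfModules.IsFinitePresentation (R := ModSite.ringSh O) G] :
    PreservesColimit D (coyoneda.obj (Opposite.op G)) := by
  have hcX : IsCompact (Set.univ : Set X) := by
    obtain ⟨J, _, U, hU, -, hqc⟩ := hX PUnit (fun _ => ⊤) (by simp)
    have : (Set.univ : Set X) = ⋃ j, (U j : Set X) :=
      (Set.eq_univ_of_forall fun p => Set.mem_iUnion.mpr (Opens.mem_iSup.mp (hU.ge (Opens.mem_top p)))).symm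
    rw [this]
    exact isCompact_iUnion fun j => by simpa using hqc j j
  let c := colimit.cocone D
  let hc : IsColimit c := colimit.isColimit D
  haveI : IsFiltered I := inferInstance
  refine preservesColimit_of_preserves_colimit_cocone hc (Types.FilteredColimit.isColimitOf' _ _ ?_ ?_)
  · intro φ
    change G ⟶ c.pt at φ
    have hloc : ∀ x : X, ∃ (i : I) (U : Opens X) (a : (ModSite.restr O U).obj G ⟶ (ModSite.restr O U).obj (D.obj i)),
        x ∈ U ∧ ∀ (W : Opens X) (hW : W ≤ U) (s : ModSite.sect G W),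
          (c.ι.app i).val.app (op W) (onU a W hW s) = φ.val.app (op W) s := fun x => by
      obtain ⟨U₀, n, m, t, g, hx₀, hP⟩ := exists_isPres (F := G) ‹_› x
      choose i V e hxV v hv using fun k => exists_stage_near hc (φ.val.app (op U₀) (t k)) hx₀
      obtain ⟨i₁, hi₁⟩ := Finite.exists_le i
      obtain ⟨U₁, hx₁, e₁, hV⟩ := exists_common_nhd x V hxV U₀ hx₀
      let s₁ : ULift.{u} (Fin n) → ModSite.sect (D.obj i₁) U₁ := fun k =>
        mres (D.obj i₁) (hV k) ((D.map (homOfLE (hi₁ k))).val.app (op (V k)) (v k))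
      have hs₁ : ∀ k, (c.ι.app i₁).val.app (op U₁) (s₁ k) = φ.val.app (op U₁) (mres G e₁ (t k)) := fun k => by
        refine (mapp_res _ (c.ι.app i₁) _ _).trans ?_
        refine Eq.trans (congrArg (mres c.pt (hV k)) ((congrArg (fun f : D.obj (i k) ⟶ c.pt => f.val.app (op (V k)) (v k))
          (c.w (homOfLE (hi₁ k)))).trans (hv k))) ?_
        exact (mres_mres c.pt (e k) (hV k) _).trans (mapp_res _ φ e₁ (t k)).symm
      have hrel : ∀ j, (c.ι.app i₁).val.app (op U₁) (∑ k, ores O e₁ (g j k) • s₁ k) = (c.ι.app i₁).val.app (op U₁) 0 := fun j => by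
        rw [mapp_sum_smul, map_zero]
        refine Eq.trans (Finset.sum_congr rfl fun k _ => congrArg (ores O e₁ (g j k) • ·) (hs₁ k)) ?_
        refine (mapp_sum_smul G φ _ _).symm.trans ?_
        rw [← mres_sum_smul, hP.rel0, mres_zero]
        exact map_zero (φ.val.app (op U₁)).hom
      choose i₂' f₂ V₂ e₂ hxV₂ h₂ using fun j => exists_stage_eq_near hc _ _ (hrel j) hx₁
      obtain ⟨i₂'', hi₂'⟩ := Finite.exists_le i₂'
      obtain ⟨i₂, hi₂₁, hi₂''⟩ := exists_ge_ge i₁ i₂''
      have hi₂ : ∀ j, i₂' j ≤ i₂ := fun j => (hi₂' j).trans hi₂''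
      obtain ⟨U₂, hx₂, eU₂, hV₂⟩ := exists_common_nhd x V₂ hxV₂ U₁ hx₁
      have hP₂ := hP.mono (eU₂.trans e₁)
      obtain ⟨a, ha⟩ := hP₂.exists_restr_hom (G := D.obj i₂)
        (fun k => mres (D.obj i₂) eU₂ ((D.map (homOfLE hi₂₁)).val.app (op U₁) (s₁ k))) fun j => by
          have h3 := congrArg (fun z => mres (D.obj i₂) (hV₂ j) ((D.map (homOfLE (hi₂ j))).val.app (op (V₂ j)) z)) (h₂ j)
          simp only [mapp_res, mres_mres, map_zero] at h3
          have hcomp : ∀ z : ModSite.sect (D.obj i₁) U₁, (D.map (homOfLE (hi₂ j))).val.app (op U₁)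
              ((D.map (f₂ j)).val.app (op U₁) z) = (D.map (homOfLE hi₂₁)).val.app (op U₁) z := fun z => by
            rw [show homOfLE hi₂₁ = f₂ j ≫ homOfLE (hi₂ j) from Subsingleton.elim _ _, D.map_comp]
            rfl
          rw [hcomp, mres_zero, mapp_sum_smul, mres_sum_smul] at h3
          simp only [ores_ores] at h3
          exact h3
      refine ⟨i₂, U₂, a, hx₂, fun W hW s => ?_⟩
      refine onU_ext hP₂.gen hW (fun V hV z => (c.ι.app i₂).val.app (op V) (onU a V (hV.trans hW) z))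
        (fun V _ z => φ.val.app (op V) z) ?_ ?_ ?_ ?_ ?_ s
      · intro V V' e' hV z
        rw [onU_res a (hV.trans hW) e', mapp_res]
      · intro V V' e' hV z
        exact mapp_res _ φ e' z
      · intro V hV d z
        rw [onU_sum_smul, mapp_sum_smul]
      · intro V hV d z
        exact mapp_sum_smul G φ _ _
      · intro V hV k
        show (c.ι.app i₂).val.app (op V) (onU a V (hV.trans hW) (mres G (hV.trans hW) (mres G (eU₂.trans e₁) (t k)))) = _
        rw [onU_res a le_rfl (hV.trans hW), onU_self, ha, mapp_res, mapp_res]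
        refine Eq.trans (congrArg (fun z => mres c.pt (hV.trans hW) (mres c.pt eU₂ z))
          ((congrArg (fun f : D.obj i₁ ⟶ c.pt => f.val.app (op U₁) (s₁ k)) (c.w (homOfLE hi₂₁))).trans (hs₁ k))) ?_
        rw [mres_mres, ← mapp_res, mres_mres, mres_mres]
    choose i U a hxU ha using hloc
    obtain ⟨J, _, W, hW, href, hqc⟩ := hX X U (eq_top_iff.mpr fun x _ => Opens.mem_iSup.mpr ⟨x, hxU x⟩)
    choose x hWx using href
    obtain ⟨i₁, hi₁⟩ := Finite.exists_le (fun j => i (x j))
    let b : ∀ j, ∀ (V : Opens X), V ≤ W j → ModSite.sect G V → ModSite.sect (D.obj i₁) V := fun j V hV s =>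
      (D.map (homOfLE (hi₁ j))).val.app (op V) (onU (a (x j)) V (hV.trans (hWx j)) s)
    have hb : ∀ j V hV s, (c.ι.app i₁).val.app (op V) (b j V hV s) = φ.val.app (op V) s := fun j V hV s =>
      (congrArg (fun f : D.obj (i (x j)) ⟶ c.pt => f.val.app (op V) (onU (a (x j)) V (hV.trans (hWx j)) s))
        (c.w (homOfLE (hi₁ j)))).trans (ha (x j) V (hV.trans (hWx j)) s)
    have hbres : ∀ j V V' (e : V' ≤ V) (hV : V ≤ W j) s,
        b j V' (e.trans hV) (mres G e s) = mres (D.obj i₁) e (b j V hV s) := fun j V V' e hV s => by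
      simp only [b]
      rw [onU_res (a (x j)) (hV.trans (hWx j)) e, mapp_res]
    have hover : ∀ p : J × J, ∃ (i₂ : I) (h₁₂ : i₁ ≤ i₂), ∀ (V : Opens X) (h₁ : V ≤ W p.1) (h₂ : V ≤ W p.2) (s : ModSite.sect G V),
        (D.map (homOfLE h₁₂)).val.app (op V) (b p.1 V h₁ s) = (D.map (homOfLE h₁₂)).val.app (op V) (b p.2 V h₂ s) := by
      intro p
      have hpt : ∀ y : (W p.1 ⊓ W p.2 : Opens X), ∃ (i₂ : I) (N : Opens X), i₁ ≤ i₂ ∧ (y : X) ∈ N ∧
          ∀ (i₃ : I) (h₁₃ : i₁ ≤ i₃), i₂ ≤ i₃ → ∀ (V : Opens X) (h₁ : V ≤ W p.1) (h₂ : V ≤ W p.2), V ≤ N →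
            ∀ s : ModSite.sect G V,
            (D.map (homOfLE h₁₃)).val.app (op V) (b p.1 V h₁ s) = (D.map (homOfLE h₁₃)).val.app (op V) (b p.2 V h₂ s) := by
        rintro ⟨y, hy⟩
        obtain ⟨U₁, n, t, hy₁, ht⟩ := exists_gens' (F := G) y
        have hy₀ : y ∈ (W p.1 ⊓ W p.2) ⊓ U₁ := ⟨hy, hy₁⟩
        let t₀ : ULift.{u} (Fin n) → ModSite.sect G ((W p.1 ⊓ W p.2) ⊓ U₁) := fun k => mres G inf_le_right (t k)
        choose i₂' f₂ V₂ e₂ hyV₂ h₂ using fun k => exists_stage_eq_near hc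
          (b p.1 _ (inf_le_left.trans inf_le_left) (t₀ k)) (b p.2 _ (inf_le_left.trans inf_le_right) (t₀ k))
          ((hb p.1 _ (inf_le_left.trans inf_le_left) (t₀ k)).trans (hb p.2 _ (inf_le_left.trans inf_le_right) (t₀ k)).symm) hy₀
        obtain ⟨i₂'', hi₂'⟩ := Finite.exists_le i₂'
        obtain ⟨i₂, hi₂₁, hi₂''⟩ := exists_ge_ge i₁ i₂''
        obtain ⟨N, hyN, eN, hNV⟩ := exists_common_nhd y V₂ hyV₂ _ hy₀
        refine ⟨i₂, N, hi₂₁, hyN, fun i₃ h₁₃ h₂₃ V h₁ h₂' hVN s => ?_⟩
        refine onU_ext (ht.mono (eN.trans inf_le_right)) hVN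
          (fun V' hV' z => (D.map (homOfLE h₁₃)).val.app (op V') (b p.1 V' (hV'.trans h₁) z))
          (fun V' hV' z => (D.map (homOfLE h₁₃)).val.app (op V') (b p.2 V' (hV'.trans h₂') z)) ?_ ?_ ?_ ?_ ?_ s
        · intro A A' e' hA z
          rw [hbres p.1 A A' e' (hA.trans h₁), mapp_res]
        · intro A A' e' hA z
          rw [hbres p.2 A A' e' (hA.trans h₂'), mapp_res]
        · intro A hA d z
          simp only [b, onU_sum_smul, mapp_sum_smul]
        · intro A hA d z
          simp only [b, onU_sum_smul, mapp_sum_smul]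
        · intro A hA k
          have eA : A ≤ (W p.1 ⊓ W p.2) ⊓ U₁ := (hA.trans hVN).trans eN
          have e₀ : mres G (hA.trans hVN) (mres G (eN.trans inf_le_right) (t k)) = mres G eA (t₀ k) := by
            simp only [t₀, mres_mres]
          rw [e₀, hbres p.1 _ A eA (inf_le_left.trans inf_le_left), hbres p.2 _ A eA (inf_le_left.trans inf_le_right),
            mapp_res, mapp_res]
          have hik : i₂' k ≤ i₃ := ((hi₂' k).trans hi₂'').trans h₂₃
          have h3 := congrArg (fun z => mres (D.obj i₃) ((hA.trans hVN).trans (hNV k))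
            ((D.map (homOfLE hik)).val.app (op (V₂ k)) z)) (h₂ k)
          simp only [mapp_res, mres_mres] at h3
          have hcomp : ∀ z : ModSite.sect (D.obj i₁) ((W p.1 ⊓ W p.2) ⊓ U₁),
              (D.map (homOfLE hik)).val.app (op _) ((D.map (f₂ k)).val.app (op _) z) =
                (D.map (homOfLE h₁₃)).val.app (op _) z := fun z => by
            rw [show homOfLE h₁₃ = f₂ k ≫ homOfLE hik from Subsingleton.elim _ _, D.map_comp]
            rfl
          rw [hcomp, hcomp] at h3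
          exact h3
      choose i₂ N h₁₂ hyN hN using hpt
      obtain ⟨T, hT⟩ := (hqc p.1 p.2).elim_finite_subcover (fun y => (N y : Set X)) (fun y => (N y).2)
        fun y hy => Set.mem_iUnion.mpr ⟨⟨y, hy⟩, hyN ⟨y, hy⟩⟩
      obtain ⟨i₃', hi₃'⟩ := Finite.exists_le (fun y : T => i₂ y)
      obtain ⟨i₃, hi₃₁, hi₃''⟩ := exists_ge_ge i₁ i₃'
      refine ⟨i₃, hi₃₁, fun V h₁ h₂ s => eq_of_locally _ fun y hy => ?_⟩
      obtain ⟨q, hqT, hyq⟩ := Set.mem_iUnion₂.mp (hT ⟨h₁ hy, h₂ hy⟩)
      refine ⟨V ⊓ N q, inf_le_left, ⟨hy, hyq⟩, ?_⟩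
      rw [← mapp_res _ (D.map (homOfLE hi₃₁)), ← mapp_res _ (D.map (homOfLE hi₃₁)), ← hbres p.1 V _ inf_le_left h₁,
        ← hbres p.2 V _ inf_le_left h₂]
      exact hN q i₃ hi₃₁ ((hi₃' ⟨q, hqT⟩).trans hi₃'') (V ⊓ N q) (inf_le_left.trans h₁) (inf_le_left.trans h₂) inf_le_right _
    choose i₂ h₁₂ h₂ using hover
    obtain ⟨i₃', hi₃'⟩ := Finite.exists_le i₂
    obtain ⟨i₃, hi₃₁, hi₃''⟩ := exists_ge_ge i₁ i₃'
    let A : ∀ j, (ModSite.restr O (W j)).obj G ⟶ (ModSite.restr O (W j)).obj (D.obj i₃) := fun j =>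
      ⟨PresheafOfModules.homMk
        { app := fun V => AddCommGrpCat.ofHom (AddMonoidHom.mk'
            (fun s => (D.map (homOfLE hi₃₁)).val.app (op V.unop.left) (b j V.unop.left V.unop.hom.le s)) fun s s' => by
              simp only [b]
              exact (congrArg ((D.map (homOfLE hi₃₁)).val.app (op V.unop.left)) ((congrArg
                ((D.map (homOfLE (hi₁ j))).val.app (op V.unop.left))
                (map_add ((a (x j)).val.app (op (Over.mk (homOfLE (V.unop.hom.le.trans (hWx j)))))).hom s s')).trans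
                (map_add _ _ _))).trans (map_add _ _ _))
          naturality := fun V V' e => AddCommGrpCat.ext fun s =>
            (congrArg ((D.map (homOfLE hi₃₁)).val.app (op V'.unop.left))
              (hbres j _ _ e.unop.left.le V.unop.hom.le s)).trans (mapp_res _ _ e.unop.left.le _) }
        fun V r s => by
          show (D.map (homOfLE hi₃₁)).val.app (op V.unop.left) ((D.map (homOfLE (hi₁ j))).val.app (op V.unop.left)
            ((a (x j)).val.app (op (Over.mk (homOfLE (V.unop.hom.le.trans (hWx j))))) (r • s))) = _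
          refine (congrArg (fun z => (D.map (homOfLE hi₃₁)).val.app (op V.unop.left)
            ((D.map (homOfLE (hi₁ j))).val.app (op V.unop.left) z))
            (map_smul ((a (x j)).val.app (op (Over.mk (homOfLE (V.unop.hom.le.trans (hWx j)))))).hom r s)).trans ?_
          refine (congrArg (fun z => (D.map (homOfLE hi₃₁)).val.app (op V.unop.left) z)
            (map_smul ((D.map (homOfLE (hi₁ j))).val.app (op V.unop.left)).hom r _)).trans ?_
          exact map_smul ((D.map (homOfLE hi₃₁)).val.app (op V.unop.left)).hom r _⟩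
    have hA : ∀ j V hV s, onU (A j) V hV s = (D.map (homOfLE hi₃₁)).val.app (op V) (b j V hV s) := fun _ _ _ _ => rfl
    obtain ⟨α, hα⟩ := exists_hom_glue W hW A fun j j' V h₁ h₂' s => by
      rw [hA, hA]
      have h3 := congrArg ((D.map (homOfLE ((hi₃' (j, j')).trans hi₃''))).val.app (op V)) (h₂ (j, j') V h₁ h₂' s)
      rw [show homOfLE hi₃₁ = homOfLE (h₁₂ (j, j')) ≫ homOfLE ((hi₃' (j, j')).trans hi₃'') from Subsingleton.elim _ _,
        D.map_comp]
      exact h3
    refine ⟨i₃, α, ?_⟩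
    change φ = α ≫ c.ι.app i₃
    refine SheafOfModules.hom_ext (PresheafOfModules.hom_ext fun V => ModuleCat.hom_ext (LinearMap.ext fun s => ?_))
    refine eq_of_locally c.pt fun y hy => ?_
    obtain ⟨j, hj⟩ := Opens.mem_iSup.mp (hW.ge (Opens.mem_top y))
    refine ⟨V.unop ⊓ W j, inf_le_left, ⟨hy, hj⟩, ?_⟩
    show mres c.pt inf_le_left (φ.val.app (op V.unop) s) =
      mres c.pt inf_le_left ((c.ι.app i₃).val.app (op V.unop) (α.val.app (op V.unop) s))
    let ι₃ : D.obj i₃ ⟶ c.pt := c.ι.app i₃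
    show mres c.pt inf_le_left (φ.val.app (op V.unop) s) =
      mres c.pt inf_le_left (ι₃.val.app (op V.unop) (α.val.app (op V.unop) s))
    rw [← mapp_res _ ι₃, ← mapp_res _ α, ← mapp_res _ φ, hα j _ inf_le_right, hA]
    exact ((congrArg (fun f : D.obj i₁ ⟶ c.pt => f.val.app (op (V.unop ⊓ W j)) (b j (V.unop ⊓ W j) inf_le_right (mres G inf_le_left s)))
      (c.w (homOfLE hi₃₁))).trans (hb j (V.unop ⊓ W j) inf_le_right (mres G inf_le_left s))).symm
  · intro i f f' hff
    change f ≫ c.ι.app i = f' ≫ c.ι.app i at hff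
    have hpt : ∀ y : X, ∃ (i₂ : I) (N : Opens X), y ∈ N ∧ i ≤ i₂ ∧ ∀ (i₃ : I) (h : i ≤ i₃), i₂ ≤ i₃ →
        ∀ (V : Opens X), V ≤ N → ∀ s : ModSite.sect G V,
        (D.map (homOfLE h)).val.app (op V) (f.val.app (op V) s) = (D.map (homOfLE h)).val.app (op V) (f'.val.app (op V) s) := by
      intro y
      obtain ⟨U, n, t, hyU, ht⟩ := exists_gens' (F := G) y
      choose i₂' f₂ V₂ e₂ hyV₂ h₂ using fun k => exists_stage_eq_near hc (f.val.app (op U) (t k)) (f'.val.app (op U) (t k))
        (congrArg (fun g : G ⟶ c.pt => g.val.app (op U) (t k)) hff) hyU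
      obtain ⟨i₂'', hi₂'⟩ := Finite.exists_le i₂'
      obtain ⟨i₂, hi₂₁, hi₂''⟩ := exists_ge_ge i i₂''
      obtain ⟨N, hyN, eN, hNV⟩ := exists_common_nhd y V₂ hyV₂ U hyU
      refine ⟨i₂, N, hyN, hi₂₁, fun i₃ h₁₃ h₂₃ V hVN s => ?_⟩
      refine onU_ext (ht.mono eN) hVN (fun V' _ z => (D.map (homOfLE h₁₃)).val.app (op V') (f.val.app (op V') z))
        (fun V' _ z => (D.map (homOfLE h₁₃)).val.app (op V') (f'.val.app (op V') z)) ?_ ?_ ?_ ?_ ?_ s
      · intro A A' e' _ z
        simp only [mapp_res]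
      · intro A A' e' _ z
        simp only [mapp_res]
      · intro A hA d z
        simp only [mapp_sum_smul]
      · intro A hA d z
        simp only [mapp_sum_smul]
      · intro A hA k
        have hik : i₂' k ≤ i₃ := ((hi₂' k).trans hi₂'').trans h₂₃
        have h3 := congrArg (fun z => mres (D.obj i₃) ((hA.trans hVN).trans (hNV k))
          ((D.map (homOfLE hik)).val.app (op (V₂ k)) z)) (h₂ k)
        simp only [mapp_res, mres_mres] at h3
        have hcomp : ∀ z : ModSite.sect (D.obj i) U, (D.map (homOfLE hik)).val.app (op _) ((D.map (f₂ k)).val.app (op _) z) =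
            (D.map (homOfLE h₁₃)).val.app (op _) z := fun z => by
          rw [show homOfLE h₁₃ = f₂ k ≫ homOfLE hik from Subsingleton.elim _ _, D.map_comp]
          rfl
        rw [hcomp, hcomp] at h3
        simp only [mres_mres, mapp_res]
        exact h3
    choose i₂ N hyN h₁₂ hN using hpt
    obtain ⟨T, hT⟩ := hcX.elim_finite_subcover (fun y => (N y : Set X)) (fun y => (N y).2)
      fun y _ => Set.mem_iUnion.mpr ⟨y, hyN y⟩
    obtain ⟨i₃', hi₃'⟩ := Finite.exists_le (fun y : T => i₂ y)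
    obtain ⟨i₃, hi₃₁, hi₃''⟩ := exists_ge_ge i i₃'
    refine ⟨i₃, homOfLE hi₃₁, ?_⟩
    show f ≫ D.map (homOfLE hi₃₁) = f' ≫ D.map (homOfLE hi₃₁)
    refine SheafOfModules.hom_ext (PresheafOfModules.hom_ext fun V => ModuleCat.hom_ext (LinearMap.ext fun s => ?_))
    refine eq_of_locally (D.obj i₃) fun y hy => ?_
    obtain ⟨q, hqT, hyq⟩ := Set.mem_iUnion₂.mp (hT (Set.mem_univ y))
    refine ⟨V.unop ⊓ N q, inf_le_left, ⟨hy, hyq⟩, ?_⟩
    show mres _ inf_le_left ((D.map (homOfLE hi₃₁)).val.app (op V.unop) (f.val.app (op V.unop) s)) =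
      mres _ inf_le_left ((D.map (homOfLE hi₃₁)).val.app (op V.unop) (f'.val.app (op V.unop) s))
    simp only [← mapp_res]
    exact hN q i₃ hi₃₁ ((hi₃' ⟨q, hqT⟩).trans hi₃'') _ inf_le_right _

end Groth.Agent.S6840
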