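import Groth.Statements.S6842
import Groth.Agent.SiteBase.CoprodSect

set_option autoImplicit false
set_option backward.isDefEq.respectTransparency false
set_option backward.isDefEq.respectTransparency.types false
universe u
open CategoryTheory CategoryTheory.Limits TopologicalSpace
open ModSite

open Groth.Agent

namespace Groth.Agent.S6842

/-- Let (X, O) be a ringed space, (F_i)_{i ∈ I} a family of O-modules and U ⊆ X a quasi-compact open.
Then the canonical map ⊕_i F_i(U) → (⊕_i F_i)(U) is bijective: every section of the direct sum over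
U is a finite sum of images of sections of the F_i over U (surjectivity), and such a finite sum
vanishes only if each term's section is zero (injectivity). -/
theorem result {X : TopCat.{u}} (O : TopCat.Sheaf CommRingCat.{u} X)
    {I : Type u} (F : I → ModSite.Mod O) [HasCoproduct F] (U : Opens X) (hU : IsCompact (U : Set X)) :
    (∀ s : ModSite.sect (∐ F) U, ∃ (S : Finset I) (t : ∀ i, ModSite.sect (F i) U),
        s = ∑ i ∈ S, ((Sigma.ι F i).val.app (Opposite.op U)).hom (t i)) ∧
      ∀ (S : Finset I) (t : ∀ i, ModSite.sect (F i) U),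
        ∑ i ∈ S, ((Sigma.ι F i).val.app (Opposite.op U)).hom (t i) = 0 → ∀ i ∈ S, t i = 0 := by
  classical
  let π : ∀ i, (∐ F) ⟶ F i := fun i => Sigma.desc fun j => if h : j = i then eqToHom (congrArg F h) else 0
  have hπ : ∀ i j (V : Opens X) (x : ModSite.sect (F j) V),
      ((π i).val.app (Opposite.op V)).hom (((Sigma.ι F j).val.app (Opposite.op V)).hom x) =
        if h : j = i then (h ▸ x : ModSite.sect (F i) V) else 0 := by
    intro i j V x
    have e : Sigma.ι F j ≫ π i = if h : j = i then eqToHom (congrArg F h) else 0 := Sigma.ι_desc _ _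
    change ((Sigma.ι F j ≫ π i).val.app (Opposite.op V)).hom x = _
    rw [e]
    by_cases h : j = i
    · subst h; simp
    · rw [dif_neg h, dif_neg h]; rfl
  have hsum : ∀ (V : Opens X) (S : Finset I) (t : ∀ i, ModSite.sect (F i) V) (i : I), i ∈ S →
      ((π i).val.app (Opposite.op V)).hom (∑ j ∈ S, ((Sigma.ι F j).val.app (Opposite.op V)).hom (t j)) = t i := by
    intro V S t i hi
    rw [map_sum, Finset.sum_eq_single i]
    · rw [hπ]; simp
    · intro j _ hji; rw [hπ]; simp [hji]
    · intro h; exact absurd hi h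
  refine ⟨fun s => ?_, fun S t h i hi => ?_⟩
  swap
  · rw [← hsum U S t i hi, h, map_zero]
  obtain ⟨T, hT, hTs⟩ := SiteBase.coprod_locally_sum F U s
  have hT' : ∀ x ∈ U, ∃ (V : Opens X) (g : V ⟶ U), T g ∧ x ∈ V := fun x hx => hT x hx
  choose V g hg hxV using hT'
  obtain ⟨K, hK⟩ := hU.elim_finite_subcover (fun x : U => ((V x.1 x.2 : Opens X) : Set X)) (fun x => (V x.1 x.2).2)
    (fun x hx => Set.mem_iUnion.2 ⟨⟨x, hx⟩, hxV x hx⟩)
  choose S a ha using fun x : U => hTs (g x.1 x.2) (hg x.1 x.2)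
  refine ⟨K.biUnion S, fun i => ((π i).val.app (Opposite.op U)).hom s, ?_⟩
  refine TopCat.Sheaf.eq_of_locally_eq' ((SheafOfModules.toSheaf (ModSite.ringSh O)).obj (∐ F))
    (fun x : K => V x.1.1 x.1.2) U (fun x => g x.1.1 x.1.2) (fun y hy => ?_) _ _ fun x => ?_
  · obtain ⟨z, hz, hyz⟩ := Set.mem_iUnion₂.1 (hK hy)
    exact Opens.mem_iSup.2 ⟨⟨z, hz⟩, hyz⟩
  show ((∐ F).val.map (g x.1.1 x.1.2).op).hom s = ((∐ F).val.map (g x.1.1 x.1.2).op).hom _
  refine Eq.trans ?_ (map_sum ((∐ F).val.map (g x.1.1 x.1.2).op).hom _ _).symm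
  have hnat : ∀ i, ((∐ F).val.map (g x.1.1 x.1.2).op).hom (((Sigma.ι F i).val.app (Opposite.op U)).hom
      (((π i).val.app (Opposite.op U)).hom s)) =
      ((Sigma.ι F i).val.app (Opposite.op (V x.1.1 x.1.2))).hom (((π i).val.app (Opposite.op (V x.1.1 x.1.2))).hom
        (((∐ F).val.map (g x.1.1 x.1.2).op).hom s)) := fun i =>
    ((PresheafOfModules.naturality_apply ((π i ≫ Sigma.ι F i).val) (g x.1.1 x.1.2).op s)).symm
  rw [Finset.sum_congr rfl fun i _ => hnat i]
  have hsub : S x.1 ⊆ K.biUnion S := Finset.subset_biUnion_of_mem S x.2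
  rw [← Finset.sum_subset hsub fun i _ hi => ?_]
  · exact (ha x.1).trans (Finset.sum_congr rfl fun i hi => by rw [ha x.1, hsum _ _ _ i hi])
  · rw [ha x.1, map_sum, Finset.sum_eq_zero, map_zero]
    intro j hj
    rw [hπ, dif_neg]
    rintro rfl; exact hi hj

end Groth.Agent.S6842
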