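import Groth.Statements.S6846
import Groth.Agent.RSpaceFT.Basic

set_option autoImplicit false
universe u
open CategoryTheory CategoryTheory.Limits TopologicalSpace
open ModSite

namespace Groth.Agent.S6846
set_option backward.isDefEq.respectTransparency false
set_option backward.isDefEq.respectTransparency.types false
open Groth.Agent Groth.Agent.RSpaceFT Opposite

/-- Let i : (Z, O_Z) → (X, O_X) be a morphism of ringed spaces. Suppose the underlying continuous map
embeds Z homeomorphically as a closed subset of X, and that the comorphism i♯ : O_X → i_*O_Z is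
surjective as a map of sheaves (locally surjective). Then, given any O_Z-module F, finite type of F
is equivalent to finite type of the pushforward O_X-module i_*F. -/
theorem result {Z X : TopCat.{u}} (i : Z ⟶ X)
    (O_Z : TopCat.Sheaf CommRingCat.{u} Z) (O_X : TopCat.Sheaf CommRingCat.{u} X)
    (c : O_X ⟶ ((TopologicalSpace.Opens.map i).sheafPushforwardContinuous CommRingCat.{u}
      (Opens.grothendieckTopology X) (Opens.grothendieckTopology Z)).obj O_Z)
    (hi : Topology.IsClosedEmbedding i) (hc : Sheaf.IsLocallySurjective c) (F : ModSite.Mod O_Z) :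
    SheafOfModules.IsFiniteType (R := ModSite.ringSh O_X)
        ((ModSite.RMor.ofFlat (TopologicalSpace.Opens.map i) c).push.obj F) ↔
      SheafOfModules.IsFiniteType (R := ModSite.ringSh O_Z) F := by
  refine ⟨fun h => ?_, fun h => ?_⟩
  · refine isFiniteType_of_gens fun z => ?_
    haveI := h
    obtain ⟨U, n, t, hzU, ht⟩ := exists_gens' (F := (ModSite.RMor.ofFlat (TopologicalSpace.Opens.map i) c).push.obj F) (i.hom z)
    refine ⟨(Opens.map i).obj U, n, t, hzU, fun W' hW' s y hy => ?_⟩
    obtain ⟨W₀, hW₀, hW'eq⟩ := hi.isInducing.isOpen_iff.mp W'.2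
    let W : Opens X := ⟨W₀, hW₀⟩ ⊓ U
    have e1 : (Opens.map i).obj W ≤ W' := fun p hp => hW'eq.le hp.1
    obtain ⟨V, e, hyV, a, ha⟩ := ht W inf_le_right (mres F e1 s) (i.hom y) ⟨hW'eq.ge hy, hW' hy⟩
    refine ⟨(Opens.map i).obj V, fun p hp => e1 (e hp), hyV, fun k => (c.hom.app (op V)).hom (a k), ?_⟩
    refine Eq.trans ?_ (ha.trans (mres_mres F e1 (fun p hp => e hp) s))
    rfl
  · refine isFiniteType_of_gens fun x => ?_
    haveI := h
    have hzero : ∀ (V : Opens X), (∀ z, i.hom z ∉ V) → ∀ s s' : ModSite.sect F ((Opens.map i).obj V), s = s' :=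
      fun V hV s s' => eq_of_locally F fun p hp => absurd hp (hV p)
    let K : Opens X := ⟨(Set.range i.hom)ᶜ, hi.isClosed_range.isOpen_compl⟩
    by_cases hx : x ∈ K
    · refine ⟨K, 0, fun k => Fin.elim0 k.down, hx, fun W hW s y hy => ⟨W, le_rfl, hy, fun k => Fin.elim0 k.down, ?_⟩⟩
      exact hzero W (fun z hz => hW hz ⟨z, rfl⟩) _ _
    · obtain ⟨z, rfl⟩ := not_not.mp hx
      obtain ⟨U', n, t, hzU', ht⟩ := exists_gens' (F := F) z
      obtain ⟨U₀, hU₀, hU'eq⟩ := hi.isInducing.isOpen_iff.mp U'.2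
      have eU : (Opens.map i).obj (⟨U₀, hU₀⟩ : Opens X) ≤ U' := fun p hp => hU'eq.le hp
      refine ⟨⟨U₀, hU₀⟩, n, fun k => mres F eU (t k), hU'eq.ge hzU', fun W hW s y hy => ?_⟩
      by_cases hy' : y ∈ K
      · refine ⟨W ⊓ K, inf_le_left, ⟨hy, hy'⟩, fun k => 0, ?_⟩
        exact hzero (W ⊓ K) (fun z hz => hz.2 ⟨z, rfl⟩) _ _
      · obtain ⟨z', rfl⟩ := not_not.mp hy'
        have hW'' : (Opens.map i).obj W ≤ U' := fun p hp => eU (hW hp)
        obtain ⟨V', e', hzV', a, ha⟩ := ht _ hW'' s z' hy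
        obtain ⟨V₀, hV₀, hV'eq⟩ := hi.isInducing.isOpen_iff.mp V'.2
        let V : Opens X := W ⊓ ⟨V₀, hV₀⟩
        have eV : (Opens.map i).obj V ≤ V' := fun p hp => hV'eq.le hp.2
        choose B eB hyB b hb using fun k => (by
          obtain ⟨B, f, ⟨b, hb⟩, hyB⟩ := Presheaf.imageSieve_mem (Opens.grothendieckTopology X) c.hom
            (U := op V) (ores O_Z eV (a k)) (i.hom z') ⟨hy, hV'eq.ge hzV'⟩
          exact ⟨B, f.le, hyB, b, hb⟩ : ∃ (B : Opens X) (e : B ≤ V), i.hom z' ∈ B ∧ ∃ b : O_X.obj.obj (op B),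
            (c.hom.app (op B)).hom b = ores O_Z (fun p hp => e hp) (ores O_Z eV (a k)))
        obtain ⟨N, hyN, eN, hNB⟩ := exists_common_nhd (i.hom z') B hyB V ⟨hy, hV'eq.ge hzV'⟩
        refine ⟨N, eN.trans inf_le_left, hyN, fun k => ores O_X (hNB k) (b k), ?_⟩
        have h1 := congrArg (mres F (show (Opens.map i).obj N ≤ V' from fun p hp => eV (eN hp))) ha
        rw [mres_sum_smul] at h1
        simp only [mres_mres] at h1
        refine Eq.trans (Finset.sum_congr rfl fun k _ => ?_) h1
        have h2 : (c.hom.app (op N)).hom (ores O_X (hNB k) (b k)) =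
            ores O_Z (fun p hp => eV (eN hp)) (a k) := by
          refine (congr($(c.hom.naturality (homOfLE (hNB k)).op).hom (b k))).trans ?_
          refine (congrArg (ores O_Z (fun p hp => hNB k hp)) (hb k)).trans ?_
          rw [ores_ores, ores_ores]
          rfl
        show (show O_Z.obj.obj (op ((Opens.map i).obj N)) from (c.hom.app (op N)).hom (ores O_X (hNB k) (b k))) •
          mres F (show (Opens.map i).obj N ≤ (Opens.map i).obj (⟨U₀, hU₀⟩ : Opens X) from
            fun p hp => hW (eN hp).1) (mres F eU (t k)) = _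
        rw [h2, mres_mres]

end Groth.Agent.S6846
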