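import Groth.Statements.S6849
import Groth.Agent.RSpaceFT.Rank

set_option autoImplicit false
universe u
open CategoryTheory CategoryTheory.Limits TopologicalSpace
open ModSite

namespace Groth.Agent.S6849
set_option backward.isDefEq.respectTransparency false
set_option backward.isDefEq.respectTransparency.types false
open Groth.Agent Groth.Agent.RSpaceFT Opposite

/-- Let (X, O) be a ringed space all of whose stalks O_{X,x} are local rings, H a finite locally free
O-module (every point has an open neighbourhood U with H|_U ≅ O_U^n, the free O_U-module on n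
generators, for some n) and F a direct summand of H (maps F → H → F composing to the identity). Then
F is finite locally free. -/
theorem result {X : TopCat.{u}}
    (O : TopCat.Sheaf CommRingCat.{u} X) (hO : ∀ x : X, IsLocalRing (O.presheaf.stalk x)) {F H : ModSite.Mod O}
    (hH : ∀ x : X, ∃ (U : Opens X) (n : ℕ), x ∈ U ∧
      Nonempty ((ModSite.restr O U).obj H ≅ SheafOfModules.free (ULift.{u} (Fin n))))
    (i : F ⟶ H) (p : H ⟶ F) (hip : i ≫ p = 𝟙 F) (x : X) :
    ∃ (U : Opens X) (n : ℕ), x ∈ U ∧
      Nonempty ((ModSite.restr O U).obj F ≅ SheafOfModules.free (ULift.{u} (Fin n))) := by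
  haveI hlr := isLocalRing_stalkRing (O := O) (hO x)
  haveI : IsSplitEpi p := IsSplitEpi.mk' ⟨i, hip⟩
  have hFP : SheafOfModules.IsFinitePresentation.{u} (R := ModSite.ringSh O) F := by
    refine isFinitePresentation_of_isPres fun y => ?_
    obtain ⟨U, n, hyU, ⟨e⟩⟩ := hH y
    obtain ⟨t, ht⟩ := exists_basis e
    choose A eA hyA a ha using fun l => ht.gens U le_rfl ((𝟙 H - p ≫ i).val.app (op U) (t l)) y hyU
    obtain ⟨V, hyV, eV, hVA⟩ := exists_common_nhd y A hyA U hyU
    have hP : IsPres H U t (fun j : ULift.{u} (Fin 0) => Fin.elim0 j.down) := by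
      refine ⟨fun j => Fin.elim0 j.down, ht.gens, fun W hW c hc z hz => ⟨W, le_rfl, hz, fun j => Fin.elim0 j.down, fun l => ?_⟩⟩
      rw [ht.indep W hW c hc]
      simp
    refine ⟨V, _, _, _, _, hyV, IsPres.coker (𝟙 H - p ≫ i) p
      (by rw [Preadditive.sub_comp, Category.assoc, hip, Category.id_comp, Category.comp_id, sub_self])
      (fun W b hb z hz => ⟨W, le_rfl, hz, b, ?_⟩) (hP.mono eV) (ht.gens.mono eV) (fun l j => ores O (hVA l) (a l j)) fun l => ?_⟩
    · rw [mres_rfl]
      show b - i.val.app (op W) (p.val.app (op W) b) = b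
      rw [hb, map_zero, sub_zero]
    · have h1 := congrArg (mres H (hVA l)) (ha l)
      rw [mres_sum_smul, ← mapp_res, ← mapp_res] at h1
      simp only [mres_mres] at h1
      exact h1
  obtain ⟨U₀, n₀, hxU₀, ⟨e₀⟩⟩ := hH x
  obtain ⟨t₀, ht₀⟩ := exists_basis e₀
  obtain ⟨b₀⟩ := ht₀.nonempty_stalk_basis x hxU₀
  let R := ModSite.stalkRing (Opens.pointGrothendieckTopology x) O
  let I : ModSite.stalkMod (Opens.pointGrothendieckTopology x) F →ₗ[R] ModSite.stalkMod (Opens.pointGrothendieckTopology x) H :=
    (ModSite.stalkMap (Opens.pointGrothendieckTopology x) i).hom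
  let P : ModSite.stalkMod (Opens.pointGrothendieckTopology x) H →ₗ[R] ModSite.stalkMod (Opens.pointGrothendieckTopology x) F :=
    (ModSite.stalkMap (Opens.pointGrothendieckTopology x) p).hom
  have hPI : P.comp I = LinearMap.id := LinearMap.ext fun z => by
    obtain ⟨V, hxV, s, rfl⟩ := exists_germ (F := F) x z
    refine (congrArg P (stalkMap_germ i x hxV s)).trans ((stalkMap_germ p x hxV _).trans ?_)
    exact congrArg (ModSite.germ (Opens.pointGrothendieckTopology x) F V ⟨⟨hxV⟩⟩)
      (congrArg (fun f : F ⟶ F => f.val.app (op V) s) hip)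
  haveI := Module.Finite.of_basis b₀
  haveI := Module.Free.of_basis b₀
  haveI : Module.Finite R (ModSite.stalkMod (Opens.pointGrothendieckTopology x) F) :=
    Module.Finite.of_surjective P fun z => ⟨I z, LinearMap.congr_fun hPI z⟩
  haveI : Module.Projective R (ModSite.stalkMod (Opens.pointGrothendieckTopology x) F) :=
    Module.Projective.of_split I P hPI
  haveI : Module.Free R (ModSite.stalkMod (Opens.pointGrothendieckTopology x) F) :=
    Module.free_of_flat_of_isLocalRing
  obtain ⟨U, t, hxU, ht⟩ := exists_basis_of_stalk_free hFP x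
    ((Module.finBasis R (ModSite.stalkMod (Opens.pointGrothendieckTopology x) F)).reindex Equiv.ulift.{u}.symm)
  exact ⟨U, _, hxU, ht.nonempty_iso⟩

end Groth.Agent.S6849
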