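import Groth.Statements.S6851
import Groth.Agent.RSpaceFT.Invertible

set_option autoImplicit false
universe u
open CategoryTheory CategoryTheory.Limits TopologicalSpace
open ModSite

set_option backward.isDefEq.respectTransparency false
set_option backward.isDefEq.respectTransparency.types false

namespace Groth.Agent.S6851

/-- Let (X, O) be a ringed space all of whose stalks O_{X,x} are local rings with maximal ideals m_x, L
an invertible O-module (F ↦ L ⊗_O F is an equivalence of Mod(O)) and s a section of L over an open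
U. Then the set X_s of points x ∈ U whose germ s_x does not lie in m_x L_x is open, and for every x
∈ X_s the map O_{X,x} → L_x, a ↦ a s_x, is bijective; that is, s : O_{X_s} → L|_{X_s} is an
isomorphism, isomorphy being checked on stalks. Stalks and germs are taken at the point of the site
of opens of X given by x. (The published statement also produces the section s' of the inverse of L
with s' s = 1; that consequence is not restated here.) -/
theorem result {X : TopCat.{u}} (O : TopCat.Sheaf CommRingCat.{u} X)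
    (hO : ∀ x : X, IsLocalRing (ModSite.stalkRing (Opens.pointGrothendieckTopology x) O)) (L : ModSite.Mod O)
    (hL : ((ModSite.tensorBi O).obj L).IsEquivalence) (U : Opens X) (s : ModSite.sect L U) :
    IsOpen {x : X | ∃ hx : x ∈ U, ModSite.germ (Opens.pointGrothendieckTopology x) L U ⟨⟨hx⟩⟩ s ∉
        (@IsLocalRing.maximalIdeal (ModSite.stalkRing (Opens.pointGrothendieckTopology x) O) _ (hO x)) •
          (⊤ : Submodule (ModSite.stalkRing (Opens.pointGrothendieckTopology x) O)
            (ModSite.stalkAb (Opens.pointGrothendieckTopology x) L))} ∧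
      ∀ (x : X) (hx : x ∈ U), ModSite.germ (Opens.pointGrothendieckTopology x) L U ⟨⟨hx⟩⟩ s ∉
          (@IsLocalRing.maximalIdeal (ModSite.stalkRing (Opens.pointGrothendieckTopology x) O) _ (hO x)) •
            (⊤ : Submodule (ModSite.stalkRing (Opens.pointGrothendieckTopology x) O)
              (ModSite.stalkAb (Opens.pointGrothendieckTopology x) L)) →
        Function.Bijective (fun a : ModSite.stalkRing (Opens.pointGrothendieckTopology x) O =>
          a • ModSite.germ (Opens.pointGrothendieckTopology x) L U ⟨⟨hx⟩⟩ s) := by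
  obtain ⟨N, ⟨e⟩⟩ := SiteBase.exists_tensor_iso_unit hL
  have key : ∀ {W : Opens X} {l : ModSite.sect L W} {n : ModSite.sect N W}, RSpaceFT.Frame e l n →
      ∀ (hW : W ≤ U) (x : X) (hx : x ∈ W),
        (ModSite.germ (Opens.pointGrothendieckTopology x) L U ⟨⟨hW hx⟩⟩ s ∉
          (@IsLocalRing.maximalIdeal (ModSite.stalkRing (Opens.pointGrothendieckTopology x) O) _ (hO x)) •
            (⊤ : Submodule (ModSite.stalkRing (Opens.pointGrothendieckTopology x) O)
              (ModSite.stalkAb (Opens.pointGrothendieckTopology x) L)) ↔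
          IsUnit (RSpaceFT.gR x hx (RSpaceFT.pair e (RSpaceFT.mres L hW s) n))) ∧
        RSpaceFT.gM L x (hW hx) s =
          RSpaceFT.gR x hx (RSpaceFT.pair e (RSpaceFT.mres L hW s) n) • RSpaceFT.gM L x hx l := by
    intro W l n hl hW x hx
    have := hO x
    have hs : RSpaceFT.gM L x (hW hx) s =
        RSpaceFT.gR x hx (RSpaceFT.pair e (RSpaceFT.mres L hW s) n) • RSpaceFT.gM L x hx l := by
      obtain ⟨V, hV, hxV, hVeq⟩ := hl.exists_eq_smul hx (RSpaceFT.mres L hW s)
      have h := congrArg (RSpaceFT.gM L x hxV) hVeq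
      rwa [RSpaceFT.gM_smul, RSpaceFT.gR_res, RSpaceFT.gM_res, RSpaceFT.gM_res, RSpaceFT.gM_res] at h
    refine ⟨?_, hs⟩
    change RSpaceFT.gM L x (hW hx) s ∉ _ ↔ _
    rw [hs]
    constructor
    · intro h
      by_contra hu
      exact h (Submodule.smul_mem_smul ((IsLocalRing.mem_maximalIdeal _).2 hu) Submodule.mem_top)
    · intro hu hmem
      let φ := LinearEquiv.ofBijective
        (LinearMap.toSpanSingleton (ModSite.stalkRing (Opens.pointGrothendieckTopology x) O) _
          (RSpaceFT.gM L x hx l)) (hl.germ_bijective x hx)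
      have h1 := Submodule.mem_map_of_mem (f := φ.symm.toLinearMap) hmem
      rw [Submodule.map_smul'', Submodule.map_top, LinearMap.range_eq_top.2 φ.symm.surjective,
        smul_eq_mul, Ideal.mul_top] at h1
      have h2 : φ.symm (RSpaceFT.gR x hx (RSpaceFT.pair e (RSpaceFT.mres L hW s) n) • RSpaceFT.gM L x hx l) =
          RSpaceFT.gR x hx (RSpaceFT.pair e (RSpaceFT.mres L hW s) n) := φ.symm_apply_eq.2 rfl
      exact (IsLocalRing.mem_maximalIdeal _).1 (h2 ▸ h1) hu
  have hframe : ∀ x ∈ U, ∃ (W : Opens X) (l : ModSite.sect L W) (n : ModSite.sect N W),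
      x ∈ W ∧ W ≤ U ∧ RSpaceFT.Frame e l n := fun x hx => by
    obtain ⟨W, l, n, hxW, hl⟩ := RSpaceFT.exists_frame e x (hO x)
    exact ⟨W ⊓ U, _, _, ⟨hxW, hx⟩, inf_le_right, hl.res inf_le_left⟩
  refine ⟨isOpen_iff_forall_mem_open.2 fun x hx => ?_, fun x hx hs => ?_⟩
  · obtain ⟨hxU, hs⟩ := hx
    obtain ⟨W, l, n, hxW, hW, hl⟩ := hframe x hxU
    obtain ⟨z, hz⟩ := ((key hl hW x hxW).1.1 hs).exists_right_inv
    obtain ⟨V', hxV', r, rfl⟩ := RSpaceFT.exists_gR x z
    have hI : x ∈ W ⊓ V' := ⟨hxW, hxV'⟩
    obtain ⟨W', hW', hxW', heq⟩ := RSpaceFT.eq_of_gR x hI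
      (a := RSpaceFT.ores O inf_le_left (RSpaceFT.pair e (RSpaceFT.mres L hW s) n) *
        RSpaceFT.ores O inf_le_right r) (b := 1)
      (by rw [map_mul, map_one, RSpaceFT.gR_res, RSpaceFT.gR_res]; exact hz)
    refine ⟨W', fun y hy => ⟨hW (hW' hy).1, ?_⟩, W'.2, hxW'⟩
    refine (key hl hW y (hW' hy).1).1.2 (IsUnit.of_mul_eq_one (RSpaceFT.gR y (hW' hy).2 r) ?_)
    have h := congrArg (RSpaceFT.gR y hy) heq
    rwa [map_mul, map_one, RSpaceFT.ores_ores, RSpaceFT.ores_ores, map_mul, map_one,
      RSpaceFT.gR_res, RSpaceFT.gR_res] at h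
  · obtain ⟨W, l, n, hxW, hW, hl⟩ := hframe x hx
    have h := key hl hW x hxW
    obtain ⟨c, hc⟩ := h.1.1 hs
    convert (hl.germ_bijective x hxW).comp (Units.mulRight c).bijective using 1
    funext a
    show a • RSpaceFT.gM L x (hW hxW) s = (a * ↑c) • _
    rw [h.2, mul_smul, hc]

end Groth.Agent.S6851
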