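import Groth.Statements.S6852
import Groth.Agent.RSpaceFT.Basic
import Groth.Agent.SiteBase.TerminalSections

set_option autoImplicit false
universe u
open CategoryTheory CategoryTheory.Limits TopologicalSpace
open ModSite

namespace Groth.Agent.S6852
set_option backward.isDefEq.respectTransparency false
set_option backward.isDefEq.respectTransparency.types false
open Groth.Agent Groth.Agent.RSpaceFT Opposite

theorem eq_zero_of_restr {Y : TopCat.{u}} {O : TopCat.Sheaf CommRingCat.{u} Y} {G N : ModSite.Mod O} (b : G ⟶ N)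
    (U : Opens Y) (hb : (ModSite.restr O U).map b = 0)
    (hN : ∀ W : Opens Y, Function.Injective (mres N (inf_le_left : W ⊓ U ≤ W))) : b = 0 := by
  refine SheafOfModules.hom_ext (PresheafOfModules.hom_ext fun W => ModuleCat.hom_ext (LinearMap.ext fun s => ?_))
  show b.val.app (op W.unop) s = 0
  refine hN W.unop ?_
  rw [← mapp_res, mres_zero]
  exact congrArg (fun g : (ModSite.restr O U).obj G ⟶ (ModSite.restr O U).obj N =>
    g.val.app (op (Over.mk (homOfLE (inf_le_right : W.unop ⊓ U ≤ U)))) (mres G (inf_le_left : W.unop ⊓ U ≤ W.unop) s)) hb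

theorem restr_eq_zero_of_generators {Y : TopCat.{u}} {O : TopCat.Sheaf CommRingCat.{u} Y} {G N : ModSite.Mod O}
    (U : Opens Y) (σ : (G.over U).GeneratingSections) (b : G ⟶ N)
    (hb : ∀ i, b.val.app (op U) ((σ.s i).val (op (Over.mk (𝟙 U)))) = 0) : (ModSite.restr O U).map b = 0 := by
  refine (cancel_epi σ.π).mp (((SheafOfModules.freeHomEquiv _).injective (funext fun i => ?_)).trans comp_zero.symm)
  refine SiteBase.sections_eq_of_val (C := Over U) (O := O.over U) Over.mkIdTerminal ?_
  rw [SheafOfModules.freeHomEquiv_comp_apply, Equiv.apply_symm_apply]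
  refine (hb i).trans ?_
  rw [SheafOfModules.freeHomEquiv_apply]
  rfl

/-- Let f : (X, O_X) → (Y, O_Y) be a morphism of ringed spaces. If the O_Y-module G is locally generated
by sections (there is an open covering of Y on whose members G is generated by a family of
sections), then f^*G is locally generated by sections. -/
theorem result {X Y : TopCat.{u}} (f : X ⟶ Y) (O_X : TopCat.Sheaf CommRingCat.{u} X)
    (O_Y : TopCat.Sheaf CommRingCat.{u} Y)
    (c : O_Y ⟶ ((TopologicalSpace.Opens.map f).sheafPushforwardContinuous CommRingCat.{u}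
      (Opens.grothendieckTopology Y) (Opens.grothendieckTopology X)).obj O_X)
    (G : ModSite.Mod O_Y) (hG : Nonempty (SheafOfModules.LocalGeneratorsData.{u} (R := ModSite.ringSh O_Y) G)) :
    Nonempty (SheafOfModules.LocalGeneratorsData.{u} (R := ModSite.ringSh O_X)
      ((ModSite.RMor.ofFlat (TopologicalSpace.Opens.map f) c).pull.obj G)) := by
  obtain ⟨σ⟩ := hG
  let φ := ModSite.RMor.ofFlat (TopologicalSpace.Opens.map f) c
  let V : σ.I → Opens X := fun a => (Opens.map f).obj (σ.X a)
  have hcov : (Opens.grothendieckTopology X).CoversTop V :=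
    (_root_.Opens.coversTop_iff _ V).mpr (eq_top_iff.mpr fun x _ => by
      obtain ⟨a, ha⟩ := Opens.mem_iSup.mp (((_root_.Opens.coversTop_iff _ σ.X).mp σ.coversTop).ge (Opens.mem_top (f x)))
      exact Opens.mem_iSup.mpr ⟨a, ha⟩)
  refine ⟨{ I := σ.I, X := V, coversTop := hcov, generators := fun a => ?_ }⟩
  let t : (σ.generators a).I → ModSite.sect G (σ.X a) := fun i => ((σ.generators a).s i).val (op (Over.mk (𝟙 (σ.X a))))
  let η : G ⟶ φ.push.obj (φ.pull.obj G) := φ.adj.unit.app G
  let s' : (σ.generators a).I → (((φ.pull.obj G)).over (V a)).sections := fun i =>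
    SiteBase.termSection (C := Over (V a)) (O := O_X.over (V a)) (X := Over.mk (𝟙 (V a))) Over.mkIdTerminal
      ((φ.pull.obj G).over (V a)) (η.val.app (op (σ.X a)) (t i))
  refine { I := (σ.generators a).I, s := s', epi := Preadditive.epi_of_cancel_zero _ fun {M} h hh => ?_ }
  have ht : ∀ i, h.val.app (op (Over.mk (𝟙 (V a)))) (η.val.app (op (σ.X a)) (t i)) = 0 := fun i => by
    have h1 := congrArg (fun g => (M.freeHomEquiv g i).val (op (Over.mk (𝟙 (V a))))) hh
    simp only [SheafOfModules.freeHomEquiv_comp_apply, Equiv.apply_symm_apply] at h1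
    refine Eq.trans ?_ (h1.trans ?_)
    · show _ = h.val.app _ ((s' i).val (op (Over.mk (𝟙 (V a)))))
      rw [SiteBase.termSection_val]
    · rw [SheafOfModules.freeHomEquiv_apply]
      rfl
  let adjV := SheafOfModules.overPushforwardOverAdj.{u} (R := ModSite.ringSh O_X) (V a)
  let a' := adjV.homEquiv (φ.pull.obj G) M h
  let b := φ.adj.homEquiv G _ a'
  have hbt : ∀ i, b.val.app (op (σ.X a)) (t i) = 0 := fun i => by
    let W : Over (V a) := (Over.star (V a)).obj (V a)
    let p : W ⟶ Over.mk (𝟙 (V a)) := Over.mkIdTerminal.from W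
    show (adjV.homEquiv (φ.pull.obj G) M h).val.app (op (V a)) (η.val.app (op (σ.X a)) (t i)) = 0
    rw [Adjunction.homEquiv_unit]
    show h.val.app (op W) ((φ.pull.obj G).val.map ((Over.forgetAdjStar (V a)).counit.app (V a)).op
      (η.val.app (op (σ.X a)) (t i))) = 0
    rw [show ((Over.forgetAdjStar (V a)).counit.app (V a)) = p.left from Subsingleton.elim _ _]
    refine (PresheafOfModules.naturality_apply h.val p.op (η.val.app (op (σ.X a)) (t i))).trans ?_
    rw [ht i]
    exact map_zero (M.val.map p.op).hom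
  have hbU := restr_eq_zero_of_generators (σ.X a) (σ.generators a) b hbt
  have hb : b = 0 := by
    refine eq_zero_of_restr b (σ.X a) hbU fun W => ?_
    let q : (Over.star (V a)).obj ((Opens.map f).obj (W ⊓ σ.X a)) ⟶ (Over.star (V a)).obj ((Opens.map f).obj W) :=
      (Over.star (V a)).map ((Opens.map f).map (homOfLE inf_le_left))
    have hle : ((Over.star (V a)).obj ((Opens.map f).obj W)).left ≤
        ((Over.star (V a)).obj ((Opens.map f).obj (W ⊓ σ.X a))).left := by
      let P := (Over.star (V a)).obj ((Opens.map f).obj W)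
      have e1 : P.left ≤ V a := P.hom.le
      have e2 : P.left ≤ (Opens.map f).obj W := ((Over.forgetAdjStar (V a)).counit.app ((Opens.map f).obj W)).le
      exact (prod.lift (homOfLE e1) (homOfLE (show P.left ≤ (Opens.map f).obj (W ⊓ σ.X a) from
        fun y hy => ⟨e2 hy, e1 hy⟩))).le
    haveI : IsIso ((Over.forget (V a)).map q) := ⟨homOfLE hle, Subsingleton.elim _ _, Subsingleton.elim _ _⟩
    haveI : IsIso q := isIso_of_reflects_iso q (Over.forget (V a))
    have hinj : Function.Injective (((SheafOfModules.toSheaf _).obj M).obj.map q.op) :=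
      (ConcreteCategory.bijective_of_isIso _).1
    exact fun x y hxy => hinj hxy
  apply (adjV.homEquiv (φ.pull.obj G) M).injective
  apply (φ.adj.homEquiv G _).injective
  refine hb.trans ?_
  simp [Adjunction.homEquiv_unit]

end Groth.Agent.S6852
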