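import Groth.Statements.S6858
import Groth.Agent.RSpaceFT.Rank

set_option autoImplicit false
universe u
open CategoryTheory CategoryTheory.Limits TopologicalSpace
open ModSite

namespace Groth.Agent.S6858
set_option backward.isDefEq.respectTransparency false
set_option backward.isDefEq.respectTransparency.types false
open Groth.Agent Groth.Agent.RSpaceFT Opposite

/-- Let (X, O) be a ringed space all of whose stalks O_{X,x} are nonzero rings and F a locally free
O-module. Then there is a locally constant function rank_F : X → ℕ ∪ {∞} such that for every point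
x, every open neighbourhood U of x and every index set I with F|_U ≅ ⊕_{i ∈ I} O_U, the cardinality
of I (a natural number or ∞) is rank_F(x). -/
theorem result {X : TopCat.{u}} (O : TopCat.Sheaf CommRingCat.{u} X)
    (hO : ∀ x : X, Nontrivial (O.presheaf.stalk x)) (F : ModSite.Mod O)
    [SheafOfModules.IsLocallyFree (R := ModSite.ringSh O) F] :
    ∃ rk : X → ℕ∞, IsLocallyConstant rk ∧
      ∀ (x : X) (U : Opens X) (I : Type u), x ∈ U →
        Nonempty ((ModSite.restr O U).obj F ≅ SheafOfModules.free I) → ENat.card I = rk x := by
  obtain ⟨q, hq⟩ := SheafOfModules.IsLocallyFree.exists_isLocallyFreeData (M := F)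
  have hcov := (_root_.Opens.coversTop_iff _ q.X).mp q.coversTop
  choose a ha using fun x : X => Opens.mem_iSup.mp (hcov.ge (Opens.mem_top x))
  have e : ∀ a, (ModSite.restr O (q.X a)).obj F ≅ SheafOfModules.free (q.generators a).I := fun a =>
    haveI := hq.isIso a
    (asIso (q.generators a).π).symm
  have heq : ∀ (x : X) (U U' : Opens X) (I I' : Type u), x ∈ U → x ∈ U' →
      ((ModSite.restr O U).obj F ≅ SheafOfModules.free I) → ((ModSite.restr O U').obj F ≅ SheafOfModules.free I') →
      ENat.card I = ENat.card I' := fun x U U' I I' hx hx' f f' =>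
    le_antisymm (card_le_card f' f hx' hx fun V hV => nontrivial_sections (hO x) V hV)
      (card_le_card f f' hx hx' fun V hV => nontrivial_sections (hO x) V hV)
  refine ⟨fun x => ENat.card (q.generators (a x)).I, (IsLocallyConstant.iff_exists_open _).mpr fun x =>
    ⟨q.X (a x), (q.X (a x)).2, ha x, fun y hy => heq y _ _ _ _ (ha y) hy (e _) (e _)⟩,
    fun x U I hx h => ?_⟩
  obtain ⟨f⟩ := h
  exact heq x _ _ _ _ hx (ha x) f (e _)

end Groth.Agent.S6858
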