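import Groth.Statements.S6886
import Mathlib

set_option autoImplicit false
universe u
open TensorProduct
open CAlg

namespace Groth.Agent.S6886

/-- Let `R → S` be a finite ring map. One can find an extension `R ⊆ R'` of rings, with `R'` finite and
free as an `R`-module, for which the ring `S ⊗_R R'` arises as a quotient of `R'[T_1, …,
T_n]/(P_1(T_1), …, P_n(T_n))` with each `P_i(T) = ∏_j (T - α_{ij})` a product of linear factors over
`R'`. -/
theorem result (R S : Type u) [CommRing R] [CommRing S] [Algebra R S]
    [Module.Finite R S] :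
    ∃ (R' : Type u) (_ : CommRing R') (_ : Algebra R R'), Module.Finite R R' ∧ Module.Free R R' ∧
      Function.Injective (algebraMap R R') ∧
      ∃ (n : ℕ) (d : Fin n → ℕ) (α : (i : Fin n) → Fin (d i) → R')
        (φ : MvPolynomial (Fin n) R' →ₐ[R'] R' ⊗[R] S), Function.Surjective φ ∧
          ∀ i, φ (∏ j, (MvPolynomial.X i - MvPolynomial.C (α i j))) = 0 := by
  classical
  rcases subsingleton_or_nontrivial R with hR | hR
  · haveI : Subsingleton (R ⊗[R] S) := Module.subsingleton R _
    refine ⟨R, inferInstance, inferInstance, inferInstance, inferInstance, fun a b _ => Subsingleton.elim a b,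
      0, fun _ => 0, fun i => i.elim0, MvPolynomial.aeval (fun i => i.elim0), fun y => ⟨0, Subsingleton.elim _ _⟩,
      fun i => i.elim0⟩
  obtain ⟨n, s, hs⟩ := Submodule.fg_iff_exists_fin_generating_family.1 (Module.Finite.fg_top (R := R) (M := S))
  have hint : ∀ i, IsIntegral R (s i) := fun i => Algebra.IsIntegral.isIntegral _
  choose p hp hp0 using hint
  let P := ∏ i, p i
  have hP : P.Monic := Polynomial.monic_prod_of_monic _ _ fun i _ => hp i
  have hP0 : ∀ i, Polynomial.aeval (s i) P = 0 := fun i => by
    simp only [P, map_prod]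
    exact Finset.prod_eq_zero (Finset.mem_univ i) (hp0 i)
  obtain ⟨R', _, _, _, _, _, hsp⟩ := hP.exists_splits_map
  obtain ⟨m, hm⟩ := Polynomial.splits_iff_exists_multiset.1 hsp
  rw [(hP.map _).leadingCoeff, map_one, one_mul] at hm
  refine ⟨R', inferInstance, inferInstance, inferInstance, inferInstance,
    FaithfulSMul.algebraMap_injective R R', n, fun _ => m.toList.length, fun _ j => m.toList[(j : ℕ)],
    MvPolynomial.aeval fun i => (1 : R') ⊗ₜ[R] s i, ?_, fun i => ?_⟩
  · rw [← AlgHom.range_eq_top, eq_top_iff]
    intro y _
    induction y using TensorProduct.induction_on with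
    | zero => exact zero_mem _
    | add a b ha hb => exact add_mem (ha trivial) (hb trivial)
    | tmul a b =>
      have hb : b ∈ Submodule.span R (Set.range s) := hs.symm ▸ Submodule.mem_top
      obtain ⟨c, rfl⟩ := (Submodule.mem_span_range_iff_exists_fun R).1 hb
      rw [TensorProduct.tmul_sum]
      refine sum_mem fun i _ => ⟨MvPolynomial.C (c i • a) * MvPolynomial.X i, ?_⟩
      simp [Algebra.TensorProduct.algebraMap_apply, TensorProduct.smul_tmul]
  · have : Polynomial.aeval ((1 : R') ⊗ₜ[R] s i) (P.map (algebraMap R R')) = 0 := by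
      rw [Polynomial.aeval_map_algebraMap,
        show (1 : R') ⊗ₜ[R] s i = Algebra.TensorProduct.includeRight (s i) from rfl,
        Polynomial.aeval_algHom_apply, hP0, map_zero]
    rw [hm, ← Multiset.coe_toList m, Multiset.map_coe, Multiset.prod_coe, ← Fin.prod_univ_fun_getElem] at this
    simpa [map_prod] using this

end Groth.Agent.S6886
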