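import Groth.Statements.S6920
import Mathlib.Algebra.Category.Ring.Epi

set_option autoImplicit false
universe u
open CategoryTheory CategoryTheory.Limits MonoidalCategory
open DRing

namespace Groth.Agent.S6920

/-- For an epimorphism of rings `φ : R → S` and a complex `I•` of `S`-modules, if the underlying complex
of `R`-modules of `I•` is K-injective, then `I•` itself is K-injective over `S`. -/
theorem result (R S : Type u) [CommRing R] [CommRing S] (φ : R →+* S)
    (hφ : Epi (CommRingCat.ofHom φ)) (I : DRing.Cx S)
    [CochainComplex.IsKInjective ((DRing.restrictCx φ).obj I)] : CochainComplex.IsKInjective I := by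
  letI : Algebra R S := φ.toAlgebra
  have hepi : Algebra.IsEpi R S := CommRingCat.epi_iff_epi.1 hφ
  rw [Algebra.isEpi_iff_forall_one_tmul_eq] at hepi
  have hlin : ∀ {M N : ModuleCat.{u} S} (f : (ModuleCat.restrictScalars φ).obj M ⟶ (ModuleCat.restrictScalars φ).obj N)
      (s : S) (m : M), (show N from f ((s • m : M))) = s • (show N from f m) := by
    intro M N f s m
    letI : Module R N := Module.compHom N φ
    haveI : IsScalarTower R S N := IsScalarTower.of_algebraMap_smul fun _ _ => rfl
    letI : Module R M := Module.compHom M φ
    haveI : IsScalarTower R S M := IsScalarTower.of_algebraMap_smul fun _ _ => rfl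
    let f' : M →ₗ[R] N := f.hom
    let b : S →ₗ[R] S →ₗ[R] N := LinearMap.mk₂ R (fun a c => a • f' (c • m))
      (fun a₁ a₂ c => add_smul _ _ _)
      (fun r a c => smul_assoc r a _)
      (fun a c₁ c₂ => by simp only [add_smul, map_add, smul_add])
      (fun r a c => by simp only [smul_assoc, map_smul, smul_comm r a])
    have h := congrArg (TensorProduct.lift b) (hepi s)
    rw [TensorProduct.lift.tmul, TensorProduct.lift.tmul] at h
    change (1 : S) • f' (s • m) = s • f' ((1 : S) • m) at h
    rwa [one_smul, one_smul] at h
  refine ⟨fun {K} g hK => ?_⟩
  obtain ⟨H⟩ := CochainComplex.IsKInjective.nonempty_homotopy_zero ((DRing.restrictCx φ).map g)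
    (fun i => (hK i).map (ModuleCat.restrictScalars φ))
  refine ⟨{ hom := fun i j => ModuleCat.ofHom
              { toFun := fun m => H.hom i j m
                map_add' := fun a b => map_add (H.hom i j).hom a b
                map_smul' := fun s m => hlin (H.hom i j) s m }
            zero := fun i j hij => ?_
            comm := fun i => ?_ }⟩
  · ext m
    exact congr($(H.zero i j hij) m)
  · ext m
    exact congr($(H.comm i) m)

end Groth.Agent.S6920
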