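import Groth.Statements.S6922
import Groth.Agent.H1Milnor.Presented
import Groth.Agent.EtMil7.Consequences
import Mathlib

set_option autoImplicit false
universe u
open TensorProduct
open EtAlg

namespace Groth.Agent.S6922

/-- In the relative situation (`B' = B ×_A A'` with `A' → A` surjective, `B' → D'`, `D = D' ⊗_{B'} B`,
`C' = D' ⊗_{B'} A'`, `C = D' ⊗_{B'} A`), let `N` be a flat `B`-module that is finitely presented as
a `D`-module and `M'` a flat `A'`-module that is finitely presented as a `C'`-module, with a
`C`-isomorphism `φ : N ⊗_D C ≅ M' ⊗_{C'} C`, and suppose `B' → D'` is the composite of a flat ring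
map `B' → D''` and a ring map `D'' → D'` of finite presentation. Then `N ×_φ M'` is finitely
presented over `D'`. -/
theorem result (B' B A' A : Type u) [CommRing B'] [CommRing B] [CommRing A'] [CommRing A]
    [Algebra B' B] [Algebra B' A'] [Algebra B A] [Algebra A' A] [Algebra B' A] [IsScalarTower B' B A] [IsScalarTower B' A' A]
    (hsq : EtMil.IsFibreSquare B' B A' A)
    (D' D C' C : Type u) [CommRing D'] [CommRing D] [CommRing C'] [CommRing C]
    [Algebra B' D'] [Algebra B D] [Algebra A' C'] [Algebra A C]
    [Algebra D' D] [Algebra B' D] [IsScalarTower B' B D] [IsScalarTower B' D' D] [Algebra.IsPushout B' B D' D]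
    [Algebra D' C'] [Algebra B' C'] [IsScalarTower B' A' C'] [IsScalarTower B' D' C'] [Algebra.IsPushout B' A' D' C']
    [Algebra D' C] [Algebra B' C] [IsScalarTower B' A C] [IsScalarTower B' D' C] [Algebra.IsPushout B' A D' C]
    [Algebra D C] [IsScalarTower D' D C] [Algebra B C] [IsScalarTower B A C] [IsScalarTower B D C]
    [Algebra C' C] [IsScalarTower D' C' C] [Algebra A' C] [IsScalarTower A' A C] [IsScalarTower A' C' C]
    {N M' : Type u} [AddCommGroup N] [Module D N] [Module D' N] [IsScalarTower D' D N]
    [AddCommGroup M'] [Module C' M'] [Module D' M'] [IsScalarTower D' C' M'] (φ : C ⊗[D] N ≃ₗ[C] C ⊗[C'] M')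
    [Module B N] [IsScalarTower B D N] [Module A' M'] [IsScalarTower A' C' M']
    [Module.FinitePresentation D N] [Module.Flat B N] [Module.FinitePresentation C' M'] [Module.Flat A' M']
    (D'' : Type u) [CommRing D''] [Algebra B' D''] [Algebra D'' D'] [IsScalarTower B' D'' D'] [Module.Flat B' D'']
    [Algebra.FinitePresentation D'' D'] :
    Module.FinitePresentation D' ↥(EtMil.glue D' φ) := by
  classical
  have hwD := EtMil7.isWeakSquare_of_isPushout hsq D' D C' C
  -- the glueing data over the square of `B'`
  letI : Module B' N := Module.compHom N (algebraMap B' B)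
  haveI : IsScalarTower B' B N := IsScalarTower.of_compHom B' B N
  haveI : IsScalarTower B' D N := IsScalarTower.of_algebraMap_smul fun b n => by
    rw [IsScalarTower.algebraMap_apply B' B D, algebraMap_smul, algebraMap_smul]
  haveI : IsScalarTower B' D' N := IsScalarTower.of_algebraMap_smul fun b n => by
    rw [← algebraMap_smul D (algebraMap B' D' b) n, ← IsScalarTower.algebraMap_apply, algebraMap_smul]
  letI : Module B' M' := Module.compHom M' (algebraMap B' A')
  haveI : IsScalarTower B' A' M' := IsScalarTower.of_compHom B' A' M'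
  haveI : IsScalarTower B' C' M' := IsScalarTower.of_algebraMap_smul fun b m => by
    rw [IsScalarTower.algebraMap_apply B' A' C', algebraMap_smul, algebraMap_smul]
  haveI : IsScalarTower B' D' M' := IsScalarTower.of_algebraMap_smul fun b m => by
    rw [← algebraMap_smul C' (algebraMap B' D' b) m, ← IsScalarTower.algebraMap_apply, algebraMap_smul]
  haveI : IsScalarTower B' D C := IsScalarTower.of_algebraMap_eq fun x => by
    rw [IsScalarTower.algebraMap_apply B' D' D, ← IsScalarTower.algebraMap_apply D' D C,
      ← IsScalarTower.algebraMap_apply B' D' C]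
  haveI : IsScalarTower B' C' C := IsScalarTower.of_algebraMap_eq fun x => by
    rw [IsScalarTower.algebraMap_apply B' D' C', ← IsScalarTower.algebraMap_apply D' C' C,
      ← IsScalarTower.algebraMap_apply B' D' C]
  haveI : Algebra.IsPushout B A D C := by
    have h1 : Algebra.IsPushout B' D' A C := Algebra.IsPushout.symm inferInstance
    haveI : Algebra.IsPushout B' D' B D := Algebra.IsPushout.symm inferInstance
    exact (Algebra.IsPushout.comp_iff (R := B') (S := B) (T := A) (R' := D') (S' := D) (T' := C)).mp inferInstance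
  haveI : Algebra.IsPushout A' A C' C := by
    haveI : Algebra.IsPushout B' D' A' C' := Algebra.IsPushout.symm inferInstance
    exact (Algebra.IsPushout.comp_iff (R := B') (S := A') (T := A) (R' := D') (S' := C') (T' := C)).mp inferInstance
  let κ₁ : C ⊗[D] N ≃ₗ[A] A ⊗[B] N := Algebra.IsPushout.cancelBaseChange B A D C N
  let κ₂ : C ⊗[C'] M' ≃ₗ[A] A ⊗[A'] M' := Algebra.IsPushout.cancelBaseChange A' A C' C M'
  let φ₀ : A ⊗[B] N ≃ₗ[A] A ⊗[A'] M' := κ₁.symm ≪≫ₗ φ.restrictScalars A ≪≫ₗ κ₂
  have hiff : ∀ x : N × M', (x ∈ EtMil.glue B' φ₀ ↔ x ∈ EtMil.glue D' φ) := fun x => by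
    rw [EtMil7.mem_glue, EtMil7.mem_glue, ← (show κ₂ ((1 : C) ⊗ₜ[C'] x.2) = (1 : A) ⊗ₜ[A'] x.2 from
      Algebra.IsPushout.cancelBaseChange_tmul A' A C' C (M := M') x.2)]
    simp only [φ₀, LinearEquiv.trans_apply]
    rw [show κ₁.symm ((1 : A) ⊗ₜ[B] x.1) = (1 : C) ⊗ₜ[D] x.1 by
      rw [Algebra.IsPushout.cancelBaseChange_symm_tmul, map_one]]
    exact κ₂.injective.eq_iff
  let L := EtMil.glue D' φ
  let e : EtMil.glue B' φ₀ ≃ₗ[B'] L :=
    { toFun := fun x => ⟨x.1, (hiff _).1 x.2⟩
      invFun := fun x => ⟨x.1, (hiff _).2 x.2⟩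
      map_add' := fun _ _ => rfl
      map_smul' := fun _ _ => rfl }
  haveI := EtMil7.flat_glue φ₀ hsq
  haveI : Module.Flat B' L := Module.Flat.of_linearEquiv e.symm
  -- a presentation over a flat `B'`-algebra
  obtain ⟨n, f, hf, hfk⟩ := Algebra.FinitePresentation.out (R := D'') (A := D')
  let E := MvPolynomial (Fin n) D''
  haveI : Module.Flat B' E := Module.Flat.trans B' D'' E
  letI : Algebra E D' := f.toRingHom.toAlgebra
  haveI : IsScalarTower D'' E D' := IsScalarTower.of_algebraMap_eq fun x => (f.commutes x).symm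
  haveI : IsScalarTower B' E D' := IsScalarTower.of_algebraMap_eq fun x => by
    rw [IsScalarTower.algebraMap_apply B' D'' E, ← IsScalarTower.algebraMap_apply D'' E D',
      ← IsScalarTower.algebraMap_apply B' D'' D']
  haveI : Module.FinitePresentation E D' := by
    refine Module.finitePresentation_of_surjective (Algebra.linearMap E D') hf ?_
    exact hfk
  letI : Module E L := Module.compHom L (algebraMap E D')
  haveI : IsScalarTower E D' L := IsScalarTower.of_compHom E D' L
  haveI : IsScalarTower B' E L := IsScalarTower.of_algebraMap_smul fun b x => by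
    rw [← algebraMap_smul D' (algebraMap B' E b) x, ← IsScalarTower.algebraMap_apply, algebraMap_smul]
  haveI : Module.Finite D' L := EtMil7.finite_glue φ hwD
  haveI : Module.Finite E D' := inferInstance
  haveI : Module.Finite E L := Module.Finite.trans D' L
  obtain ⟨m, π, hπ⟩ := Module.Finite.exists_fin' E L
  have hg₁ : Function.Bijective (LinearMap.liftBaseChange B ((EtMil.glueFst D' φ).restrictScalars B')) := by
    have h := EtMil7.bijective_liftBaseChange_glueFst φ₀ (EtMil7.isWeakSquare hsq)
    have heq : LinearMap.liftBaseChange B ((EtMil.glueFst D' φ).restrictScalars B') ∘ₗ e.toLinearMap.baseChange B =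
        LinearMap.liftBaseChange B (EtMil.glueFst B' φ₀) := by
      ext x
      simp [e]
      rfl
    rw [← heq] at h
    exact (Function.Bijective.of_comp_iff _ (e.baseChange B' B _ _).bijective).1 h
  have hg₂ : Function.Bijective (LinearMap.liftBaseChange A' ((EtMil.glueSnd D' φ).restrictScalars B')) := by
    have h := EtMil7.bijective_liftBaseChange_glueSnd φ₀ (EtMil7.isWeakSquare hsq)
    have heq : LinearMap.liftBaseChange A' ((EtMil.glueSnd D' φ).restrictScalars B') ∘ₗ e.toLinearMap.baseChange A' =
        LinearMap.liftBaseChange A' (EtMil.glueSnd B' φ₀) := by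
      ext x
      simp [e]
      rfl
    rw [← heq] at h
    exact (Function.Bijective.of_comp_iff _ (e.baseChange B' A' _ _).bijective).1 h
  haveI := H1Milnor.finite_side (D := D) (EtMil.glueFst D' φ) hg₁ π hπ
  haveI := H1Milnor.finite_side (D := C') (EtMil.glueSnd D' φ) hg₂ π hπ
  haveI := H1Milnor.finite_of_pair' hsq (E := E) (K := LinearMap.ker π)
  haveI : Module.FinitePresentation E L :=
    Module.finitePresentation_of_surjective π hπ (Module.Finite.iff_fg.mp inferInstance)
  -- descend along the surjection `E → D'`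
  have hbij : Function.Bijective (LinearMap.liftBaseChange D' (LinearMap.id : L →ₗ[E] L)) := by
    refine ⟨(injective_iff_map_eq_zero _).mpr fun t ht => ?_, fun x => ⟨(1 : D') ⊗ₜ x, by simp⟩⟩
    obtain ⟨x, rfl⟩ := EtMil7.exists_one_tmul (S := E) (T := D') hf t
    simp only [LinearMap.liftBaseChange_tmul, one_smul, LinearMap.id_apply] at ht
    rw [ht, TensorProduct.tmul_zero]
  exact Module.FinitePresentation.of_equiv (LinearEquiv.ofBijective _ hbij)

end Groth.Agent.S6922
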