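import Groth.Statements.S6928
import Groth.Agent.EssFlat.Compare
import Groth.Agent.FlatHens.FG

set_option autoImplicit false
attribute [-instance] CategoryTheory.catToReflQuiver
set_option backward.isDefEq.respectTransparency false
set_option backward.isDefEq.respectTransparency.types false
universe u
open FlatMor

namespace Groth.Agent.S6928

set_option maxHeartbeats 1600000 in
/-- Let `R → S` be a ring map that is essentially of finite presentation, `J ⊆ S` an ideal and `M` a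
finitely presented `S`-module. Let `(R_λ)` be a directed system of `R`-algebras with colimit `R'`,
and `I_λ ⊆ R_λ` ideals with `I_λ R_μ ⊆ I_μ`, `I' = colim I_λ`, `S' = S ⊗_R R'`, `M' = M ⊗_R R'`. If
`M'_{𝔮'}` is flat over `R'` for every prime `𝔮' ⊇ I'S' + JS'`, then there is `λ` such that, with
`S_λ = S ⊗_R R_λ` and `M_λ = M ⊗_R R_λ`, `(M_λ)_𝔮` is flat over `R_λ` for every prime `𝔮 ⊇ I_λ S_λ +
J S_λ`. -/
theorem result {R S : Type u} [CommRing R] [CommRing S] [Algebra R S] (hS : FlatCA.EssFinitePresentation R S)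
    {M : Type u} [AddCommGroup M] [Module S M] [Module R M] [IsScalarTower R S M] [Module.FinitePresentation S M]
    {ι : Type u} [Preorder ι] (G : ι → Type u) [∀ i, CommRing (G i)] [∀ i, Algebra R (G i)]
    (g : ∀ i j, i ≤ j → G i →+* G j) (hgR : ∀ i j (h : i ≤ j), (g i j h).comp (algebraMap R (G i)) = algebraMap R (G j))
    (R' : Type u) [CommRing R'] [Algebra R R'] [∀ i, Algebra (G i) R'] [∀ i, IsScalarTower R (G i) R']
    (hcolim : FlatCA.IsDirectedColimitRing G g R')
    (Il : ∀ i, Ideal (G i)) (hIl : ∀ i j (h : i ≤ j), (Il i).map (g i j h) ≤ Il j)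
    {S' : Type u} [CommRing S'] [Algebra S S'] [Algebra R' S'] [Algebra R S'] [IsScalarTower R S S']
    [IsScalarTower R R' S'] [Algebra.IsPushout R S R' S']
    {M' : Type u} [AddCommGroup M'] [Module S' M'] [Module R' M'] [IsScalarTower R' S' M'] [Module S M']
    [IsScalarTower S S' M'] (f : M →ₗ[S] M') (hf : IsBaseChange S' f)
    (J : Ideal S)
    (h : ∀ (q' : Ideal S') [q'.IsPrime],
      (⨆ i, (Il i).map (algebraMap (G i) R')).map (algebraMap R' S') ⊔ J.map (algebraMap S S') ≤ q' →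
        FlatCA.FlatAt R' q' M') :
    ∃ i : ι, ∀ (Si Mi : Type u) [CommRing Si] [Algebra S Si] [Algebra (G i) Si] [Algebra R Si] [IsScalarTower R S Si]
      [IsScalarTower R (G i) Si] [Algebra.IsPushout R S (G i) Si] [AddCommGroup Mi] [Module Si Mi] [Module (G i) Mi]
      [IsScalarTower (G i) Si Mi] [Module S Mi] [IsScalarTower S Si Mi] (fi : M →ₗ[S] Mi), IsBaseChange Si fi →
      ∀ (q : Ideal Si) [q.IsPrime], (Il i).map (algebraMap (G i) Si) ⊔ J.map (algebraMap S Si) ≤ q → FlatCA.FlatAt (G i) q Mi := by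
  open TensorProduct in
  classical
  obtain ⟨S₀, _, _, _, _, W, hfp, hloc⟩ := hS
  haveI := hfp; haveI := hloc
  letI : Module S₀ M := Module.compHom M (algebraMap S₀ S)
  haveI : IsScalarTower S₀ S M := IsScalarTower.of_algebraMap_smul fun _ _ => rfl
  obtain ⟨M₀, _, _, _, m, hm₀⟩ := Groth.Agent.FlatHens.exists_fp_model (B := S) W M
  haveI := hm₀
  have hm : IsBaseChange S m := (isLocalizedModule_iff_isBaseChange W S m).1 inferInstance
  let g' : ∀ i j, i ≤ j → G i →ₐ[R] G j := fun i j h =>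
    { g i j h with commutes' := fun r => RingHom.congr_fun (hgR i j h) r }
  have hcolim' : FlatCA.IsDirectedColimitRing G (fun i j h => (g' i j h).toRingHom) R' := hcolim
  haveI : IsDirected ι (· ≤ ·) := hcolim.1
  let J₀ : Ideal S₀ := J.comap (algebraMap S₀ S)
  let b : ∀ i, Ideal (G i ⊗[R] S₀) := fun i => Ideal.span {u | Groth.Agent.EssFlat.Good g' M₀ i u} ⊔
    (Il i).map (Algebra.TensorProduct.includeLeft : G i →ₐ[R] G i ⊗[R] S₀) ⊔
    J₀.map (Algebra.TensorProduct.includeRight : S₀ →ₐ[R] G i ⊗[R] S₀)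
  have hmono : ∀ i j (h : i ≤ j), ∀ x ∈ b i, Groth.Agent.EssFlat.tr g' h x ∈ b j := by
    intro i j h
    show b i ≤ (b j).comap (Groth.Agent.EssFlat.tr g' h)
    refine sup_le (sup_le (Ideal.span_le.2 fun u hu => ?_) (Ideal.map_le_iff_le_comap.2 fun a ha => ?_))
      (Ideal.map_le_iff_le_comap.2 fun s hs => ?_)
    · exact Ideal.mem_sup_left (Ideal.mem_sup_left (Ideal.subset_span
        (Groth.Agent.EssFlat.good_mono g' hcolim' M₀ h hu)))
    · show Groth.Agent.EssFlat.tr g' h (a ⊗ₜ[R] (1 : S₀)) ∈ b j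
      exact Ideal.mem_sup_left (Ideal.mem_sup_right (Ideal.mem_map_of_mem
        (Algebra.TensorProduct.includeLeft : G j →ₐ[R] G j ⊗[R] S₀) (hIl i j h (Ideal.mem_map_of_mem (g i j h) ha))))
    · show Groth.Agent.EssFlat.tr g' h ((1 : G i) ⊗ₜ[R] s) ∈ b j
      rw [Groth.Agent.EssFlat.tr_tmul, map_one]
      exact Ideal.mem_sup_right (Ideal.mem_map_of_mem (Algebra.TensorProduct.includeRight : S₀ →ₐ[R] G j ⊗[R] S₀) hs)
  obtain ⟨i₀⟩ := hcolim.2.1
  -- the elements of the limit which come from the good ideals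
  let C : Ideal (R' ⊗[R] S₀) :=
    { carrier := {z | ∃ i, ∃ x ∈ b i, Groth.Agent.EssFlat.toLim i x = z}
      zero_mem' := ⟨i₀, 0, (b i₀).zero_mem, map_zero _⟩
      add_mem' := by
        rintro _ _ ⟨i, x, hx, rfl⟩ ⟨j, y, hy, rfl⟩
        obtain ⟨k, hik, hjk⟩ := exists_ge_ge i j
        exact ⟨k, _, (b k).add_mem (hmono i k hik x hx) (hmono j k hjk y hy), by
          rw [map_add, Groth.Agent.EssFlat.toLim_tr g' hcolim', Groth.Agent.EssFlat.toLim_tr g' hcolim']⟩
      smul_mem' := by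
        rintro c _ ⟨i, x, hx, rfl⟩
        obtain ⟨j, y, rfl⟩ := Groth.Agent.EssFlat.exists_eq_toLim g' hcolim' c
        obtain ⟨k, hik, hjk⟩ := exists_ge_ge i j
        exact ⟨k, _, (b k).mul_mem_left (Groth.Agent.EssFlat.tr g' hjk y) (hmono i k hik x hx), by
          rw [map_mul, Groth.Agent.EssFlat.toLim_tr g' hcolim', Groth.Agent.EssFlat.toLim_tr g' hcolim', smul_eq_mul]⟩ }
  have hw : ∃ w ∈ W, (1 : R') ⊗ₜ[R] w ∈ C := by
    by_contra hne
    push_neg at hne
    let Wm : Submonoid (R' ⊗[R] S₀) := W.map (Algebra.TensorProduct.includeRight : S₀ →ₐ[R] R' ⊗[R] S₀)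
    obtain ⟨P, hP, hCP, hPW⟩ := Ideal.exists_le_prime_disjoint C Wm (Set.disjoint_right.2 (by
      rintro _ ⟨w, hw, rfl⟩ hmem
      exact hne w hw hmem))
    haveI := hP
    obtain ⟨B, N, _, _, _, _, _, _, hpo, _, _, _, _, _, _, l, φ, hl, hφA, hφS, hiff, hlift⟩ :=
      Groth.Agent.EssFlat.exists_compare (R := R) (A := R') W m hm f hf
    haveI := hpo
    haveI : Algebra.FinitePresentation R' B :=
      Algebra.FinitePresentation.equiv (Algebra.IsPushout.equiv R R' S₀ B)
    haveI : Module.FinitePresentation B N := Module.FinitePresentation.of_equiv hl.equiv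
    let e := Algebra.IsPushout.equiv R R' S₀ B
    let P' : Ideal B := P.comap e.symm.toRingHom
    haveI : P'.IsPrime := Ideal.IsPrime.comap _
    have hP' : ∀ x, e x ∈ P' ↔ x ∈ P := fun x => by
      show e.symm (e x) ∈ P ↔ _
      rw [AlgEquiv.symm_apply_apply]
    have he : ∀ s : S₀, e ((1 : R') ⊗ₜ[R] s) = algebraMap S₀ B s := fun s => by
      rw [Algebra.IsPushout.equiv_tmul, map_one, one_mul]
    obtain ⟨q, hq, hqP⟩ := hlift P' fun w hw hmem => Set.disjoint_left.1 hPW ((hP' _).1 (by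
      show e ((1 : R') ⊗ₜ[R] w) ∈ P'
      rwa [he]))
      ⟨w, hw, rfl⟩
    haveI := hq
    have hflatP : FlatCA.FlatAt R' P' N := by
      have h1 := (hiff q).1 (h q (sup_le (Ideal.map_le_iff_le_comap.2 (iSup_le fun i =>
        Ideal.map_le_iff_le_comap.2 fun a ha => ?_)) ?_))
      · have hgen : ∀ (Q₁ Q₂ : Ideal B) [Q₁.IsPrime] [Q₂.IsPrime], Q₁ = Q₂ → FlatCA.FlatAt R' Q₁ N →
            FlatCA.FlatAt R' Q₂ N := by
          intro Q₁ Q₂ _ _ hQ hh
          subst hQ
          exact hh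
        exact hgen _ _ hqP h1
      · show algebraMap R' S' (algebraMap (G i) R' a) ∈ q
        rw [← hφA]
        have : algebraMap R' B (algebraMap (G i) R' a) ∈ P' := by
          have h2 : algebraMap (G i) R' a ⊗ₜ[R] (1 : S₀) ∈ P := hCP ⟨i, a ⊗ₜ[R] 1, Ideal.mem_sup_left
            (Ideal.mem_sup_right (Ideal.mem_map_of_mem
              (Algebra.TensorProduct.includeLeft : G i →ₐ[R] G i ⊗[R] S₀) ha)), rfl⟩
          have h3 := (hP' _).2 h2
          rwa [Algebra.IsPushout.equiv_tmul, map_one, mul_one] at h3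
        rw [← hqP] at this
        exact this
      · rw [← IsLocalization.map_comap W S J, Ideal.map_map, Ideal.map_le_iff_le_comap]
        intro s hs
        show algebraMap S S' (algebraMap S₀ S s) ∈ q
        rw [← hφS]
        have : algebraMap S₀ B s ∈ P' := by
          have h2 : (1 : R') ⊗ₜ[R] s ∈ P := hCP ⟨i₀, (1 : G i₀) ⊗ₜ[R] s, Ideal.mem_sup_right
            (Ideal.mem_map_of_mem (Algebra.TensorProduct.includeRight : S₀ →ₐ[R] G i₀ ⊗[R] S₀) hs),
            by rw [Groth.Agent.EssFlat.toLim_tmul, map_one]⟩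
          rw [← he]
          exact (hP' _).2 h2
        rw [← hqP] at this
        exact this
    obtain ⟨t, htP, ht⟩ := Groth.Agent.FlatModel.exists_flat_nhd (R := R') N P' hflatP
    obtain ⟨i, z, hz, hgood⟩ := Groth.Agent.EssFlat.exists_good g' hcolim' M₀ l hl (e.symm t) (fun Q _ hQ => by
      rw [AlgEquiv.apply_symm_apply] at hQ
      exact ht Q.primeCompl hQ)
    refine htP ?_
    show e.symm t ∈ P
    exact hCP ⟨i, z, Ideal.mem_sup_left (Ideal.mem_sup_left (Ideal.subset_span hgood)), hz⟩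
  obtain ⟨w, hwW, i, x, hx, hxw⟩ := hw
  obtain ⟨k, hik, hk⟩ := Groth.Agent.EssFlat.exists_tr_eq_zero g' hcolim' (x - (1 : G i) ⊗ₜ[R] w) (by
    rw [map_sub, hxw, Groth.Agent.EssFlat.toLim_tmul, map_one, sub_self])
  have hwk : (1 : G k) ⊗ₜ[R] w ∈ b k := by
    rw [map_sub, sub_eq_zero, Groth.Agent.EssFlat.tr_tmul, map_one] at hk
    exact hk ▸ hmono i k hik x hx
  refine ⟨k, ?_⟩
  intro Si Mi _ _ _ _ _ _ _ _ _ _ _ _ _ fi hfi q _ hq
  obtain ⟨B, N, _, _, _, _, _, _, hpo, _, _, _, _, _, _, l, φ, hl, hφA, hφS, hiff, -⟩ :=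
    Groth.Agent.EssFlat.exists_compare (R := R) (A := G k) W m hm fi hfi
  haveI := hpo
  refine (hiff q).2 ?_
  let e := Algebra.IsPushout.equiv R (G k) S₀ B
  let P : Ideal (G k ⊗[R] S₀) := (q.comap φ).comap e.toRingHom
  have hP : ∀ y, y ∈ P ↔ φ (e y) ∈ q := fun _ => Iff.rfl
  have hwP : (1 : G k) ⊗ₜ[R] w ∉ P := fun hmem => by
    rw [hP, Algebra.IsPushout.equiv_tmul, map_one, one_mul, hφS] at hmem
    exact Ideal.IsPrime.ne_top ‹_› (Ideal.eq_top_of_isUnit_mem _ hmem
      ((IsLocalization.map_units S (⟨w, hwW⟩ : W)).map _))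
  by_contra hnot
  refine hwP ((sup_le (sup_le (Ideal.span_le.2 fun u hu => ?_) (Ideal.map_le_iff_le_comap.2 fun a ha => ?_))
    (Ideal.map_le_iff_le_comap.2 fun s hs => ?_) : b k ≤ P) hwk)
  · by_contra huP
    have htr : ∀ v : G k ⊗[R] S₀, Groth.Agent.EssFlat.tr g' (le_refl k) v = v := by
      intro v
      induction v using TensorProduct.induction_on with
      | zero => simp
      | tmul a s =>
        rw [Groth.Agent.EssFlat.tr_tmul]
        exact congrArg (fun c => c ⊗ₜ[R] s) (RingHom.congr_fun (hcolim.2.2.1 k) a)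
      | add a b ha hb => rw [map_add, ha, hb]
    exact hnot (hu k le_rfl B N l hl (q.comap φ) (by rw [htr]; exact huP))
  · show φ (e (a ⊗ₜ[R] (1 : S₀))) ∈ q
    rw [Algebra.IsPushout.equiv_tmul, map_one, mul_one, hφA]
    exact hq (Ideal.mem_sup_left (Ideal.mem_map_of_mem _ ha))
  · show φ (e ((1 : G k) ⊗ₜ[R] s)) ∈ q
    rw [Algebra.IsPushout.equiv_tmul, map_one, one_mul, hφS]
    exact hq (Ideal.mem_sup_right (Ideal.mem_map_of_mem _ hs))

end Groth.Agent.S6928
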