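import Groth.Statements.S6927
import Groth.Agent.FlatIdeal.Basic
import Groth.Agent.FlatIdeal.System
import Groth.Agent.S6928

set_option autoImplicit false
attribute [-instance] CategoryTheory.catToReflQuiver
set_option backward.isDefEq.respectTransparency false
set_option backward.isDefEq.respectTransparency.types false
universe u
open TensorProduct
open FlatMor

namespace Groth.Agent.S6927

set_option maxHeartbeats 1600000 in
/-- Let `(R, 𝔪)` be a complete Noetherian local ring, `R → S` of finite type, `M` a finite `S`-module,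
and `I ⊆ 𝔪` the least ideal for which, at every prime `𝔮` of `S` lying over `𝔪`, the localization
`(M/IM)_𝔮` is an `R/I`-flat module. Then for every local homomorphism `φ : R → R'` of local rings
(`R'` arbitrary), with `S' = S ⊗_R R'` and `M' = M ⊗_R R'`: `M'_{𝔮'}` is flat over `R'` for every
prime `𝔮'` of `S'` over `𝔪'` if and only if `φ(I) = 0`. -/
theorem result {R S R' S' : Type u} [CommRing R] [IsLocalRing R]
    [IsNoetherianRing R] [IsAdicComplete (IsLocalRing.maximalIdeal R) R] [CommRing S]
    [CommRing R'] [IsLocalRing R'] [CommRing S']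
    [Algebra R S] [Algebra.FiniteType R S] [Algebra R R'] [IsLocalHom (algebraMap R R')] [Algebra S S'] [Algebra R' S']
    [Algebra R S'] [IsScalarTower R S S'] [IsScalarTower R R' S'] [Algebra.IsPushout R S R' S']
    {M M' : Type u} [AddCommGroup M] [Module S M] [Module R M] [IsScalarTower R S M] [Module.Finite S M]
    [AddCommGroup M'] [Module S' M'] [Module R' M'] [IsScalarTower R' S' M'] [Module S M'] [IsScalarTower S S' M']
    (f : M →ₗ[S] M') (hf : IsBaseChange S' f) (I : Ideal R) (hIm : I ≤ IsLocalRing.maximalIdeal R)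
    (hI : (∀ (q : Ideal S) [q.IsPrime], q.comap (algebraMap R S) = IsLocalRing.maximalIdeal R →
        Module.Flat (R ⧸ I) ((R ⧸ I) ⊗[R] LocalizedModule q.primeCompl M)))
    (hmin : ∀ J : Ideal R, (∀ (q : Ideal S) [q.IsPrime], q.comap (algebraMap R S) = IsLocalRing.maximalIdeal R →
        Module.Flat (R ⧸ J) ((R ⧸ J) ⊗[R] LocalizedModule q.primeCompl M)) → I ≤ J) :
    (∀ (q' : Ideal S') [q'.IsPrime], q'.comap (algebraMap R' S') = IsLocalRing.maximalIdeal R' → FlatCA.FlatAt R' q' M') ↔
      I ≤ RingHom.ker (algebraMap R R') := by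
  classical
  refine ⟨fun h => ?_, fun hle q' _ hq' => Groth.Agent.FlatIdeal.flatAt_of_le_ker f hf hI hle q' hq'⟩
  haveI : IsNoetherianRing S := Algebra.FiniteType.isNoetherianRing R S
  haveI : Algebra.FinitePresentation R S := Algebra.FinitePresentation.of_finiteType.1 inferInstance
  haveI : Module.FinitePresentation S M := Module.finitePresentation_of_finite S M
  have hS : FlatCA.EssFinitePresentation R S :=
    ⟨S, inferInstance, inferInstance, inferInstance, inferInstance, ⊥, inferInstance, IsLocalization.self bot_le⟩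
  obtain ⟨F, hmono, hcover, hstage⟩ := Groth.Agent.FlatIdeal.exists_system (R := R) (R' := R')
  haveI hloc : ∀ s, IsLocalRing (F s) := fun s => (hstage s).2.2.1
  haveI : IsDirected (Finset R') (· ≤ ·) := inferInstance
  obtain ⟨hgR, hcolim⟩ := Groth.Agent.FlatIdeal.colim_of_subalgebras F hmono hcover
  let g : ∀ s t, s ≤ t → F s →+* F t := fun s t h => (Subalgebra.inclusion (hmono s t h)).toRingHom
  let Il : ∀ s, Ideal (F s) := fun s => IsLocalRing.maximalIdeal (F s)
  have hIl : ∀ s t (h : s ≤ t), (Il s).map (g s t h) ≤ Il t := fun s t h => by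
    rw [Ideal.map_le_iff_le_comap]
    intro x hx
    exact (IsLocalRing.mem_maximalIdeal _).2 fun hu' => (IsLocalRing.mem_maximalIdeal _).1 hx
      ((hstage s).2.1 x (hu'.map (F t).val))
  obtain ⟨i, hi⟩ := Groth.Agent.S6928.result (R := R) (S := S) hS (M := M) (fun s => F s) g hgR R' hcolim Il hIl f hf ⊥ (fun q' _ hq' => by
    refine h q' (le_antisymm (IsLocalRing.le_maximalIdeal (Ideal.IsPrime.ne_top inferInstance)) fun a ha => ?_)
    obtain ⟨s, x, rfl⟩ := hcolim.2.2.2.2.2.1 a
    refine hq' (Ideal.mem_sup_left (Ideal.mem_map_of_mem _ (Ideal.mem_iSup_of_mem s (Ideal.mem_map_of_mem _ ?_))))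
    exact (IsLocalRing.mem_maximalIdeal _).2 fun hu' => (IsLocalRing.mem_maximalIdeal _).1 ha (hu'.map _))
  haveI : IsNoetherianRing (F i) := (hstage i).1
  haveI : IsLocalHom (algebraMap R (F i)) := (hstage i).2.2.2
  obtain ⟨Si, Mi, _, _, _, _, _, _, _, _, _, _, _, _, fi, hp1, hp2, hfi⟩ :=
    Groth.Agent.FlatPure.exists_base_model R (F i) S M
  haveI := hp1; haveI := hp2
  have hle : I ≤ RingHom.ker (algebraMap R (F i)) :=
    Groth.Agent.FlatIdeal.le_ker_of_flatAt fi hfi hmin fun q _ hq => hi Si Mi fi hfi q (by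
      rw [Ideal.map_bot, sup_bot_eq, Ideal.map_le_iff_le_comap, hq])
  intro a ha
  rw [RingHom.mem_ker, IsScalarTower.algebraMap_apply R (F i) R', RingHom.mem_ker.1 (hle ha), map_zero]

end Groth.Agent.S6927
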