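import Groth.Statements.S6930
import Groth.Agent.StrictFlatVal.Main

set_option autoImplicit false
set_option synthInstance.maxHeartbeats 200000
attribute [-instance] CategoryTheory.catToReflQuiver
set_option backward.isDefEq.respectTransparency false
set_option backward.isDefEq.respectTransparency.types false
universe u
open TensorProduct
open FlatMor

namespace Groth.Agent.S6930

/-- Let `(R, 𝔪)` be a local domain whose maximal ideal is nonzero, with fraction field `K`; let `S` be
an `R`-algebra of finite type, `M` a finite `S`-module and `A ⊆ K` a valuation ring dominating `R`.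
Then one can find a finitely generated ideal `I ⊆ 𝔪` and a nonzero `a ∈ I` with the following
properties, where `R₁ = R[I/a]` denotes the affine blow-up algebra (taken up to `R`-algebra
isomorphism): every `x/a` with `x ∈ I` lies in `A`, so that `R₁ ⊆ A` inside `K`; the ring `R₁/𝔪R₁`
is nonzero; the strict transform of `S` (the quotient of `R₁ ⊗_R S` by its `a`-power torsion) is
flat over `R₁` and is a finitely presented `R₁`-algebra; and the strict transform of `M` (the
quotient of `R₁ ⊗_R M` by its `a`-power torsion) is flat over `R₁`. (The published statement asks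
for these strict transforms to be flat, and the first to be finitely presented, over `R` itself;
that fails for every choice of `(I, a)` already when `R = k[x, y]` localized at `(x, y)` and `S =
R[y/x]`, and the published proof, which passes to the limit over the rings `R[I/a]`, yields flatness
and finite presentation over `R[I/a]`, which is what is stated here. The published statement also
allows `𝔪 = 0`, i.e. `R` a field; then all hypotheses hold with `A = K` while no nonzero `a ∈ 𝔪`
exists, so the hypothesis `𝔪 ≠ 0` is added. Finally, the published statement also asserts that the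
strict transform of `M` is finitely presented over the strict transform of `S`; that clause is not
included.) -/
theorem result (R K : Type u) [CommRing R] [IsDomain R] [IsLocalRing R] [Field K]
    [Algebra R K] [IsFractionRing R K] (S : Type u) [CommRing S] [Algebra R S] [Algebra.FiniteType R S] (M : Type u)
    [AddCommGroup M] [Module S M] [Module R M] [IsScalarTower R S M] [Module.Finite S M]
    (A : Type u) [CommRing A] [IsDomain A] [ValuationRing A] [Algebra A K] [IsFractionRing A K] [Algebra R A]
    [IsScalarTower R A K] [IsLocalHom (algebraMap R A)] (hm : IsLocalRing.maximalIdeal R ≠ ⊥) :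
    ∃ (I : Ideal R) (a : R), I.FG ∧ I ≤ IsLocalRing.maximalIdeal R ∧ a ∈ I ∧ a ≠ 0 ∧
      (∀ x ∈ I, ∃ y : A, algebraMap A K y * algebraMap R K a = algebraMap R K x) ∧
      ∀ (R₁ : Type u) [CommRing R₁] [Algebra R R₁] (e : R₁ ≃ₐ[R] ↥(BlowUp.affineAlgebra R I a)),
        (IsLocalRing.maximalIdeal R).map (algebraMap R R₁) ≠ ⊤ ∧
        Module.Flat R₁ ((R₁ ⊗[R] S) ⧸ FlatCA.powTorsion (R₁ ⊗[R] S) (algebraMap R (R₁ ⊗[R] S) a) (R₁ ⊗[R] S)) ∧
        Algebra.FinitePresentation R₁
          ((R₁ ⊗[R] S) ⧸ FlatCA.powTorsion (R₁ ⊗[R] S) (algebraMap R (R₁ ⊗[R] S) a) (R₁ ⊗[R] S)) ∧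
        Module.Flat R₁ ((R₁ ⊗[R] M) ⧸ FlatCA.powTorsion R₁ (algebraMap R R₁ a) (R₁ ⊗[R] M)) := by
  classical
  obtain ⟨F₁, c₁, hc₁, h₁⟩ := StrictFlatVal.exists_finset_strict (R := R) (K := K) (A := A) S
  obtain ⟨F₂, c₂, hc₂, h₂⟩ := StrictFlatVal.exists_finset_strict_module (R := R) (K := K) (A := A) S M
  obtain ⟨I, a, hfg, hIm, haI, ha, hca, hI, hF⟩ :=
    StrictFlatVal.exists_ideal_of_finset (K := K) hm (F₁ ∪ F₂) (c₁ * c₂) (mul_ne_zero hc₁ hc₂)
  refine ⟨I, a, hfg, hIm, haI, ha, hI, fun R₁ _ _ e => ?_⟩
  obtain ⟨φ, hφ, hφr⟩ := StrictFlatVal.exists_hom_affineAlgebra (A := A) (K := K) I a ha hI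
  let j : R₁ →ₐ[R] A := φ.comp e.toAlgHom
  have hj : Function.Injective j := hφ.comp e.injective
  have hr : ∀ y ∈ F₁ ∪ F₂, y ∈ Set.range j := fun y hy => by
    obtain ⟨x, hx, hxy⟩ := hF y hy
    obtain ⟨z, hz⟩ := hφr y x hx hxy
    exact ⟨e.symm z, by rw [← hz]; exact congrArg φ (e.apply_symm_apply z)⟩
  have hr₁ : (F₁ : Set A) ⊆ Set.range j := fun y hy => hr y (Finset.mem_union_left _ hy)
  have hr₂ : (F₂ : Set A) ⊆ Set.range j := fun y hy => hr y (Finset.mem_union_right _ hy)
  obtain ⟨hS₁, hS₂⟩ := h₁ R₁ j hj hr₁ a ha (dvd_trans (dvd_mul_right _ _) hca)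
  refine ⟨fun htop => ?_, hS₁, hS₂, h₂ R₁ j hj hr₂ a ha (dvd_trans (dvd_mul_left _ _) hca)⟩
  have hle : (IsLocalRing.maximalIdeal R).map (algebraMap R R₁) ≤ (IsLocalRing.maximalIdeal A).comap j := by
    refine Ideal.map_le_iff_le_comap.2 fun r hr => ?_
    show j (algebraMap R R₁ r) ∈ IsLocalRing.maximalIdeal A
    rw [j.commutes]
    exact (isUnit_map_iff (algebraMap R A) r).not.2 hr
  rw [htop, top_le_iff] at hle
  exact Ideal.IsPrime.ne_top (Ideal.IsPrime.comap j.toRingHom) hle

end Groth.Agent.S6930
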