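import Groth.Statements.S6932
import Groth.Agent.H1FPLib.FinCover

set_option autoImplicit false
universe u
set_option backward.isDefEq.respectTransparency false
open CAlg

namespace Groth.Agent.S6932

/-- Let `R → S` be a ring map of finite type with `S` flat over `R`, such that `R → ∏_j R_{𝔭_j}` is
injective for some finite set of primes `𝔭_j` and each localization `S_𝔭` (at a prime `𝔭` of `R`) is
a finitely presented `R_𝔭`-algebra. Then `S` is a finitely presented `R`-algebra. -/
theorem result {R S : Type u} [CommRing R] [CommRing S]
    [Algebra R S] [Algebra.FiniteType R S] [Module.Flat R S] (s : Finset (PrimeSpectrum R))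
    (hs : Function.Injective fun r : R => fun p : s => algebraMap R (Localization.AtPrime p.1.asIdeal) r)
    (hloc : ∀ (p : Ideal R) [p.IsPrime],
      Algebra.FinitePresentation (Localization.AtPrime p) (Localization (Algebra.algebraMapSubmonoid S p.primeCompl))) :
    Algebra.FinitePresentation R S := by
  obtain ⟨n, φ0, hφ0⟩ := Algebra.FiniteType.iff_quotient_mvPolynomial''.1 ‹Algebra.FiniteType R S›
  let P := MvPolynomial (Fin n) R
  letI : Algebra P S := φ0.toRingHom.toAlgebra
  haveI : IsScalarTower R P S := IsScalarTower.of_algebraMap_eq fun r => (φ0.commutes r).symm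
  haveI : Module.Finite P S := Module.Finite.of_surjective (Algebra.linearMap P S) hφ0
  have hfp : Module.FinitePresentation P S := by
    refine H1FPLib.finitePresentation_of_flat S s hs fun p _ => ?_
    let TP := Algebra.algebraMapSubmonoid P p.primeCompl
    let TS := Algebra.algebraMapSubmonoid S p.primeCompl
    let Pp := Localization TP
    let Sp := Localization TS
    have hT : Algebra.algebraMapSubmonoid S TP = TS := by
      ext x
      constructor
      · rintro ⟨_, ⟨r, hr, rfl⟩, rfl⟩
        exact ⟨r, hr, (IsScalarTower.algebraMap_apply R P S r)⟩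
      · rintro ⟨r, hr, rfl⟩
        exact ⟨_, ⟨r, hr, rfl⟩, (IsScalarTower.algebraMap_apply R P S r).symm⟩
    haveI hloS : IsLocalization (Algebra.algebraMapSubmonoid S TP) Sp := by rw [hT]; infer_instance
    letI : Algebra Pp Sp := localizationAlgebra TP S
    haveI : IsScalarTower P Pp Sp := IsScalarTower.of_algebraMap_eq (R := P) (S := Pp) (A := Sp) fun x =>
      (IsScalarTower.algebraMap_apply P S Sp x).trans
        (IsLocalization.map_eq (T := Algebra.algebraMapSubmonoid S TP) (Q := Sp)
          (g := algebraMap P S) TP.le_comap_map x).symm
    haveI : IsLocalization (Submonoid.map (algebraMap P S) TP) Sp := hloS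
    have hsurj : Function.Surjective (algebraMap Pp Sp) :=
      IsLocalization.map_surjective_of_surjective TP Pp Sp (g := algebraMap P S) hφ0
    haveI : IsLocalization (Submonoid.map (algebraMap R P) p.primeCompl) Pp :=
      inferInstanceAs (IsLocalization TP Pp)
    let ι : Localization.AtPrime p →+* Pp :=
      IsLocalization.map Pp (algebraMap R P) (Submonoid.le_comap_map p.primeCompl)
    have hι : ι.FiniteType := RingHom.finiteType_localizationPreserves (algebraMap R P) p.primeCompl
      (Localization.AtPrime p) Pp (RingHom.finiteType_algebraMap.2 inferInstance)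
    have hcomp : (algebraMap Pp Sp).comp ι = algebraMap (Localization.AtPrime p) Sp := by
      refine IsLocalization.ringHom_ext p.primeCompl (RingHom.ext fun r => ?_)
      simp only [RingHom.comp_apply, ι, IsLocalization.map_eq]
      rw [← IsScalarTower.algebraMap_apply P Pp Sp, IsScalarTower.algebraMap_apply P S Sp,
        ← IsScalarTower.algebraMap_apply R P S, ← IsScalarTower.algebraMap_apply R S Sp,
        ← IsScalarTower.algebraMap_apply R (Localization.AtPrime p) Sp]
    have hφ : (algebraMap Pp Sp).FinitePresentation :=
      RingHom.FinitePresentation.of_comp_finiteType ι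
        (hcomp ▸ RingHom.finitePresentation_algebraMap.2 (hloc p)) hι
    haveI : Algebra.FinitePresentation Pp Sp := RingHom.finitePresentation_algebraMap.1 hφ
    haveI : Module.FinitePresentation Pp Sp :=
      Module.finitePresentation_of_surjective (Algebra.linearMap Pp Sp) hsurj
        (Algebra.FinitePresentation.ker_fG_of_surjective (Algebra.ofId Pp Sp) hsurj)
    haveI : IsLocalizedModule TP (IsScalarTower.toAlgHom P S Sp).toLinearMap :=
      isLocalizedModule_iff_isLocalization.2 hloS
    exact Module.FinitePresentation.of_equiv
      ((IsLocalizedModule.iso TP (IsScalarTower.toAlgHom P S Sp).toLinearMap).extendScalarsOfIsLocalization TP Pp).symm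
  obtain ⟨G, hG⟩ := Module.FinitePresentation.fg_ker (Algebra.linearMap P S) hφ0
  exact Algebra.FinitePresentation.of_surjective hφ0 ⟨G, hG⟩

end Groth.Agent.S6932
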