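import Groth.Statements.S6977
import Groth.Agent.PerfGen7.FibreRegular
import Groth.Agent.AlgSpLib.SmLift.Core
import Groth.Agent.S0563

set_option autoImplicit false
universe u
open CategoryTheory CategoryTheory.Limits
attribute [local instance] HasDerivedCategory.standard
open DRing

namespace Groth.Agent.S6977

/-- Let A → B be a flat local homomorphism of local commutative rings such that B/m_A B is a regular
local ring of dimension d, and assume the derived base change D(A) → D(κ_A) to the residue field of
A exists. Let a, b be integers and K a pseudo-coherent object of D(B) such that H^i((K regarded in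
D(A)) ⊗^L_A κ_A) = 0 for every i outside [a, b]. Then K is perfect as an object of D(B) and has tor
amplitude in [a - d, b] over B. -/
theorem result {A B : Type u} [CommRing A] [CommRing B] [IsLocalRing A]
    [IsLocalRing B] [Algebra A B] [IsLocalHom (algebraMap A B)] [Module.Flat A B] (d : ℕ)
    [IsRegularLocalRing (B ⧸ (IsLocalRing.maximalIdeal A).map (algebraMap A B))]
    (hd : ringKrullDim (B ⧸ (IsLocalRing.maximalIdeal A).map (algebraMap A B)) = d)
    [DRing.HasLBaseChange (IsLocalRing.residue A)] (a b : ℤ) (K : Dual.D B) (hK : DRing.IsPseudoCoherent' B K)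
    (h : ∀ i : ℤ, (i < a ∨ b < i) → Subsingleton (Dual.HD (IsLocalRing.ResidueField A)
      ((DRing.LBaseChange (IsLocalRing.residue A)).obj ((DRing.restrictD (algebraMap A B)).obj K)) i)) :
    DRing.IsPerfect B K ∧ DRing.HasTorAmplitudeIn B (a - d) b K := by
  obtain ⟨E, b₀, hz, hE, ⟨e⟩⟩ := hK
  let φA := algebraMap A B
  let J := IsLocalRing.maximalIdeal A
  let I := J.map φA
  have hI : I ≤ IsLocalRing.maximalIdeal B := ((IsLocalRing.local_hom_TFAE φA).out 0 2).1 ‹_›
  let X : DRing.Cx A := ((ModuleCat.restrictScalars φA).mapHomologicalComplex (ComplexShape.up ℤ)).obj E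
  have hX : DRing.TermwiseFlat X :=
    Groth.Agent.PerfGen7.FibreRegular.termwiseFlat_res (RingHom.flat_algebraMap_iff.2 ‹_›) hE
  have hXK : Groth.Agent.H9Misc.DRingLTensor.IsKF X :=
    Groth.Agent.H9Misc.DRingTor.isKF_of_flat hX fun i hi => (ModuleCat.restrictScalars φA).map_isZero (hz i hi)
  have hamp : DRing.HasTorAmplitudeIn B (a - d) b K := by
    refine Groth.Agent.PerfGen7.RelTor.torAmp_of_iso e (Groth.Agent.PerfGen7.FibreRegular.amp_of_fibre
      (Ideal.Quotient.mk I) (Ideal.Quotient.factor hI) (RingHom.ext fun x => rfl) hE hz d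
      (fun M => Groth.Agent.S0563.result _ d hd M) fun i hi => ?_)
    exact (Groth.Agent.PerfGen7.FibreRegular.exactAt_fibre_iff
      (Groth.Agent.AlgSpLib.SmLift.isPushout_quotient φA J) E i).1
      (Groth.Agent.H9Misc.DRingFibre.exactAt_of_lbase (IsLocalRing.residue A) hXK
        (((ModuleCat.restrictScalars φA).mapDerivedCategoryFactors.app E).symm ≪≫
          (DRing.restrictD φA).mapIso e) i (h i hi))
  exact ⟨Groth.Agent.H9Misc.DRingFibre.isPerfect_of_amp ⟨E, b₀, hz, hE, ⟨e⟩⟩ hamp, hamp⟩

end Groth.Agent.S6977
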