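import Groth.Statements.S6978
import Groth.Agent.CompactD.Ring

set_option autoImplicit false
universe u
open CategoryTheory CategoryTheory.Limits
attribute [local instance] HasDerivedCategory.standard
open DRing

namespace Groth.Agent.S6978

/-- Let R be a commutative ring and K an object of D(R). Then K is perfect if and only if K is a compact
object of D(R): for every family (E_i) of objects of D(R) indexed by a small type, the canonical map
from the direct sum of the Hom(K, E_i) to Hom(K, ⊕ E_i) is bijective. -/
theorem result (R : Type u) [CommRing R] (K : Dual.D R) :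
    DRing.IsPerfect R K ↔
      ∀ (I : Type u) (E : I → Dual.D R) [HasCoproduct fun i : ULift.{u + 1} I => E i.down],
        Function.Bijective (CohDer.homSumToHomCoprod K (fun i : ULift.{u + 1} I => E i.down)) := by
  have h : DRing.IsPerfect R K ↔ Groth.Agent.KFlatLib.RPerf (R := CommRingCat.of R) K := Iff.rfl
  rw [h, Groth.Agent.CompactD.rPerf_iff_fixAt]
  haveI : ∀ J : Type u, Limits.HasColimitsOfShape (Discrete J) (Dual.D R) :=
    fun J => Groth.Agent.TriCat.hasColimitsOfShape_derivedCategory
  refine ⟨fun h I E _ => Groth.Agent.KFlatLib.bijective_homSumToHomCoprod _ ?_, fun h J E _ => ?_⟩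
  · exact Groth.Agent.KFlatLib.FixAt.reindex (M := E) Equiv.ulift.symm (fun j => Iso.refl _) (h I E)
  · haveI : Limits.HasCoproduct fun i : ULift.{u + 1} J => E i.down :=
      Limits.hasColimit_of_iso (F := (Discrete.equivalence Equiv.ulift).functor ⋙ Discrete.functor E)
        (Discrete.natIso fun i => Iso.refl _)
    exact Groth.Agent.KFlatLib.FixAt.reindex (M := fun i : ULift.{u + 1} J => E i.down) Equiv.ulift (fun j => Iso.refl _)
      (Groth.Agent.CompactD.fixAt_of_surjective (h J E).2)

end Groth.Agent.S6978
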