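import Groth.Statements.S6999
import Groth.Agent.H1ColimHom.Basic

set_option autoImplicit false
universe u
open CategoryTheory CategoryTheory.Limits
attribute [local instance] HasDerivedCategory.standard
open DRing

namespace Groth.Agent.S6999

/-- Let R be a commutative ring, m an integer, K an m-pseudo-coherent object of D(R), and (M_j) a
diagram of R-modules over a small filtered category with colimit cocone M. Then the canonical map
colim_j Hom(K, M_j[n]) → Hom(K, M[n]) in D(R) is bijective for n < -m and injective for n = -m.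
Unfolded: for n < -m every morphism K → M[n] factors through M_j[n] → M[n] for some j; and for n ≤
-m, a morphism K → M_j[n] whose composite with M_j[n] → M[n] is zero already has zero composite with
M_j[n] → M_(j')[n] for some j → j'. -/
theorem result (R : Type u) [CommRing R] (m : ℤ) (K : Dual.D R)
    (hK : DRing.IsPseudoCoherent R m K) {J : Type u} [SmallCategory J] [IsFiltered J]
    (F : J ⥤ ModuleCat.{u} R) (c : Cocone F) (hc : IsColimit c) :
    (∀ n : ℤ, n < -m → ∀ x : K ⟶ (shiftFunctor (Dual.D R) n).obj (Dual.inD R c.pt),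
      ∃ (j : J) (y : K ⟶ (shiftFunctor (Dual.D R) n).obj (Dual.inD R (F.obj j))),
        y ≫ (shiftFunctor (Dual.D R) n).map
          ((DerivedCategory.singleFunctor (ModuleCat.{u} R) 0).map (c.ι.app j)) = x) ∧
    (∀ n : ℤ, n ≤ -m → ∀ (j : J) (y : K ⟶ (shiftFunctor (Dual.D R) n).obj (Dual.inD R (F.obj j))),
      y ≫ (shiftFunctor (Dual.D R) n).map
          ((DerivedCategory.singleFunctor (ModuleCat.{u} R) 0).map (c.ι.app j)) = 0 →
      ∃ (j' : J) (f : j ⟶ j'), y ≫ (shiftFunctor (Dual.D R) n).map
          ((DerivedCategory.singleFunctor (ModuleCat.{u} R) 0).map (F.map f)) = 0) := by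
  have key : ∀ n : ℤ, ∃ τ : DerivedCategory.singleFunctor (ModuleCat.{u} R) 0 ⋙ shiftFunctor (Dual.D R) n ≅
      DerivedCategory.singleFunctor (ModuleCat.{u} R) (-n), True :=
    fun n => ⟨(DerivedCategory.singleFunctors (ModuleCat.{u} R)).shiftIso n (-n) 0 (by omega), trivial⟩
  refine ⟨fun n hn x => ?_, fun n hn j y hy => ?_⟩
  · obtain ⟨τ, -⟩ := key n
    obtain ⟨j, z, hz⟩ := (Groth.Agent.H1ColimHom.colimHom_of_pseudoCoherent hK hc (-n)).1 (by omega) (x ≫ τ.hom.app c.pt)
    refine ⟨j, z ≫ τ.inv.app (F.obj j), ?_⟩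
    exact (Category.assoc _ _ _).trans ((congrArg (z ≫ ·) (τ.inv.naturality (c.ι.app j)).symm).trans
      ((Category.assoc _ _ _).symm.trans ((congrArg (· ≫ τ.inv.app c.pt) hz).trans
        ((Category.assoc _ _ _).trans ((congrArg (x ≫ ·) (τ.hom_inv_id_app c.pt)).trans (Category.comp_id x))))))
  · obtain ⟨τ, -⟩ := key n
    obtain ⟨j', g, hg⟩ := (Groth.Agent.H1ColimHom.colimHom_of_pseudoCoherent hK hc (-n)).2 (by omega) j
      (y ≫ τ.hom.app (F.obj j)) (by
        rw [Category.assoc]
        exact (congrArg (y ≫ ·) (τ.hom.naturality (c.ι.app j)).symm).trans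
          ((Category.assoc _ _ _).symm.trans ((congrArg (· ≫ τ.hom.app _) hy).trans CategoryTheory.Limits.zero_comp)))
    refine ⟨j', g, (cancel_mono (τ.hom.app (F.obj j'))).1 ?_⟩
    rw [CategoryTheory.Limits.zero_comp, Category.assoc]
    exact (congrArg (y ≫ ·) (τ.hom.naturality (F.map g))).trans ((Category.assoc _ _ _).symm.trans hg)

end Groth.Agent.S6999
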