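import Groth.Statements.S7025
import Groth.Agent.RelPCBase.Ring

set_option autoImplicit false
universe u
open CategoryTheory CategoryTheory.Limits
attribute [local instance] HasDerivedCategory.standard
open DerCA

namespace Groth.Agent.S7025

/-- Let R → A → B be finite type homomorphisms of commutative rings such that B is A-flat and the
B-module B is pseudo-coherent relative to A. Let m be an integer and M an A-module. Whenever M is
m-pseudo-coherent relative to R, the B-module B ⊗_A M is again m-pseudo-coherent over R; likewise,
relative pseudo-coherence of M over R (in all degrees) passes to B ⊗_A M. -/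
theorem result {R A B : Type u} [CommRing R]
    [CommRing A] [CommRing B] [Algebra R A] [Algebra A B] [Algebra R B] [IsScalarTower R A B]
    [Algebra.FiniteType R A] [Algebra.FiniteType A B] [Module.Flat A B]
    (hB : DerCA.IsRelPseudoCoherentModuleAll A B B) (m : ℤ) (M : Type u) [AddCommGroup M] [Module A M] :
    (DerCA.IsRelPseudoCoherentModule R A m M → DerCA.IsRelPseudoCoherentModule R B m (TensorProduct A B M)) ∧
      (DerCA.IsRelPseudoCoherentModuleAll R A M →
        DerCA.IsRelPseudoCoherentModuleAll R B (TensorProduct A B M)) := by
  haveI : DRing.HasLBaseChange (algebraMap A B) := Groth.Agent.H9Misc.DRingLBase.hasLBaseChange _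
  obtain ⟨e⟩ := Groth.Agent.RelPCBase.nonempty_lbase_inD (A := A) (B := B) M
  have key : ∀ i, DerCA.IsRelPseudoCoherentModule R A i M →
      DerCA.IsRelPseudoCoherentModule R B i (TensorProduct A B M) := fun i h => by
    obtain ⟨n, β, hβ, h'⟩ := Groth.Agent.RelPCBase.rel_lbase hB _ i h
    exact ⟨n, β, hβ, Groth.Agent.H9Misc.DRingPC.of_iso ((DRing.restrictD _).mapIso e) h'⟩
  exact ⟨key m, fun h i => key i (h i)⟩

end Groth.Agent.S7025
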