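import Groth.Statements.S7035
import Groth.Agent.PerfGen7.FibreRegular

set_option autoImplicit false
universe u
open CategoryTheory CategoryTheory.Limits
attribute [local instance] HasDerivedCategory.standard
open DRing

namespace Groth.Agent.S7035

/-- Let A → B be a flat homomorphism of commutative rings and d a natural number such that for every
prime p of A, with residue field κ(p), every module over κ(p) ⊗_A B has projective dimension at most
d; assume the derived tensor products - ⊗^L M exist on D(κ(p) ⊗_A B) for all p and the derived base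
changes D(B) → D(B/m) exist for all ideals m of B. Let a, b be integers and K an object of D(B)
which is pseudo-coherent over B and, with scalars restricted to A, has tor amplitude in [a, b]. Then
K is perfect over B and has tor amplitude in [a - d, b] over B. -/
theorem result {A B : Type u} [CommRing A] [CommRing B] [Algebra A B]
    [Module.Flat A B] (d : ℕ)
    (hgl : ∀ (p : PrimeSpectrum A) (M : Type u) [AddCommGroup M]
      [Module (TensorProduct A p.asIdeal.ResidueField B) M],
      HasProjectiveDimensionLT (ModuleCat.of (TensorProduct A p.asIdeal.ResidueField B) M) (d + 1))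
    [∀ (p : PrimeSpectrum A) (M : ModuleCat.{u} (TensorProduct A p.asIdeal.ResidueField B)),
      DRing.HasLTensor (TensorProduct A p.asIdeal.ResidueField B) M]
    [∀ m : Ideal B, DRing.HasLBaseChange (Ideal.Quotient.mk m)] (a b : ℤ) (K : Dual.D B)
    (hK : DRing.IsPseudoCoherent' B K)
    (hKa : DRing.HasTorAmplitudeIn A a b ((DRing.restrictD (algebraMap A B)).obj K)) :
    DRing.IsPerfect B K ∧ DRing.HasTorAmplitudeIn B (a - d) b K := by
  obtain ⟨E, b₀, hz, hE, ⟨e⟩⟩ := hK
  let φA := algebraMap A B
  let X : DRing.Cx A := ((ModuleCat.restrictScalars φA).mapHomologicalComplex (ComplexShape.up ℤ)).obj E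
  have hX : DRing.TermwiseFlat X :=
    Groth.Agent.PerfGen7.FibreRegular.termwiseFlat_res (RingHom.flat_algebraMap_iff.2 ‹_›) hE
  have hXb : DRing.VanishesAbove X b₀ := fun i hi => (ModuleCat.restrictScalars φA).map_isZero (hz i hi)
  let eX : DerivedCategory.Q.obj X ≅ (DRing.restrictD φA).obj K :=
    ((ModuleCat.restrictScalars φA).mapDerivedCategoryFactors.app E).symm ≪≫ (DRing.restrictD φA).mapIso e
  have key : DRing.HasTorAmplitudeIn B (a - d) b K := by
    refine Groth.Agent.PerfGen7.RelTor.torAmp_of_iso e
      (Groth.Agent.H9Misc.DRingFibre.amp_of_fibres hE hz (a - d) b fun m hm i hi => ?_)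
    haveI := hm
    letI : Field (B ⧸ m) := Ideal.Quotient.field m
    let P : PrimeSpectrum A := ⟨m.comap φA, Ideal.comap_isPrime φA m⟩
    let g : A →+* B ⧸ m := (Ideal.Quotient.mk m).comp φA
    let l : P.asIdeal.ResidueField →+* B ⧸ m := Ideal.ResidueField.lift P.asIdeal g
      (fun x hx => Ideal.Quotient.eq_zero_iff_mem.2 hx)
      (fun x hx => IsUnit.mk0 _ fun h0 => hx ((Ideal.Quotient.eq_zero_iff_mem (I := m)).1 h0))
    let lA : P.asIdeal.ResidueField →ₐ[A] B ⧸ m :=
      { l with commutes' := fun r => Ideal.ResidueField.lift_algebraMap P.asIdeal g _ _ r }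
    let qA : B →ₐ[A] B ⧸ m := { Ideal.Quotient.mk m with commutes' := fun r => rfl }
    let φC : TensorProduct A P.asIdeal.ResidueField B →+* B ⧸ m :=
      (Algebra.TensorProduct.lift lA qA fun _ _ => Commute.all _ _).toRingHom
    letI : Algebra B (TensorProduct A P.asIdeal.ResidueField B) := Algebra.TensorProduct.rightAlgebra
    let π := algebraMap A P.asIdeal.ResidueField
    haveI := Groth.Agent.H9Misc.DRingLBase.hasLBaseChange π
    refine Groth.Agent.PerfGen7.FibreRegular.exactAt_comp_of_globalDim
      (algebraMap B (TensorProduct A P.asIdeal.ResidueField B)) φC ?_ hE hz d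
      (fun M => hgl P M) (fun j hj => ?_) i hi
    · refine RingHom.ext fun x => ?_
      show Algebra.TensorProduct.lift lA qA (fun _ _ => Commute.all _ _) ((1 : P.asIdeal.ResidueField) ⊗ₜ[A] x) = _
      rw [Algebra.TensorProduct.lift_tmul, map_one, one_mul]
      rfl
    · refine (Groth.Agent.PerfGen7.FibreRegular.exactAt_fibre_iff (π := π) (φ := φA)
        (φ' := algebraMap P.asIdeal.ResidueField (TensorProduct A P.asIdeal.ResidueField B))
        (CommRingCat.isPushout_of_isPushout A P.asIdeal.ResidueField B (TensorProduct A P.asIdeal.ResidueField B)) E j).1 ?_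
      have hKF := Groth.Agent.H9Misc.DRingTor.isKF_of_flat hX hXb
      obtain ⟨eL⟩ := Groth.Agent.H9Misc.DRingLBase.nonempty_lbase_iso π hKF
      have h1 := Groth.Agent.H9Misc.DRingLBase.hasTorAmplitudeIn_lbase π
        (Groth.Agent.PerfGen7.RelTor.torAmp_of_iso eX.symm hKa)
      have hKF' : Groth.Agent.H9Misc.DRingLTensor.IsKF ((Groth.Agent.H9Misc.DRingLTensor.extC' π).obj X) :=
        Groth.Agent.H9Misc.DRingTor.isKF_of_flat
          (fun l => haveI := hX l; Groth.Agent.H9Misc.DRingLBase.flat_extendScalars π (X.X l))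
          (fun l hl => (ModuleCat.extendScalars π).map_isZero (hXb l hl))
      exact ((Groth.Agent.H9Misc.DRingTor.iff_van hKF' eL.symm).1 h1).exactAt hj
  exact ⟨Groth.Agent.H9Misc.DRingFibre.isPerfect_of_amp ⟨E, b₀, hz, hE, ⟨e⟩⟩ key, key⟩

end Groth.Agent.S7035
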