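import Groth.Statements.S7075
import Groth.Agent.PerfGen7.TorAmpBC
import Groth.Agent.H9Misc.DRingLBase
import Groth.Agent.H9Misc.DRingPerfect

set_option autoImplicit false
universe u
attribute [local instance] HasDerivedCategory.standard
open TensorProduct
open Dual2

namespace Groth.Agent.S7075

/-- Let R → A be a flat homomorphism of finite presentation of commutative rings, R → R' any ring map
and A' = R' ⊗_R A. If K in D(A) is R-perfect then its derived base change K ⊗^L_A A' (the total left
derived functor of extension of scalars, assumed to exist) is R'-perfect in D(A'). -/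
theorem result (R A R' : Type u) [CommRing R] [CommRing A] [Algebra R A] [CommRing R'] [Algebra R R']
    [Module.Flat R A] [Algebra.FinitePresentation R A]
    [DRing.HasLBaseChange (Algebra.TensorProduct.includeRight.toRingHom : A →+* R' ⊗[R] A)]
    (K : Dual.D A) (hK : Dual2.IsRelPerfect R A K) :
    Dual2.IsRelPerfect R' (R' ⊗[R] A)
      ((DRing.LBaseChange (Algebra.TensorProduct.includeRight.toRingHom : A →+* R' ⊗[R] A)).obj K) := by
  obtain ⟨⟨P, c, hPz, hPf, ⟨eP⟩⟩, a, b, hamp⟩ := hK
  let β : A →+* R' ⊗[R] A := Algebra.TensorProduct.includeRight.toRingHom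
  let π := algebraMap R R'
  let φ := algebraMap R A
  let φ' := algebraMap R' (R' ⊗[R] A)
  haveI := Groth.Agent.H9Misc.DRingLBase.hasLBaseChange π
  letI : Algebra A (R' ⊗[R] A) := Algebra.TensorProduct.rightAlgebra
  have hsq : CategoryTheory.IsPushout (CommRingCat.ofHom π) (CommRingCat.ofHom φ) (CommRingCat.ofHom φ') (CommRingCat.ofHom β) :=
    CommRingCat.isPushout_of_isPushout R R' A (R' ⊗[R] A)
  obtain ⟨eX⟩ := Groth.Agent.PerfGen7.nonempty_restrict_extend hsq P
  obtain ⟨eL⟩ := Groth.Agent.H9Misc.DRingLBase.nonempty_lbase_iso β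
    (Groth.Agent.H9Misc.DRingTor.isKF_of_flat (E := P) (fun i => haveI := (hPf i).2; inferInstance) hPz)
  let e : DerivedCategory.Q.obj ((Groth.Agent.H9Misc.DRingLTensor.extC' β).obj P) ≅ (DRing.LBaseChange β).obj K :=
    eL.symm ≪≫ (DRing.LBaseChange β).mapIso eP
  refine ⟨⟨(Groth.Agent.H9Misc.DRingLTensor.extC' β).obj P, c,
    fun i hi => (ModuleCat.extendScalars β).map_isZero (hPz i hi),
    fun i => Groth.Agent.H9Misc.DRingRestrict.finFree_extendScalars β (P.X i) (hPf i).1 (hPf i).2, ⟨e⟩⟩, a, b, ?_⟩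
  let R₀ := ((ModuleCat.restrictScalars φ).mapHomologicalComplex (ComplexShape.up ℤ)).obj P
  have hfl : DRing.TermwiseFlat R₀ := fun i => by
    letI : Module R (P.X i) := Module.compHom (P.X i) φ
    haveI : IsScalarTower R A (P.X i) := IsScalarTower.of_algebraMap_smul fun _ _ => rfl
    haveI := (hPf i).2
    exact (Module.Flat.trans R A (P.X i) :)
  obtain ⟨eπ⟩ := Groth.Agent.H9Misc.DRingLBase.nonempty_lbase_iso π
    (Groth.Agent.H9Misc.DRingTor.isKF_of_flat (E := R₀) hfl fun i hi => (ModuleCat.restrictScalars φ).map_isZero (hPz i hi))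
  refine Groth.Agent.PerfGen7.RelTor.torAmp_of_iso (eπ ≪≫ DerivedCategory.Q.mapIso eX ≪≫
    ((ModuleCat.restrictScalars φ').mapDerivedCategoryFactors.app _).symm ≪≫ (DRing.restrictD φ').mapIso e)
    (Groth.Agent.H9Misc.DRingLBase.hasTorAmplitudeIn_lbase π (Groth.Agent.PerfGen7.RelTor.torAmp_of_iso
      ((DRing.restrictD φ).mapIso eP.symm ≪≫ (ModuleCat.restrictScalars φ).mapDerivedCategoryFactors.app P) hamp))

end Groth.Agent.S7075
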