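import Groth.Statements.S7076
import Groth.Agent.PerfGen7.RelLpullRing
import Groth.Agent.PerfGen7.RelTor.Abs
import Groth.Agent.PerfGen7.FibreRegular
import Groth.Agent.H9Misc.DRingNilpPC
import Mathlib.RingTheory.Ideal.Maps

set_option autoImplicit false
universe u
attribute [local instance] HasDerivedCategory.standard
open TensorProduct
open Dual2

namespace Groth.Agent.S7076

/-- Let R' → A' be a flat homomorphism of finite presentation of commutative rings, R' → R a surjective
homomorphism of rings with nilpotent kernel, A = R ⊗_{R'} A', and K' an object of D(A'). If the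
derived base change K' ⊗^L_{A'} A (total left derived functor of extension of scalars, assumed to
exist) is R-perfect in D(A), then K' is R'-perfect in D(A'). -/
theorem result (R' A' R : Type u) [CommRing R'] [CommRing A'] [Algebra R' A']
    [CommRing R] [Algebra R' R] [Module.Flat R' A'] [Algebra.FinitePresentation R' A']
    (hs : Function.Surjective (algebraMap R' R)) (hn : IsNilpotent (RingHom.ker (algebraMap R' R)))
    [DRing.HasLBaseChange (Algebra.TensorProduct.includeRight.toRingHom : A' →+* R ⊗[R'] A')]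
    (K' : Dual.D A')
    (hK : Dual2.IsRelPerfect R (R ⊗[R'] A')
      ((DRing.LBaseChange (Algebra.TensorProduct.includeRight.toRingHom : A' →+* R ⊗[R'] A')).obj K')) :
    Dual2.IsRelPerfect R' A' K' := by
  let β : A' →+* R ⊗[R'] A' := Algebra.TensorProduct.includeRight.toRingHom
  let π := algebraMap R' R
  let φ := algebraMap R' A'
  let φ' := algebraMap R (R ⊗[R'] A')
  letI : Algebra A' (R ⊗[R'] A') := Algebra.TensorProduct.rightAlgebra
  have hsq : CategoryTheory.IsPushout (CommRingCat.ofHom π) (CommRingCat.ofHom φ) (CommRingCat.ofHom φ') (CommRingCat.ofHom β) :=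
    CommRingCat.isPushout_of_isPushout R' R A' (R ⊗[R'] A')
  have hβ : Function.Surjective β := fun z => by
    induction z using TensorProduct.induction_on with
    | zero => exact ⟨0, map_zero β⟩
    | add x y hx hy =>
      obtain ⟨x', rfl⟩ := hx
      obtain ⟨y', rfl⟩ := hy
      exact ⟨x' + y', map_add β _ _⟩
    | tmul r a =>
      obtain ⟨r', rfl⟩ := hs r
      refine ⟨r' • a, ?_⟩
      show (1 : R) ⊗ₜ[R'] (r' • a) = _
      rw [TensorProduct.tmul_smul, TensorProduct.smul_tmul', Algebra.smul_def, mul_one]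
  have hle : RingHom.ker β ≤ (RingHom.ker π).map φ := by
    let J := (RingHom.ker π).map φ
    let g : R →+* A' ⧸ J := π.liftOfSurjective hs ⟨(Ideal.Quotient.mk J).comp φ, fun x hx =>
      Ideal.Quotient.eq_zero_iff_mem.2 (Ideal.mem_map_of_mem φ hx)⟩
    have hg : g.comp π = (Ideal.Quotient.mk J).comp φ := RingHom.liftOfRightInverse_comp _ _ _ _
    have hd := hsq.inr_desc (CommRingCat.ofHom g) (CommRingCat.ofHom (Ideal.Quotient.mk J))
      (CommRingCat.hom_ext hg)
    intro x hx
    refine Ideal.Quotient.eq_zero_iff_mem.1 ?_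
    refine (RingHom.congr_fun (congrArg CommRingCat.Hom.hom hd) x).symm.trans ?_
    show (hsq.desc _ _ _).hom (β x) = 0
    rw [RingHom.mem_ker.1 hx, map_zero]
  have hnil : IsNilpotent (RingHom.ker β) := by
    obtain ⟨n, hn⟩ := hn
    refine ⟨n, le_bot_iff.1 ((Ideal.pow_right_mono hle n).trans ?_)⟩
    rw [← Ideal.map_pow, hn, Ideal.zero_eq_bot, Ideal.map_bot]
  obtain ⟨hpc, a, b, hamp⟩ := hK
  obtain ⟨P, c, hPz, hPf, ⟨eP⟩⟩ := (Groth.Agent.H9Misc.DRingNilp.pc'_lbase_iff β hβ hnil K').1 hpc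
  refine ⟨⟨P, c, hPz, hPf, ⟨eP⟩⟩, a, b, ?_⟩
  haveI := Groth.Agent.H9Misc.DRingLBase.hasLBaseChange π
  obtain ⟨eX⟩ := Groth.Agent.PerfGen7.nonempty_restrict_extend hsq P
  obtain ⟨eL⟩ := Groth.Agent.H9Misc.DRingLBase.nonempty_lbase_iso β
    (Groth.Agent.H9Misc.DRingFibre.isKF hPf hPz)
  let e : DerivedCategory.Q.obj ((Groth.Agent.H9Misc.DRingLTensor.extC' β).obj P) ≅ (DRing.LBaseChange β).obj K' :=
    eL.symm ≪≫ (DRing.LBaseChange β).mapIso eP
  let R₀ := ((ModuleCat.restrictScalars φ).mapHomologicalComplex (ComplexShape.up ℤ)).obj P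
  obtain ⟨eπ⟩ := Groth.Agent.H9Misc.DRingLBase.nonempty_lbase_iso π
    (Groth.Agent.H9Misc.DRingTor.isKF_of_flat (E := R₀)
      (Groth.Agent.PerfGen7.FibreRegular.termwiseFlat_res (RingHom.flat_algebraMap_iff.2 ‹_›) hPf)
      fun i hi => (ModuleCat.restrictScalars φ).map_isZero (hPz i hi))
  let e₀ : DerivedCategory.Q.obj R₀ ≅ (DRing.restrictD φ).obj K' :=
    ((ModuleCat.restrictScalars φ).mapDerivedCategoryFactors.app P).symm ≪≫ (DRing.restrictD φ).mapIso eP
  refine (Groth.Agent.H9Misc.DRingNilp.amp_lbase_iff π hs hn _ a b).1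
    (Groth.Agent.PerfGen7.RelTor.torAmp_of_iso ?_ hamp)
  exact (DRing.restrictD φ').mapIso e.symm ≪≫ (ModuleCat.restrictScalars φ').mapDerivedCategoryFactors.app _ ≪≫
    DerivedCategory.Q.mapIso eX.symm ≪≫ eπ.symm ≪≫ (DRing.LBaseChange π).mapIso e₀

end Groth.Agent.S7076
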