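import Groth.Statements.S7084
import Groth.Agent.H9Misc.DRingRightExact

set_option autoImplicit false
universe u
attribute [local instance] HasDerivedCategory.standard
open CategoryTheory
open LocCoh

namespace Groth.Agent.S7084

/-- Parts (1)–(2) in the case of a module killed by a power of the ideal: let R be a commutative ring, I
an ideal and K an object of D(R) such that K ⊗^L_R R/I has no cohomology in positive degrees. Then
for every R-module N annihilated by some power of I, K ⊗^L_R N has no cohomology in positive
degrees. (The published statement allows any I-power torsion module N; this row takes N annihilated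
by a single power of I, the case the published argument carries out in full, which contains the case
N = R/I^n.) The derived tensor products with modules are total left derived functors, assumed to
exist. -/
theorem result {R : Type u} [CommRing R] (I : Ideal R)
    [DRing.HasLTensor R (ModuleCat.of R (R ⧸ I))] (K : Dual.D R)
    (hK : ∀ i : ℤ, 0 < i → Subsingleton (Dual.HD R ((DRing.LTensor R (ModuleCat.of R (R ⧸ I))).obj K) i))
    (N : Type u) [AddCommGroup N] [Module R N] (n : ℕ) (hN : I ^ n • (⊤ : Submodule R N) = ⊥)
    [DRing.HasLTensor R (ModuleCat.of R N)] (i : ℤ) (hi : 0 < i) :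
    Subsingleton (Dual.HD R ((DRing.LTensor R (ModuleCat.of R N)).obj K) i) := by
  open Groth.Agent.H9Misc in
  obtain ⟨P, hP, hflat, ⟨e⟩⟩ := DRingLTensor.exists_rep K
  obtain ⟨eI⟩ := DRingLTensor.nonempty_ltensor_iso (ModuleCat.of R (R ⧸ I)) hP
  let eM := (DRing.LTensor R (ModuleCat.of R (R ⧸ I))).mapIso e.symm ≪≫ eI
  have hex : ∀ i, 0 < i → ((DRingNakayama.G P).obj (ModuleCat.of R (R ⧸ I))).ExactAt i := fun i hi =>
    (HomologicalComplex.exactAt_iff_isZero_homology _ i).2 ((DRingCompl.isZ (hK i hi)).of_iso
      ((DerivedCategory.homologyFunctor (ModuleCat.{u} R) i).mapIso eM ≪≫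
        (DerivedCategory.homologyFunctorFactors (ModuleCat.{u} R) i).app _).symm)
  have hpow : ∀ (n : ℕ) (N : ModuleCat.{u} R), I ^ n • (⊤ : Submodule R N) = ⊥ →
      ∀ j, 0 < j → ((DRingNakayama.G P).obj N).ExactAt j := by
    intro n
    induction n with
    | zero =>
      intro N hN j hj
      refine DRingRightExact.exactAt_G I hP hex N (fun f _ x => ?_) j hj
      have hx : x ∈ I ^ 0 • (⊤ : Submodule R N) := by simp
      rw [hN, Submodule.mem_bot] at hx
      rw [hx, smul_zero]
    | succ n ih =>
      intro N hN j hj
      let L : Submodule R N := I • ⊤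
      let S : ShortComplex (ModuleCat.{u} R) :=
        ShortComplex.mk (ModuleCat.ofHom L.subtype) (ModuleCat.ofHom L.mkQ)
          (ModuleCat.hom_ext (LinearMap.ext fun x => (Submodule.Quotient.mk_eq_zero _).2 x.2))
      have hS : S.ShortExact :=
        { exact := (ShortComplex.ShortExact.moduleCat_exact_iff_function_exact _).2
            (LinearMap.exact_subtype_mkQ L)
          mono_f := (ModuleCat.mono_iff_injective _).2 Subtype.val_injective
          epi_g := (ModuleCat.epi_iff_surjective _).2 L.mkQ_surjective }
      have h1 := ih S.X₁ (Submodule.map_injective_of_injective L.injective_subtype (by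
        rw [Submodule.map_smul'', Submodule.map_top, Submodule.range_subtype, Submodule.map_bot,
          ← Submodule.smul_assoc, smul_eq_mul, ← pow_succ, hN])) j hj
      have h3 := DRingRightExact.exactAt_G I hP hex S.X₃ (fun f hf x => by
        obtain ⟨x, rfl⟩ := L.mkQ_surjective x
        exact (Submodule.Quotient.mk_eq_zero L).2 (Submodule.smul_mem_smul hf trivial)) j hj
      rw [HomologicalComplex.exactAt_iff_isZero_homology] at h1 h3 ⊢
      exact ((DRingNakayama.shortExact_map P hflat hS).homology_exact₂ j).isZero_of_both_zeros
        (h1.eq_of_src _ _) (h3.eq_of_tgt _ _)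
  obtain ⟨eT⟩ := DRingLTensor.nonempty_ltensor_iso (ModuleCat.of R N) hP
  refine ModuleCat.subsingleton_of_isZero (((HomologicalComplex.exactAt_iff_isZero_homology _ i).1
    (hpow n (ModuleCat.of R N) hN i hi)).of_iso ?_)
  exact (DerivedCategory.homologyFunctor (ModuleCat.{u} R) i).mapIso
    ((DRing.LTensor R (ModuleCat.of R N)).mapIso e.symm ≪≫ eT) ≪≫
    (DerivedCategory.homologyFunctorFactors (ModuleCat.{u} R) i).app _

end Groth.Agent.S7084
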