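import Groth.Statements.S7139
import Groth.Agent.InertInv.Corollary
import Groth.Agent.InertInv.Semilocal

set_option autoImplicit false
universe u
open EtAlg

namespace Groth.Agent.S7139

/-- A is a discrete valuation ring, K its field of fractions, and L/K is finite Galois with Galois group
G. Write B for the integral closure of A in L, equipped with the induced G-action, m a maximal ideal
of B and I ⊆ G its inertia group. Denote by B' the integral closure of A inside the fixed field L^I,
with a map to B compatible with L^I ⊆ L. Then the image of B' in B is the ring of invariants B^I,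
and A → B'_{m'} is étale, where m' = m ∩ B'. -/
theorem result (A K L B : Type u) [CommRing A] [IsDomain A]
    [IsDiscreteValuationRing A] [Field K] [Field L] [Algebra A K] [IsFractionRing A K] [Algebra K L]
    [Algebra A L] [IsScalarTower A K L] [FiniteDimensional K L] [IsGalois K L]
    [CommRing B] [Algebra A B] [Algebra B L] [IsScalarTower A B L] [IsIntegralClosure B A L]
    [MulSemiringAction (L ≃ₐ[K] L) B]
    (hact : ∀ (σ : L ≃ₐ[K] L) (b : B), algebraMap B L (σ • b) = σ (algebraMap B L b))
    (m : Ideal B) [m.IsMaximal]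
    (B' : Type u) [CommRing B'] [Algebra A B'] [Algebra B' B] [IsScalarTower A B' B] [Algebra B' L]
    [IsScalarTower B' B L]
    [Algebra B' (IntermediateField.fixedField (m.inertia (L ≃ₐ[K] L)))]
    [IsScalarTower B' (IntermediateField.fixedField (m.inertia (L ≃ₐ[K] L))) L]
    [IsIntegralClosure B' A (IntermediateField.fixedField (m.inertia (L ≃ₐ[K] L)))] :
    (∀ b : B, (∀ σ ∈ m.inertia (L ≃ₐ[K] L), σ • b = b) ↔ b ∈ Set.range (algebraMap B' B)) ∧
      Algebra.Etale A (Localization.AtPrime (m.comap (algebraMap B' B))) := by
  haveI hAFL : IsScalarTower A (IntermediateField.fixedField (m.inertia (L ≃ₐ[K] L))) L :=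
    IsScalarTower.of_algebraMap_eq fun a => by
      first
        | rfl
        | exact (IsScalarTower.algebraMap_apply A K L a).trans rfl
  haveI hAB'F : IsScalarTower A B' (IntermediateField.fixedField (m.inertia (L ≃ₐ[K] L))) :=
    IsScalarTower.of_algebraMap_eq fun a => (algebraMap _ L).injective (by
      rw [← IsScalarTower.algebraMap_apply A (IntermediateField.fixedField (m.inertia (L ≃ₐ[K] L))) L,
        ← IsScalarTower.algebraMap_apply B' (IntermediateField.fixedField (m.inertia (L ≃ₐ[K] L))) L,
        IsScalarTower.algebraMap_apply B' B L, ← IsScalarTower.algebraMap_apply A B' B,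
        ← IsScalarTower.algebraMap_apply A B L])
  have hinjBL : Function.Injective (algebraMap B L) := IsIntegralClosure.algebraMap_injective B A L
  have hinjB'F : Function.Injective (algebraMap B' (IntermediateField.fixedField (m.inertia (L ≃ₐ[K] L)))) :=
    IsIntegralClosure.algebraMap_injective B' A _
  have hinjB'L : Function.Injective (algebraMap B' L) := by
    rw [IsScalarTower.algebraMap_eq B' (IntermediateField.fixedField (m.inertia (L ≃ₐ[K] L))) L]
    exact (algebraMap _ L).injective.comp hinjB'F
  have hfix : ∀ b : B, (∀ σ ∈ m.inertia (L ≃ₐ[K] L), σ • b = b) ↔ b ∈ Set.range (algebraMap B' B) := by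
    intro b
    constructor
    · intro h
      let y : IntermediateField.fixedField (m.inertia (L ≃ₐ[K] L)) :=
        ⟨algebraMap B L b, fun σ => by
          show (σ : L ≃ₐ[K] L) (algebraMap B L b) = algebraMap B L b
          rw [← hact, h σ.1 σ.2]⟩
      have hy : IsIntegral A y := by
        rw [← isIntegral_algebraMap_iff (A := IntermediateField.fixedField (m.inertia (L ≃ₐ[K] L))) (B := L) (fun a b h => Subtype.ext h)]
        show IsIntegral A (algebraMap B L b)
        exact IsIntegral.algebraMap (IsIntegralClosure.isIntegral A L b)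
      obtain ⟨b', hb'⟩ := IsIntegralClosure.isIntegral_iff (A := B').1 hy
      refine ⟨b', hinjBL ?_⟩
      rw [← IsScalarTower.algebraMap_apply, IsScalarTower.algebraMap_apply B'
        (IntermediateField.fixedField (m.inertia (L ≃ₐ[K] L))) L, hb']
      rfl
    · rintro ⟨b', rfl⟩ σ hσ
      apply hinjBL
      rw [hact, ← IsScalarTower.algebraMap_apply, IsScalarTower.algebraMap_apply B'
        (IntermediateField.fixedField (m.inertia (L ≃ₐ[K] L))) L]
      exact (algebraMap B' (IntermediateField.fixedField (m.inertia (L ≃ₐ[K] L))) b').2 ⟨σ, hσ⟩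
  refine ⟨hfix, ?_⟩
  have hσA : ∀ (σ : L ≃ₐ[K] L) (a : A), σ • algebraMap A B a = algebraMap A B a := fun σ a => hinjBL (by
    rw [hact, ← IsScalarTower.algebraMap_apply, IsScalarTower.algebraMap_apply A K L, AlgEquiv.commutes])
  haveI : SMulCommClass (L ≃ₐ[K] L) A B := ⟨fun σ a b => by
    rw [Algebra.smul_def, Algebra.smul_def, smul_mul', hσA]⟩
  haveI : Algebra.IsInvariant A B (L ≃ₐ[K] L) := ⟨fun b hb => by
    have h1 : algebraMap B L b ∈ Set.range (algebraMap K L) :=
      (IsGalois.mem_range_algebraMap_iff_fixed _).2 fun σ => by rw [← hact, hb]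
    obtain ⟨x, hx⟩ := h1
    have h2 : IsIntegral A x := by
      rw [← isIntegral_algebraMap_iff (B := L) (algebraMap K L).injective, hx]
      exact IsIntegral.algebraMap (IsIntegralClosure.isIntegral A L b)
    obtain ⟨a, rfl⟩ := IsIntegrallyClosed.algebraMap_eq_of_integral h2
    exact ⟨a, hinjBL (by rw [← IsScalarTower.algebraMap_apply, ← hx, ← IsScalarTower.algebraMap_apply])⟩⟩
  have hA : Function.Injective (algebraMap A B) := by
    refine Function.Injective.of_comp (f := algebraMap B L) ?_
    rw [← RingHom.coe_comp, ← IsScalarTower.algebraMap_eq, IsScalarTower.algebraMap_eq A K L]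
    exact (algebraMap K L).injective.comp (IsFractionRing.injective A K)
  have hj : Function.Injective (IsScalarTower.toAlgHom A B' B) := by
    intro x y h
    apply hinjB'L
    rw [IsScalarTower.algebraMap_apply B' B L x, IsScalarTower.algebraMap_apply B' B L y]
    exact congrArg _ h
  obtain ⟨g, hg, het⟩ := InertInv.exists_etale_of_invariant (L ≃ₐ[K] L) hA m (IsScalarTower.toAlgHom A B' B) hj
    fun r => ((hfix r).symm.trans ⟨fun h σ => h σ.1 σ.2, fun h σ hσ => h ⟨σ, hσ⟩⟩)
  haveI : Module.Finite A B' :=
    IsIntegralClosure.finite A K (IntermediateField.fixedField (m.inertia (L ≃ₐ[K] L))) B'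
  haveI : Finite (PrimeSpectrum A) := by
    rw [← Set.finite_univ_iff]
    refine ((Set.finite_singleton (⟨⊥, Ideal.isPrime_bot⟩ : PrimeSpectrum A)).insert (IsLocalRing.closedPoint A)).subset fun p _ => ?_
    by_cases hp : p.asIdeal = ⊥
    · exact Or.inr (PrimeSpectrum.ext hp)
    · exact Or.inl (PrimeSpectrum.ext (IsLocalRing.eq_maximalIdeal (p.isPrime.isMaximal hp)))
  haveI : Finite (PrimeSpectrum B') := InertInv.finite_primeSpectrum (A := A)
  exact InertInv.etale_atPrime_of_away _ g hg het

end Groth.Agent.S7139
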