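import Groth.Statements.S7141
import Groth.Agent.H1WEt.Lift

set_option autoImplicit false
universe u
open EtAlg

namespace Groth.Agent.S7141

/-- Let K be a field and, for a K-algebra A, let B_max(A) be its largest weakly étale K-subalgebra. (2)
For a K-subalgebra A' ⊆ A one has B_max(A') = B_max(A) ∩ A'. (4) The quotient map A → A_red =
A/nilradical restricts to a bijection B_max(A) → B_max(A_red). (6) If A ≠ 0 and its only idempotents
are 0 and 1, then B_max(A) is a field, algebraic and separable over K. (The published statement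
omits A ≠ 0; this row assumes it, since for A = 0 the largest weakly étale subalgebra is the zero
ring.) -/
theorem result (K : Type u) [Field K] (A : Type u) [CommRing A] [Algebra K A] :
    (∀ A' : Subalgebra K A,
      (EtAlgD.maxWeaklyEtale K A').map A'.val = EtAlgD.maxWeaklyEtale K A ⊓ A') ∧
    (Set.BijOn (Ideal.Quotient.mkₐ K (nilradical A)) (EtAlgD.maxWeaklyEtale K A)
      (EtAlgD.maxWeaklyEtale K (A ⧸ nilradical A))) ∧
    ((∀ e : A, IsIdempotentElem e → e = 0 ∨ e = 1) → Nontrivial A →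
      IsField (EtAlgD.maxWeaklyEtale K A) ∧ Algebra.IsSeparable K (EtAlgD.maxWeaklyEtale K A)) := by
  classical
  have hM := Groth.Agent.H1WEt.weaklyEtale_maxWeaklyEtale (K := K) (A := A)
  refine ⟨fun A' => le_antisymm ?_ ?_, Groth.Agent.H1WEt.bijOn_mk, fun hid hnt => ?_⟩
  · haveI := Groth.Agent.H1WEt.weaklyEtale_maxWeaklyEtale (K := K) (A := A')
    refine le_inf ?_ ?_
    · intro x hx
      obtain ⟨y, hy, rfl⟩ := Subalgebra.mem_map.mp hx
      exact Groth.Agent.H1WEt.range_le (A'.val.comp (EtAlgD.maxWeaklyEtale K A').val) ⟨⟨y, hy⟩, rfl⟩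
    · intro x hx
      obtain ⟨y, -, rfl⟩ := Subalgebra.mem_map.mp hx
      exact y.2
  · intro x hx
    obtain ⟨h1, h2⟩ := Algebra.mem_inf.mp hx
    let W : Subalgebra K (EtAlgD.maxWeaklyEtale K A) := A'.comap (EtAlgD.maxWeaklyEtale K A).val
    haveI := Groth.Agent.WEtLib.weaklyEtale_subalgebra W
    let φ : W →ₐ[K] A' :=
      ((EtAlgD.maxWeaklyEtale K A).val.comp W.val).codRestrict A' fun w => w.2
    exact Subalgebra.mem_map.mpr ⟨⟨x, h2⟩,
      Groth.Agent.H1WEt.range_le φ ⟨⟨⟨x, h1⟩, h2⟩, rfl⟩, rfl⟩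
  · refine ⟨?_, ⟨fun x => Groth.Agent.H1WEt.separable_minpoly x⟩⟩
    haveI := hnt
    refine Groth.Agent.WEtLib.isField_of_forall_exists
      (Groth.Agent.WEtLib.exists_mul_eq (K := K)) fun e he => ?_
    rcases hid (e : A) (he.map (EtAlgD.maxWeaklyEtale K A).val) with h | h
    · exact Or.inl (Subtype.ext h)
    · exact Or.inr (Subtype.ext h)

end Groth.Agent.S7141
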