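import Groth.Statements.S7143
import Mathlib.RingTheory.Flat.EquationalCriterion
import Mathlib.RingTheory.Valuation.LocalSubring
import Mathlib.Algebra.Category.Ring.Instances
import Mathlib.RingTheory.Flat.Stability
import Mathlib.RingTheory.Bezout

set_option autoImplicit false
universe u
open CategoryTheory
open EtAlg

namespace Groth.Agent.S7143

/-- Every normal domain A with fraction field K is the fibre product V ×_L K for suitable rings V and L
with maps A → V, V → L, K → L (together with the given A → K), where every ideal of V is flat (weak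
dimension at most one) and V → L is flat, injective and an epimorphism of rings. -/
theorem result (A K : Type u) [CommRing A] [IsDomain A] [Field K] [Algebra A K]
    [IsFractionRing A K] [IsIntegrallyClosed A] :
    ∃ (V L : Type u) (_ : CommRing V) (_ : CommRing L) (f : A →+* V) (g : V →+* L) (h : K →+* L),
      g.comp f = h.comp (algebraMap A K) ∧
      (∀ I : Ideal V, Module.Flat V I) ∧ g.Flat ∧ Function.Injective g ∧ Epi (CommRingCat.ofHom g) ∧
      ∀ (v : V) (k : K), g v = h k → ∃! a : A, f a = v ∧ algebraMap A K a = k := by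
  classical
  let R0 : Subring K := (algebraMap A K).range
  let ι := {W : ValuationSubring K // R0 ≤ W.toSubring}
  let V := ∀ i : ι, i.1
  let L := ι → K
  let g : V →+* L := RingHom.pi fun i => i.1.subtype.comp (Pi.evalRingHom _ i)
  let f : A →+* V := RingHom.pi fun i => (algebraMap A K).codRestrict i.1.toSubring fun a => i.2 ⟨a, rfl⟩
  let h : K →+* L := RingHom.pi fun _ => RingHom.id K
  have hginj : Function.Injective g := fun x y hxy => funext fun i => Subtype.ext (congrFun hxy i)
  letI : Algebra V L := g.toAlgebra
  have hnz : ∀ y : V, y ∈ nonZeroDivisors V → ∀ i, ((y i : i.1) : K) ≠ 0 := fun y hy i h0 => by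
    have h1 : (Pi.single i 1 : V) * y = 0 := funext fun j => by
      by_cases hj : j = i
      · subst hj; rw [Pi.mul_apply, show y j = 0 from Subtype.ext h0, mul_zero]; rfl
      · rw [Pi.mul_apply, Pi.single_eq_of_ne hj, zero_mul]; rfl
    have h2 := congrFun ((mem_nonZeroDivisors_iff_right.1 hy) _ h1) i
    rw [Pi.single_eq_same] at h2
    exact one_ne_zero (congrArg Subtype.val h2)
  haveI hloc : IsLocalization (nonZeroDivisors V) L := by
    constructor; constructor
    · intro y
      exact isUnit_iff_exists_inv.2 ⟨fun i => ((y.1 i : i.1) : K)⁻¹, funext fun i => mul_inv_cancel₀ (hnz _ y.2 i)⟩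
    · intro z
      have hs : ∀ i : ι, ∃ n d : i.1, (d : K) ≠ 0 ∧ z i * d = n := fun i => by
        rcases i.1.mem_or_inv_mem (z i) with hm | hm
        · exact ⟨⟨z i, hm⟩, 1, one_ne_zero, by simp⟩
        · by_cases h0 : z i = 0
          · exact ⟨0, 1, one_ne_zero, by simp [h0]⟩
          · exact ⟨1, ⟨(z i)⁻¹, hm⟩, inv_ne_zero h0, mul_inv_cancel₀ h0⟩
      choose n d hd hzd using hs
      refine ⟨⟨n, ⟨d, mem_nonZeroDivisors_iff_right.2 fun x hx => funext fun i => ?_⟩⟩, funext hzd⟩
      have h1 := congrArg Subtype.val (congrFun hx i)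
      exact Subtype.ext ((mul_eq_zero.1 h1).resolve_right (hd i))
    · intro x y hxy
      exact ⟨1, by rw [hginj hxy]⟩
  have hflat : ∀ I : Ideal V, Module.Flat V I := fun I => by
    refine Module.Flat.of_forall_isTrivialRelation fun {l c x} hsum => ?_
    have hg : ∀ i : ι, ∃ w : Fin l → i.1, ∀ j, ((x j : V) i) ∈ Ideal.span {∑ m, w m * (x m : V) i} := fun i => by
      obtain ⟨t, ht⟩ := (IsBezout.isPrincipal_of_FG (Ideal.span (Set.range fun j => (x j : V) i))
        (Submodule.fg_span (Set.finite_range _))).principal
      obtain ⟨w, hw⟩ := (Submodule.mem_span_range_iff_exists_fun _).1 (ht ▸ Submodule.mem_span_singleton_self t)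
      refine ⟨w, fun j => ?_⟩
      rw [show ∑ m, w m * (x m : V) i = t from hw]
      have h1 : (x j : V) i ∈ Ideal.span (Set.range fun j => (x j : V) i) := Ideal.subset_span ⟨j, rfl⟩
      rw [ht] at h1
      exact h1
    choose w hw using hg
    choose q hq using fun j i => Ideal.mem_span_singleton'.1 (hw i j)
    let G : I := ∑ m, (fun i => w i m : V) • x m
    have hG : ∀ i, (G : V) i = ∑ m, w i m * (x m : V) i := fun i => by
      show ((∑ m, (fun i => w i m : V) • x m : I) : V) i = _
      rw [Submodule.coe_sum, Finset.sum_apply]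
      exact Finset.sum_congr rfl fun m _ => rfl
    let e : V := fun i => if (G : V) i = 0 then 0 else 1
    refine ⟨1, fun j _ => (fun i => q j i : V) * e, fun _ => G, fun j => Subtype.ext (funext fun i => ?_), fun _ => funext fun i => ?_⟩
    · rw [Submodule.coe_sum]
      show (x j : V) i = (∑ m : Fin 1, ((((fun i => q j i : V) * e) • G : I) : V)) i
      rw [Fin.sum_univ_one]
      show (x j : V) i = q j i * (if (G : V) i = 0 then 0 else 1) * (G : V) i
      split_ifs with h0
      · rw [← hq j i, ← hG, h0]; simp
      · rw [mul_one, hG, hq]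
    · have h1 := congrFun (congrArg Subtype.val hsum) i
      simp only [Submodule.coe_sum, Finset.sum_apply, Submodule.coe_smul, smul_eq_mul, Pi.mul_apply,
        Submodule.coe_zero, Pi.zero_apply] at h1
      rw [Finset.sum_apply]
      show ∑ j, c j i * (q j i * (if (G : V) i = 0 then 0 else 1)) = (0 : i.1)
      split_ifs with h0
      · simp
      · simp only [mul_one]
        refine (mul_eq_zero.1 ?_).resolve_right h0
        rw [Finset.sum_mul, ← h1]
        exact Finset.sum_congr rfl fun j _ => by rw [mul_assoc, hG, hq]; rfl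
  refine ⟨V, L, inferInstance, inferInstance, f, g, h, RingHom.ext fun a => rfl, hflat, ?_, hginj, ?_, fun v k hvk => ?_⟩
  · exact RingHom.flat_algebraMap_iff.2 (IsLocalization.flat L (nonZeroDivisors V))
  · exact IsLocalization.epi (nonZeroDivisors V) L
  · have hk : k ∈ R0 := by
      haveI : IsIntegrallyClosedIn R0 K := by
        rw [isIntegrallyClosedIn_iff]
        refine ⟨Subtype.val_injective, fun {x} hx => ?_⟩
        have hx' : IsIntegral A x := by
          obtain ⟨P, hP, hPx⟩ := hx
          obtain ⟨P', hP', -, hP'm⟩ := Polynomial.lifts_and_degree_eq_and_monic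
            ((Polynomial.lifts_iff_coeff_lifts _).2 fun n => (algebraMap A K).rangeRestrict_surjective (P.coeff n)) hP
          refine ⟨P', hP'm, ?_⟩
          rw [← hP', Polynomial.eval₂_map] at hPx
          exact hPx
        obtain ⟨a, ha⟩ := IsIntegrallyClosed.isIntegral_iff.1 hx'
        exact ⟨⟨_, a, rfl⟩, ha⟩
      rw [Subring.eq_iInf_of_isIntegrallyClosedIn (R := R0), Subring.mem_iInf]
      intro i
      have h1 : ((v i : i.1) : K) = k := congrFun hvk i
      exact h1 ▸ (v i).2
    obtain ⟨a, ha⟩ := hk
    refine ⟨a, ⟨funext fun i => Subtype.ext ((ha.trans (congrFun hvk i).symm)), ha⟩, fun b hb => ?_⟩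
    exact IsFractionRing.injective A K (hb.2.trans ha.symm)

end Groth.Agent.S7143
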