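import Groth.Statements.S7151
import Groth.Agent.H1Ram.Point
import Groth.Agent.H1Ram.Descend

set_option autoImplicit false
universe u
open EtAlg

namespace Groth.Agent.S7151

section
open IsLocalRing Polynomial TensorProduct
open Groth.Agent.H1Ram

theorem mem_range_of_algebraMap {A B K L : Type u} [CommRing A] [IsDomain A] [IsDiscreteValuationRing A]
    [CommRing B] [IsLocalRing B] [Algebra A B] [IsLocalHom (algebraMap A B)] [Field K] [Field L] [Algebra A K]
    [IsFractionRing A K] [Algebra B L] [Algebra K L] [Algebra A L] [IsScalarTower A K L] [IsScalarTower A B L]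
    (hinjB : Function.Injective (algebraMap B L)) {k : K} {b : B} (h : algebraMap K L k = algebraMap B L b) :
    ∃ a : A, algebraMap A K a = k := by
  rcases ValuationRing.isInteger_or_isInteger A k with ⟨a, ha⟩ | ⟨a, ha⟩
  · exact ⟨a, ha⟩
  rcases eq_or_ne k 0 with rfl | hk
  · exact ⟨0, map_zero _⟩
  have h1 : algebraMap A B a * b = 1 := hinjB (by
    rw [map_mul, ← h, ← IsScalarTower.algebraMap_apply, IsScalarTower.algebraMap_apply A K L, ← map_mul,
      ha, inv_mul_cancel₀ hk, map_one, map_one])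
  obtain ⟨u, rfl⟩ := isUnit_of_map_unit (algebraMap A B) a (IsUnit.of_mul_eq_one _ h1)
  exact ⟨↑u⁻¹, by rw [map_units_inv, ha, inv_inv]⟩

theorem finite_integralClosure_A {A B K L K₂ : Type u} [CommRing A] [IsDomain A] [IsDiscreteValuationRing A]
    [CommRing B] [IsDomain B] [IsDiscreteValuationRing B] [Algebra A B] [IsLocalHom (algebraMap A B)]
    [Field K] [Field L] [Algebra A K] [IsFractionRing A K] [Algebra B L] [IsFractionRing B L] [Algebra K L]
    [Algebra A L] [IsScalarTower A K L] [IsScalarTower A B L] [Field K₂] [Algebra K K₂] [FiniteDimensional K K₂]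
    [Algebra A K₂] [IsScalarTower A K K₂] [Module.Finite B (integralClosure B (L ⊗[K] K₂))] :
    Module.Finite A (integralClosure A K₂) := by
  classical
  obtain ⟨ϖ, hϖ⟩ := IsDiscreteValuationRing.exists_irreducible A
  obtain ⟨π, hπ⟩ := IsDiscreteValuationRing.exists_irreducible B
  have hπm := (IsDiscreteValuationRing.irreducible_iff_uniformizer π).1 hπ
  have hτ : algebraMap A B ϖ ∈ maximalIdeal B := (mem_maximalIdeal _).2 fun hu =>
    hϖ.not_isUnit (isUnit_of_map_unit _ _ hu)
  rw [hπm, Ideal.mem_span_singleton] at hτ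
  obtain ⟨t', ht'⟩ := hτ
  let e := Module.finBasis K K₂
  let bL := e.baseChange L
  obtain ⟨n, g, hg⟩ := Module.Finite.exists_fin (R := B) (M := integralClosure B (L ⊗[K] K₂))
  have hden : ∀ l : L, ∃ (M : ℕ) (b : B), algebraMap B L (π ^ M) * l = algebraMap B L b := by
    intro l
    obtain ⟨a, b, hb, rfl⟩ := IsFractionRing.div_surjective (A := B) l
    obtain ⟨M, u, rfl⟩ := IsDiscreteValuationRing.eq_unit_mul_pow_irreducible (nonZeroDivisors.ne_zero hb) hπ
    refine ⟨M, (↑u⁻¹ : B) * a, ?_⟩
    have hu : algebraMap B L (u : B) ≠ 0 := fun h0 => u.ne_zero (IsFractionRing.injective B L (h0.trans (map_zero _).symm))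
    have hp' : algebraMap B L (π ^ M) ≠ 0 := fun h0 =>
      pow_ne_zero M hπ.ne_zero (IsFractionRing.injective B L (h0.trans (map_zero _).symm))
    rw [map_mul, map_mul, map_units_inv, mul_div_assoc', mul_comm (algebraMap B L (π ^ M)) (algebraMap B L a)]
    field_simp
  choose Mden bden hbden using hden
  let M := Finset.univ.sup fun ij : Fin n × Fin (Module.finrank K K₂) => Mden (bL.repr (g ij.1 : L ⊗[K] K₂) ij.2)
  have hbound : ∀ t : integralClosure B (L ⊗[K] K₂), ∀ j,
      ∃ b : B, algebraMap B L (π ^ M) * bL.repr (t : L ⊗[K] K₂) j = algebraMap B L b := by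
    intro t j
    obtain ⟨c, hc⟩ := (Submodule.mem_span_range_iff_exists_fun B).1 (hg ▸ Submodule.mem_top : t ∈ _)
    refine ⟨∑ i, c i * (π ^ (M - Mden (bL.repr (g i : L ⊗[K] K₂) j)) * bden (bL.repr (g i : L ⊗[K] K₂) j)), ?_⟩
    have ht : (t : L ⊗[K] K₂) = ∑ i, algebraMap B L (c i) • (g i : L ⊗[K] K₂) := by
      simp only [algebraMap_smul]
      rw [← hc, AddSubmonoidClass.coe_finsetSum]
      rfl
    rw [ht, map_sum, Finsupp.finsetSum_apply, Finset.mul_sum, map_sum]
    refine Finset.sum_congr rfl fun i _ => ?_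
    rw [map_smul, Finsupp.smul_apply, smul_eq_mul, map_mul, map_mul, ← hbden, mul_left_comm, ← mul_assoc
      (algebraMap B L (π ^ (M - _))), ← map_mul, ← pow_add, Nat.sub_add_cancel (Finset.le_sup
        (f := fun ij : Fin n × Fin (Module.finrank K K₂) => Mden (bL.repr (g ij.1 : L ⊗[K] K₂) ij.2))
        (Finset.mem_univ (i, j)))]
  let S : Submodule A K₂ := Submodule.span A (Set.range fun j => ((algebraMap A K ϖ) ^ M)⁻¹ • e j)
  have hle : (integralClosure A K₂).toSubmodule ≤ S := by
    intro x hx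
    haveI : IsScalarTower A B (L ⊗[K] K₂) := IsScalarTower.of_algebraMap_eq fun a => by
      show algebraMap A L a ⊗ₜ[K] (1 : K₂) = algebraMap B L (algebraMap A B a) ⊗ₜ[K] (1 : K₂)
      rw [← IsScalarTower.algebraMap_apply]
    haveI : IsScalarTower A K (L ⊗[K] K₂) := IsScalarTower.of_algebraMap_eq fun a => by
      show algebraMap A L a ⊗ₜ[K] (1 : K₂) = algebraMap K L (algebraMap A K a) ⊗ₜ[K] (1 : K₂)
      rw [← IsScalarTower.algebraMap_apply]
    have hint : IsIntegral B ((1 : L) ⊗ₜ[K] x) :=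
      (IsIntegral.map ((Algebra.TensorProduct.includeRight (R := K) (A := L)).restrictScalars A) hx).tower_top
    have hcoord : ∀ j, ∃ a : A, algebraMap A K a = algebraMap A K ϖ ^ M * e.repr x j := by
      intro j
      obtain ⟨b, hb⟩ := hbound ⟨_, hint⟩ j
      refine mem_range_of_algebraMap (L := L) (IsFractionRing.injective B L) (b := t' ^ M * b) ?_
      have hrep : bL.repr ((1 : L) ⊗ₜ[K] x) j = algebraMap K L (e.repr x j) := by
        rw [Module.Basis.baseChange_repr_tmul, Algebra.smul_def, mul_one]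
      rw [hrep] at hb
      rw [map_mul, map_pow, ← IsScalarTower.algebraMap_apply, IsScalarTower.algebraMap_apply A B L, ht', map_mul,
        map_mul, ← hb, mul_pow, map_pow, map_pow]
      ring
    choose a ha using hcoord
    have hxe : x = ∑ j, a j • (((algebraMap A K ϖ) ^ M)⁻¹ • e j) := by
      conv_lhs => rw [← e.sum_repr x]
      refine Finset.sum_congr rfl fun j _ => ?_
      rw [← algebraMap_smul K (a j) (((algebraMap A K ϖ) ^ M)⁻¹ • e j), smul_smul, ha, mul_comm, ← mul_assoc,
        inv_mul_cancel₀ (pow_ne_zero _ fun h => hϖ.ne_zero (IsFractionRing.injective A K (h.trans (map_zero _).symm))),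
        one_mul]
    rw [hxe]
    exact sum_mem fun j _ => S.smul_mem _ (Submodule.subset_span ⟨j, rfl⟩)
  haveI : Module.Finite A S := Module.Finite.span_of_finite A (Set.finite_range _)
  exact Module.Finite.of_injective (Submodule.inclusion hle) (Submodule.inclusion_injective hle)

theorem finiteType_fractionRing (B L : Type u) [CommRing B] [IsDomain B] [IsDiscreteValuationRing B] [Field L]
    [Algebra B L] [IsFractionRing B L] : Algebra.FiniteType B L := by
  obtain ⟨π, hπ⟩ := IsDiscreteValuationRing.exists_irreducible B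
  refine ⟨⟨{(algebraMap B L π)⁻¹}, ?_⟩⟩
  rw [Finset.coe_singleton, eq_top_iff]
  intro l _
  obtain ⟨a, b, hb, rfl⟩ := IsFractionRing.div_surjective (A := B) l
  obtain ⟨M, u, rfl⟩ := IsDiscreteValuationRing.eq_unit_mul_pow_irreducible (nonZeroDivisors.ne_zero hb) hπ
  rw [map_mul, map_pow, div_eq_mul_inv, mul_inv, ← inv_pow]
  refine mul_mem (Subalgebra.algebraMap_mem _ _) (mul_mem ?_ (pow_mem (Algebra.subset_adjoin (Set.mem_singleton _)) _))
  rw [← map_units_inv (algebraMap B L)]
  exact Subalgebra.algebraMap_mem _ _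

/-- A residue map from fractions. -/
theorem surjective_of_fractions {T F : Type u} [CommRing T] [Field F] (φ : T →+* F) (W : ValuationSubring F)
    (hT : ∀ t, φ t ∈ W) (hmax : (RingHom.ker ((residue W).comp (φ.codRestrict W.toSubring hT))).IsMaximal)
    (h : ∀ x ∈ W, ∃ a s, W.valuation (φ s) = 1 ∧ x * φ s = φ a) :
    Function.Surjective ((residue W).comp (φ.codRestrict W.toSubring hT)) := by
  intro z
  obtain ⟨x, rfl⟩ := residue_surjective z
  obtain ⟨a, s, hs, has⟩ := h x x.2
  obtain ⟨v, i, hi, hv⟩ := hmax.exists_inv (x := s) fun h' => by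
    rw [RingHom.mem_ker, RingHom.comp_apply, residue_eq_zero_iff] at h'
    have h'' : W.valuation (φ s) < 1 := (W.valuation_lt_one_iff _).1 h'
    rw [hs] at h''
    exact lt_irrefl _ h''
  refine ⟨a * v, ?_⟩
  have hxs : residue W x * ((residue W).comp (φ.codRestrict W.toSubring hT)) s =
      ((residue W).comp (φ.codRestrict W.toSubring hT)) a := by
    rw [RingHom.comp_apply, RingHom.comp_apply, ← map_mul]
    exact congrArg _ (Subtype.ext has)
  have hvs : ((residue W).comp (φ.codRestrict W.toSubring hT)) v *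
      ((residue W).comp (φ.codRestrict W.toSubring hT)) s = 1 := by
    rw [← map_mul, show v * s = 1 - i by linear_combination hv, map_sub, map_one, RingHom.mem_ker.1 hi, sub_zero]
  rw [map_mul, ← hxs, mul_assoc, mul_comm (((residue W).comp (φ.codRestrict W.toSubring hT)) s), hvs, mul_one]

theorem main (p : ℕ) (hp : p.Prime) (A B K L : Type u)
    [CommRing A] [IsDomain A] [IsDiscreteValuationRing A] [CommRing B] [IsDomain B] [IsDiscreteValuationRing B]
    [Algebra A B] [IsLocalHom (algebraMap A B)]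
    [Field K] [Field L] [Algebra A K] [IsFractionRing A K] [Algebra B L] [IsFractionRing B L]
    [Algebra K L] [Algebra A L] [IsScalarTower A K L] [IsScalarTower A B L] [CharP K p]
    [Algebra.IsGeometricallyReduced K L] (hB : CAlg.IsNagata B)
    (K₁ K₂ : Type u) [Field K₁] [Field K₂] [Algebra K K₁] [Algebra K K₂] [Algebra K₁ K₂] [IsScalarTower K K₁ K₂]
    [FiniteDimensional K K₁] [FiniteDimensional K₁ K₂] (hsol : EtRam.IsSolution B K L K₂)
    [IsPurelyInseparable K₁ K₂] (hdeg : Module.finrank K₁ K₂ = p) :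
    ∃ (K₃ : Type u) (_ : Field K₃) (_ : Algebra K K₃) (_ : Algebra K₁ K₃) (_ : IsScalarTower K K₁ K₃),
      FiniteDimensional K₁ K₃ ∧ Algebra.IsSeparable K₁ K₃ ∧ EtRam.IsSolution B K L K₃ := by
  classical
  haveI : Fact p.Prime := ⟨hp⟩
  haveI : ExpChar K p := .prime hp
  haveI : CharP K₁ p := charP_of_injective_algebraMap (algebraMap K K₁).injective p
  haveI : ExpChar K₁ p := .prime hp
  haveI : FiniteDimensional K K₂ := FiniteDimensional.trans K K₁ K₂
  letI : Algebra A K₂ := ((algebraMap K K₂).comp (algebraMap A K)).toAlgebra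
  haveI : IsScalarTower A K K₂ := IsScalarTower.of_algebraMap_eq fun _ => rfl
  haveI : SMulCommClass K B L := ⟨fun c b l => by simp only [Algebra.smul_def]; ring⟩
  haveI : SMulCommClass K A L := ⟨fun c b l => by simp only [Algebra.smul_def]; ring⟩
  let R₂ := L ⊗[K] K₂
  haveI : IsReduced R₂ := isReduced_of_injective (Algebra.TensorProduct.comm K L K₂)
    (Algebra.TensorProduct.comm K L K₂).injective
  haveI := finiteType_fractionRing B L
  haveI : Algebra.FiniteType B R₂ := Algebra.FiniteType.trans (S := L) inferInstance inferInstance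
  haveI : Module.Finite B (integralClosure B R₂) := NagataLib.finite_integralClosure_of_reduced hB R₂
  haveI : IsArtinianRing R₂ := IsArtinianRing.of_finite L R₂
  haveI hfinA : Module.Finite A (integralClosure A K₂) := finite_integralClosure_A (B := B) (K := K) (L := L)
  haveI : IsNoetherianRing (integralClosure A K₂) := IsNoetherianRing.of_finite A _
  haveI : IsFractionRing (integralClosure A K₂) K₂ := integralClosure.isFractionRing_of_finite_extension K K₂
  haveI : IsIntegrallyClosed (integralClosure A K₂) := integralClosure.isIntegrallyClosedOfFiniteExtension K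
  haveI : IsDedekindRing (integralClosure A K₂) :=
    (isDedekindRing_iff (integralClosure A K₂) K₂).2 ⟨inferInstance, inferInstance,
      fun {x} hx => IsIntegrallyClosed.isIntegral_iff.1 hx⟩
  haveI : IsDedekindDomain (integralClosure A K₂) := {}
  haveI : Algebra.IsIntegral A (integralClosure A K₂) := Algebra.IsIntegral.of_finite A _
  haveI : Algebra.IsIntegral B (integralClosure B R₂) := Algebra.IsIntegral.of_finite B _
  obtain ⟨ϖ, hϖ⟩ := IsDiscreteValuationRing.exists_irreducible A
  have hϖm := (IsDiscreteValuationRing.irreducible_iff_uniformizer ϖ).1 hϖ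
  have hτ : algebraMap A B ϖ ∈ maximalIdeal B := (mem_maximalIdeal _).2 fun hu =>
    hϖ.not_isUnit (isUnit_of_map_unit _ _ hu)
  have hτ0 : algebraMap A B ϖ ≠ 0 := fun h => hϖ.ne_zero (IsFractionRing.injective A K
    ((algebraMap K L).injective (by
      rw [map_zero, map_zero, ← IsScalarTower.algebraMap_apply, IsScalarTower.algebraMap_apply A B L, h, map_zero])))
  -- the maximal ideals downstairs and a generator of their intersection
  have hmaxA : ∀ q : Ideal (integralClosure A K₂), q.IsMaximal → algebraMap A _ ϖ ∈ q := fun q hq => by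
    have h := IsLocalRing.eq_maximalIdeal (Ideal.isMaximal_comap_of_isIntegral_of_isMaximal (R := A) q)
    exact (SetLike.ext_iff.1 h ϖ).2 (hϖm ▸ Ideal.mem_span_singleton_self ϖ)
  haveI : FaithfulSMul A (integralClosure A K₂) := (faithfulSMul_iff_algebraMap_injective A _).2 fun a b h =>
    algebraMap_injective' (A := A) (L := K₂) K (congrArg Subtype.val h)
  haveI : Module.IsTorsionFree A (integralClosure A K₂) := inferInstance
  have hover : ∀ q : Ideal (integralClosure A K₂), q.IsMaximal → q ∈ (maximalIdeal A).primesOver _ := fun q hq =>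
    ⟨hq.isPrime, ⟨(IsLocalRing.eq_maximalIdeal (Ideal.isMaximal_comap_of_isIntegral_of_isMaximal (R := A) q)).symm⟩⟩
  have hfinMax : {q : Ideal (integralClosure A K₂) | q.IsMaximal}.Finite :=
    (IsDedekindDomain.primesOver_finite (maximalIdeal A) (B := integralClosure A K₂)).subset hover
  haveI : IsPrincipalIdealRing (integralClosure A K₂) := IsPrincipalIdealRing.of_finite_maximals hfinMax
  obtain ⟨ρ, hρ⟩ := (IsPrincipalIdealRing.principal (hfinMax.toFinset.inf id)).principal
  have hρmem : ∀ q : Ideal (integralClosure A K₂), q.IsMaximal → ρ ∈ q := fun q hq =>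
    (Finset.inf_le (hfinMax.mem_toFinset.2 hq) : hfinMax.toFinset.inf id ≤ id q)
      (hρ ▸ Ideal.mem_span_singleton_self ρ)
  have hJ : ∀ x, (∀ q : Ideal (integralClosure A K₂), q.IsMaximal → x ∈ q) → ρ ∣ x := fun x hx => by
    have : x ∈ hfinMax.toFinset.inf id := Submodule.mem_finsetInf.2 fun q hq => hx q (hfinMax.mem_toFinset.1 hq)
    rw [hρ] at this
    exact Ideal.mem_span_singleton.1 this
  obtain ⟨u, hu⟩ := hJ _ hmaxA
  have hlocA : ∀ P : Ideal (integralClosure A K₂), P.IsMaximal → ∀ t ∈ P, ∃ s, s ∉ P ∧ ρ ∣ s * t := by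
    intro P hP t ht
    have h : ∀ q : Ideal (integralClosure A K₂), q.IsMaximal → q ≠ P → ∃ x ∈ q, x ∉ P := fun q hq hne => by
      by_contra h
      push Not at h
      exact hne (hq.eq_of_le hP.ne_top h)
    choose! x hxq hxP using h
    refine ⟨∏ q ∈ hfinMax.toFinset.erase P, x q, fun hmem => ?_, hJ _ fun q hq => ?_⟩
    · obtain ⟨q, hq, hqP⟩ := hP.isPrime.prod_mem_iff.1 hmem
      rw [Finset.mem_erase, hfinMax.mem_toFinset] at hq
      exact hxP q hq.2 hq.1 hqP
    · by_cases hqP : q = P
      · exact Ideal.mul_mem_left _ _ (hqP ▸ ht)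
      · exact Ideal.mul_mem_right _ _ (Ideal.mem_of_dvd q (Finset.dvd_prod_of_mem x (Finset.mem_erase.2 ⟨hqP, hfinMax.mem_toFinset.2 hq⟩)) (hxq q hq hqP))
  -- the map to upstairs
  haveI : IsScalarTower A B R₂ := IsScalarTower.of_algebraMap_eq fun a => by
    show algebraMap A L a ⊗ₜ[K] (1 : K₂) = algebraMap B L (algebraMap A B a) ⊗ₜ[K] (1 : K₂)
    rw [← IsScalarTower.algebraMap_apply]
  haveI : IsScalarTower A K R₂ := IsScalarTower.of_algebraMap_eq fun a => by
    show algebraMap A L a ⊗ₜ[K] (1 : K₂) = algebraMap K L (algebraMap A K a) ⊗ₜ[K] (1 : K₂)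
    rw [← IsScalarTower.algebraMap_apply]
  let ι : integralClosure A K₂ →+* integralClosure B R₂ :=
    (((Algebra.TensorProduct.includeRight (R := K) (A := L) (B := K₂)).toRingHom.comp
      (integralClosure A K₂).val.toRingHom)).codRestrict (integralClosure B R₂).toSubring fun x =>
        ((x.2.map ((Algebra.TensorProduct.includeRight (R := K) (A := L)).restrictScalars A)).tower_top (A := B))
  have hιA : ∀ a : A, ι (algebraMap A _ a) = algebraMap B _ (algebraMap A B a) := fun a => Subtype.ext (by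
    show (1 : L) ⊗ₜ[K] algebraMap A K₂ a = algebraMap B R₂ (algebraMap A B a)
    rw [← IsScalarTower.algebraMap_apply, IsScalarTower.algebraMap_apply A K R₂,
      IsScalarTower.algebraMap_apply A K K₂]
    exact (Algebra.TensorProduct.includeRight (R := K) (A := L) (B := K₂)).commutes _)
  have hcomap : ∀ P : Ideal (integralClosure B R₂), P.IsMaximal → (P.comap ι).IsMaximal := by
    intro P hP
    haveI := hP.isPrime
    haveI : (P.comap ι).IsPrime := Ideal.IsPrime.comap _
    refine Ideal.IsPrime.isMaximal inferInstance fun h => hϖ.ne_zero ?_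
    have h1 : algebraMap A (integralClosure A K₂) ϖ ∈ P.comap ι := by
      rw [Ideal.mem_comap, hιA]
      have h2 := IsLocalRing.eq_maximalIdeal (Ideal.isMaximal_comap_of_isIntegral_of_isMaximal (R := B) P)
      exact (SetLike.ext_iff.1 h2 _).2 hτ
    rw [h, Ideal.mem_bot, map_eq_zero_iff _ (FaithfulSMul.algebraMap_injective A _)] at h1
    exact h1
  -- the data over a point of the given solution
  have hpoint : ∀ P : Ideal (integralClosure B R₂), P.IsMaximal →
      (∀ t ∈ P, ∃ s, s ∉ P ∧ ι ρ ∣ s * t) ∧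
      ∃ (κV κW : Type u) (_ : Field κV) (_ : Field κW) (f : κV →+* κW) (χA : integralClosure A K₂ →+* κV)
        (χB : integralClosure B R₂ →+* κW), Function.Surjective χA ∧ Function.Surjective χB ∧
          f.comp χA = χB.comp ι ∧ RingHom.ker χB = P ∧ @Algebra.IsGeometricallyReduced κV κW _ _ f.toAlgebra := by
    intro P hP
    haveI := hP.isPrime
    obtain ⟨q, hq, hqP⟩ : ∃ q : Ideal R₂, q.IsMaximal ∧
        q.comap (integralClosure B R₂).val.toRingHom ≤ P := by
      have hfin : {q : Ideal R₂ | q.IsMaximal}.Finite :=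
        (Set.finite_range fun m : MaximalSpectrum R₂ => m.asIdeal).subset fun I hI => ⟨⟨I, hI⟩, rfl⟩
      have hbot : hfin.toFinset.inf id = (⊥ : Ideal R₂) := by
        refine eq_bot_iff.2 fun x hx => ?_
        rw [Submodule.mem_finsetInf] at hx
        refine (Ideal.mem_bot).2 (IsReduced.eq_zero x ?_)
        rw [← mem_nilradical, nilradical_eq_sInf, Submodule.mem_sInf]
        intro J hJ
        exact hx J (hfin.mem_toFinset.2 (Ideal.IsPrime.isMaximal' hJ))
      have hle : (hfin.toFinset.inf fun q : Ideal R₂ => q.comap (integralClosure B R₂).val.toRingHom) ≤ P := by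
        intro x hx
        rw [Submodule.mem_finsetInf] at hx
        have : (x : R₂) ∈ hfin.toFinset.inf id := Submodule.mem_finsetInf.2 fun q hq => hx q hq
        rw [hbot, Ideal.mem_bot] at this
        rw [show x = 0 from Subtype.ext this]; exact zero_mem _
      obtain ⟨q, hq, hqP⟩ := (Ideal.IsPrime.inf_le' hP.isPrime).1 hle
      exact ⟨q, hfin.mem_toFinset.1 hq, hqP⟩
    haveI := hq
    let F := R₂ ⧸ q
    letI : Field F := Ideal.Quotient.field q
    let φ : R₂ →ₐ[L] F := Ideal.Quotient.mkₐ L q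
    let g : integralClosure B R₂ →+* F := φ.toRingHom.comp (integralClosure B R₂).val.toRingHom
    have hgu : ∀ s : P.primeCompl, IsUnit (g s) := fun s => isUnit_iff_ne_zero.2 fun h =>
      s.2 (hqP (show ((s : integralClosure B R₂) : R₂) ∈ q from Ideal.Quotient.eq_zero_iff_mem.1 h))
    let g' : Localization.AtPrime P →+* F := IsLocalization.lift hgu
    obtain ⟨W, hW, hloc⟩ := IsLocalRing.exists_factor_valuationRing (R := Localization.AtPrime P) (K := F) g'
    have hgW : ∀ t, g t ∈ W := fun t => by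
      have := hW (algebraMap _ _ t); rwa [IsLocalization.lift_eq] at this
    have hcentre : ∀ t, W.valuation (g t) < 1 ↔ t ∈ P := by
      intro t
      haveI := hloc
      haveI : IsLocalRing W.toSubring := inferInstanceAs (IsLocalRing W)
      have e : g' (algebraMap _ (Localization.AtPrime P) t) = g t := IsLocalization.lift_eq _ t
      rw [← IsLocalization.AtPrime.to_map_mem_maximal_iff (Localization.AtPrime P) P t, mem_maximalIdeal,
        mem_nonunits_iff, ← isUnit_map_iff (g'.codRestrict W.toSubring hW), ← e]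
      rw [← mem_nonunits_iff, ← mem_maximalIdeal]
      exact (W.valuation_lt_one_iff ⟨_, hW _⟩).symm
    have hW' : EtRam.Dominates B ((algebraMap L F).comp (algebraMap B L)) W := by
      have e : ∀ b, ((algebraMap L F).comp (algebraMap B L)) b = g (algebraMap B _ b) := fun b =>
        (φ.commutes (algebraMap B L b)).symm
      refine ⟨fun b => by rw [e]; exact hgW _, fun b hb => ?_⟩
      rw [e, hcentre]
      have h2 := IsLocalRing.eq_maximalIdeal (Ideal.isMaximal_comap_of_isIntegral_of_isMaximal (R := B) P)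
      exact (SetLike.ext_iff.1 h2 b).2 hb
    letI : Algebra K₂ F := (φ.toRingHom.comp
      (Algebra.TensorProduct.includeRight (R := K) (A := L) (B := K₂)).toRingHom).toAlgebra
    haveI : IsScalarTower K L F := inferInstance
    haveI : IsScalarTower K K₂ F := IsScalarTower.of_algebraMap_eq fun k => by
      show _ = φ ((1 : L) ⊗ₜ[K] algebraMap K K₂ k)
      rw [IsScalarTower.algebraMap_apply K L F, ← φ.commutes (algebraMap K L k)]
      congr 1
      show algebraMap K L k ⊗ₜ[K] (1 : K₂) = (1 : L) ⊗ₜ[K] algebraMap K K₂ k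
      rw [Algebra.algebraMap_eq_smul_one, Algebra.algebraMap_eq_smul_one, TensorProduct.smul_tmul]
    have hgen : Algebra.adjoin L (Set.range (algebraMap K₂ F)) = ⊤ := by
      rw [eq_top_iff]
      rintro x -
      obtain ⟨r, rfl⟩ := Ideal.Quotient.mkₐ_surjective L q x
      induction r using TensorProduct.induction_on with
      | zero => rw [map_zero]; exact zero_mem _
      | tmul l k =>
        rw [show l ⊗ₜ[K] k = l • ((1 : L) ⊗ₜ[K] k) by rw [TensorProduct.smul_tmul', smul_eq_mul, mul_one],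
          map_smul]
        exact Subalgebra.smul_mem _ (Algebra.subset_adjoin (show φ ((1 : L) ⊗ₜ[K] k) ∈ Set.range (algebraMap K₂ F) from ⟨k, rfl⟩)) _
      | add a b ha hb => rw [map_add]; exact add_mem ha hb
    obtain ⟨hwu, hgr⟩ := hsol F hgen W hW'
    let V : ValuationSubring K₂ := W.comap (algebraMap K₂ F)
    have hV : EtRam.Dominates A (algebraMap A K₂) V := by
      refine dominates_comap_of W _ _ ((algebraMap L F).comp ((algebraMap B L).comp (algebraMap A B))) ?_
        (by rw [← RingHom.comp_assoc]; exact dominates_of_localHom (B := A) _ W hW')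
      refine RingHom.ext fun a => ?_
      show algebraMap K₂ F (algebraMap K K₂ (algebraMap A K a)) = algebraMap L F (algebraMap B L (algebraMap A B a))
      rw [← IsScalarTower.algebraMap_apply K K₂ F, ← IsScalarTower.algebraMap_apply A B L,
        IsScalarTower.algebraMap_apply A K L, ← IsScalarTower.algebraMap_apply K L F]
    have hcompA : ∀ x : integralClosure A K₂, algebraMap K₂ F (x : K₂) = g (ι x) := fun x => rfl
    have hmemV : ∀ x : integralClosure A K₂, (x : K₂) ∈ V := fun x => by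
      show algebraMap K₂ F (x : K₂) ∈ W
      rw [hcompA]; exact hgW _
    have hfracA := point_fractions (B := A) (L := K) (R := K₂) (AlgHom.id K K₂) Function.surjective_id V hV
    haveI hpA := hcomap P hP
    have hVlt : ∀ x : integralClosure A K₂, V.valuation (x : K₂) < 1 ↔ ι x ∈ P := fun x => by
      rw [comap_valuation_lt_one, hcompA, hcentre]
    have hρV : ∀ x, V.valuation x < 1 → ∃ w ∈ V, x = (ρ : K₂) * w := by
      intro x hx
      obtain ⟨a, s, hs, has⟩ := hfracA x ((V.valuation_le_one_iff _).1 hx.le)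
      have hs : V.valuation (s : K₂) = 1 := hs
      have has : x * (s : K₂) = (a : K₂) := has
      have ha : ι a ∈ P := (hVlt a).1 (by rw [← has, map_mul, hs, mul_one]; exact hx)
      obtain ⟨s', hs', c, hc⟩ := hlocA _ hpA a ha
      have hs1 : V.valuation (s' : K₂) = 1 := le_antisymm ((V.valuation_le_one_iff _).2 (hmemV s'))
        (not_lt.1 fun h => hs' ((hVlt s').1 h))
      have hne : (s : K₂) * s' ≠ 0 := fun h => by
        have := congrArg V.valuation h
        rw [map_mul, hs, hs1, one_mul, map_zero] at this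
        exact one_ne_zero this
      refine ⟨(c : K₂) / ((s : K₂) * s'), (V.valuation_le_one_iff _).1 ?_, ?_⟩
      · rw [map_div₀, map_mul, hs, hs1, one_mul, div_one]; exact (V.valuation_le_one_iff _).2 (hmemV c)
      · have hc' : (s' : K₂) * a = (ρ : K₂) * c := congrArg Subtype.val hc
        rw [← mul_div_assoc, eq_div_iff hne, ← hc', ← has]
        ring
    letI : Algebra V W := (EtRam.inclOfComap W (algebraMap K₂ F)).toAlgebra
    have hρW : ∀ x, W.valuation x < 1 → ∃ w ∈ W, x = g (ι ρ) * w := by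
      intro x hx
      have hxm : (⟨x, (W.valuation_le_one_iff _).1 hx.le⟩ : W) ∈ maximalIdeal W := (W.valuation_lt_one_iff _).2 hx
      rw [← (show EtRam.IsWeaklyUnramified V W from hwu)] at hxm
      obtain ⟨v, hv, c, hc⟩ := exists_dvd_of_mem_map _ hxm
      obtain ⟨w, hw, hvw⟩ := hρV v ((V.valuation_lt_one_iff v).1 hv)
      refine ⟨algebraMap K₂ F w * c, W.mul_mem _ _ hw c.2, ?_⟩
      have hc' : x = algebraMap K₂ F (v : K₂) * (c : F) := congrArg Subtype.val hc
      rw [hc', hvw, map_mul, hcompA, mul_assoc]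
    have hW'' : EtRam.Dominates B (algebraMap B F) W := by
      rw [IsScalarTower.algebraMap_eq B L F]; exact hW'
    have hfracB := point_fractions φ Ideal.Quotient.mk_surjective W hW''
    refine ⟨fun t ht => ?_, ResidueField V, ResidueField W, inferInstance, inferInstance,
      ResidueField.map (EtRam.inclOfComap W (algebraMap K₂ F)),
      (residue V).comp ((integralClosure A K₂).val.toRingHom.codRestrict V.toSubring hmemV),
      (residue W).comp (g.codRestrict W.toSubring hgW), ?_, ?_, ?_, ?_, hgr⟩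
    · obtain ⟨s, hs, hdvd⟩ := point_principal φ Ideal.Quotient.mk_surjective W hW'' (ι ρ) hρW t ((hcentre t).2 ht)
      exact ⟨s, fun h => ((hcentre s).2 h).ne hs, hdvd⟩
    · refine surjective_of_fractions (integralClosure A K₂).val.toRingHom V hmemV ?_ hfracA
      have : RingHom.ker ((residue V).comp ((integralClosure A K₂).val.toRingHom.codRestrict V.toSubring hmemV)) =
          P.comap ι := by
        ext x
        rw [RingHom.mem_ker, RingHom.comp_apply, residue_eq_zero_iff, V.valuation_lt_one_iff, Ideal.mem_comap]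
        exact hVlt x
      rw [this]; exact hpA
    · refine surjective_of_fractions g W hgW ?_ hfracB
      have : RingHom.ker ((residue W).comp (g.codRestrict W.toSubring hgW)) = P := by
        ext x
        rw [RingHom.mem_ker, RingHom.comp_apply, residue_eq_zero_iff, W.valuation_lt_one_iff]
        exact hcentre x
      rw [this]; exact hP
    · exact RingHom.ext fun x => rfl
    · ext x
      rw [RingHom.mem_ker, RingHom.comp_apply, residue_eq_zero_iff, W.valuation_lt_one_iff]
      exact hcentre x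
  -- the generator of `K₂/K₁`
  obtain ⟨α, hα⟩ : ∃ α : K₂, ∀ b : K₁, algebraMap K₁ K₂ b ≠ α := by
    by_contra h
    push Not at h
    have := LinearMap.finrank_le_finrank_of_surjective (f := Algebra.linearMap K₁ K₂) h
    rw [hdeg, Module.finrank_self] at this
    exact absurd this (not_le.2 hp.one_lt)
  obtain ⟨k, a₀, hmin⟩ := IsPurelyInseparable.minpoly_eq_X_pow_sub_C K₁ p α
  have hk : k = 1 := by
    have h1 := minpoly.natDegree_le (A := K₁) α
    rw [hmin, natDegree_X_pow_sub_C, hdeg] at h1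
    rcases Nat.lt_or_ge k 1 with h | h
    · obtain rfl : k = 0 := by omega
      have := minpoly.aeval K₁ α
      rw [hmin, map_sub, map_pow, aeval_X, aeval_C, pow_zero, pow_one, sub_eq_zero] at this
      exact absurd this.symm (hα a₀)
    · exact le_antisymm (not_lt.1 fun h2 => absurd h1 (not_le.2 (by
        simpa using Nat.pow_lt_pow_right hp.one_lt h2))) h
  subst hk
  rw [pow_one] at hmin
  have hαp : α ^ p = algebraMap K₁ K₂ a₀ := by
    have := minpoly.aeval K₁ α
    rwa [hmin, map_sub, map_pow, aeval_X, aeval_C, sub_eq_zero] at this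
  have hli : LinearIndependent K₁ (fun i : Fin p => α ^ (i : ℕ)) := by
    have hd : (minpoly K₁ α).natDegree = p := by rw [hmin, natDegree_X_pow_sub_C]
    exact (linearIndependent_pow (K := K₁) α).comp (Fin.cast hd.symm) (Fin.cast_injective _)
  haveI : Nonempty (Fin p) := ⟨⟨0, hp.pos⟩⟩
  let e₂ : Module.Basis (Fin p) K₁ K₂ :=
    basisOfLinearIndependentOfCardEqFinrank hli (by rw [Fintype.card_fin, hdeg])
  have he₂ : ∀ i, e₂ i = α ^ (i : ℕ) := fun i =>
    congrFun (coe_basisOfLinearIndependentOfCardEqFinrank hli _) i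
  let D₁ : K₂ →ₗ[K₁] K₂ →ₗ[K₁] K₂ := e₂.constr K₁ fun i => e₂.constr K₁ fun j =>
    if p ≤ (i : ℕ) + j then -(α ^ ((i : ℕ) + j - p + 1)) else 0
  let D₀ : K₂ →ₗ[K] K₂ →ₗ[K] K₂ := (LinearMap.restrictScalarsₗ K K₁ K₂ K₂ K).comp (D₁.restrictScalars K)
  let DL : R₂ →ₗ[L] R₂ →ₗ[L] R₂ := ((LinearMap.baseChangeHom K L K₂ K₂).comp D₀).liftBaseChange L
  -- the bounds
  have hclearA : ∀ x : K₂, ∃ b : A, b ≠ 0 ∧ b • x ∈ integralClosure A K₂ := fun x => exists_multiple_mem (L := K) x
  have hclearB : ∀ x : R₂, ∃ b : B, b ≠ 0 ∧ b • x ∈ integralClosure B R₂ := fun x => exists_multiple_mem (L := L) x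
  obtain ⟨π, hπ⟩ := IsDiscreteValuationRing.exists_irreducible B
  have hπm := (IsDiscreteValuationRing.irreducible_iff_uniformizer π).1 hπ
  obtain ⟨t', ht'⟩ : π ∣ algebraMap A B ϖ := Ideal.mem_span_singleton.1 (hπm ▸ hτ)
  obtain ⟨M₁, hM₁⟩ := exists_bound (integralClosure A K₂) hϖm hclearA D₀
  obtain ⟨M₂, hM₂⟩ := exists_bound (integralClosure B R₂) hπm hclearB DL
  let N := M₁ + M₂
  let cK : K := algebraMap A K (ϖ ^ (N + 2))
  have hcK : cK ≠ 0 := fun h => pow_ne_zero _ hϖ.ne_zero (IsFractionRing.injective A K (h.trans (map_zero _).symm))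
  -- the perturbed algebra
  obtain ⟨f, hfdef⟩ : ∃ f : K₁[X], f = X ^ p + (Polynomial.C (algebraMap K K₁ cK) * X - Polynomial.C a₀) := ⟨_, rfl⟩
  have hlow : (Polynomial.C (algebraMap K K₁ cK) * X - Polynomial.C a₀).degree < (p : WithBot ℕ) :=
    lt_of_le_of_lt (degree_sub_le _ _) (max_lt
      (lt_of_le_of_lt (degree_C_mul_X_le _) (by exact_mod_cast hp.one_lt))
      (lt_of_le_of_lt degree_C_le (by exact_mod_cast hp.pos)))
  have hfmon : f.Monic := hfdef ▸ monic_X_pow_add hlow
  have hfdeg : f.natDegree = p := by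
    rw [hfdef, natDegree_add_eq_left_of_degree_lt, natDegree_X_pow]
    rwa [degree_X_pow]
  have hfsep : f.Separable := by
    rw [separable_def, hfdef, derivative_add, derivative_sub, derivative_X_pow, derivative_C_mul_X, derivative_C,
      CharP.cast_eq_zero K₁ p, Polynomial.C_0, zero_mul, zero_add, sub_zero]
    refine ⟨0, Polynomial.C (algebraMap K K₁ cK)⁻¹, ?_⟩
    rw [zero_mul, zero_add, ← Polynomial.C_mul,
      inv_mul_cancel₀ ((map_ne_zero (algebraMap K K₁)).2 hcK), Polynomial.C_1]
  let R₃ := AdjoinRoot f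
  let z : R₃ := AdjoinRoot.root f
  let e₃ : Module.Basis (Fin p) K₁ R₃ := (AdjoinRoot.powerBasis' hfmon).basis.reindex (finCongr hfdeg)
  have he₃ : ∀ i, e₃ i = z ^ (i : ℕ) := fun i => by
    show (AdjoinRoot.powerBasis' hfmon).basis.reindex (finCongr hfdeg) i = _
    rw [Module.Basis.reindex_apply, PowerBasis.basis_eq_pow, AdjoinRoot.powerBasis'_gen]
    rfl
  let Φ₁ : K₂ ≃ₗ[K₁] R₃ := e₂.equiv e₃ (Equiv.refl _)
  have hΦpow : ∀ i : ℕ, i < p → Φ₁ (α ^ i) = z ^ i := fun i hi => by
    rw [show α ^ i = e₂ ⟨i, hi⟩ from (he₂ ⟨i, hi⟩).symm]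
    show e₂.equiv e₃ (Equiv.refl _) (e₂ ⟨i, hi⟩) = _
    rw [Module.Basis.equiv_apply, Equiv.refl_apply, he₃]
  have hone₁ : Φ₁ 1 = 1 := by
    have := hΦpow 0 hp.pos; rwa [pow_zero, pow_zero] at this
  have hzp : z ^ p = algebraMap K₁ R₃ a₀ - algebraMap K₁ R₃ (algebraMap K K₁ cK) * z := by
    have h0 : aeval z f = 0 := by rw [AdjoinRoot.aeval_eq, AdjoinRoot.mk_self]
    have h := (congrArg (aeval z) hfdef).symm.trans h0
    simp only [map_add, map_sub, map_mul, map_pow, aeval_X, aeval_C] at h
    linear_combination h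
  have hmul₁ : ∀ x y : K₂, Φ₁ x * Φ₁ y = Φ₁ (x * y + algebraMap K K₁ cK • D₁ x y) := by
    have h : (LinearMap.mul K₁ R₃).compl₁₂ Φ₁.toLinearMap Φ₁.toLinearMap =
        (LinearMap.mul K₁ K₂ + algebraMap K K₁ cK • D₁).compr₂ Φ₁.toLinearMap := by
      refine e₂.ext fun i => e₂.ext fun j => ?_
      show Φ₁ (e₂ i) * Φ₁ (e₂ j) = Φ₁ (e₂ i * e₂ j + algebraMap K K₁ cK • D₁ (e₂ i) (e₂ j))
      have hD : D₁ (e₂ i) (e₂ j) = if p ≤ (i : ℕ) + j then -(α ^ ((i : ℕ) + j - p + 1)) else 0 := by
        simp only [D₁, Module.Basis.constr_basis]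
      rw [hD, he₂, he₂, ← pow_add, hΦpow _ i.isLt, hΦpow _ j.isLt, ← pow_add]
      split_ifs with hle
      · obtain ⟨l, hl, hlp⟩ : ∃ l, (i : ℕ) + j = p + l ∧ l + 1 < p :=
          ⟨(i : ℕ) + j - p, by omega, by have := i.isLt; have := j.isLt; omega⟩
        rw [hl, Nat.add_sub_cancel_left, pow_add, pow_add α p, hαp, smul_neg, map_add, map_neg,
          ← Algebra.smul_def, map_smul, map_smul, hΦpow l (by omega), hΦpow (l + 1) hlp, hzp,
          Algebra.smul_def, Algebra.smul_def]
        ring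
      · rw [smul_zero, add_zero, hΦpow _ (not_le.1 hle)]
    intro x y
    exact LinearMap.congr_fun₂ h x y
  -- a field quotient of it
  obtain ⟨g, hg, hgf⟩ := exists_irreducible_of_natDegree_pos (f := f) (hfdeg.symm ▸ hp.pos)
  haveI : Fact (Irreducible g) := ⟨hg⟩
  let K₃ := AdjoinRoot g
  haveI : FiniteDimensional K₁ K₃ := (AdjoinRoot.powerBasis hg.ne_zero).finite
  have hgen₃ : IntermediateField.adjoin K₁ {AdjoinRoot.root g} = ⊤ := by
    rw [eq_top_iff]
    intro x _
    obtain ⟨h, rfl⟩ := AdjoinRoot.mk_surjective x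
    rw [← AdjoinRoot.aeval_eq]
    exact IntermediateField.algebra_adjoin_le_adjoin K₁ _ (Polynomial.aeval_mem_adjoin_singleton _ _)
  have hsep₃ : Algebra.IsSeparable K₁ K₃ := by
    haveI : Algebra.IsSeparable K₁ (IntermediateField.adjoin K₁ {AdjoinRoot.root g}) :=
      (IntermediateField.isSeparable_adjoin_simple_iff_isSeparable K₁ _).2
        ((hfsep.of_dvd hgf).of_dvd (minpoly.dvd K₁ _ (by rw [AdjoinRoot.aeval_eq, AdjoinRoot.mk_self])))
    exact AlgEquiv.Algebra.isSeparable ((IntermediateField.equivOfEq hgen₃).trans IntermediateField.topEquiv)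
  refine ⟨K₃, inferInstance, inferInstance, inferInstance, inferInstance, inferInstance, hsep₃, ?_⟩
  intro F _ _ _ _ _ _ hgenF W hW
  let ψ₁ : R₃ →+* K₃ := AdjoinRoot.lift (algebraMap K₁ K₃) (AdjoinRoot.root g) (by
    obtain ⟨k, hk⟩ := hgf
    rw [hk, eval₂_mul]
    show eval₂ (AdjoinRoot.of g) (AdjoinRoot.root g) g * _ = 0
    rw [AdjoinRoot.eval₂_root, zero_mul])
  let ψ : R₃ →ₐ[K] K₃ :=
    { ψ₁ with
      commutes' := fun k => by
        show ψ₁ (algebraMap K R₃ k) = algebraMap K K₃ k
        rw [IsScalarTower.algebraMap_apply K K₁ R₃, IsScalarTower.algebraMap_apply K K₁ K₃]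
        exact AdjoinRoot.lift_of _ }
  have hψ : Function.Surjective ψ := fun x => by
    obtain ⟨h, rfl⟩ := AdjoinRoot.mk_surjective x
    refine ⟨AdjoinRoot.mk f h, ?_⟩
    show ψ₁ _ = _
    rw [AdjoinRoot.lift_mk, ← AdjoinRoot.aeval_eq]; rfl
  let φF : L ⊗[K] R₃ →ₐ[L] F := Algebra.TensorProduct.lift (Algebra.ofId L F)
    ((IsScalarTower.toAlgHom K K₃ F).comp ψ) fun _ _ => mul_comm _ _
  have hφF : ∀ l r, φF (l ⊗ₜ[K] r) = algebraMap L F l * algebraMap K₃ F (ψ r) := fun l r =>
    Algebra.TensorProduct.lift_tmul _ _ _ l r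
  have hφsurj : Function.Surjective φF := by
    intro x
    have hx : x ∈ Algebra.adjoin L (Set.range (algebraMap K₃ F)) := hgenF ▸ Algebra.mem_top
    refine Algebra.adjoin_le (S := φF.range) ?_ hx
    rintro _ ⟨k, rfl⟩
    obtain ⟨r, rfl⟩ := hψ k
    exact ⟨1 ⊗ₜ r, by
      show φF (1 ⊗ₜ[K] r) = _
      rw [hφF, map_one, one_mul]⟩
  letI : Algebra B F := ((algebraMap L F).comp (algebraMap B L)).toAlgebra
  haveI : IsScalarTower B L F := IsScalarTower.of_algebraMap_eq fun _ => rfl
  let Φ : K₂ ≃ₗ[K] R₃ := Φ₁.restrictScalars K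
  let Ψ : R₂ ≃ₗ[L] L ⊗[K] R₃ := LinearEquiv.baseChange K L K₂ R₃ Φ
  have hΨ : ∀ (l : L) (x : K₂), Ψ (l ⊗ₜ[K] x) = l ⊗ₜ[K] Φ x := fun l x => rfl
  have hone : Ψ 1 = 1 := by
    show Ψ ((1 : L) ⊗ₜ[K] (1 : K₂)) = _
    rw [hΨ, show Φ 1 = 1 from hone₁]; rfl
  have hΦmul : ∀ x y : K₂, Φ x * Φ y = Φ (x * y + cK • D₀ x y) := fun x y => by
    show Φ₁ x * Φ₁ y = Φ₁ (x * y + cK • D₁ x y)
    rw [hmul₁, algebraMap_smul]
  have hΨmul : ∀ x y : R₂, Ψ x * Ψ y = Ψ (x * y + algebraMap K L cK • DL x y) := by
    intro x y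
    induction x using TensorProduct.induction_on with
    | zero => simp
    | add a b ha hb =>
      rw [map_add Ψ a b, add_mul, ha, hb, map_add DL a b, LinearMap.add_apply, smul_add, add_mul, ← map_add]
      congr 1; abel
    | tmul l x =>
      induction y using TensorProduct.induction_on with
      | zero => simp
      | add a b ha hb =>
        rw [map_add Ψ a b, mul_add, ha, hb, map_add (DL (l ⊗ₜ[K] x)) a b, smul_add, mul_add, ← map_add]
        congr 1; abel
      | tmul l' x' =>
        have hDL : DL (l ⊗ₜ[K] x) (l' ⊗ₜ[K] x') = (l * l') ⊗ₜ[K] D₀ x x' := by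
          show (l • (LinearMap.baseChange L (D₀ x))) (l' ⊗ₜ[K] x') = _
          rw [LinearMap.smul_apply, LinearMap.baseChange_tmul, TensorProduct.smul_tmul', smul_eq_mul]
        rw [hDL, hΨ, hΨ, Algebra.TensorProduct.tmul_mul_tmul, Algebra.TensorProduct.tmul_mul_tmul, hΦmul,
          algebraMap_smul L cK, ← TensorProduct.tmul_smul cK, ← TensorProduct.tmul_add, hΨ]
  haveI : Module.Finite L R₂ := inferInstance
  have hρB : ∀ P : Ideal (integralClosure B R₂), P.IsMaximal → ι ρ ∈ P := fun P hP => hρmem _ (hcomap P hP)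
  have huB : algebraMap B (integralClosure B R₂) (algebraMap A B ϖ) = ι ρ * ι u := by
    rw [← map_mul, ← hu, hιA]
  have hlocB : ∀ P : Ideal (integralClosure B R₂), P.IsMaximal → ∀ t ∈ P, ∃ s, s ∉ P ∧ ι ρ ∣ s * t :=
    fun P hP => (hpoint P hP).1
  obtain ⟨χ, hχ, hmax, hval, hρ1, hgenW⟩ := deform_point (integralClosure B R₂) hclearB Ψ hone hτ hτ0 (by
      intro x hx y hy
      refine ⟨t' ^ N • (π ^ N • DL x y), Subalgebra.smul_mem _ (hM₂ N (Nat.le_add_left _ _) x hx y hy) _, ?_⟩
      rw [hΨmul, smul_smul (t' ^ N), ← mul_pow, mul_comm t', ← ht', smul_smul, ← pow_add, add_comm 2 N, ← map_pow,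
        show algebraMap K L cK = algebraMap B L (algebraMap A B (ϖ ^ (N + 2))) by
          rw [← IsScalarTower.algebraMap_apply A B L, ← IsScalarTower.algebraMap_apply A K L],
        algebraMap_smul]) (ι ρ) (ι u) huB hρB hlocB φF hφsurj W hW
  letI : Algebra A K₃ := ((algebraMap K K₃).comp (algebraMap A K)).toAlgebra
  haveI : IsScalarTower A K K₃ := IsScalarTower.of_algebraMap_eq fun _ => rfl
  letI : Algebra A R₃ := ((algebraMap K R₃).comp (algebraMap A K)).toAlgebra
  haveI : IsScalarTower A K R₃ := IsScalarTower.of_algebraMap_eq fun _ => rfl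
  let V : ValuationSubring K₃ := W.comap (algebraMap K₃ F)
  have hV : EtRam.Dominates A (algebraMap A K₃) V := by
    refine dominates_comap_of W _ _ ((algebraMap L F).comp ((algebraMap B L).comp (algebraMap A B))) ?_
      (by rw [← RingHom.comp_assoc]; exact dominates_of_localHom (B := A) _ W hW)
    refine RingHom.ext fun a => ?_
    show algebraMap K₃ F (algebraMap K K₃ (algebraMap A K a)) = algebraMap L F (algebraMap B L (algebraMap A B a))
    rw [← IsScalarTower.algebraMap_apply K K₃ F, ← IsScalarTower.algebraMap_apply A B L,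
      IsScalarTower.algebraMap_apply A K L, ← IsScalarTower.algebraMap_apply K L F]
  obtain ⟨χA, hχA, -, hvalA, hρ1A, -⟩ := deform_point (integralClosure A K₂) hclearA Φ hone₁
    (hϖm ▸ Ideal.mem_span_singleton_self ϖ) hϖ.ne_zero (by
      intro x hx y hy
      refine ⟨ϖ ^ N • D₀ x y, hM₁ N (Nat.le_add_right _ _) x hx y hy, ?_⟩
      rw [hΦmul, smul_smul, ← pow_add, add_comm 2 N, algebraMap_smul]) ρ u hu hρmem hlocA ψ hψ V hV
  have hcompat : ∀ x : integralClosure A K₂,
      φF (Ψ (ι x : R₂)) = algebraMap K₃ F (ψ (Φ (x : K₂))) := fun x => by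
    show φF (Ψ ((1 : L) ⊗ₜ[K] (x : K₂))) = _
    rw [hΨ, hφF, map_one, one_mul]
  refine ⟨weaklyUnramified_of_gen W _ (ψ (Φ (ρ : K₂))) (hcompat ρ ▸ hρ1) (hcompat ρ ▸ hgenW), ?_⟩
  obtain ⟨κV, κW, _, _, f₂, χA₂, χB₂, hA₂, hB₂, hsq, hker, hgr⟩ := (hpoint _ hmax).2
  have hsq₃ : (ResidueField.map (EtRam.inclOfComap W (algebraMap K₃ F))).comp χA = χ.comp ι := by
    refine RingHom.ext fun x => ?_
    obtain ⟨h1, e1⟩ := hvalA x
    obtain ⟨h2, e2⟩ := hval (ι x)
    rw [RingHom.comp_apply, RingHom.comp_apply, e1, e2, ResidueField.map_residue]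
    exact congrArg _ (Subtype.ext (hcompat x).symm)
  have hkerA : RingHom.ker χA₂ ≤ RingHom.ker χA := by
    intro x hx
    rw [RingHom.mem_ker] at hx ⊢
    apply (ResidueField.map (EtRam.inclOfComap W (algebraMap K₃ F))).injective
    have h1 : ι x ∈ RingHom.ker χ := by
      rw [← hker, RingHom.mem_ker, ← RingHom.comp_apply, ← hsq, RingHom.comp_apply, hx, map_zero]
    rw [map_zero, ← RingHom.comp_apply, hsq₃, RingHom.comp_apply, RingHom.mem_ker.1 h1]
  refine geomReduced_congr f₂ (ResidueField.map (EtRam.inclOfComap W (algebraMap K₃ F)))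
    (RingHom.liftOfSurjective χA₂ hA₂ ⟨χA, hkerA⟩) ?_
    (RingHom.liftOfSurjective χB₂ hB₂ ⟨χ, hker.le⟩) ?_ ?_ hgr
  · intro y
    obtain ⟨x, rfl⟩ := hχA y
    exact ⟨χA₂ x, RingHom.liftOfSurjective_comp_apply χA₂ hA₂ ⟨χA, hkerA⟩ x⟩
  · intro y
    obtain ⟨x, rfl⟩ := hχ y
    exact ⟨χB₂ x, RingHom.liftOfSurjective_comp_apply χB₂ hB₂ ⟨χ, hker.le⟩ x⟩
  · refine RingHom.ext fun y => ?_
    obtain ⟨x, rfl⟩ := hA₂ y
    rw [RingHom.comp_apply, RingHom.comp_apply, ← RingHom.comp_apply f₂, hsq, RingHom.comp_apply,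
      RingHom.liftOfSurjective_comp_apply χB₂ hB₂ ⟨χ, hker.le⟩,
      RingHom.liftOfSurjective_comp_apply χA₂ hA₂ ⟨χA, hkerA⟩]
    exact (RingHom.congr_fun hsq₃ x).symm

end

/-- Let p be a prime and A → B an injective local homomorphism of discrete valuation rings whose fields
of fractions are K ⊆ L, where K has characteristic p, L is separable (geometrically reduced) over K
and B is a Nagata ring. Let K ⊆ K₁ ⊆ K₂ be finite extensions such that K₂ is a solution for A ⊆ B
and K₂/K₁ is purely inseparable of degree p. Then some finite separable extension K₃/K₁ is also a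
solution for A ⊆ B. -/
theorem result (p : ℕ) (hp : p.Prime) (A B K L : Type u)
    [CommRing A] [IsDomain A] [IsDiscreteValuationRing A] [CommRing B] [IsDomain B] [IsDiscreteValuationRing B]
    [Algebra A B] (hinj : Function.Injective (algebraMap A B)) [IsLocalHom (algebraMap A B)]
    [Field K] [Field L] [Algebra A K] [IsFractionRing A K] [Algebra B L] [IsFractionRing B L]
    [Algebra K L] [Algebra A L] [IsScalarTower A K L] [IsScalarTower A B L] [CharP K p]
    [Algebra.IsGeometricallyReduced K L] (hB : CAlg.IsNagata B)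
    (K₁ K₂ : Type u) [Field K₁] [Field K₂] [Algebra K K₁] [Algebra K K₂] [Algebra K₁ K₂] [IsScalarTower K K₁ K₂]
    [FiniteDimensional K K₁] [FiniteDimensional K₁ K₂] (hsol : EtRam.IsSolution B K L K₂)
    [IsPurelyInseparable K₁ K₂] (hdeg : Module.finrank K₁ K₂ = p) :
    ∃ (K₃ : Type u) (_ : Field K₃) (_ : Algebra K K₃) (_ : Algebra K₁ K₃) (_ : IsScalarTower K K₁ K₃),
      FiniteDimensional K₁ K₃ ∧ Algebra.IsSeparable K₁ K₃ ∧ EtRam.IsSolution B K L K₃ := by
  exact Groth.Agent.S7151.main p hp A B K L hB K₁ K₂ hsol hdeg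

end Groth.Agent.S7151
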