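import Groth.Statements.S7152
import Mathlib

set_option autoImplicit false
universe u
open EtAlg

namespace Groth.Agent.S7152

theorem exists_pow_mem_range {A' A : Type u} [CommRing A'] [CommRing A] [Algebra A' A] [Module.Finite A' A] (f : A')
    (hloc : Function.Bijective (IsLocalization.Away.map (Localization.Away f)
      (Localization.Away (algebraMap A' A f)) (algebraMap A' A) f)) :
    ∃ c : ℕ, ∀ a : A, ∃ a' : A', algebraMap A' A a' = algebraMap A' A f ^ c * a := by
  classical
  have h1 := (IsLocalization.Away.map_surjective_iff (Localization.Away f) (Localization.Away (algebraMap A' A f)) (algebraMap A' A) f).1 hloc.2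
  choose b m hbm using h1
  obtain ⟨s, hs⟩ := Module.Finite.fg_top (R := A') (M := A)
  refine ⟨s.sup m, fun a => ?_⟩
  have ha : a ∈ Submodule.span A' (s : Set A) := hs ▸ Submodule.mem_top
  induction ha using Submodule.span_induction with
  | mem x hx =>
    obtain ⟨d, hd⟩ := Nat.exists_eq_add_of_le (Finset.le_sup (f := m) hx)
    refine ⟨f ^ d * b x, ?_⟩
    rw [map_mul, map_pow, hbm, hd, pow_add]; ring
  | zero => exact ⟨0, by rw [map_zero, mul_zero]⟩
  | add x y _ _ hx hy =>
    obtain ⟨x', hx'⟩ := hx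
    obtain ⟨y', hy'⟩ := hy
    exact ⟨x' + y', by rw [map_add, hx', hy', mul_add]⟩
  | smul r x _ hx =>
    obtain ⟨x', hx'⟩ := hx
    exact ⟨r * x', by rw [map_mul, hx', Algebra.smul_def]; ring⟩

theorem core {A' A : Type u} [CommRing A'] [CommRing A] [Algebra A' A]
    (hinj : Function.Injective (algebraMap A' A)) [Module.Finite A' A] (f : A')
    (hf : algebraMap A' A f ∈ nonZeroDivisors A) (c : ℕ)
    (hc : ∀ a : A, ∃ a' : A', algebraMap A' A a' = algebraMap A' A f ^ c * a)
    (n : ℕ) (hn : 2 * c + 1 ≤ n) {B' : Type u} [CommRing B'] (g : B') (hg : g ∈ nonZeroDivisors B')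
    (φ' : (A' ⧸ Ideal.span {f ^ n}) ≃+* (B' ⧸ Ideal.span {g ^ n}))
    (hφ : φ' (Ideal.Quotient.mk (Ideal.span {f ^ n}) f) = Ideal.Quotient.mk (Ideal.span {g ^ n}) g) :
    ∃ (B : Type u) (_ : CommRing B) (_ : Algebra B' B),
      Function.Injective (algebraMap B' B) ∧ Module.Finite B' B ∧
      ∃ φ : (A ⧸ Ideal.span {algebraMap A' A f}) ≃+* (B ⧸ Ideal.span {algebraMap B' B g}),
        ∀ (a' : A') (b' : B'),
          φ' (Ideal.Quotient.mk (Ideal.span {f ^ n}) a') = Ideal.Quotient.mk (Ideal.span {g ^ n}) b' →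
          φ (Ideal.Quotient.mk (Ideal.span {algebraMap A' A f}) (algebraMap A' A a')) =
            Ideal.Quotient.mk (Ideal.span {algebraMap B' B g}) (algebraMap B' B b') := by
  classical
  choose h hh using hc
  obtain ⟨d, rfl⟩ : ∃ d, n = c + c + (d + 1) := ⟨n - 2 * c - 1, by omega⟩
  -- `h` is linear
  have hadd : ∀ a b, h (a + b) = h a + h b := fun a b => hinj (by rw [map_add, hh, hh, hh, mul_add])
  have hsmul : ∀ (r : A') (a : A), h (algebraMap A' A r * a) = r * h a := fun r a =>
    hinj (by rw [map_mul, hh, hh]; ring)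
  have hmul : ∀ a b, h a * h b = f ^ c * h (a * b) := fun a b => hinj (by
    rw [map_mul, map_mul, map_pow, hh, hh, hh]; ring)
  have hone : h 1 = f ^ c := hinj (by rw [hh, map_pow, mul_one])
  -- `rel a j`: `j` lifts the image of `h a`
  let rel : A → B' → Prop := fun a j =>
    φ' (Ideal.Quotient.mk _ (h a)) = Ideal.Quotient.mk _ j
  have rel_ex : ∀ a, ∃ j, rel a j := fun a => by
    obtain ⟨j, hj⟩ := Ideal.Quotient.mk_surjective (φ' (Ideal.Quotient.mk _ (h a)))
    exact ⟨j, hj.symm⟩
  have rel_add : ∀ {a b j k}, rel a j → rel b k → rel (a + b) (j + k) := fun {a b j k} h1 h2 => by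
    simp only [rel, hadd, map_add] at h1 h2 ⊢; rw [h1, h2]
  have rel_smul : ∀ {a' b' a j}, φ' (Ideal.Quotient.mk _ a') = Ideal.Quotient.mk _ b' → rel a j →
      rel (algebraMap A' A a' * a) (b' * j) := fun {a' b' a j} h1 h2 => by
    simp only [rel, hsmul, map_mul] at h2 ⊢; rw [h1, h2]
  have rel_pow : ∀ k, φ' (Ideal.Quotient.mk _ (f ^ k)) = Ideal.Quotient.mk _ (g ^ k) := fun k => by
    rw [map_pow, map_pow, hφ, map_pow]
  have rel_one : rel 1 (g ^ c) := by simp only [rel, hone]; exact rel_pow c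
  let J : Submodule B' B' :=
    { carrier := {j | ∃ a, rel a j}
      add_mem' := fun ⟨a, ha⟩ ⟨b, hb⟩ => ⟨a + b, rel_add ha hb⟩
      zero_mem' := ⟨0, by
        have : h 0 = 0 := hinj (by rw [hh, map_zero, mul_zero])
        simp only [rel, this, map_zero]⟩
      smul_mem' := fun b' j ⟨a, ha⟩ => by
        obtain ⟨a', ha'⟩ := Ideal.Quotient.mk_surjective (φ'.symm (Ideal.Quotient.mk _ b'))
        exact ⟨_, rel_smul (by rw [ha', RingEquiv.apply_symm_apply]) ha⟩ }
  have hJpow : ∀ k, g ^ (c + k) ∈ J := fun k => by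
    rw [add_comm, pow_add]; exact J.smul_mem _ ⟨1, rel_one⟩
  have hzero : ∀ x ∈ Ideal.span {g ^ (c + c + (d + 1))}, ∃ y ∈ J, x = g ^ c * (g * y) := fun x hx => by
    obtain ⟨r, rfl⟩ := Ideal.mem_span_singleton'.1 hx
    refine ⟨r • g ^ (c + d), J.smul_mem _ (hJpow d), ?_⟩
    rw [smul_eq_mul]; ring
  have hJmul : ∀ {a b j k}, rel a j → rel b k → ∃ l ∈ J, j * k = g ^ c * l ∧
      ∃ l₀ y, rel (a * b) l₀ ∧ y ∈ J ∧ l = l₀ + g * y := fun {a b j k} h1 h2 => by
    obtain ⟨l, hl⟩ := rel_ex (a * b)
    have : j * k - g ^ c * l ∈ Ideal.span {g ^ (c + c + (d + 1))} := by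
      rw [← Ideal.Quotient.eq_zero_iff_mem, map_sub, map_mul, map_mul, ← h1, ← h2, ← hl, ← map_mul, ← map_mul,
        hmul, map_mul, map_mul, rel_pow, sub_self]
    obtain ⟨y, hy, hy'⟩ := hzero _ this
    refine ⟨l + g * y, add_mem ⟨_, hl⟩ (J.smul_mem g hy), ?_, l, y, hl, hy, rfl⟩
    linear_combination hy'
  let S := Localization.Away g
  have hgS : IsUnit (algebraMap B' S g) := IsLocalization.map_units S (⟨g, Submonoid.mem_powers g⟩ : Submonoid.powers g)
  have hinjS : Function.Injective (algebraMap B' S) := IsLocalization.injective S (Submonoid.powers_le.2 hg)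
  let G : S := algebraMap B' S g ^ c
  have hG : IsUnit G := hgS.pow c
  let B : Subalgebra B' S :=
    { carrier := {x | ∃ j ∈ J, G * x = algebraMap B' S j}
      mul_mem' := fun {x y} ⟨j, ⟨a, ha⟩, hx⟩ ⟨k, ⟨b, hb⟩, hy⟩ => by
        obtain ⟨l, hl, he, -⟩ := hJmul ha hb
        refine ⟨l, hl, hG.mul_left_cancel ?_⟩
        rw [show G * (G * (x * y)) = G * x * (G * y) by ring, hx, hy, ← map_mul, he, map_mul, map_pow]
      add_mem' := fun {x y} ⟨j, hj, hx⟩ ⟨k, hk, hy⟩ => ⟨j + k, add_mem hj hk, by rw [mul_add, hx, hy, map_add]⟩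
      algebraMap_mem' := fun b' => ⟨b' * g ^ c, J.smul_mem b' ⟨1, rel_one⟩, by rw [map_mul, map_pow, mul_comm]⟩ }
  have hlift : ∀ {a j}, rel a j → ∃ x : B, G * (x : S) = algebraMap B' S j := fun {a j} hj => by
    have key : G * ((↑hG.unit⁻¹ : S) * algebraMap B' S j) = algebraMap B' S j := by
      rw [← mul_assoc, IsUnit.mul_val_inv, one_mul]
    exact ⟨⟨_, j, ⟨a, hj⟩, key⟩, key⟩
  have hext : ∀ x y : B, G * (x : S) = G * (y : S) → x = y := fun x y h => Subtype.ext (hG.mul_left_cancel h)
  have hinjB : Function.Injective (algebraMap B' B) := fun x y h => hinjS (congrArg Subtype.val h)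
  have hfin : Module.Finite B' B := by
    obtain ⟨s, hs⟩ := Module.Finite.fg_top (R := A') (M := A)
    choose w hw using rel_ex
    have hw' : ∀ a, ∃ x : B, G * (x : S) = algebraMap B' S (w a) := fun a => hlift (hw a)
    choose v hv using hw'
    refine ⟨⟨s.image v ∪
      {(⟨algebraMap B' S (g ^ (c + (d + 1))), B.algebraMap_mem _⟩ : B)}, eq_top_iff.2 fun x _ => ?_⟩⟩
    obtain ⟨j, ⟨a, ha⟩, hx⟩ := x.2
    have key : ∀ a ∈ Submodule.span A' (s : Set A), ∀ j, rel a j → ∀ x : B, G * (x : S) = algebraMap B' S j →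
        x ∈ Submodule.span B' (↑(s.image v ∪
          {(⟨algebraMap B' S (g ^ (c + (d + 1))), B.algebraMap_mem _⟩ : B)}) : Set B) := by
      have hdiff : ∀ j k (x y : B), Ideal.Quotient.mk (Ideal.span {g ^ (c + c + (d + 1))}) j = Ideal.Quotient.mk _ k →
          G * (x : S) = algebraMap B' S j → G * (y : S) = algebraMap B' S k →
          ∃ r : B', x = y + r • (⟨algebraMap B' S (g ^ (c + (d + 1))), B.algebraMap_mem _⟩ : B) := by
        intro j k x y he hx hy
        rw [Ideal.Quotient.eq] at he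
        obtain ⟨r, hr⟩ := Ideal.mem_span_singleton'.1 he
        refine ⟨r, hext _ _ ?_⟩
        rw [Subalgebra.coe_add, Subalgebra.coe_smul, mul_add, hx, hy, Algebra.smul_def]
        dsimp only [G]
        rw [map_pow]
        rw [← sub_eq_iff_eq_add', ← map_sub, ← hr, map_mul, map_pow]
        ring
      intro a ha
      induction ha using Submodule.span_induction with
      | mem a ha =>
        intro j hj x hx
        obtain ⟨r, rfl⟩ := hdiff j (w a) x (v a) ((hj.symm).trans (hw a)) hx (hv a)
        exact add_mem (Submodule.subset_span (by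
          simp only [Finset.coe_union, Finset.coe_image]; exact Or.inl ⟨a, ha, rfl⟩))
          (Submodule.smul_mem _ _ (Submodule.subset_span (by simp)))
      | zero =>
        intro j hj x hx
        have h0 : h 0 = 0 := hinj (by rw [hh, map_zero, mul_zero])
        obtain ⟨r, rfl⟩ := hdiff j 0 x 0 (by
          simp only [rel, h0, map_zero] at hj; rw [map_zero]; exact hj.symm) hx (by simp)
        exact add_mem (zero_mem _) (Submodule.smul_mem _ _ (Submodule.subset_span (by simp)))
      | add a b _ _ iha ihb =>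
        intro j hj x hx
        obtain ⟨y, hy⟩ := hlift (hw a)
        obtain ⟨z, hz⟩ := hlift (hw b)
        obtain ⟨r, rfl⟩ := hdiff j (w a + w b) x (y + z) (hj.symm.trans (rel_add (hw a) (hw b))) hx
          (by rw [Subalgebra.coe_add, mul_add, hy, hz, map_add])
        exact add_mem (add_mem (iha _ (hw a) y hy) (ihb _ (hw b) z hz))
          (Submodule.smul_mem _ _ (Submodule.subset_span (by simp)))
      | smul a' a _ iha =>
        intro j hj x hx
        obtain ⟨b', hb'⟩ := Ideal.Quotient.mk_surjective (φ' (Ideal.Quotient.mk _ a'))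
        obtain ⟨y, hy⟩ := hlift (hw a)
        rw [Algebra.smul_def] at hj
        obtain ⟨r, rfl⟩ := hdiff j (b' * w a) x (b' • y) (hj.symm.trans (rel_smul hb'.symm (hw a))) hx
          (by rw [Subalgebra.coe_smul, Algebra.smul_def, mul_left_comm, hy, map_mul])
        exact add_mem (Submodule.smul_mem _ _ (iha _ (hw a) y hy))
          (Submodule.smul_mem _ _ (Submodule.subset_span (by simp)))
    exact key a (hs ▸ Submodule.mem_top) j ha x hx
  -- the comparison map
  let q := Ideal.Quotient.mk (Ideal.span {algebraMap B' B g})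
  have hq : ∀ {a j k} {x y : B}, rel a j → rel a k → G * (x : S) = algebraMap B' S j →
      G * (y : S) = algebraMap B' S k → q x = q y := fun {a j k x y} h1 h2 hx hy => by
    obtain ⟨z, hz, hz'⟩ := hzero (j - k) ((Ideal.Quotient.eq).1 (h1.symm.trans h2))
    refine Ideal.Quotient.eq.2 (Ideal.mem_span_singleton'.2 ⟨⟨algebraMap B' S z, ?_⟩, ?_⟩)
    · obtain ⟨a₀, ha₀⟩ := hz
      exact B.algebraMap_mem z
    · refine hext _ _ ?_
      rw [Subalgebra.coe_mul, Subalgebra.coe_sub, mul_sub, hx, hy, ← map_sub, hz']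
      simp only [map_mul, map_pow, Subalgebra.coe_algebraMap, G]
      ring
  choose w hw using rel_ex
  choose v hv using fun a => hlift (hw a)
  let ψ : A →+* B ⧸ Ideal.span {algebraMap B' B g} :=
    { toFun := fun a => q (v a)
      map_one' := (hq (hw 1) rel_one (hv 1) (y := 1) (by simp [G])).trans (map_one q)
      map_zero' := by
        refine (hq (hw 0) (k := 0) ?_ (hv 0) (y := 0) (by simp)).trans (map_zero q)
        have h0 : h 0 = 0 := hinj (by rw [hh, map_zero, mul_zero])
        simp only [rel, h0, map_zero]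
      map_add' := fun a b => (hq (hw (a + b)) (rel_add (hw a) (hw b)) (hv _) (y := v a + v b)
        (by rw [Subalgebra.coe_add, mul_add, hv, hv, map_add])).trans (map_add q _ _)
      map_mul' := fun a b => by
        obtain ⟨l, hlJ, he, l₀, y, hl₀, ⟨a₁, ha₁⟩, rfl⟩ := hJmul (hw a) (hw b)
        have h1 : G * ((v a * v b : B) : S) = algebraMap B' S (l₀ + g * y) := by
          refine hG.mul_left_cancel ?_
          rw [Subalgebra.coe_mul, show G * (G * ((v a : S) * v b)) = G * (v a : S) * (G * v b) by ring, hv, hv,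
            ← map_mul, he, map_mul, map_pow]
        obtain ⟨z, hz⟩ := hlift ha₁
        obtain ⟨z₀, hz₀⟩ := hlift hl₀
        rw [hq (hw (a * b)) hl₀ (hv _) hz₀, ← map_mul q]
        refine Ideal.Quotient.eq.2 (Ideal.mem_span_singleton'.2 ⟨-z, hext _ _ ?_⟩)
        rw [Subalgebra.coe_sub, mul_sub, h1, hz₀, map_add, map_mul, ← hz, Subalgebra.coe_mul, Subalgebra.coe_neg,
          Subalgebra.coe_algebraMap]
        ring }
  have hker : RingHom.ker ψ = Ideal.span {algebraMap A' A f} := by
    refine le_antisymm (fun a ha => ?_) ((Ideal.span_singleton_le_iff_mem _).2 ?_)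
    · obtain ⟨x, hx⟩ := Ideal.mem_span_singleton'.1 (Ideal.Quotient.eq_zero_iff_mem.1 (RingHom.mem_ker.1 ha))
      obtain ⟨j, ⟨a₀, ha₀⟩, hxj⟩ := x.2
      have h1 : w a = g * j := hinjS (by
        rw [← hv a, ← hx, Subalgebra.coe_mul, Subalgebra.coe_algebraMap, map_mul, ← hxj]; ring)
      have h2 := hw a
      simp only [rel, h1, map_mul] at h2
      simp only [rel] at ha₀
      rw [← hφ, ← ha₀, ← map_mul, ← map_mul, φ'.injective.eq_iff, Ideal.Quotient.eq] at h2
      obtain ⟨r, hr⟩ := Ideal.mem_span_singleton'.1 h2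
      refine Ideal.mem_span_singleton'.2 ⟨a₀ + algebraMap A' A (r * f ^ (c + d)), ?_⟩
      refine (mem_nonZeroDivisors_iff_right.1 (pow_mem hf c) |> fun hreg => sub_eq_zero.1 (hreg _ ?_))
      have h3 := congrArg (algebraMap A' A) hr
      simp only [map_sub, map_mul, map_pow, hh] at h3
      simp only [map_mul, map_pow]
      linear_combination h3
    · have hf1 : rel (algebraMap A' A f) (g * g ^ c) := by simpa using rel_smul hφ rel_one
      refine RingHom.mem_ker.2 ((hq (hw _) hf1 (hv _) (y := algebraMap B' B g) ?_).trans ?_)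
      · rw [Subalgebra.coe_algebraMap, map_mul, map_pow]; ring
      · exact Ideal.Quotient.eq_zero_iff_mem.2 (Ideal.mem_span_singleton_self _)
  have hsurj : Function.Surjective ψ := fun z => by
    obtain ⟨x, rfl⟩ := Ideal.Quotient.mk_surjective z
    obtain ⟨j, ⟨a, ha⟩, hx⟩ := x.2
    exact ⟨a, hq (hw a) ha (hv a) hx⟩
  refine ⟨B, inferInstance, inferInstance, hinjB, hfin,
    (Ideal.quotEquivOfEq hker.symm).trans (RingHom.quotientKerEquivOfSurjective hsurj), fun a' b' he => ?_⟩
  have h1 : rel (algebraMap A' A a') (b' * g ^ c) := by simpa using rel_smul he rel_one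
  show q (v (algebraMap A' A a')) = q (algebraMap B' B b')
  exact hq (hw _) h1 (hv _) (by rw [Subalgebra.coe_algebraMap, map_mul, map_pow]; ring)

/-- Let A' ⊆ A be an extension of rings and f an element of A'. Assume A is finite over A', f is a
nonzerodivisor on A, and A'_f = A_f. Then there is n₀ > 0 such that for all n ≥ n₀ the following
holds: given a ring B', a nonzerodivisor g of B' and an isomorphism φ' : A'/fⁿA' → B'/gⁿB' sending
the class of f to the class of g, one can find a ring B containing B' as a subring and finite as a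
B'-module, together with a ring isomorphism φ : A/fA → B/gB that agrees with φ' (i.e. the square
formed by the maps A'/fⁿA' → A/fA and B'/gⁿB' → B/gB commutes). -/
theorem result (A' A : Type u) [CommRing A'] [CommRing A] [Algebra A' A]
    (hinj : Function.Injective (algebraMap A' A)) [Module.Finite A' A] (f : A')
    (hf : algebraMap A' A f ∈ nonZeroDivisors A)
    (hloc : Function.Bijective (IsLocalization.Away.map (Localization.Away f)
      (Localization.Away (algebraMap A' A f)) (algebraMap A' A) f)) :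
    ∃ n₀ : ℕ, 0 < n₀ ∧ ∀ n : ℕ, n₀ ≤ n →
      ∀ (B' : Type u) [CommRing B'] (g : B'), g ∈ nonZeroDivisors B' →
        ∀ φ' : (A' ⧸ Ideal.span {f ^ n}) ≃+* (B' ⧸ Ideal.span {g ^ n}),
        φ' (Ideal.Quotient.mk (Ideal.span {f ^ n}) f) = Ideal.Quotient.mk (Ideal.span {g ^ n}) g →
        ∃ (B : Type u) (_ : CommRing B) (_ : Algebra B' B),
          Function.Injective (algebraMap B' B) ∧ Module.Finite B' B ∧
          ∃ φ : (A ⧸ Ideal.span {algebraMap A' A f}) ≃+* (B ⧸ Ideal.span {algebraMap B' B g}),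
            ∀ (a' : A') (b' : B'),
              φ' (Ideal.Quotient.mk (Ideal.span {f ^ n}) a') = Ideal.Quotient.mk (Ideal.span {g ^ n}) b' →
              φ (Ideal.Quotient.mk (Ideal.span {algebraMap A' A f}) (algebraMap A' A a')) =
                Ideal.Quotient.mk (Ideal.span {algebraMap B' B g}) (algebraMap B' B b') := by
  obtain ⟨c, hc⟩ := Groth.Agent.S7152.exists_pow_mem_range f hloc
  refine ⟨2 * c + 1, by omega, fun n hn B' _ g hg φ' hφ => ?_⟩
  exact Groth.Agent.S7152.core hinj f hf c hc n hn g hg φ' hφ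

end Groth.Agent.S7152
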