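import Groth.Statements.S7155
import Groth.Agent.H1Ram.ASWeak
import Groth.Agent.GalCohX.Hilbert90

set_option autoImplicit false
universe u
open EtAlg

namespace Groth.Agent.S7155

section
open IsLocalRing
open Groth.Agent.H1Ram

theorem exists_as_generator {p : ℕ} (hp : p.Prime) (L M : Type u) [Field L] [Field M] [Algebra L M] [CharP L p]
    [IsGalois L M] (hdeg : Module.finrank L M = p) :
    ∃ (x : M) (ξ : L), x ^ p - x = algebraMap L M ξ ∧ IntermediateField.adjoin L {x} = ⊤ := by
  haveI : Fact p.Prime := ⟨hp⟩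
  haveI : FiniteDimensional L M := Module.finite_of_finrank_pos (hdeg.symm ▸ hp.pos)
  have hcard : Nat.card (M ≃ₐ[L] M) = p := (IsGalois.card_aut_eq_finrank L M).trans hdeg
  have hcyc : IsCyclic (M ≃ₐ[L] M) := isCyclic_of_prime_card hcard
  let e : Multiplicative (ZMod p) ≃* (M ≃ₐ[L] M) :=
    (AddEquiv.toMultiplicative (ZMod.ringEquivCongr hcard.symm).toAddEquiv).trans (zmodCyclicMulEquiv hcyc)
  obtain ⟨x, ⟨ξ, hξ⟩, hx⟩ := GalCohX.exists_artinSchreier p (fun σ => (e.symm σ).toAdd)
    (fun σ τ => by rw [map_mul]; rfl) (IsLocallyConstant.of_discrete _)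
  refine ⟨x, ξ, hξ.symm, ?_⟩
  have h1 := Module.finrank_mul_finrank L (IntermediateField.adjoin L {x}) M
  rw [hdeg] at h1
  rcases hp.eq_one_or_self_of_dvd _ ⟨_, h1.symm⟩ with h | h
  · obtain ⟨l, hl⟩ := IntermediateField.mem_bot.1 ((IntermediateField.finrank_eq_one_iff.1 h) ▸
      IntermediateField.mem_adjoin_simple_self L x)
    have := hx (e (Multiplicative.ofAdd 1))
    rw [MulEquiv.symm_apply_apply, toAdd_ofAdd, ← hl, AlgEquiv.commutes, sub_self, ZMod.val_one, Nat.cast_one] at this
    exact absurd this zero_ne_one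
  · exact IntermediateField.eq_of_le_of_finrank_eq le_top (h.trans (hdeg.symm.trans IntermediateField.finrank_top'.symm))

/-- A field generated by a root of an irreducible factor. -/
theorem exists_as_root {p : ℕ} (hp : p.Prime) (K₁ : Type u) [Field K₁] (η : K₁) :
    ∃ (K₂ : Type u) (_ : Field K₂) (_ : Algebra K₁ K₂) (z : K₂),
      z ^ p - z = algebraMap K₁ K₂ η ∧ IntermediateField.adjoin K₁ {z} = ⊤ ∧
      (η = 0 → z = 0) := by
  by_cases h : η = 0
  · refine ⟨K₁, inferInstance, Algebra.id K₁, 0, by simp [h, hp.ne_zero], ?_, fun _ => rfl⟩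
    rw [eq_top_iff]
    exact fun a _ => IntermediateField.algebraMap_mem (IntermediateField.adjoin K₁ {(0 : K₁)}) a
  let f : Polynomial K₁ := Polynomial.X ^ p - Polynomial.X - Polynomial.C η
  have hf : f.natDegree = p := by
    show (Polynomial.X ^ p - Polynomial.X - Polynomial.C η).natDegree = p
    rw [Polynomial.natDegree_sub_C, Polynomial.natDegree_sub_eq_left_of_natDegree_lt] <;>
      rw [Polynomial.natDegree_X_pow]
    rw [Polynomial.natDegree_X]; exact hp.one_lt
  obtain ⟨g, hg, hgf⟩ := Polynomial.exists_irreducible_of_natDegree_pos (f := f) (hf.symm ▸ hp.pos)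
  haveI : Fact (Irreducible g) := ⟨hg⟩
  refine ⟨AdjoinRoot g, inferInstance, inferInstance, AdjoinRoot.root g, ?_, ?_, fun h' => absurd h' h⟩
  · have h1 : Polynomial.aeval (AdjoinRoot.root g) f = 0 := by
      obtain ⟨k, hk⟩ := hgf
      rw [hk, map_mul, AdjoinRoot.aeval_eq, AdjoinRoot.mk_self, zero_mul]
    simpa [f, sub_eq_zero] using h1
  · rw [eq_top_iff]
    intro x _
    obtain ⟨h, rfl⟩ := AdjoinRoot.mk_surjective x
    rw [← AdjoinRoot.aeval_eq]
    exact IntermediateField.algebra_adjoin_le_adjoin K₁ _ (Polynomial.aeval_mem_adjoin_singleton _ _)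

/-- Composition of totally ramified extensions. -/
theorem totallyRamified_comp {A K₁ K₂ : Type u} [CommRing A] [IsLocalRing A] [Field K₁] [Field K₂]
    (g : A →+* K₁) (ι : K₁ →+* K₂) (h₁ : EtRam.IsTotallyRamified A g)
    (h₂ : ∀ V : ValuationSubring K₁, EtRam.Dominates A g V → EtRam.IsTotallyRamified V (ι.comp V.subtype)) :
    EtRam.IsTotallyRamified A (ι.comp g) := by
  have hsub : ∀ (W : ValuationSubring K₂) (_ : EtRam.Dominates A (ι.comp g) W),
      EtRam.Dominates A g (W.comap ι) ∧ EtRam.Dominates (W.comap ι) (ι.comp (W.comap ι).subtype) W := by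
    intro W hW
    refine ⟨dominates_comap_of W ι g _ rfl hW, fun a => a.2, fun a ha => ?_⟩
    exact (comap_valuation_lt_one W ι a).1 (((W.comap ι).valuation_lt_one_iff a).1 ha)
  refine ⟨exists_dominates _, fun W W' hW hW' => ?_, fun W hW => ?_⟩
  · obtain ⟨h3, h4⟩ := hsub W hW
    obtain ⟨h3', h4'⟩ := hsub W' hW'
    have e := h₁.2.1 _ _ h3 h3'
    have h5 : EtRam.Dominates (W.comap ι) (ι.comp (W.comap ι).subtype) W' := by rw [e]; exact h4'
    exact (h₂ _ h3).2.1 W W' h4 h5
  · obtain ⟨h3, h4⟩ := hsub W hW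
    intro r
    obtain ⟨v, hv⟩ := (h₂ _ h3).2.2 W h4 r
    obtain ⟨a, ha⟩ := h₁.2.2 _ h3 (residue _ v)
    refine ⟨a, ?_⟩
    rw [← hv]
    simp only [← sub_eq_zero (b := residue W _), ← sub_eq_zero (b := residue (W.comap ι) _), ← map_sub,
      residue_eq_zero_iff, ValuationSubring.valuation_lt_one_iff] at ha ⊢
    have h6 := (comap_valuation_lt_one W ι _).1 ha
    simp only [AddSubgroupClass.coe_sub, map_sub] at h6 ⊢
    exact h6

theorem main (p : ℕ) (hp : p.Prime) (A B C K L M : Type u)
    [CommRing A] [IsDomain A] [IsDiscreteValuationRing A] [CommRing B] [IsDomain B] [IsDiscreteValuationRing B]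
    [CommRing C] [IsDomain C] [IsDiscreteValuationRing C]
    [Algebra A B] [Algebra B C] [Algebra A C] [IsScalarTower A B C]
    [IsLocalHom (algebraMap A B)] [IsLocalHom (algebraMap B C)]
    [Field K] [Field L] [Field M] [Algebra A K] [IsFractionRing A K] [Algebra B L] [IsFractionRing B L]
    [Algebra C M] [IsFractionRing C M] [Algebra K L] [Algebra L M] [Algebra K M] [IsScalarTower K L M]
    [Algebra A L] [IsScalarTower A K L] [IsScalarTower A B L] [Algebra B M] [IsScalarTower B L M] [IsScalarTower B C M]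
    [Algebra A M] [IsScalarTower A K M] [IsScalarTower A C M]
    (hw : EtRam.IsWeaklyUnramified A B) [CharP K p] [IsGalois L M] (hdeg : Module.finrank L M = p)
    (hk : ∀ x : ResidueField B, (∀ n : ℕ, ∃ y : ResidueField B, y ^ (p ^ n) = x) ↔
      x ∈ Set.range (algebraMap (ResidueField A) (ResidueField B))) :
    ∃ (K₁ : Type u) (_ : Field K₁) (_ : Algebra K K₁), FiniteDimensional K K₁ ∧ Algebra.IsSeparable K K₁ ∧
      EtRam.IsTotallyRamified A ((algebraMap K K₁).comp (algebraMap A K)) ∧ EtRam.IsWeakSolution C K M K₁ := by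
  classical
  haveI : Fact p.Prime := ⟨hp⟩
  haveI : CharP L p := charP_of_injective_algebraMap (algebraMap K L).injective p
  haveI : CharP B p := RingHom.charP _ (IsFractionRing.injective B L) p
  obtain ⟨x, ξ, hx, hxgen⟩ := exists_as_generator hp L M hdeg
  obtain ⟨ϖ, hϖ⟩ := IsDiscreteValuationRing.exists_irreducible A
  have hϖA : maximalIdeal A = Ideal.span {ϖ} := (IsDiscreteValuationRing.irreducible_iff_uniformizer _).1 hϖ
  have hπB : maximalIdeal B = Ideal.span {algebraMap A B ϖ} := by
    rw [← hw, hϖA, Ideal.map_span, Set.image_singleton]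
  have hπi : Irreducible (algebraMap A B ϖ) := (IsDiscreteValuationRing.irreducible_iff_uniformizer _).2 hπB
  obtain ⟨a, n, hξ⟩ : ∃ (a : B) (n : ℕ), ξ = algebraMap B L a / algebraMap B L (algebraMap A B ϖ) ^ n := by
    obtain ⟨a, b, hb, rfl⟩ := IsFractionRing.div_surjective (A := B) ξ
    obtain ⟨n, u, rfl⟩ := IsDiscreteValuationRing.eq_unit_mul_pow_irreducible (nonZeroDivisors.ne_zero hb) hπi
    refine ⟨(↑u⁻¹ : B) * a, n, ?_⟩
    rw [map_mul, map_mul, map_pow, map_units_inv]
    field_simp
  obtain ⟨m, N, P, Q, cS, cT, hm, hS, hT, hNF⟩ := exists_normalForm hp hπB hk n a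
  obtain ⟨i, j, hij⟩ : ∃ i j : ℕ, cT ≠ 0 → p * j = Q * i + 1 := by
    rcases hT with h | ⟨hQ, hpQ, -⟩
    · exact ⟨0, 0, fun h' => absurd h h'⟩
    · obtain ⟨i, j, hij⟩ := exists_mul_eq_mul_add_one hp hQ hpQ
      exact ⟨i, j, fun _ => hij⟩
  have hq : 1 < p ^ m := Nat.one_lt_pow hm.ne' hp.one_lt
  -- the root extension
  obtain ⟨f, hfdef⟩ : ∃ f : Polynomial K, f = Polynomial.X ^ (p ^ m) +
      (Polynomial.C (algebraMap A K ϖ ^ (N + 2)) * Polynomial.X - Polynomial.C (algebraMap A K ϖ)) := ⟨_, rfl⟩
  have hlow : (Polynomial.C (algebraMap A K ϖ ^ (N + 2)) * Polynomial.X -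
      Polynomial.C (algebraMap A K ϖ)).degree < ((p ^ m : ℕ) : WithBot ℕ) :=
    lt_of_le_of_lt (Polynomial.degree_sub_le _ _) (max_lt
      (lt_of_le_of_lt (Polynomial.degree_C_mul_X_le _) (by exact_mod_cast hq))
      (lt_of_le_of_lt Polynomial.degree_C_le (by exact_mod_cast (show 0 < p ^ m by omega))))
  have hfdeg : f.natDegree = p ^ m := by
    rw [hfdef, Polynomial.natDegree_add_eq_left_of_degree_lt, Polynomial.natDegree_X_pow]
    rwa [Polynomial.degree_X_pow]
  have hirr : Irreducible f := by
    obtain ⟨g, hg, hgf⟩ := Polynomial.exists_irreducible_of_natDegree_pos (f := f) (by omega)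
    haveI : Fact (Irreducible g) := ⟨hg⟩
    have hz : Polynomial.aeval (AdjoinRoot.root g) f = 0 := by
      obtain ⟨k, hk⟩ := hgf
      rw [hk, map_mul, AdjoinRoot.aeval_eq, AdjoinRoot.mk_self, zero_mul]
    rw [hfdef] at hz
    simp only [map_add, map_sub, map_mul, map_pow, Polynomial.aeval_X, Polynomial.aeval_C,
      ← IsScalarTower.algebraMap_apply] at hz
    obtain ⟨-, hrk, -, -⟩ := root_structure (L := K) (z := AdjoinRoot.root g) (m := N) hq hϖA
      (by linear_combination hz) (by
        rw [eq_top_iff]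
        intro x _
        obtain ⟨h, rfl⟩ := AdjoinRoot.mk_surjective x
        rw [← AdjoinRoot.aeval_eq]
        exact IntermediateField.algebra_adjoin_le_adjoin K _ (Polynomial.aeval_mem_adjoin_singleton _ _))
    rw [(AdjoinRoot.powerBasis hg.ne_zero).finrank, AdjoinRoot.powerBasis_dim] at hrk
    have hne : f ≠ 0 := fun h => by rw [h, Polynomial.natDegree_zero] at hfdeg; omega
    exact (Polynomial.associated_of_dvd_of_natDegree_le hgf hne (by rw [hfdeg, hrk])).irreducible hg
  haveI : Fact (Irreducible f) := ⟨hirr⟩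
  let K₁ := AdjoinRoot f
  let s : K₁ := AdjoinRoot.root f
  haveI : FiniteDimensional K K₁ := (AdjoinRoot.powerBasis hirr.ne_zero).finite
  haveI : CharP K₁ p := charP_of_injective_algebraMap (algebraMap K K₁).injective p
  have hs : s ^ (p ^ m) + algebraMap A K₁ ϖ ^ (N + 2) * s = algebraMap A K₁ ϖ := by
    have h₀ : Polynomial.aeval s f = 0 := by rw [AdjoinRoot.aeval_eq, AdjoinRoot.mk_self]
    have h := (congrArg (Polynomial.aeval s) hfdef).symm.trans h₀
    simp only [map_add, map_sub, map_mul, map_pow, Polynomial.aeval_X, Polynomial.aeval_C,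
      ← IsScalarTower.algebraMap_apply] at h
    linear_combination h
  have hsgen : IntermediateField.adjoin K {s} = ⊤ := by
    rw [eq_top_iff]
    intro x _
    obtain ⟨h, rfl⟩ := AdjoinRoot.mk_surjective x
    rw [← AdjoinRoot.aeval_eq]
    exact IntermediateField.algebra_adjoin_le_adjoin K _ (Polynomial.aeval_mem_adjoin_singleton _ _)
  obtain ⟨-, -, htot₁, hstr⟩ := root_structure (L := K) hq hϖA hs hsgen
  have hsep₁ : Algebra.IsSeparable K K₁ := by
    have hsep : f.Separable := by
      refine (Polynomial.separable_iff_derivative_ne_zero hirr).2 fun h0 => ?_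
      rw [hfdef] at h0
      rw [Polynomial.derivative_add, Polynomial.derivative_sub, Polynomial.derivative_X_pow,
        Polynomial.derivative_C_mul_X, Polynomial.derivative_C, Nat.cast_pow, CharP.cast_eq_zero K p,
        zero_pow hm.ne', Polynomial.C_0, zero_mul, zero_add, sub_zero, Polynomial.C_eq_zero] at h0
      exact hϖ.ne_zero (IsFractionRing.injective A K ((pow_eq_zero_iff (by omega)).1 h0 |>.trans (map_zero _).symm))
    haveI : Algebra.IsSeparable K (IntermediateField.adjoin K {s}) :=
      (IntermediateField.isSeparable_adjoin_simple_iff_isSeparable K _).2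
        (hsep.of_dvd (minpoly.dvd K _ (by rw [AdjoinRoot.aeval_eq, AdjoinRoot.mk_self])))
    exact AlgEquiv.Algebra.isSeparable ((IntermediateField.equivOfEq hsgen).trans IntermediateField.topEquiv)
  haveI := hsep₁
  obtain ⟨η, hη⟩ : ∃ η : K₁, η = Polynomial.aeval s cT / s ^ Q := ⟨_, rfl⟩
  obtain ⟨K₂, _, _, z, hz, hzgen, hz0⟩ := exists_as_root hp K₁ η
  have hcomp : ∀ V : ValuationSubring K₁, EtRam.Dominates A (algebraMap A K₁) V →
      FiniteDimensional K₁ K₂ ∧ Algebra.IsSeparable K₁ K₂ ∧
        EtRam.IsTotallyRamified V ((algebraMap K₁ K₂).comp V.subtype) := by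
    intro V hV
    haveI : IsDiscreteValuationRing V := (isDVR_of_dominates_finite V
      (show EtRam.Dominates A ((algebraMap K K₁).comp (algebraMap A K)) V by
        rw [← IsScalarTower.algebraMap_eq]; exact hV)).1
    letI : Algebra V K₂ := ((algebraMap K₁ K₂).comp V.subtype).toAlgebra
    haveI : IsScalarTower V K₁ K₂ := IsScalarTower.of_algebraMap_eq fun _ => rfl
    obtain ⟨hfd, -, hsep, -⟩ := as_finite (A := V) hp hz hzgen
    refine ⟨hfd, hsep, ?_⟩
    rcases hT with hcT | ⟨hQ, hpQ, hu⟩
    · have hη0 : η = 0 := by rw [hη, hcT, map_zero, zero_div]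
      have hzero := hz0 hη0
      have hsurj : ∀ e : K₂, ∃ e', algebraMap K₁ K₂ e' = e := fun e => by
        have he : e ∈ IntermediateField.adjoin K₁ {z} := hzgen ▸ IntermediateField.mem_top
        rw [hzero, IntermediateField.adjoin_simple_eq_bot_iff.2 (zero_mem _)] at he
        exact IntermediateField.mem_bot.1 he
      have hmem : ∀ (U : ValuationSubring K₂), EtRam.Dominates V (algebraMap V K₂) U →
          ∀ e', algebraMap K₁ K₂ e' ∈ U → e' ∈ V := by
        intro U hU e' he'
        by_contra hne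
        have h1 : e'⁻¹ ∈ V := (V.mem_or_inv_mem e').resolve_left hne
        have h2 : (⟨e'⁻¹, h1⟩ : V) ∈ maximalIdeal V := (mem_maximalIdeal _).2 fun hu' => by
          obtain ⟨u, hu'⟩ := hu'
          have h3 : (u : K₁) * ((↑u⁻¹ : V) : K₁) = 1 := congrArg Subtype.val u.mul_inv
          rw [hu'] at h3
          exact hne ((eq_inv_of_mul_eq_one_right h3).trans (inv_inv e') ▸ (↑u⁻¹ : V).2)
        have h3 : U.valuation (algebraMap K₁ K₂ e'⁻¹) < 1 := hU.2 _ h2
        have h4 := (U.valuation_le_one_iff _).2 he'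
        rcases eq_or_ne e' 0 with rfl | h5
        · exact hne V.zero_mem
        rw [map_inv₀, map_inv₀] at h3
        exact not_le.2 h3 ((one_le_inv₀ (zero_lt_iff.2 (by rw [Ne, map_eq_zero, map_eq_zero]; exact h5))).2 h4)
      refine ⟨exists_dominates _, fun U U' hU hU' => ?_, fun U hU r => ?_⟩
      · have : ∀ U U' : ValuationSubring K₂, EtRam.Dominates V (algebraMap V K₂) U →
            EtRam.Dominates V (algebraMap V K₂) U' → U ≤ U' := fun U U' hU hU' e he => by
          obtain ⟨e', rfl⟩ := hsurj e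
          exact hU'.1 ⟨e', hmem U hU e' he⟩
        exact le_antisymm (this U U' hU hU') (this U' U hU' hU)
      · obtain ⟨e, rfl⟩ := residue_surjective r
        obtain ⟨e', he'⟩ := hsurj e
        refine ⟨⟨e', hmem U hU e' (he' ▸ e.2)⟩, congrArg (residue U) (Subtype.ext he')⟩
    obtain ⟨hdec, hlt⟩ := hstr V hV
    have hs1 : V.valuation s < 1 := (root_facts hq hϖA hs V hV).1
    have hsV : s ∈ V := (V.valuation_le_one_iff _).1 hs1.le
    have hmax : maximalIdeal V = Ideal.span {(⟨s, hsV⟩ : V)} := by
      refine le_antisymm (fun x hx => ?_) ((Ideal.span_singleton_le_iff_mem _).2 ((V.valuation_lt_one_iff _).2 hs1))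
      obtain ⟨w, hw', hxe⟩ := hlt x ((V.valuation_lt_one_iff x).1 hx)
      exact Ideal.mem_span_singleton'.2 ⟨⟨w, hw'⟩, Subtype.ext (by rw [hxe]; exact mul_comm w s)⟩
    obtain ⟨w', hw'', he, hmem⟩ := aeval_mem_and_sub V hV.1 hsV cT
    have hunit : IsUnit (⟨_, hmem⟩ : V) := IsLocalRing.notMem_maximalIdeal.1 fun hm' => by
      have h1 : V.valuation (Polynomial.aeval s cT) < 1 := (V.valuation_lt_one_iff _).1 hm'
      have h2 : V.valuation (s * w') < V.valuation (algebraMap A K₁ (cT.coeff 0)) := by
        rw [valuation_unit hV hu, map_mul]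
        exact mul_lt_one_of_lt_of_le hs1 ((V.valuation_le_one_iff _).2 hw'')
      rw [he, V.valuation.map_add_eq_of_lt_left h2, valuation_unit hV hu] at h1
      exact lt_irrefl _ h1
    have hne : s ≠ 0 := fun h0 => hϖ.ne_zero (algebraMap_injective' (A := A) (L := K₁) K (by
      rw [h0, zero_pow (by omega), zero_add, mul_zero] at hs; rw [map_zero]; exact hs.symm))
    exact (as_step_ramified (A := V) hp hmax hz hzgen hQ hpQ hunit
      (show η * s ^ Q = Polynomial.aeval s cT by rw [hη, div_mul_cancel₀ _ (pow_ne_zero _ hne)])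
      (hij fun h => not_isUnit_zero (show IsUnit (0 : A) by rw [h] at hu; simpa using hu))).1
  obtain ⟨V₁, hV₁⟩ := htot₁.1
  obtain ⟨hfd₂, hsep₂, -⟩ := hcomp V₁ hV₁
  haveI := hfd₂; haveI := hsep₂
  letI : Algebra K K₂ := ((algebraMap K₁ K₂).comp (algebraMap K K₁)).toAlgebra
  haveI : IsScalarTower K K₁ K₂ := IsScalarTower.of_algebraMap_eq fun _ => rfl
  refine ⟨K₂, inferInstance, inferInstance, FiniteDimensional.trans K K₁ K₂, Algebra.IsSeparable.trans K K₁ K₂,
    ?_, ?_⟩
  · rw [show (algebraMap K K₂).comp (algebraMap A K) = (algebraMap K₁ K₂).comp (algebraMap A K₁) from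
      RingHom.ext fun a => congrArg (algebraMap K₁ K₂) (IsScalarTower.algebraMap_apply A K K₁ a).symm]
    exact totallyRamified_comp _ _ htot₁ fun V hV => (hcomp V hV).2.2
  intro F _ _ _ _ _ _ hgen W hW
  letI : Algebra L F := ((algebraMap M F).comp (algebraMap L M)).toAlgebra
  haveI : IsScalarTower L M F := IsScalarTower.of_algebraMap_eq fun _ => rfl
  letI : Algebra B F := ((algebraMap M F).comp (algebraMap B M)).toAlgebra
  haveI : IsScalarTower B L F := IsScalarTower.of_algebraMap_eq fun b => by
    show algebraMap M F (algebraMap B M b) = algebraMap M F (algebraMap L M (algebraMap B L b))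
    rw [← IsScalarTower.algebraMap_apply B L M]
  have hWB : EtRam.Dominates B (algebraMap B F) W := by
    have h := dominates_of_localHom (B := B) ((algebraMap M F).comp (algebraMap C M)) W hW
    rwa [RingHom.comp_assoc, ← IsScalarTower.algebraMap_eq B C M] at h
  haveI : IsScalarTower K L F := IsScalarTower.of_algebraMap_eq fun k => by
    show _ = algebraMap M F (algebraMap L M (algebraMap K L k))
    rw [← IsScalarTower.algebraMap_apply K L M, ← IsScalarTower.algebraMap_apply K M F]
  letI : Algebra K₁ F := ((algebraMap K₂ F).comp (algebraMap K₁ K₂)).toAlgebra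
  haveI : IsScalarTower K₁ K₂ F := IsScalarTower.of_algebraMap_eq fun _ => rfl
  haveI : IsScalarTower K K₁ F := IsScalarTower.of_algebraMap_eq fun k => by
    show _ = algebraMap K₂ F (algebraMap K₁ K₂ (algebraMap K K₁ k))
    rw [← IsScalarTower.algebraMap_apply K K₁ K₂, ← IsScalarTower.algebraMap_apply K K₂ F]
  have hAF : ∀ a : A, algebraMap K₁ F (algebraMap A K₁ a) = algebraMap B F (algebraMap A B a) := fun a => by
    rw [IsScalarTower.algebraMap_apply A K K₁, ← IsScalarTower.algebraMap_apply K K₁ F,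
      IsScalarTower.algebraMap_apply B L F, ← IsScalarTower.algebraMap_apply A B L,
      IsScalarTower.algebraMap_apply A K L, ← IsScalarTower.algebraMap_apply K L F]
  let S : F := algebraMap K₁ F s
  let Z : F := algebraMap K₂ F z
  let X : F := algebraMap M F x
  have hS' : S ^ (p ^ m) + algebraMap B F (algebraMap A B ϖ) ^ (N + 2) * S = algebraMap B F (algebraMap A B ϖ) := by
    rw [← hAF, ← map_pow, ← map_pow, ← map_mul, ← map_add, hs]
  have hZ : Z ^ p - Z = Polynomial.aeval S (cT.map (algebraMap A B)) / S ^ Q := by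
    rw [← map_pow, ← map_sub, hz, ← IsScalarTower.algebraMap_apply, hη, map_div₀, map_pow]
    congr 1
    rw [Polynomial.aeval_def, Polynomial.aeval_def, Polynomial.hom_eval₂, Polynomial.eval₂_map]
    congr 1
    exact RingHom.ext hAF
  have hX : X ^ p - X = algebraMap B F a / algebraMap B F (algebraMap A B ϖ) ^ n := by
    rw [← map_pow, ← map_sub, hx, ← IsScalarTower.algebraMap_apply L M F, hξ, map_div₀, map_pow,
      ← IsScalarTower.algebraMap_apply, ← IsScalarTower.algebraMap_apply]
  have hgenF : IntermediateField.adjoin L {S, Z, X} = ⊤ := by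
    rw [eq_top_iff]
    rintro e -
    have he : e ∈ Algebra.adjoin M (Set.range (algebraMap K₂ F)) := hgen ▸ Algebra.mem_top
    have hK₁ : ∀ e : K₁, algebraMap K₁ F e ∈ IntermediateField.adjoin L {S, Z, X} := fun e => by
      have h : IntermediateField.adjoin K {s} ≤
          ((IntermediateField.adjoin L {S, Z, X}).restrictScalars K).comap (IsScalarTower.toAlgHom K K₁ F) := by
        rw [IntermediateField.adjoin_simple_le_iff]
        exact IntermediateField.subset_adjoin L _ (Or.inl rfl)
      exact h (hsgen ▸ IntermediateField.mem_top)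
    have hK₂ : ∀ e : K₂, algebraMap K₂ F e ∈ IntermediateField.adjoin L {S, Z, X} := fun e => by
      have h1 : e ∈ IntermediateField.adjoin K₁ {z} := hzgen ▸ IntermediateField.mem_top
      induction h1 using IntermediateField.adjoin_induction with
      | mem y hy =>
        rw [Set.mem_singleton_iff.1 hy]
        exact IntermediateField.subset_adjoin L _ (Or.inr (Or.inl rfl))
      | algebraMap y => rw [← IsScalarTower.algebraMap_apply]; exact hK₁ y
      | add _ _ _ _ h h' => rw [map_add]; exact add_mem h h'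
      | inv _ _ h => rw [map_inv₀]; exact inv_mem h
      | mul _ _ _ _ h h' => rw [map_mul]; exact mul_mem h h'
    have hM : ∀ e : M, algebraMap M F e ∈ IntermediateField.adjoin L {S, Z, X} := fun e => by
      have h : IntermediateField.adjoin L {x} ≤
          (IntermediateField.adjoin L {S, Z, X}).comap (IsScalarTower.toAlgHom L M F) := by
        rw [IntermediateField.adjoin_simple_le_iff]
        exact IntermediateField.subset_adjoin L _ (Or.inr (Or.inr rfl))
      exact h (hxgen ▸ IntermediateField.mem_top)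
    induction he using Algebra.adjoin_induction with
    | mem y hy => obtain ⟨y', rfl⟩ := hy; exact hK₂ y'
    | algebraMap y => exact hM y
    | add _ _ _ _ h h' => exact add_mem h h'
    | mul _ _ _ _ h h' => exact mul_mem h h'
  obtain ⟨h0, h1⟩ := as_local (A := A) (L := L) hp hπB hm hS hT hNF hS' hZ hX hgenF hij
    (fun hc => by
      have hz' : z = 0 := hz0 (by rw [hη, hc, map_zero, zero_div])
      show algebraMap K₂ F z ∈ _
      rw [hz', map_zero]; exact zero_mem _) W hWB
  by_cases hc : cT = 0
  · exact weaklyUnramified_of_gen W _ (algebraMap K₁ K₂ s)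
      ((IsScalarTower.algebraMap_apply K₁ K₂ F s) ▸ (h0 hc).1) fun e he =>
        (IsScalarTower.algebraMap_apply K₁ K₂ F s) ▸ (h0 hc).2 e he
  · have he : algebraMap K₂ F (z ^ i * algebraMap K₁ K₂ s ^ j) = Z ^ i * S ^ j := by
      rw [map_mul, map_pow, map_pow, ← IsScalarTower.algebraMap_apply]
    exact weaklyUnramified_of_gen W _ (z ^ i * algebraMap K₁ K₂ s ^ j) (he ▸ (h1 hc).1) (he ▸ (h1 hc).2)

end

/-- Let A → B → C be injective local homomorphisms of discrete valuation rings whose fields of fractions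
are K ⊆ L ⊆ M, where A → B is weakly unramified, K has characteristic p, M/L is Galois of degree p,
and κ_A, inside κ_B, is exactly the set of elements admitting a pⁿ-th root for every n. Then some
finite separable extension K₁/K that is totally ramified with respect to A is a weak solution for A
→ C. (The published statement asks for K₁/K Galois; this row asks only that K₁/K be separable, which
is what the printed construction provides.) -/
theorem result (p : ℕ) (hp : p.Prime) (A B C K L M : Type u)
    [CommRing A] [IsDomain A] [IsDiscreteValuationRing A] [CommRing B] [IsDomain B] [IsDiscreteValuationRing B]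
    [CommRing C] [IsDomain C] [IsDiscreteValuationRing C]
    [Algebra A B] [Algebra B C] [Algebra A C] [IsScalarTower A B C]
    (hAB : Function.Injective (algebraMap A B)) (hBC : Function.Injective (algebraMap B C))
    [IsLocalHom (algebraMap A B)] [IsLocalHom (algebraMap B C)]
    [Field K] [Field L] [Field M] [Algebra A K] [IsFractionRing A K] [Algebra B L] [IsFractionRing B L]
    [Algebra C M] [IsFractionRing C M] [Algebra K L] [Algebra L M] [Algebra K M] [IsScalarTower K L M]
    [Algebra A L] [IsScalarTower A K L] [IsScalarTower A B L] [Algebra B M] [IsScalarTower B L M] [IsScalarTower B C M]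
    [Algebra A M] [IsScalarTower A K M] [IsScalarTower A C M]
    (hw : EtRam.IsWeaklyUnramified A B) [CharP K p] [IsGalois L M] (hdeg : Module.finrank L M = p)
    (hk : ∀ x : IsLocalRing.ResidueField B, (∀ n : ℕ, ∃ y : IsLocalRing.ResidueField B, y ^ (p ^ n) = x) ↔
      x ∈ Set.range (algebraMap (IsLocalRing.ResidueField A) (IsLocalRing.ResidueField B))) :
    ∃ (K₁ : Type u) (_ : Field K₁) (_ : Algebra K K₁), FiniteDimensional K K₁ ∧ Algebra.IsSeparable K K₁ ∧
      EtRam.IsTotallyRamified A ((algebraMap K K₁).comp (algebraMap A K)) ∧ EtRam.IsWeakSolution C K M K₁ := by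
  exact Groth.Agent.S7155.main p hp A B C K L M hw hdeg hk

end Groth.Agent.S7155
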