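import Groth.Statements.S7156
import Groth.Agent.H1Ram.Trichotomy

set_option autoImplicit false
universe u
open EtAlg

namespace Groth.Agent.S7156

section
open IsLocalRing Polynomial TensorProduct
open Groth.Agent.H1Ram

theorem isField_tensor (K L : Type u) [Field K] [Field L] [Algebra K L] (f : K[X]) (hf : f.Monic)
    (hirr : Irreducible (f.map (algebraMap K L))) : IsField (L ⊗[K] AdjoinRoot f) := by
  haveI : Fact (Irreducible (f.map (algebraMap K L))) := ⟨hirr⟩
  let g : AdjoinRoot f →ₐ[K] AdjoinRoot (f.map (algebraMap K L)) :=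
    AdjoinRoot.liftAlgHom f (Algebra.ofId K _) (AdjoinRoot.root _) (by
        have h := AdjoinRoot.eval₂_root (f.map (algebraMap K L))
        rw [eval₂_map] at h
        exact h)
  let φ : L ⊗[K] AdjoinRoot f →ₐ[L] AdjoinRoot (f.map (algebraMap K L)) :=
    Algebra.TensorProduct.lift (Algebra.ofId L _) g fun _ _ => mul_comm _ _
  have hφ : ∀ a x, φ (a ⊗ₜ x) = AdjoinRoot.of _ a * g x := fun a x =>
    Algebra.TensorProduct.lift_tmul _ _ _ a x
  have hroot : g (AdjoinRoot.root f) = AdjoinRoot.root _ := by simp [g]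
  have hsurj : Function.Surjective φ := by
    intro x
    obtain ⟨P, rfl⟩ := AdjoinRoot.mk_surjective x
    induction P using Polynomial.induction_on with
    | C a => exact ⟨a ⊗ₜ 1, by rw [hφ, map_one, mul_one, AdjoinRoot.mk_C]⟩
    | add g h hg hh =>
      obtain ⟨a, ha⟩ := hg; obtain ⟨b, hb⟩ := hh
      exact ⟨a + b, by rw [map_add, map_add, ha, hb]⟩
    | monomial n a ih =>
      obtain ⟨b, hb⟩ := ih
      refine ⟨b * (1 ⊗ₜ AdjoinRoot.root f), ?_⟩
      rw [map_mul, hb, pow_succ, ← mul_assoc (C a), map_mul (AdjoinRoot.mk _) (C a * X ^ n), AdjoinRoot.mk_X]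
      congr 1
      rw [hφ, map_one, one_mul, hroot]
  haveI := (AdjoinRoot.powerBasis' hf).finite
  have hn : Module.finrank L (L ⊗[K] AdjoinRoot f) = Module.finrank L (AdjoinRoot (f.map (algebraMap K L))) := by
    rw [Module.finrank_baseChange, (AdjoinRoot.powerBasis' hf).finrank, AdjoinRoot.powerBasis'_dim,
      (AdjoinRoot.powerBasis' (hf.map _)).finrank, AdjoinRoot.powerBasis'_dim, hf.natDegree_map]
  haveI : FiniteDimensional L (AdjoinRoot (f.map (algebraMap K L))) :=
    (AdjoinRoot.powerBasis hirr.ne_zero).finite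
  have hinj : Function.Injective φ.toLinearMap :=
    (LinearMap.injective_iff_surjective_of_finrank_eq_finrank hn).2 hsurj
  exact MulEquiv.isField (Field.toIsField _) (RingEquiv.ofBijective φ ⟨hinj, hsurj⟩).toMulEquiv

theorem adjoin_root_eq_top {K L F : Type u} [Field K] [Field L] [Field F] [Algebra K L] [Algebra K F] [Algebra L F]
    [IsScalarTower K L F] (f : K[X]) [Fact (Irreducible f)] [Algebra (AdjoinRoot f) F]
    [IsScalarTower K (AdjoinRoot f) F]
    (h : Algebra.adjoin L (Set.range (algebraMap (AdjoinRoot f) F)) = ⊤) :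
    IntermediateField.adjoin L {algebraMap (AdjoinRoot f) F (AdjoinRoot.root f)} = ⊤ := by
  rw [eq_top_iff]
  intro x _
  have hx : x ∈ Algebra.adjoin L (Set.range (algebraMap (AdjoinRoot f) F)) := h ▸ Algebra.mem_top
  refine Algebra.adjoin_le (S := (IntermediateField.adjoin L _).toSubalgebra) ?_ hx
  rintro _ ⟨g, rfl⟩
  obtain ⟨g, rfl⟩ := AdjoinRoot.mk_surjective g
  rw [← AdjoinRoot.aeval_eq, ← aeval_algebraMap_apply, ← aeval_map_algebraMap L]
  exact Polynomial.aeval_mem_adjoin_singleton _ _ |> fun h =>
    IntermediateField.algebra_adjoin_le_adjoin L _ h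

variable {B C L M : Type u} [CommRing B] [IsDomain B] [IsDiscreteValuationRing B] [Field L] [Algebra B L]
  [IsFractionRing B L] [Field M] [Algebra L M] [Algebra B M] [IsScalarTower B L M]

theorem mPart {p m : ℕ} (hp : p.Prime) [CharP L p] {π : B} (hπ : maximalIdeal B = Ideal.span {π})
    (hLM : Module.finrank L M = p) {q : M} {t r : B} {b : Fin p → B} (hq : q ^ p = algebraMap B M t)
    (hqgen : IntermediateField.adjoin L {q} = ⊤) (hbr : t = ∑ i, b i ^ p * π ^ (i : ℕ) + π ^ m * r)
    (hr : ∀ r' : B, residue B r ≠ residue B r' ^ p)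
    (F : Type u) [Field F] [Algebra L F] [Algebra M F] [Algebra B F] [IsScalarTower L M F] [IsScalarTower B L F]
    {Z : F} (hZ : Z ^ p + algebraMap B F π ^ (m + 2) * Z = algebraMap B F π)
    (hgen : IntermediateField.adjoin M {Z} = ⊤) :
    Module.finrank M F = p ∧ ∀ W : ValuationSubring F, EtRam.Dominates B (algebraMap B F) W →
      W.valuation Z < 1 ∧ ∀ x, W.valuation x < 1 → ∃ w ∈ W, x = Z * w := by
  let L₁ := IntermediateField.adjoin L ({Z} : Set F)
  let z : L₁ := ⟨Z, IntermediateField.mem_adjoin_simple_self L Z⟩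
  haveI : IsScalarTower B L L₁ := IsScalarTower.of_algebraMap_eq fun x =>
    Subtype.ext (IsScalarTower.algebraMap_apply B L F x)
  haveI : IsScalarTower B L₁ F := IsScalarTower.of_algebraMap_eq fun _ => rfl
  haveI : IsScalarTower B M F := IsScalarTower.of_algebraMap_eq fun x => by
    rw [IsScalarTower.algebraMap_apply B L F, IsScalarTower.algebraMap_apply B L M,
      ← IsScalarTower.algebraMap_apply L M F]
  have hz : z ^ p + algebraMap B L₁ π ^ (m + 2) * z = algebraMap B L₁ π := Subtype.ext hZ
  have hzgen : IntermediateField.adjoin L {z} = ⊤ := by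
    refine IntermediateField.map_injective L₁.val ?_
    rw [IntermediateField.adjoin_map, Set.image_singleton, ← AlgHom.fieldRange_eq_map,
      IntermediateField.fieldRange_val]
    rfl
  have hqgen' : IntermediateField.adjoin L₁ {algebraMap M F q} = ⊤ := by
    rw [eq_top_iff]
    rintro x -
    have hM : ∀ y : M, algebraMap M F y ∈ IntermediateField.adjoin L₁ {algebraMap M F q} := by
      intro y
      have hy : y ∈ IntermediateField.adjoin L {q} := hqgen ▸ IntermediateField.mem_top
      have : (IntermediateField.adjoin L {q}) ≤ ((IntermediateField.adjoin L₁ {algebraMap M F q}).restrictScalars L).comap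
          (IsScalarTower.toAlgHom L M F) := by
        rw [IntermediateField.adjoin_simple_le_iff]
        exact IntermediateField.mem_adjoin_simple_self L₁ _
      exact this hy
    have hx : x ∈ IntermediateField.adjoin M {Z} := hgen ▸ IntermediateField.mem_top
    induction hx using IntermediateField.adjoin_induction with
    | mem y hy =>
      rw [Set.mem_singleton_iff.1 hy]
      exact IntermediateField.algebraMap_mem (IntermediateField.adjoin L₁ {algebraMap M F q}) z
    | algebraMap y => exact hM y
    | add _ _ _ _ h h' => exact add_mem h h'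
    | inv _ _ h => exact inv_mem h
    | mul _ _ _ _ h h' => exact mul_mem h h'
  have step := fun W hW => inseparable_step (L₁ := L₁) hp hπ hz hzgen (q := algebraMap M F q) (t := t)
    (by rw [← map_pow, hq, ← IsScalarTower.algebraMap_apply]) hqgen' hbr hr W hW
  refine ⟨?_, fun W hW => (step W hW).2⟩
  obtain ⟨W, hW⟩ := exists_dominates (algebraMap B F)
  obtain ⟨-, hrk, -, -⟩ := root_structure hp.one_lt hπ hz hzgen
  have h1 := Module.finrank_mul_finrank L L₁ F
  have h2 := Module.finrank_mul_finrank L M F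
  rw [hrk, (step W hW).1] at h1
  rw [hLM, ← h1] at h2
  exact Nat.eq_of_mul_eq_mul_left hp.pos h2

theorem irreducible_of_root_fields {F : Type u} [Field F] (f : F[X]) {p : ℕ} (hdeg : f.natDegree = p) (hp : 0 < p)
    (h : ∀ g : F[X], Irreducible g → g ∣ f → g.natDegree = p) : Irreducible f := by
  have hne : f ≠ 0 := fun h => by simp [h] at hdeg; omega
  obtain ⟨g, hg, hgf⟩ := exists_irreducible_of_natDegree_pos (f := f) (by omega)
  exact (associated_of_dvd_of_natDegree_le hgf hne (by rw [hdeg, h g hg hgf])).irreducible hg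

theorem main (p : ℕ) (hp : p.Prime) (A B C K L M : Type u)
    [CommRing A] [IsDomain A] [IsDiscreteValuationRing A] [CommRing B] [IsDomain B] [IsDiscreteValuationRing B]
    [CommRing C] [IsDomain C] [IsDiscreteValuationRing C]
    [Algebra A B] [Algebra B C] [Algebra A C] [IsScalarTower A B C]
    (hAB : Function.Injective (algebraMap A B))
    [IsLocalHom (algebraMap A B)] [IsLocalHom (algebraMap B C)]
    [Field K] [Field L] [Field M] [Algebra A K] [IsFractionRing A K] [Algebra B L] [IsFractionRing B L]
    [Algebra C M] [IsFractionRing C M] [Algebra K L] [Algebra L M] [Algebra K M] [IsScalarTower K L M]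
    [Algebra A L] [IsScalarTower A K L] [IsScalarTower A B L] [Algebra B M] [IsScalarTower B L M] [IsScalarTower B C M]
    [Algebra A M] [IsScalarTower A K M] [IsScalarTower A C M]
    (π : A) (hπ : maximalIdeal A = Ideal.span {π}) (hB : CAlg.IsNagata B)
    (hw : EtRam.IsWeaklyUnramified A B) [IsPurelyInseparable L M] (hdeg : Module.finrank L M = p) :
    EtRam.IsWeaklyUnramified A C ∨
      (∃ c : C, c ^ p = algebraMap A C π ∧ Algebra.adjoin B {c} = ⊤) ∨
      ∃ (K₁ : Type u) (_ : Field K₁) (_ : Algebra K K₁),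
        Module.finrank K K₁ = p ∧ Algebra.IsSeparable K K₁ ∧
          EtRam.IsTotallyRamified A ((algebraMap K K₁).comp (algebraMap A K)) ∧
          IsField (L ⊗[K] K₁) ∧ IsField (M ⊗[K] K₁) ∧
          EtRam.IsWeakSolution B K L K₁ ∧ EtRam.IsWeakSolution C K M K₁ := by
  classical
  refine or_iff_not_imp_left.2 fun hwC => ?_
  haveI : Fact p.Prime := ⟨hp⟩
  haveI : FiniteDimensional L M := Module.finite_of_finrank_pos (hdeg.symm ▸ hp.pos)
  -- the characteristic
  obtain ⟨q₀, hq₀⟩ := ExpChar.exists L
  haveI := hq₀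
  obtain ⟨n₀, hn₀⟩ := IsPurelyInseparable.finrank_eq_pow L M q₀
  rw [hdeg] at hn₀
  have hq₀p : q₀ = p := by
    rcases hq₀ with _ | ⟨hq⟩
    · exact absurd (hn₀.trans (one_pow _)) hp.one_lt.ne'
    · have h1 : q₀ ∣ p := hn₀ ▸ dvd_pow_self q₀ (fun h => by rw [h, pow_zero] at hn₀; exact hp.one_lt.ne' hn₀)
      exact (Nat.prime_dvd_prime_iff_eq hq hp).1 h1
  subst hq₀p
  haveI : CharP L q₀ := by
    rcases hq₀ with _ | ⟨hq⟩
    · exact absurd hp Nat.not_prime_one
    · assumption
  haveI : CharP K q₀ := ((algebraMap K L).charP_iff (algebraMap K L).injective q₀).2 ‹_›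
  haveI : CharP M q₀ := charP_of_injective_algebraMap (algebraMap L M).injective q₀
  -- uniformizers
  have hπB : maximalIdeal B = Ideal.span {algebraMap A B π} := by
    rw [← hw, hπ, Ideal.map_span, Set.image_singleton]
  have hπi : Irreducible (algebraMap A B π) := (IsDiscreteValuationRing.irreducible_iff_uniformizer _).2 hπB
  obtain ⟨c₀, hc₀⟩ := IsDiscreteValuationRing.exists_irreducible C
  have hinjCM : Function.Injective (algebraMap C M) := IsFractionRing.injective C M
  have hinjBC : Function.Injective (algebraMap B C) := fun a b h => by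
    have h' := congrArg (algebraMap C M) h
    rw [← IsScalarTower.algebraMap_apply, ← IsScalarTower.algebraMap_apply] at h'
    exact algebraMap_injective' L h'
  obtain ⟨k₀, l, hkl⟩ : ∃ (k : ℕ) (l : L), k ≤ 1 ∧ algebraMap L M l = algebraMap C M c₀ ^ q₀ ^ k := by
    obtain ⟨k, y, hy⟩ := IsPurelyInseparable.minpoly_eq_X_pow_sub_C L q₀ (algebraMap C M c₀)
    refine ⟨k, y, ?_, ?_⟩
    · have h := minpoly.natDegree_le (A := L) (algebraMap C M c₀)
      rw [hy, natDegree_X_pow_sub_C, hdeg] at h
      by_contra hk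
      exact absurd (lt_of_lt_of_le (by simpa using Nat.pow_lt_pow_right hp.one_lt (not_le.1 hk)) h) (lt_irrefl _)
    · have h := minpoly.aeval L (algebraMap C M c₀)
      rw [hy, map_sub, map_pow, aeval_X, aeval_C, sub_eq_zero] at h
      exact h.symm
  obtain ⟨hk1, hl⟩ := hkl
  obtain ⟨t, ht⟩ : ∃ t : B, algebraMap B C t = c₀ ^ q₀ := by
    have hmem : ∃ l' : L, algebraMap L M l' = algebraMap C M (c₀ ^ q₀) := by
      interval_cases k₀
      · exact ⟨l ^ q₀, by rw [map_pow, hl, map_pow, pow_zero, pow_one]⟩
      · exact ⟨l, by rw [hl, map_pow, pow_one]⟩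
    obtain ⟨l', hl'⟩ := hmem
    rcases ValuationRing.isInteger_or_isInteger B l' with ⟨a, ha⟩ | ⟨a, ha⟩
    · refine ⟨a, hinjCM ?_⟩
      rw [← IsScalarTower.algebraMap_apply, IsScalarTower.algebraMap_apply B L M, ha, hl']
    · refine absurd ?_ hc₀.not_isUnit
      have hl0 : l' ≠ 0 := fun h0 => pow_ne_zero q₀ hc₀.ne_zero (hinjCM (by rw [← hl', h0, map_zero, map_zero]))
      have h1 : algebraMap B C a * c₀ ^ q₀ = 1 := hinjCM (by
        rw [map_mul, ← IsScalarTower.algebraMap_apply, IsScalarTower.algebraMap_apply B L M, ha, ← hl', ← map_mul,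
          inv_mul_cancel₀ hl0, map_one, map_one])
      exact (isUnit_pow_iff hp.ne_zero).1 (IsUnit.of_mul_eq_one_right _ h1)
  have ht0 : t ≠ 0 := fun h => pow_ne_zero q₀ hc₀.ne_zero (by rw [← ht, h, map_zero])
  obtain ⟨k, u, hu⟩ := IsDiscreteValuationRing.eq_unit_mul_pow_irreducible ht0 hπi
  have hπC0 : algebraMap A C π ≠ 0 := by
    rw [IsScalarTower.algebraMap_apply A B C]
    exact fun h => hπi.ne_zero (hinjBC (h.trans (map_zero _).symm))
  obtain ⟨e, v, hv⟩ := IsDiscreteValuationRing.eq_unit_mul_pow_irreducible hπC0 hc₀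
  have hmC : maximalIdeal C = Ideal.span {c₀} := (IsDiscreteValuationRing.irreducible_iff_uniformizer _).1 hc₀
  have he0 : e ≠ 0 := fun h => by
    rw [h, pow_zero, mul_one, IsScalarTower.algebraMap_apply A B C] at hv
    exact hπi.not_isUnit (isUnit_of_map_unit (algebraMap B C) _ (hv ▸ v.isUnit))
  have he1 : e ≠ 1 := fun h => hwC (by
    show (maximalIdeal A).map (algebraMap A C) = maximalIdeal C
    rw [hπ, Ideal.map_span, Set.image_singleton, hmC, hv, h, pow_one]
    exact Ideal.span_singleton_mul_left_unit v.isUnit _)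
  have hek : e * k = q₀ := by
    refine IsDiscreteValuationRing.unit_mul_pow_congr_pow hc₀ hc₀
      (Units.map (algebraMap B C).toMonoidHom u * v ^ k) 1 _ _ ?_
    rw [Units.val_one, one_mul, ← ht, hu, map_mul, map_pow, ← IsScalarTower.algebraMap_apply A B C, hv, mul_pow,
      ← pow_mul, Units.val_mul, Units.val_pow_eq_pow_val, mul_assoc]
    rfl
  have heq : e = q₀ ∧ k = 1 := by
    rcases hp.eq_one_or_self_of_dvd e ⟨k, hek.symm⟩ with h | h
    · exact absurd h he1
    · exact ⟨h, by rw [h] at hek; exact Nat.eq_of_mul_eq_mul_left hp.pos (hek.trans (mul_one _).symm)⟩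
  obtain ⟨rfl, rfl⟩ := heq
  have hqM : algebraMap C M c₀ ^ e = algebraMap B M t := by
    rw [← map_pow, ← ht, ← IsScalarTower.algebraMap_apply]
  have hqL : ∀ l : L, algebraMap C M c₀ ≠ algebraMap L M l := by
    intro l hl
    have hlp : l ^ e = algebraMap B L t := (algebraMap L M).injective (by
      rw [map_pow, ← hl, hqM, ← IsScalarTower.algebraMap_apply])
    have hint : IsIntegral B l := IsIntegral.of_pow hp.pos (hlp ▸ isIntegral_algebraMap)
    obtain ⟨b, rfl⟩ := IsIntegrallyClosed.isIntegral_iff.1 hint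
    have hbt : b ^ e = t := IsFractionRing.injective B L (by rw [map_pow, hlp])
    have hb0 : b ≠ 0 := fun h => ht0 (by rw [← hbt, h, zero_pow hp.ne_zero])
    obtain ⟨j, w, hw'⟩ := IsDiscreteValuationRing.eq_unit_mul_pow_irreducible hb0 hπi
    have := IsDiscreteValuationRing.unit_mul_pow_congr_pow hπi hπi (w ^ e) u (j * e) 1 (by
      rw [← hu, ← hbt, hw', mul_pow, pow_mul, Units.val_pow_eq_pow_val])
    exact hp.one_lt.ne' (Nat.eq_one_of_mul_eq_one_left this)
  have hqgen : IntermediateField.adjoin L {algebraMap C M c₀} = ⊤ := by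
    have h1 := Module.finrank_mul_finrank L (IntermediateField.adjoin L {algebraMap C M c₀}) M
    rw [hdeg] at h1
    rcases hp.eq_one_or_self_of_dvd _ ⟨_, h1.symm⟩ with h | h
    · obtain ⟨l, hl⟩ := IntermediateField.mem_bot.1 ((IntermediateField.finrank_eq_one_iff.1 h) ▸
        IntermediateField.mem_adjoin_simple_self L (algebraMap C M c₀))
      exact absurd hl.symm (hqL l)
    · exact IntermediateField.eq_of_le_of_finrank_eq le_top (h.trans (hdeg.symm.trans IntermediateField.finrank_top'.symm))
  by_cases hroot : ∃ x : M, x ^ e = algebraMap A M π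
  · left
    obtain ⟨x, hx⟩ := hroot
    have hxint : IsIntegral C x :=
      IsIntegral.of_pow hp.pos (by rw [hx, IsScalarTower.algebraMap_apply A C M]; exact isIntegral_algebraMap)
    obtain ⟨c, rfl⟩ := IsIntegrallyClosed.isIntegral_iff.1 hxint
    have hc : c ^ e = algebraMap A C π := hinjCM (by rw [map_pow, hx, ← IsScalarTower.algebraMap_apply])
    refine ⟨c, hc, ?_⟩
    have hy : ∀ V : ValuationSubring M, EtRam.Dominates B (algebraMap B M) V →
        V.valuation (algebraMap C M c) ^ e = V.valuation (algebraMap B M (algebraMap A B π)) := by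
      intro V _
      rw [← map_pow, ← map_pow, hc, IsScalarTower.algebraMap_apply A B C, ← IsScalarTower.algebraMap_apply B C M]
    obtain ⟨-, hspan, -⟩ := structure_of_basis (K := L) hdeg.le hπB
      (basisProp_of_pow hp.ne_zero hπB hy (algebraMap_injective' L))
    obtain ⟨V, hV⟩ := exists_dominates (algebraMap C M)
    have hVB : EtRam.Dominates B (algebraMap B M) V :=
      ⟨fun a => by rw [IsScalarTower.algebraMap_apply B C M]; exact hV.1 _, fun a ha => by
        rw [IsScalarTower.algebraMap_apply B C M]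
        exact hV.2 _ ((mem_maximalIdeal _).2 fun hu => (mem_maximalIdeal _).1 ha (isUnit_of_map_unit _ _ hu))⟩
    rw [eq_top_iff]
    intro x _
    obtain ⟨a, ha⟩ := hspan V hVB _ (hV.1 x)
    have hxe : x = ∑ i, algebraMap B C (a i) * c ^ (i : ℕ) := hinjCM (by
      rw [ha, map_sum]
      simp only [map_mul, map_pow, ← IsScalarTower.algebraMap_apply])
    rw [hxe]
    exact sum_mem fun i _ => mul_mem (Subalgebra.algebraMap_mem _ _)
      (pow_mem (Algebra.subset_adjoin (Set.mem_singleton c)) _)
  right
  have hAM : ∀ a, algebraMap B M (algebraMap A B a) = algebraMap A M a := fun a => by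
    rw [IsScalarTower.algebraMap_apply B C M, ← IsScalarTower.algebraMap_apply A B C,
      ← IsScalarTower.algebraMap_apply]
  push Not at hroot
  obtain ⟨m, b, r, hbr, hr⟩ := exists_best_approx hp hB hπB hqM hqL (fun x => by rw [hAM]; exact hroot x)
  -- the polynomial
  obtain ⟨f, hfdef⟩ : ∃ f : K[X], f = X ^ e + Polynomial.C (algebraMap A K π ^ (m + 2)) * X - Polynomial.C (algebraMap A K π) := ⟨_, rfl⟩
  have hlow : (Polynomial.C (algebraMap A K π ^ (m + 2)) * X - Polynomial.C (algebraMap A K π)).degree < (e : WithBot ℕ) :=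
    lt_of_le_of_lt (degree_sub_le _ _) (max_lt
      (lt_of_le_of_lt (degree_C_mul_X_le _) (by exact_mod_cast hp.one_lt))
      (lt_of_le_of_lt degree_C_le (by exact_mod_cast hp.pos)))
  have hfmon : f.Monic := by
    rw [hfdef, add_sub_assoc]
    exact monic_X_pow_add hlow
  have hfdeg : f.natDegree = e := by
    rw [hfdef, add_sub_assoc, natDegree_add_eq_left_of_degree_lt, natDegree_X_pow]
    rwa [degree_X_pow]
  have hev : ∀ (F : Type u) [Field F] [Algebra K F] (z : F), aeval z f = 0 →
      z ^ e + algebraMap K F (algebraMap A K π) ^ (m + 2) * z = algebraMap K F (algebraMap A K π) := by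
    intro F _ _ z hz
    rw [hfdef] at hz
    simpa [sub_eq_zero] using hz
  have hAL : ∀ a, algebraMap K L (algebraMap A K a) = algebraMap B L (algebraMap A B a) := fun a => by
    rw [← IsScalarTower.algebraMap_apply, ← IsScalarTower.algebraMap_apply]
  have hirrL : Irreducible (f.map (algebraMap K L)) := by
    refine irreducible_of_root_fields _ (by rw [hfmon.natDegree_map, hfdeg]) hp.pos fun g hg hgf => ?_
    haveI : Fact (Irreducible g) := ⟨hg⟩
    haveI : IsScalarTower B L (AdjoinRoot g) := IsScalarTower.of_algebraMap_eq fun x =>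
      IsScalarTower.algebraMap_apply B L (AdjoinRoot g) x
    have hz0 : aeval (AdjoinRoot.root g) f = 0 := by
      rw [← aeval_map_algebraMap L]
      obtain ⟨h, hh⟩ := hgf
      rw [hh, map_mul, AdjoinRoot.aeval_eq, AdjoinRoot.mk_self, zero_mul]
    have hz := hev _ _ hz0
    rw [IsScalarTower.algebraMap_apply K L (AdjoinRoot g), hAL, ← IsScalarTower.algebraMap_apply] at hz
    obtain ⟨-, hrk, -, -⟩ := root_structure (L := L) hp.one_lt hπB hz (by
      rw [eq_top_iff]
      intro x _
      obtain ⟨h, rfl⟩ := AdjoinRoot.mk_surjective x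
      rw [← AdjoinRoot.aeval_eq]
      exact IntermediateField.algebra_adjoin_le_adjoin L _ (Polynomial.aeval_mem_adjoin_singleton _ _))
    rw [(AdjoinRoot.powerBasis hg.ne_zero).finrank, AdjoinRoot.powerBasis_dim] at hrk
    exact hrk
  have hirrK : Irreducible f := hfmon.irreducible_of_irreducible_map _ _ hirrL
  have hirrM : Irreducible (f.map (algebraMap K M)) := by
    refine irreducible_of_root_fields _ (by rw [hfmon.natDegree_map, hfdeg]) hp.pos fun g hg hgf => ?_
    haveI : Fact (Irreducible g) := ⟨hg⟩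
    haveI : IsScalarTower B L (AdjoinRoot g) := IsScalarTower.of_algebraMap_eq fun x =>
      (IsScalarTower.algebraMap_apply B M (AdjoinRoot g) x).trans ((congrArg _
        (IsScalarTower.algebraMap_apply B L M x)).trans (IsScalarTower.algebraMap_apply L M (AdjoinRoot g) _).symm)
    have hz0 : aeval (AdjoinRoot.root g) f = 0 := by
      rw [← aeval_map_algebraMap M]
      obtain ⟨h, hh⟩ := hgf
      rw [hh, map_mul, AdjoinRoot.aeval_eq, AdjoinRoot.mk_self, zero_mul]
    have hz := hev _ _ hz0
    rw [IsScalarTower.algebraMap_apply K L (AdjoinRoot g), hAL, ← IsScalarTower.algebraMap_apply] at hz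
    obtain ⟨hrk, -⟩ := mPart hp hπB hdeg hqM hqgen hbr hr (AdjoinRoot g) hz (by
      rw [eq_top_iff]
      intro x _
      obtain ⟨h, rfl⟩ := AdjoinRoot.mk_surjective x
      rw [← AdjoinRoot.aeval_eq]
      exact IntermediateField.algebra_adjoin_le_adjoin M _ (Polynomial.aeval_mem_adjoin_singleton _ _))
    rw [(AdjoinRoot.powerBasis hg.ne_zero).finrank, AdjoinRoot.powerBasis_dim] at hrk
    exact hrk
  haveI : Fact (Irreducible f) := ⟨hirrK⟩
  have hsep : f.Separable := by
    refine (separable_iff_derivative_ne_zero hirrK).2 fun h0 => ?_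
    rw [hfdef, derivative_sub, derivative_add, derivative_X_pow, derivative_C_mul_X, derivative_C] at h0
    simp [CharP.cast_eq_zero K e] at h0
    exact hπi.ne_zero (by rw [h0, map_zero])
  refine ⟨AdjoinRoot f, inferInstance, inferInstance,
    by rw [(AdjoinRoot.powerBasis hirrK.ne_zero).finrank, AdjoinRoot.powerBasis_dim, hfdeg], ?_, ?_,
    isField_tensor K L f hfmon hirrL, isField_tensor K M f hfmon hirrM, ?_, ?_⟩
  · have htop : IntermediateField.adjoin K {AdjoinRoot.root f} = ⊤ := by
      rw [eq_top_iff]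
      intro x _
      obtain ⟨h, rfl⟩ := AdjoinRoot.mk_surjective x
      rw [← AdjoinRoot.aeval_eq]
      exact IntermediateField.algebra_adjoin_le_adjoin K _ (Polynomial.aeval_mem_adjoin_singleton _ _)
    haveI : Algebra.IsSeparable K (IntermediateField.adjoin K {AdjoinRoot.root f}) :=
      (IntermediateField.isSeparable_adjoin_simple_iff_isSeparable K _).2
        (hsep.of_dvd (minpoly.dvd K _ (by rw [AdjoinRoot.aeval_eq, AdjoinRoot.mk_self])))
    exact AlgEquiv.Algebra.isSeparable ((IntermediateField.equivOfEq htop).trans IntermediateField.topEquiv)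
  · have hz := hev _ (AdjoinRoot.root f) (by rw [AdjoinRoot.aeval_eq, AdjoinRoot.mk_self])
    rw [← IsScalarTower.algebraMap_apply] at hz
    obtain ⟨-, -, htot, -⟩ := root_structure (L := K) hp.one_lt hπ hz (by
      rw [eq_top_iff]
      intro x _
      obtain ⟨h, rfl⟩ := AdjoinRoot.mk_surjective x
      rw [← AdjoinRoot.aeval_eq]
      exact IntermediateField.algebra_adjoin_le_adjoin K _ (Polynomial.aeval_mem_adjoin_singleton _ _))
    rwa [IsScalarTower.algebraMap_eq A K (AdjoinRoot f)] at htot
  · intro F _ _ _ _ _ _ hgen W hW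
    letI : Algebra B F := ((algebraMap L F).comp (algebraMap B L)).toAlgebra
    haveI : IsScalarTower B L F := IsScalarTower.of_algebraMap_eq fun _ => rfl
    have hz0 : aeval (algebraMap (AdjoinRoot f) F (AdjoinRoot.root f)) f = 0 := by
      rw [aeval_algebraMap_apply, AdjoinRoot.aeval_eq, AdjoinRoot.mk_self, map_zero]
    have hz := hev _ _ hz0
    rw [IsScalarTower.algebraMap_apply K L F, hAL, ← IsScalarTower.algebraMap_apply] at hz
    obtain ⟨-, -, -, hV⟩ := root_structure (L := L) hp.one_lt hπB hz (adjoin_root_eq_top f hgen)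
    exact weaklyUnramified_of_gen W _ _ (root_facts hp.one_lt hπB hz W hW).1 (hV W hW).2
  · intro F _ _ _ _ _ _ hgen W hW
    letI : Algebra B F := ((algebraMap M F).comp (algebraMap B M)).toAlgebra
    letI : Algebra L F := ((algebraMap M F).comp (algebraMap L M)).toAlgebra
    haveI : IsScalarTower L M F := IsScalarTower.of_algebraMap_eq fun _ => rfl
    haveI : IsScalarTower B M F := IsScalarTower.of_algebraMap_eq fun _ => rfl
    haveI : IsScalarTower B L F := IsScalarTower.of_algebraMap_eq fun x => by
      show algebraMap M F (algebraMap B M x) = algebraMap M F (algebraMap L M (algebraMap B L x))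
      rw [← IsScalarTower.algebraMap_apply B L M]
    have hz0 : aeval (algebraMap (AdjoinRoot f) F (AdjoinRoot.root f)) f = 0 := by
      rw [aeval_algebraMap_apply, AdjoinRoot.aeval_eq, AdjoinRoot.mk_self, map_zero]
    have hz := hev _ _ hz0
    rw [IsScalarTower.algebraMap_apply K M F, ← IsScalarTower.algebraMap_apply A K M, ← hAM] at hz
    obtain ⟨-, hW'⟩ := mPart hp hπB hdeg hqM hqgen hbr hr F hz (adjoin_root_eq_top f hgen)
    have hWB : EtRam.Dominates B (algebraMap B F) W := by
      have e : ∀ a, algebraMap B F a = algebraMap M F (algebraMap C M (algebraMap B C a)) := fun a => by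
        rw [← IsScalarTower.algebraMap_apply B C M]; rfl
      refine ⟨fun a => e a ▸ hW.1 _, fun a ha => ?_⟩
      rw [e]
      exact hW.2 _ ((mem_maximalIdeal _).2 fun hu => (mem_maximalIdeal _).1 ha (isUnit_of_map_unit _ _ hu))
    exact weaklyUnramified_of_gen W _ _ (hW' W hWB).1 (hW' W hWB).2

end

open TensorProduct in
/-- Let A → B → C be injective local homomorphisms of discrete valuation rings whose fields of fractions
are K ⊆ L ⊆ M, and let π be a uniformizer of A; suppose B is a Nagata ring, A → B is weakly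
unramified, and M/L is purely inseparable of prime degree p. Then one of the following holds: the
extension A → C is itself weakly unramified; or else C = B[π^(1/p)]; or else there is a separable
degree-p extension K₁/K, totally ramified with respect to A, for which L ⊗_K K₁ and M ⊗_K K₁ are
fields and the integral closures A₁ → B₁ → C₁ are weakly unramified extensions, i.e. K₁ is a weak
solution for A ⊆ B and for A ⊆ C. -/
theorem result (p : ℕ) (hp : p.Prime) (A B C K L M : Type u)
    [CommRing A] [IsDomain A] [IsDiscreteValuationRing A] [CommRing B] [IsDomain B] [IsDiscreteValuationRing B]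
    [CommRing C] [IsDomain C] [IsDiscreteValuationRing C]
    [Algebra A B] [Algebra B C] [Algebra A C] [IsScalarTower A B C]
    (hAB : Function.Injective (algebraMap A B)) (hBC : Function.Injective (algebraMap B C))
    [IsLocalHom (algebraMap A B)] [IsLocalHom (algebraMap B C)]
    [Field K] [Field L] [Field M] [Algebra A K] [IsFractionRing A K] [Algebra B L] [IsFractionRing B L]
    [Algebra C M] [IsFractionRing C M] [Algebra K L] [Algebra L M] [Algebra K M] [IsScalarTower K L M]
    [Algebra A L] [IsScalarTower A K L] [IsScalarTower A B L] [Algebra B M] [IsScalarTower B L M] [IsScalarTower B C M]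
    [Algebra A M] [IsScalarTower A K M] [IsScalarTower A C M]
    (π : A) (hπ : IsLocalRing.maximalIdeal A = Ideal.span {π}) (hB : CAlg.IsNagata B)
    (hw : EtRam.IsWeaklyUnramified A B) [IsPurelyInseparable L M] (hdeg : Module.finrank L M = p) :
    EtRam.IsWeaklyUnramified A C ∨
      (∃ c : C, c ^ p = algebraMap A C π ∧ Algebra.adjoin B {c} = ⊤) ∨
      ∃ (K₁ : Type u) (_ : Field K₁) (_ : Algebra K K₁),
        Module.finrank K K₁ = p ∧ Algebra.IsSeparable K K₁ ∧
          EtRam.IsTotallyRamified A ((algebraMap K K₁).comp (algebraMap A K)) ∧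
          IsField (L ⊗[K] K₁) ∧ IsField (M ⊗[K] K₁) ∧
          EtRam.IsWeakSolution B K L K₁ ∧ EtRam.IsWeakSolution C K M K₁ := by
  exact Groth.Agent.S7156.main p hp A B C K L M hAB π hπ hB hw hdeg

end Groth.Agent.S7156
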