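import Groth.Statements.S7157
import Groth.Agent.H1Ram.DegP

set_option autoImplicit false
universe u
open EtAlg

namespace Groth.Agent.S7157

/-- Let A be a discrete valuation ring, π a uniformizer, K its field of fractions, and suppose the
residue field of A has characteristic p > 0. For every n > 1 and every power q of p there is a
separable degree-q extension L/K that is totally ramified with respect to A and whose ring of
integers B (the integral closure of A in L) contains elements π_B, b, b' with π_B^q = π + πⁿ·b and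
π_B^q = π + π_B^(nq)·b' (π_B is then a uniformizer of B and the ramification index is q). -/
theorem result (p : ℕ) (hp : p.Prime) (A K : Type u)
    [CommRing A] [IsDomain A] [IsDiscreteValuationRing A] [Field K] [Algebra A K] [IsFractionRing A K]
    [CharP (IsLocalRing.ResidueField A) p] (π : A) (hπ : IsLocalRing.maximalIdeal A = Ideal.span {π})
    (n : ℕ) (hn : 1 < n) (k : ℕ) :
    ∃ (L : Type u) (_ : Field L) (_ : Algebra K L) (_ : Algebra A L) (_ : IsScalarTower A K L),
      Module.finrank K L = p ^ k ∧ Algebra.IsSeparable K L ∧ EtRam.IsTotallyRamified A (algebraMap A L) ∧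
      ∃ πB b b' : L, πB ∈ integralClosure A L ∧ b ∈ integralClosure A L ∧ b' ∈ integralClosure A L ∧
        πB ^ (p ^ k) = algebraMap A L π + algebraMap A L π ^ n * b ∧
        πB ^ (p ^ k) = algebraMap A L π + πB ^ (n * p ^ k) * b' := by
  obtain ⟨q, hq⟩ : ∃ q, q = p ^ k := ⟨_, rfl⟩
  rw [← hq]
  have hπi : Irreducible π := (IsDiscreteValuationRing.irreducible_iff_uniformizer π).2 hπ
  have hπK : algebraMap A K π ≠ 0 := fun h => hπi.ne_zero (IsFractionRing.injective A K (h.trans (map_zero _).symm))
  obtain ⟨m, rfl⟩ : ∃ m, n = m + 1 + 1 := ⟨n - 2, by omega⟩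
  have hq0 : q ≠ 0 := by rw [hq]; exact pow_ne_zero _ hp.ne_zero
  rcases eq_or_lt_of_le (Nat.one_le_iff_ne_zero.2 hq0) with hq1 | hq1
  · subst hq1
    refine ⟨K, inferInstance, Algebra.id K, inferInstance, inferInstance, Module.finrank_self K, inferInstance,
      (H1Ram.case3_of_pow (K := K) (L := K) one_ne_zero (Module.finrank_self K).le hπ
        (y := algebraMap A K π) fun V _ => pow_one _).1,
      algebraMap A K π, 0, 0, isIntegral_algebraMap, (integralClosure A K).zero_mem, (integralClosure A K).zero_mem,
      by simp, by simp⟩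
  let f : Polynomial A := Polynomial.X ^ q - Polynomial.C (π ^ (m + 1 + 1)) * Polynomial.X - Polynomial.C π
  have hlt1 : (Polynomial.C (π ^ (m + 1 + 1)) * Polynomial.X + Polynomial.C π : Polynomial A).degree < q := by
    refine lt_of_le_of_lt (Polynomial.degree_linear_le) ?_
    exact_mod_cast hq1
  have hf : f.Monic := by
    rw [show f = Polynomial.X ^ q - (Polynomial.C (π ^ (m + 1 + 1)) * Polynomial.X + Polynomial.C π) from sub_sub _ _ _]
    exact (Polynomial.monic_X_pow q).sub_of_left (by rwa [Polynomial.degree_X_pow])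
  have hfd : f.natDegree = q := by
    rw [show f = Polynomial.X ^ q - (Polynomial.C (π ^ (m + 1 + 1)) * Polynomial.X + Polynomial.C π) from sub_sub _ _ _]
    refine Polynomial.natDegree_eq_of_degree_eq_some ?_
    rw [Polynomial.degree_sub_eq_left_of_degree_lt (by rwa [Polynomial.degree_X_pow]), Polynomial.degree_X_pow]
  obtain ⟨ρ', hρ'⟩ := IsAlgClosed.exists_aeval_eq_zero (k := AlgebraicClosure K) (f.map (algebraMap A K)) (by
    rw [hf.degree_map, Polynomial.degree_eq_natDegree hf.ne_zero, hfd]; exact_mod_cast hq0)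
  have hint : IsIntegral K ρ' := ⟨f.map (algebraMap A K), hf.map _, by simpa [Polynomial.aeval_def] using hρ'⟩
  let L := IntermediateField.adjoin K {ρ'}
  haveI : FiniteDimensional K L := IntermediateField.adjoin.finiteDimensional hint
  letI : Algebra A L := ((algebraMap K L).comp (algebraMap A K)).toAlgebra
  haveI : IsScalarTower A K L := IsScalarTower.of_algebraMap_eq fun _ => rfl
  let ρ : L := IntermediateField.AdjoinSimple.gen K ρ'
  have hρK : Polynomial.aeval ρ (f.map (algebraMap A K)) = 0 := Subtype.ext
    ((Polynomial.aeval_algHom_apply L.val ρ (f.map (algebraMap A K))).symm.trans hρ')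
  have hρ : ρ ^ q = algebraMap A L π + algebraMap A L π ^ (m + 1 + 1) * ρ := by
    have h := hρK
    rw [Polynomial.aeval_map_algebraMap] at h
    simp only [f, map_sub, map_mul, map_pow, Polynomial.aeval_X, Polynomial.aeval_C] at h
    linear_combination h
  have hρint : IsIntegral A ρ := ⟨f, hf, by rw [← Polynomial.aeval_def, ← Polynomial.aeval_map_algebraMap K]; exact hρK⟩
  have hρV : ∀ V : ValuationSubring L, EtRam.Dominates A (algebraMap A L) V → V.valuation ρ ≤ 1 := by
    intro V hV
    letI : Algebra A V := (RingHom.codRestrict (algebraMap A L) V hV.1).toAlgebra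
    haveI : IsScalarTower A V L := IsScalarTower.of_algebraMap_eq fun _ => rfl
    obtain ⟨w, hw⟩ := IsIntegrallyClosed.isIntegral_iff.1 (hρint.tower_top (A := V))
    exact hw ▸ (V.valuation_le_one_iff _).2 w.2
  have hone : ∀ V : ValuationSubring L, EtRam.Dominates A (algebraMap A L) V →
      V.valuation (1 + algebraMap A L π ^ (m + 1) * ρ) = 1 := by
    intro V hV
    rw [V.valuation.map_add_eq_of_lt_left] <;> rw [map_one]
    rw [map_mul, map_pow]
    exact lt_of_le_of_lt (mul_le_of_le_one_right' (hρV V hV))
      (pow_lt_one₀ zero_le' (hV.2 π (hπ ▸ Ideal.mem_span_singleton_self π)) m.succ_ne_zero)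
  have hρfac : ρ ^ q = algebraMap A L π * (1 + algebraMap A L π ^ (m + 1) * ρ) := by rw [hρ]; ring
  have hv : ∀ V : ValuationSubring L, EtRam.Dominates A (algebraMap A L) V →
      V.valuation ρ ^ q = V.valuation (algebraMap A L π) := by
    intro V hV
    rw [← map_pow, hρfac, map_mul, hone V hV, mul_one]
  have hrank : Module.finrank K L = (minpoly K ρ').natDegree := IntermediateField.adjoin.finrank hint
  have hdvd : minpoly K ρ' ∣ f.map (algebraMap A K) := minpoly.dvd K ρ' hρ'
  have hle : Module.finrank K L ≤ q := by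
    rw [hrank, ← hfd, ← hf.natDegree_map (algebraMap A K)]
    exact Polynomial.natDegree_le_of_dvd hdvd (hf.map _).ne_zero
  have hB := H1Ram.basisProp_of_pow (A := A) (L := L) hq0 hπ hv (H1Ram.algebraMap_injective' K)
  obtain ⟨hfr, hspan, huniq⟩ := H1Ram.structure_of_basis hle hπ hB
  have hsep : Algebra.IsSeparable K L := by
    rw [IntermediateField.isSeparable_adjoin_simple_iff_isSeparable]
    show (minpoly K ρ').Separable
    have he : minpoly K ρ' = f.map (algebraMap A K) :=
      Polynomial.eq_of_monic_of_dvd_of_natDegree_le (minpoly.monic hint) (hf.map _) hdvd (by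
        rw [hf.natDegree_map, hfd, ← hrank, hfr]) |>.symm
    refine (Polynomial.separable_iff_derivative_ne_zero (minpoly.irreducible hint)).2 fun h => ?_
    rw [he, Polynomial.derivative_map] at h
    have h0 := congrArg (fun P : Polynomial K => P.coeff 0) h
    simp only [f, Polynomial.coeff_map, Polynomial.coeff_derivative, Polynomial.coeff_sub, Polynomial.coeff_X_pow,
      Polynomial.coeff_C_mul, Polynomial.coeff_X_one, Polynomial.coeff_C_succ, Polynomial.coeff_zero] at h0
    simp [hq1.ne, hπK] at h0
  obtain ⟨V, hV⟩ := H1Ram.exists_dominates (algebraMap A L)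
  have hone0 : 1 + algebraMap A L π ^ (m + 1) * ρ ≠ 0 := fun h => by
    have := hone V hV; rw [h, map_zero] at this; exact zero_ne_one this
  have hu : (1 + algebraMap A L π ^ (m + 1) * ρ)⁻¹ ∈ integralClosure A L := by
    obtain ⟨a, ha⟩ := hspan V hV _ ((V.valuation_le_one_iff _).1 (by rw [map_inv₀, hone V hV, inv_one]))
    rw [ha]
    exact sum_mem fun i _ => mul_mem isIntegral_algebraMap (pow_mem hρint _)
  refine ⟨L, inferInstance, inferInstance, inferInstance, inferInstance, hfr, hsep,
    (H1Ram.case3_of_pow hq0 hle hπ hv).1, ρ, ρ, (1 + algebraMap A L π ^ (m + 1) * ρ)⁻¹ ^ (m + 1 + 1) * ρ,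
    hρint, hρint, mul_mem (pow_mem hu _) hρint, hρ, ?_⟩
  rw [mul_comm (m + 1 + 1) q, pow_mul]
  nth_rw 2 [hρfac]
  rw [mul_pow, inv_pow, mul_assoc, mul_inv_cancel_left₀ (pow_ne_zero _ hone0)]
  exact hρ

end Groth.Agent.S7157
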