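import Groth.Statements.S7158
import Groth.Agent.H1Ram.DegPStep

set_option autoImplicit false
universe u
open EtAlg

namespace Groth.Agent.S7158

/-- Let A be a discrete valuation ring whose fraction field K has characteristic p > 0, let ξ be an
element of K and let L = K(z) be obtained by adjoining a root z of z^p - z = ξ. Then L/K is a Galois
extension, and it falls under one of four cases: (1) L = K; (2) L/K has degree p and is unramified
with respect to A; (3) L/K has degree p and is totally ramified with respect to A (ramification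
index p); (4) exactly one valuation ring of L dominates A (so B, the integral closure of A in L, is
itself a discrete valuation ring), the extension A → B is weakly unramified, and its residue field
extension is purely inseparable of degree p. Moreover, with π a uniformizer of A: (A) if ξ lies in
A, case (1) or (2) holds; (B) if ξ = π⁻ⁿa with n > 0 prime to p and a a unit of A, case (3) holds;
(C) if ξ = π⁻ⁿa with n > 0 divisible by p and the residue class of a not a p-th power, case (4)
holds. -/
theorem result (p : ℕ) (hp : p.Prime) (A K L : Type u) [CommRing A] [IsDomain A]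
    [IsDiscreteValuationRing A] [Field K] [Algebra A K] [IsFractionRing A K] [Field L] [Algebra K L] [Algebra A L]
    [IsScalarTower A K L] [CharP K p] (π : A) (hπ : IsLocalRing.maximalIdeal A = Ideal.span {π})
    (ξ : K) (z : L) (hz : z ^ p - z = algebraMap K L ξ) (hgen : IntermediateField.adjoin K {z} = ⊤) :
    let g : A →+* L := algebraMap A L
    let case1 : Prop := Module.finrank K L = 1
    let case2 : Prop := EtRam.IsUnramifiedExt A g ∧ Module.finrank K L = p
    let case3 : Prop := EtRam.IsTotallyRamified A g ∧ Module.finrank K L = p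
    let case4 : Prop := (∃ V : ValuationSubring L, EtRam.Dominates A g V) ∧
      (∀ V V' : ValuationSubring L, EtRam.Dominates A g V → EtRam.Dominates A g V' → V = V') ∧
      ∀ (V : ValuationSubring L) (h : EtRam.Dominates A g V),
        letI : Algebra A V := (RingHom.codRestrict g V h.1).toAlgebra
        ∀ [IsLocalHom (algebraMap A V)],
          EtRam.IsWeaklyUnramified A V ∧
            IsPurelyInseparable (IsLocalRing.ResidueField A) (IsLocalRing.ResidueField V) ∧
            Module.finrank (IsLocalRing.ResidueField A) (IsLocalRing.ResidueField V) = p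
    IsGalois K L ∧ (case1 ∨ case2 ∨ case3 ∨ case4) ∧
      ((∃ a : A, algebraMap A K a = ξ) → case1 ∨ case2) ∧
      (∀ (n : ℕ) (a : Aˣ), 0 < n → ¬ p ∣ n → ξ * algebraMap A K π ^ n = algebraMap A K a → case3) ∧
      (∀ (n : ℕ) (a : A), 0 < n → p ∣ n → (∀ r : A, IsLocalRing.residue A a ≠ IsLocalRing.residue A r ^ p) →
          ξ * algebraMap A K π ^ n = algebraMap A K a → case4) := by
  intro g case1 case2 case3 case4
  haveI : Fact p.Prime := ⟨hp⟩
  haveI : CharP L p := charP_of_injective_algebraMap (algebraMap K L).injective p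
  haveI : CharP A p := (RingHom.charP _ (IsFractionRing.injective A K) p)
  haveI : CharP (IsLocalRing.ResidueField A) p := (CharP.charP_iff_prime_eq_zero hp).2 (by
    rw [← map_natCast (IsLocalRing.residue A), CharP.cast_eq_zero, map_zero])
  have hp2 := hp.two_le
  have hdeg' : (Polynomial.X ^ p - Polynomial.X : Polynomial A).natDegree = p := by
    rw [Polynomial.natDegree_sub_eq_left_of_natDegree_lt] <;>
      rw [Polynomial.natDegree_X_pow]
    rw [Polynomial.natDegree_X]; omega
  have hP : (Polynomial.X ^ p - Polynomial.X : Polynomial A).Monic := by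
    apply (Polynomial.monic_X_pow p).sub_of_left
    rw [Polynomial.degree_X_pow, Polynomial.degree_X]
    exact_mod_cast (show 1 < p by omega)
  have haev : ∀ w : L, Polynomial.aeval w (Polynomial.X ^ p - Polynomial.X : Polynomial A) = w ^ p - w := fun w => by
    simp
  have hder : Polynomial.derivative ((Polynomial.X ^ p - Polynomial.X : Polynomial A).map (IsLocalRing.residue A)) =
      Polynomial.C (-1) := by
    simp [Polynomial.derivative_X_pow, CharP.cast_eq_zero (IsLocalRing.ResidueField A) p]
  -- Galois
  have hgal : IsGalois K L ∧ (Module.finrank K L = 1 ∨ Module.finrank K L = p) := by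
    refine H1Ram.galois_of_roots hp (f := Polynomial.X ^ p - Polynomial.X - Polynomial.C ξ) ?_
      (fun i : Fin p => z + ((i : ℕ) : L)) ?_ ?_ ?_
    · rw [Polynomial.natDegree_sub_C, Polynomial.natDegree_sub_eq_left_of_natDegree_lt] <;>
        rw [Polynomial.natDegree_X_pow]
      rw [Polynomial.natDegree_X]; omega
    · intro i j hij
      exact Fin.ext (CharP.natCast_injOn_Iio L p i.isLt j.isLt (add_left_cancel hij))
    · intro i
      simp only [map_sub, map_pow, Polynomial.aeval_X, Polynomial.aeval_C]
      rw [add_pow_char]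
      have : ((i : ℕ) : L) ^ p = ((i : ℕ) : L) := by
        rw [← frobenius_def, map_natCast]
      rw [this, ← hz]; ring
    · intro i
      rw [eq_top_iff, ← hgen, IntermediateField.adjoin_simple_le_iff]
      have := IntermediateField.mem_adjoin_simple_self K (z + ((i : ℕ) : L))
      have h2 := sub_mem this (natCast_mem (IntermediateField.adjoin K {z + ((i : ℕ) : L)}) (i : ℕ))
      rwa [add_sub_cancel_right] at h2
  obtain ⟨hg, hdich⟩ := hgal
  haveI := hg
  haveI hFD : FiniteDimensional K L :=
    (H1Ram.finrank_le_of_root hP (hdeg'.symm ▸ hp.pos) ((haev z).trans hz) hgen).1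
  have hA : ∀ (ξ : K) (z : L), z ^ p - z = algebraMap K L ξ → IntermediateField.adjoin K {z} = ⊤ →
      (∃ a : A, algebraMap A K a = ξ) → case1 ∨ case2 := by
    rintro ξ z hz hgen ⟨a, rfl⟩
    rcases hdich with h | h
    · exact Or.inl h
    · exact Or.inr ⟨H1Ram.unramified_of_integral hP (hdeg'.symm ▸ hp.pos) (by simp) hder
        ((haev z).trans (hz.trans (IsScalarTower.algebraMap_apply A K L a).symm)) hgen, h⟩
  have hB : ∀ (ξ : K) (z : L), z ^ p - z = algebraMap K L ξ → IntermediateField.adjoin K {z} = ⊤ →
      ∀ (n : ℕ) (a : Aˣ), 0 < n → ¬ p ∣ n → ξ * algebraMap A K π ^ n = algebraMap A K a → case3 :=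
    fun ξ z hz hgen n a hn hpn h =>
      H1Ram.case3_of_pole hp hP hdeg' hπ ((haev z).trans hz) hgen hn hpn a.isUnit h
  have hC : ∀ (ξ : K) (z : L), z ^ p - z = algebraMap K L ξ → IntermediateField.adjoin K {z} = ⊤ →
      ∀ (n : ℕ) (a : A), 0 < n → p ∣ n →
        (∀ r : A, IsLocalRing.residue A a ≠ IsLocalRing.residue A r ^ p) →
          ξ * algebraMap A K π ^ n = algebraMap A K a → case4 :=
    fun ξ z hz hgen n a hn hpn hna h =>
      (H1Ram.case4_of_pole hp hP hdeg' hπ ((haev z).trans hz) hgen hn hpn hna h).1
  have hπi : Irreducible π := (IsDiscreteValuationRing.irreducible_iff_uniformizer π).2 hπ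
  have hπK : algebraMap A K π ≠ 0 := fun h => hπi.ne_zero (IsFractionRing.injective A K (h.trans (map_zero _).symm))
  have main : ∀ (n : ℕ) (ξ : K) (z : L), z ^ p - z = algebraMap K L ξ → IntermediateField.adjoin K {z} = ⊤ →
      (∃ a : A, ξ * algebraMap A K π ^ n = algebraMap A K a) → case1 ∨ case2 ∨ case3 ∨ case4 := by
    intro n
    induction n with
    | zero =>
      rintro ξ z hz hgen ⟨a, ha⟩
      rw [pow_zero, mul_one] at ha
      exact (hA ξ z hz hgen ⟨a, ha.symm⟩).elim Or.inl fun h => Or.inr (Or.inl h)
    | succ n ih =>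
      rintro ξ z hz hgen ⟨a, ha⟩
      by_cases hau : IsUnit a
      · by_cases hpn : p ∣ n + 1
        · by_cases hna : ∀ r : A, IsLocalRing.residue A a ≠ IsLocalRing.residue A r ^ p
          · exact Or.inr (Or.inr (Or.inr (hC ξ z hz hgen (n + 1) a n.succ_pos hpn hna ha)))
          push Not at hna
          obtain ⟨r, hr⟩ := hna
          obtain ⟨m, hm⟩ := hpn
          have hm0 : 0 < m := by
            rcases Nat.eq_zero_or_pos m with h | h
            · rw [h, mul_zero] at hm; omega
            · exact h
          have hmn : m ≤ n := by nlinarith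
          obtain ⟨k, hk⟩ : ∃ k, n = m + k := ⟨n - m, by omega⟩
          rw [← map_pow] at hr
          have hmem : a - r ^ p ∈ IsLocalRing.maximalIdeal A :=
            (IsLocalRing.residue_eq_zero_iff _).1 (by rw [map_sub, hr, sub_self])
          rw [hπ, Ideal.mem_span_singleton] at hmem
          obtain ⟨s, hs⟩ := hmem
          obtain ⟨c, hc⟩ : ∃ c : K, c * algebraMap A K π ^ m = algebraMap A K r :=
            ⟨algebraMap A K r / algebraMap A K π ^ m, div_mul_cancel₀ _ (pow_ne_zero _ hπK)⟩
          refine ih (ξ - c ^ p + c) (z - algebraMap K L c) ?_ ?_ ⟨s + r * π ^ k, ?_⟩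
          · rw [sub_pow_char, map_add, map_sub, map_pow, ← hz]; ring
          · rw [eq_top_iff, ← hgen, IntermediateField.adjoin_simple_le_iff]
            have h2 := add_mem (IntermediateField.mem_adjoin_simple_self K (z - algebraMap K L c))
              ((IntermediateField.adjoin K {z - algebraMap K L c}).algebraMap_mem c)
            rwa [sub_add_cancel] at h2
          · refine mul_right_cancel₀ hπK ?_
            have h1 : algebraMap A K a - algebraMap A K r ^ p = algebraMap A K π * algebraMap A K s := by
              rw [← map_pow, ← map_sub, hs, map_mul]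
            have h2 : algebraMap A K π ^ (p * m) * c ^ p = algebraMap A K r ^ p := by
              rw [← hc, mul_pow, mul_comm p m, pow_mul]; ring
            rw [← hm] at h2
            rw [map_add, map_mul, map_pow]
            rw [hk] at ha h2 ⊢
            simp only [pow_succ, pow_add] at ha h2 ⊢
            linear_combination ha + h1 - h2 + algebraMap A K π ^ k * algebraMap A K π * hc
        · exact Or.inr (Or.inr (Or.inl (hB ξ z hz hgen (n + 1) hau.unit n.succ_pos hpn ha)))
      · obtain ⟨s, rfl⟩ := Ideal.mem_span_singleton.1 (hπ ▸ (IsLocalRing.mem_maximalIdeal a).2 hau)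
        refine ih ξ z hz hgen ⟨s, mul_right_cancel₀ hπK ?_⟩
        rw [mul_assoc, ← pow_succ, ha, map_mul, mul_comm]
  refine ⟨hg, ?_, hA ξ z hz hgen, hB ξ z hz hgen, hC ξ z hz hgen⟩
  obtain ⟨a, b, hb, hab⟩ := IsFractionRing.div_surjective A (K := K) ξ
  obtain ⟨N, u, hu⟩ := IsDiscreteValuationRing.eq_unit_mul_pow_irreducible (nonZeroDivisors.ne_zero hb) hπi
  refine main N ξ z hz hgen ⟨a * (↑u⁻¹ : A), ?_⟩
  have hbK : algebraMap A K b ≠ 0 := fun h =>
    nonZeroDivisors.ne_zero hb (IsFractionRing.injective A K (h.trans (map_zero _).symm))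
  rw [← hab, div_mul_eq_mul_div, div_eq_iff hbK, ← map_pow, ← map_mul, ← map_mul, hu]
  congr 1
  rw [mul_assoc a, ← mul_assoc (↑u⁻¹ : A), Units.inv_mul, one_mul]

end Groth.Agent.S7158
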