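import Groth.Statements.S7159
import Groth.Agent.H1Ram.KummerP

set_option autoImplicit false
universe u
open EtAlg

namespace Groth.Agent.S7159

open Polynomial in
/-- Let A be a discrete valuation ring whose fraction field K has characteristic 0 and whose residue
field has characteristic p, and suppose A contains an element ζ with 1 + ζ + ... + ζ^(p-1) = 0 (a
primitive p-th root of unity); set w = 1 - ζ and let P in A[t] be the polynomial with w^p·P(t) = (1
+ wt)^p - 1. Let ξ be an element of K and let L = K(z) be obtained by adjoining a root z of P(z) =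
ξ. Then L/K is a Galois extension, and it falls under one of four cases: (1) L = K; (2) L/K has
degree p and is unramified with respect to A; (3) L/K has degree p and is totally ramified with
respect to A (ramification index p); (4) exactly one valuation ring of L dominates A (so B, the
integral closure of A in L, is itself a discrete valuation ring), the extension A → B is weakly
unramified, and its residue field extension is purely inseparable of degree p. Moreover, with π a
uniformizer of A: (A) if ξ lies in A, case (1) or (2) holds; (B) if ξ = π⁻ⁿa with n > 0 prime to p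
and a a unit of A, case (3) holds; (C) if ξ = π⁻ⁿa with n > 0 divisible by p and the residue class
of a not a p-th power, case (4) holds. -/
theorem result (p : ℕ) (hp : p.Prime) (A K L : Type u) [CommRing A] [IsDomain A]
    [IsDiscreteValuationRing A] [Field K] [Algebra A K] [IsFractionRing A K] [Field L] [Algebra K L] [Algebra A L]
    [IsScalarTower A K L] [CharZero K] [CharP (IsLocalRing.ResidueField A) p] (ζ : A)
    (hζ : aeval ζ (cyclotomic p ℤ) = 0) (P : A[X]) (hP : C ((1 - ζ) ^ p) * P = (1 + C (1 - ζ) * X) ^ p - 1) (π : A) (hπ : IsLocalRing.maximalIdeal A = Ideal.span {π})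
    (ξ : K) (z : L) (hz : aeval z P = algebraMap K L ξ) (hgen : IntermediateField.adjoin K {z} = ⊤) :
    let g : A →+* L := algebraMap A L
    let case1 : Prop := Module.finrank K L = 1
    let case2 : Prop := EtRam.IsUnramifiedExt A g ∧ Module.finrank K L = p
    let case3 : Prop := EtRam.IsTotallyRamified A g ∧ Module.finrank K L = p
    let case4 : Prop := (∃ V : ValuationSubring L, EtRam.Dominates A g V) ∧
      (∀ V V' : ValuationSubring L, EtRam.Dominates A g V → EtRam.Dominates A g V' → V = V') ∧
      ∀ (V : ValuationSubring L) (h : EtRam.Dominates A g V),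
        letI : Algebra A V := (RingHom.codRestrict g V h.1).toAlgebra
        ∀ [IsLocalHom (algebraMap A V)],
          EtRam.IsWeaklyUnramified A V ∧
            IsPurelyInseparable (IsLocalRing.ResidueField A) (IsLocalRing.ResidueField V) ∧
            Module.finrank (IsLocalRing.ResidueField A) (IsLocalRing.ResidueField V) = p
    IsGalois K L ∧ (case1 ∨ case2 ∨ case3 ∨ case4) ∧
      ((∃ a : A, algebraMap A K a = ξ) → case1 ∨ case2) ∧
      (∀ (n : ℕ) (a : Aˣ), 0 < n → ¬ p ∣ n → ξ * algebraMap A K π ^ n = algebraMap A K a → case3) ∧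
      (∀ (n : ℕ) (a : A), 0 < n → p ∣ n → (∀ r : A, IsLocalRing.residue A a ≠ IsLocalRing.residue A r ^ p) →
          ξ * algebraMap A K π ^ n = algebraMap A K a → case4) := by
  intro g case1 case2 case3 case4
  haveI : Fact p.Prime := ⟨hp⟩
  haveI : CharZero A := RingHom.charZero (algebraMap A K)
  have hprim := H1Ram.isPrimitiveRoot_of_aeval hp hζ
  obtain ⟨hwm, hw0⟩ := H1Ram.w_mem hp hprim
  obtain ⟨hmonic, hdeg⟩ := H1Ram.kummerPoly_monic hp hprim hP
  obtain ⟨c0, hc0, hder⟩ := H1Ram.kummerPoly_derivative hp hprim hP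
  have hAL := H1Ram.algebraMap_injective' (A := A) (L := L) K
  have hwL : algebraMap A L (1 - ζ) ≠ 0 := fun h => hw0 (hAL (h.trans (map_zero _).symm))
  have hwK : algebraMap A K (1 - ζ) ≠ 0 := fun h => hw0 (IsFractionRing.injective A K (h.trans (map_zero _).symm))
  have heval : ∀ (F : Type u) [Field F] [Algebra A F] (x : F),
      algebraMap A F (1 - ζ) ^ p * Polynomial.aeval x P = (1 + algebraMap A F (1 - ζ) * x) ^ p - 1 := by
    intro F _ _ x
    have h := congrArg (Polynomial.aeval x) hP
    simpa only [map_mul, map_sub, map_pow, map_add, map_one, Polynomial.aeval_C, Polynomial.aeval_X] using h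
  obtain ⟨z₀, hz₀, hgen₀⟩ : ∃ z₀ : L, Polynomial.aeval z₀ P = algebraMap K L ξ ∧
      IntermediateField.adjoin K {z₀} = ⊤ := ⟨z, hz, hgen⟩
  haveI hFD : FiniteDimensional K L :=
    (H1Ram.finrank_le_of_root hmonic (hdeg.symm ▸ hp.pos) hz₀ hgen₀).1
  have hfin : Module.finrank K L ≤ p :=
    hdeg ▸ (H1Ram.finrank_le_of_root hmonic (hdeg.symm ▸ hp.pos) hz₀ hgen₀).2
  -- Galois
  have hgal : IsGalois K L ∧ (Module.finrank K L = 1 ∨ Module.finrank K L = p) := by
    by_cases hθ : 1 + algebraMap A L (1 - ζ) * z₀ = 0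
    · have hzmem : z₀ ∈ (⊥ : IntermediateField K L) := by
        refine IntermediateField.mem_bot.2 ⟨-(algebraMap A K (1 - ζ))⁻¹, ?_⟩
        rw [map_neg, map_inv₀, ← IsScalarTower.algebraMap_apply]
        field_simp
        linear_combination -hθ
      have htop : (⊥ : IntermediateField K L) = ⊤ := by
        rw [eq_top_iff, ← hgen₀, IntermediateField.adjoin_simple_le_iff]; exact hzmem
      refine ⟨IsGalois.of_algEquiv ((IntermediateField.botEquiv K L).symm.trans
        ((IntermediateField.equivOfEq htop).trans IntermediateField.topEquiv)), Or.inl ?_⟩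
      rw [← IntermediateField.finrank_top', ← htop, IntermediateField.finrank_bot]
    refine H1Ram.galois_of_roots hp (f := P.map (algebraMap A K) - Polynomial.C ξ) ?_
      (fun i : Fin p => (algebraMap A L ζ ^ (i : ℕ) * (1 + algebraMap A L (1 - ζ) * z₀) - 1) / algebraMap A L (1 - ζ))
      ?_ ?_ ?_
    · rw [Polynomial.natDegree_sub_C, hmonic.natDegree_map, hdeg]
    · intro i j hij
      have h := mul_right_cancel₀ hθ (sub_left_inj.1 ((div_left_inj' hwL).1 hij))
      exact Fin.ext ((hprim.map_of_injective hAL).pow_inj i.isLt j.isLt h)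
    · intro i
      rw [map_sub, Polynomial.aeval_map_algebraMap, Polynomial.aeval_C, sub_eq_zero]
      refine mul_left_cancel₀ (pow_ne_zero p hwL) ?_
      rw [heval, mul_div_cancel₀ _ hwL, add_sub_cancel, mul_pow, ← pow_mul, mul_comm (i : ℕ) p, pow_mul,
        ← map_pow, hprim.pow_eq_one, map_one, one_pow, one_mul, ← heval, hz₀]
    · intro i
      rw [eq_top_iff, ← hgen₀, IntermediateField.adjoin_simple_le_iff]
      generalize hr : (algebraMap A L ζ ^ (i : ℕ) * (1 + algebraMap A L (1 - ζ) * z₀) - 1) /
        algebraMap A L (1 - ζ) = r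
      have hζi : algebraMap A L ζ ^ (i : ℕ) ≠ 0 :=
        pow_ne_zero _ fun h => hprim.ne_zero hp.ne_zero (hAL (h.trans (map_zero _).symm))
      have he : z₀ = ((algebraMap A L ζ ^ (i : ℕ))⁻¹ * (1 + algebraMap A L (1 - ζ) * r) - 1) /
          algebraMap A L (1 - ζ) := by
        rw [← hr, mul_div_cancel₀ _ hwL, add_sub_cancel, inv_mul_cancel_left₀ hζi, add_sub_cancel_left,
          mul_div_cancel_left₀ _ hwL]
      have hmemA : ∀ a : A, algebraMap A L a ∈ IntermediateField.adjoin K {r} := fun a => by
        rw [IsScalarTower.algebraMap_apply A K L]; exact IntermediateField.algebraMap_mem _ _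
      rw [he]
      exact div_mem (sub_mem (mul_mem (inv_mem (pow_mem (hmemA ζ) _))
        (add_mem (one_mem _) (mul_mem (hmemA _) (IntermediateField.mem_adjoin_simple_self K r)))) (one_mem _))
        (hmemA _)
  obtain ⟨hg, hdich⟩ := hgal
  haveI := hg
  have hA : ∀ (ξ : K) (z : L), Polynomial.aeval z P = algebraMap K L ξ → IntermediateField.adjoin K {z} = ⊤ →
      (∃ a : A, algebraMap A K a = ξ) → case1 ∨ case2 := by
    rintro ξ z hz hgen ⟨a, rfl⟩
    rcases hdich with h | h
    · exact Or.inl h
    · exact Or.inr ⟨H1Ram.unramified_of_integral hmonic (hdeg.symm ▸ hp.pos) hc0 hder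
        (hz.trans (IsScalarTower.algebraMap_apply A K L a).symm) hgen, h⟩
  have hB : ∀ (ξ : K) (z : L), Polynomial.aeval z P = algebraMap K L ξ → IntermediateField.adjoin K {z} = ⊤ →
      ∀ (n : ℕ) (a : Aˣ), 0 < n → ¬ p ∣ n → ξ * algebraMap A K π ^ n = algebraMap A K a → case3 :=
    fun ξ z hz hgen n a hn hpn h => H1Ram.case3_of_pole hp hmonic hdeg hπ hz hgen hn hpn a.isUnit h
  have hC : ∀ (ξ : K) (z : L), Polynomial.aeval z P = algebraMap K L ξ → IntermediateField.adjoin K {z} = ⊤ →
      ∀ (n : ℕ) (a : A), 0 < n → p ∣ n →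
        (∀ r : A, IsLocalRing.residue A a ≠ IsLocalRing.residue A r ^ p) →
          ξ * algebraMap A K π ^ n = algebraMap A K a → case4 :=
    fun ξ z hz hgen n a hn hpn hna h => (H1Ram.case4_of_pole hp hmonic hdeg hπ hz hgen hn hpn hna h).1
  have hπi : Irreducible π := (IsDiscreteValuationRing.irreducible_iff_uniformizer π).2 hπ
  have hπK : algebraMap A K π ≠ 0 := fun h => hπi.ne_zero (IsFractionRing.injective A K (h.trans (map_zero _).symm))
  have hπm : π ∈ IsLocalRing.maximalIdeal A := hπ ▸ Ideal.mem_span_singleton_self π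
  obtain ⟨M, e, hwe⟩ := IsDiscreteValuationRing.eq_unit_mul_pow_irreducible hw0 hπi
  have hM : 0 < M := by
    rcases Nat.eq_zero_or_pos M with h | h
    · rw [h, pow_zero, mul_one] at hwe
      exact absurd (hwe ▸ e.isUnit) ((IsLocalRing.mem_maximalIdeal _).1 hwm)
    · exact h
  -- small poles
  have main : ∀ (n : ℕ) (ξ : K) (z : L), n < p * M → Polynomial.aeval z P = algebraMap K L ξ →
      IntermediateField.adjoin K {z} = ⊤ →
      (∃ a : A, ξ * algebraMap A K π ^ n = algebraMap A K a) → case1 ∨ case2 ∨ case3 ∨ case4 := by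
    intro n
    induction n with
    | zero =>
      rintro ξ z - hz hgen ⟨a, ha⟩
      rw [pow_zero, mul_one] at ha
      exact (hA ξ z hz hgen ⟨a, ha.symm⟩).elim Or.inl fun h => Or.inr (Or.inl h)
    | succ n ih =>
      rintro ξ z hn hz hgen ⟨a, ha⟩
      by_cases hau : IsUnit a
      · by_cases hpn : p ∣ n + 1
        · by_cases hna : ∀ r : A, IsLocalRing.residue A a ≠ IsLocalRing.residue A r ^ p
          · exact Or.inr (Or.inr (Or.inr (hC ξ z hz hgen (n + 1) a n.succ_pos hpn hna ha)))
          push Not at hna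
          obtain ⟨r, hr⟩ := hna
          obtain ⟨m, hm⟩ := hpn
          have hm0 : 0 < m := by
            rcases Nat.eq_zero_or_pos m with h | h
            · rw [h, mul_zero] at hm; omega
            · exact h
          have hmM : m < M := Nat.lt_of_mul_lt_mul_left (hm ▸ hn)
          obtain ⟨k, hk⟩ : ∃ k, M = m + (k + 1) := ⟨M - m - 1, by omega⟩
          obtain ⟨c, hc⟩ : ∃ c : K, c * algebraMap A K π ^ m = algebraMap A K (-r) :=
            ⟨algebraMap A K (-r) / algebraMap A K π ^ m, div_mul_cancel₀ _ (pow_ne_zero _ hπK)⟩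
          obtain ⟨b, hb, hbm⟩ : ∃ b : A, algebraMap A K (1 - ζ) * c = algebraMap A K b ∧
              b ∈ IsLocalRing.maximalIdeal A := by
            refine ⟨e * π ^ (k + 1) * (-r), ?_, Ideal.mul_mem_right _ _
              (Ideal.mul_mem_left _ _ (Ideal.pow_mem_of_mem _ hπm _ k.succ_pos))⟩
            rw [hwe, hk, pow_add, map_mul, map_mul, map_mul, map_mul, ← hc, map_pow]
            ring
          obtain ⟨q, hq, hqr⟩ : ∃ q : A, algebraMap A K π ^ (n + 1) * Polynomial.aeval c P = algebraMap A K q ∧
              IsLocalRing.residue A q = -(IsLocalRing.residue A r ^ p) := by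
            refine ⟨(P.scaleRoots (π ^ m)).eval (-r), ?_, ?_⟩
            · rw [Polynomial.aeval_def, hm, mul_comm p m, pow_mul, ← Polynomial.eval₂_at_apply, ← hc,
                mul_comm c, ← map_pow (algebraMap A K) π m, Polynomial.scaleRoots_eval₂_mul, hdeg]
            · rw [← Polynomial.eval_map_apply, Polynomial.map_scaleRoots P _ _ (by
                rw [hmonic.leadingCoeff, map_one]; exact one_ne_zero),
                map_pow, (IsLocalRing.residue_eq_zero_iff π).2 hπm, zero_pow hm0.ne', Polynomial.scaleRoots_zero,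
                (hmonic.map _).leadingCoeff, one_smul, hmonic.natDegree_map, hdeg, Polynomial.eval_pow,
                Polynomial.eval_X, map_neg]
              simp [← frobenius_def, map_neg]
          have hone : IsUnit (1 + b) := IsLocalRing.notMem_maximalIdeal.1 fun h =>
            (IsLocalRing.maximalIdeal.isMaximal A).ne_top ((Ideal.eq_top_iff_one _).2 (by
              simpa using sub_mem h hbm))
          obtain ⟨s, hs⟩ : π ∣ a + q + ((1 + b) ^ p - 1) * a := by
            rw [← Ideal.mem_span_singleton, ← hπ, ← IsLocalRing.residue_eq_zero_iff, map_add, map_add, map_mul,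
              map_sub, map_pow, map_add, map_one, (IsLocalRing.residue_eq_zero_iff b).2 hbm, hr, hqr]
            ring
          refine ih (ξ + (1 + algebraMap A K (1 - ζ) ^ p * ξ) * Polynomial.aeval c P)
            (z * (1 + algebraMap A L b) + algebraMap K L c) (by omega) ?_ ?_ ⟨s, ?_⟩
          · refine mul_left_cancel₀ (pow_ne_zero p hwL) ?_
            have hbL : algebraMap A L b = algebraMap A L (1 - ζ) * algebraMap K L c := by
              rw [IsScalarTower.algebraMap_apply A K L b, ← hb, map_mul, ← IsScalarTower.algebraMap_apply]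
            have h1 := congrArg (algebraMap K L) (heval K c)
            simp only [map_mul, map_sub, map_pow, map_add, map_one, ← IsScalarTower.algebraMap_apply,
              ← Polynomial.aeval_algebraMap_apply] at h1
            have h2 := heval L z
            rw [hz] at h2
            rw [heval, map_add, map_mul, map_add, map_one, map_mul, map_pow, ← IsScalarTower.algebraMap_apply,
              ← Polynomial.aeval_algebraMap_apply,
              show 1 + algebraMap A L (1 - ζ) * (z * (1 + algebraMap A L b) + algebraMap K L c) =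
                (1 + algebraMap A L (1 - ζ) * z) * (1 + algebraMap A L (1 - ζ) * algebraMap K L c) by
                rw [hbL]; ring, mul_pow]
            simp only [map_sub, map_one] at h1 h2 ⊢
            linear_combination (-(1 + (1 - algebraMap A L ζ) * algebraMap K L c) ^ p) * h2 -
              (1 + (1 - algebraMap A L ζ) ^ p * algebraMap K L ξ) * h1
          · rw [eq_top_iff, ← hgen, IntermediateField.adjoin_simple_le_iff]
            generalize hz' : z * (1 + algebraMap A L b) + algebraMap K L c = z'
            have hne : (1 + algebraMap A L b : L) ≠ 0 := by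
              rw [← map_one (algebraMap A L), ← map_add]; exact (hone.map _).ne_zero
            rw [show z = (z' - algebraMap K L c) / (1 + algebraMap A L b) by
              rw [← hz', add_sub_cancel_right, mul_div_cancel_right₀ _ hne]]
            refine div_mem (sub_mem (IntermediateField.mem_adjoin_simple_self K z')
              (IntermediateField.algebraMap_mem _ _)) (add_mem (one_mem _) ?_)
            rw [IsScalarTower.algebraMap_apply A K L]; exact IntermediateField.algebraMap_mem _ _
          · refine mul_right_cancel₀ hπK ?_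
            have h1 := congrArg (algebraMap A K) hs
            simp only [map_add, map_mul, map_sub, map_pow, map_one] at h1
            have h2 := heval K c
            rw [hb] at h2
            rw [mul_assoc, ← pow_succ, add_mul, mul_assoc, mul_comm (Polynomial.aeval c P), hq]
            linear_combination h1 + ha + ((algebraMap A K) a) * h2 +
              algebraMap A K (1 - ζ) ^ p * Polynomial.aeval c P * ha -
              algebraMap A K (1 - ζ) ^ p * ξ * hq
        · exact Or.inr (Or.inr (Or.inl (hB ξ z hz hgen (n + 1) hau.unit n.succ_pos hpn ha)))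
      · obtain ⟨s, rfl⟩ := Ideal.mem_span_singleton.1 (hπ ▸ (IsLocalRing.mem_maximalIdeal a).2 hau)
        refine ih ξ z (by omega) hz hgen ⟨s, mul_right_cancel₀ hπK ?_⟩
        rw [mul_assoc, ← pow_succ, ha, map_mul, mul_comm]
  refine ⟨hg, ?_, hA ξ z hz hgen, hB ξ z hz hgen, hC ξ z hz hgen⟩
  -- the general case
  by_cases hη : 1 + algebraMap A K (1 - ζ) ^ p * ξ = 0
  · refine Or.inl ?_
    have hzmem : z ∈ (⊥ : IntermediateField K L) := by
      refine IntermediateField.mem_bot.2 ⟨-(algebraMap A K (1 - ζ))⁻¹, ?_⟩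
      have h := congrArg (algebraMap K L) hη
      rw [map_add, map_one, map_mul, map_pow, ← IsScalarTower.algebraMap_apply, map_zero, ← hz, heval,
        add_sub_cancel, pow_eq_zero_iff hp.ne_zero] at h
      rw [map_neg, map_inv₀, ← IsScalarTower.algebraMap_apply]
      field_simp
      linear_combination -h
    have htop : (⊥ : IntermediateField K L) = ⊤ := by
      rw [eq_top_iff, ← hgen, IntermediateField.adjoin_simple_le_iff]; exact hzmem
    show Module.finrank K L = 1
    rw [← IntermediateField.finrank_top', ← htop, IntermediateField.finrank_bot]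
  obtain ⟨θ, hθ⟩ : ∃ θ : L, θ = 1 + algebraMap A L (1 - ζ) * z := ⟨_, rfl⟩
  have hθp : θ ^ p = algebraMap K L (1 + algebraMap A K (1 - ζ) ^ p * ξ) := by
    rw [map_add, map_one, map_mul, map_pow, ← IsScalarTower.algebraMap_apply, ← hz, heval, hθ]; ring
  obtain ⟨x, y, hy, hxy⟩ := IsFractionRing.div_surjective A (K := K) (1 + algebraMap A K (1 - ζ) ^ p * ξ)
  have hx0 : x ≠ 0 := fun h => hη (by rw [← hxy, h, map_zero, zero_div])
  obtain ⟨i, u, rfl⟩ := IsDiscreteValuationRing.eq_unit_mul_pow_irreducible hx0 hπi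
  obtain ⟨l, v, rfl⟩ := IsDiscreteValuationRing.eq_unit_mul_pow_irreducible (nonZeroDivisors.ne_zero hy) hπi
  have hηe : θ ^ p = algebraMap A L ((u : A) * (↑v⁻¹ : A)) * algebraMap A L π ^ ((i : ℤ) - l) := by
    have hπL : algebraMap A L π ≠ 0 := fun h => hπi.ne_zero (hAL (h.trans (map_zero _).symm))
    have hvL : algebraMap A L (v : A) ≠ 0 := (v.isUnit.map _).ne_zero
    rw [hθp, ← hxy, map_div₀, ← IsScalarTower.algebraMap_apply, ← IsScalarTower.algebraMap_apply,
      div_eq_iff (((v.isUnit.map _).mul ((Ne.isUnit hπL).pow l)).ne_zero.imp fun h => by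
        rw [map_mul, map_pow] at h; exact h),
      zpow_sub₀ hπL, zpow_natCast, zpow_natCast, map_mul, map_mul, map_mul, map_pow, map_pow]
    have h3 : algebraMap A L (↑v⁻¹ : A) * algebraMap A L (v : A) = 1 := by
      rw [← map_mul, Units.inv_mul, map_one]
    field_simp
    linear_combination -(algebraMap A L (u : A)) * h3
  obtain ⟨j, hj⟩ : ∃ j : ℤ, j = (i : ℤ) - l := ⟨_, rfl⟩
  obtain ⟨e', he'⟩ : ∃ e' : A, e' = (u : A) * (↑v⁻¹ : A) := ⟨_, rfl⟩
  have he'u : IsUnit e' := he' ▸ (u * v⁻¹).isUnit
  rw [← hj, ← he'] at hηe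
  clear hxy hy hj he'
  have hπL : algebraMap A L π ≠ 0 := fun h => hπi.ne_zero (hAL (h.trans (map_zero _).symm))
  by_cases hpj : (p : ℤ) ∣ j
  swap
  · obtain ⟨s, t, hst⟩ := (Nat.prime_iff_prime_int.1 hp).coprime_iff_not_dvd.2 hpj
    refine Or.inr (Or.inr (Or.inl (H1Ram.case3_of_pow hp.ne_zero hfin hπ
      (y := θ ^ t * algebraMap A L π ^ s) fun V hV => ?_)))
    have h1 := congrArg V.valuation hηe
    rw [map_pow, map_mul, map_zpow₀, H1Ram.valuation_unit hV he'u, one_mul] at h1
    rw [map_mul, map_zpow₀, map_zpow₀, mul_pow, ← zpow_natCast, ← zpow_natCast, ← zpow_mul, ← zpow_mul,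
      mul_comm t, zpow_mul, zpow_natCast, h1, ← zpow_mul, ← zpow_add₀ (by simpa using hπL),
      show j * t + s * (p : ℤ) = 1 by linear_combination hst, zpow_one]
  obtain ⟨j', rfl⟩ := hpj
  obtain ⟨θ', hθ'⟩ : ∃ θ' : L, θ' = θ / algebraMap A L π ^ j' := ⟨_, rfl⟩
  have hθ'p : θ' ^ p = algebraMap A L e' := by
    rw [hθ', div_pow, hηe, ← zpow_natCast (algebraMap A L π ^ j'), ← zpow_mul, mul_comm j',
      mul_div_cancel_right₀ _ (zpow_ne_zero _ hπL)]
  by_cases hna : ∀ r : A, IsLocalRing.residue A e' ≠ IsLocalRing.residue A r ^ p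
  · refine Or.inr (Or.inr (Or.inr (H1Ram.case4_of_pow hp hfin hπ hna (y := θ') fun V hV => ?_).1))
    have h1 : V.valuation θ' ^ p = 1 := by rw [← map_pow, hθ'p, H1Ram.valuation_unit hV he'u]
    refine ⟨(V.valuation_le_one_iff _).1 ((pow_eq_one_iff.1 h1).resolve_right hp.ne_zero).le, ?_⟩
    rw [hθ'p, sub_self, map_zero]; exact zero_lt_one
  push Not at hna
  obtain ⟨r, hr⟩ := hna
  have hru : IsUnit r := IsLocalRing.notMem_maximalIdeal.1 fun h =>
    (he'u.map (IsLocalRing.residue A)).ne_zero (by rw [hr, (IsLocalRing.residue_eq_zero_iff r).2 h, zero_pow hp.ne_zero])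
  obtain ⟨s, hs⟩ : π ∣ e' * (↑hru.unit⁻¹ : A) ^ p - 1 := by
    rw [← Ideal.mem_span_singleton, ← hπ, ← IsLocalRing.residue_eq_zero_iff, map_sub, map_one, map_mul, map_pow,
      hr, ← mul_pow, ← map_mul, IsUnit.mul_val_inv, map_one, one_pow, sub_self]
  obtain ⟨N, hN⟩ : ∃ N, p * M = N + 1 := ⟨p * M - 1, by have := Nat.mul_pos hp.pos hM; omega⟩
  refine main N (algebraMap A K π * algebraMap A K s / algebraMap A K (1 - ζ) ^ p)
    ((θ' * algebraMap A L (↑hru.unit⁻¹ : A) - 1) / algebraMap A L (1 - ζ)) (by omega) ?_ ?_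
    ⟨(↑e⁻¹ : A) ^ p * s, ?_⟩
  · refine mul_left_cancel₀ (pow_ne_zero p hwL) ?_
    rw [heval, mul_div_cancel₀ _ hwL, add_sub_cancel, mul_pow, hθ'p, map_div₀,
      map_mul (algebraMap K L), map_pow (algebraMap K L),
      ← IsScalarTower.algebraMap_apply, ← IsScalarTower.algebraMap_apply, ← IsScalarTower.algebraMap_apply,
      mul_div_cancel₀ _ (pow_ne_zero p hwL), ← map_pow, ← map_mul, ← map_one (algebraMap A L), ← map_sub, hs, map_mul]
  · rw [eq_top_iff, ← hgen, IntermediateField.adjoin_simple_le_iff]
    generalize hz' : (θ' * algebraMap A L (↑hru.unit⁻¹ : A) - 1) / algebraMap A L (1 - ζ) = z'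
    have hmemA : ∀ a : A, algebraMap A L a ∈ IntermediateField.adjoin K {z'} := fun a => by
      rw [IsScalarTower.algebraMap_apply A K L]; exact IntermediateField.algebraMap_mem _ _
    have hru' : algebraMap A L (↑hru.unit⁻¹ : A) ≠ 0 := ((hru.unit⁻¹).isUnit.map _).ne_zero
    have he : z = ((algebraMap A L (1 - ζ) * z' + 1) / algebraMap A L (↑hru.unit⁻¹ : A) *
        algebraMap A L π ^ j' - 1) / algebraMap A L (1 - ζ) := by
      rw [← hz', mul_div_cancel₀ _ hwL, sub_add_cancel, mul_div_cancel_right₀ _ hru', hθ',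
        div_mul_cancel₀ _ (zpow_ne_zero _ hπL), hθ, add_sub_cancel_left, mul_div_cancel_left₀ _ hwL]
    rw [he]
    exact div_mem (sub_mem (mul_mem (div_mem (add_mem (mul_mem (hmemA _)
      (IntermediateField.mem_adjoin_simple_self K z')) (one_mem _)) (hmemA _)) (zpow_mem (hmemA _) _))
      (one_mem _)) (hmemA _)
  · have h3 : algebraMap A K (↑e⁻¹ : A) * algebraMap A K (e : A) = 1 := by
      rw [← map_mul, Units.inv_mul, map_one]
    rw [div_mul_eq_mul_div, div_eq_iff (pow_ne_zero p hwK), hwe, map_mul, map_mul, map_pow, map_pow, mul_pow,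
      ← pow_mul, mul_comm M p, hN, pow_succ]
    linear_combination -(algebraMap A K s * algebraMap A K π ^ N * algebraMap A K π) *
      (by rw [← mul_pow, h3, one_pow] : algebraMap A K (↑e⁻¹ : A) ^ p * algebraMap A K (e : A) ^ p = 1)

end Groth.Agent.S7159
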