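import Groth.Statements.S7165
import Groth.Agent.H1Ram.NoethClosure

set_option autoImplicit false
universe u
open EtAlg

namespace Groth.Agent.S7165

open TensorProduct in
/-- Let A → B be an injective local homomorphism of discrete valuation rings whose fields of fractions
are K ⊆ L, the A-algebra B being essentially of finite type. Let K' ⊇ K be an algebraic extension
field for which A', the integral closure of A in K', is a Noetherian ring, and let L' = (L ⊗_K
K')_red. Then B', the integral closure of B in L', is a Noetherian ring. (The published statement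
also asserts that Spec B' → Spec A' is surjective and that the residue field extensions are finitely
generated; this row states only that B' is Noetherian.) -/
theorem result (A B K L : Type u) [CommRing A] [IsDomain A]
    [IsDiscreteValuationRing A] [CommRing B] [IsDomain B] [IsDiscreteValuationRing B] [Algebra A B]
    (hinj : Function.Injective (algebraMap A B)) [IsLocalHom (algebraMap A B)] [Algebra.EssFiniteType A B]
    [Field K] [Field L] [Algebra A K] [IsFractionRing A K] [Algebra B L] [IsFractionRing B L]
    [Algebra K L] [Algebra A L] [IsScalarTower A K L] [IsScalarTower A B L]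
    (K' : Type u) [Field K'] [Algebra K K'] [Algebra A K'] [IsScalarTower A K K'] [Algebra.IsAlgebraic K K']
    (hA' : IsNoetherianRing (integralClosure A K'))
    (L' : Type u) [CommRing L'] [IsReduced L'] [Algebra K L'] [Algebra L L'] [Algebra K' L'] [Algebra B L']
    [IsScalarTower K L L'] [IsScalarTower K K' L'] [IsScalarTower B L L']
    (q : L ⊗[K] K' →ₐ[K] L') (hq : Function.Surjective q) (hker : RingHom.ker q.toRingHom = nilradical (L ⊗[K] K'))
    (hqL : ∀ y : L, q (y ⊗ₜ 1) = algebraMap L L' y) (hqK : ∀ z : K', q (1 ⊗ₜ z) = algebraMap K' L' z) :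
    IsNoetherianRing (integralClosure B L') := by
  haveI : Algebra.EssFiniteType B L := Algebra.EssFiniteType.of_isLocalization L (nonZeroDivisors B)
  haveI : Algebra.EssFiniteType A L := Algebra.EssFiniteType.comp A B L
  haveI : Algebra.EssFiniteType K L := Algebra.EssFiniteType.of_comp A K L
  haveI : IsNoetherianRing (L ⊗[K] K') := by
    haveI := Algebra.EssFiniteType.isNoetherianRing K' (K' ⊗[K] L)
    exact isNoetherianRing_of_ringEquiv _ (Algebra.TensorProduct.comm K K' L).toRingEquiv
  haveI : IsNoetherianRing L' := isNoetherianRing_of_surjective _ _ q.toRingHom hq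
  let qL : L ⊗[K] K' →ₐ[L] L' :=
    { q.toRingHom with
      commutes' := fun y => by
        show q (algebraMap L (L ⊗[K] K') y) = algebraMap L L' y
        rw [← hqL y]
        rfl }
  haveI : Algebra.IsIntegral L L' := Algebra.IsIntegral.of_surjective qL hq
  haveI : Ring.KrullDimLE 0 L' := Ring.KrullDimLE.mk₀ fun P hP =>
    Ideal.isMaximal_of_isIntegral_of_isMaximal_comap (R := L) P
      (by rw [Ideal.eq_bot_of_prime (P.comap (algebraMap L L'))]; exact Ideal.bot_isMaximal)
  haveI : IsArtinianRing L' := isArtinianRing_iff_krullDimLE_zero.2 inferInstance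
  refine Groth.Agent.H1Ram.NoethClosure.isNoetherianRing_integralClosure_of_artinian B L' fun I => ?_
  letI : Field (L' ⧸ I.asIdeal) := Ideal.Quotient.field I.asIdeal
  letI : Algebra A (L' ⧸ I.asIdeal) := ((algebraMap B (L' ⧸ I.asIdeal)).comp (algebraMap A B)).toAlgebra
  haveI : IsScalarTower A B (L' ⧸ I.asIdeal) := IsScalarTower.of_algebraMap_eq fun _ => rfl
  have hBF : ∀ b : B, algebraMap B (L' ⧸ I.asIdeal) b =
      Ideal.Quotient.mk I.asIdeal (algebraMap L L' (algebraMap B L b)) := fun b => by
    rw [← IsScalarTower.algebraMap_apply B L L']; rfl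
  have hAF : ∀ a : A, algebraMap A (L' ⧸ I.asIdeal) a =
      Ideal.Quotient.mk I.asIdeal (algebraMap K' L' (algebraMap A K' a)) := fun a => by
    rw [IsScalarTower.algebraMap_apply A K K', ← IsScalarTower.algebraMap_apply K K' L',
      IsScalarTower.algebraMap_apply K L L', ← IsScalarTower.algebraMap_apply A K L,
      IsScalarTower.algebraMap_apply A B L]
    exact hBF _
  haveI := hA'
  let g : integralClosure A K' →ₐ[A] L' ⧸ I.asIdeal :=
    { (Ideal.Quotient.mk I.asIdeal).comp ((algebraMap K' L').comp (integralClosure A K').val.toRingHom) with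
      commutes' := fun a => (hAF a).symm }
  refine Groth.Agent.H1Ram.NoethClosure.isNoetherianRing_integralClosure_field A B (integralClosure A K')
    (L' ⧸ I.asIdeal) ?_ g fun z => ?_
  · intro b b' h
    rw [hBF, hBF] at h
    exact IsFractionRing.injective B L
      (((Ideal.Quotient.mk I.asIdeal).comp (algebraMap L L')).injective h)
  · obtain ⟨z, rfl⟩ := Ideal.Quotient.mk_surjective z
    obtain ⟨w, rfl⟩ := hq z
    induction w with
    | zero => rw [map_zero, map_zero]; exact zero_mem _
    | add x y hx hy => rw [map_add, map_add]; exact add_mem hx hy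
    | tmul l k =>
      have e : l ⊗ₜ[K] k = (l ⊗ₜ 1) * (1 ⊗ₜ k) := by
        rw [Algebra.TensorProduct.tmul_mul_tmul, mul_one, one_mul]
      rw [e, map_mul, map_mul, hqL, hqK]
      refine mul_mem ?_ ?_
      · obtain ⟨b, s, -, rfl⟩ := IsFractionRing.div_surjective B l
        change ((Ideal.Quotient.mk I.asIdeal).comp (algebraMap L L')) _ ∈ _
        rw [map_div₀]
        exact div_mem (Subfield.subset_closure (Or.inl ⟨b, hBF b⟩))
          (Subfield.subset_closure (Or.inl ⟨s, hBF s⟩))
      · haveI : Algebra.IsAlgebraic A K' := (IsFractionRing.comap_isAlgebraic_iff (A := A) (K := K) (C := K')).2 inferInstance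
        obtain ⟨x, y, hy, hxy⟩ := (Algebra.IsAlgebraic.isAlgebraic (R := A) k).exists_integral_multiple
          |> fun ⟨y, hy, hint⟩ => (⟨⟨y • k, hint⟩, y, hy, rfl⟩ :
            ∃ (x : integralClosure A K') (y : A), y ≠ 0 ∧ (x : K') = y • k)
        have hy' : algebraMap A K' y ≠ 0 := by
          rw [IsScalarTower.algebraMap_apply A K K']
          simpa [IsFractionRing.to_map_eq_zero_iff] using hy
        have hk : k = (x : K') / algebraMap A K' y := by
          rw [hxy, Algebra.smul_def, mul_div_cancel_left₀ _ hy']
        rw [hk]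
        change ((Ideal.Quotient.mk I.asIdeal).comp (algebraMap K' L')) _ ∈ _
        rw [map_div₀]
        refine div_mem (Subfield.subset_closure (Or.inr ⟨x, rfl⟩))
          (Subfield.subset_closure (Or.inl ⟨algebraMap A B y, ?_⟩))
        exact (IsScalarTower.algebraMap_apply A B (L' ⧸ I.asIdeal) y).symm.trans (hAF y)

end Groth.Agent.S7165
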