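import Groth.Statements.S7177
import Groth.Agent.WEtLib.Basic
import Mathlib.AlgebraicGeometry.Morphisms.WeaklyEtale
import Mathlib.AlgebraicGeometry.Morphisms.Flat
import Mathlib.RingTheory.Flat.Localization
import Mathlib.RingTheory.Flat.Stability

set_option autoImplicit false
set_option backward.isDefEq.respectTransparency.types false
universe u
open FlatMor

namespace Groth.Agent.S7177

section
open TensorProduct

/-- a partition of the identity killing finitely many diagonal elements -/
theorem exists_splitting' {A B : Type u} [CommRing A] [CommRing B] [Algebra A B]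
    (hAB : (Algebra.TensorProduct.lmul' A (S := B)).Flat) (s : Finset B) :
    ∃ (k : ℕ) (u w : Fin k → B), ∑ i, u i * w i = 1 ∧
      ∀ b ∈ s, ∑ i, (b * u i) ⊗ₜ[A] w i = ∑ i, u i ⊗ₜ[A] (b * w i) := by
  classical
  haveI : (Groth.Agent.WEtLib.diag A B).Pure := by
    let μ := Algebra.TensorProduct.lmul' A (S := B)
    letI : Algebra (B ⊗[A] B) B := μ.toRingHom.toAlgebra
    haveI : Module.Flat (B ⊗[A] B) B := hAB
    let e := Ideal.quotientKerAlgEquivOfSurjective (f := Algebra.ofId (B ⊗[A] B) B)
      (fun b => ⟨b ⊗ₜ 1, show μ (b ⊗ₜ 1) = b by simp [μ]⟩)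
    exact Module.Flat.of_linearEquiv e.toLinearEquiv
  obtain ⟨e, he, hes⟩ := Groth.Agent.WEtLib.exists_killer (A := A) (B := B) (s.image fun b => b ⊗ₜ[A] 1 - 1 ⊗ₜ[A] b) fun z hz => by
    obtain ⟨b, _, rfl⟩ := Finset.mem_image.1 hz
    simp [RingHom.mem_ker]
  obtain ⟨k, u, w, rfl⟩ := TensorProduct.exists_sum_tmul_eq e
  refine ⟨k, u, w, by simpa [map_sum] using he, fun b hb => ?_⟩
  have h := hes _ (Finset.mem_image_of_mem _ hb)
  rw [sub_mul, sub_eq_zero, Finset.mul_sum, Finset.mul_sum] at h
  simpa [Algebra.TensorProduct.tmul_mul_tmul] using h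

/-- flatness over the base gives flatness over a weakly etale algebra -/
theorem flat_of_flat_lmul {A B : Type u} [CommRing A] [CommRing B] [Algebra A B]
    (hAB : (Algebra.TensorProduct.lmul' A (S := B)).Flat) (N : Type u) [AddCommGroup N] [Module A N] [Module B N]
    [IsScalarTower A B N] [Module.Flat A N] : Module.Flat B N := by
  classical
  refine Module.Flat.of_forall_isTrivialRelation fun {l f x} hfx => ?_
  obtain ⟨k, u, w, huw, hs⟩ := exists_splitting' hAB (Finset.univ.image f)
  -- the relation vanishes in `B ⊗[A] N`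
  have h0 : ∑ p : Fin l × Fin k, (f p.1 * u p.2) ⊗ₜ[A] (w p.2 • x p.1) = (0 : B ⊗[A] N) := by
    let ψ : ∀ n : N, B ⊗[A] B →ₗ[A] B ⊗[A] N := fun n =>
      TensorProduct.map LinearMap.id ((LinearMap.toSpanSingleton B N n).restrictScalars A)
    calc ∑ p : Fin l × Fin k, (f p.1 * u p.2) ⊗ₜ[A] (w p.2 • x p.1)
        = ∑ i, ψ (x i) (∑ j, (f i * u j) ⊗ₜ[A] w j) := by
          simp [ψ, Fintype.sum_prod_type]
      _ = ∑ i, ψ (x i) (∑ j, u j ⊗ₜ[A] (f i * w j)) := by
          refine Finset.sum_congr rfl fun i _ => ?_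
          rw [hs (f i) (Finset.mem_image_of_mem _ (Finset.mem_univ i))]
      _ = ∑ j, u j ⊗ₜ[A] (w j • ∑ i, f i • x i) := by
          simp only [ψ, map_sum, TensorProduct.map_tmul, LinearMap.id_apply, LinearMap.coe_restrictScalars,
            LinearMap.toSpanSingleton_apply, Finset.smul_sum, TensorProduct.tmul_sum]
          rw [Finset.sum_comm]
          refine Finset.sum_congr rfl fun j _ => Finset.sum_congr rfl fun i _ => ?_
          rw [smul_smul, mul_comm (w j)]
      _ = 0 := by simp [hfx]
  obtain ⟨q, a, y, hay, ha0⟩ := vanishesTrivially_of_sum_tmul_eq_zero_of_rTensor_injective A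
    (Module.Flat.rTensor_preserves_injective_linearMap _ Subtype.val_injective) h0
  refine ⟨q, fun i r => ∑ j, u j * algebraMap A B (a (i, j) r), y, fun i => ?_, fun r => ?_⟩
  · calc x i = (∑ j, u j * w j) • x i := by rw [huw, one_smul]
      _ = ∑ j, u j • (w j • x i) := by rw [Finset.sum_smul]; simp [mul_smul]
      _ = ∑ j, ∑ r, u j • (a (i, j) r • y r) := by
          refine Finset.sum_congr rfl fun j _ => ?_
          rw [show w j • x i = ∑ r, a (i, j) r • y r from hay (i, j), Finset.smul_sum]
      _ = _ := by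
          rw [Finset.sum_comm]
          refine Finset.sum_congr rfl fun r _ => ?_
          rw [Finset.sum_smul]
          refine Finset.sum_congr rfl fun j _ => ?_
          rw [mul_smul, algebraMap_smul]
  · rw [← ha0 r, Fintype.sum_prod_type]
    refine Finset.sum_congr rfl fun i _ => ?_
    rw [Finset.mul_sum]
    refine Finset.sum_congr rfl fun j _ => ?_
    rw [Algebra.smul_def]
    ring

end

open AlgebraicGeometry CategoryTheory Limits in
/-- Let f : X → Y have flat diagonal and let F be an O_X-module flat over Y. Then F is flat as an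
O_X-module. -/
theorem result {X Y : Scheme.{u}} (f : X ⟶ Y) [Flat (pullback.diagonal f)] (F : X.Modules)
    (hF : FlatMod.IsFlatOver f F) : FlatMod.IsFlat F := by
  intro x
  obtain ⟨U, hU, hxU, -⟩ := exists_isAffineOpen_mem_and_subset (X := Y) (x := f x) (U := ⊤) trivial
  obtain ⟨V, hV, hxV, hVU⟩ := exists_isAffineOpen_mem_and_subset (X := X) (x := x) (U := f ⁻¹ᵁ U) hxU
  let φ := f.appLE U V hVU
  letI := φ.hom.toAlgebra
  have hd : Flat (pullback.diagonal (Spec.map φ)) := by
    haveI : Flat (pullback.diagonal (hV.fromSpec ≫ f)) :=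
      MorphismProperty.comp_mem (MorphismProperty.diagonal (@Flat : MorphismProperty Scheme.{u})) _ _
        (show Flat (pullback.diagonal hV.fromSpec) from inferInstance)
        (show Flat (pullback.diagonal f) from inferInstance)
    have h1 : Flat (pullback.diagonal (Spec.map φ ≫ hU.fromSpec)) := by
      rw [IsAffineOpen.SpecMap_appLE_fromSpec f hU hV hVU]
      infer_instance
    let m := pullback.map (Spec.map φ) (Spec.map φ) (Spec.map φ ≫ hU.fromSpec) (Spec.map φ ≫ hU.fromSpec)
      (𝟙 _) (𝟙 _) hU.fromSpec (by simp) (by simp)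
    haveI : IsIso m := ⟨pullback.lift (pullback.fst _ _) (pullback.snd _ _)
      (by rw [← cancel_mono hU.fromSpec, Category.assoc, Category.assoc, pullback.condition]),
      by apply pullback.hom_ext <;> simp only [m, Category.assoc, pullback.lift_fst, pullback.lift_snd, pullback.lift_fst_assoc, pullback.lift_snd_assoc, Category.id_comp, Category.comp_id],
      by apply pullback.hom_ext <;> simp only [m, Category.assoc, pullback.lift_fst, pullback.lift_snd, pullback.lift_fst_assoc, pullback.lift_snd_assoc, Category.id_comp, Category.comp_id]⟩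
    have : pullback.diagonal (Spec.map φ ≫ hU.fromSpec) = pullback.diagonal (Spec.map φ) ≫ m := by
      apply pullback.hom_ext <;> simp only [m, Category.assoc, pullback.lift_fst, pullback.lift_snd, pullback.lift_fst_assoc, pullback.lift_snd_assoc, pullback.diagonal_fst, pullback.diagonal_snd, pullback.diagonal_fst_assoc, pullback.diagonal_snd_assoc, Category.id_comp, Category.comp_id]
    rw [this, MorphismProperty.cancel_right_of_respectsIso (P := (@Flat : MorphismProperty Scheme.{u}))] at h1
    exact h1
  have hmul : (Algebra.TensorProduct.lmul' Γ(Y, U) (S := Γ(X, V))).Flat := by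
    have hφ : φ = CommRingCat.ofHom (algebraMap Γ(Y, U) Γ(X, V)) := rfl
    rw [hφ, AlgebraicGeometry.diagonal_SpecMap, MorphismProperty.cancel_right_of_respectsIso (P := (@Flat : MorphismProperty Scheme.{u})),
      HasRingHomProperty.Spec_iff (P := (@Flat : MorphismProperty Scheme.{u}))] at hd
    exact hd
  letI := TopCat.Presheaf.algebra_section_stalk Y.presheaf (⟨f x, hxU⟩ : U)
  letI := TopCat.Presheaf.algebra_section_stalk X.presheaf (⟨x, hxV⟩ : V)
  haveI := hU.isLocalization_stalk ⟨f x, hxU⟩
  haveI := hV.isLocalization_stalk ⟨x, hxV⟩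
  letI := FlatMod.moduleStalkOver f F x
  haveI : Module.Flat (Y.presheaf.stalk (f x)) (F.presheaf.stalk x) := hF x
  letI : Module Γ(X, V) (F.presheaf.stalk x) := Module.compHom _ (algebraMap Γ(X, V) (X.presheaf.stalk x))
  haveI : IsScalarTower Γ(X, V) (X.presheaf.stalk x) (F.presheaf.stalk x) :=
    .of_algebraMap_smul fun _ _ => rfl
  letI : Module Γ(Y, U) (F.presheaf.stalk x) := Module.compHom _ (algebraMap Γ(Y, U) Γ(X, V))
  haveI : IsScalarTower Γ(Y, U) Γ(X, V) (F.presheaf.stalk x) := .of_algebraMap_smul fun _ _ => rfl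
  haveI : IsScalarTower Γ(Y, U) (Y.presheaf.stalk (f x)) (F.presheaf.stalk x) :=
    .of_algebraMap_smul fun a m => by
      show f.stalkMap x (Y.presheaf.germ U (f x) hxU a) • m = X.presheaf.germ V x hxV (f.appLE U V hVU a) • m
      rw [Scheme.Hom.germ_stalkMap_apply f U x hxU]
      exact congrArg (· • m) (X.presheaf.germ_res_apply (homOfLE hVU) x hxV (f.app U a)).symm
  haveI : Module.Flat Γ(Y, U) (Y.presheaf.stalk (f x)) :=
    IsLocalization.flat _ (hU.primeIdealOf ⟨f x, hxU⟩).asIdeal.primeCompl
  haveI : Module.Flat Γ(Y, U) (F.presheaf.stalk x) := Module.Flat.trans _ (Y.presheaf.stalk (f x)) _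
  have h2 : Module.Flat Γ(X, V) (F.presheaf.stalk x) :=
    flat_of_flat_lmul hmul (F.presheaf.stalk x)
  exact (Module.flat_iff_of_isLocalization (X.presheaf.stalk x)
    (hV.primeIdealOf ⟨x, hxV⟩).asIdeal.primeCompl _).2 h2

end Groth.Agent.S7177
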