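import Groth.Statements.S7186
import Groth.Agent.DescLocus.Main

set_option autoImplicit false
attribute [-instance] CategoryTheory.catToReflQuiver
set_option backward.isDefEq.respectTransparency false
set_option backward.isDefEq.respectTransparency.types false
universe u
open FlatMor

namespace Groth.Agent.S7186

open AlgebraicGeometry CategoryTheory Limits in
/-- Let f : X → S be flat, proper and of finite presentation such that O_T → (f_T)_* O_{X_T} is an
isomorphism for every base change T → S. Suppose E is an O_X-module that is finite locally free and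
whose restriction to each fibre X_s is free, and let S be reduced. Then E is isomorphic to the
pullback of a finite locally free O_S-module. -/
theorem result {X S : Scheme.{u}} (f : X ⟶ S) [Flat f] [IsProper f] [LocallyOfFinitePresentation f]
    (hO : ∀ (T : Scheme.{u}) (g : T ⟶ S) (U : T.Opens), IsIso ((pullback.snd f g).app U))
    (E : X.Modules) (hE : FlatMod.IsFinLocFree E)
    (hfib : ∀ s : S, ∃ r : ℕ, Nonempty ((Scheme.Modules.pullback (f.fiberι s)).obj E ≅ FlatMod.freeMod (f.fiber s) r))
    [IsReduced S] :
    ∃ N : S.Modules, FlatMod.IsFinLocFree N ∧ Nonempty ((Scheme.Modules.pullback f).obj N ≅ E) := by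
  obtain ⟨Z, j, hj, -, h3⟩ := Groth.Agent.DescLocus.exists_descentLocus f hO E hE
  haveI := hj
  have hsurj : Function.Surjective j := fun s => by
    obtain ⟨g', hg'⟩ := (h3 _ (S.fromSpecResidueField s)).2
      (Groth.Agent.DescLocus.locFreeP_of_freeP (f := f) (E := E) (u := S.fromSpecResidueField s) (hfib s))
    refine ⟨g' (IsLocalRing.closedPoint (S.residueField s)), ?_⟩
    rw [← Scheme.Hom.comp_apply, hg']
    exact S.fromSpecResidueField_apply s _
  haveI : Surjective j := ⟨hsurj⟩
  haveI : IsClosedImmersion j :=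
    IsClosedImmersion.of_isPreimmersion j (by
      rw [Function.Surjective.range_eq hsurj]
      exact isClosed_univ)
  haveI : IsIso j := isIso_of_isClosedImmersion_of_surjective j
  obtain ⟨N, hN, ⟨e⟩⟩ := (Groth.Agent.DescLocus.exists_pullback_iff hO (𝟙 S)).2 ((h3 S (𝟙 S)).1 ⟨inv j, IsIso.inv_hom_id j⟩)
  let s : X ⟶ pullback f (𝟙 S) := pullback.lift (𝟙 X) f (by simp)
  have hs1 : s ≫ pullback.fst f (𝟙 S) = 𝟙 X := pullback.lift_fst _ _ _
  have hs2 : s ≫ pullback.snd f (𝟙 S) = f := pullback.lift_snd _ _ _
  exact ⟨N, hN, ⟨(Scheme.Modules.pullbackCongr hs2.symm).app N ≪≫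
    ((Scheme.Modules.pullbackComp s (pullback.snd f (𝟙 S))).app N).symm ≪≫
    (Scheme.Modules.pullback s).mapIso e ≪≫ (Scheme.Modules.pullbackComp s (pullback.fst f (𝟙 S))).app E ≪≫
    (Scheme.Modules.pullbackCongr hs1).app E ≪≫ (Scheme.Modules.pullbackId X).app E⟩⟩

end Groth.Agent.S7186
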