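import Groth.Statements.S7189
import Groth.Agent.ProdTriv.Main

set_option autoImplicit false
attribute [-instance] CategoryTheory.catToReflQuiver
set_option backward.isDefEq.respectTransparency false
set_option backward.isDefEq.respectTransparency.types false
universe u
open FlatMor

namespace Groth.Agent.S7189

open AlgebraicGeometry CategoryTheory Limits in
/-- Let f : X → S and g : Y → S be flat, proper, of finite presentation, each with O_T → (·_T)_* O an
isomorphism after every base change, with sections σ and τ; let s be a point of S and L an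
invertible module on X ×_S Y. If L pulls back to a trivial module along X → X ×_S Y, x ↦ (x,
τ(f(x))) and along Y → X ×_S Y, y ↦ (σ(g(y)), y), and L is trivial on the fibre of X ×_S Y over s,
then there is an open neighbourhood U of s over whose preimage L is trivial. -/
theorem result {X Y S : Scheme.{u}} (f : X ⟶ S) (g : Y ⟶ S)
    [Flat f] [IsProper f] [LocallyOfFinitePresentation f] [Flat g] [IsProper g] [LocallyOfFinitePresentation g]
    (hOf : ∀ (T : Scheme.{u}) (t : T ⟶ S) (U : T.Opens), IsIso ((pullback.snd f t).app U))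
    (hOg : ∀ (T : Scheme.{u}) (t : T ⟶ S) (U : T.Opens), IsIso ((pullback.snd g t).app U))
    (σ : S ⟶ X) (hσ : σ ≫ f = 𝟙 S) (τ : S ⟶ Y) (hτ : τ ≫ g = 𝟙 S) (s : S)
    (L : (pullback f g).Modules) (hL : PicF.IsInvertible L)
    (u : X ⟶ pullback f g) (hu1 : u ≫ pullback.fst f g = 𝟙 X) (hu2 : u ≫ pullback.snd f g = f ≫ τ)
    (v : Y ⟶ pullback f g) (hv1 : v ≫ pullback.fst f g = g ≫ σ) (hv2 : v ≫ pullback.snd f g = 𝟙 Y)
    (h1 : Nonempty ((Scheme.Modules.pullback u).obj L ≅ Coh.structureModule X))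
    (h2 : Nonempty ((Scheme.Modules.pullback v).obj L ≅ Coh.structureModule Y))
    (h3 : Nonempty ((Scheme.Modules.pullback ((pullback.fst f g ≫ f).fiberι s)).obj L ≅ Coh.structureModule ((pullback.fst f g ≫ f).fiber s))) :
    ∃ U : S.Opens, s ∈ U ∧ Nonempty (L.restrict ((pullback.fst f g ≫ f) ⁻¹ᵁ U).ι ≅ Coh.structureModule ((pullback.fst f g ≫ f) ⁻¹ᵁ U).toScheme) := by
  obtain ⟨U, hsU, hF⟩ := Groth.Agent.ProdTriv.exists_nhd f g hOf hOg σ hσ τ hτ hL hu1 hu2 hv1 hv2 h1 h2 s h3
  let π := pullback.fst f g ≫ f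
  haveI : Nonempty (π ⁻¹ᵁ U : (pullback f g).Opens) := by
    haveI := Groth.Agent.ProdTriv.bijective_app_prod f g hOf hOg _ (S.fromSpecResidueField s) ⊤
    haveI : IsIso (pullback.snd π (S.fromSpecResidueField s)).appTop := this
    obtain ⟨z⟩ := Groth.Agent.DescLocus.nonempty_of_nontrivial (B := S.residueField s)
      (pB := pullback.snd π (S.fromSpecResidueField s)) (ConcreteCategory.bijective_of_isIso _)
    refine ⟨⟨pullback.fst π (S.fromSpecResidueField s) z, ?_⟩⟩
    show π (pullback.fst π (S.fromSpecResidueField s) z) ∈ U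
    rw [← Scheme.Hom.comp_apply, pullback.condition, Scheme.Hom.comp_apply]
    exact (S.fromSpecResidueField_apply s _).symm ▸ hsU
  have hF' := hF.of_factor (pullback.lift (π ⁻¹ᵁ U).ι (π ∣_ U) (morphismRestrict_ι π U).symm) (pullback.lift_fst _ _ _)
  obtain ⟨i⟩ := Groth.Agent.ProdTriv.triv_of_freeP hL hF' ‹_›
  exact ⟨U, hsU, ⟨(Scheme.Modules.restrictFunctorIsoPullback _).app L ≪≫ i⟩⟩

end Groth.Agent.S7189
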