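import Groth.Statements.S7191
import Groth.Agent.CDLim.Basic
import Groth.Agent.MorLib.LimCons

set_option autoImplicit false
set_option backward.isDefEq.respectTransparency false
set_option linter.style.haveILetI false
attribute [-instance] CategoryTheory.catToReflQuiver
universe u
open CategoryTheory AlgebraicGeometry
open FlatMor

namespace Groth.Agent.S7191
open CategoryTheory.Limits

/-- Let S = lim S_i be a cofiltered limit of schemes with affine transition morphisms, f₀ : X₀ → Y₀ a
morphism over some S_{i₀} with Y₀ quasi-compact and quasi-separated and f₀ locally of finite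
presentation, and f : X → Y its base change to S. If f is completely decomposed (every point of Y is
the image of a point of X with the same residue field), then some base change f_i : X_i → Y_i of f₀
to an S_i, i → i₀, is completely decomposed. -/
theorem result {I : Type u} [SmallCategory I] [IsCofiltered I]
    (D : I ⥤ Scheme.{u}) (c : Limits.Cone D) (hc : Limits.IsLimit c)
    [∀ (i j : I) (a : i ⟶ j), IsAffineHom (D.map a)]
    (i0 : I) {X0 Y0 X Y : Scheme.{u}} (f0 : X0 ⟶ Y0) (q0 : Y0 ⟶ D.obj i0) [CompactSpace ↥Y0] [QuasiSeparatedSpace ↥Y0]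
    [LocallyOfFinitePresentation f0]
    (f : X ⟶ Y) (q : Y ⟶ c.pt) (pY : Y ⟶ Y0) (pX : X ⟶ X0)
    (hY : IsPullback pY q q0 (c.π.app i0)) (hX : IsPullback pX f f0 pY)
    (hcd : ∀ y : Y, ∃ x : X, f x = y ∧ Function.Bijective (f.residueFieldMap x)) :
    ∃ (i : I) (a : i ⟶ i0) (Xi Yi : Scheme.{u}) (fi : Xi ⟶ Yi) (qi : Yi ⟶ D.obj i) (pYi : Yi ⟶ Y0) (pXi : Xi ⟶ X0),
      IsPullback pYi qi q0 (D.map a) ∧ IsPullback pXi fi f0 pYi ∧
      ∀ y : Yi, ∃ x : Xi, fi x = y ∧ Function.Bijective (fi.residueFieldMap x) := by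
  let E := MorLib.BC.diag D q0
  let cE : Cone E := MorLib.BC.cone D q0 hY
  have hcE : IsLimit cE := MorLib.BC.isLimitCone D q0 hY hc
  haveI : ∀ {j k : Over i0} (g : j ⟶ k), IsAffineHom (E.map g) := fun g => MorLib.BC.isAffineHom_map D q0 g
  haveI : CompactSpace (E.obj (Over.mk (𝟙 i0))) := MorLib.BC.compactSpace_obj D q0 _
  let pj := MorLib.BC.toStart D q0
  have hp : ∀ j, cE.π.app j ≫ pj.app j = pY := fun j => MorLib.BC.proj_fst D q0 hY j
  have hall : ∀ y : Y, y ∈ CDLim.Dec f0 pY := by
    intro y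
    obtain ⟨x, hx, hb⟩ := hcd y
    subst hx
    haveI : IsIso (f.residueFieldMap x) := (ConcreteCategory.isIso_iff_bijective _).2 hb
    refine ⟨Spec.map (inv (f.residueFieldMap x)) ≫ X.fromSpecResidueField x ≫ pX, ?_⟩
    rw [Category.assoc, Category.assoc, hX.w, ← Scheme.Hom.SpecMap_residueFieldMap_fromSpecResidueField_assoc,
      ← Category.assoc, ← Spec.map_comp, IsIso.hom_inv_id, Spec.map_id, Category.id_comp]
  obtain ⟨i, -, hi⟩ := (MorLib.LimPro.subset_iff hcE (Over.mk (𝟙 i0)) (fun _ => Set.univ)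
    (fun j => CDLim.Dec f0 (pj.app j)) (fun _ _ => Groth.Agent.MorLib.LimCons.pro_univ)
    (fun j _ => CDLim.isIndConstructible_dec (pj.app j)) (fun _ _ _ => Set.subset_preimage_univ)
    (fun j k g z hz => by
      have := CDLim.preimage_dec_subset f0 (E.map g) (pj.app k) hz
      have e : E.map g ≫ pj.app k = pj.app j := MorLib.BC.map_fst D q0 g
      rwa [e] at this)).1 (fun y _ => by
      obtain ⟨j, hj⟩ := CDLim.exists_stage hcE pj pY hp (hall y)
      exact Set.mem_iUnion.2 ⟨j, hj⟩)
  refine ⟨i.left, i.hom, pullback f0 (pullback.fst q0 (D.map i.hom)), pullback q0 (D.map i.hom),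
    pullback.snd _ _, pullback.snd _ _, pullback.fst _ _, pullback.fst _ _,
    IsPullback.of_hasPullback _ _, IsPullback.of_hasPullback _ _, fun y => ?_⟩
  obtain ⟨m, hm⟩ := hi i (𝟙 i) (Set.mem_univ (show E.obj i from y))
  let m' := pullback.lift m ((pullback q0 (D.map i.hom)).fromSpecResidueField y) hm
  let x := m' (IsLocalRing.closedPoint _)
  let g := pullback.snd f0 (pullback.fst q0 (D.map i.hom))
  have hm's : m' ≫ g = (pullback q0 (D.map i.hom)).fromSpecResidueField y := pullback.lift_snd _ _ _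
  have hx : g x = y := by
    exact ((Scheme.Hom.comp_apply m' g _).symm.trans (congrArg (fun k => k (IsLocalRing.closedPoint _)) hm's)).trans
      (Scheme.fromSpecResidueField_apply y _)
  refine ⟨x, hx, ?_⟩
  exact CDLim.bijective_residueFieldMap_of_lift g m' hm's

end Groth.Agent.S7191
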