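import Groth.Statements.S7199
import Groth.Agent.VarDim.Basic
import Mathlib.RingTheory.AlgebraicIndependent.Transcendental
import Mathlib.RingTheory.Ideal.KrullsHeightTheorem
import Mathlib.Algebra.MvPolynomial.Funext

set_option autoImplicit false
universe u
open FlatMor

namespace Groth.Agent.S7199

/-- A generic linear form in elements, one of them transcendental, is transcendental over the polynomial ring. -/
theorem aeval_linearForm_ne_zero {R L : Type*} [CommRing R] [IsDomain R] [Infinite R] [CommRing L] [IsDomain L]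
    [Algebra R L] [FaithfulSMul R L] {n : ℕ} (s : Fin n → L) (i₁ : Fin n) (hs : Transcendental R (s i₁))
    (P : Polynomial (MvPolynomial (Fin n) R))
    (hP : P.eval₂ (MvPolynomial.map (algebraMap R L)) (∑ i, MvPolynomial.C (s i) * MvPolynomial.X i) = 0) :
    P = 0 := by
  classical
  have hgood : ∀ a : Fin n → R, Transcendental R (∑ i, algebraMap R L (a i) * s i) → ∀ j,
      MvPolynomial.eval a (P.coeff j) = 0 := by
    intro a ha j
    have h1 := congrArg (MvPolynomial.eval fun i => algebraMap R L (a i)) hP
    rw [map_zero, Polynomial.hom_eval₂] at h1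
    have hc : (MvPolynomial.eval fun i => algebraMap R L (a i)).comp (MvPolynomial.map (algebraMap R L)) =
        (algebraMap R L).comp (MvPolynomial.eval a) :=
      MvPolynomial.ringHom_ext (fun r => by simp) (fun i => by simp)
    rw [hc, ← Polynomial.eval₂_map] at h1
    simp only [map_sum, map_mul, MvPolynomial.eval_C, MvPolynomial.eval_X] at h1
    have h2 : Polynomial.aeval (∑ i, algebraMap R L (a i) * s i) (P.map (MvPolynomial.eval a)) = 0 := by
      rw [Polynomial.aeval_def]
      simpa only [mul_comm (algebraMap R L _)] using h1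
    have h3 : P.map (MvPolynomial.eval a) = 0 := by
      by_contra h0
      exact ha ⟨_, h0, h2⟩
    rw [← Polynomial.coeff_map, h3, Polynomial.coeff_zero]
  refine Polynomial.ext fun j => ?_
  rw [Polynomial.coeff_zero]
  refine MvPolynomial.funext fun a => ?_
  rw [map_zero]
  let b : R → Fin n → R := fun t => a + t • Pi.single i₁ 1
  let Q : Polynomial R := MvPolynomial.aeval (fun i => Polynomial.C (a i) + Polynomial.X * Polynomial.C (Pi.single i₁ (1 : R) i)) (P.coeff j)
  have hQ : ∀ t, Q.eval t = MvPolynomial.eval (b t) (P.coeff j) := fun t => by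
    show Polynomial.evalRingHom t (MvPolynomial.aeval _ (P.coeff j)) = _
    rw [MvPolynomial.aeval_def, MvPolynomial.eval₂_comp_left]
    refine congrFun (congrArg DFunLike.coe (MvPolynomial.ringHom_ext (f := MvPolynomial.eval₂Hom _ _) (g := MvPolynomial.eval (b t))
      (fun r => by simp) (fun i => by simp [b, Pi.single_apply]; split_ifs <;> simp))) _
  have hbad : Set.Subsingleton {t : R | IsAlgebraic R (∑ i, algebraMap R L (b t i) * s i)} := by
    intro t ht t' ht'
    by_contra hne
    have h1 := ht.sub ht'
    have h2 : ∑ i, algebraMap R L (b t i) * s i - ∑ i, algebraMap R L (b t' i) * s i = algebraMap R L (t - t') * s i₁ := by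
      rw [← Finset.sum_sub_distrib, Finset.sum_eq_single i₁]
      · simp [b]; ring
      · intro i _ hi
        simp [b, hi]
      · simp
    rw [h2, ← Algebra.smul_def] at h1
    exact hs ((IsAlgebraic.of_smul (mem_nonZeroDivisors_of_ne_zero (sub_ne_zero.2 hne)) h1))
  have hQ0 : Q = 0 := by
    refine Polynomial.eq_zero_of_infinite_isRoot Q (Set.Infinite.mono ?_ hbad.finite.infinite_compl)
    intro t ht
    show Q.eval t = 0
    rw [hQ]
    exact hgood _ ht j
  have h0 := hQ 0
  rw [hQ0, Polynomial.eval_zero] at h0
  simpa [b] using h0.symm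

/-- Take a field k, an integral domain A that is a finitely generated k-algebra, n ≥ 2 and g_1, …, g_n ∈
A, and suppose some irreducible component of the common zero locus of g_1 and g_2 in Spec A has
dimension dim A − 2. Then for suitable c_1, …, c_n ∈ k the n + 2 elements x_1, …, x_n, Σ g_i x_i, Σ
c_i g_i of the rational function field Frac(A)(x_1, …, x_n) form an algebraically independent family
over k. -/
theorem result {k A : Type u} [Field k] [CommRing A] [IsDomain A] [Algebra k A]
    [Algebra.FiniteType k A] (m : ℕ) (g : Fin (m + 2) → A)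
    (p : Ideal A) (hp : p ∈ (Ideal.span {g 0, g 1}).minimalPrimes) (hdim : ringKrullDim (A ⧸ p) + 2 = ringKrullDim A) :
    ∃ c : Fin (m + 2) → k,
      AlgebraicIndependent k
        (Sum.elim
          (fun i : Fin (m + 2) => algebraMap (MvPolynomial (Fin (m + 2)) (FractionRing A)) (FractionRing (MvPolynomial (Fin (m + 2)) (FractionRing A))) (MvPolynomial.X i))
          ![∑ i, algebraMap A (FractionRing (MvPolynomial (Fin (m + 2)) (FractionRing A))) (g i) *
              algebraMap (MvPolynomial (Fin (m + 2)) (FractionRing A)) (FractionRing (MvPolynomial (Fin (m + 2)) (FractionRing A))) (MvPolynomial.X i),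
            algebraMap A (FractionRing (MvPolynomial (Fin (m + 2)) (FractionRing A))) (∑ i, c i • g i)]) := by
  classical
  haveI hpp : p.IsPrime := hp.1.1
  haveI : IsNoetherianRing A := Algebra.FiniteType.isNoetherianRing k A
  have hmem : ∀ i ∈ ({0, 1} : Set (Fin (m + 2))), g i ∈ p := fun i hi => hp.1.2 (Ideal.subset_span (by
    rcases hi with rfl | rfl <;> simp))
  -- the height of `p` is two
  obtain ⟨d, hd, -⟩ := VarDim.exists_dim_eq_trdeg k A
  have hht : p.height = 2 := by
    have h1 := VarDim.height_add_coheight_eq k d A hd ⟨p, hpp⟩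
    have h2 := VarDim.coheight_eq_ringKrullDim_quotient (⟨p, hpp⟩ : PrimeSpectrum A)
    simp only at h2
    rw [← h2, hd] at hdim
    have h3 : Order.coheight (⟨p, hpp⟩ : PrimeSpectrum A) + 2 = (d : ℕ∞) :=
      WithBot.coe_injective (by rw [WithBot.coe_add]; exact hdim)
    rw [← PrimeSpectrum.height_eq_orderHeight, ← h3, add_comm] at h1
    obtain ⟨c, hc⟩ := ENat.ne_top_iff_exists.1 (fun h => by rw [h, top_add] at h3; exact ENat.top_ne_natCast d h3 :
      Order.coheight (⟨p, hpp⟩ : PrimeSpectrum A) ≠ ⊤)
    rw [← hc, show Ideal.height (⟨p, hpp⟩ : PrimeSpectrum A).asIdeal = p.height from rfl] at h1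
    revert h1
    generalize p.height = h
    cases h with
    | top =>
      intro h1
      rw [add_top] at h1
      exact absurd h1.symm (by norm_cast)
    | coe h => intro h1; norm_cast at h1 ⊢; omega
  have hprinc : ∀ y : A, p ∉ (Ideal.span {y}).minimalPrimes := fun y hy => by
    have := Ideal.height_le_card_of_mem_minimalPrimes_span_finset (s := {y}) (by simpa using hy)
    rw [hht, Finset.card_singleton] at this
    norm_cast at this
  -- `g 0` is transcendental
  have hg0 : Transcendental k (g 0) := by
    intro halg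
    by_cases h0 : g 0 = 0
    · refine hprinc (g 1) ?_
      have : Ideal.span {g 0, g 1} = Ideal.span {g 1} := by rw [h0, Ideal.span_insert_zero]
      exact this ▸ hp
    · obtain ⟨r, hr, hdvd⟩ := halg.exists_nonzero_dvd (mem_nonZeroDivisors_of_ne_zero h0)
      exact hpp.ne_top (p.eq_top_of_isUnit_mem (hmem 0 (by simp))
        (isUnit_of_dvd_unit hdvd ((Ne.isUnit hr).map (algebraMap k A))))
  let R₀ := Algebra.adjoin k ({g 0} : Set A)
  haveI : Infinite R₀ := Infinite.of_injective
    (fun P : Polynomial k => (⟨Polynomial.aeval (g 0) P, Polynomial.aeval_mem_adjoin_singleton k (g 0)⟩ : R₀))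
    (fun P Q h => (transcendental_iff_injective.1 hg0) (congrArg Subtype.val h))
  -- `g 1` is transcendental over `k[g 0]`
  have hg1 : Transcendental R₀ (g 1) := by
    intro halg
    have hne : g 1 ≠ 0 := fun h1 => hprinc (g 0) (by
      have : Ideal.span {g 0, g 1} = Ideal.span {g 0} := by rw [h1, Set.pair_comm, Ideal.span_insert_zero]
      exact this ▸ hp)
    obtain ⟨⟨r, hr⟩, hr0, hdvd⟩ := halg.exists_nonzero_dvd (mem_nonZeroDivisors_of_ne_zero hne)
    change g 1 ∣ r at hdvd
    obtain ⟨b, rfl⟩ := (Algebra.adjoin_singleton_eq_range_aeval k (g 0)).le hr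
    have hb : b ≠ 0 := fun h => hr0 (Subtype.ext (by
      show Polynomial.aeval (g 0) b = 0
      rw [h, map_zero]))
    obtain ⟨c, hc, hcX⟩ := Polynomial.exists_eq_pow_rootMultiplicity_mul_and_not_dvd b hb 0
    rw [map_zero, sub_zero] at hc hcX
    generalize Polynomial.rootMultiplicity 0 b = e at hc
    change g 1 ∣ Polynomial.aeval (g 0) b at hdvd
    rw [hc, map_mul, map_pow, Polynomial.aeval_X] at hdvd
    have hcp : Polynomial.aeval (g 0) c ∉ p := fun h => by
      have hc0 : c.coeff 0 ≠ 0 := fun h0 => hcX (Polynomial.X_dvd_iff.2 h0)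
      obtain ⟨c', hc'⟩ := Polynomial.X_dvd_sub_C (p := c)
      have h2 : algebraMap k A (c.coeff 0) = Polynomial.aeval (g 0) c - g 0 * Polynomial.aeval (g 0) c' := by
        have := congrArg (Polynomial.aeval (g 0)) hc'
        rw [map_sub, map_mul, Polynomial.aeval_X, Polynomial.aeval_C] at this
        rw [← this]; ring
      exact hpp.ne_top (p.eq_top_of_isUnit_mem (h2 ▸ p.sub_mem h (p.mul_mem_right _ (hmem 0 (by simp))))
        ((Ne.isUnit hc0).map (algebraMap k A)))
    refine hprinc (g 1) ⟨⟨hpp, Ideal.span_le.2 (by simpa using hmem 1 (by simp))⟩, fun q hq hqp => ?_⟩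
    refine hp.2 ⟨hq.1, Ideal.span_le.2 ?_⟩ hqp
    have h1q : g 1 ∈ q := hq.2 (Ideal.mem_span_singleton_self _)
    have h0q : g 0 ∈ q := by
      haveI := hq.1
      exact hq.1.mem_of_pow_mem e ((hq.1.mem_or_mem (q.mem_of_dvd hdvd h1q)).resolve_right fun h => hcp (hqp h))
    rintro z (rfl | rfl) <;> assumption
  -- assemble
  refine ⟨(Pi.single 0 1 : Fin (m + 2) → k), ?_⟩
  have hsum : ∑ i, ((Pi.single 0 1 : Fin (m + 2) → k) i) • g i = g 0 := by
    rw [Finset.sum_eq_single 0 (fun i _ hi => by simp [hi]) (by simp)]
    simp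
  rw [hsum]
  let L := FractionRing A
  let MP := MvPolynomial (Fin (m + 2)) L
  let F := FractionRing MP
  have hg1L : Transcendental R₀ (algebraMap A L (g 1)) :=
    (transcendental_algebraMap_iff (IsFractionRing.injective A L)).2 hg1
  haveI : FaithfulSMul R₀ L := (faithfulSMul_iff_algebraMap_injective _ _).2
    ((IsFractionRing.injective A L).comp Subtype.val_injective)
  let S : MP := ∑ i, MvPolynomial.C (algebraMap A L (g i)) * MvPolynomial.X i
  let y : Option (Fin (m + 2)) → F := fun o => o.elim (algebraMap MP F S) fun i => algebraMap MP F (MvPolynomial.X i)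
  have hy : AlgebraicIndependent R₀ y := by
    refine (injective_iff_map_eq_zero _).2 fun Q hQ => ?_
    let e := MvPolynomial.optionEquivLeft R₀ (Fin (m + 2))
    have hcomp : (MvPolynomial.aeval y : MvPolynomial (Option (Fin (m + 2))) R₀ →ₐ[R₀] F).toRingHom =
        ((algebraMap MP F).comp (Polynomial.eval₂RingHom (MvPolynomial.map (algebraMap R₀ L)) S)).comp
          e.toAlgHom.toRingHom := by
      refine MvPolynomial.ringHom_ext (fun r => ?_) fun o => ?_
      · simp [e, MvPolynomial.optionEquivLeft_C, MvPolynomial.map_C, IsScalarTower.algebraMap_apply R₀ MP F,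
          IsScalarTower.algebraMap_apply R₀ L MP]
        exact (MvPolynomial.map_C _ r).symm
      · cases o <;> simp [e, y, MvPolynomial.optionEquivLeft_X_none, MvPolynomial.optionEquivLeft_X_some,
          MvPolynomial.map_X]
        exact (MvPolynomial.map_X _ _).symm
    have h1 : algebraMap MP F ((e Q).eval₂ (MvPolynomial.map (algebraMap R₀ L)) S) = 0 :=
      (DFunLike.congr_fun hcomp Q).symm.trans hQ
    rw [map_eq_zero_iff _ (IsFractionRing.injective MP F)] at h1
    exact e.injective ((aeval_linearForm_ne_zero _ 1 hg1L _ h1).trans (map_zero e).symm)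
  let x : Fin 1 → F := fun _ => algebraMap A F (g 0)
  have hx : AlgebraicIndependent k x := by
    refine algebraicIndependent_unique_type_iff.2 ?_
    have hinjA : Function.Injective (algebraMap A F) := by
      rw [IsScalarTower.algebraMap_eq A MP F, IsScalarTower.algebraMap_eq A L MP]
      exact (IsFractionRing.injective MP F).comp ((MvPolynomial.C_injective _ L).comp (IsFractionRing.injective A L))
    exact (transcendental_algebraMap_iff hinjA).2 hg0
  have key : AlgebraicIndependent k (Sum.elim y x) := hx.sumElim_of_tower (S := R₀) (by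
    rintro _ ⟨_, rfl⟩
    exact ⟨⟨g 0, Algebra.subset_adjoin rfl⟩, rfl⟩) hy
  let σ : Fin (m + 2) ⊕ Fin 2 → Option (Fin (m + 2)) ⊕ Fin 1 :=
    Sum.elim (fun i => Sum.inl (some i)) ![Sum.inl none, Sum.inr 0]
  have hσ : Function.Injective σ := by
    rintro (a | a) (b | b) h
    · simpa [σ] using h
    · fin_cases b <;> simp [σ] at h
    · fin_cases a <;> simp [σ] at h
    · fin_cases a <;> fin_cases b <;> simp [σ] at h ⊢
  convert key.comp σ hσ using 1
  funext i
  rcases i with i | i
  · rfl
  · fin_cases i
    · simp [σ, y, S, map_sum, IsScalarTower.algebraMap_apply A MP F, IsScalarTower.algebraMap_apply A L MP, MP, L, F]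
    · simp [σ, x, F, MP, L]

end Groth.Agent.S7199
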