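import Groth.Statements.S7204


set_option autoImplicit false
universe w u
open FlatMor

namespace Groth.Agent.S7204

open AlgebraicGeometry CategoryTheory Limits in
/-- Let (X_i)_{i ∈ I} be a diagram of schemes and (W, X_i → W) a cocone under it. If there is an fpqc
covering {W_a → W} such that each W_a is the colimit (in schemes) of the base-changed diagram (X_i
×_W W_a), and each W_a ×_W W_b is the colimit of (X_i ×_W W_a ×_W W_b), then W is the colimit of
(X_i) in the category of schemes. -/
theorem result {J : Type u} [SmallCategory J] (D : J ⥤ Scheme.{u}) (c : Cocone D)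
    (F : PreZeroHypercover.{w} c.pt) (hF : F.presieve₀ ∈ Scheme.fpqcPrecoverage c.pt)
    (h1 : ∀ a : F.I₀, Nonempty (IsColimit ((Over.forgetCocone (F.X a)).whisker
      (D.toOver c.pt (fun j => c.ι.app j) (fun g => c.w g) ⋙ Over.pullback (F.f a)))))
    (h2 : ∀ a b : F.I₀, Nonempty (IsColimit ((Over.forgetCocone (pullback (F.f a) (F.f b))).whisker
      (D.toOver c.pt (fun j => c.ι.app j) (fun g => c.w g) ⋙ Over.pullback (pullback.fst (F.f a) (F.f b) ≫ F.f a))))) :
    Nonempty (IsColimit c) := by
  classical
  let H1 := fun a => (h1 a).some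
  let H2 := fun a b => (h2 a b).some
  have hsheaf : ∀ T : Scheme.{u}, (Presieve.ofArrows F.X F.f).IsSheafFor (yoneda.obj T) := by
    intro T
    exact (GrothendieckTopology.Subcanonical.isSheaf_of_isRepresentable (J := Scheme.fpqcTopology)
      (yoneda.obj T)).isSheafFor _ (Precoverage.generate_mem_toGrothendieck hF)
  have hsep : ∀ (T : Scheme.{u}) (j : J) (p q : D.obj j ⟶ T),
      (∀ a, pullback.fst (c.ι.app j) (F.f a) ≫ p = pullback.fst (c.ι.app j) (F.f a) ≫ q) → p = q := by
    intro T j p q hpq
    refine (((GrothendieckTopology.Subcanonical.isSheaf_of_isRepresentable (J := Scheme.fpqcTopology)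
      (yoneda.obj T)) _ (Scheme.fpqcTopology.pullback_stable (c.ι.app j)
        (Precoverage.generate_mem_toGrothendieck hF))).isSeparatedFor.ext ?_)
    rintro Y g ⟨Z, v, m, hm, hv⟩
    obtain ⟨a⟩ := hm
    show g ≫ p = g ≫ q
    have : g = pullback.lift g v hv.symm ≫ pullback.fst (c.ι.app j) (F.f a) :=
      (pullback.lift_fst _ _ _).symm
    rw [this, Category.assoc, Category.assoc, hpq a]
  have hmap : ∀ {Y : Scheme.{u}} (m : Y ⟶ c.pt) {j k : J} (g : j ⟶ k),
      ((D.toOver c.pt (fun j => c.ι.app j) (fun g => c.w g) ⋙ Over.pullback m).map g).left ≫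
        pullback.fst (c.ι.app k) m = pullback.fst (c.ι.app j) m ≫ D.map g := by
    intro Y m j k g
    exact pullback.lift_fst _ _ _
  let cc : ∀ (s : Cocone D) {Y : Scheme.{u}} (m : Y ⟶ c.pt),
      Cocone ((D.toOver c.pt (fun j => c.ι.app j) (fun g => c.w g) ⋙ Over.pullback m) ⋙ Over.forget Y) :=
    fun s {Y} m => { pt := s.pt
                     ι := { app := fun j => pullback.fst (c.ι.app j) m ≫ s.ι.app j
                            naturality := fun j k g => by
                              refine Eq.trans ?_ (Category.comp_id _).symm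
                              exact (reassoc_of% (hmap m g)) (s.ι.app k) |>.trans
                                (congrArg (pullback.fst (c.ι.app j) m ≫ ·) (s.w g)) } }
  let t : ∀ (s : Cocone D) (a : F.I₀), F.X a ⟶ s.pt := fun s a => (H1 a).desc (cc s (F.f a))
  have ht : ∀ (s : Cocone D) (a : F.I₀) (j : J),
      pullback.snd (c.ι.app j) (F.f a) ≫ t s a = pullback.fst (c.ι.app j) (F.f a) ≫ s.ι.app j :=
    fun s a j => (H1 a).fac (cc s (F.f a)) j
  have hcompat : ∀ s : Cocone D, Presieve.Arrows.Compatible (yoneda.obj s.pt) F.f (t s) := by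
    intro s a b Z ga gb hg
    show ga ≫ t s a = gb ≫ t s b
    have hab : pullback.fst (F.f a) (F.f b) ≫ t s a = pullback.snd (F.f a) (F.f b) ≫ t s b := by
      refine (H2 a b).hom_ext fun j => ?_
      show pullback.snd (c.ι.app j) (pullback.fst (F.f a) (F.f b) ≫ F.f a) ≫ _ =
        pullback.snd (c.ι.app j) (pullback.fst (F.f a) (F.f b) ≫ F.f a) ≫ _
      have ea := ht s a j
      have eb := ht s b j
      let la : pullback (c.ι.app j) (pullback.fst (F.f a) (F.f b) ≫ F.f a) ⟶ pullback (c.ι.app j) (F.f a) :=
        pullback.lift (pullback.fst _ _) (pullback.snd _ _ ≫ pullback.fst _ _)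
          (pullback.condition.trans (Category.assoc _ _ _).symm)
      let lb : pullback (c.ι.app j) (pullback.fst (F.f a) (F.f b) ≫ F.f a) ⟶ pullback (c.ι.app j) (F.f b) :=
        pullback.lift (pullback.fst _ _) (pullback.snd _ _ ≫ pullback.snd _ _)
          (pullback.condition.trans ((congrArg (pullback.snd _ _ ≫ ·) pullback.condition).trans
            (Category.assoc _ _ _).symm))
      have ea' := la ≫= ea
      have eb' := lb ≫= eb
      simp only [la, lb, pullback.lift_fst_assoc, pullback.lift_snd_assoc, Category.assoc] at ea' eb'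
      rw [ea', eb']
    have := pullback.lift ga gb hg ≫= hab
    simpa only [pullback.lift_fst_assoc, pullback.lift_snd_assoc] using this
  choose T hT hT' using fun s : Cocone D =>
    (Presieve.isSheafFor_arrows_iff (π := F.f) (P := yoneda.obj s.pt)).mp (hsheaf s.pt) (t s) (hcompat s)
  have hT1 : ∀ s a, F.f a ≫ T s = t s a := hT
  refine ⟨{ desc := T, fac := fun s j => ?_, uniq := fun s m hm => ?_ }⟩
  · refine hsep _ j _ _ fun a => ?_
    rw [← ht s a j, ← hT1 s a, pullback.condition_assoc]
  · refine hT' s m fun a => ?_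
    show F.f a ≫ m = t s a
    refine (H1 a).hom_ext fun j => ?_
    show pullback.snd (c.ι.app j) (F.f a) ≫ _ = pullback.snd (c.ι.app j) (F.f a) ≫ _
    rw [ht, ← pullback.condition_assoc, hm j]

end Groth.Agent.S7204
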