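import Groth.Statements.S7213
import Groth.Agent.PerfGen7.RelPCBasic
import Groth.Agent.KZ.ClosedDev
import Groth.Agent.QCoh.Pullback

set_option autoImplicit false
universe u
open CategoryTheory CategoryTheory.Limits AlgebraicGeometry Opposite TopologicalSpace
attribute [local instance] HasDerivedCategory.standard
open FlatMor

namespace Groth.Agent.S7213

/-- Let f : X ⟶ S be a morphism of schemes, m an integer, and E ∈ D(O_X) such that E is
m-pseudo-coherent with respect to the morphism f (chart form; in particular f is locally of finite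
type). Then for every integer i > m the cohomology sheaf H^i(E) is a quasi-coherent O_X-module. -/
theorem result {X S : Scheme.{u}} (f : X ⟶ S) (m : ℤ) (E : DCoh.D X)
    (hE : DerSch.IsPseudoCoherentRel f m E) (i : ℤ) (hi : m < i) : Coh.IsQCoh (DCoh.HD E i) := by
  choose U R ι hxU hU hι hpc using fun x : X => Groth.Agent.PerfGen7.exists_chart hE x
  refine Groth.Agent.QCoh.isQCoh_of_isOpenCover U
    (top_le_iff.1 fun x _ => TopologicalSpace.Opens.mem_iSup.2 ⟨x, hxU x⟩) fun x => ?_
  haveI := hι x
  let G := DerivedCategory.Q.objPreimage E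
  have hq : Coh.IsQCoh ((Scheme.Modules.pushforward (ι x)).obj
      ((Scheme.Modules.restrictFunctor (U x).ι).obj (DCoh.HD E i))) :=
    Groth.Agent.KFlatLib.isQCoh_of_iso
      (Groth.Agent.PerfGen7.pushRestrictHDIso (ι x) G (Groth.Agent.KFlatLib.repIso E) i)
      (Groth.Agent.KFlatLib.isQCoh_HD_of_pseudoCoherent (hpc x G ⟨Groth.Agent.KFlatLib.repIso E⟩) i
        (by omega))
  haveI := Groth.Agent.KZ.ClosedDev.isIso_counit (ι x) hq
  exact Groth.Agent.KFlatLib.isQCoh_of_iso
    (asIso ((Scheme.Modules.pullbackPushforwardAdjunction (ι x)).counit.app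
      ((Scheme.Modules.restrictFunctor (U x).ι).obj (DCoh.HD E i))))
    (Groth.Agent.QCoh.isQCoh_pullback (ι x) hq)

end Groth.Agent.S7213
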