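import Groth.Statements.S7214
import Groth.Agent.PerfGen7.RelLocal
import Groth.Agent.KFlatLib.Perfect.Retract

set_option autoImplicit false
universe u
open CategoryTheory CategoryTheory.Limits AlgebraicGeometry Opposite TopologicalSpace
attribute [local instance] HasDerivedCategory.standard
open FlatMor

namespace Groth.Agent.S7214

/-- Let f : X ⟶ S be a morphism of schemes, m an integer, and E, K objects of D(O_X). If the direct sum
E ⊕ K is m-pseudo-coherent relative to f (chart form; in particular f is locally of finite type),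
then so are E and K. -/
theorem result {X S : Scheme.{u}} (f : X ⟶ S) (m : ℤ) (E K : DCoh.D X)
    [HasBinaryBiproduct E K] (h : DerSch.IsPseudoCoherentRel f m (E ⊞ K)) :
    DerSch.IsPseudoCoherentRel f m E ∧ DerSch.IsPseudoCoherentRel f m K := by
  haveI := h.1
  have key : ∀ x : X, ∃ (U : X.Opens) (V : S.Opens), x ∈ U ∧ Groth.Agent.PerfGen7.GoodPair f m E U V ∧
      Groth.Agent.PerfGen7.GoodPair f m K U V := fun x => by
    obtain ⟨U, V, hxU, hU, hV, hle, n', φ, hφ, hp⟩ := Groth.Agent.PerfGen7.isPseudoCoherentRel_iff.1 h x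
    have hs : ∀ hi : IsClosedImmersion (Groth.Agent.PerfGen7.imm U φ),
        Groth.Agent.KFlatLib.LocPC m ((Groth.Agent.PerfGen7.pushD (Groth.Agent.PerfGen7.imm U φ)).obj
          ((Groth.Agent.KFlatLib.rho U.ι).obj E)) ∧
        Groth.Agent.KFlatLib.LocPC m ((Groth.Agent.PerfGen7.pushD (Groth.Agent.PerfGen7.imm U φ)).obj
          ((Groth.Agent.KFlatLib.rho U.ι).obj K)) := fun hi => by
      haveI := hi
      let F := Groth.Agent.KFlatLib.rho U.ι ⋙ Groth.Agent.PerfGen7.pushD (Groth.Agent.PerfGen7.imm U φ)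
      haveI := preservesBinaryBiproducts_of_preservesBiproducts F
      exact Groth.Agent.KFlatLib.locPC_summand m (F.obj E) (F.obj K) ((hp hi).of_iso (F.mapBiprod E K))
    exact ⟨U, V, hxU, ⟨hU, hV, hle, n', φ, hφ, fun hi => (hs hi).1⟩,
      ⟨hU, hV, hle, n', φ, hφ, fun hi => (hs hi).2⟩⟩
  constructor <;> refine Groth.Agent.PerfGen7.isPseudoCoherentRel_iff.2 fun x => ?_
  · obtain ⟨U, V, hx, h₁, -⟩ := key x
    exact ⟨U, V, hx, h₁⟩
  · obtain ⟨U, V, hx, -, h₂⟩ := key x
    exact ⟨U, V, hx, h₂⟩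

end Groth.Agent.S7214
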