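import Groth.Statements.S7227
import Groth.Agent.RelPCFppf.Scheme
import Groth.Agent.PerfGen7.FlatTerms
import Groth.Agent.S7198

set_option autoImplicit false
attribute [-instance] CategoryTheory.catToReflQuiver
universe u
open CategoryTheory CategoryTheory.Limits AlgebraicGeometry Opposite TopologicalSpace
attribute [local instance] HasDerivedCategory.standard
open FlatMor

namespace Groth.Agent.S7227

/-- Let p : X ⟶ S be locally of finite type and let (g_i : X_i ⟶ X) be an fppf covering: every g_i is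
flat and locally of finite presentation and the g_i are jointly surjective. Let E be an object of
D(O_X) with quasi-coherent cohomology sheaves and m an integer. Then, the derived pullbacks Lg_i^*
being assumed to exist, E is m-pseudo-coherent relative to p if and only if for every i the object
Lg_i^* E is m-pseudo-coherent relative to g_i ≫ p : X_i ⟶ S (chart form). -/
theorem result {X S : Scheme.{u}} (p : X ⟶ S)
    [LocallyOfFiniteType p] {ι : Type u} (Xi : ι → Scheme.{u}) (g : ∀ i, Xi i ⟶ X) [∀ i, Flat (g i)]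
    [∀ i, LocallyOfFinitePresentation (g i)] (hcov : ∀ x : X, ∃ (i : ι) (y : Xi i), (g i).base y = x)
    [∀ i, DCoh.HasLpull (g i)] (m : ℤ) (E : DCoh.D X) (hE : DCoh.IsQCohD E) :
    DerSch.IsPseudoCoherentRel p m E ↔
      ∀ i, DerSch.IsPseudoCoherentRel (g i ≫ p) m ((DCoh.Lpull (g i)).obj E) := by
  constructor
  · intro h i
    open Groth.Agent in
    exact RelPCFppf.rel_lpull_over p (𝟙 X) (g i) (g i) (Category.comp_id _) hE
      (by rwa [Category.id_comp])
  · intro h
    open Groth.Agent in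
    refine PerfGen7.isPseudoCoherentRel_iff.2 fun x => ?_
    obtain ⟨U, W, π, hxU, ⟨hπ1, hπ2, hπ3⟩, hπ4, hW⟩ := Groth.Agent.S7198.result
      (E := ({ I₀ := ι, X := Xi, f := g } : PreZeroHypercover.{u} X))
      (fun i => inferInstanceAs (Flat (g i))) (fun i => inferInstanceAs (LocallyOfFinitePresentation (g i)))
      (fun s => hcov s) x
    haveI := Groth.Agent.KFlatLib.hasLpull (π ≫ U.ι)
    open Groth.Agent in
    refine RelPCFppf.goodPair_of_finLocFree p π hE ?_ x hxU
    open Groth.Agent in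
    refine PerfGen7.isPseudoCoherentRel_iff.2 fun w => ?_
    obtain ⟨W', T, ρ, i, r, hw, ⟨hρ1, hρ2, hρ3⟩, hρ4, hr⟩ := hW w
    haveI := Groth.Agent.KFlatLib.hasLpull (ρ ≫ W'.ι)
    haveI := Groth.Agent.KFlatLib.hasLpull r
    haveI := Groth.Agent.KFlatLib.hasLpull ((ρ ≫ W'.ι) ≫ π ≫ U.ι)
    open Groth.Agent in
    refine RelPCFppf.goodPair_of_finLocFree ((π ≫ U.ι) ≫ p) ρ (KFlatLib.isQCohD_lpull (π ≫ U.ι) hE) ?_ w hw
    have w' : r ≫ g i = (ρ ≫ W'.ι) ≫ π ≫ U.ι := by simpa using hr
    open Groth.Agent in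
    obtain ⟨e₁⟩ := PerfGen7.nonempty_lpull_comp (ρ ≫ W'.ι) (π ≫ U.ι) ((ρ ≫ W'.ι) ≫ π ≫ U.ι) rfl E
    open Groth.Agent in
    obtain ⟨e₂⟩ := PerfGen7.nonempty_lpull_comp r (g i) ((ρ ≫ W'.ι) ≫ π ≫ U.ι) w' E
    rw [← Category.assoc]
    open Groth.Agent in
    exact PerfGen7.rel_of_iso (e₂ ≪≫ e₁.symm)
      (RelPCFppf.rel_lpull_over p (g i) _ r w' (KFlatLib.isQCohD_lpull (g i) hE) (h i))

end Groth.Agent.S7227
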