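import Groth.Statements.S7234
import Groth.Agent.PerfGen7.RelTilde

set_option autoImplicit false
universe u
open CategoryTheory CategoryTheory.Limits AlgebraicGeometry Opposite TopologicalSpace
attribute [local instance] HasDerivedCategory.standard
open FlatMor

namespace Groth.Agent.S7234

/-- (1) ⇔ (3): let f : X ⟶ S be locally of finite type, E an object of D(O_X) all of whose cohomology
sheaves are quasi-coherent, and m an integer. Then E is m-pseudo-coherent relative to f (chart form)
if and only if for every affine open U of X mapping into an affine open V of S the complex RΓ(U, E),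
viewed in D(Γ(X, U)), is m-pseudo-coherent relative to Γ(S, V) in the ring-level sense. Here RΓ(U,
E) is expressed through the equivalence of D(Γ(X, U)) with the quasi-coherent derived category of
the affine scheme U: the condition is asked of every object M of D(Γ(X, U)) whose associated complex
of modules on Spec Γ(X, U) is isomorphic to E|_U carried along U ≅ Spec Γ(X, U) (the functor M ↦ M~
being assumed left exact, which it is). -/
theorem result {X S : Scheme.{u}} (f : X ⟶ S)
    [LocallyOfFiniteType f] [∀ U : X.affineOpens, PreservesFiniteLimits (tilde.functor (X.presheaf.obj (op (U : X.Opens))))]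
    (E : DCoh.D X) (hE : DCoh.IsQCohD E) (m : ℤ) :
    DerSch.IsPseudoCoherentRel f m E ↔
      ∀ (U : X.affineOpens) (V : S.affineOpens) (h : (U : X.Opens) ≤ f ⁻¹ᵁ (V : S.Opens))
        (G : CochainComplex X.Modules ℤ), Nonempty (DCoh.toD X G ≅ E) →
        ∀ M : Dual.D Γ(X, (U : X.Opens)),
          Nonempty ((DCoh.tildeD (X.presheaf.obj (op (U : X.Opens)))).obj M ≅
            DCoh.toD _ ((DerSch.pushCx U.2.isoSpec.hom).obj ((DCoh.restrictCx (U : X.Opens)).obj G))) →
          letI := (f.appLE (V : S.Opens) (U : X.Opens) h).hom.toAlgebra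
          DerCA.IsRelPseudoCoherent Γ(S, (V : S.Opens)) Γ(X, (U : X.Opens)) m M := by
  constructor
  · intro hrel U V h G hG M hM
    haveI := Groth.Agent.PerfGen7.isClosedImmersion_toSpecΓ U.2
    letI := (f.appLE (V : S.Opens) (U : X.Opens) h).hom.toAlgebra
    obtain ⟨n, φ, hφ⟩ := Groth.Agent.PerfGen7.exists_chart_of_affine (f := f) U.2 V.2 h
    obtain ⟨e⟩ := hM
    obtain ⟨eG⟩ := hG
    have key := (Groth.Agent.PerfGen7.immPC_tilde_iff (m := m) U.2 φ hφ.1 M
      (e ≪≫ (Groth.Agent.PerfGen7.pushDQ _ _).symm ≪≫ (Groth.Agent.PerfGen7.pushD _).mapIso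
        (((Groth.Agent.KFlatLib.rhoQ (U : X.Opens).ι).app G).symm ≪≫
          (Groth.Agent.KFlatLib.rho (U : X.Opens).ι).mapIso eG))).1
      ((Groth.Agent.PerfGen7.chartPC_iff U.2 φ hφ.1).1
        (Groth.Agent.PerfGen7.chartPC_of_rel hrel U.2 V.2 h φ hφ))
    exact ⟨n, { φ with commutes' := fun r => RingHom.congr_fun hφ.2 r }, hφ.1, key⟩
  · intro hall
    refine Groth.Agent.PerfGen7.isPseudoCoherentRel_iff.2 fun x => ?_
    obtain ⟨V, hV, hxV, -⟩ := exists_isAffineOpen_mem_and_subset (x := f x) (U := (⊤ : S.Opens)) trivial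
    obtain ⟨U, hU, hxU, hUV⟩ := exists_isAffineOpen_mem_and_subset (x := x) (U := f ⁻¹ᵁ V) hxV
    haveI := Groth.Agent.PerfGen7.isClosedImmersion_toSpecΓ hU
    haveI : PreservesFiniteLimits (tilde.functor Γ(X, U)) :=
      (inferInstance : PreservesFiniteLimits (tilde.functor
        (X.presheaf.obj (op ((⟨U, hU⟩ : X.affineOpens) : X.Opens)))))
    obtain ⟨M, ⟨e⟩⟩ := Groth.Agent.PerfGen7.exists_tilde_rep hU hE
    letI := (f.appLE V U hUV).hom.toAlgebra
    obtain ⟨n, α, hα, hvia⟩ := hall ⟨U, hU⟩ ⟨V, hV⟩ hUV (DerivedCategory.Q.objPreimage E)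
      ⟨Groth.Agent.KFlatLib.repIso E⟩ M ⟨e ≪≫ (Groth.Agent.PerfGen7.pushD _).mapIso
        ((Groth.Agent.KFlatLib.rho U.ι).mapIso (Groth.Agent.KFlatLib.repIso E).symm ≪≫
          (Groth.Agent.KFlatLib.rhoQ U.ι).app _) ≪≫ Groth.Agent.PerfGen7.pushDQ _ _⟩
    exact ⟨U, V, hxU, hU, hV, hUV, n, α.toRingHom, ⟨hα, α.comp_algebraMap⟩,
      (Groth.Agent.PerfGen7.immPC_tilde_iff (m := m) hU α.toRingHom hα M e).2 hvia⟩

end Groth.Agent.S7234
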