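import Groth.Statements.S7242
import Groth.Agent.ExtendDual7.Basic
import Groth.Agent.IntSym.QuotTensor
import Groth.Agent.BlowUpX.Projective
import Groth.Agent.ResPerf7.Main

set_option autoImplicit false
set_option backward.isDefEq.respectTransparency false
set_option backward.isDefEq.respectTransparency.types false
set_option linter.style.haveILetI false
universe u
open CategoryTheory CategoryTheory.Limits AlgebraicGeometry
attribute [local instance] HasDerivedCategory.standard
open Perf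

namespace Groth.Agent.S7242

open CategoryTheory.Limits TopologicalSpace Opposite

noncomputable section

open RefHull (stalkMapₗ)

theorem isLocus_of_idealMod {X : Scheme.{u}} (I : X.IdealSheafData) {U : X.Opens}
    (hIsupp : (I.support : Set ↥X) = (U : Set ↥X)ᶜ) {E : X.Modules} (hE : Coh.IsQCoh E)
    (π : E ⟶ ClSub.idealMod I) [Epi π] : ExtendDual7.IsLocus (π ≫ ClSub.idealModι I) U := by
  intro V hV y hy
  have h1 : y ∈ U ↔ ∃ f ∈ I.ideal ⟨V, hV⟩, y ∈ X.basicOpen f := by
    have h := Set.ext_iff.1 (I.coe_support_inter ⟨V, hV⟩) y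
    rw [hIsupp] at h
    simp only [Set.mem_inter_iff, Set.mem_compl_iff, SetLike.mem_coe, Scheme.mem_zeroLocus_iff, hy, and_true] at h
    constructor
    · intro hyU
      by_contra hne
      push Not at hne
      exact (h.2 fun f hf => hne f hf) hyU
    · rintro ⟨f, hf, hyf⟩
      by_contra hyU
      exact h.1 hyU f hf hyf
  rw [h1]
  constructor
  · rintro ⟨f, hf, hyf⟩
    obtain ⟨v, hv⟩ := QCoh.exists_kernel_lift (ClSub.toSubscheme I) V
      (show Γ(Coh.structureModule X, V) from f) ((IntSym.QuotTensor.toSub_app_eq_zero I hV f).2 hf)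
    obtain ⟨p, hp⟩ := QCoh.app_surjective_of_epi hE (BlowUpX.isQCoh_idealMod I) π hV v
    refine ⟨p, ?_⟩
    rwa [show ExtendDual7.sc (π ≫ ClSub.idealModι I) p = f from
      (congrArg ((ClSub.idealModι I).app V) hp).trans hv]
  · rintro ⟨p, hp⟩
    refine ⟨_, (IntSym.QuotTensor.toSub_app_eq_zero I hV _).1 ?_, hp⟩
    show (ClSub.toSubscheme I).app V ((ClSub.idealModι I).app V (π.app V p)) = 0
    exact congr(($(kernel.condition (ClSub.toSubscheme I))).app V (π.app V p))

theorem isCompact_inf_locus {X : Scheme.{u}} {E : X.Modules} (hE : Coh.IsQCoh E) (hEt : CohB1.IsFT E)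
    (π : E ⟶ Coh.structureModule X) {U : X.Opens} (hU : ExtendDual7.IsLocus π U) {V : X.Opens}
    (hV : IsAffineOpen V) : IsCompact ((V : Set X) ∩ (U : Set X)) := by
  obtain ⟨S, hS⟩ := ExtendDual7.fg_Jd π hE hEt hV
  have h : (V : Set X) ∩ (U : Set X) = ⋃ f ∈ S, (X.basicOpen f : Set X) := by
    ext y
    simp only [Set.mem_iUnion, Set.mem_inter_iff, SetLike.mem_coe]
    constructor
    · rintro ⟨hyV, hyU⟩
      obtain ⟨p, hp⟩ := (hU V hV y hyV).1 hyU
      by_contra hne
      push Not at hne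
      have hp' : ExtendDual7.sc π p ∈ Submodule.span Γ(X, V) (S : Set Γ(X, V)) := hS.ge ⟨p, rfl⟩
      have hle : Submodule.span Γ(X, V) (S : Set Γ(X, V)) ≤ (hV.primeIdealOf ⟨y, hyV⟩).asIdeal :=
        Submodule.span_le.2 fun f hf => by
          by_contra h
          exact hne f hf ((QCoh.mem_basicOpen_iff_notMem hV hyV f).2 h)
      exact (QCoh.mem_basicOpen_iff_notMem hV hyV _).1 hp (hle hp')
    · rintro ⟨f, hf, hyf⟩
      exact (ExtendDual7.basicOpen_le_locus π hU hV (hS.le (Submodule.subset_span hf)) hyf : y ∈ V ⊓ U)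
  rw [h]
  exact S.finite_toSet.isCompact_biUnion fun f _ => (hV.basicOpen f).isCompact

end


/-- Let X be a scheme, X = U_1 ∪ … ∪ U_m a finite covering by affine opens, and I_1, …, I_m
quasi-coherent ideal sheaves of finite type with V(I_j) = X ∖ U_j as sets. Then X has the resolution
property (every quasi-coherent O_X-module of finite type is a quotient of a finite locally free
O_X-module) if and only if, for every j, the ideal sheaf I_j regarded as an O_X-module is a quotient
of a finite locally free O_X-module. -/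
theorem result (X : Scheme.{u}) {m : ℕ} (U : Fin m → X.Opens)
    (hUaff : ∀ j, IsAffineOpen (U j)) (hcov : ⨆ j, U j = ⊤) (I : Fin m → X.IdealSheafData)
    (hIft : ∀ j, CohB1.IsFT (ClSub.idealMod (I j))) (hIsupp : ∀ j, ((I j).support : Set ↥X) = (U j : Set ↥X)ᶜ) :
    PerfAux.HasResolutionProperty X ↔
      ∀ j, ∃ (E : X.Modules) (π : E ⟶ ClSub.idealMod (I j)), FlatMod.IsFinLocFree E ∧ Epi π := by
  classical
  constructor
  · intro h j
    exact h _ (BlowUpX.isQCoh_idealMod (I j)) (hIft j)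
  intro h
  choose E π hE hπ using h
  have hfp := fun j => QCoh.isFP_of_isFinLocFree (hE j)
  have hEq := fun j => QCoh.isQCoh_of_isFP (hfp j)
  have hEt := fun j => QCoh.isFT_of_isFP (hfp j)
  have hloc : ∀ j, ExtendDual7.IsLocus (π j ≫ ClSub.idealModι (I j)) (U j) := fun j =>
    haveI := hπ j
    isLocus_of_idealMod (I j) (hIsupp j) (hEq j) (π j)
  haveI : CompactSpace X := by
    rw [← isCompact_univ_iff, ← Opens.coe_top, ← hcov, Opens.coe_iSup]
    exact isCompact_iUnion fun j => (hUaff j).isCompact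
  haveI : QuasiSeparatedSpace X := Scheme.quasiSeparatedSpace_of_isOpenCover U (TopologicalSpace.IsOpenCover.mk hcov) hUaff
    fun i j => isCompact_inf_locus (hEq j) (hEt j) _ (hloc j) (hUaff i)
  intro M hM hft
  choose T hT using fun j => (QCoh.finite_of_isFT hM hft (hUaff j)).fg_top
  have hcomb : ∀ s : Finset (Σ j, T j), ∃ (P : X.Modules) (φ : P ⟶ M), FlatMod.IsFinLocFree P ∧
      ∀ a ∈ s, ∀ y : U a.1, M.presheaf.germ (U a.1) y.1 y.2 a.2.1 ∈ LinearMap.range (RefHull.stalkMapₗ φ y.1) := by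
    intro s
    induction s using Finset.induction_on with
    | empty =>
      obtain ⟨Z, hZ⟩ := Limits.HasZeroObject.zero (C := X.Modules)
      exact ⟨Z, 0, KFlatLib.isFinLocFree_of_isZero hZ, fun a ha => absurd ha (Finset.notMem_empty a)⟩
    | insert k s hk ih =>
      obtain ⟨P, φ, hP, hφ⟩ := ih
      obtain ⟨Q, ψ, hQ, hψ⟩ := ExtendDual7.exists_hit _ (hE k.1) (hloc k.1) (hUaff k.1).isCompact hM k.2.1
      refine ⟨P ⊞ Q, Limits.biprod.desc φ ψ, ResPerf7.isFinLocFree_biprod' hP hQ, fun a ha y => ?_⟩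
      have key : ∀ {A : X.Modules} (i : A ⟶ P ⊞ Q) (χ : A ⟶ M), i ≫ Limits.biprod.desc φ ψ = χ →
          ∀ v, v ∈ LinearMap.range (RefHull.stalkMapₗ χ y.1) →
            v ∈ LinearMap.range (RefHull.stalkMapₗ (Limits.biprod.desc φ ψ) y.1) := by
        rintro A i χ rfl v ⟨w, rfl⟩
        exact ⟨RefHull.stalkMapₗ i y.1 w, by rw [HomShX.stalkMapₗ_comp]; rfl⟩
      rcases Finset.mem_insert.1 ha with rfl | ha
      · exact key Limits.biprod.inr ψ (Limits.biprod.inr_desc _ _) _ (hψ y)
      · exact key Limits.biprod.inl φ (Limits.biprod.inl_desc _ _) _ (hφ a ha y)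
  obtain ⟨P, φ, hP, hφ⟩ := hcomb Finset.univ
  refine ⟨P, φ, hP, HomShX.epi_of_stalk φ fun y v => ?_⟩
  obtain ⟨j, hyj⟩ := TopologicalSpace.Opens.mem_iSup.1 (hcov.ge (trivial : y ∈ (⊤ : X.Opens)))
  letI := QCoh.stalkModule M hyj
  haveI := QCoh.isLocalizedModule_germLin hM (hUaff j) hyj
  obtain ⟨⟨m, s⟩, hms⟩ := IsLocalizedModule.surj ((hUaff j).primeIdealOf ⟨y, hyj⟩).asIdeal.primeCompl
    (QCoh.germLin M hyj) v
  have hu := (X.mem_basicOpen _ y hyj).1 ((QCoh.mem_basicOpen_iff_notMem (hUaff j) hyj s.1).2 s.2)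
  have hmem : M.presheaf.germ (U j) y hyj m ∈ LinearMap.range (RefHull.stalkMapₗ φ y) := by
    clear hms
    have hmT : m ∈ Submodule.span Γ(X, U j) (T j : Set Γ(M, U j)) := by rw [hT j]; trivial
    induction hmT using Submodule.span_induction with
    | mem t ht => exact hφ ⟨j, ⟨t, ht⟩⟩ (Finset.mem_univ _) ⟨y, hyj⟩
    | zero => rw [map_zero]; exact zero_mem _
    | add a b _ _ ha hb => rw [map_add]; exact add_mem ha hb
    | smul r a _ ha => rw [QCoh.germ_smul']; exact Submodule.smul_mem _ _ ha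
  rw [← show s.1 • v = M.presheaf.germ (U j) y hyj m from hms] at hmem
  exact LinearMap.mem_range.1 ((Submodule.smul_mem_iff_of_isUnit _ hu).1 hmem)

end Groth.Agent.S7242
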