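import Groth.Statements.S7250
import Groth.Agent.PerfLocus7.RelFlat
import Groth.Agent.KFlatLib.Perfect.Retract

set_option autoImplicit false
universe u
open CategoryTheory CategoryTheory.Limits AlgebraicGeometry
attribute [local instance] HasDerivedCategory.standard
open Perf

namespace Groth.Agent.S7250

open Groth.Agent.KFlatLib

/-- Let f : X ⟶ S be flat and locally of finite presentation. The S-perfect objects of D(O_X)
(pseudo-coherent and locally of finite tor dimension over f⁻¹O_S, the latter in the form: locally
represented by a bounded complex of O_X-modules flat over S) form a saturated triangulated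
subcategory: the property contains zero, is stable under all shifts, is closed under the middle term
of distinguished triangles, and is stable under retracts. -/
theorem result {X S : Scheme.{u}} (f : X ⟶ S) [Flat f] [LocallyOfFinitePresentation f] :
    ObjectProperty.IsTriangulated (fun E : DCoh.D X => (∀ m : ℤ, DCoh.IsPseudoCoherentD m E) ∧ DCoh.LocHasFiniteRelTorDim f E) ∧
    ObjectProperty.IsStableUnderRetracts (fun E : DCoh.D X => (∀ m : ℤ, DCoh.IsPseudoCoherentD m E) ∧ DCoh.LocHasFiniteRelTorDim f E) := by
  have hiff : ∀ E : DCoh.D X, ((∀ m : ℤ, DCoh.IsPseudoCoherentD m E) ∧ DCoh.LocHasFiniteRelTorDim f E) ↔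
      ((∀ m : ℤ, LocPC m E) ∧ PerfLocus7.LocRel f E) := fun E => by
    simp only [isPseudoCoherentD_iff, PerfLocus7.locHasFiniteRelTorDim_iff]
  rw [funext fun E => propext (hiff E)]
  constructor
  · exact
    { exists_zero := by
        obtain ⟨Z, hZ⟩ := HasZeroObject.zero (C := DCoh.D X)
        exact ⟨Z, hZ, fun m => locPC_of_isZero m Z fun i _ =>
          (DerivedCategory.homologyFunctor X.Modules i).map_isZero hZ, PerfLocus7.locRel_zero hZ⟩
      isStableUnderShiftBy := fun a => ⟨fun E hE => ⟨fun m => by
        have := (hE.1 (m + a)).shift a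
        rwa [show m + a - a = m by omega] at this, hE.2.shift a⟩⟩
      ext₂' := fun T hT h₁ h₃ => ObjectProperty.le_isoClosure _ _
        ⟨fun m => (locPC_two_of_three m T hT).2.1 (h₁.1 m) (h₃.1 m),
          PerfLocus7.LocRel.ext₂ T hT h₁.2 h₃.2⟩ }
  · refine ⟨fun {K L} r hL => ⟨fun m => ?_, PerfLocus7.LocRel.of_retract r hL.2⟩⟩
    obtain ⟨M, g, h, hT⟩ := Pretriangulated.distinguished_cocone_triangle r.i
    have h0 : h = 0 := by
      have hz := Pretriangulated.comp_distTriang_mor_zero₃₁ _ hT
      haveI : IsSplitMono ((shiftFunctor (DCoh.D X) (1 : ℤ)).map r.i) :=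
        IsSplitMono.mk' ⟨(shiftFunctor (DCoh.D X) (1 : ℤ)).map r.r, by rw [← Functor.map_comp, r.retract]; exact CategoryTheory.Functor.map_id _ _⟩
      exact (cancel_mono ((shiftFunctor (DCoh.D X) (1 : ℤ)).map r.i)).1 (hz.trans zero_comp.symm)
    obtain ⟨e, -⟩ := Pretriangulated.exists_iso_binaryBiproduct_of_distTriang _ hT h0
    exact (locPC_summand m K M ((hL.1 m).of_iso e)).1

end Groth.Agent.S7250
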