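import Groth.Statements.S7251
import Groth.Agent.KFlatLib.Scheme.QCohDerived

set_option autoImplicit false
set_option backward.isDefEq.respectTransparency false
set_option backward.isDefEq.respectTransparency.types false
universe u
open CategoryTheory CategoryTheory.Limits AlgebraicGeometry
attribute [local instance] HasDerivedCategory.standard
open Perf

namespace Groth.Agent.S7251

/-- Let f : X ⟶ Y be a quasi-compact and quasi-separated morphism of schemes. Assume Rf_* exists and
sends D_QCoh(O_X) into D_QCoh(O_Y), let an adjunction Lf^* ⊣ Rf_* be given as data, and assume the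
inclusion functors D_QCoh ⥤ D have (chosen) right adjoints DQ_X and DQ_Y. Then Rf_* ∘ DQ_X = DQ_Y ∘
Rf_*: for every K ∈ D(O_X) the comparison map Rf_*(DQ_X K) ⟶ DQ_Y(Rf_* K) in D_QCoh(O_Y),
corresponding under the adjunction to Rf_* applied to the counit DQ_X K ⟶ K, is an isomorphism. -/
theorem result {X Y : Scheme.{u}} (f : X ⟶ Y) [QuasiCompact f] [QuasiSeparated f]
    [DCoh.HasRpush f] (h : DCoh.RpushPreservesQCoh f) [DCoh.HasLpull f] (adj : DCoh.Lpull f ⊣ DCoh.Rpush f)
    [(ObjectProperty.ι (DCoh.IsQCohD (X := X))).IsLeftAdjoint] [(ObjectProperty.ι (DCoh.IsQCohD (X := Y))).IsLeftAdjoint]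
    (K : DCoh.D X) :
    IsIso ((Adjunction.ofIsLeftAdjoint (ObjectProperty.ι (DCoh.IsQCohD (X := Y)))).homEquiv
      (⟨(DCoh.Rpush f).obj (((ObjectProperty.ι (DCoh.IsQCohD (X := X))).rightAdjoint.obj K).obj),
        h _ (((ObjectProperty.ι (DCoh.IsQCohD (X := X))).rightAdjoint.obj K).property)⟩ : DCoh.DQCoh Y)
      ((DCoh.Rpush f).obj K)
      ((DCoh.Rpush f).map ((Adjunction.ofIsLeftAdjoint (ObjectProperty.ι (DCoh.IsQCohD (X := X)))).counit.app K))) := by
  let ιX := ObjectProperty.ι (DCoh.IsQCohD (X := X))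
  let ιY := ObjectProperty.ι (DCoh.IsQCohD (X := Y))
  let aX := Adjunction.ofIsLeftAdjoint ιX
  let aY := Adjunction.ofIsLeftAdjoint ιY
  refine isIso_of_yoneda_map_bijective _ fun W => ?_
  refine (Function.Bijective.of_comp_iff' (aY.homEquiv W _).symm.bijective _).1 ?_
  have h1 : Function.Bijective fun g : W.obj ⟶ (DCoh.Rpush f).obj ((ιX.obj (ιX.rightAdjoint.obj K))) =>
      g ≫ (DCoh.Rpush f).map (aX.counit.app K) := by
    let W' : DCoh.DQCoh X := ⟨(DCoh.Lpull f).obj W.obj, KFlatLib.isQCohD_lpull f W.property⟩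
    have h2 : Function.Bijective fun g : (DCoh.Lpull f).obj W.obj ⟶ ιX.obj (ιX.rightAdjoint.obj K) =>
        g ≫ aX.counit.app K := by
      have e : (fun g : (DCoh.Lpull f).obj W.obj ⟶ ιX.obj (ιX.rightAdjoint.obj K) => g ≫ aX.counit.app K) =
          fun g => (aX.homEquiv W' K).symm (ObjectProperty.homMk g) := by
        funext g
        exact ((aX.homEquiv_counit) W' K (ObjectProperty.homMk g)).symm
      rw [e]
      exact (aX.homEquiv W' K).symm.bijective.comp
        ⟨fun g g' hgg => congrArg (fun q => ιX.map q) hgg, fun q => ⟨ιX.map q, ObjectProperty.hom_ext _ rfl⟩⟩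
    have e : (fun g : W.obj ⟶ (DCoh.Rpush f).obj ((ιX.obj (ιX.rightAdjoint.obj K))) => g ≫ (DCoh.Rpush f).map (aX.counit.app K)) =
        (adj.homEquiv _ _) ∘ (fun g => g ≫ aX.counit.app K) ∘ (adj.homEquiv _ _).symm := by
      funext g
      simp [Adjunction.homEquiv_naturality_right]
    rw [e]
    exact (Equiv.bijective _).comp (h2.comp (Equiv.bijective _))
  have e : ((aY.homEquiv W ((DCoh.Rpush f).obj K)).symm ∘ fun g => g ≫ (aY.homEquiv
      (⟨(DCoh.Rpush f).obj ((ιX.rightAdjoint.obj K).obj), h _ (ιX.rightAdjoint.obj K).property⟩ : DCoh.DQCoh Y)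
      ((DCoh.Rpush f).obj K)) ((DCoh.Rpush f).map (aX.counit.app K))) =
      (fun g => g ≫ (DCoh.Rpush f).map (aX.counit.app K)) ∘ fun g => ιY.map g := by
    funext g
    simp only [Function.comp_apply]
    rw [Adjunction.homEquiv_naturality_left_symm, Equiv.symm_apply_apply]

  erw [e]
  exact h1.comp ⟨fun g g' hgg => ObjectProperty.hom_ext _ hgg, fun q => ⟨ObjectProperty.homMk q, rfl⟩⟩

end Groth.Agent.S7251
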