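import Groth.Statements.S7253
import Groth.Agent.LocCohVan7.Koszul
import Groth.Agent.LocCohVan7.Basic

set_option autoImplicit false
set_option backward.isDefEq.respectTransparency false
set_option backward.isDefEq.respectTransparency.types false
set_option linter.style.haveILetI false
set_option maxHeartbeats 1000000
universe u
open CategoryTheory CategoryTheory.Limits AlgebraicGeometry
attribute [local instance] HasDerivedCategory.standard
open Perf

namespace Groth.Agent.S7253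

section
open CategoryTheory.Limits AlgebraicGeometry TopologicalSpace Opposite Groth.Agent

variable {X : Scheme.{u}} (U : X.Opens)

theorem gammaZ_zero_one (F : X.Modules) [HasInjectiveResolutions X.Modules] {B : Set X.Opens}
    (hB : Opens.IsBasis B) :
    ((∀ W ∈ B, Subsingleton (LocCohZ.HZ (X := X.carrier) (Coh.toAb F) 0 (inf_le_left : W ⊓ U ≤ W))) →
      IsZero (((DCoh.gammaZ U.ι).rightDerived 0).obj F)) ∧
    ((∀ W ∈ B, Subsingleton (LocCohZ.HZ (X := X.carrier) (Coh.toAb F) 1 (inf_le_left : W ⊓ U ≤ W))) →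
      IsZero (((DCoh.gammaZ U.ι).rightDerived 1).obj F)) := by
  haveI := SpObjSS.enoughInjectives_of_hasInjectiveResolutions (C := X.Modules)
  let η := (Scheme.Modules.restrictAdjunction U.ι).unit.app F
  have heq : ∀ W : X.Opens, U.ι ''ᵁ (U.ι ⁻¹ᵁ W) = W ⊓ U := fun W => by
    rw [U.ι.image_preimage_eq_opensRange_inf, Scheme.Opens.opensRange_ι, inf_comm]
  constructor
  · intro h
    haveI : Mono η := by
      refine ⟨fun {L} a b e => Scheme.Modules.hom_ext _ _ fun V => ?_⟩
      ext s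
      refine TopCat.Presheaf.section_ext (Coh.toAb F) V _ _ fun y hy => ?_
      obtain ⟨W, hW, hyW, hWV⟩ := Opens.isBasis_iff_nbhd.1 hB hy
      have hi := (H1LCZ.subsingleton_zero_iff _ _).1 (h W hW)
      have hinj : Function.Injective ((Coh.toAb F).obj.map (homOfLE (inf_le_left : W ⊓ U ≤ W)).op) := fun x x' hx => by
        obtain ⟨x, rfl⟩ := (KoszulLim.hu0 (Coh.toAb F) W).surjective x
        obtain ⟨x', rfl⟩ := (KoszulLim.hu0 (Coh.toAb F) W).surjective x'
        rw [hi ((KoszulLim.hu0 (Coh.toAb F) _).injective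
          (((KoszulLim.hu0_res _ _ x).trans hx).trans (KoszulLim.hu0_res _ _ x').symm))]
      rw [← TopCat.Presheaf.germ_res_apply (F := (Coh.toAb F).obj) (homOfLE hWV) y hyW,
        ← TopCat.Presheaf.germ_res_apply (F := (Coh.toAb F).obj) (homOfLE hWV) y hyW]
      refine congrArg _ (hinj ?_)
      have hle : W ⊓ U ≤ U.ι ''ᵁ (U.ι ⁻¹ᵁ V) := by rw [heq]; exact inf_le_inf_right U hWV
      have hs : (Coh.toAb F).obj.map (homOfLE (U.ι.image_preimage_le V)).op (a.app V s) =
          (Coh.toAb F).obj.map (homOfLE (U.ι.image_preimage_le V)).op (b.app V s) :=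
        congr(($e).app V s)
      have h2 := congrArg ((Coh.toAb F).obj.map (homOfLE hle).op) hs
      rw [← ConcreteCategory.comp_apply, ← ConcreteCategory.comp_apply, ← Functor.map_comp] at h2 ⊢
      exact h2
    refine IsZero.of_iso ?_ ((DCoh.gammaZ U.ι).rightDerivedZeroIsoSelf.app F)
    exact isZero_kernel_of_mono η
  · intro h
    haveI : Epi η := by
      haveI : (QCoh.toAbFunctor X).Faithful := inferInstanceAs (SheafOfModules.toSheaf _).Faithful
      haveI : Epi ((QCoh.toAbFunctor X).map η) := by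
        refine (TopCat.Sheaf.isLocallySurjective_iff_epi _).1
          ((TopCat.Presheaf.isLocallySurjective_iff _).2 fun V t y hy => ?_)
        obtain ⟨W, hW, hyW, hWV⟩ := Opens.isBasis_iff_nbhd.1 hB hy
        have hs := ((H1LCZ.subsingleton_succ_iff _ _ 0).1 (h W hW)).1
        have hle : U.ι ''ᵁ (U.ι ⁻¹ᵁ W) ≤ W ⊓ U := (heq W).le
        have hle' : U.ι ''ᵁ (U.ι ⁻¹ᵁ W) ≤ U.ι ''ᵁ (U.ι ⁻¹ᵁ V) := U.ι.image_mono (U.ι.preimage_mono hWV)
        let t' : (Coh.toAb F).obj.obj (op (W ⊓ U)) :=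
          (Coh.toAb F).obj.map (homOfLE (show W ⊓ U ≤ U.ι ''ᵁ (U.ι ⁻¹ᵁ V) from (heq W).ge.trans hle')).op t
        obtain ⟨z, hz⟩ := hs ((KoszulLim.hu0 (Coh.toAb F) _).symm t')
        refine ⟨W, fun _ hz => hWV hz, ⟨KoszulLim.hu0 (Coh.toAb F) W z, ?_⟩, hyW⟩
        have h3 := KoszulLim.hu0_res (Coh.toAb F) (inf_le_left : W ⊓ U ≤ W) z
        rw [hz, AddEquiv.apply_symm_apply] at h3
        have h4 := congrArg ((Coh.toAb F).obj.map (homOfLE hle).op) h3
        simp only [t'] at h4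
        rw [← ConcreteCategory.comp_apply, ← ConcreteCategory.comp_apply, ← Functor.map_comp,
          ← Functor.map_comp] at h4
        exact h4.symm
      exact (QCoh.toAbFunctor X).epi_of_epi_map inferInstance
    obtain ⟨e⟩ := SiteBase.nonempty_rightDerived_one_iso (H1LCZ.ιGammaZ U.ι) (Scheme.Modules.restrictAdjunction U.ι).unit
      (H1LCZ.wGammaZ U.ι) (H1LCZ.hkerGammaZ U.ι) (H1LCZ.epi_unit_of_injectiveMod U.ι)
    refine IsZero.of_iso ?_ (e.app F)
    exact (isZero_cokernel_of_epi η).of_iso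
      (((cokernelIsCokernel η)).coconePointUniqueUpToIso
        (SiteBase.cokerAt (Scheme.Modules.restrictAdjunction U.ι).unit F)).symm

end



/-- Let X be a scheme, U ⊆ X an open subscheme and Z = X ∖ U. Assume that, locally on X, Z is the
vanishing set of a Koszul-regular sequence having c elements: every point of X has an affine open
neighbourhood V and a sequence f₁, …, f_c in O_X(V), Koszul-regular in the ring O_X(V), whose common
zero locus meets V exactly in Z ∩ V. Then the local cohomology sheaves ℋ^i_Z(F) (right derived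
functors, computed with injective resolutions, of F ↦ ker(F → j_*(F|_U))) vanish for every i ≠ c and
every flat quasi-coherent O_X-module F. -/
theorem result {X : Scheme.{u}} (U : X.Opens) [HasInjectiveResolutions X.Modules]
    (c : ℕ) (hZ : ∀ x : X, ∃ (V : X.Opens) (fs : List Γ(X, V)), x ∈ V ∧ IsAffineOpen V ∧ fs.length = c ∧
      LCI.IsKoszulRegularSeq Γ(X, V) fs ∧
      X.zeroLocus (U := V) {a | a ∈ fs} ∩ (V : Set ↥X) = (U : Set ↥X)ᶜ ∩ (V : Set ↥X))
    (F : X.Modules) (hF : Coh.IsQCoh F) (hFl : FlatMod.IsFlat F) (i : ℕ) (hi : i ≠ c) :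
    IsZero (((DCoh.gammaZ U.ι).rightDerived i).obj F) := by
  classical
  rcases lt_or_gt_of_ne hi with hlt | hgt
  swap
  · refine Groth.Agent.LocCohVan7.isZero_rightDerived_gammaZ U c (fun x => ?_) F hF i hgt
    obtain ⟨V, fs, hxV, -, hlen, -, heq⟩ := hZ x
    exact ⟨V, fs.toFinset, hxV, hlen ▸ fs.toFinset_card_le, by simpa [List.coe_toFinset] using heq⟩
  let B : Set X.Opens := {W | IsAffineOpen W ∧ ∃ gs : List Γ(X, W), gs.length = c ∧
    LCI.IsKoszulRegularSeq Γ(X, W) gs ∧ W ⊓ U = ⨆ k : Fin gs.length, X.basicOpen (gs.get k)}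
  have hB : TopologicalSpace.Opens.IsBasis B := by
    rw [TopologicalSpace.Opens.isBasis_iff_nbhd]
    intro V x hx
    obtain ⟨V₀, fs, hxV₀, hV₀, hlen, hreg, heq⟩ := hZ x
    obtain ⟨_, ⟨W, hW, rfl⟩, hxW, hWV⟩ :=
      X.isBasis_affineOpens.exists_subset_of_mem_open (show x ∈ V ⊓ V₀ from ⟨hx, hxV₀⟩) (V ⊓ V₀).2
    obtain ⟨gs, hgl, hgr, hgU⟩ := Groth.Agent.LocCohVan7.exists_restrict_koszul hV₀ hW
      (fun _ hz => (hWV hz).2) fs hreg U heq
    exact ⟨W, ⟨hW, gs, hgl.trans hlen, hgr, hgU⟩, hxW, fun _ hz => (hWV hz).1⟩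
  have hv : ∀ W ∈ B, ∀ k < c, Subsingleton (LocCohZ.HZ (X := X.carrier) (Coh.toAb F) k (inf_le_left : W ⊓ U ≤ W)) := by
    rintro W ⟨hW, gs, hgl, hgr, hgU⟩ k hk
    exact Groth.Agent.LocCohVan7.subsingleton_HZ_of_koszul hW gs hgr U hgU F hF hFl k (hgl ▸ hk)
  haveI := Groth.Agent.SpObjSS.enoughInjectives_of_hasInjectiveResolutions (C := X.Modules)
  obtain _ | _ | q := i
  · exact (gammaZ_zero_one U F hB).1 fun W hW => hv W hW 0 hlt
  · exact (gammaZ_zero_one U F hB).2 fun W hW => hv W hW 1 hlt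
  · haveI : HasInjectiveResolutions (U : Scheme.{u}).Modules := inferInstance
    obtain ⟨e⟩ := Groth.Agent.SiteBase.nonempty_rightDerived_succ_iso (Groth.Agent.H1LCZ.ιGammaZ U.ι)
      (Scheme.Modules.restrictAdjunction U.ι).unit (Groth.Agent.H1LCZ.wGammaZ U.ι) (Groth.Agent.H1LCZ.hkerGammaZ U.ι)
      (Groth.Agent.H1LCZ.epi_unit_of_injectiveMod U.ι) q
    obtain ⟨e'⟩ := Groth.Agent.H1LCZ.nonempty_resPush_iso U.ι q F
    refine Limits.IsZero.of_iso (Limits.IsZero.of_iso ?_ e') (e.app F)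
    refine Groth.Agent.KFlatLib.isZero_of_isZero_restrict _ fun x => ?_
    obtain ⟨V, fs, hxV, hV, hlen, hreg, heq⟩ := hZ x
    refine ⟨V, hxV, Groth.Agent.LocCohVan7.isZero_Rpush_near U.ι hV _ q fun b => ?_⟩
    obtain ⟨gs, hgl, hgr, hgU⟩ := Groth.Agent.LocCohVan7.exists_restrict_koszul hV (hV.basicOpen b)
      (X.basicOpen_le b) fs hreg U heq
    have hs := ((Groth.Agent.H1LCZ.subsingleton_succ_iff _ _ (q + 1)).1
      (hv (X.basicOpen b) ⟨hV.basicOpen b, gs, hgl.trans hlen, hgr, hgU⟩ (q + 2) hlt)).1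
    have hb : Subsingleton (CohTop.HU (X := X.carrier) (Coh.toAb F) (q + 1) (X.basicOpen b)) :=
      Groth.Agent.QCoh.subsingleton_HU_of_isAffineOpen hF (hV.basicOpen b) q
    haveI := @Function.Surjective.subsingleton _ _ _ hb hs
    refine (Groth.Agent.QCoh.Ab.subsingleton_HU_restr_iff (X := X.carrier) (U := (U : Scheme.{u}).carrier)
      U.ι.isOpenEmbedding q (Coh.toAb F) (U.ι ⁻¹ᵁ X.basicOpen b)).2 ?_
    have himg : U.ι ''ᵁ (U.ι ⁻¹ᵁ X.basicOpen b) = X.basicOpen b ⊓ U := by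
      rw [U.ι.image_preimage_eq_opensRange_inf, Scheme.Opens.opensRange_ι, inf_comm]
    show Subsingleton (CohTop.HU (X := X.carrier) (Coh.toAb F) (q + 1) (U.ι ''ᵁ (U.ι ⁻¹ᵁ X.basicOpen b)))
    rw [himg]
    assumption

end Groth.Agent.S7253
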