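import Groth.Statements.S7254
import Groth.Agent.SiteCmpLib.TotalRight
import Groth.Agent.KFlatLib.Scheme.Grothendieck
import Groth.Agent.KFlatLib.Scheme.QCohD
import Groth.Agent.KFlatLib.PsiC
import Groth.Agent.H9Misc.WayOut

set_option autoImplicit false
set_option backward.isDefEq.respectTransparency false
set_option backward.isDefEq.respectTransparency.types false
set_option maxHeartbeats 1000000
universe u
open CategoryTheory CategoryTheory.Limits AlgebraicGeometry
attribute [local instance] HasDerivedCategory.standard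
open Perf

namespace Groth.Agent.S7254

open DerivedCategory Pretriangulated Groth.Agent.SiteCmpLib in
theorem aux {X : Scheme.{u}} (F : X.Modules ⥤ AddCommGrpCat.{u}) [F.Additive]
    [HasInjectiveResolutions X.Modules] (N : ℕ)
    (hF : ∀ G : X.Modules, Coh.IsQCoh G → ∀ p : ℕ, N ≤ p → IsZero ((F.rightDerived p).obj G)) :
    ∀ (k : ℕ) (E : DCoh.D X) (a : ℤ), E.IsGE a → E.IsLE (a + k) → DCoh.IsQCohD E →
      ∀ i : ℤ, (i < a ∨ a + k + N - 1 < i) →
        IsZero ((DerivedCategory.homologyFunctor AddCommGrpCat.{u} i).obj ((DerivedAdj.model F).obj E)) := by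
  obtain ⟨hcs, htri⟩ := DerivedAdj.exists_triangulated_model F
  letI := hcs
  haveI := htri
  intro k
  induction k with
  | zero =>
    intro E a hge hle hq i hi
    rcases hi with hi | hi
    · haveI := TotalRight.isGE_model F E a hge
      exact isZero_of_isGE _ a i hi
    haveI := hge
    haveI : E.IsLE a := by simpa using hle
    obtain ⟨M, ⟨e⟩⟩ := exists_iso_singleFunctor_obj_of_isGE_of_isLE E a
    have hM : Coh.IsQCoh M := Groth.Agent.KFlatLib.isQCoh_of_iso
      ((DerivedCategory.homologyFunctor X.Modules a).mapIso e ≪≫ (singleFunctorCompHomologyFunctorIso X.Modules a).app M) (hq a)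
    obtain ⟨p, hp⟩ := Int.eq_ofNat_of_zero_le (show 0 ≤ i - a by omega)
    obtain ⟨e1⟩ := TotalRight.exists_homology_model_single F M p
    refine ((hF M hM p (by omega)).of_iso e1).of_iso ?_
    exact (DerivedCategory.homologyFunctor AddCommGrpCat.{u} i).mapIso
        ((DerivedAdj.model F).mapIso (e ≪≫ (((singleFunctors X.Modules).shiftIso (-a) a 0 (by omega)).app M).symm) ≪≫
          ((DerivedAdj.model F).commShiftIso (-a)).app _) ≪≫
      ((DerivedCategory.homologyFunctor AddCommGrpCat.{u} 0).shiftIso (-a) i (p : ℤ) (by omega)).app _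
  | succ k ih =>
    intro E a hge hle hq i hi
    haveI := hge
    haveI := hle
    let t : Triangulated.TStructure (DCoh.D X) := DerivedCategory.TStructure.t
    let T := (t.triangleLTGE (a + 1)).obj E
    have hT : T ∈ distTriang _ := t.triangleLTGE_distinguished _ E
    have hmap := (DerivedAdj.model F).map_distinguished T hT
    haveI : ObjectProperty.IsClosedUnderIsomorphisms (fun M : X.Modules => Coh.IsQCoh M) :=
      ⟨fun e h => Groth.Agent.KFlatLib.isQCoh_of_iso e h⟩
    have hz : ∀ Z : X.Modules, IsZero Z → Coh.IsQCoh Z := fun _ h => Groth.Agent.KFlatLib.isQCoh_of_isZero h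
    exact (HomologySequence.exact₂ _ hmap i).isZero_X₂
      ((ih T.obj₁ a (Groth.Agent.KFlatLib.isGE_truncLT E a (a + 1))
        (by
          haveI : t.IsLE ((t.truncLT (a + 1)).obj E) a := inferInstance
          exact t.isLE_of_le ((t.truncLT (a + 1)).obj E) a _ (by omega))
        (fun j => Groth.Agent.H9Misc.WayOut.P_truncLT (fun M => Coh.IsQCoh M) (hP := hz) hq _ j)
        i (by rcases hi with h | h <;> [left; right] <;> push_cast at * <;> omega)).eq_of_src _ _)
      ((ih T.obj₃ (a + 1) (inferInstanceAs (t.IsGE ((t.truncGE (a + 1)).obj E) (a + 1)))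
        (by
          haveI : t.IsLE ((t.truncGE (a + 1)).obj E) (a + (k + 1 : ℕ)) := inferInstance
          exact t.isLE_of_le ((t.truncGE (a + 1)).obj E) (a + (k + 1 : ℕ)) _ (by push_cast; omega))
        (fun j => Groth.Agent.H9Misc.WayOut.P_truncGE (fun M => Coh.IsQCoh M) (hP := hz) hq _ j)
        i (by rcases hi with h | h <;> [left; right] <;> push_cast at * <;> omega)).eq_of_tgt _ _)

/-- Let X be a scheme, F an additive functor from O_X-modules to abelian groups and N ≥ 0 an integer
such that F commutes with countable direct products and RᵖF(G) = 0 (right derived functors computed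
with injective resolutions) for every p ≥ N and every quasi-coherent O_X-module G. Assume the total
right derived functor RF : D(O_X) ⥤ D(Ab) exists. If E ∈ D(O_X) has quasi-coherent cohomology
sheaves and Hⁱ(E) = 0 for i ∉ [a, b], then Hⁱ(RF(E)) = 0 for i ∉ [a, b + N - 1]. -/
theorem result {X : Scheme.{u}} (F : X.Modules ⥤ AddCommGrpCat.{u}) [F.Additive]
    [PreservesLimitsOfShape (Discrete ℕ) F] [HasInjectiveResolutions X.Modules] (N : ℕ)
    (hF : ∀ G : X.Modules, Coh.IsQCoh G → ∀ p : ℕ, N ≤ p → IsZero ((F.rightDerived p).obj G))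
    [(F.mapHomotopyCategory (ComplexShape.up ℤ) ⋙ DerivedCategory.Qh).HasRightDerivedFunctor (HomotopyCategory.quasiIso X.Modules (ComplexShape.up ℤ))]
    (E : DCoh.D X) (hE : DCoh.IsQCohD E) (a b : ℤ) (hab : ∀ i : ℤ, i < a ∨ b < i → IsZero (DCoh.HD E i))
    (i : ℤ) (hi : i < a ∨ b + N - 1 < i) :
    IsZero ((DerivedCategory.homologyFunctor AddCommGrpCat.{u} i).obj
      (((F.mapHomotopyCategory (ComplexShape.up ℤ) ⋙ DerivedCategory.Qh).totalRightDerived DerivedCategory.Qh
        (HomotopyCategory.quasiIso X.Modules (ComplexShape.up ℤ))).obj E)) := by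
  obtain ⟨e⟩ := Groth.Agent.SiteCmpLib.DerivedAdj.exists_iso_model F
  refine IsZero.of_iso ?_ ((DerivedCategory.homologyFunctor AddCommGrpCat.{u} i).mapIso (e.app E)).symm
  obtain ⟨hcs, htri⟩ := Groth.Agent.SiteCmpLib.DerivedAdj.exists_triangulated_model F
  letI := hcs
  haveI := htri
  rcases lt_or_ge b a with hba | hab'
  · haveI : E.IsLE b := (DerivedCategory.isLE_iff E b).2 fun j hj => hab j (Or.inr hj)
    haveI : E.IsGE a := (DerivedCategory.isGE_iff E a).2 fun j hj => hab j (Or.inl hj)
    have hE0 : IsZero E := DerivedCategory.TStructure.t.isZero E b a hba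
    exact (DerivedCategory.homologyFunctor AddCommGrpCat.{u} i).map_isZero ((Groth.Agent.SiteCmpLib.DerivedAdj.model F).map_isZero hE0)
  · obtain ⟨k, rfl⟩ := Int.le.dest hab'
    exact aux F N hF k E a ((DerivedCategory.isGE_iff E a).2 fun j hj => hab j (Or.inl hj))
      ((DerivedCategory.isLE_iff E _).2 fun j hj => hab j (Or.inr hj)) hE i hi

end Groth.Agent.S7254
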