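import Groth.Statements.S7267
import Groth.Agent.SuppD7.Basic
import Groth.Agent.SuppD7.Compact
import Groth.Agent.S7268
import Groth.Agent.S9265
import Groth.Agent.KFlatLib.Scheme.ProjLocFree
import Groth.Agent.PointDetect7.Main
import Groth.Agent.QCoh.Tilde

set_option autoImplicit false
set_option backward.isDefEq.respectTransparency false
set_option backward.isDefEq.respectTransparency.types false
set_option linter.style.haveILetI false
set_option maxHeartbeats 1000000
universe u
open CategoryTheory CategoryTheory.Limits AlgebraicGeometry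
attribute [local instance] HasDerivedCategory.standard
open Perf

namespace Groth.Agent.S7267

section
open CategoryTheory.Limits CategoryTheory.Pretriangulated AlgebraicGeometry Groth.Agent

variable {A : Type u} [CommRing A] [PreservesFiniteLimits (tilde.functor (CommRingCat.of A))]

/-- The localization of a complex, as a complex over the localized ring. -/
lemma exists_away_rep (f : A) (K : DRing.Cx A) :
    ∃ L' : DRing.Cx (Localization (Submonoid.powers f)),
      Nonempty (((ModuleCat.restrictScalars.{u} (algebraMap A (Localization (Submonoid.powers f)))).mapHomologicalComplex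
        (ComplexShape.up ℤ)).obj L' ≅ (DerCA.locCx (Submonoid.powers f)).obj K) := by
  let S := Submonoid.powers f
  let L' : DRing.Cx (Localization S) :=
    { X := fun n => ModuleCat.of (Localization S) (LocalizedModule S (K.X n))
      d := fun i j => ModuleCat.ofHom (LocalizedModule.map S (K.d i j).hom)
      shape := fun i j h => by
        rw [K.shape i j h]
        exact ModuleCat.hom_ext (by rw [ModuleCat.hom_ofHom, ModuleCat.hom_zero, map_zero]; rfl)
      d_comp_d' := fun i j k _ _ => by
        refine ModuleCat.hom_ext (LinearMap.ext fun x => ?_)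
        induction x using LocalizedModule.induction_on with
        | h m s =>
          show (LocalizedModule.map S (K.d j k).hom) ((LocalizedModule.map S (K.d i j).hom) (LocalizedModule.mk m s)) = 0
          rw [LocalizedModule.map_mk, LocalizedModule.map_mk, ← ConcreteCategory.comp_apply (K.d i j) (K.d j k) m,
            K.d_comp_d]
          exact LocalizedModule.zero_mk s }
  let e : ∀ n, (ModuleCat.restrictScalars.{u} (algebraMap A (Localization S))).obj (L'.X n) ≅
      ((DerCA.locCx S).obj K).X n := fun n =>
    ({ toFun := fun x => x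
       invFun := fun x => x
       left_inv := fun _ => rfl
       right_inv := fun _ => rfl
       map_add' := fun _ _ => rfl
       map_smul' := fun a x => by
        show (algebraMap A (Localization S) a) • (show LocalizedModule S (K.X n) from x) = _
        rw [algebraMap_smul]
        rfl } :
      ((ModuleCat.restrictScalars.{u} (algebraMap A (Localization S))).obj (L'.X n)) ≃ₗ[A]
        (((DerCA.locCx S).obj K).X n)).toModuleIso
  exact ⟨L', ⟨HomologicalComplex.Hom.isoOfComponents e fun i j _ => ModuleCat.hom_ext (LinearMap.ext fun x => rfl)⟩⟩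

variable (fs : List A)

set_option quotPrecheck false in
local notation "jZ" => (LocCoh.puncturedOpen A (Ideal.span {a | a ∈ fs})).ι
local notation "T'" => DCoh.tildeD (CommRingCat.of A)

/-- No maps from supported objects into localizations at the equations. -/
lemma eq_zero_of_loc (f : A) (hf : f ∈ fs) (K : DRing.Cx A) {M : DCoh.D (Spec (CommRingCat.of A))}
    (hM : CxOX.IsSuppD jZ M) (φ : M ⟶ (T').obj (DRing.toD ((DerCA.locCx (Submonoid.powers f)).obj K))) : φ = 0 := by
  obtain ⟨L', ⟨i⟩⟩ := exists_away_rep f K
  let φA : A →+* Localization (Submonoid.powers f) := algebraMap A (Localization (Submonoid.powers f))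
  haveI : PreservesFiniteLimits (tilde.functor (CommRingCat.of (Localization (Submonoid.powers f)))) :=
    QCoh.tilde_preservesFiniteLimits (R := CommRingCat.of (Localization (Submonoid.powers f)))
  haveI : IsOpenImmersion (Spec.map (CommRingCat.ofHom φA)) := IsOpenImmersion.of_isLocalization f
  haveI := KFlatLib.hasRpush_scheme (Spec.map (CommRingCat.ofHom φA))
  obtain ⟨e⟩ := S7268.result φA
  let β : (DCoh.Rpush (Spec.map (CommRingCat.ofHom φA))).obj
      ((DCoh.tildeD (CommRingCat.of (Localization (Submonoid.powers f)))).obj (DRing.toD L')) ≅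
      (T').obj (DRing.toD ((DerCA.locCx (Submonoid.powers f)).obj K)) :=
    e.app (DRing.toD L') ≪≫ (T').mapIso ((((ModuleCat.restrictScalars.{u} φA).mapDerivedCategoryFactors).app L') ≪≫
      DerivedCategory.Q.mapIso i)
  have hsub : Set.range (Spec.map (CommRingCat.ofHom φA)).base ⊆ Set.range (jZ).base := by
    rw [Scheme.Opens.range_ι]
    refine (PrimeSpectrum.localization_away_comap_range (Localization (Submonoid.powers f)) f).le.trans ?_
    intro p hp hz
    exact hp ((PrimeSpectrum.mem_zeroLocus _ _).1 hz (Ideal.subset_span hf))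
  rw [← cancel_mono β.inv, zero_comp]
  exact SuppD7.eq_zero_of_isSuppD _ (SuppD7.isSuppD_mono (jZ) _ hsub hM) _

/-- The augmentation of the Čech complex is universal among supported objects. -/
lemma exists_universal (M₀ : ModuleCat.{u} A) : ∀ gs : List A, (∀ g ∈ gs, g ∈ fs) →
    ∃ ε : (T').obj (DRing.toD (DerCA.extCech M₀ gs)) ⟶ (T').obj (Dual.inD A M₀),
      ∀ {M : DCoh.D (Spec (CommRingCat.of A))}, CxOX.IsSuppD jZ M →
        Function.Bijective (fun φ : M ⟶ (T').obj (DRing.toD (DerCA.extCech M₀ gs)) => φ ≫ ε)
  | [], _ => ⟨(T').map ((DerivedCategory.singleFunctorIsoCompQ (ModuleCat.{u} A) 0).app M₀).inv,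
      fun _ => (asIso ((T').map ((DerivedCategory.singleFunctorIsoCompQ (ModuleCat.{u} A) 0).app M₀).inv)).homToEquiv.bijective⟩
  | g :: gs, h => by
    obtain ⟨ε, hε⟩ := exists_universal M₀ gs fun a ha => h a (List.mem_cons_of_mem g ha)
    let t := DerCA.locCxUnit (Submonoid.powers g) (DerCA.extCech M₀ gs)
    let T := (T').mapTriangle.obj (DerivedCategory.Q.mapTriangle.obj (CochainComplex.mappingCocone.triangle t))
    have hT : T ∈ distTriang _ :=
      (T').map_distinguished _ (DerivedCategory.mappingCocone_triangle_distinguished t)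
    refine ⟨T.mor₁ ≫ ε, fun {M} hM => ?_⟩
    have hb := SuppD7.bijective_of_orth (jZ) T.mor₁ T.mor₂ T.mor₃ hT
      (fun {M'} hM' φ => eq_zero_of_loc fs g (h g List.mem_cons_self) (DerCA.extCech M₀ gs) hM' φ) hM
    have := (hε hM).comp hb
    convert this using 2 with φ
    exact (Category.assoc _ _ _).symm

/-- The Čech complex is supported on the zero set. -/
lemma isSuppD_cech (M₀ : ModuleCat.{u} A) : CxOX.IsSuppD jZ ((T').obj (DRing.toD (DerCA.extCech M₀ fs))) := by
  intro q x hx hxU
  haveI : (tilde.functor (CommRingCat.of A)).Additive := Functor.additive_of_preserves_binary_products _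
  haveI : PreservesFiniteColimits (tilde.functor (CommRingCat.of A)) :=
    QCoh.tilde_preservesFiniteColimits (R := CommRingCat.of A)
  apply hx
  let e : DCoh.HD ((T').obj (DRing.toD (DerCA.extCech M₀ fs))) q ≅
      (tilde.functor (CommRingCat.of A)).obj (DerCA.extCechH fs M₀ q) :=
    (KFlatLib.mapDCHomologyIso (tilde.functor (CommRingCat.of A)) q).app _ ≪≫
      (tilde.functor (CommRingCat.of A)).mapIso
        ((DerivedCategory.homologyFunctorFactors (ModuleCat.{u} A) q).app (DerCA.extCech M₀ fs))
  rw [PointDetect7.subsingleton_stalk_of_iso e x]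
  refine (PointDetect7.subsingleton_stalk_tilde_iff (R := CommRingCat.of A) _ x).2 fun v => ?_
  obtain ⟨n, -, hn⟩ := S9265.result A fs M₀ q v
  rw [Scheme.Opens.range_ι] at hxU
  obtain ⟨f, hf, hfx⟩ : ∃ f ∈ fs, f ∉ (x : PrimeSpectrum A).asIdeal := by
    by_contra hne
    push Not at hne
    exact hxU ((PrimeSpectrum.mem_zeroLocus _ _).2 (Ideal.span_le.2 hne))
  exact ⟨f ^ n, fun hm => hfx ((x : PrimeSpectrum A).2.mem_of_pow_mem n hm), hn f hf⟩

end



/-- Let A be a ring, f_1, …, f_c ∈ A, M an A-module, X = Spec A, Z = V(f_1, …, f_c) and U = X ∖ Z.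
Assume the unbounded right derived functor RΓ_Z of the sheaf of sections with support in Z exists
(tilde recorded as exact). Then the complex of quasi-coherent O_X-modules associated with the
extended alternating Čech complex M ⟶ ⊕ M_{f_{i₀}} ⟶ ⊕ M_{f_{i₀}f_{i₁}} ⟶ … ⟶ M_{f_1⋯f_c} represents
RΓ_Z(M~) in D(O_X). (Existence of an isomorphism only; the extended alternating Čech complex is the
iterated mapping-cocone model, whose terms are isomorphic to the displayed sums of localisations.) -/
theorem result (A : Type u) [CommRing A] (fs : List A) (M : ModuleCat.{u} A)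
    [PreservesFiniteLimits (tilde.functor (CommRingCat.of A))]
    [CxOX.HasRgammaZ (LocCoh.puncturedOpen A (Ideal.span {a | a ∈ fs})).ι] :
    Nonempty ((DCoh.tildeD (CommRingCat.of A)).obj (DRing.toD (DerCA.extCech M fs)) ≅
      (CxOX.RgammaZ (LocCoh.puncturedOpen A (Ideal.span {a | a ∈ fs})).ι).obj
        ((DCoh.tildeD (CommRingCat.of A)).obj (Dual.inD A M))) := by
  haveI := Groth.Agent.KFlatLib.hasRpush_scheme (LocCoh.puncturedOpen A (Ideal.span {a | a ∈ fs})).ι
  obtain ⟨ε, hε⟩ := exists_universal fs M fs (fun _ h => h)
  obtain ⟨α, hα⟩ := Groth.Agent.SuppD7.exists_factor (LocCoh.puncturedOpen A (Ideal.span {a | a ∈ fs})).ι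
    (isSuppD_cech fs M) ε
  haveI := Groth.Agent.SuppD7.isIso_factor (LocCoh.puncturedOpen A (Ideal.span {a | a ∈ fs})).ι
    (isSuppD_cech fs M) ε hε α hα
  exact ⟨asIso α⟩

end Groth.Agent.S7267
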