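import Groth.Statements.S7275
import Groth.Agent.PerfGen7.RelPerfectFP

set_option autoImplicit false
universe u
open CategoryTheory CategoryTheory.Limits AlgebraicGeometry
attribute [local instance] HasDerivedCategory.standard
open Perf

namespace Groth.Agent.S7275

/-- Let f : X ⟶ S be flat and locally of finite presentation and E ∈ D(O_X). Then E is S-perfect
(pseudo-coherent, and locally on X represented by a bounded complex of O_X-modules flat over S) if
and only if E satisfies the alternative definition of relative perfectness: locally on X, E becomes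
isomorphic in the derived category to a bounded complex whose terms are O_X-modules of finite
presentation that are S-flat (every point has an open neighbourhood V such that the restriction to V
of any representing complex is isomorphic in D(O_V) to such a complex). -/
theorem result {X S : Scheme.{u}} (f : X ⟶ S)
    [Flat f] [LocallyOfFinitePresentation f] (E : DCoh.D X) :
    ((∀ m : ℤ, DCoh.IsPseudoCoherentD m E) ∧ DCoh.LocHasFiniteRelTorDim f E) ↔
      ∀ x : X, ∃ V : X.Opens, x ∈ V ∧ ∀ F : CochainComplex X.Modules ℤ, Nonempty (DCoh.toD X F ≅ E) →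
        ∃ (G : CochainComplex (V : Scheme.{u}).Modules ℤ) (a b : ℤ), DCoh.VanishesOutside G a b ∧
          (∀ i : ℤ, CohB1.IsFP (G.X i) ∧ FlatMod.IsFlatOver (V.ι ≫ f) (G.X i)) ∧
          Nonempty (DerivedCategory.Q.obj ((DCoh.restrictCx V).obj F) ≅ DerivedCategory.Q.obj G) := by
  refine ⟨fun h x => ?_, fun h => ⟨fun m => ?_, fun x => ?_⟩⟩
  · obtain ⟨U, hxU, G, a, b, hz, hG, ⟨e⟩⟩ := Groth.Agent.PerfGen7.exists_fp_flat_model f
      (fun m => (Groth.Agent.KFlatLib.isPseudoCoherentD_iff m E).1 (h.1 m)) h.2 x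
    exact ⟨U, hxU, fun F ⟨eF⟩ => ⟨G, a, b, hz, hG, ⟨((Groth.Agent.KFlatLib.rhoQ U.ι).app F).symm ≪≫
      (Groth.Agent.KFlatLib.rho U.ι).mapIso eF ≪≫ e.symm⟩⟩⟩
  · refine (Groth.Agent.KFlatLib.isPseudoCoherentD_iff m E).2 (Groth.Agent.KFlatLib.LocPC.of_local fun x => ?_)
    obtain ⟨V, hxV, hV⟩ := h x
    obtain ⟨G, a, b, hz, hG, ⟨e⟩⟩ := hV _ ⟨DerivedCategory.Q.objObjPreimageIso E⟩
    exact ⟨_, V.ι, inferInstance, ⟨⟨x, hxV⟩, rfl⟩,
      (Groth.Agent.PerfGen7.locPC_of_fp_flat_terms (V.ι ≫ f) G b (fun i hi => hz i (Or.inr hi)) hG m).of_iso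
        (e.symm ≪≫ ((Groth.Agent.KFlatLib.rhoQ V.ι).app _).symm ≪≫
          (Groth.Agent.KFlatLib.rho V.ι).mapIso (DerivedCategory.Q.objObjPreimageIso E))⟩
  · obtain ⟨V, hxV, hV⟩ := h x
    obtain ⟨G, a, b, hz, hG, ⟨e⟩⟩ := hV _ ⟨DerivedCategory.Q.objObjPreimageIso E⟩
    refine ⟨V, a, b, hxV, fun F' ⟨e'⟩ => ⟨G, hz, fun i => (hG i).2, ⟨?_⟩⟩⟩
    exact e.symm ≪≫ ((Groth.Agent.KFlatLib.rhoQ V.ι).app _).symm ≪≫
      (Groth.Agent.KFlatLib.rho V.ι).mapIso (DerivedCategory.Q.objObjPreimageIso E ≪≫ e'.symm) ≪≫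
      (Groth.Agent.KFlatLib.rhoQ V.ι).app F'

end Groth.Agent.S7275
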