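import Groth.Statements.S7287
import Groth.Agent.FibDim.Minimal

set_option autoImplicit false
open CategoryTheory CategoryTheory.Limits AlgebraicGeometry Opposite
universe u
open RelCyc

namespace Groth.Agent.S7287

/-- Let f from X to S be locally of finite type, r a natural number and g from S' to S a surjective
morphism. Let S'' be the fibre product of S' with itself over S (projections p, q), X' the base
change of X along g (structure map f', projection g' to X), and X'' the base change of X along S''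
with structure map f'' and the two projections p', q' to X' lying over p and q and compatible with
the projections to X. Let x be a point of X whose residue field has transcendence degree r over that
of f(x). If x1 and x2 are points of X' mapping to x whose residue fields have transcendence degree r
over those of their images in S', then there is a point of X'' whose residue field has transcendence
degree r over that of its image in S'' and whose two projections are x1 and x2. -/
theorem result {X S S' S'' X' X'' : Scheme.{u}}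
    (f : X ⟶ S) [LocallyOfFiniteType f] (r : ℕ) (g : S' ⟶ S) [Surjective g]
    (p q : S'' ⟶ S') (hS : IsPullback p q g g)
    (f' : X' ⟶ S') (g' : X' ⟶ X) (hX : IsPullback g' f' f g)
    (f'' : X'' ⟶ S'') (p' q' : X'' ⟶ X') (hp : IsPullback p' f'' f' p) (hq : IsPullback q' f'' f' q)
    (hpq : p' ≫ g' = q' ≫ g')
    (x : ↥X) (hx : Dual3.resTrdeg f x = r)
    (x₁ x₂ : ↥X') (h₁ : g'.base x₁ = x) (h₂ : g'.base x₂ = x)
    (hx₁ : Dual3.resTrdeg f' x₁ = r) (hx₂ : Dual3.resTrdeg f' x₂ = r) :
    ∃ x'' : ↥X'', Dual3.resTrdeg f'' x'' = r ∧ p'.base x'' = x₁ ∧ q'.base x'' = x₂ := by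
  haveI : LocallyOfFiniteType f' := MorphismProperty.of_isPullback hX ‹_›
  haveI : LocallyOfFiniteType f'' := MorphismProperty.of_isPullback hp inferInstance
  have hP : IsPullback (p' ≫ g') f'' f (p ≫ g) := hp.paste_horiz hX
  have hsq : IsPullback p' q' g' g' := by
    have hbig : IsPullback p' (q' ≫ f') (g' ≫ f) g := by
      have := hp.paste_vert hS
      rwa [← hX.w, ← hq.w] at this
    exact IsPullback.of_bot hbig hpq hX
  obtain ⟨z₀, hz₁, hz₂⟩ := Scheme.Pullback.exists_preimage_pullback (f := g') (g := g') x₁ x₂ (h₁.trans h₂.symm)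
  obtain ⟨z, hpz, hqz⟩ : ∃ z, p' z = x₁ ∧ q' z = x₂ := by
    refine ⟨hsq.isoPullback.inv z₀, ?_, ?_⟩
    · rw [← Scheme.Hom.comp_apply, hsq.isoPullback_inv_fst]; exact hz₁
    · rw [← Scheme.Hom.comp_apply, hsq.isoPullback_inv_snd]; exact hz₂
  have conv : ∀ {A B : Scheme.{u}} (φ : A ⟶ B) [LocallyOfFiniteType φ] (a : A) (m : ℕ),
      Dual3.resTrdeg φ a = m ↔ FibDim.rd φ a = m := by
    intro A B φ _ a m
    have h : Dual3.resTrdeg φ a = (FibDim.rd φ a : Cardinal) := (FibDim.rd_eq_rdeg φ a).symm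
    rw [h, Nat.cast_inj]
  rw [conv] at hx hx₁ hx₂
  simp only [conv]
  let T : Set X'' := {w | w ⤳ z ∧ (p' ≫ g') w = x ∧ f'' w = f'' z}
  have hzT : z ∈ T := ⟨specializes_refl z, by rw [Scheme.Hom.comp_apply, hpz, h₁], rfl⟩
  have hbd : ∀ w ∈ T, FibDim.rd f'' w ≤ r := fun w hw =>
    (FibDim.rd_baseChange_le hP w).trans_eq (by rw [hw.2.1, hx])
  obtain ⟨w, hwT, hwmax⟩ : ∃ w ∈ T, ∀ v ∈ T, FibDim.rd f'' v ≤ FibDim.rd f'' w := by
    have hne : ((fun v => FibDim.rd f'' v) '' T).Nonempty := ⟨_, z, hzT, rfl⟩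
    have hb : BddAbove ((fun v => FibDim.rd f'' v) '' T) := ⟨r, by rintro _ ⟨v, hv, rfl⟩; exact hbd v hv⟩
    obtain ⟨w, hw, hwe⟩ := Nat.sSup_mem hne hb
    exact ⟨w, hw, fun v hv => (le_csSup hb ⟨v, hv, rfl⟩).trans_eq hwe.symm⟩
  have hr : FibDim.rd f'' w = r := by
    rw [FibDim.rd_baseChange_eq_of_minimal hP w (fun v hv h1 h2 => ?_), hwT.2.1, hx]
    by_contra hne
    exact absurd (hwmax v ⟨hv.trans hwT.1, h1.trans hwT.2.1, h2.trans hwT.2.2⟩)
      (FibDim.rd_lt f'' hv hne h2).not_ge
  have key : ∀ (t : X'' ⟶ X') (a : S'' ⟶ S') (x₀ : X'), IsPullback t f'' f' a → t ≫ g' = p' ≫ g' →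
      t z = x₀ → FibDim.rd f' x₀ = r → t w = x₀ := by
    intro t a x₀ sq hg htz hr₀
    by_contra hne
    have hf : f' (t w) = f' x₀ := by
      rw [← htz, ← Scheme.Hom.comp_apply, ← Scheme.Hom.comp_apply, sq.w, Scheme.Hom.comp_apply,
        Scheme.Hom.comp_apply, hwT.2.2]
    have hlt := FibDim.rd_lt f' (htz ▸ hwT.1.map t.continuous) hne hf
    have hle : FibDim.rd f' (t w) ≤ r := (FibDim.rd_baseChange_le hX (t w)).trans_eq (by
      rw [← Scheme.Hom.comp_apply, hg, hwT.2.1, hx])
    omega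
  exact ⟨w, hr, key p' p x₁ hp rfl hpz hx₁, key q' q x₂ hq hpq.symm hqz hx₂⟩

end Groth.Agent.S7287
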