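import Groth.Statements.S7292
import Groth.Agent.EtDescX.FpLimit
import Groth.Agent.EtDescX.VLimit
import Groth.Agent.EtDescX.HPh
import Groth.Agent.HTopCov.Spec
import Groth.Agent.HTopCov.Sheaf

set_option autoImplicit false
open CategoryTheory CategoryTheory.Limits AlgebraicGeometry Opposite
universe w u
open HTop

namespace Groth.Agent.S7292

set_option backward.isDefEq.respectTransparency false
set_option backward.isDefEq.respectTransparency.types false


/-- Let f be a morphism of affine schemes from X to Y. The following are equivalent: (1) the one-member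
family given by f is a standard V covering; (2) X (with f) is the limit, as a scheme over Y, of a
cofiltered system of affine schemes X_i over Y such that each one-member family X_i over Y is a ph
covering; (3) the same with each X_i over Y an h covering. -/
theorem result {X Y : Scheme.{u}} [IsAffine X] [IsAffine Y] (f : X ⟶ Y) :
    List.TFAE
      [HTop.IsStandardV (PreZeroHypercover.singleton.{w} f),
       ∃ (I : Type u) (_ : SmallCategory I) (_ : IsCofiltered I) (D : I ⥤ Over Y) (c : Cone D)
          (_ : IsLimit ((Over.forget Y).mapCone c)) (_ : c.pt ≅ Over.mk f),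
          (∀ i, IsAffine (D.obj i).left) ∧ ∀ i, HTop.IsPhCover (PreZeroHypercover.singleton.{w} (D.obj i).hom),
       ∃ (I : Type u) (_ : SmallCategory I) (_ : IsCofiltered I) (D : I ⥤ Over Y) (c : Cone D)
          (_ : IsLimit ((Over.forget Y).mapCone c)) (_ : c.pt ≅ Over.mk f),
          (∀ i, IsAffine (D.obj i).left) ∧ ∀ i, HTop.IsHCover (PreZeroHypercover.singleton.{w} (D.obj i).hom)] := by
  have up : HTop.IsStandardV (PreZeroHypercover.singleton.{w} f) →
      ∃ (I : Type u) (_ : SmallCategory I) (_ : IsCofiltered I) (D : I ⥤ Over Y) (c : Cone D)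
          (_ : IsLimit ((Over.forget Y).mapCone c)) (_ : c.pt ≅ Over.mk f),
          (∀ i, IsAffine (D.obj i).left) ∧ ∀ i, HTop.IsHCover (PreZeroHypercover.singleton.{w} (D.obj i).hom) := by
    intro h
    obtain ⟨I, i1, i2, D, c, hc, e, haff, hfp⟩ := EtDescX.exists_fp_limit f
    refine ⟨I, i1, i2, D, c, hc, e, haff, fun i => ⟨fun _ => hfp i, HTopCov.isVCover_of_standardV ?_⟩⟩
    haveI := haff i
    refine ⟨inferInstance, inferInstanceAs (Finite PUnit), fun _ => haff i, fun V _ _ g => ?_⟩
    obtain ⟨W, hW, hW', φ, hφ, j, l, hl⟩ := h.lift V g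
    exact ⟨W, hW, hW', φ, hφ, PUnit.unit, l ≫ (e.inv ≫ c.π.app i).left,
      (Category.assoc _ _ _).trans ((congrArg (l ≫ ·) (Over.w (e.inv ≫ c.π.app i))).trans hl)⟩
  have down : ∀ (I : Type u) [SmallCategory I] [IsCofiltered I] (D : I ⥤ Over Y) (c : Cone D)
      (_ : IsLimit ((Over.forget Y).mapCone c)) (_ : c.pt ≅ Over.mk f) (_ : ∀ i, IsAffine (D.obj i).left),
      (∀ i, HTop.IsVCover (PreZeroHypercover.singleton.{w} (D.obj i).hom)) →
        HTop.IsStandardV (PreZeroHypercover.singleton.{w} f) := by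
    intro I _ _ D c hc e haff h
    refine ⟨inferInstance, inferInstanceAs (Finite PUnit), fun _ => inferInstanceAs (IsAffine X), fun V _ _ g => ?_⟩
    haveI : ∀ i, IsAffine (D.obj i).left := haff
    obtain ⟨W, hW, hW', φ, l, hφ, hl⟩ := EtDescX.valLift_limit D c hc (fun i V _ _ g => by
      obtain ⟨W, hW, hW', φ, hφ, j, l, hl⟩ := HTopCov.hasValLift_of_isVCover (h i) V g
      exact ⟨W, hW, hW', φ, l, hφ, hl⟩) V g
    exact ⟨W, hW, hW', φ, hφ, PUnit.unit, l ≫ e.hom.left,
      (Category.assoc _ _ _).trans ((congrArg (l ≫ ·) (Over.w e.hom)).trans hl)⟩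
  tfae_have 1 → 2 := fun h => by
    obtain ⟨I, i1, i2, D, c, hc, e, haff, hh⟩ := up h
    exact ⟨I, i1, i2, D, c, hc, e, haff, fun i => (EtDescX.isPhCover_iff_isVCover _ (hh i).1).2 (hh i).2⟩
  tfae_have 2 → 1 := fun ⟨I, i1, i2, D, c, hc, e, haff, hh⟩ => down I D c hc e haff fun i U => by
    obtain ⟨F, hF, hr⟩ := (hh i).2 U
    exact ⟨F, HTopCov.standardV_of_standardPh F hF, hr⟩
  tfae_have 1 → 3 := up
  tfae_have 3 → 1 := fun ⟨I, i1, i2, D, c, hc, e, haff, hh⟩ => down I D c hc e haff fun i => (hh i).2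
  tfae_finish

end Groth.Agent.S7292
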