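import Groth.Statements.S7298
import Groth.Agent.FibVanish.QCoh
import Groth.Agent.FibVanish.Birational

set_option autoImplicit false
set_option backward.isDefEq.respectTransparency false
set_option backward.isDefEq.respectTransparency.types false
set_option linter.style.haveILetI false
universe u
open CategoryTheory CategoryTheory.Limits AlgebraicGeometry
open Resolve

namespace Groth.Agent.S7298
open Groth.Agent

/-- Let A be a local normal Nagata domain of dimension two defining a rational singularity, and f : X →
Spec A a proper morphism from an integral normal scheme which is an isomorphism over some nonempty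
open of Spec A. Then H^1(X, F) = 0 for every quasi-coherent O_X-module F which is globally generated
(a quotient of a free O_X-module). -/
theorem result (A : Type u) [CommRing A] [IsDomain A] [IsLocalRing A] [IsNoetherianRing A]
    [IsIntegrallyClosed A] (hN : CAlg.IsNagata A) (hdim : ringKrullDim A = 2) (hA : Curv2.IsRationalSing A)
    (X : Scheme.{u}) (f : X ⟶ Spec (CommRingCat.of A)) [IsProper f] [IsIntegral X] (hXn : Pi1.IsNormalScheme X)
    (hbir : ∃ U : (Spec (CommRingCat.of A)).Opens, (U : Set (Spec (CommRingCat.of A))).Nonempty ∧ IsIso (f ∣_ U))
    (F : X.Modules) (hF : Coh.IsQCoh F) (hgg : Curv2.IsGloballyGenerated F) : Subsingleton (Coh.HH X F 1) := by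
  letI : X.Over (Spec (CommRingCat.of A)) := ⟨f⟩
  haveI : IsProper (X ↘ Spec (CommRingCat.of A)) := ‹IsProper f›
  refine FibVanish.h1_of_globallyGenerated (A := A) (fun y hy => ?_) (hA X f ‹_› ‹_› hXn hbir) hF hgg
  refine FibVanish.fibre_dim_le_one A hdim.le f hbir y fun h => ?_
  have hy' := (PrimeSpectrum.isClosed_singleton_iff_isMaximal y).1 hy
  rw [h] at hy'
  have hfield : IsField A := by
    by_contra hnf
    exact Ring.ne_bot_of_isMaximal_of_not_isField hy' hnf rfl
  rw [ringKrullDim_eq_zero_of_isField hfield] at hdim
  exact absurd hdim (by norm_num)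

end Groth.Agent.S7298
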