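import Groth.Statements.S7299
import Groth.Agent.FibVanish.PowSect
import Groth.Agent.FibVanish.Birational
-- import your own Groth.Agent.* helpers here

set_option autoImplicit false
set_option backward.isDefEq.respectTransparency false
set_option backward.isDefEq.respectTransparency.types false
set_option linter.style.haveILetI false
set_option maxHeartbeats 1000000
universe u
open CategoryTheory CategoryTheory.Limits AlgebraicGeometry
open Resolve

namespace Groth.Agent.S7299
open Groth.Agent

/-- Let (A, m) be a local normal Nagata domain of dimension two defining a rational singularity, f : X →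
Spec A a proper morphism from an integral normal scheme which is an isomorphism over some nonempty
open, and suppose the closed fibre, with ideal sheaf I = m O_X, is an effective Cartier divisor.
Then for every n ≥ 0, H^1(X, I^n) = 0 and H^0(X, I^n) = m^n: an element of A, viewed as a global
function on X, lies in I^n on every affine open if and only if it belongs to m^n. -/
theorem result (A : Type u) [CommRing A] [IsDomain A] [IsLocalRing A] [IsNoetherianRing A]
    [IsIntegrallyClosed A] (hN : CAlg.IsNagata A) (hdim : ringKrullDim A = 2) (hA : Curv2.IsRationalSing A)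
    (X : Scheme.{u}) (f : X ⟶ Spec (CommRingCat.of A)) [IsProper f] [IsIntegral X] (hXn : Pi1.IsNormalScheme X)
    (hbir : ∃ U : (Spec (CommRingCat.of A)).Opens, (U : Set (Spec (CommRingCat.of A))).Nonempty ∧ IsIso (f ∣_ U))
    (hE : BlowUp.IsEffCartierIdeal ((Curv2.idealSheaf A (IsLocalRing.maximalIdeal A)).comap f)) (n : ℕ) :
    Subsingleton (Coh.HH X (ClSub.idealMod (((Curv2.idealSheaf A (IsLocalRing.maximalIdeal A)).comap f) ^ n)) 1) ∧
      ∀ a : A, (∀ U : X.affineOpens,
          Coh.resTop X (Opposite.op U.1) (Coh.toGlobal f a) ∈ (((Curv2.idealSheaf A (IsLocalRing.maximalIdeal A)).comap f) ^ n).ideal U) ↔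
        a ∈ IsLocalRing.maximalIdeal A ^ n := by
  refine FibVanish.PowSect.main f ?_ (hA X f ‹_› ‹_› hXn hbir) hbir hE n
  intro y hy
  refine FibVanish.fibre_dim_le_one A hdim.le f hbir y fun h => ?_
  have hy' := (PrimeSpectrum.isClosed_singleton_iff_isMaximal y).1 hy
  rw [h] at hy'
  have hfield : IsField A := by
    by_contra hnf
    exact Ring.ne_bot_of_isMaximal_of_not_isField hy' hnf rfl
  rw [ringKrullDim_eq_zero_of_isField hfield] at hdim
  exact absurd hdim (by norm_num)

end Groth.Agent.S7299
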