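import Groth.Statements.S7304
import Groth.Agent.BlowUpLib.Glue
import Groth.Agent.S1680
import Groth.Agent.ValTest.Basic
import Groth.Agent.FlatLoc6.Cpl
import Groth.Agent.FComplLib.AdicUnit
-- import your own Groth.Agent.* helpers here

set_option autoImplicit false
set_option backward.isDefEq.respectTransparency false
set_option backward.isDefEq.respectTransparency.types false
set_option linter.style.haveILetI false
set_option maxHeartbeats 1000000
universe u
open CategoryTheory CategoryTheory.Limits AlgebraicGeometry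
open Resolve

namespace Groth.Agent.S7304
open Groth.Agent

/-- Let (A, m) be a Noetherian local ring with m-adic completion A^, and U ⊂ Spec A, U^ ⊂ Spec A^ the
punctured spectra. If c : Y → Spec A^ is a U^-admissible blowing up (a blowing up in a
quasi-coherent ideal of finite type whose support misses U^), then there is a U-admissible blowing
up b : X → Spec A such that Y is isomorphic, over Spec A^, to the base change of X to Spec A^. -/
theorem result (A : Type u) [CommRing A] [IsLocalRing A] [IsNoetherianRing A]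
    (Y : Scheme.{u}) (c : Y ⟶ Spec (CommRingCat.of (Curv2.cpl A)))
    (J : (Spec (CommRingCat.of (Curv2.cpl A))).IdealSheafData)
    (hJ : BlowUp.IsAdmissibleFor (FEt.puncturedSpec (Curv2.cpl A)) J) (hc : BlowUp.IsBlowUp c J) :
    ∃ (I : (Spec (CommRingCat.of A)).IdealSheafData) (X : Scheme.{u}) (b : X ⟶ Spec (CommRingCat.of A)),
      BlowUp.IsAdmissibleFor (FEt.puncturedSpec A) I ∧ BlowUp.IsBlowUp b I ∧
      ∃ e : Y ≅ Curv2.bcCpl A b, e.hom ≫ Curv2.bcCplSnd A b = c := by
  haveI := FlatLoc6.isNoetherianRing_cpl A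
  let φc := CommRingCat.ofHom (algebraMap A (Curv2.cpl A))
  let g := Spec.map φc
  haveI : IsLocalHom φc.hom := inferInstanceAs (IsLocalHom (algebraMap A (Curv2.cpl A)))
  let iA := (Scheme.ΓSpecIso (CommRingCat.of A)).inv
  let iC := (Scheme.ΓSpecIso (CommRingCat.of (Curv2.cpl A))).inv
  let J0 : Ideal (Curv2.cpl A) := (J.ideal ⟨⊤, isAffineOpen_top _⟩).comap iC.hom
  let I0 : Ideal A := J0.comap φc.hom
  let 𝔪 := IsLocalRing.maximalIdeal A
  have hsupp : ∀ {R : CommRingCat.{u}} (K : (Spec R).IdealSheafData),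
      (K.support : Set (Spec R)) =
        PrimeSpectrum.zeroLocus ((K.ideal ⟨⊤, isAffineOpen_top _⟩).comap (Scheme.ΓSpecIso R).inv.hom) := by
    intro R K
    have h1 : K = Scheme.IdealSheafData.ofIdealTop (K.ideal ⟨⊤, isAffineOpen_top _⟩) :=
      (Scheme.IdealSheafData.equivOfIsAffine.left_inv K).symm
    conv_lhs => rw [h1]
    rw [Scheme.IdealSheafData.coe_support_ofIdealTop, Spec_zeroLocus]
    rfl
  have hJle : 𝔪.map φc.hom ≤ J0.radical := by
    rw [← PrimeSpectrum.vanishingIdeal_zeroLocus_eq_radical]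
    intro x hx
    rw [PrimeSpectrum.mem_vanishingIdeal]
    intro P hP
    rw [← hsupp J] at hP
    by_contra hne
    have hcl : P ≠ IsLocalRing.closedPoint (Curv2.cpl A) := fun h => hne (h ▸
      Ideal.map_le_iff_le_comap.2 (le_of_eq (IsLocalRing.maximalIdeal_comap φc.hom).symm) hx)
    exact Set.disjoint_left.1 hJ.2 hP hcl
  obtain ⟨n, hn⟩ := Ideal.exists_pow_le_of_le_radical_of_fg hJle (Ideal.FG.map (IsNoetherian.noetherian 𝔪) φc.hom)
  have hI0 : I0.map φc.hom = J0 := by
    refine le_antisymm Ideal.map_comap_le fun x hx => ?_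
    obtain ⟨a, ha⟩ := Ideal.Quotient.mk_surjective (AdicCompletion.evalₐ 𝔪 n x)
    have h1 : x - φc a ∈ (𝔪 ^ n).map φc.hom := (FComplLib.evalₐ_eq_zero_iff 𝔪 (IsNoetherian.noetherian _) n _).1 (by
      rw [map_sub, show AdicCompletion.evalₐ 𝔪 n (φc a) = _ from FComplLib.evalₐ_algebraMap 𝔪 n a, ha, sub_self])
    have hle : 𝔪 ^ n ≤ I0 := Ideal.map_le_iff_le_comap.1 (by rw [Ideal.map_pow]; exact hn)
    have h2 : φc a ∈ J0 := by
      simpa using sub_mem hx (Ideal.map_le_iff_le_comap.2 hle h1)
    simpa using add_mem (Ideal.map_mono hle h1) (Ideal.mem_map_of_mem φc.hom (show a ∈ I0 from h2))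
  let I : (Spec (CommRingCat.of A)).IdealSheafData := Scheme.IdealSheafData.ofIdealTop (I0.map iA.hom)
  have hItop : I.ideal ⟨⊤, isAffineOpen_top _⟩ = I0.map iA.hom :=
    Scheme.IdealSheafData.equivOfIsAffine.right_inv _
  have hcomap : I.comap g = J := by
    refine Scheme.IdealSheafData.ext_of_isAffine ?_
    rw [ValTest.comap_eq_ofIdealTop, hItop, Ideal.map_map, ← CommRingCat.hom_comp,
      show iA ≫ g.appTop = φc ≫ iC from (Scheme.ΓSpecIso_inv_naturality φc).symm, CommRingCat.hom_comp,
      ← Ideal.map_map, hI0]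
    exact Ideal.map_comap_of_surjective iC.hom
      (ConcreteCategory.bijective_of_isIso iC).2 _
  haveI : Flat g := by
    rw [HasRingHomProperty.Spec_iff (P := @Flat), CommRingCat.hom_ofHom, RingHom.flat_algebraMap_iff]
    exact AdicCompletion.flat_of_isNoetherian _
  obtain ⟨X, b, hb⟩ := BlowUpLib.exists_blowUp I
  refine ⟨I, X, b, ⟨fun U => ?_, Set.disjoint_left.2 fun P hP hPU => hPU ?_⟩, hb, ?_⟩
  · haveI : IsLocallyNoetherian (Spec (CommRingCat.of A)) := inferInstance
    haveI : IsNoetherianRing Γ(Spec (CommRingCat.of A), U.1) := IsLocallyNoetherian.component_noetherian U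
    exact IsNoetherian.noetherian _
  · rw [hsupp I, hItop] at hP
    refine Set.mem_singleton_iff.2 (PrimeSpectrum.ext ((IsLocalRing.maximalIdeal.isMaximal A).eq_of_le
      P.isPrime.ne_top ?_).symm)
    haveI := P.isPrime
    refine (Ideal.IsPrime.pow_le_iff (I := 𝔪) (P := P.asIdeal) (n := n + 2) (by omega)).1 ?_
    refine le_trans (le_trans (Ideal.pow_le_pow_right (show n ≤ n + 2 by omega)) ?_) hP
    exact (Ideal.map_le_iff_le_comap.1 (by rw [Ideal.map_pow]; exact hn)).trans Ideal.le_comap_map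
  · have h := S1680.result g I b hb
    rw [hcomap] at h
    obtain ⟨e, he, -⟩ := h.2 Y c hc.1
    obtain ⟨d, hd, -⟩ := hc.2 _ (pullback.fst g b) h.1
    have hde : d ≫ e = 𝟙 _ := (h.2 _ (pullback.fst g b) h.1).unique (by rw [Category.assoc, he, hd]) (Category.id_comp _)
    have hed : e ≫ d = 𝟙 _ := (hc.2 Y c hc.1).unique (by rw [Category.assoc, hd, he]) (Category.id_comp _)
    exact ⟨(⟨e, d, hed, hde⟩ : Y ≅ pullback g b) ≪≫ pullbackSymmetry g b, by
      show (e ≫ (pullbackSymmetry g b).hom) ≫ pullback.snd b g = c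
      rw [Category.assoc, pullbackSymmetry_hom_comp_snd, he]⟩

end Groth.Agent.S7304
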