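import Groth.Statements.S7308
import Groth.Agent.S7307
-- import your own Groth.Agent.* helpers here

set_option autoImplicit false
set_option backward.isDefEq.respectTransparency false
set_option backward.isDefEq.respectTransparency.types false
set_option linter.style.haveILetI false
set_option maxHeartbeats 1000000
universe u
open CategoryTheory CategoryTheory.Limits AlgebraicGeometry
open Resolve

namespace Groth.Agent.S7308
open Groth.Agent

/-- Let X be a Noetherian scheme and ι : E → X a closed immersion which is an exceptional curve of the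
first kind. A contraction of E, if it exists, is unique up to unique isomorphism: for contractions
b₁ : X → X₁ and b₂ : X → X₂ of E there is a unique isomorphism e : X₁ ≅ X₂ with b₁ ≫ e = b₂. -/
theorem result {E X X₁ X₂ : Scheme.{u}} [IsNoetherian X] (ι : E ⟶ X) [IsClosedImmersion ι]
    (hE : Models.IsExcCurve ι) (b₁ : X ⟶ X₁) (hb₁ : Models.IsContractionOf ι b₁) (b₂ : X ⟶ X₂) (hb₂ : Models.IsContractionOf ι b₂) :
    ∃! e : X₁ ≅ X₂, b₁ ≫ e.hom = b₂ := by
  have hb₁' := hb₁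
  have hb₂' := hb₂
  obtain ⟨-, -, y₁, -, hy₁, -⟩ := hb₁'
  obtain ⟨-, -, y₂, -, hy₂, -⟩ := hb₂'
  obtain ⟨u, hu, huu⟩ := S7307.result ι hE b₁ hb₁ b₂ y₂ hy₂
  obtain ⟨v, hv, -⟩ := S7307.result ι hE b₂ hb₂ b₁ y₁ hy₁
  obtain ⟨i₁, -, h₁⟩ := S7307.result ι hE b₁ hb₁ b₁ y₁ hy₁
  obtain ⟨i₂, -, h₂⟩ := S7307.result ι hE b₂ hb₂ b₂ y₂ hy₂
  have e₁ : u ≫ v = 𝟙 X₁ := (h₁ _ (show b₁ ≫ u ≫ v = b₁ by rw [reassoc_of% hu, hv])).trans
    (h₁ _ (Category.comp_id b₁)).symm
  have e₂ : v ≫ u = 𝟙 X₂ := (h₂ _ (show b₂ ≫ v ≫ u = b₂ by rw [reassoc_of% hv, hu])).trans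
    (h₂ _ (Category.comp_id b₂)).symm
  exact ⟨⟨u, v, e₁, e₂⟩, hu, fun e' he' => Iso.ext (huu _ he')⟩

end Groth.Agent.S7308
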