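import Groth.Statements.S7315
import Groth.Agent.Castelnuovo.Polarized

set_option autoImplicit false
set_option backward.isDefEq.respectTransparency false
set_option backward.isDefEq.respectTransparency.types false
set_option maxHeartbeats 1000000
set_option linter.style.haveILetI false
universe u
open CategoryTheory CategoryTheory.Limits AlgebraicGeometry
open Resolve

namespace Groth.Agent.S7315

/-- Let R be a Noetherian ring, f : X → Spec R a proper morphism, L an ample invertible O_X-module, and
ι : E → X a closed immersion which is an exceptional curve of the first kind, with ideal sheaf I.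
Then (1) E can be contracted by some b : X → X', (2) there is g : X' → Spec R with b ≫ g = f and g
proper, and (3) there are an integer n ≥ 0 and an ample invertible O_{X'}-module L' whose pullback
along b is isomorphic to L(nE) = L ⊗ M^{⊗ n}, where M is an inverse of I for the tensor product (the
module O_X(E)). -/
theorem result (R : Type u) [CommRing R] [IsNoetherianRing R] {E X : Scheme.{u}}
    (f : X ⟶ Spec (CommRingCat.of R)) [IsProper f] (L : X.Modules) (hL : CohB1.IsAmple L)
    (ι : E ⟶ X) [IsClosedImmersion ι] (hE : Models.IsExcCurve ι)
    (M : X.Modules) (hM : ClSub.IsInverseOf M (ClSub.idealMod ι.ker)) :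
    ∃ (X' : Scheme.{u}) (b : X ⟶ X') (g : X' ⟶ Spec (CommRingCat.of R)), Models.IsContractionOf ι b ∧ b ≫ g = f ∧
      IsProper g ∧ ∃ (n : ℕ) (L' : X'.Modules), CohB1.IsAmple L' ∧
        Nonempty ((Scheme.Modules.pullback b).obj L' ≅ CohB1.tensorMod L (CohB1.tensorPow M n)) := by
  exact Castelnuovo.exists_contraction_polarized ι f L hL hE M hM

end Groth.Agent.S7315
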