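import Groth.Statements.S7324
import Groth.Agent.PointBlowUp.Pic
-- import your own Groth.Agent.* helpers here

set_option autoImplicit false
set_option backward.isDefEq.respectTransparency false
set_option backward.isDefEq.respectTransparency.types false
set_option linter.style.haveILetI false
set_option maxHeartbeats 1000000
universe u
open CategoryTheory CategoryTheory.Limits AlgebraicGeometry
open Resolve

namespace Groth.Agent.S7324
open Groth.Agent

/-- Let (A, m) be a regular local ring of dimension two and b : X → Spec A the blowing up in m, with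
exceptional divisor E, ideal sheaf I = O_X(-E), and M = O_X(E) an inverse of I for the tensor
product. Then Pic(X) = Z generated by O_X(E): every invertible O_X-module is isomorphic to I^{⊗ n}
or to M^{⊗ n} for some n ≥ 0, and I^{⊗ n} is not isomorphic to O_X for n ≥ 1. -/
theorem result (A : Type u) [CommRing A] [IsRegularLocalRing A] (hA : ringKrullDim A = 2)
    (X : Scheme.{u}) (b : X ⟶ Spec (CommRingCat.of A)) (hb : BlowUp.IsBlowUp b (Curv2.idealSheaf A (IsLocalRing.maximalIdeal A)))
    (M : X.Modules) (hM : ClSub.IsInverseOf M (ClSub.idealMod (BlowUp.exceptional b (Curv2.idealSheaf A (IsLocalRing.maximalIdeal A))))) :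
    (∀ L : X.Modules, PicF.IsInvertible L → ∃ n : ℕ,
      Nonempty (L ≅ CohB1.tensorPow (ClSub.idealMod (BlowUp.exceptional b (Curv2.idealSheaf A (IsLocalRing.maximalIdeal A)))) n) ∨
        Nonempty (L ≅ CohB1.tensorPow M n)) ∧
    ∀ n : ℕ, 1 ≤ n →
      IsEmpty (CohB1.tensorPow (ClSub.idealMod (BlowUp.exceptional b (Curv2.idealSheaf A (IsLocalRing.maximalIdeal A)))) n ≅
        Coh.structureModule X) := by
  open scoped Groth.Agent.H23.PicMul in
    obtain ⟨h1, h2⟩ := PointBlowUp.pic_local b hA hb M hM
    refine ⟨fun L hL => ?_, fun n hn => ⟨fun e => h2 n hn ?_⟩⟩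
    · obtain ⟨n, h | h⟩ := h1 L hL
      · exact ⟨n, Or.inl (H23.PicMul.cl_eq_iff.1 (h.trans (H23.PicMul.cl_tensorPow _ n).symm))⟩
      · exact ⟨n, Or.inr (H23.PicMul.cl_eq_iff.1 (h.trans (H23.PicMul.cl_tensorPow _ n).symm))⟩
    · exact (H23.PicMul.cl_tensorPow _ n).symm.trans (H23.PicMul.cl_eq_iff.2 ⟨e⟩)

end Groth.Agent.S7324
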