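import Groth.Statements.S7326
import Groth.Agent.MdlInter.Conn

set_option autoImplicit false
set_option backward.isDefEq.respectTransparency false
set_option backward.isDefEq.respectTransparency.types false
set_option maxHeartbeats 1000000
set_option linter.style.haveILetI false
universe u
open CategoryTheory CategoryTheory.Limits AlgebraicGeometry
open Models

namespace Groth.Agent.S7326
open scoped Groth.Agent.H23.PicMul

/-- Let R be a discrete valuation ring with fraction field K, C a smooth proper curve over K with H^0(C,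
O_C) = K, X a regular proper model of C, Γ_1, …, Γ_n the irreducible components of the closed fibre
with multiplicities m_i, d = gcd(m_i), and D = Σ (m_i/d) Γ_i the effective Cartier divisor with
ideal sheaf I_D = Π I(Γ_i)^{m_i/d}. Then O_X(D) (any L with L ⊗ I_D ≅ O_X) has order dividing d in
Pic(X), i.e. L^{⊗ d} ≅ O_X, and the conormal sheaf I_D|_D, an invertible O_D-module, has order
dividing d in Pic(D). -/
theorem result (R : Type u) [CommRing R] [IsDomain R] [IsDiscreteValuationRing R]
    (C X : Scheme.{u}) (f : C ⟶ Spec (CommRingCat.of (FractionRing R))) (p : X ⟶ Spec (CommRingCat.of R))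
    (hC : Curve.IsSmoothProperCurve (FractionRing R) C f) (hH0 : IsIso f.appTop)
    (hX : Models.IsRegularProperModel R X p C f)
    {n : ℕ} (Γ : Fin n → ArSurf.VertComp R (Over.mk p)) (hΓ : Models.IsComponentList R (Over.mk p) Γ)
    (L : X.Modules)
    (hL : ClSub.IsInverseOf L (ClSub.idealMod (∏ i, (Γ i).ι.ker ^ (Models.mult R (Over.mk p) (Γ i) / Models.multGcd R (Over.mk p) Γ)))) :
    Nonempty (CohB1.tensorPow L (Models.multGcd R (Over.mk p) Γ) ≅ Coh.structureModule X) ∧
      Nonempty (CohB1.tensorPow ((Scheme.Modules.pullback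
          (∏ i, (Γ i).ι.ker ^ (Models.mult R (Over.mk p) (Γ i) / Models.multGcd R (Over.mk p) Γ)).subschemeι).obj
          (ClSub.idealMod (∏ i, (Γ i).ι.ker ^ (Models.mult R (Over.mk p) (Γ i) / Models.multGcd R (Over.mk p) Γ))))
          (Models.multGcd R (Over.mk p) Γ) ≅
        Coh.structureModule (∏ i, (Γ i).ι.ker ^ (Models.mult R (Over.mk p) (Γ i) / Models.multGcd R (Over.mk p) Γ)).subscheme) := by
  classical
  haveI := hX.2.1
  have S := MdlInter.setting_of_model hX hΓ
  let d := Models.multGcd R (Over.mk p) Γ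
  let e : Fin n → ℕ := fun i => Models.mult R (Over.mk p) (Γ i) / d
  have hmul : ∀ i, e i * d = Models.mult R (Over.mk p) (Γ i) := fun i =>
    Nat.div_mul_cancel (Finset.gcd_dvd (Finset.mem_univ i))
  have hD : (PicF.cl (ClSub.idealMod (∏ i, MdlInter.comp Γ i ^ e i))) ^ d = 1 := by
    rw [S.cl_idealMod_prod, ← Finset.prod_pow]
    simp only [← pow_mul, hmul]
    exact S.prod_cl_mult
  refine ⟨H23.PicMul.cl_eq_iff.1 ?_, H23.PicMul.cl_eq_iff.1 ?_⟩
  · rw [H23.PicMul.cl_tensorPow, ← H23.PicMul.one_def]
    have h : PicF.cl L * PicF.cl (ClSub.idealMod (∏ i, MdlInter.comp Γ i ^ e i)) = 1 := by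
      rw [← H23.PicMul.cl_tensor, H23.PicMul.one_def]
      exact H23.PicMul.cl_eq_iff.2 hL
    have h2 := congrArg (· ^ d) h
    simp only [mul_pow, one_pow, hD, mul_one] at h2
    exact h2
  · rw [H23.PicMul.cl_tensorPow, ← H23.PicMul.one_def]
    have key := congrArg (H23.PicMul.pullHom (∏ i, MdlInter.comp Γ i ^ e i).subschemeι) hD
    rw [map_pow, map_one] at key
    exact key

end Groth.Agent.S7326
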