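import Groth.Statements.S7337
import Groth.Agent.FibVanish.ExcDiv
import Groth.Agent.FibVanish.Birational
-- import your own Groth.Agent.* helpers here

set_option autoImplicit false
set_option backward.isDefEq.respectTransparency false
set_option backward.isDefEq.respectTransparency.types false
set_option linter.style.haveILetI false
set_option maxHeartbeats 1000000
universe u
open CategoryTheory CategoryTheory.Limits AlgebraicGeometry
open Resolve

namespace Groth.Agent.S7337
open Groth.Agent

/-- Let (A, m, κ) be a local normal Nagata domain of dimension two defining a rational singularity, let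
X → Spec A (the structure morphism of X over Spec A) be the blowing up in m, and let E ⊂ X be the
exceptional divisor with ideal sheaf I = O_X(1), so that O_E(n) pushed forward to X is I^{⊗ n} ⊗
O_X/I. Then E is Cohen–Macaulay of dimension one; H^1(E, O_E(n)) = 0 for n ≥ 0; and H^0(E, O_E(n)) ≅
m^n/m^{n+1} for n ≥ 0. (The published statement also asserts that E is proper over κ, that O_E(1) is
very ample, and that deg O_E(1) ≥ 1 with equality only for A regular; this row does not restate
those, and states the description of H^0(E, O_E(n)) as an equality of A-lengths.) -/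
theorem result (A : Type u) [CommRing A] [IsDomain A] [IsLocalRing A] [IsNoetherianRing A]
    [IsIntegrallyClosed A] (hN : CAlg.IsNagata A) (hdim : ringKrullDim A = 2) (hA : Curv2.IsRationalSing A)
    (X : Scheme.{u}) [X.Over (Spec (CommRingCat.of A))]
    (hb : BlowUp.IsBlowUp (X ↘ Spec (CommRingCat.of A)) (Curv2.idealSheaf A (IsLocalRing.maximalIdeal A))) (n : ℕ) :
    (∀ e : ↥(BlowUp.exceptional (X ↘ Spec (CommRingCat.of A)) (Curv2.idealSheaf A (IsLocalRing.maximalIdeal A))).subscheme,
        LocCoh.IsCohenMacaulayLocalRing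
          ((BlowUp.exceptional (X ↘ Spec (CommRingCat.of A)) (Curv2.idealSheaf A (IsLocalRing.maximalIdeal A))).subscheme.presheaf.stalk e)) ∧
      topologicalKrullDim ↥(BlowUp.exceptional (X ↘ Spec (CommRingCat.of A)) (Curv2.idealSheaf A (IsLocalRing.maximalIdeal A))).subscheme = 1 ∧
      Subsingleton (Coh.HH X (CohB1.tensorMod
        (CohB1.tensorPow (ClSub.idealMod (BlowUp.exceptional (X ↘ Spec (CommRingCat.of A)) (Curv2.idealSheaf A (IsLocalRing.maximalIdeal A)))) n)
        (ClSub.quotMod (BlowUp.exceptional (X ↘ Spec (CommRingCat.of A)) (Curv2.idealSheaf A (IsLocalRing.maximalIdeal A))))) 1) ∧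
      Module.length A (Coh.HH X (CohB1.tensorMod
        (CohB1.tensorPow (ClSub.idealMod (BlowUp.exceptional (X ↘ Spec (CommRingCat.of A)) (Curv2.idealSheaf A (IsLocalRing.maximalIdeal A)))) n)
        (ClSub.quotMod (BlowUp.exceptional (X ↘ Spec (CommRingCat.of A)) (Curv2.idealSheaf A (IsLocalRing.maximalIdeal A))))) 0) =
        Module.length A (↥(IsLocalRing.maximalIdeal A ^ n) ⧸
          (Submodule.comap (IsLocalRing.maximalIdeal A ^ n).subtype (IsLocalRing.maximalIdeal A ^ (n + 1)))) := by
  open scoped Groth.Agent.H23.PicMul in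
    have hnf : ¬ IsField A := fun h => by
      rw [ringKrullDim_eq_zero_of_isField h] at hdim
      exact absurd hdim (by norm_num)
    have hm0 : IsLocalRing.maximalIdeal A ≠ ⊥ := fun h => hnf (IsLocalRing.isField_iff_maximalIdeal_eq.2 h)
    obtain ⟨hp, hi, hbir, -⟩ := FibVanish.blowUp_domain A _ hm0 (X ↘ Spec (CommRingCat.of A)) hb
    haveI := hp
    haveI := hi
    have hfib : ∀ {Z : Scheme.{u}} (g : Z ⟶ Spec (CommRingCat.of A)), IsProper g → AlgebraicGeometry.IsIntegral Z →
        (∃ U : (Spec (CommRingCat.of A)).Opens, (U : Set (Spec (CommRingCat.of A))).Nonempty ∧ IsIso (g ∣_ U)) →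
        ∀ y : ↥(Spec (CommRingCat.of A)), IsClosed ({y} : Set ↥(Spec (CommRingCat.of A))) →
          topologicalKrullDim ↥(g ⁻¹' {y}) ≤ (1 : ℕ) := fun g hg hZ hbg y hy => by
      haveI := hg
      haveI := hZ
      refine FibVanish.fibre_dim_le_one A hdim.le g hbg y fun h => ?_
      have hy' := (PrimeSpectrum.isClosed_singleton_iff_isMaximal y).1 hy
      rw [h] at hy'
      exact Ring.ne_bot_of_isMaximal_of_not_isField hy' hnf rfl
    have hn : Pi1.IsNormalScheme X := by
      obtain ⟨X', f, hp', hi', hn', hbir', hE'⟩ := FibVanish.exists_normal_modification A hN _ hm0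
      haveI := hp'
      haveI := hi'
      letI : X'.Over (Spec (CommRingCat.of A)) := ⟨f⟩
      haveI : IsProper (X' ↘ Spec (CommRingCat.of A)) := hp'
      exact FibVanish.PowSect.isNormalScheme_blowUp (A := A) (X := X')
        ⟨hfib f hp' hi' hbir', hA X' f hp' hi' hn' hbir', hbir', hE'⟩ hn' _ hb
    have H : FibVanish.PowSect.Hyp (A := A) (X := X) :=
      ⟨hfib _ hp hi hbir, hA X _ hp hi hn hbir, hbir, hb.1⟩
    refine ⟨fun e => FibVanish.PowSect.cm_stalk hdim.le H hn e, FibVanish.PowSect.dim_eq_one hdim H, ?_⟩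
    haveI := FibVanish.isNoetherian_of_proper A (X := X)
    have hI := (S8914.result (FibVanish.PowSect.fibI A X)).2 H.cartier
    obtain ⟨e⟩ : Nonempty (CohB1.tensorMod (ClSub.idealMod (FibVanish.PowSect.fibI A X ^ n)) (ClSub.quotMod (FibVanish.PowSect.fibI A X)) ≅
        CohB1.tensorMod (CohB1.tensorPow (ClSub.idealMod (FibVanish.PowSect.fibI A X)) n) (ClSub.quotMod (FibVanish.PowSect.fibI A X))) := by
      refine H23.PicMul.cl_eq_iff.1 ?_
      rw [H23.PicMul.cl_tensor, H23.PicMul.cl_tensor, H23.PicMul.cl_tensorPow]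
      congr 1
      cases n with
      | zero =>
        rw [pow_zero, pow_zero, Scheme.IdealSheafData.one_eq_top, PointBlowUp.cl_idealMod_top]
      | succ k => exact (DepthTwist.cl_idealMod_pow _ hI k).2
    exact ⟨QCoh.subsingleton_HH_of_iso e 1 (FibVanish.PowSect.h1_graded H n),
      (ExtShX.GlobalExt.hhEquiv (A := A) e 0).length_eq.symm.trans (FibVanish.PowSect.length_h0_graded H n)⟩

end Groth.Agent.S7337
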