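import Groth.Statements.S7340
import Mathlib

set_option autoImplicit false
universe u
open Polynomial
open Resolve

namespace Groth.Agent.S7340

open Polynomial in
/-- the sum of two `(p-1)`-st power differentials differs from that of the sum by an exact one -/
theorem exists_exact_add {p : ℕ} (hp : p.Prime) {R S : Type u} [CommRing R] [CommRing S] [Algebra R S] (c e : S) :
    ∃ Q : S, (c + e) ^ (p - 1) • KaehlerDifferential.D R S (c + e) =
      c ^ (p - 1) • KaehlerDifferential.D R S c + e ^ (p - 1) • KaehlerDifferential.D R S e +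
        KaehlerDifferential.D R S Q := by
  classical
  obtain ⟨q, rfl⟩ : ∃ q, p = q + 1 := ⟨p - 1, by have := hp.pos; omega⟩
  simp only [Nat.add_sub_cancel]
  let m : ℕ → ℕ := fun j => (q + 1).choose j / (q + 1)
  have hm : ∀ j, 0 < j → j < q + 1 → (q + 1) * m j = (q + 1).choose j := fun j h1 h2 =>
    Nat.mul_div_cancel' (hp.dvd_choose_self h1.ne' h2)
  have hmj : ∀ j, j + 1 < q + 1 → (j + 1) * m (j + 1) = q.choose j := fun j h2 => by
    have h3 := Nat.add_one_mul_choose_eq q j
    rw [← hm (j + 1) (Nat.succ_pos j) h2, mul_assoc] at h3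
    have h4 := Nat.eq_of_mul_eq_mul_left (Nat.succ_pos q) h3
    rw [h4]; ring
  have hmq : ∀ j, j + 1 < q + 1 → (q - j) * m (j + 1) = q.choose (j + 1) := fun j h2 => by
    have h3 : (q + 1) * m (j + 1) = (j + 1) * m (j + 1) + q.choose (j + 1) := by
      rw [hm _ (Nat.succ_pos j) h2, hmj j h2, ← Nat.choose_succ_succ']
    obtain ⟨s, rfl⟩ := Nat.exists_eq_add_of_le (show j ≤ q by omega)
    rw [Nat.add_sub_cancel_left]
    rw [show j + s + 1 = (j + 1) + s by omega, add_mul] at h3
    omega
  refine ⟨∑ j ∈ Finset.range q, (m (j + 1) : S) * (c ^ (j + 1) * e ^ (q - j)), ?_⟩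
  have hpow1 : (c + e) ^ q = c ^ q + ∑ j ∈ Finset.range q, (q.choose j : S) * (c ^ j * e ^ (q - j)) := by
    rw [add_pow, Finset.sum_range_succ, add_comm]
    simp [mul_comm]
  have hpow2 : (c + e) ^ q = e ^ q + ∑ j ∈ Finset.range q, (q.choose (j + 1) : S) * (c ^ (j + 1) * e ^ (q - j - 1)) := by
    rw [add_pow, Finset.sum_range_succ', add_comm]
    simp only [Nat.sub_zero, pow_zero, Nat.choose_zero_right, Nat.cast_one, one_mul, mul_one]
    refine congrArg _ (Finset.sum_congr rfl fun j _ => ?_)
    rw [show q - j - 1 = q - (j + 1) by omega]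
    ring
  rw [map_add, smul_add]
  conv_lhs => arg 1; rw [hpow1]
  conv_lhs => arg 2; rw [hpow2]
  rw [add_smul, add_smul, Finset.sum_smul, Finset.sum_smul, map_sum, add_add_add_comm, ← Finset.sum_add_distrib]
  refine congrArg _ (Finset.sum_congr rfl fun j hj => ?_)
  have hjq := Finset.mem_range.1 hj
  rw [← hmj j (by omega), ← hmq j (by omega), Derivation.leibniz, Derivation.map_natCast, smul_zero, add_zero,
    Derivation.leibniz, Derivation.leibniz_pow, Derivation.leibniz_pow, smul_add]
  simp only [← Nat.cast_smul_eq_nsmul S, smul_smul, Nat.add_sub_cancel]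
  rw [add_comm]
  congr 1 <;> · congr 1; push_cast; ring

open Polynomial in
/-- the trace kills exact forms and sends `c^(p-1) dc` to the differential of `c^p` -/
theorem trace_pow (p : ℕ) [Fact p.Prime] (R : Type u) [CommRing R] [CharP R p] (b : R)
    (Ty : Ω[AdjoinRoot (X ^ p - C b : R[X])⁄R] →ₗ[R] Ω[R⁄ℤ])
    (hTy : ∀ i : ℕ, i + 2 ≤ p →
      Ty (AdjoinRoot.root (X ^ p - C b) ^ i • KaehlerDifferential.D R _ (AdjoinRoot.root (X ^ p - C b))) = 0)
    (hTy' : Ty (AdjoinRoot.root (X ^ p - C b) ^ (p - 1) • KaehlerDifferential.D R _ (AdjoinRoot.root (X ^ p - C b))) =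
      KaehlerDifferential.D ℤ R b) (c : AdjoinRoot (X ^ p - C b : R[X])) :
    Ty (KaehlerDifferential.D R _ c) = 0 ∧
      ∀ a, c ^ p = algebraMap R _ a → Ty (c ^ (p - 1) • KaehlerDifferential.D R _ c) = KaehlerDifferential.D ℤ R a := by
  have hp := (Fact.out : p.Prime)
  let S := AdjoinRoot (X ^ p - C b : R[X])
  let y : S := AdjoinRoot.root (X ^ p - C b)
  let dy := KaehlerDifferential.D R S y
  haveI : Nontrivial R := CharP.nontrivial_of_char_ne_one hp.ne_one
  have hinj : Function.Injective (algebraMap R S) := by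
    rw [injective_iff_map_eq_zero]
    intro r hr
    by_contra h0
    refine (monic_X_pow_sub_C b hp.ne_zero).not_dvd_of_degree_lt (C_ne_zero.2 h0) ?_ (AdjoinRoot.mk_eq_zero.1 hr)
    rw [degree_C h0, degree_X_pow_sub_C hp.pos]
    exact_mod_cast hp.pos
  have hy : y ^ p = algebraMap R S b := sub_eq_zero.1 (by
    have h := AdjoinRoot.eval₂_root (X ^ p - C b)
    rwa [eval₂_sub, eval₂_X_pow, eval₂_C] at h)
  have hT : ∀ (r : R) (z : S), Ty ((algebraMap R S r * z) • dy) = r • Ty (z • dy) := fun r z => by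
    rw [mul_smul, algebraMap_smul, map_smul]
  have hlow : ∀ N : ℕ, ¬ p ∣ N + 1 → Ty (y ^ N • dy) = 0 := fun N hN => by
    rw [← Nat.div_add_mod N p, pow_add, pow_mul, hy, ← map_pow, hT, hTy _ ?_, smul_zero]
    have h1 := Nat.mod_lt N hp.pos
    by_contra hc
    refine hN ⟨N / p + 1, ?_⟩
    have h2 := Nat.div_add_mod N p
    rw [mul_add, mul_one]
    omega
  have hD : ∀ (r : R) (j : ℕ), KaehlerDifferential.D R S (algebraMap R S r * y ^ j) =
      (algebraMap R S (r * j) * y ^ (j - 1)) • dy := fun r j => by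
    rw [Derivation.leibniz, Derivation.map_algebraMap, smul_zero, add_zero, Derivation.leibniz_pow,
      ← Nat.cast_smul_eq_nsmul S, smul_smul, smul_smul, map_mul, map_natCast]
  have hex : ∀ c : S, Ty (KaehlerDifferential.D R S c) = 0 := by
    intro c
    induction c using AdjoinRoot.induction_on with
    | ih P =>
      induction P using Polynomial.induction_on' with
      | add u v hu hv => rw [map_add, map_add, map_add, hu, hv, add_zero]
      | monomial j r =>
        rw [← C_mul_X_pow_eq_monomial, map_mul, map_pow, AdjoinRoot.mk_C, AdjoinRoot.mk_X]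
        show Ty (KaehlerDifferential.D R S (algebraMap R S r * y ^ j)) = 0
        rw [hD, hT]
        rcases Nat.eq_zero_or_pos j with rfl | hj
        · simp
        by_cases hd : p ∣ j
        · rw [(CharP.cast_eq_zero_iff R p j).2 hd, mul_zero, zero_smul]
        · rw [hlow _ (by rwa [Nat.sub_add_cancel hj]), smul_zero]
  suffices H : ∃ a, c ^ p = algebraMap R S a ∧ Ty (c ^ (p - 1) • KaehlerDifferential.D R S c) = KaehlerDifferential.D ℤ R a by
    obtain ⟨a', ha', h2⟩ := H
    exact ⟨hex c, fun a ha => by rw [hinj (ha.symm.trans ha')]; exact h2⟩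
  induction c using AdjoinRoot.induction_on with
  | ih P =>
    induction P using Polynomial.induction_on' with
    | add u v hu hv =>
      obtain ⟨a, ha, hua⟩ := hu
      obtain ⟨a', ha', hva⟩ := hv
      rw [map_add]
      refine ⟨a + a', ?_, ?_⟩
      · haveI : CharP S p := charP_of_injective_algebraMap hinj p
        rw [add_pow_char, ha, ha', map_add]
      · obtain ⟨Q, hQ⟩ := exists_exact_add hp (R := R) (AdjoinRoot.mk (X ^ p - C b) u) (AdjoinRoot.mk (X ^ p - C b) v)
        rw [hQ, map_add, map_add, hua, hva, map_add]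
        rw [hex Q, add_zero]
    | monomial j r =>
      rw [← C_mul_X_pow_eq_monomial, map_mul, map_pow, AdjoinRoot.mk_C, AdjoinRoot.mk_X]
      refine ⟨r ^ p * b ^ j, ?_, ?_⟩
      · show (algebraMap R S r * y ^ j) ^ p = _
        rw [mul_pow, ← pow_mul, mul_comm j p, pow_mul, hy, map_mul, map_pow, map_pow]
      · show Ty ((algebraMap R S r * y ^ j) ^ (p - 1) • KaehlerDifferential.D R S (algebraMap R S r * y ^ j)) = _
        rw [hD, Derivation.leibniz, Derivation.leibniz_pow, Derivation.leibniz_pow, ← Nat.cast_smul_eq_nsmul R p,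
          CharP.cast_eq_zero R p, zero_smul, smul_zero, add_zero, ← Nat.cast_smul_eq_nsmul R j, smul_smul, smul_smul]
        rcases Nat.eq_zero_or_pos j with rfl | hj
        · simp
        obtain ⟨i, rfl⟩ := Nat.exists_eq_add_of_le' hj
        have he : (algebraMap R S r * y ^ (i + 1)) ^ (p - 1) * (algebraMap R S (r * ((i + 1 : ℕ) : R)) * y ^ (i + 1 - 1)) =
            algebraMap R S (r ^ p * ((i + 1 : ℕ) : R) * b ^ i) * y ^ (p - 1) := by
          rw [map_mul, map_mul, map_mul, map_pow, map_pow, map_natCast, ← hy,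
            show (y ^ p) ^ i = (y ^ i) ^ (p - 1) * y ^ i by rw [← pow_mul, mul_comm, pow_mul, pow_sub_one_mul hp.ne_zero],
            show algebraMap R S r ^ p = algebraMap R S r ^ (p - 1) * algebraMap R S r by rw [pow_sub_one_mul hp.ne_zero]]
          simp only [Nat.add_sub_cancel]
          ring
        rw [he, hT, hTy']
        simp only [Nat.succ_eq_add_one, zero_add, Nat.add_sub_cancel, smul_smul]

/-- Let p be a prime number and R an F_p-algebra, a, b ∈ R, S_a = R[x]/(x^p - a) and S_b = R[y]/(y^p -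
b). The trace Tr_x : Ω_{S_a/R} → Ω_R is the R-linear map with x^i dx ↦ 0 for 0 ≤ i ≤ p - 2 and
x^{p-1} dx ↦ da (these determine it, Ω_{S_a/R} being free over R on the x^i dx), and similarly Tr_y.
Then for every R-algebra homomorphism φ : S_a → S_b one has Tr_x = Tr_y ∘ φ_*: for all s, t ∈ S_a,
Tr_x(s dt) = Tr_y(φ(s) dφ(t)). Here Ω_R is the module of absolute differentials Ω_{R/Z}. -/
theorem result (p : ℕ) [Fact p.Prime] (R : Type u) [CommRing R] [CharP R p] (a b : R)
    (φ : AdjoinRoot (X ^ p - C a : R[X]) →ₐ[R] AdjoinRoot (X ^ p - C b : R[X]))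
    (Tx : Ω[AdjoinRoot (X ^ p - C a : R[X])⁄R] →ₗ[R] Ω[R⁄ℤ])
    (Ty : Ω[AdjoinRoot (X ^ p - C b : R[X])⁄R] →ₗ[R] Ω[R⁄ℤ])
    (hTx : ∀ i : ℕ, i + 2 ≤ p →
      Tx (AdjoinRoot.root (X ^ p - C a) ^ i • KaehlerDifferential.D R _ (AdjoinRoot.root (X ^ p - C a))) = 0)
    (hTx' : Tx (AdjoinRoot.root (X ^ p - C a) ^ (p - 1) • KaehlerDifferential.D R _ (AdjoinRoot.root (X ^ p - C a))) =
      KaehlerDifferential.D ℤ R a)
    (hTy : ∀ i : ℕ, i + 2 ≤ p →
      Ty (AdjoinRoot.root (X ^ p - C b) ^ i • KaehlerDifferential.D R _ (AdjoinRoot.root (X ^ p - C b))) = 0)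
    (hTy' : Ty (AdjoinRoot.root (X ^ p - C b) ^ (p - 1) • KaehlerDifferential.D R _ (AdjoinRoot.root (X ^ p - C b))) =
      KaehlerDifferential.D ℤ R b)
    (s t : AdjoinRoot (X ^ p - C a : R[X])) :
    Tx (s • KaehlerDifferential.D R _ t) = Ty (φ s • KaehlerDifferential.D R _ (φ t)) := by
  classical
  have hp := (Fact.out : p.Prime)
  let Sa := AdjoinRoot (X ^ p - C a : R[X])
  let Sb := AdjoinRoot (X ^ p - C b : R[X])
  let x : Sa := AdjoinRoot.root (X ^ p - C a)
  have hx : x ^ p = algebraMap R Sa a := sub_eq_zero.1 (by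
    have h := AdjoinRoot.eval₂_root (X ^ p - C a)
    rwa [eval₂_sub, eval₂_X_pow, eval₂_C] at h)
  let dx := KaehlerDifferential.D R Sa x
  let dc := KaehlerDifferential.D R Sb (φ x)
  have key : ∀ N : ℕ, Tx (x ^ N • dx) = Ty (φ x ^ N • dc) := fun N => by
    have hT : ∀ (r : R) (z : Sa), Tx ((algebraMap R Sa r * z) • dx) = r • Tx (z • dx) := fun r z => by
      rw [mul_smul, algebraMap_smul, map_smul]
    have hT' : ∀ (r : R) (z : Sb), Ty ((algebraMap R Sb r * z) • dc) = r • Ty (z • dc) := fun r z => by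
      rw [mul_smul, algebraMap_smul, map_smul]
    have hcp : φ x ^ p = algebraMap R Sb a := by rw [← map_pow, hx, φ.commutes]
    rw [← Nat.div_add_mod N p, pow_add, pow_mul, hx, ← map_pow, hT, pow_add, pow_mul, hcp, ← map_pow, hT']
    congr 1
    have h1 := Nat.mod_lt N hp.pos
    obtain ⟨h0, hpow⟩ := trace_pow p R b Ty hTy hTy' (φ x ^ (N % p + 1))
    by_cases hN : N % p + 2 ≤ p
    · rw [hTx _ hN]
      rw [Derivation.leibniz_pow, Nat.add_sub_cancel, ← Nat.cast_smul_eq_nsmul R, map_smul] at h0
      have hu : IsUnit ((N % p + 1 : ℕ) : R) := by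
        have h2 : IsUnit ((N % p + 1 : ℕ) : ZMod p) := (ZMod.isUnit_iff_coprime _ _).2
          ((hp.coprime_iff_not_dvd.2 fun hd => absurd (Nat.le_of_dvd (Nat.succ_pos _) hd) (by omega)).symm)
        have h3 := h2.map (ZMod.castHom (dvd_refl p) R)
        rwa [map_natCast] at h3
      exact ((hu.smul_left_cancel).1 (h0.trans (smul_zero _).symm)).symm
    · rw [show N % p = p - 1 by omega, hTx']
      exact ((trace_pow p R b Ty hTy hTy' (φ x)).2 a hcp).symm
  induction s using AdjoinRoot.induction_on with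
  | ih P =>
    induction P using Polynomial.induction_on' with
    | add u v hu hv => simp only [map_add, add_smul, hu, hv]
    | monomial i r =>
      induction t using AdjoinRoot.induction_on with
      | ih Q =>
        induction Q using Polynomial.induction_on' with
        | add u v hu hv => simp only [map_add, smul_add, hu, hv]
        | monomial j q =>
          rw [← C_mul_X_pow_eq_monomial, ← C_mul_X_pow_eq_monomial]
          simp only [map_mul, map_pow, AdjoinRoot.mk_C, AdjoinRoot.mk_X]
          have e : ∀ {S : Type u} [CommRing S] [Algebra R S] (z : S),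
              (algebraMap R S r * z ^ i) • KaehlerDifferential.D R S (algebraMap R S q * z ^ j) =
                (r * q * j) • (z ^ (i + (j - 1)) • KaehlerDifferential.D R S z) := fun {S} _ _ z => by
            rw [Derivation.leibniz, Derivation.map_algebraMap, smul_zero, add_zero, Derivation.leibniz_pow,
              ← Nat.cast_smul_eq_nsmul S, smul_smul, smul_smul, ← algebraMap_smul S (r * q * (j : R)), smul_smul,
              map_mul, map_mul, map_natCast, pow_add]
            rw [smul_smul]
            congr 1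
            ring
          show Tx ((algebraMap R Sa r * x ^ i) • KaehlerDifferential.D R Sa (algebraMap R Sa q * x ^ j)) =
            Ty ((φ (algebraMap R Sa r) * φ x ^ i) • KaehlerDifferential.D R Sb (φ (algebraMap R Sa q) * φ x ^ j))
          rw [φ.commutes, φ.commutes, e x, e (φ x), Tx.map_smul, Ty.map_smul, key]

end Groth.Agent.S7340
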