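import Groth.Statements.S7359
import Groth.Agent.BlowUpLib.Glue
import Groth.Agent.NormCurve.Delta
import Groth.Agent.NormCurve.Normal
import Groth.Agent.AlgSpDec.NagataLocal
-- import your own Groth.Agent.* helpers here

set_option autoImplicit false
set_option backward.isDefEq.respectTransparency false
set_option backward.isDefEq.respectTransparency.types false
set_option linter.style.haveILetI false
set_option maxHeartbeats 1000000
universe u
open CategoryTheory CategoryTheory.Limits AlgebraicGeometry
open Resolve

namespace Groth.Agent.S7359
open Groth.Agent

/-- Let X be an integral locally Noetherian Nagata scheme (every affine open has a Nagata coordinate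
ring), x ∈ X a closed point, b : X' → X the blowing up of X at x (in the reduced point; X' is again
integral) and X'' → X' the normalization of X'. Then the normalized blowing up X'' is a normal
scheme, is Nagata, and X'' → X is proper. (The quasi-compactness and quasi-separatedness binders on
Spec K(X') → X' always hold; they are needed only to form the normalization.) -/
theorem result (X : Scheme.{u}) [IsIntegral X] [IsLocallyNoetherian X]
    (hN : ∀ U : X.affineOpens, CAlg.IsNagata Γ(X, U.1)) (x : X) (hx : IsClosed ({x} : Set X))
    (X' : Scheme.{u}) (b : X' ⟶ X) (hb : BlowUp.IsBlowUp b (Scheme.IdealSheafData.vanishingIdeal ⟨{x}, hx⟩)) [IsIntegral X']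
    [QuasiCompact (X'.fromSpecStalk (genericPoint X'))] [QuasiSeparated (X'.fromSpecStalk (genericPoint X'))] :
    Pi1.IsNormalScheme (Curv2.normalization X') ∧
      (∀ U : (Curv2.normalization X').affineOpens, CAlg.IsNagata Γ(Curv2.normalization X', U.1)) ∧
      IsProper (Curv2.normalizationι X' ≫ b) := by
  let C := Scheme.IdealSheafData.vanishingIdeal (⟨{x}, hx⟩ : TopologicalSpace.Closeds X)
  haveI : IsProper b := BlowUpLib.isProper_of_isBlowUp C hb fun U => by
    haveI : IsNoetherianRing Γ(X, U.1) := IsLocallyNoetherian.component_noetherian U
    exact IsNoetherian.noetherian _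
  have hN' : ∀ U : X'.affineOpens, CAlg.IsNagata Γ(X', U.1) := fun U =>
    AlgSpDec.NagataLocal.isNagata_affineOpen b (fun i : X.affineOpens => i.1) (iSup_affineOpens_eq_top X)
      (fun i => i.2) hN U.1 U.2
  haveI : IsFinite (Curv2.normalizationι X') := NormCurve.isFinite_normalizationι X' hN'
  refine ⟨NormCurve.isNormalScheme_normalization X', fun U => ?_, inferInstance⟩
  exact AlgSpDec.NagataLocal.isNagata_affineOpen (Curv2.normalizationι X') (fun i : X'.affineOpens => i.1)
    (iSup_affineOpens_eq_top X') (fun i => i.2) hN' U.1 U.2

end Groth.Agent.S7359
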