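import Groth.Statements.S7381
import Groth.Agent.AlgGlue.FiniteModels

set_option backward.isDefEq.respectTransparency false

set_option autoImplicit false
universe u
open CategoryTheory AlgebraicGeometry
open Lim

namespace Groth.Agent.S7381

/-- Let `f : X → S` be finite with `S` quasi-compact and quasi-separated. Then, in the category of
schemes over `S`, `X` is the limit of a nonempty directed inverse system of schemes `X_i → S` that
are finite and locally of finite presentation, with closed immersions as transition morphisms. -/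
theorem result {X S : Scheme.{u}} (f : X ⟶ S) [IsFinite f]
    [CompactSpace S] [QuasiSeparatedSpace S] :
    ∃ (I : Type u) (_ : Preorder I) (_ : IsDirected I (fun a b => a ≤ b)) (_ : Nonempty I)
      (D : Iᵒᵖ ⥤ Over S) (c : Limits.Cone D) (_ : Limits.IsLimit c),
      (∀ i, IsFinite (D.obj i).hom ∧ LocallyOfFinitePresentation (D.obj i).hom) ∧
      (∀ (i j : Iᵒᵖ) (a : i ⟶ j), IsClosedImmersion (D.map a).left) ∧
      Nonempty (c.pt ≅ Over.mk f) := by
  obtain ⟨Y, g, j, hj, hjg, h1, h2, h3, h4⟩ :=
    Groth.Agent.AlgGlue.exists_closedImmersion_finite_fp f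
  obtain ⟨c, hc, hiso⟩ := Groth.Agent.AlgGlue.exists_subscheme_system g j f hjg
  refine ⟨Groth.Agent.MorLib.IdealFG.Sub j.ker, inferInstance, inferInstance, inferInstance, _, c, hc,
    fun K => ?_, fun K L a => Groth.Agent.MorLib.IdealFG.isClosedImmersion_map g j.ker a, hiso⟩
  haveI := Groth.Agent.MorLib.IdealFG.lfp_subschemeι K.unop.2.2
  exact ⟨inferInstanceAs (IsFinite (K.unop.1.subschemeι ≫ g)),
    inferInstanceAs (LocallyOfFinitePresentation (K.unop.1.subschemeι ≫ g))⟩

end Groth.Agent.S7381
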