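import Groth.Statements.S7383
import Groth.Agent.AlgGlue.Models

set_option backward.isDefEq.respectTransparency false

set_option autoImplicit false
universe u
open CategoryTheory AlgebraicGeometry
open Lim

namespace Groth.Agent.S7383

/-- Let `f : X → S` be a morphism with `X` quasi-compact and quasi-separated and `S` quasi-separated.
Then, in the category of schemes over `S`, `X` is the limit of a nonempty directed inverse system of
schemes `X_i → S` of finite presentation (locally of finite presentation, quasi-compact and
quasi-separated) with affine transition morphisms. -/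
theorem result {X S : Scheme.{u}} (f : X ⟶ S)
    [CompactSpace X] [QuasiSeparatedSpace X] [QuasiSeparatedSpace S] :
    ∃ (I : Type u) (_ : Preorder I) (_ : IsDirected I (fun a b => a ≤ b)) (_ : Nonempty I)
      (D : Iᵒᵖ ⥤ Over S) (c : Limits.Cone D) (_ : Limits.IsLimit c),
      (∀ i, LocallyOfFinitePresentation (D.obj i).hom ∧ QuasiCompact (D.obj i).hom ∧
        QuasiSeparated (D.obj i).hom) ∧
      (∀ (i j : Iᵒᵖ) (a : i ⟶ j), IsAffineHom (D.map a).left) ∧
      Nonempty (c.pt ≅ Over.mk f) := by
  obtain ⟨I, hI, hdir, hne, D, t, π, hw, hlim, hπ, hprops, haff, -⟩ :=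
    Groth.Agent.AlgGlue.exists_fp_system f
  let E : Iᵒᵖ ⥤ Over S :=
    { obj := fun i => Over.mk (t.app i)
      map := fun {i j} a => Over.homMk (D.map a) ((t.naturality a).trans (Category.comp_id _))
      map_id := fun i => Over.OverMorphism.ext (D.map_id i)
      map_comp := fun a b => Over.OverMorphism.ext (D.map_comp a b) }
  let c : Limits.Cone E :=
    { pt := Over.mk f
      π :=
        { app := fun i => Over.homMk (π i) (hπ i)
          naturality := fun i j a => Over.OverMorphism.ext
            ((Category.id_comp _).trans (hw a).symm) } }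
  have hc : Limits.IsLimit c :=
    { lift := fun s => Over.homMk (hlim.lift ((Over.forget S).mapCone s)) (by
        have i : Iᵒᵖ := Opposite.op hne.some
        show hlim.lift _ ≫ f = _
        rw [← hπ i, ← Category.assoc]
        exact (congrArg (· ≫ t.app i) (hlim.fac _ i)).trans (Over.w (s.π.app i)))
      fac := fun s i => Over.OverMorphism.ext (hlim.fac _ i)
      uniq := fun s m hm => Over.OverMorphism.ext
        (hlim.uniq ((Over.forget S).mapCone s) m.left fun i => congrArg CommaMorphism.left (hm i)) }
  exact ⟨I, hI, hdir, hne, E, c, hc, fun i => ⟨(hprops i).1, (hprops i).2.1, (hprops i).2.2.1⟩,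
    fun i j a => haff a, ⟨Iso.refl _⟩⟩

end Groth.Agent.S7383
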