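import Groth.Statements.S7384
import Groth.Agent.AlgGlue.Models

set_option backward.isDefEq.respectTransparency false

set_option autoImplicit false
universe u
open CategoryTheory AlgebraicGeometry
open Lim

namespace Groth.Agent.S7384

/-- Let `f : X → S` be a morphism of quasi-compact quasi-separated schemes. Then `f` is a limit of
morphisms `f_i : X_i → S_i` indexed by a nonempty directed set: there are inverse systems `X_i`,
`S_i` of quasi-compact schemes locally of finite type over `ℤ` with affine transition morphisms, a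
compatible family of morphisms `f_i`, and limit cones identified with `X` and `S` compatibly with
`f`. -/
theorem result {X S : Scheme.{u}} (f : X ⟶ S) [CompactSpace X]
    [QuasiSeparatedSpace X] [CompactSpace S] [QuasiSeparatedSpace S] :
    ∃ (I : Type u) (_ : Preorder I) (_ : IsDirected I (fun a b => a ≤ b)) (_ : Nonempty I)
      (DX DS : Iᵒᵖ ⥤ Scheme.{u}) (φ : DX ⟶ DS)
      (cX : Limits.Cone DX) (cS : Limits.Cone DS) (_ : Limits.IsLimit cX) (_ : Limits.IsLimit cS)
      (eX : cX.pt ≅ X) (eS : cS.pt ≅ S),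
      (∀ (i j : Iᵒᵖ) (a : i ⟶ j), IsAffineHom (DX.map a) ∧ IsAffineHom (DS.map a)) ∧
      (∀ i, CompactSpace (DX.obj i) ∧ CompactSpace (DS.obj i) ∧
        LocallyOfFiniteType (Limits.IsTerminal.from specULiftZIsTerminal (DX.obj i)) ∧
        LocallyOfFiniteType (Limits.IsTerminal.from specULiftZIsTerminal (DS.obj i))) ∧
      (∀ i, cX.π.app i ≫ φ.app i = eX.hom ≫ f ≫ eS.inv ≫ cS.π.app i) := by
  obtain ⟨MX⟩ := Groth.Agent.AlgGlue.nonempty_model X
  obtain ⟨MS⟩ := Groth.Agent.AlgGlue.nonempty_model S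
  open Groth.Agent.AlgGlue in
  exact ⟨ArrowStage MX MS f, inferInstance, inferInstance, inferInstance, DA MX MS f, DB MX MS f,
    arrowNat MX MS f, coneA MX MS f, coneB MX MS f, isLimitA MX MS f, isLimitB MX MS f,
    Iso.refl X, Iso.refl S, fun i j a => ⟨MX.affine _, MS.affine _⟩,
    fun i => ⟨(MX.ftz _).1, (MS.ftz _).1, (MX.ftz _).2, (MS.ftz _).2⟩, fun i => by
      show MX.π _ ≫ i.unop.hom = 𝟙 X ≫ f ≫ 𝟙 S ≫ MS.π _
      rw [Category.id_comp, Category.id_comp]
      exact i.unop.comm⟩

end Groth.Agent.S7384
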