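import Groth.Statements.S7386
import Groth.Agent.GenAff.Basic

set_option autoImplicit false
universe u
open CategoryTheory AlgebraicGeometry
open Mor

namespace Groth.Agent.S7386

/-- Let `X` be a quasi-separated scheme, `η_1, …, η_n` generic points of irreducible components of `X`
and `x` any point of `X`. Then some affine open of `X` contains `x` and all the `η_i`. -/
theorem result (X : Scheme.{u}) [QuasiSeparatedSpace X] {n : ℕ}
    (η : Fin n → X) (hη : ∀ i, closure ({η i} : Set X) ∈ irreducibleComponents (X : Type u)) (x : X) :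
    ∃ U : X.Opens, IsAffineOpen U ∧ x ∈ U ∧ ∀ i, η i ∈ U := by
  classical
  obtain ⟨U₀, hU₀, hx, -⟩ := exists_isAffineOpen_mem_and_subset (U := (⊤ : X.Opens)) (x := x) trivial
  haveI : Finite {y : X // y ∈ Set.range η ∧ y ∉ U₀} :=
    ((Set.finite_range η).subset fun y hy => hy.1).to_subtype
  obtain ⟨U, hU, hdis⟩ := Groth.Agent.GenAff.exists_disjoint_affine (ι := {y : X // y ∈ Set.range η ∧ y ∉ U₀})
    Subtype.val (fun ⟨_, ⟨i, rfl⟩, _⟩ => hη i) Subtype.val_injective U₀ hU₀.isCompact (fun y => y.2.2)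
  have hV := IsAffineOpen.iSup_of_disjoint (fun i => (hU i).1) hdis
  refine ⟨U₀ ⊔ ⨆ i, U i, hU₀.sup_of_disjoint hV (disjoint_iSup_iff.2 fun i => (hU i).2.2), Or.inl hx, fun i => ?_⟩
  by_cases h : η i ∈ U₀
  · exact Or.inl h
  · exact Or.inr (TopologicalSpace.Opens.mem_iSup.2 ⟨⟨η i, ⟨i, rfl⟩, h⟩, (hU _).2.1⟩)

end Groth.Agent.S7386
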