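import Groth.Statements.S7413
import Groth.Agent.QCoh.PullbackBC
import Groth.Agent.MorLib.ProjSections

set_option autoImplicit false
universe u
open CategoryTheory AlgebraicGeometry
open Opposite
open Mor

namespace Groth.Agent.S7413

/-- Let `f : X → Y` be a morphism of schemes and `G` a quasi-coherent, locally projective `O_Y`-module
(projective sections over every affine open). Then `f^* G` is locally projective on `X`. -/
theorem result {X Y : Scheme.{u}} (f : X ⟶ Y) (G : Y.Modules) [Coh.IsQCoh G]
    (hG : ∀ V : Y.Opens, IsAffineOpen V → Module.Projective (Y.ringCatSheaf.obj.obj (op V)) (G.val.obj (op V)))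
    (U : X.Opens) (hU : IsAffineOpen U) :
    Module.Projective (X.ringCatSheaf.obj.obj (op U)) (((Scheme.Modules.pullback f).obj G).val.obj (op U)) := by
  have hN : Coh.IsQCoh ((Scheme.Modules.pullback f).obj G) := Groth.Agent.QCoh.isQCoh_pullback f inferInstance
  choose V hV hxV _ using fun x : X => exists_isAffineOpen_mem_and_subset (x := f x) (U := ⊤) trivial
  choose W hW hxW hWV using fun x : X => exists_isAffineOpen_mem_and_subset (x := x) (U := f ⁻¹ᵁ V x) (hxV x)
  refine Groth.Agent.MorLib.projective_sections_of_cover hN W (eq_top_iff.2 fun x _ => TopologicalSpace.Opens.mem_iSup.2 ⟨x, hxW x⟩) hW (fun x => ?_) hU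
  letI : Algebra Γ(Y, V x) Γ(X, W x) := (f.appLE (V x) (W x) (hWV x)).hom.toAlgebra
  letI : Module Γ(Y, V x) Γ((Scheme.Modules.pullback f).obj G, W x) := Module.compHom _ (algebraMap Γ(Y, V x) Γ(X, W x))
  haveI : IsScalarTower Γ(Y, V x) Γ(X, W x) Γ((Scheme.Modules.pullback f).obj G, W x) := IsScalarTower.of_algebraMap_smul fun _ _ => rfl
  let l : Γ(G, V x) →ₗ[Γ(Y, V x)] Γ((Scheme.Modules.pullback f).obj G, W x) :=
    { toFun := Groth.Agent.QCoh.pullSec f G (hWV x)
      map_add' := Groth.Agent.QCoh.pullSec_add f G (hWV x)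
      map_smul' := fun r z => Groth.Agent.QCoh.pullSec_smul f G (hWV x) r z }
  have hbc := Groth.Agent.QCoh.isBaseChange_pullback (φ := f) (hV x) (hW x) (M := G) inferInstance (hWV x) (fun _ => rfl) l (fun _ => rfl)
  haveI : Module.Projective Γ(Y, V x) Γ(G, V x) := hG (V x) (hV x)
  exact Module.Projective.of_equiv hbc.equiv

end Groth.Agent.S7413
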