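import Groth.Statements.S7431
import Mathlib

set_option autoImplicit false
attribute [-instance] CompleteLattice.toCompletePartialOrder CategoryTheory.catToReflQuiver
universe u
open CategoryTheory AlgebraicGeometry
open Lim

namespace Groth.Agent.S7431

/-- Let `B' = B ×_R R'` be a cartesian square of rings with maps `s : B → R`, `t : R' → R`, and let `W'
= D(f_1) ∪ … ∪ D(f_n) ⊆ Spec R'` with `t(f_i) = s(g_i)` for elements `g_i ∈ B` such that `B_{g_i} →
R_{s(g_i)}` is an isomorphism for each `i`. Then the composite `W' → Spec R' → Spec B'`, the second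
map coming from `B' → R'`, is an open immersion. -/
theorem result {B B' R R' : Type u} [CommRing B] [CommRing B']
    [CommRing R] [CommRing R'] (s : B →+* R) (t : R' →+* R) (p : B' →+* B) (q : B' →+* R')
    (hsq : IsPullback (CommRingCat.ofHom p) (CommRingCat.ofHom q) (CommRingCat.ofHom s) (CommRingCat.ofHom t))
    {n : ℕ} (f : Fin n → R') (g : Fin n → B) (hfg : ∀ i, t (f i) = s (g i))
    (hiso : ∀ i, Function.Bijective (Localization.awayMap s (g i))) :
    IsOpenImmersion (Scheme.Opens.ι (X := Spec (CommRingCat.of R')) (⨆ i, PrimeSpectrum.basicOpen (f i)) ≫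
      Spec.map (CommRingCat.ofHom q)) := by
  have hT := hsq.map (forget CommRingCat.{u})
  have hex : ∀ (x : B) (y : R'), s x = t y → ∃ c : B', p c = x ∧ q c = y := fun x y e =>
    CategoryTheory.Limits.Types.exists_of_isPullback hT x y e
  have hext : ∀ c c' : B', p c = p c' → q c = q c' → c = c' := fun c c' e1 e2 =>
    CategoryTheory.Limits.Types.ext_of_isPullback hT e1 e2
  have hw : ∀ c : B', s (p c) = t (q c) := fun c =>
    congrArg (fun (φ : CommRingCat.of B' ⟶ CommRingCat.of R) => φ.hom c) hsq.w
  choose b hbp hbq using fun i => hex (g i) (f i) (hfg i).symm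
  have hbij : ∀ i, Function.Bijective (Localization.awayMap q (b i)) := fun i => by
    refine ⟨Localization.awayMap_injective_iff.2 fun a ha => ?_,
      Localization.awayMap_surjective_iff.2 fun y => ?_⟩
    · obtain ⟨m, hm⟩ := Localization.awayMap_injective_iff.1 (hiso i).1 (p a) (by rw [hw, ha, map_zero])
      refine ⟨m, hext _ _ ?_ ?_⟩
      · rw [map_mul, map_pow, hbp, hm, map_zero]
      · rw [map_mul, map_pow, ha, mul_zero, map_zero]
    · obtain ⟨z, m, hz⟩ := Localization.awayMap_surjective_iff.1 (hiso i).2 (t y)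
      obtain ⟨c, -, hc⟩ := hex z (f i ^ m * y) (by rw [hz, map_mul, map_pow, hfg])
      exact ⟨c, m, by rw [hc, hbq]⟩
  let φ := Spec.map (CommRingCat.ofHom q)
  let D : Fin n → (Spec (CommRingCat.of B')).Opens := fun i => PrimeSpectrum.basicOpen (b i)
  let V : (Spec (CommRingCat.of B')).Opens := ⨆ i, D i
  have hiso' : ∀ i, IsIso (φ ∣_ D i) := fun i => by
    haveI : IsIso (CommRingCat.ofHom (Localization.awayMap q (b i))) :=
      (ConcreteCategory.isIso_iff_bijective _).2 (hbij i)
    exact ((MorphismProperty.isomorphisms Scheme.{u}).arrow_mk_iso_iff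
      (SpecMapRestrictBasicOpenIso (CommRingCat.ofHom q) (b i))).2
      (inferInstanceAs (IsIso (Spec.map (CommRingCat.ofHom (Localization.awayMap q (b i))))))
  have hV : IsIso (φ ∣_ V) := by
    have h : MorphismProperty.isomorphisms Scheme.{u} (φ ∣_ V) := by
      refine IsZariskiLocalAtTarget.of_iSup_eq_top (fun i => V.ι ⁻¹ᵁ D i) ?_ fun i => ?_
      · rw [← Scheme.Hom.preimage_iSup, Scheme.Opens.ι_preimage_self]
      · refine ((MorphismProperty.isomorphisms Scheme.{u}).arrow_mk_iso_iff
          (morphismRestrictRestrict φ V _ ≪≫ morphismRestrictEq φ ?_)).2 (hiso' i)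
        rw [Scheme.Hom.image_preimage_eq_opensRange_inf, Scheme.Opens.opensRange_ι, inf_eq_right]
        exact le_iSup D i
    exact h
  have hW : (⨆ i, PrimeSpectrum.basicOpen (f i) : (Spec (CommRingCat.of R')).Opens) = φ ⁻¹ᵁ V := by
    rw [Scheme.Hom.preimage_iSup]
    refine congrArg iSup (funext fun i => ?_)
    rw [← hbq i]
    exact (PrimeSpectrum.comap_basicOpen q (b i)).symm
  rw [show Scheme.Opens.ι (X := Spec (CommRingCat.of R')) (⨆ i, PrimeSpectrum.basicOpen (f i)) ≫ φ =
    ((Spec (CommRingCat.of R')).isoOfEq hW).hom ≫ (φ ∣_ V) ≫ V.ι by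
      rw [morphismRestrict_ι, Scheme.isoOfEq_hom_ι_assoc]]
  haveI := hV
  infer_instance

end Groth.Agent.S7431
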