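import Groth.Statements.S7446
import Groth.Agent.MorLib.BddFib
import Groth.Agent.H23.FiniteFibreSum
-- import your own Groth.Agent.* helpers here

set_option autoImplicit false
universe u
open CategoryTheory AlgebraicGeometry
open BddFib

namespace Groth.Agent.S7446

/-- When every fibre of `f : X → Y` has degree at most `n`, then for every field `k` and every `Spec k →
Y`, writing `X_k = {x_1, …, x_t}`, one has `Σ_i [κ(x_i) : k] ≤ n`. (Residue degrees are taken along
`X_k → Spec k`; `X_k` is finite, so the sum is a finite sum.) -/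
theorem result {X Y : Scheme.{u}} (f : X ⟶ Y) (n : ℕ) (hf : BddFib.FibreDegLE f n)
    (k : Type u) [Field k] (g : Spec (CommRingCat.of k) ⟶ Y) :
    Finite ↥(Limits.pullback f g) ∧
      ∑ᶠ x : ↥(Limits.pullback f g), (Limits.pullback.snd f g).residueDegree x ≤ n := by
  obtain ⟨hT, hfin, hrk⟩ := (MorLib.BF.fibreDegLE_iff f n).mp hf k g
  letI : Algebra k Γ(Limits.pullback f g, ⊤) :=
    BddFib.secAlgebra (CommRingCat.of k) (Limits.pullback.snd f g)
  haveI : Module.Finite k Γ(Limits.pullback f g, ⊤) := hfin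
  haveI : IsArtinianRing Γ(Limits.pullback f g, ⊤) := IsArtinianRing.of_finite k _
  obtain ⟨hfinite, -⟩ := MorLib.BF.natCard_pullback_le hf k g
  refine ⟨hfinite, ?_⟩
  let T := Limits.pullback f g
  let φ : CommRingCat.of k ⟶ Γ(T, ⊤) := (Scheme.ΓSpecIso (CommRingCat.of k)).inv ≫ (Limits.pullback.snd f g).appTop
  haveI : Finite ↥(Spec Γ(T, ⊤)) := inferInstanceAs (Finite (PrimeSpectrum Γ(T, ⊤)))
  letI := Fintype.ofFinite ↥(Spec Γ(T, ⊤))
  have hflat : φ.hom.Flat := by
    show Module.Flat k Γ(T, ⊤)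
    infer_instance
  haveI : IsLocalRing (CommRingCat.of k) := inferInstanceAs (IsLocalRing k)
  haveI : IsArtinianRing (CommRingCat.of k) := inferInstanceAs (IsArtinianRing k)
  have hsum := H23.FiniteFibreSum.sum_length φ hfin hflat
  rw [show Module.length (CommRingCat.of k) (CommRingCat.of k) = (1 : ℕ∞) from
    Module.length_eq_one (R := k) (M := k), mul_one] at hsum
  have hdeg : ∀ x : T, (Limits.pullback.snd f g).residueDegree x = (Spec.map φ).residueDegree (T.isoSpec.hom x) := by
    intro x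
    have e := MorLib.BF.eq_isoSpec_hom_comp (Limits.pullback.snd f g)
    rw [H23.FiniteFibreSum.residueDegree_congr' e x, CycLib.residueDegree_comp]
    exact (congrArg (_ * ·) (CycLib.residueDegree_preimmersion T.isoSpec.hom x)).trans (mul_one _)
  rw [finsum_congr hdeg, show (∑ᶠ x : T, (Spec.map φ).residueDegree (T.isoSpec.hom x)) = ∑ᶠ P, (Spec.map φ).residueDegree P from
      finsum_comp_equiv (Scheme.homeoOfIso T.isoSpec).toEquiv (f := fun P => (Spec.map φ).residueDegree P),
    finsum_eq_sum_of_fintype]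
  refine le_trans ?_ hrk
  have hle : ((∑ P : ↥(Spec Γ(T, ⊤)), (Spec.map φ).residueDegree P : ℕ) : ℕ∞) ≤
      ((Module.finrank k Γ(T, ⊤) : ℕ) : ℕ∞) := by
    refine le_trans ?_ hsum.ge
    rw [Nat.cast_sum]
    refine Finset.sum_le_sum fun P _ => le_mul_of_one_le_left bot_le ?_
    exact ENat.one_le_iff_ne_zero.2 (Module.length_pos.ne')
  exact ENat.natCast_le_natCast.1 hle

end Groth.Agent.S7446
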