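import Groth.Statements.S7454
import Groth.Agent.GrpdDiff.Basic
import Groth.Agent.GrpdLib.DegDecomp
import Groth.Agent.S5000
import Mathlib.RingTheory.Etale.Kaehler
import Mathlib.RingTheory.LocalProperties.Projective
import Mathlib.RingTheory.Smooth.Locus
import Mathlib.AlgebraicGeometry.Morphisms.Smooth
import Mathlib.AlgebraicGeometry.Morphisms.FiniteType

set_option autoImplicit false
universe u
open CategoryTheory CategoryTheory.Limits AlgebraicGeometry
open Grpd

namespace Groth.Agent.S7454

set_option backward.isDefEq.respectTransparency false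
set_option synthInstance.maxHeartbeats 200000

theorem inv_inv_eq {S : Scheme.{u}} (G : Grpd.GroupoidScheme S) : G.i ≫ G.i = 𝟙 G.R := by
  exact GrpdLib.i_i G

/-- Let (U, R, s, t, c) be a groupoid scheme over S with U the spectrum of a field of characteristic
zero and s, t locally of finite type. Then s and t are smooth. (A groupoid scheme carries U, R, s,
t, c, e, i over S with the groupoid axioms on T-points; c is defined on the fibre product of s and t
and sends a pair (a, b) with s(a) = t(b) to a composed with b.) -/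
theorem result (S : Scheme.{u}) (G : Grpd.GroupoidScheme S) (k : Type u) [Field k] [CharZero k] (eU : G.U ≅ Spec (CommRingCat.of k)) [LocallyOfFiniteType G.s] [LocallyOfFiniteType G.t] : Smooth G.s ∧ Smooth G.t := by
  have hd : ∀ (V : G.R.Opens), IsAffineOpen V → Smooth (V.ι ≫ G.t ≫ eU.hom) := by
    intro V hV
    haveI : IsAffine (V : Scheme.{u}) := hV
    let x : G.R := G.e (eU.inv (IsLocalRing.closedPoint k))
    obtain ⟨W, hW, hxW, -⟩ := exists_isAffineOpen_mem_and_subset (show x ∈ (⊤ : G.R.Opens) from trivial)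
    let a := hV.fromSpec
    let j := hW.fromSpec
    obtain ⟨τ, hτ⟩ := Spec.map_surjective (a ≫ G.t ≫ eU.hom)
    obtain ⟨σ, hσ⟩ := Spec.map_surjective (a ≫ G.s ≫ eU.hom)
    obtain ⟨τ', hτ'⟩ := Spec.map_surjective (j ≫ G.t ≫ eU.hom)
    have hr : Set.range (eU.inv ≫ G.e) ⊆ Set.range j := by
      rintro _ ⟨q, rfl⟩
      rw [hW.range_fromSpec, Subsingleton.elim q (IsLocalRing.closedPoint k)]
      exact hxW
    obtain ⟨ε, hε⟩ := Spec.map_surjective (IsOpenImmersion.lift j (eU.inv ≫ G.e) hr)
    letI := τ.hom.toAlgebra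
    letI := τ'.hom.toAlgebra
    have hεj : Spec.map ε ≫ j = eU.inv ≫ G.e := by rw [hε, IsOpenImmersion.lift_fac]
    have hεk : ∀ c, ε.hom (τ'.hom c) = c := by
      have h : Spec.map ε ≫ Spec.map τ' = Spec.map (𝟙 (CommRingCat.of k)) := by
        rw [hτ', ← Category.assoc, hεj, Category.assoc, ← Category.assoc G.e, G.e_t, Category.id_comp,
          Iso.inv_hom_id, Spec.map_id]
      rw [← Spec.map_comp] at h
      exact fun c => congrArg (fun r => r.hom c) (Spec.map_injective h)
    have key : Module.Free Γ(G.R, V) Ω[Γ(G.R, V)⁄k] :=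
      GrpdDiff.free_kaehler (G := G) (eU := eU) (a := a) (j := j) (σ := σ.hom) (ε := ε.hom)
        { at' := by rw [show CommRingCat.ofHom (algebraMap k Γ(G.R, V)) = τ from rfl, hτ]; simp
          as' := by rw [show CommRingCat.ofHom σ.hom = σ from rfl, hσ]; simp
          jt := by rw [show CommRingCat.ofHom (algebraMap k Γ(G.R, W)) = τ' from rfl, hτ']; simp
          je := hεj
          εk := hεk }
    haveI hft : Algebra.FiniteType k Γ(G.R, V) := by
      have h : LocallyOfFiniteType (Spec.map τ) := by rw [hτ]; infer_instance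
      exact (HasRingHomProperty.Spec_iff (P := @LocallyOfFiniteType)).mp h
    haveI : Algebra.FinitePresentation k Γ(G.R, V) := Algebra.FinitePresentation.of_finiteType.mp hft
    have hsm : Algebra.Smooth k Γ(G.R, V) := by
      refine ⟨Algebra.smoothLocus_eq_univ_iff.1 (Set.eq_univ_of_forall fun q => ?_), inferInstance⟩
      refine (S5000.result k Γ(G.R, V) q.asIdeal).2 ?_
      haveI := key
      exact Module.free_of_isLocalizedModule q.asIdeal.primeCompl
        (KaehlerDifferential.map k k Γ(G.R, V) (Localization.AtPrime q.asIdeal))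
    have h : Smooth (Spec.map τ) :=
      (HasRingHomProperty.Spec_iff (P := @Smooth)).mpr (RingHom.smooth_algebraMap.mpr hsm)
    rw [hτ] at h
    exact (MorphismProperty.cancel_left_of_respectsIso @Smooth hV.isoSpec.inv (V.ι ≫ G.t ≫ eU.hom)).1
      (by rw [← Category.assoc, hV.isoSpec_inv_ι]; exact h)
  have ht : Smooth G.t := by
    refine (MorphismProperty.cancel_right_of_respectsIso @Smooth G.t eU.hom).1 ?_
    refine (IsZariskiLocalAtSource.iff_of_iSup_eq_top (P := @Smooth) (fun V : G.R.affineOpens => (V : G.R.Opens))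
      (iSup_affineOpens_eq_top _)).2 fun V => hd V V.2
  refine ⟨?_, ht⟩
  haveI : IsIso G.i := ⟨G.i, inv_inv_eq G, inv_inv_eq G⟩
  rw [← G.i_t]
  exact (MorphismProperty.cancel_left_of_respectsIso @Smooth G.i G.t).2 ht

end Groth.Agent.S7454
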