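import Groth.Statements.S7455
import Groth.Agent.GrpdLib.FieldSmooth

set_option autoImplicit false
universe u
open CategoryTheory CategoryTheory.Limits AlgebraicGeometry
open Grpd

namespace Groth.Agent.S7455

/-- Let (U, R, s, t, c) be a groupoid scheme over S with U the spectrum of a perfect field, s and t
locally of finite type, and R reduced. Then s and t are smooth. (A groupoid scheme carries U, R, s,
t, c, e, i over S with the groupoid axioms on T-points; c is defined on the fibre product of s and t
and sends a pair (a, b) with s(a) = t(b) to a composed with b.) -/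
theorem result (S : Scheme.{u}) (G : Grpd.GroupoidScheme S) (k : Type u) [Field k] [PerfectField k] (eU : G.U ≅ Spec (CommRingCat.of k)) [LocallyOfFiniteType G.s] [LocallyOfFiniteType G.t] [IsReduced G.R] : Smooth G.s ∧ Smooth G.t := by
  haveI : Subsingleton G.U := eU.hom.homeomorph.subsingleton
  haveI : IsLocallyNoetherian G.U := isLocallyNoetherian_of_isOpenImmersion eU.hom
  haveI : Flat G.t :=
    (MorphismProperty.cancel_right_of_respectsIso @Flat G.t eU.hom).1 inferInstance
  haveI : LocallyOfFinitePresentation (G.t ≫ eU.hom) := inferInstance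
  haveI : Nonempty G.R := ⟨G.e (eU.inv (IsLocalRing.closedPoint k))⟩
  have h : (G.t.smoothLocus : Set G.R).Nonempty := by
    obtain ⟨x, hx⟩ := (Scheme.Hom.dense_smoothLocus_of_perfectField (G.t ≫ eU.hom)).nonempty
    refine ⟨x, ?_⟩
    have hx' : ((G.t ≫ eU.hom).stalkMap x).hom.FormallySmooth := hx
    rw [Scheme.Hom.stalkMap_comp] at hx'
    rw [SetLike.mem_coe, Scheme.Hom.mem_smoothLocus]
    convert RingHom.FormallySmooth.comp (RingHom.FormallySmooth.of_bijective
      (ConcreteCategory.bijective_of_isIso (inv (eU.hom.stalkMap (G.t x))))) hx' using 1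
    exact congrArg CommRingCat.Hom.hom ((IsIso.inv_hom_id_assoc (eU.hom.stalkMap (G.t x)) (G.t.stalkMap x)).symm)
  haveI := Groth.Agent.GrpdLib.smooth_t_of_nonempty_smoothLocus G h
  exact ⟨Groth.Agent.GrpdLib.smooth_s_of_smooth_t G, inferInstance⟩

end Groth.Agent.S7455
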