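import Groth.Statements.S7465
import Groth.Agent.GrpdStrat.Affine
import Groth.Agent.GrpdStrat.Generic

set_option autoImplicit false
universe u
open CategoryTheory CategoryTheory.Limits AlgebraicGeometry
open Grpd

namespace Groth.Agent.S7465

/-- Let (U, R, s, t, c) be a groupoid scheme over S with s, t finite and U locally Noetherian, and let
u_1, ..., u_m be points of U such that every point in their R-orbits is a generic point of an
irreducible component of U. Then there are an R-invariant affine open V of U containing u_1, ...,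
u_m and an R-invariant closed subscheme V' of V with the same underlying set (V is a thickening of
V'; V' is then affine and contains the u_i) such that the source and target of the restriction of R
to V' are finite locally free. Here ι' : V' -> U is the inclusion, R-invariance of V' is expressed
as an isomorphism between the pullbacks of s and of t along ι' compatible with the maps to R, and
the restricted source and target are the base changes of s and t along ι'; 'finite locally free' is
finite, flat and locally of finite presentation. (A groupoid scheme carries U, R, s, t, c, e, i over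
S with the groupoid axioms on T-points; c is defined on the fibre product of s and t and sends a
pair (a, b) with s(a) = t(b) to a composed with b.) -/
theorem result (S : Scheme.{u}) (G : Grpd.GroupoidScheme S) [IsFinite G.s] [IsFinite G.t] [IsLocallyNoetherian G.U] (m : ℕ) (u : Fin m → G.U) (hu : ∀ i (r : G.R), G.s r = u i → ∀ x : G.U, x ⤳ G.t r → x = G.t r) : ∃ (V : G.U.Opens) (V' : (↑V : Scheme.{u}).IdealSheafData), IsAffineOpen V ∧ (∀ i, u i ∈ V) ∧ G.s ⁻¹ᵁ V = G.t ⁻¹ᵁ V ∧ V'.support = ⊤ ∧ (∃ φ : pullback G.s (V'.subschemeι ≫ V.ι) ≅ pullback G.t (V'.subschemeι ≫ V.ι), φ.hom ≫ pullback.fst G.t (V'.subschemeι ≫ V.ι) = pullback.fst G.s (V'.subschemeι ≫ V.ι)) ∧ Mor2.IsFinLocFree (pullback.snd G.s (V'.subschemeι ≫ V.ι)) ∧ Mor2.IsFinLocFree (pullback.snd G.t (V'.subschemeι ≫ V.ι)) := by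
  haveI : LocallyOfFinitePresentation G.s := inferInstance
  haveI : LocallyOfFinitePresentation G.t := inferInstance
  haveI : QuasiSeparatedSpace G.U := inferInstance
  obtain ⟨Z, W, W', h1, h2, hmem, hex, ⟨φ, hφ⟩, -, h7, h8, hfp⟩ := GrpdStrat.exists_thickening (G := G)
  obtain ⟨hlfp, hfg⟩ := hfp inferInstance
  have huW : ∀ i, u i ∈ W := fun i => (hmem (u i)).2 fun a ha => by
    obtain ⟨r, hr1, hr2⟩ := hex (G.s a)
    have hgen : ∀ x : G.U, x ⤳ G.s a → x = G.s a := by
      have := hu i (G.i a) (by rw [← Scheme.Hom.comp_apply, G.i_s]; exact ha)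
      rwa [← Scheme.Hom.comp_apply, G.i_t] at this
    exact ⟨r, show G.s a ∈ interior _ from GrpdStrat.interior_sdiff_mem (Z r) (hfg r) _ hgen hr1 (Z (r + 1)).support.isClosed hr2⟩
  obtain ⟨V, hVa, hVW, huV, hVi⟩ := GrpdStrat.exists_affine_invariant W h1 m u hu huW
  obtain ⟨V', hV'supp, hV'lfp, hψ, hVs, hVt⟩ := GrpdStrat.exists_affine_thickening h2 hlfp φ hφ h7 h8 hVW hVi
  exact ⟨V, V', hVa, huV, hVi, hV'supp, hψ, hVs, hVt⟩

end Groth.Agent.S7465
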