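import Groth.Statements.S7487
import Groth.Agent.GrpdLib.InvBaseChange

set_option autoImplicit false
universe u
open CategoryTheory CategoryTheory.Limits AlgebraicGeometry
open Grpd

namespace Groth.Agent.S7487

set_option backward.isDefEq.respectTransparency false
set_option backward.isDefEq.respectTransparency.types false

/-- Let (U, R, s, t, c) be a groupoid scheme over S with U = Spec A and R = Spec B affine and s, t
finite locally free; let C be the subring of R-invariant functions of A and C -> C' a ring map. Put
A' = A (x)_C C' and B' = B (x)_C C' (B a C-algebra through s^#) and let C^1 be the subring of A'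
where the two maps s^# (x) 1, t^# (x) 1 : A' -> B' agree; the structure map C' -> A' lands in C^1,
giving φ : C' -> C^1. Then: (a) for every f in C^1 there are n > 0 and a polynomial P over C' whose
image in A'[x] is (x - f)^n; (b) every element of the kernel of φ is nilpotent; (c) if C -> C' is
flat then φ is bijective, that is C' -> A' is injective with image C^1. (The published statement
also asserts that the base change is again a groupoid scheme; this row omits that clause.) (A
groupoid scheme carries U, R, s, t, c, e, i over S with the groupoid axioms on T-points; c is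
defined on the fibre product of s and t and sends a pair (a, b) with s(a) = t(b) to a composed with
b.) -/
theorem result (S : Scheme.{u}) (G : Grpd.GroupoidScheme S) [IsAffine G.U] [IsAffine G.R] [IsFinite G.s] [Flat G.s] [LocallyOfFinitePresentation G.s] [IsFinite G.t] [Flat G.t] [LocallyOfFinitePresentation G.t] (C' : Type u) [CommRing C'] [Algebra G.invariants C'] : letI : Algebra G.invariants Γ(G.R, ⊤) := (G.s.appTop.hom.comp G.invariants.subtype).toAlgebra; ∀ (sT tT : TensorProduct G.invariants Γ(G.U, ⊤) C' →ₐ[G.invariants] TensorProduct G.invariants Γ(G.R, ⊤) C'), (∀ (a : Γ(G.U, ⊤)) (c : C'), sT (a ⊗ₜ c) = G.s.appTop.hom a ⊗ₜ c) → (∀ (a : Γ(G.U, ⊤)) (c : C'), tT (a ⊗ₜ c) = G.t.appTop.hom a ⊗ₜ c) → (∀ f : TensorProduct G.invariants Γ(G.U, ⊤) C', sT f = tT f → ∃ (n : ℕ) (P : Polynomial C'), 0 < n ∧ Polynomial.map (Algebra.TensorProduct.includeRight : C' →ₐ[G.invariants] TensorProduct G.invariants Γ(G.U, ⊤) C').toRingHom P = (Polynomial.X - Polynomial.C f) ^ n) ∧ (∀ c : C', (Algebra.TensorProduct.includeRight : C' →ₐ[G.invariants] TensorProduct G.invariants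 Γ(G.U, ⊤) C') c = 0 → IsNilpotent c) ∧ (Module.Flat G.invariants C' → Function.Injective (Algebra.TensorProduct.includeRight : C' →ₐ[G.invariants] TensorProduct G.invariants Γ(G.U, ⊤) C') ∧ ∀ f : TensorProduct G.invariants Γ(G.U, ⊤) C', sT f = tT f → f ∈ Set.range (Algebra.TensorProduct.includeRight : C' →ₐ[G.invariants] TensorProduct G.invariants Γ(G.U, ⊤) C')) := by
  letI : Algebra G.invariants Γ(G.R, ⊤) := (G.s.appTop.hom.comp G.invariants.subtype).toAlgebra
  intro sT tT hs ht
  let D := Groth.Agent.GrpdLib.affData G
  let K : Subring D.A := G.invariants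
  letI : Algebra K C' := (inferInstance : Algebra G.invariants C')
  have hK : ∀ a : D.A, a ∈ K ↔ D.s a = D.t a := Groth.Agent.GrpdLib.mem_invariants_iff G
  letI := Groth.Agent.GrpdLib.AffData.algB D K
  obtain ⟨n, ⟨F⟩⟩ := Groth.Agent.GrpdLib.exists_frame_affData G
  have hsT : ∀ z, sT z = Groth.Agent.GrpdLib.AffData.tmap C' (Groth.Agent.GrpdLib.AffData.sK D K) z := by
    intro z
    induction z using TensorProduct.induction_on with
    | zero => rw [map_zero, map_zero]
    | add x y hx hy => rw [map_add, map_add, hx, hy]
    | tmul a c => (rw [hs]; rfl)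
  have htT : ∀ z, tT z = Groth.Agent.GrpdLib.AffData.tmap C' (Groth.Agent.GrpdLib.AffData.tK D K hK) z := by
    intro z
    induction z using TensorProduct.induction_on with
    | zero => rw [map_zero, map_zero]
    | add x y hx hy => rw [map_add, map_add, hx, hy]
    | tmul a c => (rw [ht]; rfl)
  refine ⟨fun f hf => ?_, fun c hc => ?_, fun hfl => ⟨fun c c' hcc => ?_, fun f hf => ?_⟩⟩
  · exact Groth.Agent.GrpdLib.AffData.exists_pow_eq_map F K hK C' f ((hsT f).symm.trans (hf.trans (htT f)))
  · exact Groth.Agent.GrpdLib.AffData.isNilpotent_of_includeRight_eq_zero F K hK C' c hc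
  · haveI := hfl
    exact Algebra.TensorProduct.includeRight_injective
      (A := Γ(G.U, ⊤)) (B := C') (R := G.invariants) Subtype.val_injective hcc
  · haveI : Module.Flat K C' := hfl
    obtain ⟨r, hr⟩ := Groth.Agent.GrpdLib.AffData.mem_range_includeRight D K hK C' f
      ((hsT f).symm.trans (hf.trans (htT f)))
    exact ⟨r, hr⟩


end Groth.Agent.S7487
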