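import Groth.Statements.S7489
import Groth.Agent.GrpFieldLib.ProfiniteImage

set_option autoImplicit false
universe u
open CategoryTheory MonoidalCategory CartesianMonoidalCategory MonObj GrpObj AlgebraicGeometry
open GrpSch

namespace Groth.Agent.S7489

/-- Let k be an algebraically closed field and G a group scheme over k such that the underlying space of
G is Jacobson and every closed point of G is k-rational (the image of a section of G -> Spec k). Let
A be a k-algebra such that every finite subset of A is contained in a k-subalgebra isomorphic to a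
finite product of copies of k (A is a directed colimit of such algebras), and f : Spec A -> G a
morphism over k. Then there is an affine open U of G containing the image of f. -/
theorem result (k : Type u) [Field k] [IsAlgClosed k] (G : Over (Spec (CommRingCat.of k))) [GrpObj G] [JacobsonSpace G.left] (hrat : ∀ g : G.left, IsClosed ({g} : Set G.left) → ∃ x : Spec (CommRingCat.of k) ⟶ G.left, x ≫ G.hom = 𝟙 _ ∧ x (IsLocalRing.closedPoint k) = g) (A : Type u) [CommRing A] [Algebra k A] (hA : ∀ s : Finset A, ∃ (B : Subalgebra k A) (n : ℕ), (↑s : Set A) ⊆ (B : Set A) ∧ Nonempty (B ≃ₐ[k] (Fin n → k))) (f : Spec (CommRingCat.of A) ⟶ G.left) (hf : f ≫ G.hom = Spec.map (CommRingCat.ofHom (algebraMap k A))) : ∃ U : G.left.Opens, IsAffineOpen U ∧ Set.range ⇑f ⊆ (U : Set G.left) := by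
  have hint : Algebra.IsIntegral k A := ⟨fun a => by
    obtain ⟨B, n, hB, ⟨e⟩⟩ := hA {a}
    have : Module.Finite k B := Module.Finite.equiv e.symm.toLinearEquiv
    exact (Algebra.IsIntegral.isIntegral (R := k) (⟨a, hB (by simp)⟩ : B)).map B.val⟩
  have hres : ∀ (p : PrimeSpectrum A) (a : A), ∃ c : k, a - algebraMap k A c ∈ p.asIdeal := fun p a => by
    obtain ⟨B, n, hB, ⟨e⟩⟩ := hA {a}
    let P : Ideal (Fin n → k) := p.asIdeal.comap ((B.val.comp e.symm.toAlgHom).toRingHom)
    have hP : P.IsPrime := Ideal.comap_isPrime _ _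
    obtain ⟨i, hi⟩ : ∃ i, Pi.single i (1 : k) ∉ P := by
      by_contra h
      push Not at h
      apply hP.ne_top
      rw [Ideal.eq_top_iff_one, show (1 : Fin n → k) = ∑ i, Pi.single i (1 : k) from (Finset.univ_sum_single 1).symm]
      exact Ideal.sum_mem _ fun i _ => h i
    let b := e ⟨a, hB (by simp)⟩
    refine ⟨b i, ?_⟩
    have h1 : Pi.single i (1 : k) * (b - algebraMap k _ (b i)) ∈ P := by
      have : Pi.single i (1 : k) * (b - algebraMap k _ (b i)) = 0 := by
        ext j; by_cases hj : j = i <;> simp [hj]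
      rw [this]; exact P.zero_mem
    have h2 := (hP.mem_or_mem h1).resolve_left hi
    simpa [P, b, Ideal.mem_comap] using h2
  let Y : Over (Spec (CommRingCat.of k)) := Over.mk (Spec.map (CommRingCat.ofHom (algebraMap k A)))
  have : IsAffine Y.left := inferInstanceAs (IsAffine (Spec (CommRingCat.of A)))
  refine Groth.Agent.GrpFieldLib.exists_affineOpen_range (Y := Y) (fun g hg => ?_)
    ((IsIntegralHom.SpecMap_iff).mpr (algebraMap_isIntegral_iff.mpr hint)) (fun y => ?_) (Over.homMk f hf)
  · obtain ⟨x, hx, hxg⟩ := hrat g hg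
    exact ⟨Over.homMk x hx, hxg⟩
  · let p : PrimeSpectrum A := y
    have hbij : Function.Bijective (algebraMap k (A ⧸ p.asIdeal)) :=
      ⟨RingHom.injective _, fun z => by
        obtain ⟨a, rfl⟩ := Ideal.Quotient.mk_surjective z
        obtain ⟨c, hc⟩ := hres p a
        exact ⟨c, ((Ideal.Quotient.mk_eq_mk_iff_sub_mem a _).mpr hc).symm⟩⟩
    let ψ : A →ₐ[k] k := ((AlgEquiv.ofBijective (Algebra.ofId k (A ⧸ p.asIdeal)) hbij).symm.toAlgHom).comp
      (Ideal.Quotient.mkₐ k p.asIdeal)
    refine ⟨Over.homMk (Spec.map (CommRingCat.ofHom ψ.toRingHom)) ?_, PrimeSpectrum.ext ?_⟩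
    · show Spec.map _ ≫ Spec.map _ = 𝟙 _
      rw [← Spec.map_comp, ← Spec.map_id]
      congr 1
      ext z
      exact ψ.commutes z
    · show Ideal.comap ψ.toRingHom (IsLocalRing.closedPoint k).asIdeal = p.asIdeal
      ext a
      simp [ψ, IsLocalRing.closedPoint, IsLocalRing.maximalIdeal_eq_bot, Ideal.Quotient.eq_zero_iff_mem]

end Groth.Agent.S7489
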