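import Groth.Statements.S7493
import Mathlib.FieldTheory.IsAlgClosed.Classification
import Mathlib.FieldTheory.IsAlgClosed.AlgebraicClosure
import Mathlib.RingTheory.AlgebraicIndependent.TranscendenceBasis
import Mathlib.RingTheory.Localization.Cardinality
import Mathlib.Algebra.MvPolynomial.Cardinal
import Mathlib.RingTheory.AlgebraicIndependent.AlgebraicClosure

set_option autoImplicit false
universe u
open CategoryTheory CategoryTheory.Limits AlgebraicGeometry
open Grpd

namespace Groth.Agent.S7493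

set_option backward.isDefEq.respectTransparency false
set_option backward.isDefEq.respectTransparency.types false


set_option backward.isDefEq.respectTransparency false
set_option backward.isDefEq.respectTransparency.types false

open Cardinal in
theorem exists_ringEquiv (k K L : Type u) [Field k] [Field K] [Field L] [Algebra k K] [Algebra k L]
    [IsAlgClosed K] [IsAlgClosed L] (h : Algebra.trdeg k K = Algebra.trdeg k L) :
    ∃ σ : K ≃+* L, ∀ c, σ (algebraMap k K c) = algebraMap k L c := by
  obtain ⟨s, hs⟩ := exists_isTranscendenceBasis k K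
  obtain ⟨t, ht⟩ := exists_isTranscendenceBasis k L
  obtain ⟨ε⟩ := Cardinal.eq.1 (hs.cardinalMk_eq_trdeg.trans (h.trans ht.cardinalMk_eq_trdeg.symm))
  letI := IsAlgClosed.isAlgClosure_of_transcendence_basis _ hs
  letI := IsAlgClosed.isAlgClosure_of_transcendence_basis _ ht
  let e : Algebra.adjoin k (Set.range ((↑) : s → K)) ≃ₐ[k] Algebra.adjoin k (Set.range ((↑) : t → L)) :=
    hs.1.aevalEquiv.symm.trans ((MvPolynomial.renameEquiv k ε).trans ht.1.aevalEquiv)
  refine ⟨IsAlgClosure.equivOfEquiv K L e.toRingEquiv, fun c => ?_⟩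
  have := IsAlgClosure.equivOfEquiv_algebraMap K L e.toRingEquiv (algebraMap k _ c)
  rw [← IsScalarTower.algebraMap_apply] at this
  rw [this, show e.toRingEquiv (algebraMap k _ c) = algebraMap k _ c from e.commutes c,
    ← IsScalarTower.algebraMap_apply]

open Cardinal in
theorem trdeg_eq (k κ K ι : Type u) [Field k] [Field κ] [Field K] [Algebra κ K] (a : k →+* κ) (v : ι → K)
    (hv : AlgebraicIndependent κ v) (hK : #K ≤ #ι) :
    @Algebra.trdeg k K _ _ ((algebraMap κ K).comp a).toAlgebra = #K := by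
  letI : Algebra k K := ((algebraMap κ K).comp a).toAlgebra
  letI : Algebra k κ := a.toAlgebra
  haveI : IsScalarTower k κ K := IsScalarTower.of_algebraMap_eq fun _ => rfl
  refine le_antisymm ?_ (hK.trans (hv.restrictScalars (R := k) a.injective).cardinalMk_le_trdeg)
  obtain ⟨s, hs⟩ := exists_isTranscendenceBasis k K
  rw [← hs.cardinalMk_eq_trdeg]
  exact Cardinal.mk_set_le s

open Cardinal in
theorem exists_big (κ : Type u) [Field κ] : ∃ (K : Type u) (_ : Field K) (_ : IsAlgClosed K) (e : κ →+* K),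
    ∀ (k : Type u) [Field k] (a : k →+* κ), @Algebra.trdeg k K _ _ (e.comp a).toAlgebra = #K := by
  let ι : Type u := κ × ULift.{u} ℕ
  let P := MvPolynomial ι κ
  let F := FractionRing P
  let K := AlgebraicClosure F
  refine ⟨K, inferInstance, inferInstance, algebraMap κ K, fun k _ a => ?_⟩
  have hinj : Function.Injective (algebraMap P K) := by
    rw [IsScalarTower.algebraMap_eq P F K]
    exact (algebraMap F K).injective.comp (IsFractionRing.injective P F)
  refine trdeg_eq k κ K ι a (fun i : ι => algebraMap P K (MvPolynomial.X i))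
    ((MvPolynomial.algebraicIndependent_X ι κ).map' (f := IsScalarTower.toAlgHom κ P K) hinj) ?_
  have h1 : ℵ₀ ≤ #ι := aleph0_le_mk ι
  have h2 : #κ ≤ #ι := Cardinal.mk_le_of_injective (f := fun x => ((x, ⟨0⟩) : ι)) fun x y h => (Prod.mk.inj h).1
  have h3 : #P ≤ #ι := MvPolynomial.cardinalMk_le_max.trans (max_le (max_le h2 le_rfl) h1)
  have h4 : #F ≤ #ι := le_trans (IsLocalization.cardinalMk_le (L := F) (nonZeroDivisors P)) h3
  exact (Algebra.IsAlgebraic.cardinalMk_le_max F K).trans (max_le h4 h1)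

theorem isIso_residueFieldMap_of_section {X Y T : Scheme.{u}} (ρ : T ⟶ X) (f : X ⟶ Y) (v : T ⟶ Y) [IsIso v]
    (h : ρ ≫ f = v) (p : T) : IsIso (f.residueFieldMap (ρ p)) := by
  have e : (ρ ≫ f).residueFieldMap p = f.residueFieldMap (ρ p) ≫ ρ.residueFieldMap p := Scheme.residueFieldMap_comp _ _ _
  haveI : IsIso (f.residueFieldMap (ρ p) ≫ ρ.residueFieldMap p) := by
    rw [← e]
    subst h
    infer_instance
  haveI : IsIso (ρ.residueFieldMap p) := by
    refine (ConcreteCategory.isIso_iff_bijective _).2 ⟨RingHom.injective (ρ.residueFieldMap p).hom, ?_⟩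
    refine Function.Surjective.of_comp (g := f.residueFieldMap (ρ p)) ?_
    exact ((ConcreteCategory.isIso_iff_bijective (f.residueFieldMap (ρ p) ≫ ρ.residueFieldMap p)).1 inferInstance).2
  exact IsIso.of_isIso_comp_right (f.residueFieldMap (ρ p)) (ρ.residueFieldMap p)

theorem core (S : Scheme.{u}) (G : Grpd.GroupoidScheme S) (k : Type u) [Field k] (eU : G.U ≅ Spec (CommRingCat.of k)) (r : G.R) : ∃ (k' : Type u) (_ : Field k') (_ : IsAlgClosed k') (_ : Algebra k k'), ∃ r' : ↑(pullback (pullback.snd (Spec.map (CommRingCat.ofHom (algebraMap k k')) ≫ eU.inv) G.t ≫ G.s) (Spec.map (CommRingCat.ofHom (algebraMap k k')) ≫ eU.inv)), (pullback.fst (pullback.snd (Spec.map (CommRingCat.ofHom (algebraMap k k')) ≫ eU.inv) G.t ≫ G.s) (Spec.map (CommRingCat.ofHom (algebraMap k k')) ≫ eU.inv) ≫ pullback.snd (Spec.map (CommRingCat.ofHom (algebraMap k k')) ≫ eU.inv) G.t) r' = r ∧ IsIso ((pullback.snd (pullback.snd (Spec.map (CommRingCat.ofHom (algebraMap k k')) ≫ eU.inv) G.t ≫ G.s) (Spec.map (CommRingCat.ofHom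 (algebraMap k k')) ≫ eU.inv)).residueFieldMap r') ∧ IsIso ((pullback.fst (pullback.snd (Spec.map (CommRingCat.ofHom (algebraMap k k')) ≫ eU.inv) G.t ≫ G.s) (Spec.map (CommRingCat.ofHom (algebraMap k k')) ≫ eU.inv) ≫ pullback.fst (Spec.map (CommRingCat.ofHom (algebraMap k k')) ≫ eU.inv) G.t).residueFieldMap r') := by
  obtain ⟨K, hF, hA, e, hcard⟩ := exists_big (G.R.residueField r)
  let x : Spec (CommRingCat.of K) ⟶ G.R := Spec.map (CommRingCat.ofHom e) ≫ G.R.fromSpecResidueField r
  obtain ⟨a₁, ha₁⟩ := Spec.map_surjective (G.R.fromSpecResidueField r ≫ G.s ≫ eU.hom)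
  obtain ⟨b₁, hb₁⟩ := Spec.map_surjective (G.R.fromSpecResidueField r ≫ G.t ≫ eU.hom)
  let a : k →+* K := e.comp a₁.hom
  let b : k →+* K := e.comp b₁.hom
  have hxs : x ≫ G.s = Spec.map (CommRingCat.ofHom a) ≫ eU.inv := by
    rw [Iso.eq_comp_inv, show CommRingCat.ofHom a = a₁ ≫ CommRingCat.ofHom e from rfl, Spec.map_comp, ha₁]
    simp [x]
  have hxt : x ≫ G.t = Spec.map (CommRingCat.ofHom b) ≫ eU.inv := by
    rw [Iso.eq_comp_inv, show CommRingCat.ofHom b = b₁ ≫ CommRingCat.ofHom e from rfl, Spec.map_comp, hb₁]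
    simp [x]
  obtain ⟨σ, hσ⟩ : ∃ σ : K ≃+* K, ∀ c, σ (a c) = b c :=
    @exists_ringEquiv k K K _ _ _ a.toAlgebra b.toAlgebra _ _ ((hcard k a₁.hom).trans (hcard k b₁.hom).symm)
  refine ⟨K, hF, hA, a.toAlgebra, ?_⟩
  let u : Spec (CommRingCat.of K) ⟶ Spec (CommRingCat.of K) := Spec.map σ.toCommRingCatIso.hom
  let g : Spec (CommRingCat.of K) ⟶ G.U := Spec.map (CommRingCat.ofHom a) ≫ eU.inv
  have hu : u ≫ g = x ≫ G.t := by
    rw [hxt]
    show Spec.map _ ≫ Spec.map _ ≫ eU.inv = _
    rw [← Spec.map_comp_assoc]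
    congr 2
    exact CommRingCat.hom_ext (RingHom.ext hσ)
  let ρ : Spec (CommRingCat.of K) ⟶ pullback (pullback.snd g G.t ≫ G.s) g :=
    pullback.lift (pullback.lift u x hu) (𝟙 _) (by rw [pullback.lift_snd_assoc, hxs, Category.id_comp])
  refine ⟨ρ (IsLocalRing.closedPoint K), ?_, ?_, ?_⟩
  · show (ρ ≫ pullback.fst (pullback.snd g G.t ≫ G.s) g ≫ pullback.snd g G.t) (IsLocalRing.closedPoint K) = r
    rw [pullback.lift_fst_assoc, pullback.lift_snd, Scheme.Hom.comp_apply]
    exact Scheme.fromSpecResidueField_apply r _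
  · exact isIso_residueFieldMap_of_section ρ (pullback.snd (pullback.snd g G.t ≫ G.s) g) (𝟙 _) (pullback.lift_snd _ _ _) _
  · exact isIso_residueFieldMap_of_section ρ (pullback.fst (pullback.snd g G.t ≫ G.s) g ≫ pullback.fst g G.t) u
      (by rw [pullback.lift_fst_assoc, pullback.lift_fst]) _

/-- Let (U, R, s, t, c) be a groupoid scheme over S with U = Spec k for a field k, and let r be a point
of R. Then there exist a field extension k -> k' with k' algebraically closed and a point r' of the
restriction R' of R along g : U' = Spec k' -> U, that is R' = (U' x_(g,U,t) R) x_(s pr, U, g) U'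
with t' the projection to the first factor U' and s' the projection to the last factor U', such that
r' maps to r under R' -> R and both s' and t' induce isomorphisms on residue fields at r' (k' ->
κ(r') bijective). (A groupoid scheme carries U, R, s, t, c, e, i over S with the groupoid axioms on
T-points; c is defined on the fibre product of s and t and sends a pair (a, b) with s(a) = t(b) to a
composed with b.) -/
theorem result (S : Scheme.{u}) (G : Grpd.GroupoidScheme S) (k : Type u) [Field k] (eU : G.U ≅ Spec (CommRingCat.of k)) (r : G.R) : ∃ (k' : Type u) (_ : Field k') (_ : IsAlgClosed k') (_ : Algebra k k'), ∃ r' : ↑(pullback (pullback.snd (Spec.map (CommRingCat.ofHom (algebraMap k k')) ≫ eU.inv) G.t ≫ G.s) (Spec.map (CommRingCat.ofHom (algebraMap k k')) ≫ eU.inv)), (pullback.fst (pullback.snd (Spec.map (CommRingCat.ofHom (algebraMap k k')) ≫ eU.inv) G.t ≫ G.s) (Spec.map (CommRingCat.ofHom (algebraMap k k')) ≫ eU.inv) ≫ pullback.snd (Spec.map (CommRingCat.ofHom (algebraMap k k')) ≫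 eU.inv) G.t) r' = r ∧ IsIso ((pullback.snd (pullback.snd (Spec.map (CommRingCat.ofHom (algebraMap k k')) ≫ eU.inv) G.t ≫ G.s) (Spec.map (CommRingCat.ofHom (algebraMap k k')) ≫ eU.inv)).residueFieldMap r') ∧ IsIso ((pullback.fst (pullback.snd (Spec.map (CommRingCat.ofHom (algebraMap k k')) ≫ eU.inv) G.t ≫ G.s) (Spec.map (CommRingCat.ofHom (algebraMap k k')) ≫ eU.inv) ≫ pullback.fst (Spec.map (CommRingCat.ofHom (algebraMap k k')) ≫ eU.inv) G.t).residueFieldMap r') := by
  exact core S G k eU r

end Groth.Agent.S7493
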