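import Groth.Statements.S7499
import Groth.Agent.S0593
import Groth.Agent.GrpdLib.OrbitTop
import Groth.Agent.GrpdLib.InvOpen
import Mathlib.AlgebraicGeometry.Morphisms.Integral

set_option autoImplicit false
universe u
open CategoryTheory CategoryTheory.Limits AlgebraicGeometry
open Grpd

namespace Groth.Agent.S7499

set_option backward.isDefEq.respectTransparency false

/-- Let (U, R, s, t, c) be a groupoid scheme over S with s and t integral, and g : U' -> U an integral
morphism such that every R-orbit of U meets the image of g. Let R' = (U' x_(g,U,t) R) x_(s pr, U, g)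
U' be the restriction of R to U', with t' the projection to the first factor U' and s' the
projection to the last. If u' is a point of U' contained in an affine open W' of U' with t'^{-1}(W')
= s'^{-1}(W'), then g(u') is contained in an affine open W of U with s^{-1}(W) = t^{-1}(W). (A
groupoid scheme carries U, R, s, t, c, e, i over S with the groupoid axioms on T-points; c is
defined on the fibre product of s and t and sends a pair (a, b) with s(a) = t(b) to a composed with
b.) -/
theorem result (S : Scheme.{u}) (G : Grpd.GroupoidScheme S) [IsIntegralHom G.s] [IsIntegralHom G.t] (U' : Scheme.{u}) (g : U' ⟶ G.U) [IsIntegralHom g] (horb : ∀ u : G.U, ∃ r : G.R, G.s r = u ∧ G.t r ∈ Set.range ⇑g) (u' : U') (W' : U'.Opens) (hW' : IsAffineOpen W') (hu' : u' ∈ W') (hinv : (pullback.fst (pullback.snd g G.t ≫ G.s) g ≫ pullback.fst g G.t) ⁻¹ᵁ W' = (pullback.snd (pullback.snd g G.t ≫ G.s) g) ⁻¹ᵁ W') : ∃ W : G.U.Opens, IsAffineOpen W ∧ g u' ∈ W ∧ G.s ⁻¹ᵁ W = G.t ⁻¹ᵁ W := by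
  let C : Set G.U := GrpdLib.sat G (g '' (W' : Set U')ᶜ)
  have hC : IsClosed C := G.t.isClosedMap _ ((g.isClosedMap _ W'.2.isClosed_compl).preimage G.s.continuous)
  let W : G.U.Opens := ⟨Cᶜ, hC.isOpen_compl⟩
  have hWinv : G.s ⁻¹ᵁ W = G.t ⁻¹ᵁ W :=
    TopologicalSpace.Opens.ext (Set.ext fun r => not_congr (GrpdLib.mem_sat_iff G _ r))
  have hpre : g ⁻¹ᵁ W = W' := by
    refine TopologicalSpace.Opens.ext (Set.ext fun x => ⟨fun hx => ?_, fun hx => ?_⟩)
    · by_contra hn
      exact hx (GrpdLib.subset_sat G _ ⟨x, hn, rfl⟩)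
    · rintro ⟨r, ⟨y, hy, e⟩, hr⟩
      obtain ⟨p, hp1, hp2⟩ := Scheme.Pullback.exists_preimage_pullback (f := g) (g := G.t) x r hr.symm
      obtain ⟨q, hq1, hq2⟩ := Scheme.Pullback.exists_preimage_pullback (f := pullback.snd g G.t ≫ G.s) (g := g) p y
        (by rw [Scheme.Hom.comp_apply, hp2, ← e])
      have h1 := SetLike.ext_iff.1 hinv q
      simp only [Scheme.Hom.mem_preimage, Scheme.Hom.comp_apply, hq1, hq2, hp1] at h1
      exact hy (h1.1 hx)
  refine ⟨W, ?_, show u' ∈ g ⁻¹ᵁ W from hpre.symm ▸ hu', hWinv⟩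
  let π : pullback g G.t ⟶ G.U := pullback.snd g G.t ≫ G.s
  have hP : π ⁻¹ᵁ W = pullback.fst g G.t ⁻¹ᵁ W' := by
    rw [Scheme.Hom.comp_preimage, hWinv, ← hpre, ← Scheme.Hom.comp_preimage, ← Scheme.Hom.comp_preimage,
      pullback.condition]
  haveI : IsAffineHom (pullback.fst g G.t) := MorphismProperty.pullback_fst _ _ inferInstance
  have hPa : IsAffineOpen (π ⁻¹ᵁ W) := hP ▸ hW'.preimage (pullback.fst g G.t)
  haveI : IsAffine (π ⁻¹ᵁ W).toScheme := hPa
  haveI : Surjective π := ⟨fun u => by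
    obtain ⟨r, hr, x, hx⟩ := horb u
    obtain ⟨p, -, hp2⟩ := Scheme.Pullback.exists_preimage_pullback (f := g) (g := G.t) x r hx
    exact ⟨p, by rw [Scheme.Hom.comp_apply, hp2, hr]⟩⟩
  haveI : IsIntegralHom π := inferInstance
  haveI : Surjective (π ∣_ W) := IsZariskiLocalAtTarget.restrict ‹Surjective π› W
  haveI : IsIntegralHom (π ∣_ W) := IsZariskiLocalAtTarget.restrict ‹IsIntegralHom π› W
  exact S0593.result _ _ (π ∣_ W)

end Groth.Agent.S7499
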