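import Groth.Statements.S7502
import Groth.Agent.ZClosLib.CohDescent
import Groth.Agent.RGLib.SqZeroHom
import Groth.Agent.QCoh.Support
import Groth.Agent.RGLib.Lim8Exact

set_option autoImplicit false
set_option backward.isDefEq.respectTransparency false
set_option backward.isDefEq.respectTransparency.types false
universe u
open CategoryTheory CategoryTheory.Limits AlgebraicGeometry
open Coh

namespace Groth.Agent.S7502

/-- Let f : Y -> X be a morphism of schemes which is quasi-compact, quasi-separated, flat and
surjective, with X and Y locally Noetherian. Let F be a quasi-coherent O_X-module, G a coherent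
O_Y-module and φ : G -> f^*F an injective map of O_Y-modules. Then the O_X-module F ∩ f_*G, defined
as the fibre product of the adjunction unit F -> f_*f^*F with f_*φ : f_*G -> f_*f^*F, is coherent.
('Coherent' is quasi-coherent of finite type, the usual notion on locally Noetherian schemes.) -/
theorem result {X Y : Scheme.{u}} (f : Y ⟶ X) [QuasiCompact f] [QuasiSeparated f] [Flat f] [Surjective f] [IsLocallyNoetherian X] [IsLocallyNoetherian Y] (F : X.Modules) (hF : Coh.IsQCoh F) (G : Y.Modules) (hG : Coh.IsCoh G) (φ : G ⟶ (Scheme.Modules.pullback f).obj F) [Mono φ] : Coh.IsCoh (Limits.pullback ((Scheme.Modules.pullbackPushforwardAdjunction f).unit.app F) ((Scheme.Modules.pushforward f).map φ)) := by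
  haveI := Groth.Agent.RGLib.Lim8.preservesFiniteLimits_pullback f
  let adj := Scheme.Modules.pullbackPushforwardAdjunction f
  let a := adj.unit.app F
  let b := (Scheme.Modules.pushforward f).map φ
  let w : F ⊞ (Scheme.Modules.pushforward f).obj G ⟶ _ := biprod.fst ≫ a - biprod.snd ≫ b
  let e : Limits.pullback a b ≅ kernel w :=
    { hom := kernel.lift w (biprod.lift (pullback.fst a b) (pullback.snd a b))
        (by simp [w, Preadditive.comp_sub, pullback.condition])
      inv := pullback.lift (kernel.ι w ≫ biprod.fst) (kernel.ι w ≫ biprod.snd) (by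
        have := kernel.condition w
        rw [Preadditive.comp_sub, sub_eq_zero] at this
        exact (Category.assoc _ _ _).trans (this.trans (Category.assoc _ _ _).symm))
      hom_inv_id := by apply pullback.hom_ext <;> simp
      inv_hom_id := by
        refine (cancel_mono (kernel.ι w)).1 ?_
        rw [Category.assoc, kernel.lift_ι, Category.id_comp]
        apply biprod.hom_ext <;> simp }
  have hpf : Coh.IsQCoh ((Scheme.Modules.pullback f).obj F) := Groth.Agent.QCoh.isQCoh_pullback f hF
  have hP : Coh.IsQCoh (Limits.pullback a b) := (Groth.Agent.QCoh.isQCoh_iff_iso e).2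
    (Groth.Agent.QCoh.isQCoh_kernel
      (Groth.Agent.RGLib.SqZeroHom.isQCoh_biprod hF (Groth.Agent.QCoh.isQCoh_pushforward f hG.1))
      (Groth.Agent.QCoh.isQCoh_pushforward f hpf) w)
  haveI := (Scheme.Modules.pullbackPushforwardAdjunction f).isRightAdjoint
  haveI : Mono b := inferInstanceAs (Mono ((Scheme.Modules.pushforward f).map φ))
  let g : (Scheme.Modules.pullback f).obj (Limits.pullback a b) ⟶ G := (adj.homEquiv _ _).symm (pullback.snd a b)
  have hg : g ≫ φ = (Scheme.Modules.pullback f).map (pullback.fst a b) := by
    rw [← adj.homEquiv_naturality_right_symm]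
    refine (adj.homEquiv _ _).injective ?_
    rw [Equiv.apply_symm_apply, Adjunction.homEquiv_unit]
    exact pullback.condition.symm.trans (adj.unit.naturality (pullback.fst a b))
  haveI : Mono g := by
    have : Mono (g ≫ φ) := hg ▸ inferInstance
    exact mono_of_mono g φ
  exact Groth.Agent.ZClosLib.isFT_of_pullback f hP
    (Groth.Agent.QCoh.isCoh_of_mono g hG (Groth.Agent.QCoh.isQCoh_pullback f hP))

end Groth.Agent.S7502
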