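import Groth.Statements.S7506
import Groth.Agent.GrpdSlice.Kernel
import Groth.Agent.GrpdSlice.Dim
import Groth.Agent.GrpdSlice.Ring
import Groth.Agent.Triage.CMMor
import Groth.Agent.ConsPropLib.Fibre
import Groth.Agent.S1348
import Mathlib

set_option autoImplicit false
universe u
open CategoryTheory CategoryTheory.Limits AlgebraicGeometry
open Grpd

set_option linter.style.haveILetI false
set_option backward.isDefEq.respectTransparency false

namespace Groth.Agent.S7506

open IsLocalRing Groth.Agent.FibFlat Groth.Agent.GrpdSlice Groth.Agent.Triage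

/-- Let (U, R, s, t, c, e, i) be a groupoid scheme over S with s and t Cohen-Macaulay and locally of
finite presentation, G -> U the stabilizer group scheme and u a finite type point of U. Put d_1 =
dim(G_u) and d_2 = dim_(e(u))(F_u) with F_u = s^{-1}(u). If d_2 > d_1, there exist an affine scheme
U', an immersion g : U' -> U locally of finite presentation and a point u' of U' with g(u') = u such
that, writing h = s ∘ pr_1 : U' x_(g,U,t) R -> U and p for the point of U' x_(g,U,t) R with
projections u' and e(u), the morphism h is Cohen-Macaulay at p and the local dimension at p of the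
fibre of h is d_2 - 1 (this fibre is the fibre F'_(u') of the restricted groupoid). Here a morphism
is Cohen-Macaulay when it is Cohen-Macaulay at every point of its source (flat there with
Cohen-Macaulay fibre local ring, Grpd.IsCMAt), a finite type point u is one for which Spec κ(u) -> U
is locally of finite type, dim_x of a fibre is the local dimension FlatMor.fibreDimAt, and G_u is
the scheme-theoretic fibre of the stabilizer G -> U over u. (A groupoid scheme carries U, R, s, t,
c, e, i over S with the groupoid axioms on T-points; c is defined on the fibre product of s and t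
and sends a pair (a, b) with s(a) = t(b) to a composed with b.) -/
theorem result (S : Scheme.{u}) (G : Grpd.GroupoidScheme S) [LocallyOfFinitePresentation G.s] [LocallyOfFinitePresentation G.t] (hs : ∀ r : G.R, Grpd.IsCMAt G.s r) (ht : ∀ r : G.R, Grpd.IsCMAt G.t r) (u : G.U) (hu : LocallyOfFiniteType (G.U.fromSpecResidueField u)) (hd : topologicalKrullDim ↥(G.stabilizerToU.fiber u) < FlatMor.fibreDimAt G.s (G.e u)) : ∃ (U' : Scheme.{u}) (_ : IsAffine U') (g : U' ⟶ G.U) (u' : U') (p : ↑(pullback g G.t)), IsImmersion g ∧ LocallyOfFinitePresentation g ∧ g u' = u ∧ pullback.fst g G.t p = u' ∧ pullback.snd g G.t p = G.e u ∧ Grpd.IsCMAt (pullback.snd g G.t ≫ G.s) p ∧ FlatMor.fibreDimAt (pullback.snd g G.t ≫ G.s) p + 1 = FlatMor.fibreDimAt G.s (G.e u) := by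
  haveI := hu
  obtain ⟨q, hqdef⟩ : ∃ q, q = G.U.fromSpecResidueField u := ⟨_, rfl⟩
  let x0 := G.e u
  have hsu : G.s x0 = u := by
    show G.s (G.e u) = u
    rw [← Scheme.Hom.comp_apply, G.e_s]; rfl
  have htu : G.t x0 = u := by
    show G.t (G.e u) = u
    rw [← Scheme.Hom.comp_apply, G.e_t]; rfl
  let z0 : Spec (G.U.residueField u) := closedPoint (G.U.residueField u)
  -- the unit in the fibre of the source
  let ιF := G.s.fiberι u
  let σ : Spec (G.U.residueField u) ⟶ G.s.fiber u :=
    pullback.lift (G.U.fromSpecResidueField u ≫ G.e) (𝟙 _) (by rw [Category.assoc, G.e_s]; simp)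
  have hσι : σ ≫ ιF = G.U.fromSpecResidueField u ≫ G.e := pullback.lift_fst _ _ _
  haveI : LocallyOfFiniteType (G.s.fiberToSpecResidueField u) :=
    inferInstanceAs (LocallyOfFiniteType (pullback.snd G.s (G.U.fromSpecResidueField u)))
  let w := σ z0
  have hw : ιF w = x0 := by
    show ιF (σ z0) = G.e u
    rw [← Scheme.Hom.comp_apply, hσι, Scheme.Hom.comp_apply, Scheme.fromSpecResidueField_apply]
  have hwc : IsClosed ({w} : Set ↥(G.s.fiber u)) :=
    isClosed_of_section (G.U.residueField u) (G.s.fiberToSpecResidueField u) σ (pullback.lift_snd _ _ _) z0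
  haveI : IsLocallyNoetherian (G.s.fiber u) :=
    LocallyOfFiniteType.isLocallyNoetherian (G.s.fiberToSpecResidueField u)
  let B := (G.s.fiber u).presheaf.stalk w
  let π : G.R.presheaf.stalk x0 →+* B := sm ιF w x0 hw
  have hπ : Function.Surjective π := surjective_sm _ _ _
  have hkπ : RingHom.ker π = (maximalIdeal _).map (sm G.s x0 u hsu) := by
    rw [show RingHom.ker π = _ from ker_sm_fiberι G.s u w x0 hw]
    have : ∀ (y : G.U) (h : G.s x0 = y), (maximalIdeal _).map (sm G.s x0 (G.s x0) rfl) =
        (maximalIdeal _).map (sm G.s x0 y h) := by rintro y rfl; rfl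
    exact this u hsu
  obtain ⟨hflat, hCM⟩ := (CMMor.isCMAt_iff_sm G.s x0 u hsu).1 ((CMMor.isCMAt_iff G.s x0).2 (hs x0))
  have hB : LocCoh.IsCohenMacaulayLocalRing B :=
    CMMor.isCM_of_equiv (CMMor.exists_equiv_fibre_stalk_aux G.s x0 u hsu w hw).some hCM
  have hd2 : FlatMor.fibreDimAt G.s (G.e u) = ringKrullDim B := fibreDimAt_eq G.s x0 u hsu w hw hwc
  -- the ideal of the orbit fibre
  let f₂ := ιF ≫ G.t
  have hf₂w : f₂ w = u := by rw [Scheme.Hom.comp_apply, hw, htu]
  let σ' : Spec (G.U.residueField u) ⟶ f₂.fiber u :=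
    pullback.lift σ (𝟙 _) (by rw [reassoc_of% hσι, G.e_t]; simp)
  let w' := σ' z0
  have hw' : f₂.fiberι u w' = w := by
    show f₂.fiberι u (σ' z0) = σ z0
    rw [← Scheme.Hom.comp_apply, show σ' ≫ f₂.fiberι u = σ from pullback.lift_fst _ _ _]
  haveI : LocallyOfFiniteType f₂ := by
    haveI : LocallyOfFiniteType ιF :=
      inferInstanceAs (LocallyOfFiniteType (pullback.fst G.s (G.U.fromSpecResidueField u)))
    infer_instance
  haveI : LocallyOfFiniteType (f₂.fiberToSpecResidueField u) :=
    inferInstanceAs (LocallyOfFiniteType (pullback.snd f₂ (G.U.fromSpecResidueField u)))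
  let J : Ideal B := (maximalIdeal _).map (sm f₂ w u hf₂w)
  have hJ : ringKrullDim (B ⧸ J) < ringKrullDim B := by
    rw [ringKrullDim_eq_of_ringEquiv (CMMor.exists_equiv_fibre_stalk_aux f₂ w u hf₂w w' hw').some, ← hd2]
    refine lt_of_le_of_lt ?_ hd
    rw [← dim_orbitFibre_eq G u]
    exact ringKrullDim_stalk_le (G.U.residueField u) (f₂.fiberToSpecResidueField u) w'
      (isClosed_of_section (G.U.residueField u) (f₂.fiberToSpecResidueField u) σ' (pullback.lift_snd _ _ _) z0)
  -- the function
  obtain ⟨W, hW, huW, -⟩ := exists_isAffineOpen_mem_and_subset (X := G.U) (x := u) (U := ⊤) trivial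
  let P := (hW.primeIdealOf ⟨u, huW⟩).asIdeal
  let γ := (G.U.presheaf.germ W u huW).hom
  have hPm : P.map γ = maximalIdeal (G.U.presheaf.stalk u) := by
    letI := G.U.presheaf.algebra_section_stalk ⟨u, huW⟩
    haveI := hW.isLocalization_stalk ⟨u, huW⟩
    exact IsLocalization.AtPrime.map_eq_maximalIdeal P (G.U.presheaf.stalk u)
  obtain ⟨a, haP, hanz⟩ := exists_nonZeroDivisor ((sm f₂ w u hf₂w).comp γ) P (fun Q hQ => by
    haveI := hB
    rw [← Ideal.map_map, hPm]
    exact not_le_of_ass hQ hJ)
  have hγa : γ a ∈ maximalIdeal _ := hPm ▸ Ideal.mem_map_of_mem γ haP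
  let θ := sm G.t x0 u htu (γ a)
  have hθ : π θ = sm f₂ w u hf₂w (γ a) := by
    rw [sm_factor ιF G.t f₂ rfl w x0 u hw htu hf₂w]; rfl
  have hθm : θ ∈ maximalIdeal _ := map_nonunit (sm G.t x0 u htu) _ hγa
  have hθB : π θ ∈ maximalIdeal B := map_nonunit π _ hθm
  have hθnz : π θ ∈ nonZeroDivisors B := hθ ▸ hanz
  -- the slice
  obtain ⟨u', hu'⟩ := exists_slice_point hW (Ideal.span {a}) u huW (fun b hb => by
    have : (Ideal.span {a}).map γ ≤ maximalIdeal _ := by
      rw [Ideal.map_span, Set.image_singleton, Ideal.span_le, Set.singleton_subset_iff]; exact hγa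
    exact this (Ideal.mem_map_of_mem γ hb))
  let g := slice hW (Ideal.span {a})
  haveI : LocallyOfFinitePresentation g := locallyOfFinitePresentation_slice hW a
  obtain ⟨p, hp1, hp2⟩ := Scheme.Pullback.exists_preimage_pullback (f := g) (g := G.t) u' x0 (hu'.trans htu.symm)
  let h := pullback.snd g G.t ≫ G.s
  have hpu : h p = u := by rw [Scheme.Hom.comp_apply, hp2, hsu]
  let ρ := sm (pullback.snd g G.t) p x0 hp2
  have hρ : Function.Surjective ρ := surjective_sm _ _ _
  have hkρ : RingHom.ker ρ = Ideal.span {θ} := by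
    rw [show RingHom.ker ρ = _ from ker_sm_snd g G.t p u' x0 u hp1 hp2 hu' htu,
      ker_sm_slice hW (Ideal.span {a}) u' u hu' huW, Ideal.map_map, Ideal.map_span, Set.image_singleton]
    rfl
  -- flatness
  have hsm : sm h p u hpu = ρ.comp (sm G.s x0 u hsu) := sm_factor _ _ h rfl p x0 u hp2 hsu hpu
  have hfl : (sm h p u hpu).Flat := by
    have hfl0 := (sm_flat_iff G.s x0 u hsu).1 hflat
    have hker : RingHom.ker π = (maximalIdeal _).map (G.s.stalkMap x0).hom := by
      rw [show RingHom.ker π = _ from ker_sm_fiberι G.s u w x0 hw, sm_self]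
    obtain ⟨V, hV, hxV, h', hgerm, -, hflV, -⟩ := S1348.result G.s x0 hfl0 θ hθm
      (mem_nonZeroDivisors_quot π _ hker hθnz)
    obtain ⟨z, hz⟩ := exists_slice_point hV (Ideal.span {h'}) x0 hxV (fun b hb => by
      have : (Ideal.span {h'}).map (G.R.presheaf.germ V x0 hxV).hom ≤ maximalIdeal _ := by
        rw [Ideal.map_span, Set.image_singleton, Ideal.span_le, Set.singleton_subset_iff, SetLike.mem_coe]
        exact hgerm ▸ hθm
      exact this (Ideal.mem_map_of_mem _ hb))
    let i := slice hV (Ideal.span {h'})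
    have hiu : (i ≫ G.s) z = u := by rw [Scheme.Hom.comp_apply, hz, hsu]
    haveI : Flat (i ≫ G.s) := by
      show Flat ((_ ≫ _) ≫ G.s)
      rw [Category.assoc]; exact hflV
    have h1 : (sm (i ≫ G.s) z u hiu).Flat := (sm_flat_iff _ _ _ _).2 (Flat.stalkMap (i ≫ G.s) z)
    rw [sm_factor i G.s (i ≫ G.s) rfl z x0 u hz hsu hiu] at h1
    have hkσ : RingHom.ker (sm i z x0 hz) = RingHom.ker ρ := by
      rw [hkρ, ker_sm_slice hV (Ideal.span {h'}) z x0 hz hxV, Ideal.map_span, Set.image_singleton]
      exact congrArg (fun c => Ideal.span {c}) hgerm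
    obtain ⟨e, he⟩ := nonempty_equiv_of_ker_eq ρ (sm i z x0 hz) hρ (surjective_sm _ _ _) hkσ.symm
    have h2 : sm h p u hpu = e.toRingHom.comp ((sm i z x0 hz).comp (sm G.s x0 u hsu)) := by
      rw [hsm]
      exact RingHom.ext fun y => (he _).symm
    rw [h2]
    exact h1.comp (RingHom.Flat.of_bijective e.bijective)
  -- the fibre ring
  obtain ⟨hCMq, hdimq⟩ := cm_and_dim_quot hB hθB hθnz
  have hmap : (maximalIdeal _).map (sm h p u hpu) = (RingHom.ker π).map ρ := by
    rw [hsm, hkπ, Ideal.map_map]
  obtain ⟨eq1⟩ := nonempty_quot_equiv ρ π hρ hπ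
  let eq : (pullback g G.t).presheaf.stalk p ⧸ (maximalIdeal _).map (sm h p u hpu) ≃+* B ⧸ Ideal.span {π θ} :=
    ((Ideal.quotEquivOfEq hmap).trans eq1).trans
      (Ideal.quotEquivOfEq (by rw [hkρ, Ideal.map_span, Set.image_singleton]))
  have hCMp : Grpd.IsCMAt h p := (CMMor.isCMAt_iff h p).1
    ((CMMor.isCMAt_iff_sm h p u hpu).2 ⟨hfl, CMMor.isCM_of_equiv eq.symm hCMq⟩)
  -- the fibre dimension
  obtain ⟨wp, hwp⟩ : p ∈ Set.range (h.fiberι u) := by rw [Scheme.Hom.range_fiberι]; exact hpu
  let k := MoreMor.fiberMap (pullback.snd g G.t) G.s u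
  have hk : ∀ v, ιF (k v) = pullback.snd g G.t (h.fiberι u v) := fun v => by
    rw [← Scheme.Hom.comp_apply, show k ≫ ιF = _ from ConsPropLib.fiberMap_comp_ι _ _ _, Scheme.Hom.comp_apply]
  have hwpc : IsClosed ({wp} : Set ↥(h.fiber u)) := by
    have : ({wp} : Set ↥(h.fiber u)) = k ⁻¹' {w} := by
      ext v
      simp only [Set.mem_singleton_iff, Set.mem_preimage]
      constructor
      · rintro rfl
        apply ιF.isEmbedding.injective
        rw [hk, hwp, hp2, hw]
      · intro hv
        apply (h.fiberι u).isEmbedding.injective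
        apply (pullback.snd g G.t).isEmbedding.injective
        rw [← hk, hv, hw, hwp, hp2]
    rw [this]
    exact hwc.preimage k.continuous
  refine ⟨_, inferInstance, g, u', p, inferInstance, inferInstance, hu', hp1, hp2, hCMp, ?_⟩
  rw [fibreDimAt_eq h p u hpu wp hwp hwpc, hd2,
    ← ringKrullDim_eq_of_ringEquiv (CMMor.exists_equiv_fibre_stalk_aux h p u hpu wp hwp).some,
    ringKrullDim_eq_of_ringEquiv eq]
  exact hdimq

end Groth.Agent.S7506
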