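import Groth.Statements.S7509
import Groth.Agent.GrpdSub.Basic

set_option autoImplicit false
universe u
open CategoryTheory CategoryTheory.Limits AlgebraicGeometry
open Grpd

namespace Groth.Agent.S7509

set_option backward.isDefEq.respectTransparency false
set_option backward.isDefEq.respectTransparency.types false

set_option backward.isDefEq.respectTransparency false
set_option backward.isDefEq.respectTransparency.types false

/-- Let (U, R, s, t, c) be a groupoid scheme over S with U the spectrum of a field and R quasi-compact
(equivalently s, t quasi-compact), and let Z be the scheme-theoretic image of j = (t, s) : R -> U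
x_S U. Then (U, Z, pr_0|_Z, pr_1|_Z, pr_02) is a groupoid scheme over S; stated as: there are a
groupoid scheme G' over S and a morphism of groupoid schemes φ : (U, R, s, t, c) -> G' which is an
isomorphism on object schemes, such that j' : G'.R -> G'.U x_S G'.U is a closed immersion whose
kernel ideal sheaf equals the kernel ideal sheaf of j followed by the induced isomorphism U x_S U ->
G'.U x_S G'.U (so G'.R is the scheme-theoretic image of j, transported). (A groupoid scheme carries
U, R, s, t, c, e, i over S with the groupoid axioms on T-points; c is defined on the fibre product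
of s and t and sends a pair (a, b) with s(a) = t(b) to a composed with b.) -/
theorem result (S : Scheme.{u}) (G : Grpd.GroupoidScheme S) (k : Type u) [Field k] (eU : G.U ≅ Spec (CommRingCat.of k)) [CompactSpace G.R] : ∃ (G' : Grpd.GroupoidScheme S) (φ : Grpd.GroupoidScheme.Hom G G'), IsIso φ.fU ∧ IsClosedImmersion G'.j ∧ G'.j.ker = (G.j ≫ pullback.map G.pU G.pU G'.pU G'.pU φ.fU φ.fU (𝟙 S) ((Category.comp_id _).trans φ.fU_over.symm) ((Category.comp_id _).trans φ.fU_over.symm)).ker := by
  let a := Groth.Agent.GrpdSub.toPair G
  haveI : IsIso a.fU := inferInstanceAs (IsIso (𝟙 G.U))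
  haveI : IsAffine G.U := IsAffine.of_isIso eU.hom
  haveI : (pullback G.pU G.pU).IsSeparated := by
    constructor
    haveI : IsImmersion (pullback.mapDesc G.pU G.pU (terminal.from S)) := inferInstance
    have : terminal.from (pullback G.pU G.pU) =
        pullback.mapDesc G.pU G.pU (terminal.from S) ≫ pullback.fst _ _ ≫ terminal.from G.U := terminal.hom_ext _ _
    rw [this]
    infer_instance
  haveI : QuasiCompact G.j := by
    haveI : QuasiCompact (G.j ≫ terminal.from (pullback G.pU G.pU)) := by
      rw [terminal.comp_from]
      infer_instance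
    exact QuasiCompact.of_comp G.j (terminal.from (pullback G.pU G.pU))
  haveI : QuasiCompact a.fR := inferInstanceAs (QuasiCompact G.j)
  obtain ⟨c', e', i', hc, he, hi⟩ := Groth.Agent.GrpdSub.exists_sub_image
    (G := Groth.Agent.GrpdSub.pair G.pU) G a k eU
  let ζ := G.j.imageι
  let G' := Groth.Agent.GrpdSub.sub (Groth.Agent.GrpdSub.pair G.pU) ζ c' e' i' hc he hi
  have hj : G'.j = ζ := by
    refine pullback.hom_ext ?_ ?_
    · exact pullback.lift_fst _ _ _
    · exact pullback.lift_snd _ _ _
  refine ⟨G', Groth.Agent.GrpdSub.subLift (Groth.Agent.GrpdSub.pair G.pU) ζ c' e' i' hc he hi a G.j.toImage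
    (Scheme.Hom.toImage_imageι _), inferInstanceAs (IsIso (𝟙 G.U)), ?_, ?_⟩
  · rw [hj]
    exact inferInstanceAs (IsClosedImmersion ζ)
  · have hm : ∀ h₁ h₂, pullback.map G.pU G.pU G'.pU G'.pU (𝟙 G.U) (𝟙 G.U) (𝟙 S) h₁ h₂ = 𝟙 _ := fun h₁ h₂ => by
      refine pullback.hom_ext ?_ ?_
      · exact ((pullback.lift_fst _ _ _).trans (Category.comp_id _)).trans (Category.id_comp _).symm
      · exact ((pullback.lift_snd _ _ _).trans (Category.comp_id _)).trans (Category.id_comp _).symm
    rw [hj]
    show ζ.ker = (G.j ≫ pullback.map G.pU G.pU G'.pU G'.pU (𝟙 G.U) (𝟙 G.U) (𝟙 S) _ _).ker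
    rw [hm]
    exact (Scheme.IdealSheafData.ker_subschemeι G.j.ker).trans (congrArg Scheme.Hom.ker (Category.comp_id G.j).symm)

end Groth.Agent.S7509
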