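import Groth.Statements.S7513
import Groth.Agent.S0017
import Groth.Agent.S8877
import Groth.Agent.FittStrat.Rank
import Groth.Agent.H23.CoverPush
import Groth.Agent.SymX.FiniteProjective
import Groth.Agent.GrpdLib.Affine
import Groth.Prelude.Def_PicLoc

set_option autoImplicit false
universe u
open CategoryTheory CategoryTheory.Limits AlgebraicGeometry
open Grpd

namespace Groth.Agent.S7513

set_option backward.isDefEq.respectTransparency false
set_option backward.isDefEq.respectTransparency.types false

theorem injective_presheaf_map_eqToHom (X : Scheme.{u}) (A B : X.Opens) (h : A = B) :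
    Function.Injective (X.presheaf.map (eqToHom h).op) := by
  subst h
  rw [eqToHom_refl, op_id, X.presheaf.map_id]
  exact fun _ _ => id

theorem sheafIdeal_congr {X : Scheme.{u}} {M N : X.Modules} (hM : Coh.IsQCoh M) (hMt : CohB1.IsFT M)
    (hN : Coh.IsQCoh N) (hNt : CohB1.IsFT N) (e : M ≅ N) (r : ℕ) :
    Fitt.sheafIdeal M r = Fitt.sheafIdeal N r := by
  refine Scheme.IdealSheafData.ext (funext fun U => ?_)
  rw [FittX.sheafIdeal_ideal hM hMt, FittX.sheafIdeal_ideal hN hNt]
  haveI := QCoh.finite_of_isFT hM hMt U.2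
  let l : Γ(M, U.1) ≃ₗ[Γ(X, U.1)] Γ(N, U.1) :=
    { toFun := fun x => e.hom.app U.1 x
      invFun := fun x => e.inv.app U.1 x
      map_add' := fun x y => map_add _ x y
      map_smul' := fun c x => Scheme.Modules.Hom.app_smul e.hom c x
      left_inv := fun x => congrArg (fun f : M ⟶ M => f.app U.1 x) e.hom_inv_id
      right_inv := fun x => congrArg (fun f : N ⟶ N => f.app U.1 x) e.inv_hom_id }
  exact FittX.ideal_congr l r

theorem exists_iso {S : Scheme.{u}} (G : Grpd.GroupoidScheme S) (I : G.U.IdealSheafData)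
    (h : I.comap G.s = I.comap G.t) :
    ∃ φ : pullback G.s I.subschemeι ≅ pullback G.t I.subschemeι,
      φ.hom ≫ pullback.fst G.t I.subschemeι = pullback.fst G.s I.subschemeι := by
  have hh : ∀ (J : G.R.IdealSheafData) (a : J.subscheme ≅ pullback G.t I.subschemeι),
      a.hom ≫ pullback.fst _ _ = J.subschemeι → J = I.comap G.s →
      ∃ φ : pullback G.s I.subschemeι ≅ pullback G.t I.subschemeι,
        φ.hom ≫ pullback.fst G.t I.subschemeι = pullback.fst G.s I.subschemeι := by
    rintro J a ha rfl
    refine ⟨(I.comapIso G.s).symm ≪≫ a, ?_⟩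
    rw [Iso.trans_hom, Category.assoc, ha, Iso.symm_hom, Scheme.IdealSheafData.comapIso_inv_subschemeι]
  exact hh _ (I.comapIso G.t) (I.comapIso_hom_fst G.t) h.symm

/-- Let (U, R, s, t, c) be a groupoid scheme over S with s and t finite. Then there are closed
subschemes U = Z_0 ⊇ Z_1 ⊇ Z_2 ⊇ ..., each invariant under R, (given by quasi-coherent ideal sheaves
I_0 = 0 ≤ I_1 ≤ I_2 ≤ ...) with empty intersection such that for every r the restriction of s over
the locally closed stratum Z_r minus Z_(r+1) (the open of the subscheme Z_r complementary to the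
support of Z_(r+1)) is finite locally free of rank r + 1. R-invariance of Z_r is expressed as an
isomorphism between the pullbacks of s and of t along Z_r -> U compatible with the maps to R;
'finite locally free of rank n' is finite, flat, locally of finite presentation with constant rank
n. (A groupoid scheme carries U, R, s, t, c, e, i over S with the groupoid axioms on T-points; c is
defined on the fibre product of s and t and sends a pair (a, b) with s(a) = t(b) to a composed with
b.) -/
theorem result (S : Scheme.{u}) (G : Grpd.GroupoidScheme S) [IsFinite G.s] [IsFinite G.t] : ∃ Z : ℕ → G.U.IdealSheafData, Z 0 = ⊥ ∧ Monotone Z ∧ (⋂ r, ((Z r).support : Set G.U)) = ∅ ∧ (∀ r, ∃ φ : pullback G.s (Z r).subschemeι ≅ pullback G.t (Z r).subschemeι, φ.hom ≫ pullback.fst G.t (Z r).subschemeι = pullback.fst G.s (Z r).subschemeι) ∧ ∀ r, Mor2.IsFinLocFreeOfDeg (r + 1) (pullback.snd G.s (((Z r).subschemeι ⁻¹ᵁ (Z (r + 1)).support.compl).ι ≫ (Z r).subschemeι)) := by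
  let M : G.U.Modules := (Scheme.Modules.pushforward G.s).obj (Coh.structureModule G.R)
  have hM : Coh.IsQCoh M := QCoh.isQCoh_pushforward G.s QCoh.isQCoh_structureModule
  have hft : CohB1.IsFT M := SymX.isFT_pushforward_of_isFinite G.s QCoh.isQCoh_structureModule
  haveI : Coh.IsQCoh (Coh.structureModule G.R) := QCoh.isQCoh_structureModule
  let Z : ℕ → G.U.IdealSheafData := fun r => Fitt.sheafIdeal M r
  have h0 : Z 0 = ⊥ := by
    refine le_bot_iff.1 fun U => ?_
    show (Fitt.sheafIdeal M 0).ideal U ≤ _
    rw [Scheme.IdealSheafData.ideal_bot, FittX.sheafIdeal_ideal hM hft]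
    haveI := QCoh.finite_of_isFT hM hft U.2
    refine FittX.ideal_annihilator.trans fun a ha => ?_
    have h1 : G.s.app U.1 a = 0 := by
      have := Module.mem_annihilator.1 ha (show Γ(M, U.1) from (1 : Γ(G.R, G.s ⁻¹ᵁ U.1)))
      exact (mul_one _).symm.trans this
    have h2 : (G.e ≫ G.s).app U.1 a = 0 := by
      rw [Scheme.Hom.comp_app, CommRingCat.comp_apply, h1, map_zero]
    rw [Scheme.Hom.congr_app G.e_s U.1, Scheme.Hom.id_app] at h2
    simp only [CommRingCat.comp_apply, CommRingCat.id_apply] at h2
    show a = 0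
    exact (map_eq_zero_iff _ (injective_presheaf_map_eqToHom G.U _ _ _)).1 h2
  have hinv : ∀ r, (Z r).comap G.s = (Z r).comap G.t := by
    intro r
    obtain ⟨e⟩ := S0017.result G.s G.s G.c (pullback.snd G.s G.t) (GrpdLib.isPullback_snd_c G).flip
      (Coh.structureModule G.R)
    obtain ⟨e'⟩ := S0017.result G.s G.t (pullback.fst G.s G.t) (pullback.snd G.s G.t)
      (IsPullback.of_hasPullback G.s G.t) (Coh.structureModule G.R)
    show (Fitt.sheafIdeal M r).comap _ = (Fitt.sheafIdeal M r).comap _
    rw [FittX.sheafIdeal_comap G.s hM hft r, FittX.sheafIdeal_comap G.t hM hft r]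
    exact sheafIdeal_congr (QCoh.isQCoh_pullback G.s hM) (FittX.isFT_pullback G.s hM hft)
      (QCoh.isQCoh_pullback G.t hM) (FittX.isFT_pullback G.t hM hft)
      (e ≪≫ (Scheme.Modules.pushforward _).mapIso
        (PicLoc.pullbackStructureIso G.c ≪≫ (PicLoc.pullbackStructureIso (pullback.fst G.s G.t)).symm) ≪≫ e'.symm) r
  refine ⟨Z, h0, fun a b h => FittStrat.sheafIdeal_mono hM hft h, ?_, fun r => exists_iso G (Z r) (hinv r), fun r => ?_⟩
  · refine Set.eq_empty_of_forall_notMem fun x hx => ?_
    obtain ⟨r, hr⟩ := S8877.result G.U M hM hft x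
    exact hr (Set.mem_iInter.1 hx r)
  · let g := FittStrat.pieceι (Z r) (Z (r + 1))
    show Mor2.IsFinLocFreeOfDeg (r + 1) (pullback.snd G.s g)
    have hg := (FittStrat.exists_factor_iff (Z r) (Z (r + 1)) g).1 ⟨𝟙 _, Category.id_comp _⟩
    refine (H23.CoverPush.isCover_iff (pullback.snd G.s g)).2 ⟨inferInstance, ?_⟩
    obtain ⟨e⟩ := S0017.result G.s g (pullback.fst G.s g) (pullback.snd G.s g)
      (IsPullback.of_hasPullback G.s g) (Coh.structureModule G.R)
    let φ := e ≪≫ (Scheme.Modules.pushforward _).mapIso (PicLoc.pullbackStructureIso (pullback.fst G.s g))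
    have hN : Coh.IsQCoh ((Scheme.Modules.pushforward (pullback.snd G.s g)).obj (Coh.structureModule _)) :=
      QCoh.isQCoh_pushforward _ QCoh.isQCoh_structureModule
    have hNft := SymX.isFT_pushforward_of_isFinite (pullback.snd G.s g) QCoh.isQCoh_structureModule
    rw [FittStrat.isFinLocFreeOfRank_iff_two hN hNft (r + 1)]
    have hk : ∀ k, Fitt.sheafIdeal ((Scheme.Modules.pushforward (pullback.snd G.s g)).obj (Coh.structureModule _)) k =
        (Z k).comap g := fun k => by
      rw [FittX.sheafIdeal_comap g hM hft k]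
      exact (sheafIdeal_congr (QCoh.isQCoh_pullback g hM) (FittX.isFT_pullback g hM hft) hN hNft φ k).symm
    rw [hk, hk, Nat.add_sub_cancel]
    exact ⟨fun _ => hg.1, hg.2⟩

end Groth.Agent.S7513
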