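import Groth.Statements.S7601
import Groth.Agent.S9413
import Groth.Agent.CycEtLib.Normal
-- import your own Groth.Agent.* helpers here

set_option autoImplicit false
set_option backward.isDefEq.respectTransparency false
set_option backward.isDefEq.respectTransparency.types false
set_option linter.style.haveILetI false
set_option maxHeartbeats 1000000
universe u
open CategoryTheory CategoryTheory.Limits AlgebraicGeometry
open Variety

namespace Groth.Agent.S7601
open Groth.Agent

/-- Let X be a geometrically normal scheme over a field k (X_K is a normal scheme for every extension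
field K of k) and Y a normal scheme over k. Then X ×_k Y is a normal scheme. -/
theorem result (k : Type u) [Field k] (X : Scheme.{u}) [X.Over (Spec (CommRingCat.of k))] (Y : Scheme.{u}) [Y.Over (Spec (CommRingCat.of k))]
    (hX : ∀ (K : Type u) [Field K] [Algebra k K], Pi1.IsNormalScheme (Curv2.bc k X K)) (hY : Pi1.IsNormalScheme Y) :
    Pi1.IsNormalScheme (pullback (X ↘ (Spec (CommRingCat.of k))) (Y ↘ (Spec (CommRingCat.of k)))) := by
  have hspec : ∀ (R : Type u) [CommRing R], EGA4.IsNormalRing R → Pi1.IsNormalScheme (Spec (CommRingCat.of R)) := by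
    intro R _ hR z
    let St := (Spec (CommRingCat.of R)).presheaf.stalk z
    letI : Algebra R St := StructureSheaf.stalkAlgebra R z
    haveI : IsLocalization.AtPrime St z.asIdeal := StructureSheaf.IsLocalization.to_stalk R z
    let e : St ≃+* Localization.AtPrime z.asIdeal :=
      (IsLocalization.algEquiv z.asIdeal.primeCompl St (Localization.AtPrime z.asIdeal)).toRingEquiv
    obtain ⟨hd, hn⟩ := hR z.asIdeal
    haveI := hd
    haveI := hn
    exact ⟨e.toMulEquiv.isDomain _, IsIntegrallyClosed.of_equiv e.symm⟩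
  have himm : ∀ {P Q : Scheme.{u}} (j : P ⟶ Q) [IsOpenImmersion j] (p : P),
      (IsDomain (Q.presheaf.stalk (j p)) ∧ IsIntegrallyClosed (Q.presheaf.stalk (j p))) ↔
        (IsDomain (P.presheaf.stalk p) ∧ IsIntegrallyClosed (P.presheaf.stalk p)) := by
    intro P Q j _ p
    let e := (asIso (j.stalkMap p)).commRingCatIsoToRingEquiv
    constructor
    · rintro ⟨hd, hn⟩
      haveI := hd
      haveI := hn
      exact ⟨e.symm.toMulEquiv.isDomain _, IsIntegrallyClosed.of_equiv e⟩
    · rintro ⟨hd, hn⟩
      haveI := hd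
      haveI := hn
      exact ⟨e.toMulEquiv.isDomain _, IsIntegrallyClosed.of_equiv e.symm⟩
  let f := X ↘ Spec (CommRingCat.of k)
  let g := Y ↘ Spec (CommRingCat.of k)
  intro p
  obtain ⟨_, ⟨U, hU, rfl⟩, hpU, -⟩ := X.isBasis_affineOpens.exists_subset_of_mem_open
    (Set.mem_univ (pullback.fst f g p)) isOpen_univ
  obtain ⟨_, ⟨V, hV, rfl⟩, hpV, -⟩ := Y.isBasis_affineOpens.exists_subset_of_mem_open
    (Set.mem_univ (pullback.snd f g p)) isOpen_univ
  let φ : CommRingCat.of k ⟶ Γ(X, U) := Spec.preimage (hU.fromSpec ≫ f)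
  let ψ : CommRingCat.of k ⟶ Γ(Y, V) := Spec.preimage (hV.fromSpec ≫ g)
  letI : Algebra k Γ(X, U) := φ.hom.toAlgebra
  letI : Algebra k Γ(Y, V) := ψ.hom.toAlgebra
  have hφ : Spec.map (CommRingCat.ofHom (algebraMap k Γ(X, U))) = hU.fromSpec ≫ f := Spec.map_preimage _
  have hψ : Spec.map (CommRingCat.ofHom (algebraMap k Γ(Y, V))) = hV.fromSpec ≫ g := Spec.map_preimage _
  let j := pullback.map (Spec.map (CommRingCat.ofHom (algebraMap k Γ(X, U))))
    (Spec.map (CommRingCat.ofHom (algebraMap k Γ(Y, V)))) f g hU.fromSpec hV.fromSpec (𝟙 _)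
    (by rw [hφ, Category.comp_id]) (by rw [hψ, Category.comp_id])
  haveI : IsOpenImmersion j := inferInstance
  have hp : p ∈ Set.range j := by
    rw [Scheme.Pullback.range_map]
    exact ⟨(IsAffineOpen.range_fromSpec hU).symm.subset hpU, (IsAffineOpen.range_fromSpec hV).symm.subset hpV⟩
  obtain ⟨q, rfl⟩ := hp
  refine (himm j q).2 ?_
  have hA : EGA4.IsGeomNormal k Γ(X, U) := by
    intro K _ _ _
    let jK := pullback.map (Spec.map (CommRingCat.ofHom (algebraMap k Γ(X, U))))
      (Spec.map (CommRingCat.ofHom (algebraMap k K))) f (Spec.map (CommRingCat.ofHom (algebraMap k K)))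
      hU.fromSpec (𝟙 _) (𝟙 _) (by rw [hφ, Category.comp_id]) (by simp)
    haveI : IsOpenImmersion jK := inferInstance
    let i₁ := pullbackSpecIso k Γ(X, U) K
    let i₂ : Spec (CommRingCat.of (TensorProduct k K Γ(X, U))) ⟶ Spec (CommRingCat.of (TensorProduct k Γ(X, U) K)) :=
      Spec.map (CommRingCat.ofHom (Algebra.TensorProduct.comm k Γ(X, U) K).toRingEquiv.toRingHom)
    haveI : IsIso i₂ :=
      inferInstanceAs (IsIso (Scheme.Spec.map (Algebra.TensorProduct.comm k Γ(X, U) K).toRingEquiv.toCommRingCatIso.hom.op))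
    let J := i₂ ≫ i₁.inv ≫ jK
    haveI : IsOpenImmersion J := inferInstance
    have hN : Pi1.IsNormalScheme (Spec (CommRingCat.of (TensorProduct k K Γ(X, U)))) :=
      fun z => (himm J z).1 (hX K (J z))
    intro P hP
    let St := (Spec (CommRingCat.of (TensorProduct k K Γ(X, U)))).presheaf.stalk ⟨P, hP⟩
    letI : Algebra (TensorProduct k K Γ(X, U)) St := StructureSheaf.stalkAlgebra _ _
    haveI : IsLocalization.AtPrime St P := StructureSheaf.IsLocalization.to_stalk (TensorProduct k K Γ(X, U)) ⟨P, hP⟩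
    let e : St ≃+* Localization.AtPrime P :=
      (IsLocalization.algEquiv P.primeCompl St (Localization.AtPrime P)).toRingEquiv
    obtain ⟨hd, hn⟩ := hN ⟨P, hP⟩
    exact ⟨e.symm.toMulEquiv.isDomain _, IsIntegrallyClosed.of_equiv e⟩
  have hB : EGA4.IsNormalRing Γ(Y, V) := Groth.Agent.CycEtLib.isNormalRing_sections hY hV
  have hT := hspec _ (Groth.Agent.S9413.result k Γ(X, U) Γ(Y, V) hA hB)
  exact (himm (pullbackSpecIso k Γ(X, U) Γ(Y, V)).hom q).1 (hT _)

end Groth.Agent.S7601
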