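import Groth.Statements.S7602
import Groth.Agent.GeomNormalInsep.Scheme

set_option autoImplicit false
universe u
open CategoryTheory CategoryTheory.Limits AlgebraicGeometry
open Variety
open scoped TensorProduct

set_option backward.isDefEq.respectTransparency false
set_option backward.isDefEq.respectTransparency.types false
attribute [local instance] Curv2.stalkAlgebra

namespace Groth.Agent.S7602

/-- Let X be a normal scheme over a field k and K an extension field of k which is separable over k in
the sense that Spec K → Spec k is geometrically reduced (K ⊗_k k' reduced for every field k' over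
k). Then X_K is a normal scheme. -/
theorem result (k : Type u) [Field k] (X : Scheme.{u}) [X.Over (Spec (CommRingCat.of k))] (hX : Pi1.IsNormalScheme X)
    (K : Type u) [Field K] [Algebra k K] [GeometricallyReduced (Spec.map (CommRingCat.ofHom (algebraMap k K)))] :
    Pi1.IsNormalScheme (Curv2.bc k X K) := by
  haveI : Algebra.IsGeometricallyReduced k K := by
    haveI : AlgebraicGeometry.IsReduced (pullback (Spec.map (CommRingCat.ofHom (algebraMap k K)))
        (Spec.map (CommRingCat.ofHom (algebraMap k (AlgebraicClosure k))))) :=
      pullback_of_geometrically GeometricallyReduced.geometrically_isReduced (AlgebraicClosure k) _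
    haveI : AlgebraicGeometry.IsReduced (Spec (CommRingCat.of (K ⊗[k] AlgebraicClosure k))) :=
      isReduced_of_isOpenImmersion (pullbackSpecIso k K (AlgebraicClosure k)).inv
    haveI : _root_.IsReduced (K ⊗[k] AlgebraicClosure k) :=
      (affine_isReduced_iff (CommRingCat.of (K ⊗[k] AlgebraicClosure k))).mp inferInstance
    rw [Algebra.isGeometricallyReduced_field_iff]
    exact isReduced_of_injective (Algebra.TensorProduct.comm k (AlgebraicClosure k) K).toRingEquiv
      (Algebra.TensorProduct.comm k (AlgebraicClosure k) K).toRingEquiv.injective
  refine Groth.Agent.GeomNormalInsep.isNormalScheme_bc K fun x => ?_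
  refine Groth.Agent.S2690.result k ↥(X.presheaf.stalk x) K (fun p _ => ?_)
  obtain ⟨_, _⟩ := hX x
  exact ⟨IsLocalization.isDomain_localization (Ideal.primeCompl_le_nonZeroDivisors p),
    isIntegrallyClosed_of_isLocalization _ p.primeCompl (Ideal.primeCompl_le_nonZeroDivisors _)⟩

end Groth.Agent.S7602
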