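import Groth.Statements.S7605
import Groth.Agent.S2492
import Groth.Agent.S6276

set_option autoImplicit false
universe u
open CategoryTheory CategoryTheory.Limits AlgebraicGeometry
open Variety TensorProduct

namespace Groth.Agent.S7605

/-- For a scheme X over a field k and a finitely generated field extension k' of k, local Noetherianity
of X is equivalent to local Noetherianity of its base change X_{k'}. -/
theorem result (k : Type u) [Field k] (X : Scheme.{u}) [X.Over (Spec (CommRingCat.of k))] (k' : Type u) [Field k'] [Algebra k k']
    (hfg : (⊤ : IntermediateField k k').FG) :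
    IsLocallyNoetherian X ↔ IsLocallyNoetherian (Curv2.bc k X k') := by
  haveI : Surjective (Spec.map (CommRingCat.ofHom (algebraMap k k'))) :=
    ⟨fun x => ⟨default, Subsingleton.elim _ _⟩⟩
  haveI : Flat (Spec.map (CommRingCat.ofHom (algebraMap k k'))) := by
    rw [HasRingHomProperty.Spec_iff (P := @Flat)]
    exact RingHom.flat_algebraMap_iff.mpr inferInstance
  constructor
  · intro hX
    let q := Spec.map (CommRingCat.ofHom (algebraMap k k'))
    let p := X ↘ Spec (CommRingCat.of k)
    suffices key : ∀ (A : CommRingCat.{u}) (φ : CommRingCat.of k ⟶ A), IsNoetherianRing A →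
        IsLocallyNoetherian (Limits.pullback (Spec.map φ) q) by
      refine (isLocallyNoetherian_iff_openCover
        (Scheme.Pullback.openCoverOfLeft X.affineCover p q)).2 fun (i : X.affineCover.I₀) => ?_
      obtain ⟨φ, hφ⟩ := Spec.map_surjective (X.affineCover.f i ≫ p)
      have := key _ φ (isLocallyNoetherian_Spec.1
        ((isLocallyNoetherian_iff_openCover X.affineCover).1 hX i))
      rwa [hφ] at this
    intro A φ hA
    algebraize [φ.hom]
    haveI : Algebra.EssFiniteType k k' := IntermediateField.fg_top_iff.1 hfg
    haveI : IsNoetherianRing (A ⊗[k] k') := Algebra.EssFiniteType.isNoetherianRing A _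
    exact isLocallyNoetherian_of_isOpenImmersion (pullbackSpecIso k A k').hom
  · intro h
    exact Groth.Agent.S2492.result (Curv2.bcFst k X k')

end Groth.Agent.S7605
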