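import Groth.Statements.S7607
import Groth.Agent.BCPoint.Basic
import Groth.Agent.FlatLoc6.GeomProp
import Groth.Agent.RegLoc6.Descent

set_option autoImplicit false
universe u
open CategoryTheory CategoryTheory.Limits AlgebraicGeometry
open Variety

set_option backward.isDefEq.respectTransparency false

namespace Groth.Agent.S7607

/-- (2) ⇒ (1): let X be a scheme over a field k, k' a finitely generated field extension of k and x' a
point of X_{k'} with image x in X. If X_{k'} is geometrically regular at x' over k', then X is
geometrically regular at x over k. (The published setting defines geometric regularity only for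
locally Noetherian schemes; this row allows any scheme X over k.) -/
theorem result (k : Type u) [Field k] (X : Scheme.{u}) [X.Over (Spec (CommRingCat.of k))] (k' : Type u) [Field k'] [Algebra k k'] (hfg : (⊤ : IntermediateField k k').FG)
    (x' : ↥(Curv2.bc k X k'))
    (h : @Curv2.IsGeomRegularAt k' _ (Curv2.bc k X k') ⟨Curv2.bcSnd k X k'⟩ x') :
    Curv2.IsGeomRegularAt k X (Curv2.bcFst k X k' x') := by
  intro K _ _ hK y hy
  letI : (Curv2.bc k X k').Over (Spec (CommRingCat.of k')) := ⟨Curv2.bcSnd k X k'⟩
  obtain ⟨L, _, _, hL, x'', g, hx'', hgy, hflat⟩ := Groth.Agent.BCPoint.exists_common k X k' K x' y hy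
  haveI := h L (IntermediateField.fg_top_iff.2 (hL (IntermediateField.fg_top_iff.1 hK))) x'' hx''
  subst hgy
  letI := (g.stalkMap x'').hom.toAlgebra
  haveI : Module.FaithfullyFlat ((Curv2.bc k X K).presheaf.stalk (g x''))
      ((Curv2.bc k' (Curv2.bc k X k') L).presheaf.stalk x'') :=
    @Module.FaithfullyFlat.of_flat_of_isLocalHom _ _ _ _ _ _ _ hflat (g.toLRSHom.prop x'')
  haveI : IsNoetherianRing ((Curv2.bc k X K).presheaf.stalk (g x'')) :=
    Groth.Agent.FlatLoc6.isNoetherianRing_of_faithfullyFlat _ ((Curv2.bc k' (Curv2.bc k X k') L).presheaf.stalk x'')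
  exact Groth.Agent.RegLoc6.isRegularLocalRing_of_faithfullyFlat
    (B := ((Curv2.bc k' (Curv2.bc k X k') L).presheaf.stalk x''))

end Groth.Agent.S7607
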