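import Groth.Statements.S7611
import Groth.Agent.LargeFieldLib.Algebra
import Groth.Agent.GeomConn5.Point
-- import your own Groth.Agent.* helpers here

set_option autoImplicit false
set_option backward.isDefEq.respectTransparency false
set_option backward.isDefEq.respectTransparency.types false
set_option linter.style.haveILetI false
set_option maxHeartbeats 1000000
universe u
open CategoryTheory CategoryTheory.Limits AlgebraicGeometry
attribute [local instance] Curv2.resAlgebra
open Variety

namespace Groth.Agent.S7611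
open Groth.Agent

/-- Let X be a scheme over a field k. There is a cardinal κ such that for every extension field K of k
of cardinality at least κ, the base change X_K is a Jacobson scheme and for every closed point x of
X_K the residue field κ(x) is algebraic over K. -/
theorem result (k : Type u) [Field k] (X : Scheme.{u}) [X.Over (Spec (CommRingCat.of k))] :
    ∃ κ : Cardinal.{u}, ∀ (K : Type u) [Field K] [Algebra k K], κ ≤ Cardinal.mk K →
      JacobsonSpace ↥(Curv2.bc k X K) ∧
        ∀ x : ↥(Curv2.bc k X K), IsClosed ({x} : Set ↥(Curv2.bc k X K)) →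
          letI : (Curv2.bc k X K).Over (Spec (CommRingCat.of K)) := ⟨Curv2.bcSnd k X K⟩
          Algebra.IsAlgebraic K ((Curv2.bc k X K).residueField x) := by
  let 𝒰 := X.affineCover
  refine ⟨Order.succ (max Cardinal.aleph0 (Cardinal.mk (Σ i : 𝒰.I₀, Γ(𝒰.X i, ⊤)))), fun K _ _ hK => ?_⟩
  have hK' : max Cardinal.aleph0 (Cardinal.mk (Σ i : 𝒰.I₀, Γ(𝒰.X i, ⊤))) < Cardinal.mk K :=
    Order.succ_le_iff.mp hK
  let g := Spec.map (CommRingCat.ofHom (algebraMap k K))
  let 𝒱 := Scheme.Pullback.openCoverOfLeft 𝒰 (X ↘ Spec (CommRingCat.of k)) g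
  have key : ∀ i : 𝒰.I₀, ∃ (R : Type u) (_ : CommRing R) (_ : Algebra K R) (ι : Spec (CommRingCat.of R) ⟶ Curv2.bc k X K),
      IsOpenImmersion ι ∧ Set.range ι = Set.range (𝒱.f i) ∧
      ι ≫ Curv2.bcSnd k X K = Spec.map (CommRingCat.ofHom (algebraMap K R)) ∧
      Module.rank K R < Cardinal.mk K := by
    intro i
    haveI : IsAffine (𝒰.X i) := inferInstance
    let A := Γ(𝒰.X i, ⊤)
    let e : Spec A ≅ 𝒰.X i := (𝒰.X i).isoSpec.symm
    let φ : CommRingCat.of k ⟶ A := Spec.preimage (e.hom ≫ 𝒰.f i ≫ (X ↘ Spec (CommRingCat.of k)))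
    letI : Algebra k A := φ.hom.toAlgebra
    have hφ : Spec.map (CommRingCat.ofHom (algebraMap k A)) = e.hom ≫ 𝒰.f i ≫ (X ↘ Spec (CommRingCat.of k)) :=
      Spec.map_preimage _
    let m : Limits.pullback (Spec.map (CommRingCat.ofHom (algebraMap k K))) (Spec.map (CommRingCat.ofHom (algebraMap k A))) ≅
        Limits.pullback (𝒰.f i ≫ (X ↘ Spec (CommRingCat.of k))) g :=
      (pullbackSymmetry _ _) ≪≫ asIso (Limits.pullback.map _ _ _ _ e.hom (𝟙 _) (𝟙 _)
        (by rw [Category.comp_id, hφ]) (by simp [g]))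
    let e' := (pullbackSpecIso k K A).symm ≪≫ m
    refine ⟨TensorProduct k K A, inferInstance, inferInstance, e'.hom ≫ 𝒱.f i, inferInstance, ?_, ?_, ?_⟩
    · rw [Scheme.Hom.comp_base, TopCat.coe_comp, Set.range_comp, Set.range_eq_univ.mpr e'.hom.surjective, Set.image_univ]; rfl
    · have h1 : 𝒱.f i ≫ Curv2.bcSnd k X K = Limits.pullback.snd (𝒰.f i ≫ (X ↘ Spec (CommRingCat.of k))) g := by
        simp [𝒱, Curv2.bcSnd, g, Scheme.Pullback.openCoverOfLeft]
      rw [Category.assoc, h1]
      simp only [e', m, Iso.trans_hom, Iso.symm_hom, asIso_hom, Category.assoc, Limits.pullback.lift_snd,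
        pullbackSymmetry_hom_comp_snd, Category.comp_id]
      exact pullbackSpecIso_inv_fst' k K A
    · rw [Module.rank_baseChange]
      simp only [Cardinal.lift_id]
      refine ((rank_le_card k A).trans ((Cardinal.mk_le_of_injective (f := fun a : A => (⟨i, a⟩ : Σ j, Γ(𝒰.X j, ⊤)))
        (fun a b h => sigma_mk_injective (i := i) h)).trans (le_max_right _ _))).trans_lt hK'
  have h0 : Cardinal.aleph0 < Cardinal.mk K := (le_max_left _ _).trans_lt hK'
  have key2 : ∀ x : Curv2.bc k X K, ∃ (R : Type u) (_ : CommRing R) (_ : Algebra K R) (ι : Spec (CommRingCat.of R) ⟶ Curv2.bc k X K),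
      IsOpenImmersion ι ∧ x ∈ Set.range ι ∧
      ι ≫ Curv2.bcSnd k X K = Spec.map (CommRingCat.ofHom (algebraMap K R)) ∧
      Module.rank K R < Cardinal.mk K := by
    intro x
    obtain ⟨R, _, _, ι, h1, h2, h3, h4⟩ := key (𝒱.idx x)
    exact ⟨R, _, _, ι, h1, h2 ▸ 𝒱.covers x, h3, h4⟩
  refine ⟨?_, fun x hx => ?_⟩
  · haveI : ∀ i, JacobsonSpace ↥(𝒱.f i).opensRange := by
      intro i
      obtain ⟨R, _, _, ι, h1, h2, h3, h4⟩ := key i
      haveI := LargeFieldLib.isJacobsonRing_of_rank_lt (K := K) R h0 h4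
      haveI : IsOpenImmersion ι := h1
      have e : ↥(Spec (CommRingCat.of R)) ≃ₜ ↥(𝒱.f i).opensRange :=
        ι.isOpenEmbedding.toIsEmbedding.toHomeomorph.trans (Homeomorph.setCongr h2)
      exact JacobsonSpace.of_isOpenEmbedding e.symm.isOpenEmbedding
    exact (TopologicalSpace.IsOpenCover.jacobsonSpace_iff 𝒱.isOpenCover_opensRange).mpr this
  · letI : (Curv2.bc k X K).Over (Spec (CommRingCat.of K)) := ⟨Curv2.bcSnd k X K⟩
    show Algebra.IsAlgebraic K ((Curv2.bc k X K).residueField x)
    obtain ⟨R, _, _, ι, h1, ⟨y, hy⟩, h3, h4⟩ := key2 x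
    subst hy
    haveI : IsOpenImmersion ι := h1
    have hyc : IsClosed ({y} : Set (Spec (CommRingCat.of R))) := by
      have := hx.preimage ι.continuous
      rwa [show (ι ⁻¹' {ι y}) = {y} from by ext z; simp [ι.isOpenEmbedding.injective.eq_iff]] at this
    haveI := isClosed_singleton_iff_isClosedImmersion.mp hyc
    let q := Spec.preimage ((Spec (CommRingCat.of R)).fromSpecResidueField y)
    have hq : Spec.map q = (Spec (CommRingCat.of R)).fromSpecResidueField y := Spec.map_preimage _
    have hqs : Function.Surjective q.hom := by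
      haveI : IsClosedImmersion (Spec.map q) := hq ▸ ‹_›
      have h5 := (IsClosedImmersion.isAffine_surjective_of_isAffine (Spec.map q)).2
      have h6 : q = (Scheme.ΓSpecIso _).inv ≫ (Spec.map q).appTop ≫ (Scheme.ΓSpecIso _).hom := by
        rw [Scheme.ΓSpecIso_naturality, Iso.inv_hom_id_assoc]
      rw [h6, CommRingCat.hom_comp, CommRingCat.hom_comp, RingHom.coe_comp, RingHom.coe_comp]
      exact ((ConcreteCategory.bijective_of_isIso _).2.comp h5).comp (ConcreteCategory.bijective_of_isIso _).2
    have hcomp : CommRingCat.ofHom (Curv2.resMap K (Curv2.bc k X K) (ι y)) ≫ ι.residueFieldMap y =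
        CommRingCat.ofHom (algebraMap K R) ≫ q := by
      apply Spec.map_injective
      rw [Spec.map_comp, Spec.map_comp, hq, ← h3, ← GeomConn5.spec_resMap,
        Scheme.Hom.SpecMap_residueFieldMap_fromSpecResidueField_assoc]
      rfl
    let f : (Curv2.bc k X K).residueField (ι y) ≃+* (Spec (CommRingCat.of R)).residueField y :=
      (asIso (ι.residueFieldMap y)).commRingCatIsoToRingEquiv
    let l : R →ₐ[K] (Curv2.bc k X K).residueField (ι y) :=
      { toRingHom := f.symm.toRingHom.comp q.hom
        commutes' := fun c => by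
          show f.symm (q.hom (algebraMap K R c)) = _
          rw [RingEquiv.symm_apply_eq]
          exact (congr($(hcomp).hom c)).symm }
    exact LargeFieldLib.isAlgebraic_of_rank_lt _
      ((LinearMap.rank_le_of_surjective l.toLinearMap (f.symm.surjective.comp hqs)).trans_lt h4)

end Groth.Agent.S7611
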