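import Groth.Statements.S7613
import Groth.Agent.S1540
import Groth.Agent.S1543
import Groth.Agent.S1628
import Groth.Agent.SmoothReg.Scheme
import Groth.Agent.RegLoc6.Normal
-- import your own Groth.Agent.* helpers here

set_option autoImplicit false
set_option backward.isDefEq.respectTransparency false
set_option backward.isDefEq.respectTransparency.types false
set_option linter.style.haveILetI false
set_option maxHeartbeats 1000000
universe u
open CategoryTheory CategoryTheory.Limits AlgebraicGeometry
open Variety

namespace Groth.Agent.S7613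
open Groth.Agent

/-- Let X be a variety over a field k (integral, separated and of finite type over k) with a k-rational
point x (k → κ(x) onto) such that X → Spec k is smooth at x. Then every base change of X to an
extension field of k is an integral scheme (X is geometrically integral over k). -/
theorem result (k : Type u) [Field k] (X : Scheme.{u}) [X.Over (Spec (CommRingCat.of k))] [IsIntegral X] [IsSeparated (X ↘ (Spec (CommRingCat.of k)))]
    [LocallyOfFiniteType (X ↘ (Spec (CommRingCat.of k)))] [QuasiCompact (X ↘ (Spec (CommRingCat.of k)))]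
    (x : ↥X) (hx : Function.Surjective (Curv2.resMap k X x)) (hsm : x ∈ (X ↘ (Spec (CommRingCat.of k))).smoothLocus) :
    GeometricallyIntegral (X ↘ (Spec (CommRingCat.of k))) := by
  let f := X ↘ Spec (CommRingCat.of k)
  haveI : IsNoetherian X := { toIsLocallyNoetherian := LocallyOfFiniteType.isLocallyNoetherian f, toCompactSpace := QuasiCompact.compactSpace_of_compactSpace f }
  haveI : IsNoetherianRing (CommRingCat.of k) := inferInstanceAs (IsNoetherianRing k)
  haveI : LocallyOfFinitePresentation f := inferInstance
  haveI : IsRegularLocalRing (X.presheaf.stalk x) := SmoothReg.isRegularLocalRing_stalk_of_mem_smoothLocus f hsm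
  let η := genericPoint X
  have hη : η ∈ f.smoothLocus := (genericPoint_specializes x).mem_open f.smoothLocus.2 hsm
  have hred : GeometricallyReduced f := by
    refine S1543.result k X fun Z hZ ξ hξ => ?_
    have hξη : ξ = η := hξ.eq (by
      rw [irreducibleComponents_eq_singleton, Set.mem_singleton_iff] at hZ
      exact hZ ▸ genericPoint_spec X)
    subst hξη
    intro K _ _ x' hx'
    let g := Curv2.bcFst k X K
    haveI : Smooth (f.smoothLocus.ι ≫ f) :=
      (Scheme.Hom.smoothLocus_eq_top_iff).mp (by
        rw [← Scheme.Hom.preimage_smoothLocus_eq]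
        exact top_le_iff.mp fun z _ => z.2)
    haveI : Smooth ((g ⁻¹ᵁ f.smoothLocus).ι ≫ Curv2.bcSnd k X K) :=
      MorphismProperty.of_isPullback
        ((isPullback_morphismRestrict g f.smoothLocus).paste_vert (IsPullback.of_hasPullback f _)) inferInstance
    have hx : x' ∈ g ⁻¹ᵁ f.smoothLocus := show g x' ∈ f.smoothLocus from hx'.symm ▸ hη
    haveI := SmoothReg.isRegularLocalRing_stalk_of_mem_smoothLocus
      ((g ⁻¹ᵁ f.smoothLocus).ι ≫ Curv2.bcSnd k X K) (x := ⟨x', hx⟩) ((Scheme.Hom.smoothLocus_eq_top _).ge trivial)
    haveI := RegLoc6.isDomain_of_isRegularLocalRing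
      (((g ⁻¹ᵁ f.smoothLocus : (Curv2.bc k X K).Opens) : Scheme.{u}).presheaf.stalk ⟨x', hx⟩)
    exact isReduced_of_injective
      (asIso ((g ⁻¹ᵁ f.smoothLocus).ι.stalkMap ⟨x', hx⟩)).commRingCatIsoToRingEquiv.toRingHom
      (asIso ((g ⁻¹ᵁ f.smoothLocus).ι.stalkMap ⟨x', hx⟩)).commRingCatIsoToRingEquiv.injective
  haveI := RegLoc6.isDomain_of_isRegularLocalRing (X.presheaf.stalk x)
  haveI := RegLoc6.isIntegrallyClosed_of_isRegularLocalRing (X.presheaf.stalk x)
  have hirr : GeometricallyIrreducible f := by
    rw [S1540.result k X]
    intro a ha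
    letI := Curv2.stalkAlgebra k X x
    letI : Algebra k X.functionField := Curv2.stalkAlgebra k X η
    letI := Curv2.resAlgebra k X η
    haveI : IsScalarTower k (X.presheaf.stalk x) X.functionField := IsScalarTower.of_algebraMap_eq fun c =>
      (TopCat.Presheaf.germ_stalkSpecializes_apply X.presheaf (U := ⊤) (y := x) (trivial : x ∈ (⊤ : X.Opens))
        (genericPoint_specializes x) (Coh.toGlobal f c)).symm
    obtain ⟨a', rfl⟩ := Scheme.residue_surjective X η a
    have hinj : Function.Injective (X.residue η).hom := by
      letI : Field (X.presheaf.stalk η) := inferInstanceAs (Field X.functionField)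
      exact RingHom.injective _
    have hint : _root_.IsIntegral k (a' : X.functionField) := by
      obtain ⟨P, hP, hP0⟩ := ha.isIntegral
      refine ⟨P, hP, hinj ?_⟩
      rw [map_zero, Polynomial.hom_eval₂]
      exact hP0
    obtain ⟨b, hb⟩ := IsIntegrallyClosed.isIntegral_iff.mp (hint.tower_top (A := X.presheaf.stalk x))
    obtain ⟨c, hc⟩ := hx (X.residue x b)
    let d : X.presheaf.stalk x := b - algebraMap k _ c
    have hd : _root_.IsIntegral k (algebraMap (X.presheaf.stalk x) X.functionField d) := by
      rw [map_sub, hb, ← IsScalarTower.algebraMap_apply]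
      exact hint.sub isIntegral_algebraMap
    by_cases hd0 : d = 0
    · refine ⟨c, ?_⟩
      show X.residue η (algebraMap k X.functionField c) = X.residue η a'
      rw [IsScalarTower.algebraMap_apply k (X.presheaf.stalk x) X.functionField, ← sub_eq_zero.mp hd0, hb]
    · exfalso
      have hne : algebraMap (X.presheaf.stalk x) X.functionField d ≠ 0 := by
        rwa [ne_eq, IsFractionRing.to_map_eq_zero_iff]
      obtain ⟨e, he⟩ := IsIntegrallyClosed.isIntegral_iff.mp ((hd.inv).tower_top (A := X.presheaf.stalk x))
      have hu : IsUnit d := IsUnit.of_mul_eq_one e (IsFractionRing.injective (X.presheaf.stalk x) X.functionField (by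
        rw [map_mul, he, mul_inv_cancel₀ hne, map_one]))
      have hdm : X.residue x d = 0 := by
        show X.residue x (b - algebraMap k _ c) = 0
        rw [map_sub]
        exact sub_eq_zero.mpr hc.symm
      exact not_isUnit_zero (hdm ▸ hu.map (X.residue x).hom)
  refine ⟨fun K _ y Z fst snd h => ?_⟩
  haveI : IrreducibleSpace Z := hirr.geometrically_irreducibleSpace y fst snd h
  haveI : AlgebraicGeometry.IsReduced Z := hred.geometrically_isReduced y fst snd h
  exact isIntegral_of_irreducibleSpace_of_isReduced Z

end Groth.Agent.S7613
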