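import Groth.Statements.S7619
-- import your own Groth.Agent.* helpers here

set_option autoImplicit false
set_option backward.isDefEq.respectTransparency false
set_option backward.isDefEq.respectTransparency.types false
set_option linter.style.haveILetI false
set_option maxHeartbeats 1000000
universe u
open CategoryTheory CategoryTheory.Limits AlgebraicGeometry
open scoped TensorProduct
open Variety

namespace Groth.Agent.S7619
open Groth.Agent

/-- Let A → B be a finite type ring map (a finite type morphism of affine schemes), q a prime of B and r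
= dim_{κ(q)} Ω_{B/A} ⊗_B κ(q). Then there is an A-algebra homomorphism A[x_1, …, x_r] → B for which
B is unramified over A[x_1, …, x_r] at q. -/
theorem result (A B : Type u) [CommRing A] [CommRing B] [Algebra A B] [Algebra.FiniteType A B]
    (q : Ideal B) [q.IsPrime] (r : ℕ) (hr : Module.finrank q.ResidueField (q.ResidueField ⊗[B] Ω[B⁄A]) = r) :
    ∃ φ : MvPolynomial (Fin r) A →ₐ[A] B,
      letI := φ.toRingHom.toAlgebra
      Algebra.IsUnramifiedAt (MvPolynomial (Fin r) A) q := by
  classical
  let K := q.ResidueField
  let V := K ⊗[B] Ω[B⁄A]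
  let v : B → V := fun b => (1 : K) ⊗ₜ[B] KaehlerDifferential.D A B b
  have hspan : Submodule.span K (Set.range v) = ⊤ := by
    refine top_le_iff.mp ?_
    rintro z -
    induction z using TensorProduct.induction_on with
    | zero => exact zero_mem _
    | add a b ha hb => exact add_mem ha hb
    | tmul c ω =>
      have hω : ω ∈ Submodule.span B (Set.range (KaehlerDifferential.D A B)) := by
        rw [KaehlerDifferential.span_range_derivation]; trivial
      rw [show c ⊗ₜ[B] ω = c • ((1 : K) ⊗ₜ[B] ω) by rw [TensorProduct.smul_tmul', smul_eq_mul, mul_one]]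
      refine Submodule.smul_mem _ _ ?_
      induction hω using Submodule.span_induction with
      | mem x hx => obtain ⟨b, rfl⟩ := hx; exact Submodule.subset_span ⟨b, rfl⟩
      | zero => rw [TensorProduct.tmul_zero]; exact zero_mem _
      | add x y _ _ hx hy => rw [TensorProduct.tmul_add]; exact add_mem hx hy
      | smul b x _ hx =>
        rw [TensorProduct.tmul_smul, ← IsScalarTower.algebraMap_smul K b]
        exact Submodule.smul_mem _ _ hx
  haveI : Algebra.EssFiniteType A B := inferInstance
  haveI : Module.Finite K V := inferInstance
  obtain ⟨t, hts, hsp, hli⟩ := exists_linearIndependent K (Set.range v)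
  let bas : Module.Basis t K V := Module.Basis.mk hli (by rw [Subtype.range_coe, hsp, hspan])
  haveI : Fintype t := FiniteDimensional.fintypeBasisIndex bas
  have hcard : Fintype.card t = r := by rw [← Module.finrank_eq_card_basis bas]; exact hr
  let e : t ≃ Fin r := Fintype.equivFinOfCardEq hcard
  choose g hg using fun i : Fin r => hts (e.symm i).2
  let φ : MvPolynomial (Fin r) A →ₐ[A] B := MvPolynomial.aeval g
  refine ⟨φ, ?_⟩
  let P := MvPolynomial (Fin r) A
  letI : Algebra P B := φ.toRingHom.toAlgebra
  haveI : IsScalarTower A P B := IsScalarTower.of_algebraMap_eq fun a => (φ.commutes a).symm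
  haveI : Algebra.FiniteType P B := Algebra.FiniteType.of_restrictScalars_finiteType A P B
  haveI : Algebra.EssFiniteType P B := inferInstance
  let μ : Ω[B⁄A] →ₗ[B] Ω[B⁄P] := KaehlerDifferential.map A P B B
  have hμ : Function.Surjective μ := KaehlerDifferential.map_surjective A P B
  have h0 : ∀ z : V, LinearMap.baseChange K μ z = 0 := by
    intro z
    have hz : z ∈ Submodule.span K t := by rw [hsp, hspan]; trivial
    induction hz using Submodule.span_induction with
    | mem x hx =>
      obtain ⟨i, rfl⟩ : ∃ i, v (g i) = x := ⟨e ⟨x, hx⟩, by rw [hg, e.symm_apply_apply]⟩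
      show (1 : K) ⊗ₜ[B] μ (KaehlerDifferential.D A B (g i)) = 0
      rw [KaehlerDifferential.map_D]
      rw [show algebraMap B B (g i) = algebraMap P B (MvPolynomial.X i) from (MvPolynomial.aeval_X g i).symm,
        Derivation.map_algebraMap, TensorProduct.tmul_zero]
    | zero => exact map_zero _
    | add x y _ _ hx hy => rw [map_add, hx, hy, add_zero]
    | smul c x _ hx => rw [map_smul, hx, smul_zero]
  have hsub : Subsingleton (K ⊗[B] Ω[B⁄P]) := by
    refine subsingleton_of_forall_eq 0 fun w => ?_
    obtain ⟨z, rfl⟩ := LinearMap.lTensor_surjective K hμ w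
    exact h0 z
  show (⟨q, inferInstance⟩ : PrimeSpectrum B) ∈ Algebra.unramifiedLocus P B
  rw [Algebra.unramifiedLocus_eq_compl_support, Set.mem_compl_iff,
    Module.mem_support_iff_nontrivial_residueField_tensorProduct]
  exact fun h => false_of_nontrivial_of_subsingleton (K ⊗[B] Ω[B⁄P])

end Groth.Agent.S7619
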