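import Groth.Statements.S7622
import Mathlib
import Groth.Agent.S2452
import Groth.Agent.S0543
import Groth.Agent.PSLib.Regular

set_option autoImplicit false
universe u
open CategoryTheory CategoryTheory.Limits AlgebraicGeometry
open Variety

namespace Groth.Agent.S7622

/-- Let A be a Noetherian local algebra over a field k (such as the local ring of a locally Noetherian
k-scheme at a point) whose residue field κ is a separable extension of k, meaning geometrically
reduced over k; κ need not be algebraic over k. Then there are n ≥ 0, an ideal I of κ[[x_1, …, x_n]]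
and a k-algebra isomorphism e from κ[[x_1, …, x_n]]/I onto the completion A^∧ of A at its maximal
ideal which induces the identity on residue fields: for every a in A, the value of e on the constant
power series whose value is the residue class of a is congruent to the image of a modulo the
extended maximal ideal of A^∧. -/
theorem result (k A : Type u) [Field k] [CommRing A] [Algebra k A]
    [IsNoetherianRing A] [IsLocalRing A] [Algebra.IsGeometricallyReduced k (IsLocalRing.ResidueField A)] :
    ∃ (n : ℕ) (I : Ideal (MvPowerSeries (Fin n) (IsLocalRing.ResidueField A)))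
      (e : (MvPowerSeries (Fin n) (IsLocalRing.ResidueField A) ⧸ I) ≃ₐ[k]
        AdicCompletion (IsLocalRing.maximalIdeal A) A),
      ∀ a : A, e (Ideal.Quotient.mk I (MvPowerSeries.C (IsLocalRing.residue A a))) -
          algebraMap A (AdicCompletion (IsLocalRing.maximalIdeal A) A) a ∈
        (IsLocalRing.maximalIdeal A).map (algebraMap A (AdicCompletion (IsLocalRing.maximalIdeal A) A)) := by
  classical
  set R := AdicCompletion (IsLocalRing.maximalIdeal A) A
  haveI : IsNoetherianRing R := S0543.result A _
  let resMap : IsLocalRing.ResidueField A →ₐ[k] IsLocalRing.ResidueField R :=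
    { IsLocalRing.ResidueField.map (algebraMap A R) with
      commutes' := fun c => by
        show IsLocalRing.ResidueField.map (algebraMap A R) (algebraMap k _ c) = _
        rw [IsScalarTower.algebraMap_apply k A (IsLocalRing.ResidueField A),
          show algebraMap A (IsLocalRing.ResidueField A) (algebraMap k A c) = IsLocalRing.residue A (algebraMap k A c) from rfl,
          IsLocalRing.ResidueField.map_residue, ← IsScalarTower.algebraMap_apply k A R]
        rfl }
  have hbij : Function.Bijective resMap := AdicCompletion.residueField_map_bijective A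
  let eres : IsLocalRing.ResidueField A ≃ₐ[k] IsLocalRing.ResidueField R := AlgEquiv.ofBijective resMap hbij
  haveI : Algebra.IsGeometricallyReduced k (IsLocalRing.ResidueField R) :=
    Algebra.IsGeometricallyReduced.of_injective eres.symm.toAlgHom eres.symm.injective
  obtain ⟨σ, hσ⟩ := S2452.result (k := k) (A := R)
  let τ : IsLocalRing.ResidueField A →ₐ[k] R := σ.comp eres.toAlgHom
  have hτ : ∀ a : A, IsLocalRing.residue R (τ (IsLocalRing.residue A a)) = IsLocalRing.residue R (algebraMap A R a) :=
    fun a => by
      show IsLocalRing.residue R (σ (resMap (IsLocalRing.residue A a))) = _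
      rw [hσ]
      exact IsLocalRing.ResidueField.map_residue _ _
  letI : Algebra (IsLocalRing.ResidueField A) R := τ.toRingHom.toAlgebra
  haveI : IsScalarTower k (IsLocalRing.ResidueField A) R := IsScalarTower.of_algebraMap_eq fun c => (τ.commutes c).symm
  obtain ⟨s, hs⟩ := IsNoetherian.noetherian (IsLocalRing.maximalIdeal R)
  let b : Fin s.card → R := fun i => (s.equivFin.symm i : R)
  have hrange : Set.range b = (s : Set R) := by
    ext x
    constructor
    · rintro ⟨i, rfl⟩; exact (s.equivFin.symm i).2
    · intro hx; exact ⟨s.equivFin ⟨x, hx⟩, by simp [b]⟩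
  have hb : ∀ i, b i ∈ IsLocalRing.maximalIdeal R := fun i =>
    hs ▸ Submodule.subset_span (hrange ▸ Set.mem_range_self i)
  obtain ⟨ψ, hψ⟩ := PSLib.exists_algHom (R := IsLocalRing.ResidueField A) (IsLocalRing.maximalIdeal R) b hb
  have hres : Function.Surjective ((IsLocalRing.residue R).comp (algebraMap (IsLocalRing.ResidueField A) R)) := fun y => by
    obtain ⟨x, rfl⟩ := hbij.2 y
    exact ⟨x, hσ (resMap x)⟩
  have hsurj : Function.Surjective ψ := PSLib.surjective_of_span hres ψ (fun i => hψ i ▸ hb i) (by
    refine le_trans ?_ le_sup_left
    simp only [hψ]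
    rw [hrange]
    exact hs.ge)
  let e := (Ideal.quotientKerAlgEquivOfSurjective hsurj).restrictScalars k
  refine ⟨s.card, RingHom.ker ψ, e, fun a => ?_⟩
  rw [← AdicCompletion.maximalIdeal_eq_map, ← Ideal.Quotient.eq]
  show IsLocalRing.residue R (e (Ideal.Quotient.mk _ (MvPowerSeries.C (IsLocalRing.residue A a)))) = IsLocalRing.residue R (algebraMap A R a)
  rw [← hτ]
  congr 1
  show ψ (algebraMap (IsLocalRing.ResidueField A) _ (IsLocalRing.residue A a)) = _
  exact ψ.commutes _

end Groth.Agent.S7622
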