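import Groth.Statements.S7624
import Groth.Agent.FlatMisc.ValuationDim
import Groth.Agent.FibDim.Basic
-- import your own Groth.Agent.* helpers here

set_option autoImplicit false
set_option backward.isDefEq.respectTransparency false
set_option backward.isDefEq.respectTransparency.types false
set_option linter.style.haveILetI false
set_option maxHeartbeats 1000000
universe u
open CategoryTheory CategoryTheory.Limits AlgebraicGeometry
open Variety

namespace Groth.Agent.S7624
open Groth.Agent

/-- Let R be a valuation ring, X an irreducible scheme and f : X → Spec R a surjective morphism locally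
of finite type. Then each irreducible component of the fibre of f over the closed point of Spec R
has Krull dimension equal to that of the fibre of f over the generic point. -/
theorem result (R : Type u) [CommRing R] [IsDomain R] [ValuationRing R]
    (X : Scheme.{u}) [IrreducibleSpace ↥X] (f : X ⟶ Spec (CommRingCat.of R)) [LocallyOfFiniteType f] [Surjective f]
    (Z : Set ↥(f.fiber (IsLocalRing.closedPoint R))) (hZ : Z ∈ irreducibleComponents ↥(f.fiber (IsLocalRing.closedPoint R))) :
    topologicalKrullDim ↥Z = topologicalKrullDim ↥(f.fiber (⟨⊥, Ideal.bot_prime⟩ : PrimeSpectrum R)) := by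
  haveI : Nonempty ↥(f.fiber (IsLocalRing.closedPoint R)) := ⟨(f.surjective (IsLocalRing.closedPoint R)).choose_spec ▸ f.asFiber _⟩
  let O : Spec (CommRingCat.of R) := (⟨⊥, Ideal.bot_prime⟩ : PrimeSpectrum R)
  have hO : ∀ y : Spec (CommRingCat.of R), O ⤳ y := fun y =>
    (PrimeSpectrum.le_iff_specializes (⟨⊥, Ideal.bot_prime⟩ : PrimeSpectrum R) (y : PrimeSpectrum R)).mp bot_le
  let η : X := genericPoint X
  have hη : ∀ x : X, η ⤳ x := fun x => (genericPoint_spec X).specializes (Set.mem_univ x)
  have hfη : f η = O := by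
    obtain ⟨z, hz⟩ := f.surjective O
    exact (((hη z).map f.continuous).trans (hz ▸ specializes_refl _)).antisymm (hO _) |>.eq
  obtain ⟨ξ, hξ, hξmax⟩ := FDescent.exists_maximal_of_mem_irreducibleComponents hZ
  let x : X := f.fiberι _ ξ
  have hfx : f x = IsLocalRing.closedPoint R := FibDim.fiber_apply_fiberι f ξ
  have hxmax : FibDim.FibMax f x := (FibDim.fibMax_fiberι_iff f ξ).2 fun w hw => hξmax w hw
  have key : FibDim.rd f x = FibDim.rd f η := by
    obtain ⟨U, hU, hxU, -⟩ := exists_isAffineOpen_mem_and_subset (x := x) (U := ⊤) trivial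
    obtain ⟨Q, hQ⟩ := VarDim.exists_fromSpec_eq hU ((hη x).mem_open U.isOpen hxU)
    let S : CommRingCat.{u} := CommRingCat.of (Γ(X, U) ⧸ Q.asIdeal)
    let j : Spec S ⟶ X := Spec.map (CommRingCat.ofHom (Ideal.Quotient.mk Q.asIdeal)) ≫ hU.fromSpec
    haveI : IsClosedImmersion (Spec.map (CommRingCat.ofHom (Ideal.Quotient.mk Q.asIdeal))) :=
      IsClosedImmersion.spec_of_surjective _ Ideal.Quotient.mk_surjective
    haveI : IsPreimmersion j := inferInstance
    haveI : LocallyOfFiniteType j := inferInstance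
    have hj0 : ∀ w, FibDim.rd (j ≫ f) w = FibDim.rd f (j w) := fun w => by
      have h0 : (FibDim.rd j w : Cardinal) = 0 := (FibDim.rd_eq_rdeg j w).trans (VarDim.rdeg_preimmersion j w)
      rw [FibDim.rd_comp, show FibDim.rd j w = 0 by exact_mod_cast h0, add_zero]
    let ζ : Spec S := (⟨⊥, Ideal.isPrime_bot⟩ : PrimeSpectrum (Γ(X, U) ⧸ Q.asIdeal))
    have hζ : j ζ = η := by
      rw [← hQ]
      show hU.fromSpec _ = _
      congr 1
      exact PrimeSpectrum.ext (Ideal.mk_ker : Ideal.comap (Ideal.Quotient.mk Q.asIdeal) ⊥ = Q.asIdeal)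
    obtain ⟨w, hw⟩ : x ∈ Set.range j := by
      obtain ⟨P, hP⟩ := VarDim.exists_fromSpec_eq hU hxU
      have hQP : Q ≤ P := (VarDim.fromSpec_specializes_iff hU Q P).1 (by rw [hP, hQ]; exact hη x)
      let P' : Spec S := (⟨P.asIdeal.map (Ideal.Quotient.mk Q.asIdeal),
        Ideal.map_isPrime_of_surjective Ideal.Quotient.mk_surjective (Ideal.mk_ker.le.trans hQP)⟩ :
          PrimeSpectrum (Γ(X, U) ⧸ Q.asIdeal))
      refine ⟨P', ?_⟩
      rw [← hP]
      show hU.fromSpec _ = _
      congr 1
      exact PrimeSpectrum.ext ((Ideal.comap_map_of_surjective _ Ideal.Quotient.mk_surjective _).trans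
        (sup_eq_left.2 (Ideal.mk_ker.le.trans hQP)))
    obtain ⟨φ, hφ⟩ := Spec.map_surjective (j ≫ f)
    letI : Algebra R S := φ.hom.toAlgebra
    haveI : LocallyOfFiniteType (Spec.map φ) := by rw [hφ]; infer_instance
    haveI : Algebra.FiniteType R S := (HasRingHomProperty.Spec_iff (P := @LocallyOfFiniteType) (φ := φ)).mp inferInstance
    have hker : ∀ r : R, φ.hom r = 0 → r = 0 := fun r hr => by
      have h1 : (Spec.map φ) ζ = O := by
        rw [hφ, Scheme.Hom.comp_apply, hζ, hfη]
      have h2 := congrArg (fun p : PrimeSpectrum R => p.asIdeal) h1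
      have h3 : r ∈ Ideal.comap φ.hom (⊥ : Ideal (Γ(X, U) ⧸ Q.asIdeal)) := hr
      exact h2.le h3
    haveI : IsDomain S := inferInstanceAs (IsDomain (Γ(X, U) ⧸ Q.asIdeal))
    haveI : Module.Flat R S := by
      rw [Module.Flat.flat_iff_torsion_eq_bot_of_isBezout, eq_bot_iff]
      rintro s ⟨⟨c, hc⟩, hcs⟩
      rw [Submonoid.smul_def, Algebra.smul_def, mul_eq_zero] at hcs
      exact hcs.resolve_left fun h => nonZeroDivisors.ne_zero hc (hker _ h)
    haveI := FlatMisc.ValuationFP.algebra_finitePresentation (R := R) (A := S)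
    haveI : Flat (Spec.map φ) := HasRingHomProperty.Spec_iff.2 (RingHom.flat_algebraMap_iff.2 (inferInstanceAs (Module.Flat R S)))
    haveI : LocallyOfFinitePresentation (Spec.map φ) := HasRingHomProperty.Spec_iff.2
      (RingHom.finitePresentation_algebraMap.2 (inferInstanceAs (Algebra.FinitePresentation R S)))
    have hζw : ∀ z : Spec S, ζ ⤳ z := fun z =>
      (PrimeSpectrum.le_iff_specializes (⟨⊥, Ideal.isPrime_bot⟩ : PrimeSpectrum (Γ(X, U) ⧸ Q.asIdeal))
        (z : PrimeSpectrum (Γ(X, U) ⧸ Q.asIdeal))).mp bot_le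
    have hw' : FibDim.FibMax (Spec.map φ) w := fun z hz hzf =>
      j.isEmbedding.injective (hw.symm ▸ hxmax (j z) (hw ▸ hz.map j.continuous)
        (by rw [← hw]; exact (congrArg (fun g : Spec S ⟶ _ => g z = g w) hφ).mp hzf))
    have hζ' : FibDim.FibMax (Spec.map φ) ζ :=
      FibDim.fibMax_of_maximal _ fun z hz => (hz.antisymm (hζw z)).eq
    have h1 := Triage.FibMaxFlat.fibreDimAt_eq_of_specializes (Spec.map φ) (hζw w) hw'
    rw [FibDim.fibreDimAt_eq_rd _ hw', FibDim.fibreDimAt_eq_rd _ hζ'] at h1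
    have h2 : FibDim.rd (Spec.map φ) ζ = FibDim.rd (Spec.map φ) w := by exact_mod_cast h1
    rw [← hw, ← hζ, ← hj0, ← hj0]
    simp only [← hφ]
    exact h2.symm
  have hL : topologicalKrullDim ↥Z = ((FibDim.rd f x : ℕ∞) : WithBot ℕ∞) := by
    rw [← FibDim.dim_closure_inter_fibre f x]
    have himg : f.fiberι _ '' Z = closure {x} ∩ f ⁻¹' {f x} := by
      rw [hξ]
      ext y
      constructor
      · rintro ⟨z, hz, rfl⟩
        exact ⟨specializes_iff_mem_closure.1 ((specializes_iff_mem_closure.2 hz).map (f.fiberι _).continuous),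
          (FibDim.fiber_apply_fiberι f z).trans hfx.symm⟩
      · rintro ⟨hy, hfy⟩
        obtain ⟨z, rfl⟩ : y ∈ Set.range (f.fiberι (IsLocalRing.closedPoint R)) := by
          rw [Scheme.Hom.range_fiberι]; exact hfy.trans hfx
        exact ⟨z, specializes_iff_mem_closure.1 ((f.fiberι _).isEmbedding.isInducing.specializes_iff.1
          (specializes_iff_mem_closure.2 hy)), rfl⟩
    exact (((f.fiberι _).isEmbedding.homeomorphImage Z).trans (Homeomorph.setCongr himg)).isHomeomorph.topologicalKrullDim_eq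
  have hR : topologicalKrullDim ↥(f.fiber O) = ((FibDim.rd f η : ℕ∞) : WithBot ℕ∞) := by
    rw [← FibDim.dim_closure_inter_fibre f η, (f.fiberHomeo O).isHomeomorph.topologicalKrullDim_eq]
    have : f ⁻¹' {O} = closure {η} ∩ f ⁻¹' {f η} := by
      rw [hfη, (genericPoint_spec X).def, Set.univ_inter]
    exact (Homeomorph.setCongr this).isHomeomorph.topologicalKrullDim_eq
  rw [hL, key]
  exact hR.symm

end Groth.Agent.S7624
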