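import Groth.Statements.S7630
import Groth.Agent.ASBunLib.AmpleField
import Groth.Agent.AmpleX.RelAffine
-- import your own Groth.Agent.* helpers here

set_option autoImplicit false
set_option backward.isDefEq.respectTransparency false
set_option backward.isDefEq.respectTransparency.types false
set_option linter.style.haveILetI false
set_option maxHeartbeats 1000000
universe u
open CategoryTheory CategoryTheory.Limits AlgebraicGeometry
open Variety

namespace Groth.Agent.S7630
open Groth.Agent

/-- Let X be a scheme over a field k and K an extension field of k. If X_K → Spec K is quasi-projective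
(of finite type and admitting a relatively ample invertible module), then so is X → Spec k. -/
theorem result (k : Type u) [Field k] (X : Scheme.{u}) [X.Over (Spec (CommRingCat.of k))] (K : Type u) [Field K] [Algebra k K]
    (h : RelProj.IsQuasiProjective (Curv2.bcSnd k X K)) : RelProj.IsQuasiProjective (X ↘ (Spec (CommRingCat.of k))) := by
  obtain ⟨hft, hqc, L', hL'⟩ := h
  haveI := hqc
  have hamp : CohB1.IsAmple L' := (Groth.Agent.AmpleX.isRelAmple_iff_isAmple (Curv2.bcSnd k X K) L').1 hL'
  haveI := Groth.Agent.ASBunLib.AmpleField.compactSpace_of_ample (f := X ↘ Spec (CommRingCat.of k)) L' hamp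
  obtain ⟨L, hL⟩ := Groth.Agent.ASBunLib.AmpleField.exists_isAmple (f := X ↘ Spec (CommRingCat.of k)) L' hamp
  haveI : QuasiCompact (X ↘ Spec (CommRingCat.of k)) := (quasiCompact_iff_compactSpace _).2 inferInstance
  refine ⟨?_, inferInstance, L, (Groth.Agent.AmpleX.isRelAmple_iff_isAmple _ L).2 hL⟩
  refine MorphismProperty.of_pullback_snd_of_descendsAlong (P := @LocallyOfFiniteType)
    (Q := (@Surjective ⊓ @Flat ⊓ @QuasiCompact : MorphismProperty Scheme.{u}))
    (g := Spec.map (CommRingCat.ofHom (algebraMap k K))) ⟨⟨Groth.Agent.ASBunLib.AmpleField.surjective_specMap, ?_⟩, ?_⟩ hft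
  · exact (HasRingHomProperty.Spec_iff (P := @Flat)).2 (RingHom.flat_algebraMap_iff.2 inferInstance)
  · exact inferInstance

end Groth.Agent.S7630
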