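import Groth.Statements.S7634
import Groth.Agent.S7619
import Groth.Agent.GrassX.PolySmooth
-- import your own Groth.Agent.* helpers here

set_option autoImplicit false
set_option backward.isDefEq.respectTransparency false
set_option backward.isDefEq.respectTransparency.types false
set_option linter.style.haveILetI false
set_option maxHeartbeats 1000000
universe u
open CategoryTheory CategoryTheory.Limits AlgebraicGeometry
open scoped TensorProduct
open Variety

namespace Groth.Agent.S7634
open Groth.Agent

/-- Let A → B be a finite type ring map, q a prime of B and r = dim_{κ(q)} Ω_{B/A} ⊗_B κ(q). Then there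
are g in B with g not in q, an A-algebra D which is standard smooth of relative dimension r over A,
and a surjective A-algebra homomorphism D → B[1/g]; that is, the principal open D(g) containing q is
a closed subscheme of Spec D with D smooth of relative dimension r over A. (The published statement
is for a morphism X → S locally of finite type, a point x and an affine open V ⊆ S under it, and
gives an affine open neighbourhood of x with a closed immersion over V into a scheme smooth of
relative dimension r over V; this row states the case X = Spec B, S = Spec A, with the neighbourhood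
a principal open D(g) and the smooth scheme standard smooth.) -/
theorem result (A B : Type u) [CommRing A] [CommRing B] [Algebra A B] [Algebra.FiniteType A B]
    (q : Ideal B) [q.IsPrime] (r : ℕ) (hr : Module.finrank q.ResidueField (q.ResidueField ⊗[B] Ω[B⁄A]) = r) :
    ∃ g : B, g ∉ q ∧ ∃ (D : Type u) (_ : CommRing D) (_ : Algebra A D),
      Algebra.IsStandardSmoothOfRelativeDimension r A D ∧
        ∃ φ : D →ₐ[A] Localization.Away g, Function.Surjective φ := by
  obtain ⟨φ, hφ⟩ := S7619.result A B q r hr
  let P := MvPolynomial (Fin r) A
  letI : Algebra P B := φ.toRingHom.toAlgebra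
  haveI : IsScalarTower A P B := IsScalarTower.of_algebraMap_eq fun a => (φ.commutes a).symm
  haveI : Algebra.FiniteType P B := Algebra.FiniteType.of_restrictScalars_finiteType A P B
  haveI : Algebra.IsUnramifiedAt P q := hφ
  obtain ⟨g, hg, E, ψ, hψ⟩ := Algebra.IsUnramifiedAt.exists_hasStandardEtaleSurjectionOn (R := P) q
  haveI : Algebra.IsStandardSmoothOfRelativeDimension r A P := by
    let v : PEmpty.{1} → P := PEmpty.elim
    let P₀ := Algebra.PreSubmersivePresentation.naive (R := A) (v := v) PEmpty.elim (fun a => a.elim)
    let S₀ : Algebra.SubmersivePresentation A (P ⧸ Ideal.span (Set.range v)) (Fin r) PEmpty.{1} :=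
      { P₀ with jacobian_isUnit := by simp [Algebra.PreSubmersivePresentation.jacobian_eq_jacobiMatrix_det] }
    let e : (P ⧸ Ideal.span (Set.range v)) ≃ₐ[A] P :=
      (Ideal.quotientEquivAlgOfEq A (by rw [Set.range_eq_empty, Ideal.span_empty])).trans (AlgEquiv.quotientBot A _)
    exact ((S₀.ofAlgEquiv e)).isStandardSmoothOfRelativeDimension (n := r) (by
      simp [Algebra.Presentation.dimension])
  letI : Algebra A E.Ring := ((algebraMap P E.Ring).comp (algebraMap A P)).toAlgebra
  haveI : IsScalarTower A P E.Ring := IsScalarTower.of_algebraMap_eq fun _ => rfl
  haveI : Algebra.IsStandardSmoothOfRelativeDimension 0 P E.Ring :=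
    Algebra.Etale.iff_isStandardSmoothOfRelativeDimension_zero.1 inferInstance
  haveI : IsScalarTower A P (Localization.Away g) := IsScalarTower.of_algebraMap_eq fun a =>
    (IsScalarTower.algebraMap_apply A B (Localization.Away g) a).trans
      (congrArg (algebraMap B (Localization.Away g)) (IsScalarTower.algebraMap_apply A P B a))
  refine ⟨g, hg, E.Ring, inferInstance, inferInstance, ?_, ψ.restrictScalars A, hψ⟩
  have h := Algebra.IsStandardSmoothOfRelativeDimension.trans r 0 A P E.Ring
  simpa using h

end Groth.Agent.S7634
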