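import Groth.Statements.S7641
import Groth.Agent.IntNum.CurveAmple
import Groth.Agent.InvX.GenLocusPull
import Groth.Agent.Lib.CurveSpecial
import Groth.Agent.H23.TrivBasic
import Groth.Agent.CurveBC.Coh

set_option autoImplicit false
set_option backward.isDefEq.respectTransparency false
set_option backward.isDefEq.respectTransparency.types false
set_option linter.style.haveILetI false
universe u
open CategoryTheory CategoryTheory.Limits AlgebraicGeometry
open Variety

namespace Groth.Agent.S7641
open Groth.Agent

/-- Let X be proper over a field k, reduced and connected, with every irreducible component of dimension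
one, and let L be an invertible module whose restriction to each irreducible component C, with its
reduced induced structure, has degree at most zero. Then H^0(X, L) = 0 or L is isomorphic to O_X. -/
theorem result (k : Type u) [Field k] (X : Scheme.{u}) [X.Over (Spec (CommRingCat.of k))] [IsProper (X ↘ (Spec (CommRingCat.of k)))]
    [IsReduced X] [ConnectedSpace X] [IsNoetherian X]
    (hdim : ∀ (C : Set X), C ∈ irreducibleComponents (X : Type u) → topologicalKrullDim C = 1)
    (L : X.Modules) (hL : PicF.IsInvertible L)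
    (hdeg : ∀ (C : Set X) (hC : C ∈ irreducibleComponents (X : Type u)), @Curv2.deg k _ (X.irreducibleComponentIdeal C hC).radical.subscheme ⟨(X.irreducibleComponentIdeal C hC).radical.subschemeι ≫ (X ↘ (Spec (CommRingCat.of k)))⟩ ((Scheme.Modules.pullback (X.irreducibleComponentIdeal C hC).radical.subschemeι).obj L) 1 ≤ 0) :
    Subsingleton (Coh.HH X L 0) ∨ Nonempty (L ≅ Coh.structureModule X) := by
  classical
  by_cases hH : Subsingleton (Coh.HH X L 0)
  · exact Or.inl hH
  refine Or.inr ?_
  obtain ⟨t, ht⟩ : ∃ t : Coh.HH X L 0, t ≠ 0 := by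
    by_contra! h
    exact hH (subsingleton_of_forall_eq 0 h)
  let s : Coh.structureModule X ⟶ L := QCoh.homOfTop (Sheaf.H.equiv₀ (Coh.toAb L) isTerminalTop t)
  have hone : InvX.one s = (Sheaf.H.equiv₀ (Coh.toAb L) isTerminalTop t : Γ(L, ⊤)) := CurveSpecial.homOfClass_one t
  let W := CohB1.genLocus L s
  have hzero : ∀ {Y : Scheme.{u}} {M : Y.Modules}, CohB1.genLocus M (0 : Coh.structureModule Y ⟶ M) = ⊥ := by
    intro Y M
    refine le_bot_iff.1 fun y hy => ?_
    obtain ⟨U, hyU, hU⟩ := InvX.mem_genLocus hy
    have h10 : (1 : Γ(Y, U)) = 0 := hU.coord_unique le_rfl (by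
      rw [show InvX.one (0 : Coh.structureModule Y ⟶ M) = 0 from rfl, map_zero, map_zero, smul_zero, smul_zero])
    have : y ∈ Y.basicOpen (1 : Γ(Y, U)) := by rw [Y.basicOpen_of_isUnit isUnit_one]; exact hyU
    rw [h10, Scheme.basicOpen_zero] at this
    exact this
  have hW : (W : Set X).Nonempty := by
    by_contra hne
    refine ht ((Sheaf.H.equiv₀ (Coh.toAb L) isTerminalTop).injective ?_)
    rw [map_zero]
    refine hone.symm.trans (AModX.eq_of_locally _ _ fun p _ => ?_)
    obtain ⟨U, hpU, e, he⟩ := InvX.exists_frame hL p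
    refine ⟨U, le_top, hpU, ?_⟩
    obtain ⟨g, hg⟩ := he.exists_coord le_rfl (AModX.res L (le_top : U ≤ ⊤) (InvX.one s))
    rw [AModX.res_self] at hg
    have hb : X.basicOpen g = ⊥ := by
      rw [← InvX.genLocus_inf s he hg]
      exact le_bot_iff.1 fun x hx => hne ⟨x, hx.1⟩
    rw [basicOpen_eq_bot_iff] at hb
    rw [hg, hb, zero_smul]
    exact (map_zero _).symm
  have hC : ∀ C (hC : C ∈ irreducibleComponents (X : Type u)), (C ∩ (W : Set X)).Nonempty → C ⊆ (W : Set X) := by
    intro C hC hmeet
    let J := (X.irreducibleComponentIdeal C hC).radical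
    have hcl : closure ({hC.1.genericPoint} : Set X) = C :=
      hC.1.closure_genericPoint (isClosed_of_mem_irreducibleComponents C hC)
    have hI : IntNum.ptIdeal hC.1.genericPoint = J := by
      show _ = (X.irreducibleComponentIdeal C hC).radical
      rw [← Scheme.IdealSheafData.vanishingIdeal_support]
      unfold IntNum.ptIdeal
      congr 1
      exact TopologicalSpace.Closeds.ext hcl
    haveI : IsIntegral J.subscheme := hI ▸ QCoh.isIntegral_closure_point _
    have hr : Set.range J.subschemeι = C := by
      rw [← hI]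
      exact (IntNum.range_ptIdeal _).trans hcl
    letI : J.subscheme.Over (Spec (CommRingCat.of k)) := ⟨J.subschemeι ≫ (X ↘ Spec (CommRingCat.of k))⟩
    haveI : IsProper (J.subscheme ↘ Spec (CommRingCat.of k)) :=
      inferInstanceAs (IsProper (J.subschemeι ≫ (X ↘ Spec (CommRingCat.of k))))
    have hd : topologicalKrullDim J.subscheme = 1 := by
      rw [IsHomeomorph.topologicalKrullDim_eq _ J.subschemeι.isClosedEmbedding.isEmbedding.toHomeomorph.isHomeomorph, hr]
      exact hdim C hC
    let e := (CurveBC.unitIso J.subschemeι).symm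
    let s' := e.hom ≫ (Scheme.Modules.pullback J.subschemeι).map s
    have hloc := InvX.genLocus_pullback J.subschemeι hL s e
    have hs' : s' ≠ 0 := fun h0 => by
      obtain ⟨x, hxC, hxW⟩ := hmeet
      obtain ⟨z, rfl⟩ := hr.ge hxC
      have hz : z ∈ CohB1.genLocus ((Scheme.Modules.pullback J.subschemeι).obj L) s' := hloc.ge hxW
      rw [h0, hzero] at hz
      exact hz
    obtain ⟨h1, h2⟩ := CurveDeg.deg_le_and_isIso k hd.le CurveDeg.isInvertible_structureModule
      (PicClLib.isInvertible_pullback J.subschemeι hL) s' hs'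
    haveI : IsIso s' := h2 (le_antisymm h1 (by rw [CurveDeg.deg_structureModule]; exact hdeg C hC))
    intro x hx
    obtain ⟨z, rfl⟩ := hr.ge hx
    exact hloc.le (TopologicalSpace.Opens.mem_sSup.2 ⟨⊤, (show IsIso _ from inferInstance), trivial⟩)
  have hclosed : IsClosed (W : Set X) := by
    have : (W : Set X) = ⋃ C ∈ {C ∈ irreducibleComponents (X : Type u) | (C ∩ (W : Set X)).Nonempty}, C := by
      refine Set.Subset.antisymm (fun x hx => ?_) (Set.iUnion₂_subset fun C hC' => hC C hC'.1 hC'.2)
      exact Set.mem_iUnion₂.2 ⟨irreducibleComponent x,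
        ⟨irreducibleComponent_mem_irreducibleComponents x, x, mem_irreducibleComponent, hx⟩, mem_irreducibleComponent⟩
    rw [this]
    exact (TopologicalSpace.NoetherianSpace.finite_irreducibleComponents.subset fun C hC' => hC'.1).isClosed_biUnion
      fun C hC' => isClosed_of_mem_irreducibleComponents C hC'.1
  have htop : W = ⊤ := TopologicalSpace.Opens.ext
    ((IsClopen.eq_univ ⟨hclosed, W.isOpen⟩ hW).trans rfl)
  exact H23.TrivBasic.triv_of_frame (L := L) (e := InvX.one s) (H23.TrivBasic.isFrame_of_germwise fun x _ => by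
    obtain ⟨U, hxU, hU⟩ := InvX.mem_genLocus (htop.ge (trivial : x ∈ (⊤ : X.Opens)))
    exact ⟨U, le_top, hxU, hU⟩)

end Groth.Agent.S7641
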