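import Groth.Statements.S7642
import Groth.Agent.IntNum.CurveAmple

set_option autoImplicit false
universe u
open CategoryTheory CategoryTheory.Limits AlgebraicGeometry
open Variety

namespace Groth.Agent.S7642

/-- Let X be proper of dimension at most one over a field k and let L be an invertible module on X. Then
L is ample if and only if deg(L|_C) > 0 for every irreducible component C of X of dimension one, C
carrying its reduced induced structure. -/
theorem result (k : Type u) [Field k] (X : Scheme.{u}) [X.Over (Spec (CommRingCat.of k))] [IsProper (X ↘ (Spec (CommRingCat.of k)))] [IsNoetherian X]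
    (hdim : topologicalKrullDim X ≤ 1) (L : X.Modules) (hL : PicF.IsInvertible L) :
    CohB1.IsAmple L ↔ ∀ (C : Set X) (hC : C ∈ irreducibleComponents (X : Type u)),
      topologicalKrullDim C = 1 → 0 < @Curv2.deg k _ (X.irreducibleComponentIdeal C hC).radical.subscheme ⟨(X.irreducibleComponentIdeal C hC).radical.subschemeι ≫ (X ↘ (Spec (CommRingCat.of k)))⟩ ((Scheme.Modules.pullback (X.irreducibleComponentIdeal C hC).radical.subschemeι).obj L) 1 := by
  have hint : ∀ (C : Set X) (hC : C ∈ irreducibleComponents (X : Type u)),
      IsIntegral (X.irreducibleComponentIdeal C hC).radical.subscheme ∧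
        Set.range (X.irreducibleComponentIdeal C hC).radical.subschemeι = C := by
    intro C hC
    have hcl : closure ({hC.1.genericPoint} : Set X) = C :=
      hC.1.closure_genericPoint (isClosed_of_mem_irreducibleComponents C hC)
    have hsupp : ((X.irreducibleComponentIdeal C hC).support : Set X) = C := rfl
    have hI : Groth.Agent.IntNum.ptIdeal hC.1.genericPoint = (X.irreducibleComponentIdeal C hC).radical := by
      rw [← Scheme.IdealSheafData.vanishingIdeal_support]
      unfold Groth.Agent.IntNum.ptIdeal
      congr 1
      exact TopologicalSpace.Closeds.ext (hcl.trans hsupp.symm)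
    rw [← hI]
    exact ⟨Groth.Agent.QCoh.isIntegral_closure_point _, (Groth.Agent.IntNum.range_ptIdeal _).trans hcl⟩
  constructor
  · intro h C hC hd
    obtain ⟨hi, hr⟩ := hint C hC
    haveI := hi
    refine Groth.Agent.IntNum.deg_pos_of_isAmple k _ ?_ h
    rw [IsHomeomorph.topologicalKrullDim_eq _
      (X.irreducibleComponentIdeal C hC).radical.subschemeι.isClosedEmbedding.isEmbedding.toHomeomorph.isHomeomorph, hr, hd]
  · intro h
    refine Groth.Agent.IntNum.isAmple_of_deg_pos k hdim hL fun Z i _ _ hZ => ?_
    have hirr : IsIrreducible (Set.range i) := by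
      rw [← Set.image_univ]
      exact (IrreducibleSpace.isIrreducible_univ Z).image _ i.continuous.continuousOn
    obtain ⟨C, hC, hsub⟩ : ∃ C ∈ irreducibleComponents (X : Type u), Set.range i ⊆ C := by
      obtain ⟨C, h1, h2, h3⟩ := exists_preirreducible _ hirr.isPreirreducible
      exact ⟨C, ⟨⟨hirr.nonempty.mono h2, h1⟩, fun T hT hle => (h3 T hT.isPreirreducible hle).le⟩, h2⟩
    have hCdim : topologicalKrullDim C = 1 := by
      refine le_antisymm ((Groth.Agent.H23.TopDim.dim_le_dim_of_subset (Set.subset_univ C)).trans
        ((IsHomeomorph.topologicalKrullDim_eq _ (Homeomorph.Set.univ X).isHomeomorph).le.trans hdim)) ?_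
      rw [← hZ, IsHomeomorph.topologicalKrullDim_eq _ i.isClosedEmbedding.isEmbedding.toHomeomorph.isHomeomorph]
      exact Groth.Agent.H23.TopDim.dim_le_dim_of_subset hsub
    have hr : Set.range i = C := by
      by_contra hne
      haveI : IrreducibleSpace ↥C := isIrreducible_iff_irreducibleSpace.1 hC.1
      have hlt := Groth.Agent.H23.TopDim.dim_lt_of_ssubset (X := ↥C) (by rw [hCdim]; decide)
        (i.isClosedEmbedding.isClosed_range.preimage continuous_subtype_val)
        (fun h' => hne (hsub.antisymm fun x hx => (Set.eq_univ_iff_forall.1 h' ⟨x, hx⟩ : _)))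
      rw [hCdim] at hlt
      refine not_le_of_gt hlt ?_
      rw [← hZ]
      let g : Z → ↥((Subtype.val : ↥C → X) ⁻¹' Set.range i) := fun z => ⟨⟨i z, hsub ⟨z, rfl⟩⟩, ⟨z, rfl⟩⟩
      have hg : Topology.IsInducing ((Subtype.val ∘ Subtype.val : _ → X) ∘ g) := i.isClosedEmbedding.isEmbedding.isInducing
      exact ((Topology.IsInducing.subtypeVal.comp Topology.IsInducing.subtypeVal).of_comp_iff.1 hg).topologicalKrullDim_le
    obtain ⟨hi, hrC⟩ := hint C hC
    haveI := hi
    rw [Groth.Agent.IntNum.deg_pullback_congr k i _ (hr.trans hrC.symm) hL]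
    exact h C hC hCdim

end Groth.Agent.S7642
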