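import Groth.Statements.S7647
import Groth.Agent.IntNum.Main
import Groth.Agent.ParShLib.ResStalk
import Groth.Agent.Lib.CurveDeg

set_option autoImplicit false
set_option linter.style.haveILetI false
set_option backward.isDefEq.respectTransparency false
set_option backward.isDefEq.respectTransparency.types false
universe u
open CategoryTheory CategoryTheory.Limits AlgebraicGeometry
open Variety

namespace Groth.Agent.S7647

/-- Let X be proper over a field k, Z ⊆ X a closed subscheme of dimension ≤ 1 and L an invertible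
module. Then the intersection number (L · Z), i.e. the coefficient of n in the polynomial computing
χ(X, O_Z ⊗ L^{⊗n}), equals the degree of L|_Z on Z. -/
theorem result (k : Type u) [Field k] (X : Scheme.{u}) [X.Over (Spec (CommRingCat.of k))] [IsProper (X ↘ (Spec (CommRingCat.of k)))]
    (D : X.IdealSheafData) (hD : topologicalKrullDim (D.support : Set X) ≤ 1)
    (L : X.Modules) (hL : PicF.IsInvertible L) (P : MvPolynomial (Fin 1) ℚ)
    (hP : ∀ n : Fin 1 → ℕ, (Curv2.euler k X (Curv2.tensorPows (ClSub.quotMod D) 1 (fun _ => L) n) : ℚ) = MvPolynomial.eval (fun i => (n i : ℚ)) P) :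
    MvPolynomial.coeff (Finsupp.equivFunOnFinite.symm fun _ : Fin 1 => 1) P =
      (@Curv2.deg k _ D.subscheme ⟨D.subschemeι ≫ (X ↘ (Spec (CommRingCat.of k)))⟩
        ((Scheme.Modules.pullback D.subschemeι).obj L) 1 : ℚ) := by
  haveI := Groth.Agent.CurveCohLib.isNoetherian_of_proper (k := k) (X := X)
  have hq : Coh.IsCoh (ClSub.quotMod D) := Groth.Agent.ParShLib.isCoh_quotMod D
  have hsd : topologicalKrullDim ↥(CohB1.support (ClSub.quotMod D)) ≤ _ :=
    (Groth.Agent.H23.TopDim.dim_le_dim_of_subset fun x (hx : x ∈ CohB1.support (ClSub.quotMod D)) => by_contra fun h =>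
      hx (Groth.Agent.ParShLib.subsingleton_stalk_quotMod D h)).trans hD
  rw [Groth.Agent.IntNum.coeff_eq_alt k (L := fun _ => L) (fun _ => hL) hq hsd P hP]
  letI : D.subscheme.Over (Spec (CommRingCat.of k)) := ⟨D.subschemeι ≫ (X ↘ (Spec (CommRingCat.of k)))⟩
  rw [Groth.Agent.IntNum.deg_pullback_closed k D.subschemeι rfl (Groth.Agent.CurveDeg.isCoh_of_isInvertible hL).1 1]
  obtain ⟨u0⟩ : Nonempty (Curv2.tensorPows (ClSub.quotMod D) 1 (fun _ => L) (fun _ => 0) ≅ ClSub.quotMod D) := by
    simp only [Curv2.tensorPows, CohB1.tensorPow]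
    exact ⟨Groth.Agent.CurveTensor.commIso (ClSub.quotMod D) (Coh.structureModule X) ≪≫ Groth.Agent.CurveTensor.structureTensorIso (ClSub.quotMod D)⟩
  obtain ⟨u1⟩ : Nonempty (Curv2.tensorPows (ClSub.quotMod D) 1 (fun _ => L) (fun _ => 1) ≅
      CohB1.tensorMod (ClSub.quotMod D) L) := by
    simp only [Curv2.tensorPows, CohB1.tensorPow]
    exact ⟨PicGrp.tensorModIso (Iso.refl (ClSub.quotMod D)) (Groth.Agent.CurveTensor.structureTensorIso L)⟩
  rw [Groth.Agent.IntNum.alt_one]
  unfold Groth.Agent.Snapper.χs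
  rw [Groth.Agent.CurveCohLib.euler_congr (k := k) u0, Groth.Agent.CurveCohLib.euler_congr (k := k) u1,
    Nat.cast_one, one_mul, Int.cast_sub]

end Groth.Agent.S7647
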