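import Groth.Statements.S7648
import Groth.Agent.IntNum.Cons
import Groth.Agent.BlowUpX.Basic
import Groth.Agent.AlgSpLib.CartierDim
import Groth.Agent.Lib.CurvePoint
import Groth.Agent.Lib.CurveDeg

set_option autoImplicit false
universe u
open CategoryTheory CategoryTheory.Limits AlgebraicGeometry
open Variety

namespace Groth.Agent.S7648

/-- Let X be proper over a field k of dimension e + 1, let D ⊆ X be an effective Cartier divisor and let
L_0, L_1, …, L_e be invertible modules with L_0 ≅ O_X(D), i.e. L_0 ⊗ I_D ≅ O_X. Then (L_0 ⋯ L_e · X)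
= (L_1 ⋯ L_e · D): the coefficient of n_0⋯n_e in the polynomial computing χ(X, ⊗_j L_j^{⊗n_j})
equals the coefficient of n_1⋯n_e in the polynomial computing χ(X, O_D ⊗ L_1^{⊗n_1} ⊗ ⋯ ⊗
L_e^{⊗n_e}). (The published statement has a closed subscheme Z ⊆ X of dimension d with D ⊆ Z and
L_1|_Z ≅ O_Z(D); this row is its case Z = X.) -/
theorem result (k : Type u) [Field k] (X : Scheme.{u}) [X.Over (Spec (CommRingCat.of k))] [IsProper (X ↘ (Spec (CommRingCat.of k)))]
    (e : ℕ) (hX : topologicalKrullDim X = e + 1) (D : X.IdealSheafData) (hD : FGA.IsEffCartier D)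
    (L : Fin (e + 1) → X.Modules) (hL : ∀ j, PicF.IsInvertible (L j))
    (hLD : ClSub.IsInverseOf (L 0) (ClSub.idealMod D))
    (P : MvPolynomial (Fin (e + 1)) ℚ) (Q : MvPolynomial (Fin e) ℚ)
    (hP : ∀ n : Fin (e + 1) → ℕ, (Curv2.euler k X (Curv2.tensorPows (Coh.structureModule X) (e + 1) L n) : ℚ) = MvPolynomial.eval (fun i => (n i : ℚ)) P)
    (hQ : ∀ n : Fin e → ℕ, (Curv2.euler k X (Curv2.tensorPows (ClSub.quotMod D) e (fun j => L j.succ) n) : ℚ) = MvPolynomial.eval (fun i => (n i : ℚ)) Q) :
    MvPolynomial.coeff (Finsupp.equivFunOnFinite.symm fun _ : Fin (e + 1) => 1) P = MvPolynomial.coeff (Finsupp.equivFunOnFinite.symm fun _ : Fin e => 1) Q := by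
  haveI := Groth.Agent.CurveCohLib.isNoetherian_of_proper (k := k) (X := X)
  let L' : Fin e → X.Modules := fun j => L j.succ
  have hL' : ∀ j, PicF.IsInvertible (L' j) := fun j => hL j.succ
  have hO : Coh.IsCoh (Coh.structureModule X) := Groth.Agent.QCoh.isCoh_structureModule'
  have hq : Coh.IsCoh (ClSub.quotMod D) := Groth.Agent.ParShLib.isCoh_quotMod D
  have hdO : topologicalKrullDim ↥(CohB1.support (Coh.structureModule X)) ≤ ((e + 1 : ℕ) : WithBot ℕ∞) :=
    le_trans (Groth.Agent.H23.TopDim.dim_le_dim_of_subset (Set.subset_univ _))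
      (le_of_eq ((IsHomeomorph.topologicalKrullDim_eq _ (Homeomorph.Set.univ X).isHomeomorph).trans
        (by rw [hX]; push_cast; rfl)))
  have hsub : CohB1.support (ClSub.quotMod D) ⊆ (D.support : Set X) := fun x hx => by_contra fun h =>
    hx (Groth.Agent.ParShLib.subsingleton_stalk_quotMod D h)
  have hdD : topologicalKrullDim ↥(CohB1.support (ClSub.quotMod D)) ≤ (e : WithBot ℕ∞) := by
    refine le_trans (Groth.Agent.H23.TopDim.dim_le_dim_of_subset hsub) ?_
    haveI : Nonempty X := by
      by_contra hne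
      rw [not_nonempty_iff] at hne
      haveI : IsEmpty (TopologicalSpace.IrreducibleCloseds X) := ⟨fun Z => hne.false Z.isIrreducible.nonempty.choose⟩
      have h0 : topologicalKrullDim X = ⊥ := Order.krullDim_eq_bot
      rw [h0] at hX
      exact absurd hX WithBot.bot_ne_coe
    have hlt := Groth.Agent.AlgSpLib.CartierDim.topologicalKrullDim_lt D.support.isClosed (fun z hz => by
      obtain ⟨C, hC, hzC⟩ : ∃ C ∈ irreducibleComponents (X : Type u), z ∈ C :=
        ⟨irreducibleComponent z, irreducibleComponent_mem_irreducibleComponents z, mem_irreducibleComponent⟩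
      have hg := hC.1.isGenericPoint_genericPoint (isClosed_of_mem_irreducibleComponents C hC)
      refine ⟨hC.1.genericPoint, Groth.Agent.BlowUpX.notMem_support_of_generic hD _ (fun w hw => ?_), hg.specializes hzC⟩
      have hsub2 : closure ({hC.1.genericPoint} : Set X) ⊆ closure {w} := specializes_iff_closure_subset.1 hw
      rw [hg.def] at hsub2
      have heq : C = closure {w} := hsub2.antisymm (hC.2 isIrreducible_singleton.closure hsub2)
      exact (inseparable_iff_closure_eq.2 (hg.def.trans heq)).eq.symm) (by rw [hX]; show (((e + 1 : ℕ) : ℕ∞) : WithBot ℕ∞) ≠ ((⊤ : ℕ∞) : WithBot ℕ∞); exact fun h => ENat.coe_ne_top (e + 1) (WithBot.coe_injective h))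
    rw [hX] at hlt
    revert hlt
    generalize topologicalKrullDim ↥(D.support : Set X) = a
    intro h
    induction a using WithBot.recBotCoe with
    | bot => exact bot_le
    | coe a =>
      induction a using ENat.recTopCoe with
      | top => exact absurd h (by simp)
      | coe a =>
        have : a < e + 1 := by exact_mod_cast h
        exact_mod_cast (by omega : a ≤ e)
  have hL1 := Groth.Agent.InvEnd.isFinLocFreeOfRank_one (hL 0)
  have hLf : FlatMod.IsFinLocFree (L 0) := fun y => let ⟨W, hy, he⟩ := hL1 y; ⟨W, 1, hy, he⟩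
  have hDL : Coh.IsCoh ((DCoh.tensorBi.obj (L 0)).obj (ClSub.quotMod D)) :=
    Groth.Agent.CurveTensor.isCoh_tensor hLf hq
  rw [Groth.Agent.IntNum.coeff_eq_alt k hL hO hdO P hP, Groth.Agent.IntNum.coeff_eq_alt k hL' hq hdD Q hQ,
    Groth.Agent.IntNum.alt_succ,
    ← Groth.Agent.IntNum.alt_twist_invariant k hL' hDL hq
      ((Groth.Agent.H23.TopDim.dim_le_dim_of_subset Groth.Agent.CurveTensor.support_tensor_subset).trans hdD) hdD
      (Groth.Agent.IntNum.lenAt_tensor_invertible hL1 (ClSub.quotMod D)),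
    ← Groth.Agent.IntNum.alt_sub]
  refine Groth.Agent.IntNum.alt_congr fun m => ?_
  haveI := Groth.Agent.CurvePoint.epi_toSubscheme D
  have hS : (ShortComplex.mk (ClSub.idealModι D) (ClSub.toSubscheme D) (kernel.condition _)).ShortExact :=
    Groth.Agent.CurveSlope.shortExact_kernel_of_epi _
  have hI : Coh.IsCoh (ClSub.idealMod D) := Groth.Agent.QCoh.isCoh_kernel hO hq _
  have hadd := congrFun (Groth.Agent.Snapper.χs_add k hL'
    (Groth.Agent.CurveTensor.shortExact_tensor hLf _ _ _ hS)
    (Groth.Agent.CurveTensor.isCoh_tensor hLf hI) (Groth.Agent.CurveTensor.isCoh_tensor hLf hO) hDL) m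
  rw [Pi.add_apply] at hadd
  have hc : ∀ c : ℕ, Groth.Agent.Snapper.χs k L (Coh.structureModule X) (Fin.cons c m) =
      Groth.Agent.Snapper.χs k L' (CohB1.tensorMod (Coh.structureModule X) (CohB1.tensorPow (L 0) c)) m := fun c => by
    obtain ⟨i⟩ := Groth.Agent.IntNum.tensorPows_cons L c m (Coh.structureModule X)
    unfold Groth.Agent.Snapper.χs
    exact congrArg (fun z : ℤ => (z : ℚ)) (Groth.Agent.CurveCohLib.euler_congr (k := k) i)
  obtain ⟨e1⟩ : Nonempty (CohB1.tensorMod (Coh.structureModule X) (CohB1.tensorPow (L 0) 1) ≅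
      (DCoh.tensorBi.obj (L 0)).obj (Coh.structureModule X)) := by
    simp only [CohB1.tensorPow]
    exact ⟨Groth.Agent.CurveTensor.structureTensorIso (CohB1.tensorMod (Coh.structureModule X) (L 0)) ≪≫ Groth.Agent.CurveTensor.commIso (Coh.structureModule X) (L 0)⟩
  obtain ⟨inv⟩ := hLD
  obtain ⟨e0⟩ : Nonempty (CohB1.tensorMod (Coh.structureModule X) (CohB1.tensorPow (L 0) 0) ≅
      (DCoh.tensorBi.obj (L 0)).obj (ClSub.idealMod D)) := by
    simp only [CohB1.tensorPow]
    exact ⟨Groth.Agent.CurveTensor.structureTensorIso (Coh.structureModule X) ≪≫ inv.symm⟩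
  rw [hc, hc, Groth.Agent.Snapper.χs_congr k e1, Groth.Agent.Snapper.χs_congr k e0]
  exact sub_eq_of_eq_add (hadd.trans (add_comm _ _))

end Groth.Agent.S7648
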