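import Groth.Statements.S7649
import Groth.Agent.IntNum.Lead
import Groth.Agent.AmpleVan.Uniform
import Groth.Agent.Lib.Euler

set_option autoImplicit false
universe u
open CategoryTheory CategoryTheory.Limits AlgebraicGeometry
open Variety

namespace Groth.Agent.S7649

/-- Let X be proper over a field k of dimension d and L an ample invertible module. With deg_L(X) the
coefficient of n_1⋯n_d in the polynomial computing χ(X, L^{⊗n_1} ⊗ ⋯ ⊗ L^{⊗n_d}) and c =
deg_L(X)/d!, the constant c is positive and dim_k Γ(X, L^{⊗n}) = c·n^d + lower order terms; here the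
lower-order bound is written as |dim_k H^0(X, L^{⊗n}) − c·n^d| ≤ C·(n+1)^{d−1} for a constant C and
all n ≥ 0. -/
theorem result (k : Type u) [Field k] (X : Scheme.{u}) [X.Over (Spec (CommRingCat.of k))] [IsProper (X ↘ (Spec (CommRingCat.of k)))]
    (d : ℕ) (hX : topologicalKrullDim X = d) (L : X.Modules) (hL : CohB1.IsAmple L)
    (P : MvPolynomial (Fin d) ℚ)
    (hP : ∀ n : Fin d → ℕ, (Curv2.euler k X (Curv2.tensorPows (Coh.structureModule X) d (fun _ => L) n) : ℚ) = MvPolynomial.eval (fun i => (n i : ℚ)) P) :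
    0 < MvPolynomial.coeff (Finsupp.equivFunOnFinite.symm fun _ : Fin d => 1) P ∧
      ∃ C : ℚ, ∀ n : ℕ,
        |(Module.finrank k (Coh.HH X (CohB1.tensorPow L n) 0) : ℚ) -
            MvPolynomial.coeff (Finsupp.equivFunOnFinite.symm fun _ : Fin d => 1) P / (d.factorial : ℚ) * (n : ℚ) ^ d| ≤
          C * ((n : ℚ) + 1) ^ (d - 1) := by
  haveI := Groth.Agent.CurveCohLib.isNoetherian_of_proper (k := k) (X := X)
  have hO : Coh.IsCoh (Coh.structureModule X) := Groth.Agent.QCoh.isCoh_structureModule'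
  have hsupp : CohB1.support (Coh.structureModule X) = Set.univ := Set.eq_univ_of_forall fun x h => by
    haveI : Subsingleton ((Coh.structureModule X).presheaf.stalk x) := h
    exact not_subsingleton (X.presheaf.stalk x) ((LinearEquiv.ofBijective
      (LinearMap.toSpanSingleton (X.presheaf.stalk x) ((Coh.structureModule X).presheaf.stalk x) (Groth.Agent.H23.UnitSec.one x))
      ⟨fun a b e => sub_eq_zero.1 (Groth.Agent.H23.UnitSec.eq_zero_of_smul_one (a - b) (by rw [sub_smul]; exact sub_eq_zero.2 e)),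
        fun m => Submodule.mem_span_singleton.1 ((Groth.Agent.H23.UnitSec.span_one x).ge (Submodule.mem_top : m ∈ ⊤))⟩).toEquiv.subsingleton)
  have hd : topologicalKrullDim ↥(CohB1.support (Coh.structureModule X)) = (d : WithBot ℕ∞) := by
    rw [hsupp]
    exact (IsHomeomorph.topologicalKrullDim_eq _ (Homeomorph.Set.univ X).isHomeomorph).trans hX
  have hpos : 0 < Groth.Agent.HilbPoly.mult k L d (Coh.structureModule X) :=
    (Groth.Agent.HilbPoly.mult_nonneg_and_pos k hL d _ hO hd.le).2 hd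
  obtain ⟨Q, hQ, hQd, hQa⟩ := Groth.Agent.HilbPoly.exists_poly (Groth.Agent.HilbPoly.additive_euler k) hL.1 hO hd.le
  have hP' : MvPolynomial.coeff (Finsupp.equivFunOnFinite.symm fun _ : Fin d => 1) P =
      (Groth.Agent.HilbPoly.mult k L d (Coh.structureModule X) : ℚ) :=
    (Groth.Agent.IntNum.coeff_eq_alt k (fun _ => hL.1) hO hd.le P hP).trans (Groth.Agent.IntNum.alt_eq_mult k L d _)
  rw [hP']
  refine ⟨by exact_mod_cast hpos, ?_⟩
  have hc : (Groth.Agent.HilbPoly.mult k L d (Coh.structureModule X) : ℚ) / (d.factorial : ℚ) = Q.coeff d := by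
    rw [← hQa, StabCat.alpha, mul_div_cancel_left₀ _ (by exact_mod_cast d.factorial_ne_zero)]
  rw [hc]
  obtain ⟨n₀, hn₀⟩ := Groth.Agent.AmpleVan.exists_vanishing (A := k) hL hO
  let h0 : ℕ → ℚ := fun n => (Module.finrank k (Coh.HH X (CohB1.tensorPow L n) 0) : ℚ)
  let A : ℚ := ∑ j ∈ Finset.range d, |Q.coeff j|
  let B : ℚ := ∑ n ∈ Finset.range n₀, |h0 n - Q.coeff d * (n : ℚ) ^ d|
  refine ⟨A + B, fun n => ?_⟩
  show |h0 n - Q.coeff d * (n : ℚ) ^ d| ≤ _
  have hA0 : 0 ≤ A := Finset.sum_nonneg fun j _ => abs_nonneg _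
  have hB0 : 0 ≤ B := Finset.sum_nonneg fun j _ => abs_nonneg _
  have hone : (1 : ℚ) ≤ ((n : ℚ) + 1) ^ (d - 1) := one_le_pow₀ (by
    have : (0 : ℚ) ≤ n := Nat.cast_nonneg n
    linarith)
  by_cases hn : n < n₀
  · calc |h0 n - Q.coeff d * (n : ℚ) ^ d| ≤ B :=
        Finset.single_le_sum (f := fun n : ℕ => |h0 n - Q.coeff d * (n : ℚ) ^ d|) (fun j _ => abs_nonneg _)
          (Finset.mem_range.2 hn)
      _ ≤ (A + B) * 1 := by linarith
      _ ≤ (A + B) * ((n : ℚ) + 1) ^ (d - 1) := mul_le_mul_of_nonneg_left hone (by linarith)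
  · have he : h0 n = Q.eval (n : ℚ) := by
      rw [← hQ n]
      have e : CohB1.tensorMod (Coh.structureModule X) (CohB1.tensorPow L n) ≅ CohB1.tensorPow L n :=
        Groth.Agent.CurveTensor.structureTensorIso _
      show _ = ((Curv2.euler k X (CohB1.tensorMod (Coh.structureModule X) (CohB1.tensorPow L n)) : ℤ) : ℚ)
      rw [Groth.Agent.Euler.euler_eq_sum k _ 1 (fun i hi => by
        obtain ⟨m, rfl⟩ := Nat.exists_eq_add_of_le hi
        rw [add_comm]
        exact hn₀ n (not_lt.1 hn) m)]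
      simp only [Finset.sum_range_one, pow_zero, one_mul, h0,
        Groth.Agent.HilbPoly.finrank_HH_iso k e, Int.cast_natCast]
    rw [he, Polynomial.eval_eq_sum_range' (Nat.lt_succ_of_le hQd), Finset.sum_range_succ, add_sub_cancel_right]
    calc |∑ j ∈ Finset.range d, Q.coeff j * (n : ℚ) ^ j|
        ≤ ∑ j ∈ Finset.range d, |Q.coeff j * (n : ℚ) ^ j| := Finset.abs_sum_le_sum_abs _ _
      _ ≤ ∑ j ∈ Finset.range d, |Q.coeff j| * ((n : ℚ) + 1) ^ (d - 1) := by
        refine Finset.sum_le_sum fun j hj => ?_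
        rw [abs_mul, abs_pow, Nat.abs_cast]
        refine mul_le_mul_of_nonneg_left ?_ (abs_nonneg _)
        calc (n : ℚ) ^ j ≤ ((n : ℚ) + 1) ^ j := pow_le_pow_left₀ (Nat.cast_nonneg n) (by linarith) j
          _ ≤ ((n : ℚ) + 1) ^ (d - 1) := pow_le_pow_right₀ (by
              have : (0 : ℚ) ≤ n := Nat.cast_nonneg n
              linarith) (by have := Finset.mem_range.1 hj; omega)
      _ = A * ((n : ℚ) + 1) ^ (d - 1) := (Finset.sum_mul _ _ _).symm
      _ ≤ (A + B) * ((n : ℚ) + 1) ^ (d - 1) := mul_le_mul_of_nonneg_right (by linarith) (by positivity)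

end Groth.Agent.S7649
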