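import Groth.Statements.S7650
import Groth.Agent.IntNum.Main

set_option autoImplicit false
universe u
open CategoryTheory CategoryTheory.Limits AlgebraicGeometry
open Variety

namespace Groth.Agent.S7650

/-- Let X be proper over a field k, F a coherent module with dim Supp(F) = d and L_1, …, L_r invertible
modules. The Euler characteristic of F twisted by L_1^{⊗n_1} ⊗ ⋯ ⊗ L_r^{⊗n_r}, minus the sum over
the d-dimensional irreducible components Z of Supp(F) of the length of F at the generic point of Z
times the Euler characteristic on Z of the restricted twist, agrees with a rational polynomial in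
the exponents each of whose monomials has total degree less than d. Here the sum is written over all
points ξ of X whose closure has dimension d (the term vanishes unless ξ is the generic point of a
d-dimensional component of Supp(F)), and Z_ξ carries its reduced induced structure. (The published
statement lets the exponents range over all integers; this row takes them in ℕ.) -/
theorem result (k : Type u) [Field k] (X : Scheme.{u}) [X.Over (Spec (CommRingCat.of k))] [IsProper (X ↘ (Spec (CommRingCat.of k)))]
    (F : X.Modules) (hF : Coh.IsCoh F) (d : ℕ) (hd : topologicalKrullDim (CohB1.support F) = d)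
    (r : ℕ) (L : Fin r → X.Modules) (hL : ∀ i, PicF.IsInvertible (L i)) :
    ∃ P : MvPolynomial (Fin r) ℚ, (∀ m ∈ P.support, (m.sum fun _ e => e) < d) ∧
      ∀ n : Fin r → ℕ,
        (Curv2.euler k X (Curv2.tensorPows F r L n) : ℚ) -
          ∑ᶠ ξ : X, (if topologicalKrullDim (closure ({ξ} : Set X)) = (d : WithBot ℕ∞) then
            ((Module.length (X.presheaf.stalk ξ) (F.presheaf.stalk ξ)).toNat : ℚ) *
              (@Curv2.euler k _
                (Scheme.IdealSheafData.vanishingIdeal (⟨closure ({ξ} : Set X), isClosed_closure⟩ : TopologicalSpace.Closeds X)).subscheme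
                ⟨(Scheme.IdealSheafData.vanishingIdeal (⟨closure ({ξ} : Set X), isClosed_closure⟩ : TopologicalSpace.Closeds X)).subschemeι ≫ (X ↘ (Spec (CommRingCat.of k)))⟩
                (Curv2.tensorPows
                  (Coh.structureModule (Scheme.IdealSheafData.vanishingIdeal (⟨closure ({ξ} : Set X), isClosed_closure⟩ : TopologicalSpace.Closeds X)).subscheme)
                  r (fun i => (Scheme.Modules.pullback
                    (Scheme.IdealSheafData.vanishingIdeal (⟨closure ({ξ} : Set X), isClosed_closure⟩ : TopologicalSpace.Closeds X)).subschemeι).obj (L i)) n) : ℚ)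
            else 0)
          = MvPolynomial.eval (fun i => (n i : ℚ)) P := by
  classical
  haveI := Groth.Agent.CurveCohLib.isNoetherian_of_proper (k := k) (X := X)
  obtain ⟨S, hS, h0, Q, hQd, hQ⟩ := Groth.Agent.IntNum.χs_leading k hL hF hd.le
  refine ⟨Q, hQd, fun n => ?_⟩
  rw [← hQ n]
  refine congrArg (fun t : ℚ => _ - t) ?_
  refine Eq.trans (finsum_congr fun ξ => ?_) (Groth.Agent.IntNum.finsum_topPts (M := F)
    (fun ξ => (Groth.Agent.IntNum.lenAt F ξ : ℚ) *
      Groth.Agent.Snapper.χs k L (ClSub.quotMod (Groth.Agent.IntNum.ptIdeal ξ)) n) hS h0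
      fun ξ hξ => by rw [hξ, Nat.cast_zero, zero_mul])
  split_ifs with hc
  · letI : (Groth.Agent.IntNum.ptIdeal ξ).subscheme.Over (Spec (CommRingCat.of k)) :=
      ⟨(Groth.Agent.IntNum.ptIdeal ξ).subschemeι ≫ (X ↘ Spec (CommRingCat.of k))⟩
    haveI : IsLocallyNoetherian (Groth.Agent.IntNum.ptIdeal ξ).subscheme :=
      LocallyOfFiniteType.isLocallyNoetherian (Groth.Agent.IntNum.ptIdeal ξ).subschemeι
    have h := Groth.Agent.IntNum.euler_tensorPows_push k (Groth.Agent.IntNum.ptIdeal ξ).subschemeι rfl
      (M := Coh.structureModule (Groth.Agent.IntNum.ptIdeal ξ).subscheme)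
      Groth.Agent.QCoh.isCoh_structureModule' L hL n
    exact congrArg (fun z : ℤ => (Groth.Agent.IntNum.lenAt F ξ : ℚ) * (z : ℚ)) h
  · rfl

end Groth.Agent.S7650
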