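import Groth.Statements.S7656
import Groth.Agent.BranchBC.Field
import Groth.Agent.GeomField.Chart
-- import your own Groth.Agent.* helpers here

set_option autoImplicit false
set_option backward.isDefEq.respectTransparency false
set_option backward.isDefEq.respectTransparency.types false
set_option linter.style.haveILetI false
set_option maxHeartbeats 1000000
universe u
open CategoryTheory CategoryTheory.Limits AlgebraicGeometry
open Variety

namespace Groth.Agent.S7656
open Groth.Agent

/-- For X locally of finite type over a field k, a field extension K/k and a point y of X_K over x ∈ X,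
the local rings of X at x and of X_K at y have the same number of geometric branches. -/
theorem result (k : Type u) [Field k] (X : Scheme.{u}) [X.Over (Spec (CommRingCat.of k))]
    [LocallyOfFiniteType (X ↘ (Spec (CommRingCat.of k)))] (K : Type u) [Field K] [Algebra k K]
    (y : ↥(Curv2.bc k X K)) :
    Brnch.numGeomBranchesAt X ((Curv2.bcFst k X K).base y) =
      Brnch.numGeomBranchesAt (Curv2.bc k X K) y := by
  open scoped TensorProduct in
  obtain ⟨c, P, hP⟩ := GeomField.exists_chart (k := k) ((Curv2.bcFst k X K).base y)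
  obtain ⟨Q, rfl⟩ := c.exists_bcEmb_eq K P y hP.symm
  rw [← hP]
  have hPQ := (c.bcEmb_fst_eq_iff K P Q).1 hP.symm
  haveI : IsLocallyNoetherian X := LocallyOfFiniteType.isLocallyNoetherian (X ↘ (Spec (CommRingCat.of k)))
  haveI : LocallyOfFiniteType (Curv2.bcSnd k X K) := inferInstance
  haveI : IsLocallyNoetherian (Curv2.bc k X K) := LocallyOfFiniteType.isLocallyNoetherian (Curv2.bcSnd k X K)
  letI := c.stalkAlg P
  haveI := c.isLocalization_stalk P
  letI : Algebra (c.R ⊗[k] K) ((Curv2.bc k X K).presheaf.stalk (c.bcEmb K Q)) :=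
    ((StructureSheaf.toStalk (c.R ⊗[k] K) Q) ≫ inv ((c.bcEmb K).stalkMap Q)).hom.toAlgebra
  let e : (Spec.structureSheaf (c.R ⊗[k] K)).presheaf.stalk Q ≅
      (Curv2.bc k X K).presheaf.stalk (c.bcEmb K Q) := (asIso ((c.bcEmb K).stalkMap Q)).symm
  haveI : IsLocalization.AtPrime ((Curv2.bc k X K).presheaf.stalk (c.bcEmb K Q))
      (PrimeSpectrum.asIdeal (R := c.R ⊗[k] K) Q) :=
    IsLocalization.isLocalization_of_algEquiv (PrimeSpectrum.asIdeal (R := c.R ⊗[k] K) Q).primeCompl
      (AlgEquiv.ofRingEquiv (f := e.commRingCatIsoToRingEquiv) fun _ => rfl)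
  exact BranchBC.numGeomBranches_bc k c.R K (X.presheaf.stalk (c.emb P))
    ((Curv2.bc k X K).presheaf.stalk (c.bcEmb K Q)) (PrimeSpectrum.asIdeal (R := c.R) P)
    (PrimeSpectrum.asIdeal (R := c.R ⊗[k] K) Q) hPQ

end Groth.Agent.S7656
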