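import Groth.Statements.S7672
import Groth.Agent.WDivX.PicAffine

set_option autoImplicit false
universe u
open CategoryTheory CategoryTheory.Limits AlgebraicGeometry
open Variety

set_option backward.isDefEq.respectTransparency false

namespace Groth.Agent.S7672

/-- Let X be a normal variety over a field k, U an open of affine n-space over k containing two k-points
p and q, and L an invertible module on X ×_k U. Then L|_{X × p} ≅ L|_{X × q}; here the two
restrictions are compared on X through the sections σ_p, σ_q : X → X ×_k U determined by p and q. -/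
theorem result (k : Type u) [Field k] (X : Scheme.{u}) [X.Over (Spec (CommRingCat.of k))]
    [IsIntegral X] (hN : Pi1.IsNormalScheme X) [IsSeparated (X ↘ (Spec (CommRingCat.of k)))]
    [LocallyOfFiniteType (X ↘ (Spec (CommRingCat.of k)))] [QuasiCompact (X ↘ (Spec (CommRingCat.of k)))]
    (n : ℕ) (U : (𝔸(ULift.{u} (Fin n); Spec (CommRingCat.of k))).Opens)
    (p q : Spec (CommRingCat.of k) ⟶ (↑U : Scheme.{u}))
    (hp : p ≫ U.ι ≫ (𝔸(ULift.{u} (Fin n); Spec (CommRingCat.of k)) ↘ Spec (CommRingCat.of k)) = 𝟙 _)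
    (hq : q ≫ U.ι ≫ (𝔸(ULift.{u} (Fin n); Spec (CommRingCat.of k)) ↘ Spec (CommRingCat.of k)) = 𝟙 _)
    (σp σq : X ⟶ pullback (X ↘ (Spec (CommRingCat.of k)))
      (U.ι ≫ (𝔸(ULift.{u} (Fin n); Spec (CommRingCat.of k)) ↘ Spec (CommRingCat.of k))))
    (hσp₁ : σp ≫ pullback.fst _ _ = 𝟙 X) (hσp₂ : σp ≫ pullback.snd _ _ = (X ↘ (Spec (CommRingCat.of k))) ≫ p)
    (hσq₁ : σq ≫ pullback.fst _ _ = 𝟙 X) (hσq₂ : σq ≫ pullback.snd _ _ = (X ↘ (Spec (CommRingCat.of k))) ≫ q)
    (L : (pullback (X ↘ (Spec (CommRingCat.of k)))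
      (U.ι ≫ (𝔸(ULift.{u} (Fin n); Spec (CommRingCat.of k)) ↘ Spec (CommRingCat.of k)))).Modules)
    (hL : PicF.IsInvertible L) :
    Nonempty ((Scheme.Modules.pullback σp).obj L ≅ (Scheme.Modules.pullback σq).obj L) := by
  haveI : IsLocallyNoetherian X := LocallyOfFiniteType.isLocallyNoetherian (X ↘ (Spec (CommRingCat.of k)))
  haveI : CompactSpace X := QuasiCompact.compactSpace_of_compactSpace (X ↘ (Spec (CommRingCat.of k)))
  haveI : IsNoetherian X := ⟨⟩
  let σ := ULift.{u} (Fin n)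
  let g := X ↘ (Spec (CommRingCat.of k))
  have hpb := AffineSpace.isPullback_map (n := σ) g
  let P := pullback g (U.ι ≫ (𝔸(σ; Spec (CommRingCat.of k)) ↘ Spec (CommRingCat.of k)))
  let i : P ⟶ 𝔸(σ; X) := hpb.lift (pullback.snd _ _ ≫ U.ι) (pullback.fst _ _)
    (by rw [Category.assoc]; exact pullback.condition.symm)
  have hi₁ : i ≫ AffineSpace.map σ g = pullback.snd _ _ ≫ U.ι := hpb.lift_fst _ _ _
  have hi₂ : i ≫ (𝔸(σ; X) ↘ X) = pullback.fst _ _ := hpb.lift_snd _ _ _
  have hsq : IsPullback (pullback.snd g (U.ι ≫ (𝔸(σ; Spec (CommRingCat.of k)) ↘ Spec (CommRingCat.of k)))) i U.ι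
      (AffineSpace.map σ g) := by
    refine IsPullback.of_bot ?_ hi₁.symm hpb
    rw [hi₂]
    exact (IsPullback.of_hasPullback _ _).flip
  haveI : IsOpenImmersion i := MorphismProperty.of_isPullback (P := @IsOpenImmersion) hsq inferInstance
  obtain ⟨e⟩ := Groth.Agent.WDivX.nonempty_iso_pullback_affineSpace hN i σp (by rw [hi₂]; exact hσp₁) L hL
  have hq' : σq ≫ i ≫ (𝔸(σ; X) ↘ X) = 𝟙 X := by rw [hi₂]; exact hσq₁
  refine ⟨((Scheme.Modules.pullback σq).mapIso e ≪≫ ?_).symm⟩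
  exact (Scheme.Modules.pullbackComp σq (i ≫ (𝔸(σ; X) ↘ X))).app _ ≪≫
    (Scheme.Modules.pullbackCongr hq').app _ ≪≫ (Scheme.Modules.pullbackId X).app _

end Groth.Agent.S7672
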