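import Groth.Statements.S7677
import Groth.Agent.AmpleVan.Uniform
import Groth.Agent.PnCoh.Finite.TwistInv
import Groth.Agent.DepthTwist.Pn

set_option autoImplicit false
universe u
open CategoryTheory CategoryTheory.Limits AlgebraicGeometry
open Variety

namespace Groth.Agent.S7677

/-- Let k be a field, n ≥ 0 and F a coherent module on P^n_k with Hilbert polynomial P, i.e. χ(P^n_k,
F(d)) = P(d) for all d. Then P(d) = dim_k H^0(P^n_k, F(d)) for all d ≫ 0. -/
theorem result (k : Type u) [Field k] (n : ℕ)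
    (F : (CohB1.ProjSpace n k).Modules) (hF : Coh.IsCoh F) (P : Polynomial ℚ)
    (hP : ∀ d : ℤ, (Curv2.euler k (CohB1.ProjSpace n k)
      (CohB1.tensorMod F (Twist.twistProjSpace n k d)) : ℚ) = P.eval (d : ℚ)) :
    ∃ d₀ : ℤ, ∀ d : ℤ, d₀ ≤ d →
      P.eval (d : ℚ) = (Module.finrank k (Coh.HH (CohB1.ProjSpace n k)
        (CohB1.tensorMod F (Twist.twistProjSpace n k d)) 0) : ℚ) := by
  classical
  haveI : IsProper ((CohB1.ProjSpace n k) ↘ Spec (CommRingCat.of k)) := PnCoh.Chow.isProper_toSpec n k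
  have hcovX : ⨆ j : ULift.{u} (Fin (n + 1)),
      Proj.basicOpen (CohB1.polyGrading n k) ((fun j : ULift.{u} (Fin (n + 1)) => MvPolynomial.X j.down) j) = ⊤ := by
    refine top_le_iff.1 ((AmpleEmbed.iSup_basicOpen_X n k).ge.trans (iSup_le fun j => ?_))
    exact le_iSup_of_le (ULift.up j) le_rfl
  have hL : CohB1.IsAmple (Twist.twistProjSpace n k 1) := by
    refine AmpleX.isAmple_twist_one (𝒜 := CohB1.polyGrading n k) (Finset.univ.image fun j : Fin (n + 1) => MvPolynomial.X j) ?_ ?_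
    · intro g hg
      obtain ⟨j, -, rfl⟩ := Finset.mem_image.1 hg
      exact ProjPt.X_mem j
    · refine eq_top_iff.2 fun y _ => ?_
      obtain ⟨j, hj⟩ := TopologicalSpace.Opens.mem_iSup.1 ((AmpleEmbed.iSup_basicOpen_X n k).ge (trivial : y ∈ (⊤ : TopologicalSpace.Opens _)))
      exact TopologicalSpace.Opens.mem_iSup.2 ⟨⟨MvPolynomial.X j, Finset.mem_image.2 ⟨j, Finset.mem_univ _, rfl⟩⟩, hj⟩
  obtain ⟨d₀, hd₀⟩ := AmpleVan.exists_vanishing (A := k) hL hF
  refine ⟨d₀, fun d hd => ?_⟩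
  obtain ⟨m, rfl⟩ := Int.eq_ofNat_of_zero_le ((Int.natCast_nonneg d₀).trans hd)
  obtain ⟨e⟩ := PnCoh.Finite.twist_tensorPow_iso (𝒜 := CohB1.polyGrading n k)
    (fun j : ULift.{u} (Fin (n + 1)) => MvPolynomial.X j.down) (fun j => ProjPt.X_mem j.down) hcovX m
  have hv : ∀ q, Subsingleton (Coh.HH (CohB1.ProjSpace n k)
      (CohB1.tensorMod F (Twist.twistProjSpace n k (m : ℤ))) (q + 1)) := fun q =>
    QCoh.subsingleton_HH_of_iso ((DCoh.tensorBi.obj F).mapIso e).symm _ (hd₀ m (by exact_mod_cast hd) q)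
  rw [← hP]
  unfold Curv2.euler
  rw [finsum_eq_single _ 0 fun i hi => ?_]
  · simp
  · obtain ⟨q, rfl⟩ := Nat.exists_eq_succ_of_ne_zero hi
    haveI := hv q
    rw [Module.finrank_zero_of_subsingleton]
    simp

end Groth.Agent.S7677
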