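import Groth.Statements.S7679
import Groth.Agent.IntNum.NegTwist

set_option autoImplicit false
universe u
open CategoryTheory CategoryTheory.Limits AlgebraicGeometry
open Variety

namespace Groth.Agent.S7679

/-- Let X be proper over a field k, L an ample invertible module and F a coherent module such that
Ass(F) contains no closed point. Then Γ(X, F ⊗ L^{⊗n}) = 0 for n ≪ 0; here negative powers of L are
written as positive powers of an inverse M of L. -/
theorem result (k : Type u) [Field k] (X : Scheme.{u}) [X.Over (Spec (CommRingCat.of k))] [IsProper (X ↘ (Spec (CommRingCat.of k)))]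
    (L : X.Modules) (hL : CohB1.IsAmple L) (M : X.Modules) (hM : ClSub.IsInverseOf L M)
    (F : X.Modules) (hF : Coh.IsCoh F) (hass : ∀ x : X, IsClosed ({x} : Set X) → ¬ Curv2.IsAssPoint F x) :
    ∃ n₀ : ℕ, ∀ n : ℕ, n₀ ≤ n →
      Subsingleton (Coh.HH X (CohB1.tensorMod F (CohB1.tensorPow M n)) 0) := by
  classical
  haveI := Groth.Agent.CurveCohLib.isNoetherian_of_proper (k := k) (X := X)
  haveI : X.IsSeparated := Groth.Agent.AmpleVan.isSeparated_of_proper (A := k)
  obtain ⟨w⟩ := hM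
  obtain ⟨D, hD, ⟨v⟩⟩ := Groth.Agent.H23.PicInv.exists_inverse hL.1
  open Groth.Agent.H23.PicMul in
  have hM' : PicF.IsInvertible M := by
    have hw : PicF.cl L * PicF.cl M = 1 := cl_eq_iff.2 ⟨w⟩
    have hv : PicF.cl L * PicF.cl D = 1 := cl_eq_iff.2 ⟨v⟩
    have he : PicF.cl D = PicF.cl M := by
      calc PicF.cl D = PicF.cl D * (PicF.cl L * PicF.cl M) := by rw [hw, mul_one]
        _ = (PicF.cl L * PicF.cl D) * PicF.cl M := by rw [← mul_assoc, mul_comm (PicF.cl D)]
        _ = PicF.cl M := by rw [hv, one_mul]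
    exact isInvertible_of_iso (cl_eq_iff.1 he).some hD
  let Z : Set X := {x | Curv2.IsAssPoint F x}
  have hZ : Z.Finite := (Groth.Agent.AssPtX.finite_assPoints hF (U := ⊤)
    (by simpa using isCompact_univ)).subset fun x hx => ⟨trivial, hx⟩
  obtain ⟨m, s, hZs, -, hs⟩ := Groth.Agent.AmpleX.exists_finite_nhd hL hZ (U := ⊤) (fun x _ => trivial)
  let D' := CohB1.tensorPow M (m + 1)
  have hD' : PicF.IsInvertible D' := Groth.Agent.InvX.isInvertible_tensorPow hM' _
  open Groth.Agent.H23.PicMul in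
  obtain ⟨u⟩ : Nonempty (CohB1.tensorMod D' (CohB1.tensorPow L (m + 1)) ≅ Coh.structureModule X) := by
    refine cl_eq_iff.1 ?_
    have hw : PicF.cl L * PicF.cl M = 1 := cl_eq_iff.2 ⟨w⟩
    rw [← one_def, cl_tensor, cl_tensorPow, cl_tensorPow, ← mul_pow, mul_comm (PicF.cl M), hw, one_pow]
  have h : ∀ r : ℕ, ∃ i₀ : ℕ, ∀ i, i₀ ≤ i →
      Subsingleton (Coh.HH X (Groth.Agent.IntNum.itG D' (CohB1.tensorMod F (CohB1.tensorPow M r)) i) 0) := fun r => by
    refine Groth.Agent.IntNum.exists_h0_itG_eq_zero k hD' (Groth.Agent.InvX.isInvertible_tensorPow hL.1 _) s hs u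
      (Groth.Agent.AmpleVan.isCoh_tensor hF
        (Groth.Agent.AmpleVan.isCoh_invertible (Groth.Agent.InvX.isInvertible_tensorPow hM' r))) fun x hx => ?_
    have hxF : Curv2.IsAssPoint F x := Groth.Agent.AssPtX.isAssPoint_iff.2
      (Groth.Agent.IntNum.isWeakAssPoint_of_tensor_invertible (Groth.Agent.InvX.isInvertible_tensorPow hM' r) hx)
    exact ⟨hZs hxF, fun hc => hass x hc hxF⟩
  choose i₀ hi₀ using h
  refine ⟨(m + 1) * ((Finset.range (m + 1)).sup i₀ + 1), fun n hn => ?_⟩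
  have hr : n % (m + 1) < m + 1 := Nat.mod_lt _ (Nat.succ_pos m)
  have hle : i₀ (n % (m + 1)) ≤ n / (m + 1) := by
    refine le_trans ?_ ((Nat.le_div_iff_mul_le (Nat.succ_pos m)).2 (le_of_eq_of_le (mul_comm _ _) hn))
    exact (Finset.le_sup (f := i₀) (Finset.mem_range.2 hr)).trans (Nat.le_succ _)
  open Groth.Agent.H23.PicMul in
  obtain ⟨φ⟩ : Nonempty (Groth.Agent.IntNum.itG D' (CohB1.tensorMod F (CohB1.tensorPow M (n % (m + 1)))) (n / (m + 1)) ≅
      CohB1.tensorMod F (CohB1.tensorPow M n)) := by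
    have hit : ∀ (G : X.Modules) (i : ℕ), PicF.cl (Groth.Agent.IntNum.itG D' G i) = PicF.cl G * PicF.cl D' ^ i := by
      intro G i
      induction i with
      | zero => rw [pow_zero, mul_one]; rfl
      | succ i ih =>
        rw [pow_succ, ← mul_assoc, ← ih]; rfl
    refine cl_eq_iff.1 ?_
    rw [hit, cl_tensor, cl_tensor, cl_tensorPow, cl_tensorPow, cl_tensorPow, ← pow_mul, mul_assoc, ← pow_add,
      Nat.mod_add_div]
  exact Groth.Agent.QCoh.subsingleton_HH_of_iso φ 0 (hi₀ _ _ hle)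

end Groth.Agent.S7679
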