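import Groth.Statements.S7682
import Groth.Agent.LerayEuler.Pullback

set_option autoImplicit false
universe u
open CategoryTheory CategoryTheory.Limits AlgebraicGeometry
open Variety

namespace Groth.Agent.S7682

/-- Let f : Y → X be a morphism of proper schemes over a field k, Z ⊆ Y an integral closed subscheme of
dimension d and L_1, …, L_d invertible modules on X. Then (f^*L_1 ⋯ f^*L_d · Z) = deg(Z → f(Z)) ·
(L_1 ⋯ L_d · f(Z)), f(Z) being the scheme-theoretic image and deg the degree of the function field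
extension, read as 0 when dim f(Z) < d (equivalently when that extension is infinite). Both
intersection numbers are the n_1⋯n_d-coefficients of the polynomials computing the corresponding
Euler characteristics. -/
theorem result (k : Type u) [Field k] (X Y : Scheme.{u})
    [X.Over (Spec (CommRingCat.of k))] [Y.Over (Spec (CommRingCat.of k))]
    [IsProper (X ↘ (Spec (CommRingCat.of k)))] [IsProper (Y ↘ (Spec (CommRingCat.of k)))]
    (f : Y ⟶ X) (hf : f ≫ (X ↘ (Spec (CommRingCat.of k))) = Y ↘ (Spec (CommRingCat.of k)))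
    (Z : Y.IdealSheafData) [IsIntegral Z.subscheme] (d : ℕ)
    (hZ : topologicalKrullDim (Z.support : Set Y) = d)
    (L : Fin d → X.Modules) (hL : ∀ i, PicF.IsInvertible (L i))
    (PY PX : MvPolynomial (Fin d) ℚ)
    (hPY : ∀ n : Fin d → ℕ, (Curv2.euler k Y (Curv2.tensorPows (ClSub.quotMod Z) d (fun i => (Scheme.Modules.pullback f).obj (L i)) n) : ℚ) = MvPolynomial.eval (fun i => (n i : ℚ)) PY)
    (hPX : ∀ n : Fin d → ℕ, (Curv2.euler k X (Curv2.tensorPows (ClSub.quotMod (Z.subschemeι ≫ f).ker) d L n) : ℚ) = MvPolynomial.eval (fun i => (n i : ℚ)) PX) :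
    MvPolynomial.coeff (Finsupp.equivFunOnFinite.symm fun _ : Fin d => 1) PY =
      ((Z.subschemeι ≫ f).residueDegree (genericPoint Z.subscheme) : ℚ) *
        MvPolynomial.coeff (Finsupp.equivFunOnFinite.symm fun _ : Fin d => 1) PX := by
  open Groth.Agent in open scoped Groth.Agent.H23.PicMul in
  letI : Z.subscheme.Over (Spec (CommRingCat.of k)) := ⟨Z.subschemeι ≫ (Y ↘ Spec (CommRingCat.of k))⟩
  haveI : IsProper (Z.subscheme ↘ Spec (CommRingCat.of k)) :=
    inferInstanceAs (IsProper (Z.subschemeι ≫ (Y ↘ Spec (CommRingCat.of k))))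
  haveI := Groth.Agent.CurveCohLib.isNoetherian_of_proper (k := k) (X := X)
  haveI := Groth.Agent.CurveCohLib.isNoetherian_of_proper (k := k) (X := Y)
  haveI := Groth.Agent.CurveCohLib.isNoetherian_of_proper (k := k) (X := Z.subscheme)
  have hdim : topologicalKrullDim Z.subscheme = (d : WithBot ℕ∞) := by
    rw [← hZ]
    exact IsHomeomorph.topologicalKrullDim_eq _
      (((Z.subschemeι).isClosedEmbedding.isEmbedding.toHomeomorph).trans
        (Homeomorph.setCongr Z.range_subschemeι)).isHomeomorph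
  have hfk : (Z.subschemeι ≫ f) ≫ (X ↘ Spec (CommRingCat.of k)) = Z.subscheme ↘ Spec (CommRingCat.of k) := by
    rw [Category.assoc, hf]
    rfl
  obtain ⟨hsX, key⟩ := Groth.Agent.LerayEuler.alt_pullback_integral k (Z.subschemeι ≫ f) hfk hdim L hL
  have hLY : ∀ i, PicF.IsInvertible ((Scheme.Modules.pullback f).obj (L i)) :=
    fun i => Groth.Agent.PicClLib.isInvertible_pullback f (hL i)
  have hO : Coh.IsCoh (Coh.structureModule Z.subscheme) := Groth.Agent.QCoh.isCoh_structureModule'
  have hsY : topologicalKrullDim ↥(CohB1.support (ClSub.quotMod Z)) ≤ (d : WithBot ℕ∞) :=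
    (Groth.Agent.H23.TopDim.dim_le_dim_of_subset fun x (hx : x ∈ CohB1.support (ClSub.quotMod Z)) =>
      by_contra fun h => hx (Groth.Agent.ParShLib.subsingleton_stalk_quotMod Z h)).trans hZ.le
  have hval : ∀ n : Fin d → ℕ,
      Groth.Agent.Snapper.χs k (fun i => (Scheme.Modules.pullback f).obj (L i)) (ClSub.quotMod Z) n =
        Groth.Agent.Snapper.χs k (fun i => (Scheme.Modules.pullback (Z.subschemeι ≫ f)).obj (L i))
          (Coh.structureModule Z.subscheme) n := by
    intro n
    show (Curv2.euler k Y _ : ℚ) = (Curv2.euler k Z.subscheme _ : ℚ)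
    refine congrArg Int.cast ?_
    refine (Groth.Agent.IntNum.euler_tensorPows_push k Z.subschemeι rfl hO _ hLY n).symm.trans ?_
    refine Groth.Agent.CurveCohLib.euler_congr (k := k) (Groth.Agent.H23.PicMul.cl_eq_iff.1 ?_).some
    rw [Groth.Agent.AVDegPoly.cl_tensorPows, Groth.Agent.AVDegPoly.cl_tensorPows]
    congr 1
    refine Finset.prod_congr rfl fun i _ => ?_
    congr 1
    exact Groth.Agent.H23.PicMul.cl_eq_iff.2 ⟨(Scheme.Modules.pullbackComp Z.subschemeι f).app (L i)⟩
  show MvPolynomial.coeff (Groth.Agent.IntNum.ones d) PY = _ * MvPolynomial.coeff (Groth.Agent.IntNum.ones d) PX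
  rw [Groth.Agent.IntNum.coeff_eq_alt k hLY (Groth.Agent.ParShLib.isCoh_quotMod Z) hsY PY hPY,
    Groth.Agent.IntNum.alt_congr hval, key,
    Groth.Agent.IntNum.coeff_eq_alt k hL (Groth.Agent.ParShLib.isCoh_quotMod _) hsX PX hPX]

end Groth.Agent.S7682
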