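import Groth.Statements.S7686
import Groth.Agent.IntNum.Main
import Groth.Agent.ParShLib.ResStalk

set_option autoImplicit false
set_option linter.style.haveILetI false
set_option backward.isDefEq.respectTransparency false
set_option backward.isDefEq.respectTransparency.types false
universe u
open CategoryTheory CategoryTheory.Limits AlgebraicGeometry
open Variety

namespace Groth.Agent.S7686

/-- Let X be proper over a field k, Z ⊆ X a closed subscheme of dimension d with irreducible components
Z_i of dimension d (reduced induced structure, generic points ξ_i, multiplicities m_i = length of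
O_{Z,ξ_i} over O_{X,ξ_i}) and L_1, …, L_d invertible modules. Then (L_1 ⋯ L_d · Z) = Σ m_i (L_1 ⋯
L_d · Z_i). Intersection numbers are the n_1⋯n_d-coefficients of the polynomials computing the Euler
characteristics; the sum is written over all points ξ whose closure has dimension d (other terms
vanish). -/
theorem result (k : Type u) [Field k] (X : Scheme.{u}) [X.Over (Spec (CommRingCat.of k))] [IsProper (X ↘ (Spec (CommRingCat.of k)))]
    (D : X.IdealSheafData) (d : ℕ) (hD : topologicalKrullDim (D.support : Set X) = d)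
    (L : Fin d → X.Modules) (hL : ∀ i, PicF.IsInvertible (L i)) (P : MvPolynomial (Fin d) ℚ)
    (hP : ∀ n : Fin d → ℕ, (Curv2.euler k X (Curv2.tensorPows (ClSub.quotMod D) d L n) : ℚ) = MvPolynomial.eval (fun i => (n i : ℚ)) P)
    (Q : X → MvPolynomial (Fin d) ℚ)
    (hQ : ∀ ξ : X, topologicalKrullDim (closure ({ξ} : Set X)) = (d : WithBot ℕ∞) →
      ∀ n : Fin d → ℕ, (Curv2.euler k X (Curv2.tensorPows (ClSub.quotMod (Scheme.IdealSheafData.vanishingIdeal (⟨closure ({ξ} : Set X), isClosed_closure⟩ : TopologicalSpace.Closeds X))) d L n) : ℚ) = MvPolynomial.eval (fun i => (n i : ℚ)) (Q ξ)) :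
    MvPolynomial.coeff (Finsupp.equivFunOnFinite.symm fun _ : Fin d => 1) P =
      ∑ᶠ ξ : X, (if topologicalKrullDim (closure ({ξ} : Set X)) = (d : WithBot ℕ∞) then
        ((Module.length (X.presheaf.stalk ξ) ((ClSub.quotMod D).presheaf.stalk ξ)).toNat : ℚ) *
          MvPolynomial.coeff (Finsupp.equivFunOnFinite.symm fun _ : Fin d => 1) (Q ξ) else 0) := by
  haveI := Groth.Agent.CurveCohLib.isNoetherian_of_proper (k := k) (X := X)
  have hq : Coh.IsCoh (ClSub.quotMod D) := Groth.Agent.ParShLib.isCoh_quotMod D
  have hsd : topologicalKrullDim ↥(CohB1.support (ClSub.quotMod D)) ≤ _ :=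
    (Groth.Agent.H23.TopDim.dim_le_dim_of_subset fun x (hx : x ∈ CohB1.support (ClSub.quotMod D)) => by_contra fun h =>
      hx (Groth.Agent.ParShLib.subsingleton_stalk_quotMod D h)).trans hD.le
  classical
  rw [Groth.Agent.IntNum.coeff_eq_alt k hL hq hsd P hP, Groth.Agent.IntNum.alt_leading k hL hq hsd]
  refine finsum_congr fun ξ => ?_
  split_ifs with hξ
  · have hs : topologicalKrullDim ↥(CohB1.support (ClSub.quotMod (Groth.Agent.IntNum.ptIdeal ξ))) ≤ (d : WithBot ℕ∞) :=
      (Groth.Agent.H23.TopDim.dim_le_dim_of_subset fun x hx => by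
        have := Groth.Agent.QCoh.support_push_subset (Groth.Agent.IntNum.ptIdeal ξ).subschemeι
          Groth.Agent.QCoh.isQCoh_structureModule hx
        rwa [Groth.Agent.IntNum.range_ptIdeal] at this).trans hξ.le
    rw [← Groth.Agent.IntNum.coeff_eq_alt k hL (Groth.Agent.ParShLib.isCoh_quotMod _) hs (Q ξ) (hQ ξ hξ)]
    rfl
  · rfl

end Groth.Agent.S7686
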