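import Groth.Statements.S7690
import Groth.Agent.S0034
import Groth.Agent.Lib.AmpleEmbed
import Groth.Agent.KFlatLib.Scheme.QCohTensor
import Groth.Agent.PnCoh.Chow.Proper
import Groth.Agent.KFlatLib.Perfect.Tensor
import Mathlib.RingTheory.Flat.FaithfullyFlat.Basic

set_option autoImplicit false
universe u
open CategoryTheory CategoryTheory.Limits AlgebraicGeometry
open Variety

namespace Groth.Agent.S7690

/-- Vanishing of cohomology is insensitive to field extensions. -/
theorem subsingleton_iff (k : Type u) [Field k] (k' : Type u) [Field k'] [Algebra k k'] (X : Scheme.{u})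
    [X.Over (Spec (CommRingCat.of k))] [CompactSpace X] [QuasiSeparatedSpace X] (M : X.Modules)
    (hM : Coh.IsQCoh M) (i : ℕ) :
    Subsingleton (Coh.HH X M i) ↔
      Subsingleton (Coh.HH (Curv2.bc k X k') ((Scheme.Modules.pullback (Curv2.bcFst k X k')).obj M) i) := by
  letI : (Curv2.bc k X k').Over (Spec (CommRingCat.of k')) := ⟨Curv2.bcSnd k X k'⟩
  haveI := hM
  obtain ⟨e⟩ := Groth.Agent.S0034.result k k' X (Curv2.bc k X k') (Curv2.bcFst k X k')
    (IsPullback.of_hasPullback _ _) M i
  rw [← e.toEquiv.subsingleton_congr, Module.FaithfullyFlat.subsingleton_tensorProduct_iff_right]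

/-- Let k'/k be a field extension (k' in the universe of k), n ≥ 0, F a coherent module on P^n_k with
pullback F' to P^n_{k'}. For every integer m, F is m-regular exactly when F' is. Here P^n_{k'} is
taken as the base change P^n_k ×_k Spec k' and the m-regularity of F' is spelled out as the
vanishing of H^i(P^n_{k'}, (F(m − i))') for 1 ≤ i ≤ n, (F(m − i))' being the pullback of F ⊗ O(m −
i). -/
theorem result (k : Type u) [Field k] (n : ℕ)
    (k' : Type u) [Field k'] [Algebra k k'] (F : (CohB1.ProjSpace n k).Modules) (hF : Coh.IsCoh F) (m : ℤ) :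
    Curv2.IsMRegular k n F m ↔
      ∀ i : ℕ, 1 ≤ i → i ≤ n →
        Subsingleton (Coh.HH (Curv2.bc k (CohB1.ProjSpace n k) k')
          ((Scheme.Modules.pullback (Curv2.bcFst k (CohB1.ProjSpace n k) k')).obj
            (CohB1.tensorMod F (Twist.twistProjSpace n k (m - i)))) i) := by
  haveI : IsProper (CohB1.ProjSpace.toSpec n k) := Groth.Agent.PnCoh.Chow.isProper_toSpec n k
  haveI : CompactSpace (CohB1.ProjSpace n k) := QuasiCompact.compactSpace_of_compactSpace (CohB1.ProjSpace.toSpec n k)
  haveI : QuasiSeparatedSpace (CohB1.ProjSpace n k) := quasiSeparatedSpace_of_quasiSeparated (CohB1.ProjSpace.toSpec n k)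
  refine forall_congr' fun i => imp_congr_right fun _ => imp_congr_right fun _ => ?_
  have hN : PicF.IsInvertible (Twist.twistProjSpace n k (m - i)) :=
    Groth.Agent.PnCoh.Finite.isInvertible_twist (fun j : ULift.{u} (Fin (n + 1)) => MvPolynomial.X j.down)
      (fun j => Groth.Agent.ProjPt.X_mem j.down) (by
        refine top_le_iff.1 ((Groth.Agent.AmpleEmbed.iSup_basicOpen_X n k).ge.trans (iSup_le fun j => ?_))
        exact le_iSup_of_le (ULift.up j) le_rfl) (m - i)
  have hNq : Coh.IsQCoh (Twist.twistProjSpace n k (m - i)) := by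
    refine Groth.Agent.QCoh.isQCoh_of_isFinLocFree fun x => ?_
    obtain ⟨U, hx, ⟨e⟩⟩ := hN x
    exact ⟨U, 1, hx, ⟨e ≪≫ (coproductUniqueIso fun _ : Fin 1 => Coh.structureModule (U : Scheme.{u})).symm⟩⟩
  exact subsingleton_iff k k' (CohB1.ProjSpace n k) _ (Groth.Agent.KFlatLib.isQCoh_tensor hF.1 hNq) i

end Groth.Agent.S7690
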