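import Groth.Statements.S8256
import Groth.Agent.RelSpecX.AffHom
import Groth.Agent.RelSpecX.Gamma

set_option autoImplicit false
set_option backward.isDefEq.respectTransparency false
set_option backward.isDefEq.respectTransparency.types false
universe u
open CategoryTheory CategoryTheory.Limits AlgebraicGeometry Opposite TopologicalSpace
open EGA2
open Groth.Agent

namespace Groth.Agent.S8256

/-- Let Y be affine over S (g : Y → S affine) and X, X' affine over Y (f, f' affine), and let Z = X ×_Y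
X' with projections p : Z → X, p' : Z → X'. Then Z is affine over Y and over S, and its direct-image
algebra on S is the tensor product: the square of quasi-coherent O_S-algebras A(Y) → A(X), A(Y) →
A(X'), A(X) → A(Z), A(X') → A(Z), whose maps are induced by f, f', p, p', is a pushout square in the
category of quasi-coherent O_S-algebras. -/
theorem result {X X' Y Z S : Scheme.{u}} (g : Y ⟶ S) [IsAffineHom g]
    (f : X ⟶ Y) [IsAffineHom f] (f' : X' ⟶ Y) [IsAffineHom f'] (p : Z ⟶ X) (p' : Z ⟶ X') [IsAffineHom p]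
    (hZ : IsPullback p p' f f') :
    IsPushout
      (C := RelSpec.QCAlg S)
      (⟨AffAlg.algHom g (f ≫ g) f rfl, AffAlg.algHom_comm g (f ≫ g) f rfl⟩ :
        RelSpec.QCAlg.directImage g ⟶ RelSpec.QCAlg.directImage (f ≫ g))
      (⟨AffAlg.algHom g (f' ≫ g) f' rfl, AffAlg.algHom_comm g (f' ≫ g) f' rfl⟩ :
        RelSpec.QCAlg.directImage g ⟶ RelSpec.QCAlg.directImage (f' ≫ g))
      (⟨AffAlg.algHom (f ≫ g) (p ≫ f ≫ g) p rfl, AffAlg.algHom_comm (f ≫ g) (p ≫ f ≫ g) p rfl⟩ :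
        RelSpec.QCAlg.directImage (f ≫ g) ⟶ RelSpec.QCAlg.directImage (p ≫ f ≫ g))
      (⟨AffAlg.algHom (f' ≫ g) (p ≫ f ≫ g) p'
          ((Category.assoc p' f' g).symm.trans ((congrArg (· ≫ g) hZ.w.symm).trans (Category.assoc p f g))),
        AffAlg.algHom_comm (f' ≫ g) (p ≫ f ≫ g) p'
          ((Category.assoc p' f' g).symm.trans ((congrArg (· ≫ g) hZ.w.symm).trans (Category.assoc p f g)))⟩ :
        RelSpec.QCAlg.directImage (f' ≫ g) ⟶ RelSpec.QCAlg.directImage (p ≫ f ≫ g)) := by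
  have hfg : IsAffineHom (f ≫ g) := inferInstance
  have hf'g : IsAffineHom (f' ≫ g) := inferInstance
  have hpfg : IsAffineHom (p ≫ f ≫ g) := inferInstance
  have wp' : p' ≫ f' ≫ g = p ≫ f ≫ g :=
    (Category.assoc p' f' g).symm.trans ((congrArg (· ≫ g) hZ.w.symm).trans (Category.assoc p f g))
  refine ⟨⟨RelSpec.QCAlg.hom_ext ?_⟩, ⟨PushoutCocone.isColimitAux' _ fun s => ?_⟩⟩
  · show AffAlg.algHom g (f ≫ g) f rfl ≫ AffAlg.algHom (f ≫ g) (p ≫ f ≫ g) p rfl =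
      AffAlg.algHom g (f' ≫ g) f' rfl ≫ AffAlg.algHom (f' ≫ g) (p ≫ f ≫ g) p' wp'
    rw [← RelSpecX.algHom_comp g (f ≫ g) (p ≫ f ≫ g) f rfl p rfl,
      ← RelSpecX.algHom_comp g (f' ≫ g) (p ≫ f ≫ g) f' rfl p' wp']
    simp only [hZ.w]
  haveI := RelSpecX.isIso_gammaMap s.pt
  let π := s.pt.π
  have hc : s.pt.str ≫ inv s.pt.gammaMap = π.c := by rw [IsIso.comp_inv_eq]; exact s.pt.π_c_gammaMap.symm
  let ω : AffAlg.algHoms (f ≫ g) π := ⟨s.inl.hom ≫ inv s.pt.gammaMap, by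
    rw [← hc, ← s.inl.comm]; exact (Category.assoc _ _ _).symm⟩
  let ω' : AffAlg.algHoms (f' ≫ g) π := ⟨s.inr.hom ≫ inv s.pt.gammaMap, by
    rw [← hc, ← s.inr.comm]; exact (Category.assoc _ _ _).symm⟩
  let a := RelSpecX.ofAlgHom (f ≫ g) π ω
  let b := RelSpecX.ofAlgHom (f' ≫ g) π ω'
  have ha : a ≫ f ≫ g = π := RelSpecX.ofAlgHom_comp _ _ ω
  have hb : b ≫ f' ≫ g = π := RelSpecX.ofAlgHom_comp _ _ ω'
  have hcond : AffAlg.algHom g (f ≫ g) f rfl ≫ s.inl.hom = AffAlg.algHom g (f' ≫ g) f' rfl ≫ s.inr.hom :=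
    congrArg RelSpec.QCAlg.Hom.hom s.condition
  have hab : a ≫ f = b ≫ f' := by
    refine RelSpecX.algHom_injective g π (h := a ≫ f) (h' := b ≫ f') (by rw [Category.assoc, ha])
      (by rw [Category.assoc, hb]) fun U => NatTrans.congr_app ?_ (op U.1)
    rw [RelSpecX.algHom_comp g (f ≫ g) π f rfl a ha, RelSpecX.algHom_comp g (f' ≫ g) π f' rfl b hb,
      RelSpecX.algHom_ofAlgHom, RelSpecX.algHom_ofAlgHom]
    exact (Category.assoc _ _ _).symm.trans ((congrArg (· ≫ inv s.pt.gammaMap) hcond).trans (Category.assoc _ _ _))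
  let c := hZ.lift a b hab
  have hca : c ≫ p = a := hZ.lift_fst _ _ _
  have hcb : c ≫ p' = b := hZ.lift_snd _ _ _
  have hcπ : c ≫ p ≫ f ≫ g = π := by rw [reassoc_of% hca, ha]
  refine ⟨⟨AffAlg.algHom (p ≫ f ≫ g) π c hcπ ≫ s.pt.gammaMap,
    (Category.assoc _ _ _).symm.trans ((congrArg (· ≫ s.pt.gammaMap) (AffAlg.algHom_comm (p ≫ f ≫ g) π c hcπ)).trans
      s.pt.π_c_gammaMap)⟩, RelSpec.QCAlg.hom_ext ?_, RelSpec.QCAlg.hom_ext ?_, fun {m} hm₁ hm₂ => ?_⟩
  · show AffAlg.algHom (f ≫ g) (p ≫ f ≫ g) p rfl ≫ AffAlg.algHom (p ≫ f ≫ g) π c hcπ ≫ s.pt.gammaMap = s.inl.hom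
    rw [← Category.assoc, ← RelSpecX.algHom_comp (f ≫ g) (p ≫ f ≫ g) π p rfl c hcπ]
    simp only [hca]
    rw [RelSpecX.algHom_ofAlgHom]
    exact (Category.assoc _ _ _).trans ((congrArg _ (IsIso.inv_hom_id _)).trans (Category.comp_id _))
  · show AffAlg.algHom (f' ≫ g) (p ≫ f ≫ g) p' wp' ≫ AffAlg.algHom (p ≫ f ≫ g) π c hcπ ≫ s.pt.gammaMap = s.inr.hom
    rw [← Category.assoc, ← RelSpecX.algHom_comp (f' ≫ g) (p ≫ f ≫ g) π p' wp' c hcπ]
    simp only [hcb]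
    rw [RelSpecX.algHom_ofAlgHom]
    exact (Category.assoc _ _ _).trans ((congrArg _ (IsIso.inv_hom_id _)).trans (Category.comp_id _))
  · let θ : AffAlg.algHoms (p ≫ f ≫ g) π := ⟨m.hom ≫ inv s.pt.gammaMap, by
      rw [← hc, ← m.comm]; exact (Category.assoc _ _ _).symm⟩
    let d := RelSpecX.ofAlgHom (p ≫ f ≫ g) π θ
    have hd : d ≫ p ≫ f ≫ g = π := RelSpecX.ofAlgHom_comp _ _ θ
    have h₁ : d ≫ p = a := by
      refine RelSpecX.algHom_injective (f ≫ g) π (by rw [Category.assoc, hd]) ha fun U => NatTrans.congr_app ?_ (op U.1)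
      rw [RelSpecX.algHom_comp (f ≫ g) (p ≫ f ≫ g) π p rfl d hd, RelSpecX.algHom_ofAlgHom, RelSpecX.algHom_ofAlgHom]
      exact (Category.assoc _ _ _).symm.trans
        (congrArg (· ≫ inv s.pt.gammaMap) (congrArg RelSpec.QCAlg.Hom.hom hm₁))
    have h₂ : d ≫ p' = b := by
      refine RelSpecX.algHom_injective (f' ≫ g) π (by rw [Category.assoc, wp', hd]) hb fun U => NatTrans.congr_app ?_ (op U.1)
      rw [RelSpecX.algHom_comp (f' ≫ g) (p ≫ f ≫ g) π p' wp' d hd, RelSpecX.algHom_ofAlgHom, RelSpecX.algHom_ofAlgHom]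
      exact (Category.assoc _ _ _).symm.trans
        (congrArg (· ≫ inv s.pt.gammaMap) (congrArg RelSpec.QCAlg.Hom.hom hm₂))
    have hdc : d = c := hZ.hom_ext (h₁.trans hca.symm) (h₂.trans hcb.symm)
    refine RelSpec.QCAlg.hom_ext ?_
    show m.hom = AffAlg.algHom (p ≫ f ≫ g) π c hcπ ≫ s.pt.gammaMap
    simp only [← hdc]
    rw [RelSpecX.algHom_ofAlgHom]
    exact ((Category.assoc _ _ _).trans ((congrArg _ (IsIso.inv_hom_id _)).trans (Category.comp_id _))).symm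

end Groth.Agent.S8256
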