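import Groth.Statements.S8282
import Groth.Agent.Proj16.ConeData
import Mathlib.RingTheory.GradedAlgebra.Radical
import Mathlib.RingTheory.Finiteness.Ideal
import Mathlib.Data.Set.Finite.List

set_option autoImplicit false
set_option linter.style.haveILetI false
set_option backward.isDefEq.respectTransparency false
set_option backward.isDefEq.respectTransparency.types false
universe u
open CategoryTheory CategoryTheory.Limits AlgebraicGeometry
open EGA2

namespace Groth.Agent.S8282

section helpers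

variable {R A B : Type u} [CommRing R] [CommRing A] [Algebra R A]
    {𝒜 : ℕ → Submodule R A} [GradedAlgebra 𝒜] [CommRing B] [Algebra R B] {ℬ : ℕ → Submodule R B} [GradedAlgebra ℬ]

lemma pow_degOne_le : ∀ n : ℕ, ℬ 1 ^ n ≤ ℬ n := by
  intro n
  induction n with
  | zero => rw [pow_zero, Submodule.one_le]; exact SetLike.one_mem_graded ℬ
  | succ n ih =>
    rw [pow_succ, Submodule.mul_le]
    exact fun x hx y hy => SetLike.mul_mem_graded (ih hx) hy

lemma map_mem_pow_degOne (φ : 𝒜 →+*ᵍ ℬ) (hgen : ∀ n : ℕ, 1 ≤ n → 𝒜 n = 𝒜 1 ^ n) {n : ℕ} (hn : 1 ≤ n)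
    {a : A} (ha : a ∈ 𝒜 n) : φ a ∈ ℬ 1 ^ n := by
  induction n, hn using Nat.le_induction generalizing a with
  | base => rw [pow_one]; exact φ.2 ha
  | succ n hn ih =>
    rw [hgen (n + 1) (by omega), pow_succ] at ha
    induction ha using Submodule.mul_induction_on' with
    | mem_mul_mem x hx y hy =>
      rw [map_mul, pow_succ]
      exact Submodule.mul_mem_mul (ih (by rw [hgen n hn]; exact hx)) (φ.2 hy)
    | add x _ y _ hx hy => rw [map_add]; exact add_mem hx hy

/-- `ℬ 1 ^ n` absorbs degree zero for `n ≥ 1`. -/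
lemma gradeZero_mul_mem {n : ℕ} (hn : 1 ≤ n) {c x : B} (hc : c ∈ ℬ 0) (hx : x ∈ ℬ 1 ^ n) :
    c * x ∈ ℬ 1 ^ n := by
  obtain ⟨m, rfl⟩ := Nat.exists_eq_add_of_le' hn
  rw [pow_succ] at hx ⊢
  induction hx using Submodule.mul_induction_on' with
  | mem_mul_mem a ha b hb =>
    rw [mul_left_comm]
    refine Submodule.mul_mem_mul ha ?_
    simpa using SetLike.mul_mem_graded hc hb
  | add a _ b _ ha hb => rw [mul_add]; exact add_mem ha hb

lemma multiset_prod_mem_pow_degOne {F : Set B} (hF : F ⊆ ℬ 1) (s : Multiset B) (hs : ∀ f ∈ s, f ∈ F) :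
    s.prod ∈ ℬ 1 ^ Multiset.card s := by
  induction s using Multiset.induction with
  | empty => rw [Multiset.prod_zero, Multiset.card_zero, pow_zero]; exact Submodule.mem_one.2 ⟨1, map_one _⟩
  | cons a s ih =>
    rw [Multiset.prod_cons, Multiset.card_cons, pow_succ']
    exact Submodule.mul_mem_mul (hF (hs a (Multiset.mem_cons_self a s)))
      (ih fun f hf => hs f (Multiset.mem_cons_of_mem hf))

/-- The degree `n + 1` part of an element of the ideal generated by degree one elements. -/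
lemma decompose_mem_of_mem_span {F : Set B} (hF : F ⊆ ℬ 1) {n : ℕ} (P : B → Prop) (h0 : P 0)
    (hadd : ∀ x y, P x → P y → P (x + y)) (hmul : ∀ f ∈ F, ∀ c ∈ ℬ n, P (f * c))
    {x : B} (hx : x ∈ Ideal.span F) : P (DirectSum.decompose ℬ x (n + 1) : B) := by
  rw [Ideal.span] at hx
  classical
  obtain ⟨l, hl, rfl⟩ := Submodule.mem_span_set.1 hx
  clear hx
  induction l using Finsupp.induction with
  | zero => simpa using h0
  | single_add a c l ha hc ih =>
    rw [Finsupp.sum_add_index' (h := fun mi r => r • mi) (fun x => zero_smul B x) (fun x r r' => add_smul r r' x),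
      Finsupp.sum_single_index (zero_smul B a), DirectSum.decompose_add]
    have hsupp : (Finsupp.single a c + l).support = {a} ∪ l.support := by
      classical
      rw [Finsupp.support_add_eq, Finsupp.support_single_ne_zero _ hc]
      rw [Finsupp.support_single_ne_zero _ hc, Finset.disjoint_singleton_left]
      exact ha
    rw [hsupp, Finset.coe_union, Set.union_subset_iff] at hl
    refine hadd _ _ ?_ (ih hl.2)
    have haF : a ∈ F := hl.1 (by simp)
    rw [smul_eq_mul, DirectSum.coe_decompose_mul_of_right_mem_of_le ℬ (hF haF) (Nat.le_add_left 1 n),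
      Nat.add_sub_cancel, mul_comm]
    exact hmul a haF _ (SetLike.coe_mem _)

/-- Monomials in finitely many homogeneous generators of positive degree. -/
lemma exists_generators [Algebra.FiniteType (ℬ 0) B] :
    ∃ (G : Set B) (D : ℕ), G.Finite ∧ (∀ g ∈ G, ∃ d, 0 < d ∧ d ≤ D ∧ g ∈ ℬ d) ∧
      ∀ x : B, x ∈ Algebra.adjoin (ℬ 0) G := by
  classical
  obtain ⟨s, hs⟩ := (‹Algebra.FiniteType (ℬ 0) B›).out
  let S : Finset ℕ := s.biUnion fun b => (DirectSum.decompose ℬ b).support
  let G : Set B := (fun p : B × ℕ => (DirectSum.decompose ℬ p.1 p.2 : B)) ''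
    {p | p.1 ∈ s ∧ p.2 ∈ S ∧ 0 < p.2}
  refine ⟨G, S.sup id, Set.Finite.image _ ((s.finite_toSet.prod S.finite_toSet).subset
    fun p hp => ⟨hp.1, hp.2.1⟩), ?_, fun x => ?_⟩
  · rintro _ ⟨⟨b, d⟩, ⟨-, hd, hd0⟩, rfl⟩
    exact ⟨d, hd0, Finset.le_sup (f := id) hd, SetLike.coe_mem _⟩
  · have hx : x ∈ Algebra.adjoin (ℬ 0) (s : Set B) := by rw [hs]; exact Algebra.mem_top
    revert x
    suffices h : Algebra.adjoin (ℬ 0) (s : Set B) ≤ Algebra.adjoin (ℬ 0) G from fun x hx => h hx
    refine Algebra.adjoin_le fun b hb => ?_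
    rw [SetLike.mem_coe, ← DirectSum.sum_support_decompose ℬ b]
    refine sum_mem fun i hi => ?_
    rcases Nat.eq_zero_or_pos i with rfl | hi0
    · exact Subalgebra.algebraMap_mem (Algebra.adjoin (ℬ 0) G) (DirectSum.decompose ℬ b 0)
    · exact Algebra.subset_adjoin ⟨(b, i), ⟨hb, Finset.mem_biUnion.2 ⟨b, hb, hi⟩, hi0⟩, rfl⟩

/-- Homogeneous elements are combinations over `ℬ 0` of monomials in the generators of the same degree. -/
lemma exists_monomials {G : Set B} {D : ℕ} (hG : ∀ g ∈ G, ∃ d, 0 < d ∧ d ≤ D ∧ g ∈ ℬ d)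
    (htop : ∀ x : B, x ∈ Algebra.adjoin (ℬ 0) G) (n : ℕ) (P : B → Prop) (h0 : P 0)
    (hadd : ∀ x y, P x → P y → P (x + y))
    (hmon : ∀ c ∈ ℬ 0, ∀ l : List B, (∀ g ∈ l, g ∈ G) → l.length ≤ n → n ≤ D * l.length → l.prod ∈ ℬ n →
      P (c * l.prod))
    {x : B} (hx : x ∈ ℬ n) : P x := by
  have hspan : x ∈ Submodule.span (ℬ 0) (Submonoid.closure G : Set B) := by
    rw [← Algebra.adjoin_eq_span]; exact htop x
  suffices h : P (DirectSum.decompose ℬ x n : B) by rwa [DirectSum.decompose_of_mem_same ℬ hx] at h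
  clear hx
  obtain ⟨l, hl, rfl⟩ := Submodule.mem_span_set.1 hspan
  rw [Finsupp.sum]
  refine Finset.sum_induction _ (fun y => P (DirectSum.decompose ℬ y n : B))
    (fun y z hy hz => by simpa [DirectSum.decompose_add] using hadd _ _ hy hz)
    (by simpa [DirectSum.decompose_zero] using h0) fun m hm => ?_
  obtain ⟨L, hL, hLm⟩ := Submonoid.exists_list_of_mem_closure (hl hm)
  have hdeg : ∃ e, L.prod ∈ ℬ e ∧ L.length ≤ e ∧ e ≤ D * L.length := by
    clear hLm
    induction L with
    | nil => exact ⟨0, SetLike.one_mem_graded ℬ, le_rfl, Nat.zero_le _⟩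
    | cons g L ih =>
      obtain ⟨e, he, h1, h2⟩ := ih fun y hy => hL y (List.mem_cons_of_mem g hy)
      obtain ⟨d, hd0, hdD, hd⟩ := hG g (hL g List.mem_cons_self)
      refine ⟨d + e, by rw [List.prod_cons]; exact SetLike.mul_mem_graded hd he, ?_, ?_⟩
      · rw [List.length_cons]; omega
      · rw [List.length_cons, Nat.mul_succ]; omega
  obtain ⟨e, he, h1, h2⟩ := hdeg
  subst hLm
  have hc : ((l L.prod : ℬ 0) : B) * L.prod ∈ ℬ e := by
    simpa using SetLike.mul_mem_graded (l L.prod).2 he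
  rw [show l L.prod • L.prod = ((l L.prod : ℬ 0) : B) * L.prod from rfl]
  rcases eq_or_ne e n with rfl | hne
  · rw [DirectSum.decompose_of_mem_same ℬ hc]
    exact hmon _ (l L.prod).2 L hL h1 h2 he
  · rw [DirectSum.decompose_of_mem_ne ℬ hc hne]
    exact h0

/-- The irrelevant ideal is in the radical of the ideal generated by degree one. -/
lemma mem_radical (φ : 𝒜 →+*ᵍ ℬ) (hgen : ∀ n : ℕ, 1 ≤ n → 𝒜 n = 𝒜 1 ^ n) (hdom : PCone.dom φ = ⊤)
    {d : ℕ} (hd : 0 < d) {b : B} (hb : b ∈ ℬ d) : b ∈ (Ideal.span (ℬ 1 : Set B)).radical := by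
  have hom : (Ideal.span (ℬ 1 : Set B)).IsHomogeneous ℬ :=
    Ideal.homogeneous_span ℬ _ fun y hy => ⟨1, hy⟩
  rw [hom.radical_eq, Submodule.mem_sInf]
  rintro P ⟨hP, hJP, hPp⟩
  by_contra hbP
  let x : ProjectiveSpectrum ℬ :=
    ⟨⟨P, hP⟩, hPp, fun h => hbP (h (HomogeneousIdeal.mem_irrelevant_of_mem ℬ hd hb))⟩
  have hx : x ∈ (PCone.dom φ : TopologicalSpace.Opens (Proj ℬ)) := by
    rw [hdom]; trivial
  obtain ⟨⟨a, e, he, ha⟩, hax⟩ := TopologicalSpace.Opens.mem_iSup.1 hx
  apply hax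
  apply hJP
  have hmem : φ a ∈ ℬ 1 ^ e := map_mem_pow_degOne φ hgen he ha
  obtain ⟨e, rfl⟩ := Nat.exists_eq_add_of_le' he
  rw [pow_succ] at hmem
  generalize φ a = y at hmem ⊢
  induction hmem using Submodule.mul_induction_on' with
  | mem_mul_mem m _ n hn => exact Ideal.mul_mem_left _ m (Ideal.subset_span hn)
  | add m _ n _ hm hn => exact add_mem hm hn

/-- Multiplying by a power of a degree one element. -/
lemma exists_pow_mul_mem (φ : 𝒜 →+*ᵍ ℬ) (h1 : Set.SurjOn φ (𝒜 1 : Set A) (ℬ 1 : Set B))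
    (hgen : ∀ n : ℕ, 1 ≤ n → 𝒜 n = 𝒜 1 ^ n)
    (p : (PCone.dom φ : Scheme.{u}) ⟶ Proj 𝒜)
    (hp : ∀ (d : ℕ) (f : A) (hd : 0 < d) (hf : f ∈ 𝒜 d),
      PCone.chart φ hf hd ≫ p =
        Spec.map (CommRingCat.ofHom (HomogeneousLocalization.Away.map φ f)) ≫ Proj.awayι 𝒜 f hf hd)
    [IsIso p] {n : ℕ} {b : B} (hb : b ∈ ℬ n) {g : B} (hg : g ∈ ℬ 1) :
    ∃ N : ℕ, ∀ N' : ℕ, N ≤ N' → g ^ N' * b ∈ ℬ 1 ^ (n + N') := by
  obtain ⟨f, hf, rfl⟩ := h1 hg
  let D := Proj16.pconeData 𝒜 ℬ φ
  have hpD : p = D.map := D.eq_map hp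
  haveI : IsIso D.map := hpD ▸ ‹IsIso p›
  have hsurj : Function.Surjective (HomogeneousLocalization.Away.map φ f) := by
    have sq : IsPullback (Spec.map (D.toRing f)) (D.chart hf one_pos)
        (Proj.awayι 𝒜 f hf one_pos) D.map := by
      refine IsOpenImmersion.isPullback _ _ _ _ (D.chart_map hf one_pos) ?_
      rw [Proj.opensRange_awayι]
      exact Proj16.pconeData_preimage 𝒜 ℬ φ hf one_pos
    haveI : IsIso (Scheme.Spec.map (D.toRing f).op) := sq.isIso_fst_of_isIso
    haveI : IsIso (D.toRing f).op := isIso_of_fully_faithful Scheme.Spec _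
    haveI : IsIso (D.toRing f) := isIso_of_op _
    exact (ConcreteCategory.bijective_of_isIso (D.toRing f)).2
  have hbn : b ∈ ℬ (n • 1) := by rwa [nsmul_one]
  obtain ⟨z, hz⟩ := hsurj (HomogeneousLocalization.Away.mk ℬ (φ.2 hf) n b hbn)
  obtain ⟨m, a, ha, rfl⟩ := z.mk_surjective 𝒜 hf
  rw [HomogeneousLocalization.Away.map_mk,
    ← (HomogeneousLocalization.val_injective _).eq_iff, HomogeneousLocalization.Away.val_mk,
    HomogeneousLocalization.Away.val_mk, Localization.mk_eq_mk_iff, Localization.r_iff_exists] at hz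
  obtain ⟨⟨_, k, rfl⟩, hk⟩ := hz
  simp only at hk
  refine ⟨k + m + 1, fun N' hN' => ?_⟩
  obtain ⟨r, rfl⟩ := Nat.exists_eq_add_of_le hN'
  have key : φ f ^ (k + m + 1 + r) * b = φ (f ^ (k + n + 1 + r) * a) := by
    rw [map_mul, map_pow]
    calc φ f ^ (k + m + 1 + r) * b = φ f ^ (1 + r) * (φ f ^ k * (φ f ^ m * b)) := by ring
      _ = φ f ^ (1 + r) * (φ f ^ k * (φ f ^ n * φ a)) := by rw [hk]
      _ = φ f ^ (k + n + 1 + r) * φ a := by ring
  rw [key, show n + (k + m + 1 + r) = (k + n + 1 + r) + m by omega]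
  refine map_mem_pow_degOne φ hgen (by omega) ?_
  refine SetLike.mul_mem_graded ?_ (by rwa [nsmul_one] at ha)
  simpa using SetLike.pow_mem_graded (k + n + 1 + r) hf

end helpers

/-- Let T be a positively graded ring which is a T_0-algebra of finite type, and T' = ⊕_n T_1^n → T the
injective graded homomorphism from the subalgebra generated by T_1 (T' presented as a graded ring
with φ : T' → T injective, bijective in degrees 0 and 1, and T'_n = (T'_1)^n for n ≥ 1). If the
morphism of homogeneous spectra induced by φ is everywhere defined (its domain G(φ) is the whole of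
Proj T) and is an isomorphism onto Proj T', then there is n₀ with T_n = T_1^n for all n ≥ n₀. -/
theorem result {R A B : Type u} [CommRing R] [CommRing A] [Algebra R A]
    (𝒜 : ℕ → Submodule R A) [GradedAlgebra 𝒜] [CommRing B] [Algebra R B] (ℬ : ℕ → Submodule R B) [GradedAlgebra ℬ]
    [Algebra.FiniteType (ℬ 0) B] (φ : 𝒜 →+*ᵍ ℬ) (hφ : Function.Injective φ)
    (h0 : Set.BijOn φ (𝒜 0) (ℬ 0)) (h1 : Set.BijOn φ (𝒜 1) (ℬ 1))
    (hgen : ∀ n : ℕ, 1 ≤ n → 𝒜 n = 𝒜 1 ^ n)
    (hdom : PCone.dom φ = ⊤)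
    (p : (PCone.dom φ : Scheme.{u}) ⟶ Proj 𝒜)
    (hp : ∀ (d : ℕ) (f : A) (hd : 0 < d) (hf : f ∈ 𝒜 d),
      PCone.chart φ hf hd ≫ p =
        Spec.map (CommRingCat.ofHom (HomogeneousLocalization.Away.map φ f)) ≫ Proj.awayι 𝒜 f hf hd)
    [IsIso p] :
    ∃ n₀ : ℕ, ∀ n : ℕ, n₀ ≤ n → ℬ n = ℬ 1 ^ n := by
  classical
  obtain ⟨G, D, hGfin, hG, htop⟩ := exists_generators (ℬ := ℬ)
  obtain ⟨K, hK⟩ := Ideal.exists_pow_le_of_le_radical_of_fg
    (I := Ideal.span G) (J := Ideal.span (ℬ 1 : Set B))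
    (Ideal.span_le.2 fun g hg => by
      obtain ⟨d, hd, -, hgd⟩ := hG g hg
      exact mem_radical φ hgen hdom hd hgd)
    (Submodule.fg_span hGfin)
  have hKfg : ((Ideal.span G) ^ K : Ideal B).FG := Submodule.FG.pow (Submodule.fg_span hGfin) K
  obtain ⟨T, hT⟩ := hKfg
  have hsub : ∀ t ∈ T, ∃ F : Finset B, (F : Set B) ⊆ ℬ 1 ∧ t ∈ Ideal.span (F : Set B) := fun t ht =>
    Submodule.mem_span_finite_of_mem_span (hK (hT ▸ Submodule.subset_span ht))
  choose! Ft hFt1 hFt2 using hsub
  let F : Finset B := T.biUnion Ft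
  have hF : (F : Set B) ⊆ ℬ 1 := by
    intro y hy
    obtain ⟨t, ht, hyt⟩ := Finset.mem_biUnion.1 hy
    exact hFt1 t ht hyt
  have hKF : (Ideal.span G) ^ K ≤ Ideal.span (F : Set B) := by
    rw [← hT]
    refine Submodule.span_le.2 fun t ht => Ideal.span_mono ?_ (hFt2 t ht)
    exact fun y hy => Finset.mem_biUnion.2 ⟨t, ht, hy⟩
  let n₀ := D * K + 1
  have hinF : ∀ n, n₀ ≤ n → ∀ x ∈ ℬ n, x ∈ Ideal.span (F : Set B) := by
    intro n hn x hx
    refine exists_monomials hG htop n (fun x => x ∈ Ideal.span (F : Set B)) (zero_mem _)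
      (fun _ _ => add_mem) (fun c _ l hl hle hlen hmem => Ideal.mul_mem_left _ c (hKF ?_)) hx
    have hKl : K ≤ l.length := by
      by_contra hlt
      have : D * l.length ≤ D * K := Nat.mul_le_mul_left D (Nat.le_of_lt (Nat.lt_of_not_le hlt))
      omega
    refine Ideal.pow_le_pow_right hKl ?_
    clear hKl hlen hle hmem
    induction l with
    | nil => simp
    | cons g l ih =>
      rw [List.prod_cons, List.length_cons, pow_succ']
      exact Ideal.mul_mem_mul (Ideal.subset_span (hl g List.mem_cons_self))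
        (ih fun y hy => hl y (List.mem_cons_of_mem g hy))
  -- finitely many monomials in degree `n₀`
  haveI : Finite G := hGfin.to_subtype
  let Y : Set B := (fun l : List G => (l.map Subtype.val).prod) '' {l | l.length ≤ n₀} ∩ (ℬ n₀ : Set B)
  have hY : Y.Finite := (((List.finite_length_le G n₀)).image _).inter_of_left _
  have hN : ∀ f ∈ F, ∀ y ∈ Y, ∃ N, ∀ N', N ≤ N' → f ^ N' * y ∈ ℬ 1 ^ (n₀ + N') :=
    fun f hf y hy => exists_pow_mul_mem φ h1.surjOn hgen p hp hy.2 (hF hf)
  choose! Nf hNf using hN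
  let N := F.sup fun f => hY.toFinset.sup (Nf f)
  let T' := F.card * N + 1
  have main : ∀ j : ℕ, ∀ s : Multiset B, (∀ f ∈ s, f ∈ (F : Set B)) → T' ≤ Multiset.card s + j →
      ∀ x ∈ ℬ (n₀ + j), s.prod * x ∈ ℬ 1 ^ (n₀ + j + Multiset.card s) := by
    intro j
    induction j with
    | zero =>
      intro s hs hcard x hx
      simp only [add_zero] at hcard hx ⊢
      refine exists_monomials hG htop n₀ (fun x => s.prod * x ∈ ℬ 1 ^ (n₀ + Multiset.card s))
        (by simp) (fun a b ha hb => by rw [mul_add]; exact add_mem ha hb) (fun c hc l hl hlen _ hmem => ?_) hx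
      have hyY : l.prod ∈ Y := by
        refine ⟨⟨l.pmap (fun g hg => (⟨g, hg⟩ : G)) hl, ?_, ?_⟩, hmem⟩
        · simpa using hlen
        · simp [List.map_pmap]
      obtain ⟨f, hfs, hfN⟩ : ∃ f ∈ s.toFinset, N ≤ s.count f := by
        by_contra hno
        push Not at hno
        have h1 : Multiset.card s ≤ s.toFinset.card * N := by
          rw [← Multiset.toFinset_sum_count_eq, ← smul_eq_mul]
          exact Finset.sum_le_card_nsmul _ _ _ fun f hf => (hno f hf).le
        have h2 : s.toFinset.card ≤ F.card :=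
          Finset.card_le_card fun f hf => hs f (Multiset.mem_toFinset.1 hf)
        have := Nat.mul_le_mul_right N h2
        omega
      rw [Multiset.mem_toFinset] at hfs
      obtain ⟨rest, hrest⟩ := Multiset.le_iff_exists_add.1 (Multiset.le_count_iff_replicate_le.1 hfN)
      have hfF : f ∈ F := hs f hfs
      have hNle : Nf f l.prod ≤ N := le_trans (Finset.le_sup (f := Nf f) (hY.mem_toFinset.2 hyY))
        (Finset.le_sup (f := fun f => hY.toFinset.sup (Nf f)) hfF)
      have hmem' : f ^ N * l.prod * rest.prod ∈ ℬ 1 ^ (n₀ + N + Multiset.card rest) := by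
        rw [pow_add]
        exact Submodule.mul_mem_mul (hNf f hfF l.prod hyY N hNle)
          (multiset_prod_mem_pow_degOne hF rest fun g hg => hs g (hrest ▸ Multiset.mem_add.2 (Or.inr hg)))
      have hcs : n₀ + Multiset.card s = n₀ + N + Multiset.card rest := by
        rw [hrest, Multiset.card_add, Multiset.card_replicate]; omega
      rw [hcs, show s.prod * (c * l.prod) = c * (f ^ N * l.prod * rest.prod) by
        rw [hrest, Multiset.prod_add, Multiset.prod_replicate]; ring]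
      exact gradeZero_mul_mem (by omega) hc hmem'
    | succ j ih =>
      intro s hs hcard x hx
      have hmem := decompose_mem_of_mem_span hF (n := n₀ + j)
        (fun x => s.prod * x ∈ ℬ 1 ^ (n₀ + (j + 1) + Multiset.card s)) (by simp)
        (fun a b ha hb => by rw [mul_add]; exact add_mem ha hb) (fun f hf c hc => by
          have := ih (f ::ₘ s) (fun g hg => (Multiset.mem_cons.1 hg).elim (fun h => h.symm ▸ hf) (hs g)) (by rw [Multiset.card_cons]; omega) c hc
          rw [Multiset.prod_cons, Multiset.card_cons] at this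
          rw [show n₀ + (j + 1) + Multiset.card s = n₀ + j + (Multiset.card s + 1) by omega,
            show s.prod * (f * c) = f * s.prod * c by ring]
          exact this) (hinF _ (by omega) x hx)
      rwa [show n₀ + j + 1 = n₀ + (j + 1) by omega, DirectSum.decompose_of_mem_same ℬ hx] at hmem
  refine ⟨n₀ + T', fun n hn => le_antisymm (fun x hx => ?_) (pow_degOne_le n)⟩
  obtain ⟨j, rfl⟩ := Nat.exists_eq_add_of_le (le_trans (Nat.le_add_right n₀ T') hn)
  simpa using main j 0 (by simp) (by simp; omega) x hx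

end Groth.Agent.S8282
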