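import Groth.Statements.S8283
import Groth.Agent.S9501
import Groth.Agent.SecDiv.Section
import Groth.Agent.FibFlat.Stalk

set_option autoImplicit false
set_option backward.isDefEq.respectTransparency false
set_option backward.isDefEq.respectTransparency.types false
universe u
open CategoryTheory CategoryTheory.Limits AlgebraicGeometry Opposite TopologicalSpace
open EGA2

namespace Groth.Agent.S8283

open IsLocalRing in
theorem ring_aux {O B F : Type u} [CommRing O] [CommRing B] [CommRing F] [IsLocalRing O] [IsLocalRing B]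
    [IsLocalRing F] [IsNoetherianRing F] (s : O →+* B) (φ : B →+* O) [IsLocalHom s]
    (hs : ∀ b, s (φ b) = b) (a : O) (ha : RingHom.ker s = Ideal.span {a}) (hreg : a ∈ nonZeroDivisors O)
    (q : O →+* F) (hq : Function.Surjective q)
    (hk : RingHom.ker q = Ideal.map φ (IsLocalRing.maximalIdeal B)) :
    ∃ _ : IsDomain F, IsDiscreteValuationRing F := by
  have hmem : ∀ b ∈ IsLocalRing.maximalIdeal B, q (φ b) = 0 := fun b hb => by
    rw [← RingHom.mem_ker, hk]; exact Ideal.mem_map_of_mem φ hb
  have has : a ∈ RingHom.ker s := ha.ge (Ideal.mem_span_singleton_self a)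
  have hdec : ∀ o, ∃ d, o = φ (s o) + a * d := fun o => by
    have : o - φ (s o) ∈ RingHom.ker s := by rw [RingHom.mem_ker, map_sub, hs, sub_self]
    rw [ha, Ideal.mem_span_singleton'] at this
    obtain ⟨d, hd⟩ := this
    exact ⟨d, by rw [mul_comm a d, hd]; ring⟩
  have haM : a ∈ IsLocalRing.maximalIdeal O := by
    rw [IsLocalRing.mem_maximalIdeal]
    intro hu
    have := hu.map s
    rw [RingHom.mem_ker.1 has] at this
    exact not_isUnit_zero this
  haveI : IsLocalHom q := IsLocalHom.of_surjective q hq
  have hmax : IsLocalRing.maximalIdeal F = Ideal.span {q a} := by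
    refine le_antisymm (fun z hz => ?_) ?_
    · obtain ⟨o, rfl⟩ := hq z
      have hsm : s o ∈ IsLocalRing.maximalIdeal B := fun hu => hz ((isUnit_of_map_unit s o hu).map q)
      obtain ⟨d, hd⟩ := hdec o
      rw [hd, map_add, hmem _ hsm, zero_add, map_mul]
      exact Ideal.mul_mem_right _ _ (Ideal.mem_span_singleton_self _)
    · rw [Ideal.span_le, Set.singleton_subset_iff]
      exact fun hu => haM (isUnit_of_map_unit q a hu)
  have hnzd : ∀ z, q a * z = 0 → z = 0 := by
    intro z hz
    obtain ⟨o, rfl⟩ := hq z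
    rw [← map_mul, ← RingHom.mem_ker, hk, Ideal.map] at hz
    obtain ⟨n, c, g, hg⟩ := Submodule.mem_span_set'.1 hz
    choose mm hmm hmm' using fun i => (g i).2
    choose d hd using fun i => hdec (c i)
    have h0 : ∑ i, s (c i) * mm i = 0 := by
      have := congrArg s hg
      rw [map_sum, map_mul s a, RingHom.mem_ker.1 has, zero_mul] at this
      refine Eq.trans (Finset.sum_congr rfl fun i _ => ?_) this
      rw [smul_eq_mul, map_mul, ← hmm' i, hs]
    have h1 : a * o = a * ∑ i, φ (mm i) * d i := by
      rw [← hg, Finset.mul_sum]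
      have h2 : ∑ i, φ (s (c i)) * φ (mm i) = 0 := by
        rw [← map_zero φ, ← h0, map_sum]; simp
      rw [← sub_eq_zero, ← Finset.sum_sub_distrib, ← h2]
      refine Finset.sum_congr rfl fun i _ => ?_
      rw [smul_eq_mul, hmm' i]
      conv_lhs => enter [1, 1]; rw [hd i]
      ring
    rw [mul_cancel_left_mem_nonZeroDivisors hreg] at h1
    rw [h1, map_sum]
    exact Finset.sum_eq_zero fun i _ => by rw [map_mul, hmem _ (hmm i), zero_mul]
  have hkr : ∀ z : F, z ≠ 0 → ∃ n u, IsUnit u ∧ z = q a ^ n * u := by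
    intro z hz
    have hinf := Ideal.iInf_pow_eq_bot_of_isLocalRing (IsLocalRing.maximalIdeal F)
      (IsLocalRing.maximalIdeal.isMaximal F).ne_top
    have : ∃ n, z ∉ IsLocalRing.maximalIdeal F ^ n := by
      by_contra hcon
      push Not at hcon
      exact hz (Ideal.mem_bot.1 (hinf ▸ Ideal.mem_iInf.2 hcon))
    classical
    have h1 := Nat.find_spec this
    obtain ⟨n, hn⟩ := Nat.exists_eq_succ_of_ne_zero (show Nat.find this ≠ 0 from fun h => by
      rw [h, pow_zero, Ideal.one_eq_top] at h1; exact h1 trivial)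
    have h2 : z ∈ IsLocalRing.maximalIdeal F ^ n := not_not.1 (Nat.find_min this (by omega))
    rw [hn] at h1
    rw [hmax, Ideal.span_singleton_pow, Ideal.mem_span_singleton'] at h2
    obtain ⟨u, hu⟩ := h2
    refine ⟨n, u, by_contra fun hnu => h1 ?_, by rw [← hu, mul_comm]⟩
    have hu' : u ∈ IsLocalRing.maximalIdeal F := hnu
    rw [hmax, Ideal.mem_span_singleton'] at hu'
    obtain ⟨w, hw⟩ := hu'
    rw [hmax, Ideal.span_singleton_pow, Ideal.mem_span_singleton']
    exact ⟨w, by rw [← hu, ← hw, pow_succ]; ring⟩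
  have hpow : ∀ n (z : F), q a ^ n * z = 0 → z = 0 := by
    intro n
    induction n with
    | zero => simp
    | succ n ih => intro z hz; rw [pow_succ, mul_assoc] at hz; exact hnzd z (ih _ hz)
  haveI : NoZeroDivisors F := ⟨fun {x y} hxy => by
    by_contra hcon
    push Not at hcon
    obtain ⟨n, u, hu, rfl⟩ := hkr x hcon.1
    rw [mul_assoc] at hxy
    exact hcon.2 (hu.mul_right_eq_zero.1 (hpow n _ hxy))⟩
  haveI hdom : IsDomain F := NoZeroDivisors.to_isDomain F
  refine ⟨hdom, ?_⟩
  have hne : q a ≠ 0 := fun h => one_ne_zero (hnzd 1 (by rw [h, zero_mul]))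
  have hnf : ¬ IsField F := by
    rw [IsLocalRing.isField_iff_maximalIdeal_eq, hmax, Ideal.span_singleton_eq_bot]
    exact hne
  exact ((IsDiscreteValuationRing.TFAE F hnf).out 4 0 : Submodule.IsPrincipal (IsLocalRing.maximalIdeal F) ↔ IsDiscreteValuationRing F).1 ⟨⟨q a, hmax⟩⟩

theorem aux {X V : Scheme.{u}} (π : V ⟶ X) (j : X ⟶ V) [IsClosedImmersion j] (hj : j ≫ π = 𝟙 X)
    (hJ : BlowUp.IsEffCartierIdeal j.ker) (x : X) (z : V) (hz : z = j x) {F : Type u} [CommRing F] [IsLocalRing F]
    [IsNoetherianRing F] (q : V.presheaf.stalk z →+* F) (hq : Function.Surjective q)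
    (hk : RingHom.ker q = Ideal.map (π.stalkMap z).hom (IsLocalRing.maximalIdeal (X.presheaf.stalk (π z)))) :
    ∃ _ : IsDomain F, IsDiscreteValuationRing F := by
  subst hz
  have hxy : π (j x) = x := congrArg (fun t : X ⟶ X => t x) hj
  let φ : X.presheaf.stalk x →+* V.presheaf.stalk (j x) := FibFlat.sm π (j x) x hxy
  have hs : ∀ o, (j.stalkMap x).hom (φ o) = o := by
    intro o
    have h1 := FibFlat.sm_comp j π x (j x) x rfl hxy
    rw [FibFlat.sm_congr hj x x _, FibFlat.sm_self j x] at h1
    refine ((RingHom.congr_fun h1 o).symm.trans ?_)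
    show FibFlat.sm (𝟙 X) x ((𝟙 X : X ⟶ X) x) rfl o = o
    rw [FibFlat.sm_self]
    simp
  have hmap : ∀ (w : X) (h : π (j x) = w),
      Ideal.map (FibFlat.sm π (j x) w h) (IsLocalRing.maximalIdeal (X.presheaf.stalk w)) =
        Ideal.map (π.stalkMap (j x)).hom (IsLocalRing.maximalIdeal (X.presheaf.stalk (π (j x)))) := by
    rintro w rfl
    rw [FibFlat.sm_self]
  obtain ⟨U, hxU, f, hf, hfU⟩ := hJ (j x)
  haveI := U.2.isLocalization_stalk ⟨j x, hxU⟩
  letI : Algebra Γ(V, U.1) (V.presheaf.stalk (j x)) := (V.presheaf.germ U.1 (j x) hxU).hom.toAlgebra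
  refine ring_aux (j.stalkMap x).hom φ hs (V.presheaf.germ U.1 (j x) hxU f) ?_ ?_ q hq (hk.trans (hmap x hxy).symm)
  · rw [RegNear.ker_stalkMap_of_surjective j x U.2 (U.2.preimage j) (j.app_surjective U.1 U.2) hxU,
      ← Scheme.Hom.ker_apply, hfU, Ideal.map_span, Set.image_singleton]
  · exact IsLocalization.map_nonZeroDivisors_le (U.2.primeIdealOf ⟨j x, hxU⟩).asIdeal.primeCompl _ (Submonoid.mem_map_of_mem _ hf)

/-- Let π : V → X be locally of finite type and j : X → V a section of π that is a closed immersion with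
invertible ideal sheaf. Then for every x ∈ X the local ring at j(x) of the fibre π⁻¹(π(j(x))) =
π⁻¹(x) is a regular local ring of dimension one, i.e. a discrete valuation ring (so j(x) lies on a
single irreducible component of the fibre; the completion of that local ring is then a power-series
ring in one variable over the residue field of x). (The published statement assumes π of finite
type; this row assumes only that π is locally of finite type, which is all the proof uses: it needs
no more than the Noetherian property of the local rings of the fibre.) -/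
theorem result {X V : Scheme.{u}} (π : V ⟶ X) [LocallyOfFiniteType π]
    (j : X ⟶ V) [IsClosedImmersion j] (hj : j ≫ π = 𝟙 X) (hJ : BlowUp.IsEffCartierIdeal j.ker) (x : X) :
    ∃ _ : IsDomain ((π.fiber (π.base (j.base x))).presheaf.stalk (π.asFiber (j.base x))),
      IsDiscreteValuationRing ((π.fiber (π.base (j.base x))).presheaf.stalk (π.asFiber (j.base x))) := by
  let y := π.asFiber (j.base x)
  haveI : IsLocallyNoetherian (π.fiber (π.base (j.base x))) :=
    LocallyOfFiniteType.isLocallyNoetherian (π.fiberToSpecResidueField _)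
  obtain ⟨hq, hk⟩ := Groth.Agent.S9501.result π (π.base (j.base x)) y
  exact aux π j hj hJ x _ (π.fiberι_asFiber (j.base x)) ((π.fiberι _).stalkMap y).hom hq hk

end Groth.Agent.S8283
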