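import Groth.Statements.S8294
import Groth.Agent.ContrX.Proper
import Groth.Agent.ContrX.OfContraction

set_option autoImplicit false
set_option backward.isDefEq.respectTransparency false
set_option backward.isDefEq.respectTransparency.types false
universe u
open CategoryTheory CategoryTheory.Limits AlgebraicGeometry Opposite TopologicalSpace
open scoped HomogeneousIdeal
noncomputable section
open EGA2
open Groth.Agent

namespace Groth.Agent.S8294

/-- Let p : X → Y be a proper morphism, L an invertible O_X-module, V = V(L) = Spec(Sym L) the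
associated line bundle (Sym L the graded symmetric algebra of L, with degree-zero part O_X), j0 : X
→ V its zero section and V0 the open complement of j0(X). Then L is ample relative to p if and only
if there are a scheme C over Y with structure morphism g, a section ε of g and a proper morphism q :
V → C over Y with j0 ≫ q = p ≫ ε, such that the restriction of q to V0 is a quasi-compact open
immersion whose image is exactly the complement of ε(Y) (q contracts the zero section onto ε(Y) and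
is an isomorphism of V0 onto C − ε(Y)). -/
theorem result {X Y : Scheme.{u}} (p : X ⟶ Y) [IsProper p]
    (L : X.Modules) (hL : PicF.IsInvertible L) (hLq : Coh.IsQCoh L) (𝒜 : RelProj.QCGrAlg X) (jL : L ⟶ 𝒜.toModule)
    (hA : RelProj.IsGrSymAlg L 𝒜 jL) (h0 : RelCone.StrZeroBij 𝒜)
    (aug : 𝒜.toQCAlg ⟶ RelSpec.QCAlg.unit X) (haug : RelCone.IsAugmentation 𝒜 aug)
    (j0 : X ⟶ 𝒜.toQCAlg.spec) (hj0 : RelCone.IsVertex 𝒜 aug j0)
    (V0 : 𝒜.toQCAlg.spec.Opens) (hV0 : (V0 : Set 𝒜.toQCAlg.spec) = (Set.range j0.base)ᶜ) :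
    RelAmple.IsRelAmple p L ↔
      ∃ (C : Scheme.{u}) (g : C ⟶ Y) (ε : Y ⟶ C) (q : 𝒜.toQCAlg.spec ⟶ C),
        ε ≫ g = 𝟙 Y ∧ q ≫ g = 𝒜.toQCAlg.π ≫ p ∧ j0 ≫ q = p ≫ ε ∧ IsProper q ∧
          IsOpenImmersion (V0.ι ≫ q) ∧ QuasiCompact (V0.ι ≫ q) ∧
            Set.range (V0.ι ≫ q).base = (Set.range ε.base)ᶜ := by
  refine ⟨fun hamp => ?_, ?_⟩
  · refine ⟨_, ContrX.contrπ p j0 hj0.comp_π, ContrX.contrVertex p j0 hj0.comp_π, ContrX.contrMap p j0 hj0.comp_π,
      ContrX.contrVertex_comp _ _ _, ContrX.contrMap_comp _ _ _, ContrX.zero_contrMap _ _ _, ?_, ?_, ?_, ?_⟩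
    · exact ContrX.isProper_contrMap p j0 hj0.comp_π hL hLq hA h0 aug haug hj0 hamp
    · exact ContrX.isOpenImmersion_contr p j0 hj0.comp_π hL hLq hA h0 aug haug hj0 V0 hV0 hamp
    · exact ContrX.quasiCompact_contr p j0 hj0.comp_π hL hLq hA h0 aug haug hj0 V0 hV0
    · exact ContrX.range_contr p j0 hj0.comp_π hL hLq hA h0 aug haug hj0 V0 hV0 hamp
  · rintro ⟨C, g, ε, q, hεg, hqg, hjq, -, h1, -, hrange⟩
    exact ContrX.isRelAmple_of_contraction hL hLq hA h0 aug haug hj0 p g ε q V0 hV0 hεg hqg hjq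
      (hrange ▸ Set.compl_inter_self _)

end Groth.Agent.S8294
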