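import Groth.Statements.S8297
import Groth.Agent.ConeX.ProjCone

set_option autoImplicit false
set_option backward.isDefEq.respectTransparency false
set_option backward.isDefEq.respectTransparency.types false
universe u
open CategoryTheory CategoryTheory.Limits AlgebraicGeometry Opposite TopologicalSpace
open scoped HomogeneousIdeal
open Groth.Agent HomogeneousLocalization
noncomputable section
open EGA2

namespace Groth.Agent.S8297

/-- The relation i(C) = Ĉ − j(X): let 𝒮 be a quasi-coherent positively graded O_Y-algebra with 𝒮_0 =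
O_Y, Ŝ = 𝒮[z] (given through a graded homomorphism ι : 𝒮 → Ŝ and a global section z of degree one,
the map 𝒮(U)[X] → Ŝ(U), X ↦ z, being bijective over every affine open U), C = Spec(𝒮) the affine
cone, Ĉ = Proj(Ŝ) the projective cone and X = Proj(𝒮), each relative homogeneous spectrum given with
its charts; let i : C → Ĉ be the canonical open immersion (chartwise Spec of Ŝ(U)_(z) → 𝒮(U), z ↦ 1,
followed by the inclusion of D_+(z)), θ : Ŝ → 𝒮 the graded retraction of ι sending z to 0, and j : X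
→ Ĉ the morphism chartwise induced by θ (the immersion of the locus at infinity). Then the
underlying set of the image of i is the complement of the image of j. -/
theorem result {Y PC P : Scheme.{u}} (𝒮 𝒮h : RelProj.QCGrAlg Y) (h0 : RelCone.StrZeroBij 𝒮)
    (ι : 𝒮.toQCAlg ⟶ 𝒮h.toQCAlg) (z : 𝒮h.presheaf.obj (op ⊤)) (hz : RelCone.IsPolyOver 𝒮 𝒮h ι z)
    (pC : PC ⟶ Y)
    (chartC : ∀ (U : Y.Opens) (hU : IsAffineOpen U), (((pC ⁻¹ᵁ U : PC.Opens) : Scheme.{u}) ≅ Proj (𝒮h.deg U hU)))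
    (hPC : RelProj.IsRelProj 𝒮h pC chartC)
    (i : 𝒮.toQCAlg.spec ⟶ PC) (hi : RelCone.IsConeImm 𝒮 hz pC chartC i)
    (θ : 𝒮h.toQCAlg ⟶ 𝒮.toQCAlg) (hθ : RelProj.IsGradedHom θ) (hιθ : ι ≫ θ = 𝟙 _)
    (hθz : (θ.hom.app (op ⊤)).hom z = 0)
    (hirr : ∀ (U : Y.Opens) (hU : IsAffineOpen U),
      (𝒮.deg U hU)₊ ≤ ((𝒮h.deg U hU)₊).map (RelProj.gradedHomAt θ hθ U hU))
    (p : P ⟶ Y)
    (chart : ∀ (U : Y.Opens) (hU : IsAffineOpen U), (((p ⁻¹ᵁ U : P.Opens) : Scheme.{u}) ≅ Proj (𝒮.deg U hU)))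
    (hP : RelProj.IsRelProj 𝒮 p chart) (j : P ⟶ PC) (hj : RelProj.IsRelProjMap θ hθ hirr chartC chart j) :
    Set.range i.base = (Set.range j.base)ᶜ := by
  have hjemb : ∀ (U : Y.Opens) (hU : IsAffineOpen U),
      RelProj.emb p chart U hU ≫ j = Proj.map (RelProj.gradedHomAt θ hθ U hU) (hirr U hU) ≫ RelProj.emb pC chartC U hU := by
    intro U hU
    show ((chart U hU).inv ≫ (p ⁻¹ᵁ U).ι) ≫ j = _
    rw [Category.assoc, hj U hU, Iso.inv_hom_id_assoc]
    rfl
  have hrange : ∀ (U : Y.Opens) (hU : IsAffineOpen U),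
      Set.range (ProjectiveSpectrum.comap (RelProj.gradedHomAt θ hθ U hU) (hirr U hU)) =
        ((ProjectiveSpectrum.basicOpen (𝒮h.deg U hU) (RelCone.restrictTop 𝒮h z U) :
          TopologicalSpace.Opens (ProjectiveSpectrum (𝒮h.deg U hU))) : Set (ProjectiveSpectrum (𝒮h.deg U hU)))ᶜ := by
    intro U hU
    refine ConeX.range_comap_eq (RelProj.gradedHomAt ι hz.graded U hU) _ (hz.deg_z U hU) (ConeX.bij_eval hz U hU)
      (RelProj.gradedHomAt θ hθ U hU)
      (fun a => congr($(NatTrans.congr_app (congrArg RelSpec.QCAlg.Hom.hom hιθ) (op U)).hom a)) ?_ _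
    show (𝒮h.presheaf.map (homOfLE le_top).op ≫ θ.hom.app (op U)).hom z = 0
    rw [θ.hom.naturality, CommRingCat.comp_apply, hθz, map_zero]
  ext x
  obtain ⟨_, ⟨U, hU, rfl⟩, hxU, -⟩ := Y.isBasis_affineOpens.exists_subset_of_mem_open
    (Set.mem_univ (pC x)) isOpen_univ
  obtain ⟨y, rfl⟩ := (Proj16.opensRange_emb (p := pC) (chart := chartC) U hU).ge hxU
  rw [ConeX.mem_range_coneImm_iff hz hPC hi hU y, Set.mem_compl_iff, iff_not_comm]
  constructor
  · rintro ⟨t, ht⟩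
    obtain ⟨_, ⟨V, hV, rfl⟩, htV, -⟩ := Y.isBasis_affineOpens.exists_subset_of_mem_open
      (Set.mem_univ (p t)) isOpen_univ
    obtain ⟨s, rfl⟩ := (Proj16.opensRange_emb (p := p) (chart := chart) V hV).ge htV
    rw [← Scheme.Hom.comp_apply, hjemb, Scheme.Hom.comp_apply] at ht
    rw [ConeX.mem_zOpen_iff hPC hU hV y _ ht.symm]
    exact Set.ext_iff.mp (hrange V hV) _ |>.mp ⟨s, rfl⟩
  · intro hy
    obtain ⟨s, hs⟩ := (Set.ext_iff.mp (hrange U hU) y).mpr hy
    refine ⟨RelProj.emb p chart U hU s, ?_⟩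
    rw [← Scheme.Hom.comp_apply, hjemb, Scheme.Hom.comp_apply]
    exact congrArg (RelProj.emb pC chartC U hU) hs

end Groth.Agent.S8297
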