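import Groth.Statements.S8304
import Groth.Agent.ConeX.ProjCone
import Groth.Agent.SymX.SymAlg
import Groth.Agent.AModX.Exact

set_option autoImplicit false
set_option backward.isDefEq.respectTransparency false
set_option backward.isDefEq.respectTransparency.types false
universe u
open CategoryTheory CategoryTheory.Limits AlgebraicGeometry Opposite TopologicalSpace
open scoped HomogeneousIdeal
noncomputable section
open EGA2
open Groth.Agent HomogeneousLocalization

namespace Groth.Agent.S8304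

/-- At the level of graded algebras: let E be a quasi-coherent O_Y-module and 𝒮 = Sym(E) its graded
symmetric algebra (j : E → 𝒮 landing in degree one), and let Ŝ = 𝒮[z] be given through a graded
homomorphism ι : 𝒮 → Ŝ and a global section z of degree one with 𝒮(U)[X] → Ŝ(U), X ↦ z, bijective
over every affine open U. If k : O_Y → Ŝ is a module homomorphism sending the unit section to z over
every open, then Ŝ together with the map E ⊕ O_Y → Ŝ whose components are j followed by ι, and k, is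
the graded symmetric algebra of E ⊕ O_Y. Consequently the projective cone of V(E) = Spec(Sym E),
which is Proj(Ŝ), is the projective bundle P(E ⊕ O_Y), and its locus at infinity Proj(𝒮) is P(E). -/
theorem result {Y : Scheme.{u}} (E : Y.Modules) (hE : Coh.IsQCoh E)
    (𝒮 𝒮h : RelProj.QCGrAlg Y) (j : E ⟶ 𝒮.toModule) (hS : RelProj.IsGrSymAlg E 𝒮 j)
    (ι : 𝒮.toQCAlg ⟶ 𝒮h.toQCAlg) (z : 𝒮h.presheaf.obj (op ⊤)) (hz : RelCone.IsPolyOver 𝒮 𝒮h ι z)
    (k : Coh.structureModule Y ⟶ 𝒮h.toModule)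
    (hk : ∀ U : Y.Opens, (k.app U) (1 : Γ(Y, U)) = RelCone.restrictTop 𝒮h z U) :
    RelProj.IsGrSymAlg (E ⊞ Coh.structureModule Y) 𝒮h
      (biprod.desc (j ≫ RelSpec.QCAlg.Hom.toModuleMap ι) k) := by
  classical
  have one_res : ∀ U : Y.Opens, (Y.presheaf.map (homOfLE (le_top : U ≤ ⊤)).op).hom (1 : Γ(Y, ⊤)) = 1 := fun U => map_one _
  have hsplit : ∀ (U : Y.Opens) (x : Γ(E ⊞ Coh.structureModule Y, U)),
      x = (biprod.inl : E ⟶ E ⊞ Coh.structureModule Y).app U ((biprod.fst : E ⊞ Coh.structureModule Y ⟶ E).app U x) +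
        (biprod.inr : Coh.structureModule Y ⟶ E ⊞ Coh.structureModule Y).app U
          ((biprod.snd : E ⊞ Coh.structureModule Y ⟶ Coh.structureModule Y).app U x) := by
    intro U x
    exact (congrArg (fun χ : (E ⊞ Coh.structureModule Y) ⟶ (E ⊞ Coh.structureModule Y) => χ.app U x)
      (biprod.total (X := E) (Y := Coh.structureModule Y))).symm
  have hkU : ∀ (U : Y.Opens) (r : Γ(Y, U)),
      k.app U r = (𝒮h.str.app (op U)).hom r * RelCone.restrictTop 𝒮h z U := fun U r => by
    rw [← hk U]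
    refine Eq.trans (congrArg (k.app U) (mul_one r).symm) ?_
    exact Scheme.Modules.Hom.app_smul k r (1 : Γ(Y, U))
  refine ⟨fun B φ => ?_, fun U hU x => ?_⟩
  · obtain ⟨ψ₁, hψ₁, huniq⟩ := hS.1 B (biprod.inl ≫ φ)
    let φ₂ := biprod.inr ≫ φ
    let b : B.presheaf.obj (op ⊤) := φ₂.app ⊤ (1 : Γ(Y, ⊤))
    have hb : ∀ U : Y.Opens, (B.presheaf.map (homOfLE (le_top : U ≤ ⊤)).op).hom b = φ₂.app U (1 : Γ(Y, U)) := by
      intro U
      have h := AModX.app_res φ₂ (homOfLE (le_top : U ≤ ⊤)).le (1 : Γ(Y, ⊤))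
      erw [one_res U] at h
      exact h.symm
    let L : ∀ a : Y.AffineZariskiSite, 𝒮h.presheaf.obj (op a.1) ⟶ B.presheaf.obj (op a.1) := fun a =>
      CommRingCat.ofHom ((Polynomial.eval₂RingHom (ψ₁.hom.app (op a.1)).hom
        ((B.presheaf.map (homOfLE (le_top : a.1 ≤ ⊤)).op).hom b)).comp (hz.polyEquiv a.1 a.2).symm.toRingHom)
    have hLι : ∀ (a : Y.AffineZariskiSite) x, (L a).hom ((ι.hom.app (op a.1)).hom x) = (ψ₁.hom.app (op a.1)).hom x := by
      intro a x
      show Polynomial.eval₂RingHom _ _ ((hz.polyEquiv a.1 a.2).symm ((ι.hom.app (op a.1)).hom x)) = _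
      rw [show (hz.polyEquiv a.1 a.2).symm ((ι.hom.app (op a.1)).hom x) = Polynomial.C x from
        (RingEquiv.symm_apply_eq _).mpr (Polynomial.eval₂_C _ _).symm]
      exact Polynomial.eval₂_C _ _
    have hLz : ∀ a : Y.AffineZariskiSite, (L a).hom (RelCone.restrictTop 𝒮h z a.1) =
        (B.presheaf.map (homOfLE (le_top : a.1 ≤ ⊤)).op).hom b := by
      intro a
      show Polynomial.eval₂RingHom _ _ ((hz.polyEquiv a.1 a.2).symm (RelCone.restrictTop 𝒮h z a.1)) = _
      rw [show (hz.polyEquiv a.1 a.2).symm (RelCone.restrictTop 𝒮h z a.1) = Polynomial.X from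
        (RingEquiv.symm_apply_eq _).mpr (Polynomial.eval₂_X _ _).symm]
      exact Polynomial.eval₂_X _ _
    obtain ⟨ψ, hψ⟩ := SymX.exists_homQCAlg 𝒮h.toQCAlg B L
      (fun {a c} h => CommRingCat.hom_ext (ConeX.hom_ext' hz a.1 a.2 (fun x => by
        show (L c).hom ((𝒮h.presheaf.map _).hom ((ι.hom.app (op a.1)).hom x)) =
          (B.presheaf.map _).hom ((L a).hom ((ι.hom.app (op a.1)).hom x))
        rw [hLι, ← NatTrans.naturality_apply ι.hom, hLι, ← NatTrans.naturality_apply ψ₁.hom])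
        (by
          show (L c).hom ((𝒮h.presheaf.map _).hom (RelCone.restrictTop 𝒮h z a.1)) =
            (B.presheaf.map _).hom ((L a).hom (RelCone.restrictTop 𝒮h z a.1))
          rw [ConeX.res_restrictTop, hLz, hLz, ← CommRingCat.comp_apply, ← B.presheaf.map_comp]
          rfl)))
      (fun a => by
        rw [← ι.comm, NatTrans.comp_app, Category.assoc, show ι.hom.app (op a.1) ≫ L a = ψ₁.hom.app (op a.1) from
          CommRingCat.hom_ext (RingHom.ext (hLι a)), ← NatTrans.comp_app, ψ₁.comm])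
    refine ⟨ψ, ?_, fun ψ' hψ' => SymX.homQCAlg_ext fun a => ?_⟩
    · refine SymX.homModule_ext fun a x => ?_
      rw [hsplit a.1 x]
      simp only [map_add]
      congr 1
      · show (ψ.hom.app (op a.1)).hom ((biprod.inl ≫ biprod.desc (j ≫ RelSpec.QCAlg.Hom.toModuleMap ι) k).app a.1 _) =
          (biprod.inl ≫ φ).app a.1 _
        rw [biprod.inl_desc, hψ a, ← hψ₁]
        exact hLι a _
      · show (ψ.hom.app (op a.1)).hom ((biprod.inr ≫ biprod.desc (j ≫ RelSpec.QCAlg.Hom.toModuleMap ι) k).app a.1 _) =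
          φ₂.app a.1 _
        rw [biprod.inr_desc]
        generalize (biprod.snd : E ⊞ Coh.structureModule Y ⟶ Coh.structureModule Y).app a.1 x = r
        refine Eq.trans (congrArg (ψ.hom.app (op a.1)).hom (hkU a.1 r)) ?_
        rw [map_mul, ← CommRingCat.comp_apply, ← NatTrans.comp_app, ψ.comm, hψ a, hLz, hb]
        refine Eq.trans ?_ (congrArg (φ₂.app a.1) (mul_one (M := Γ(Y, a.1)) r))
        exact (Scheme.Modules.Hom.app_smul φ₂ r (1 : Γ(Y, a.1))).symm
    · rw [hψ a]
      refine CommRingCat.hom_ext (ConeX.hom_ext' hz a.1 a.2 (fun x => ?_) ?_)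
      · rw [hLι]
        have e : ι ≫ ψ' = ψ₁ := huniq _ (by
          refine SymX.homModule_ext fun c y => ?_
          have h := congrArg (fun χ : (E ⊞ Coh.structureModule Y) ⟶ B.toModule =>
            χ.app c.1 ((biprod.inl : E ⟶ E ⊞ Coh.structureModule Y).app c.1 y)) hψ'
          refine Eq.trans ?_ h
          show _ = (ψ'.hom.app (op c.1)).hom ((biprod.inl ≫ biprod.desc (j ≫ RelSpec.QCAlg.Hom.toModuleMap ι) k).app c.1 y)
          rw [biprod.inl_desc]
          rfl)
        rw [← e]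
        rfl
      · rw [hLz, hb]
        have h := congrArg (fun χ : (E ⊞ Coh.structureModule Y) ⟶ B.toModule =>
            χ.app a.1 ((biprod.inr : Coh.structureModule Y ⟶ E ⊞ Coh.structureModule Y).app a.1 (1 : Γ(Y, a.1)))) hψ'
        refine Eq.trans ?_ h
        show _ = (ψ'.hom.app (op a.1)).hom ((biprod.inr ≫ biprod.desc (j ≫ RelSpec.QCAlg.Hom.toModuleMap ι) k).app a.1 _)
        rw [biprod.inr_desc, hk]
  · rw [hsplit U x, map_add]
    refine add_mem ?_ ?_
    · show (biprod.inl ≫ biprod.desc (j ≫ RelSpec.QCAlg.Hom.toModuleMap ι) k).app U _ ∈ _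
      rw [biprod.inl_desc]
      exact hz.graded U hU 1 _ (hS.2 U hU _)
    · show (biprod.inr ≫ biprod.desc (j ≫ RelSpec.QCAlg.Hom.toModuleMap ι) k).app U _ ∈ _
      rw [biprod.inr_desc]
      erw [hkU]
      exact SetLike.mul_mem_graded (𝒮h.str_mem U hU _) (hz.deg_z U hU)

end Groth.Agent.S8304
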