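import Groth.Statements.S8309
import Groth.Agent.ConeX.AffineCone
import Groth.Agent.ConeX.Vertex

set_option autoImplicit false
set_option backward.isDefEq.respectTransparency false
set_option backward.isDefEq.respectTransparency.types false
universe u
open CategoryTheory CategoryTheory.Limits AlgebraicGeometry Opposite TopologicalSpace
open scoped HomogeneousIdeal
open Groth.Agent HomogeneousLocalization
noncomputable section
open EGA2

namespace Groth.Agent.S8309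

/-- The canonical retraction of the pointed affine cone: let 𝒮 be a quasi-coherent positively graded
O_Y-algebra with 𝒮_0 = O_Y, Ŝ = 𝒮[z] (graded homomorphism ι : 𝒮 → Ŝ and a degree-one global section
z, polynomial over affine opens), C = Spec(𝒮), X = Proj(𝒮) and Ĉ = Proj(Ŝ) with their charts, E ⊆ C
and Ê ⊆ Ĉ the pointed cones, i : C → Ĉ the canonical open immersion and p : Ê → X the canonical
retraction (the morphism which on each affine piece Spec Ŝ(U)_(ι f), f ∈ 𝒮(U) homogeneous of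
positive degree, is Spec of 𝒮(U)_(f) → Ŝ(U)_(ι f) followed by the chart of X). Then the image of E
under i lies in Ê, and for the induced morphism i' : E → Ê the composite π = i' ≫ p : E → X is
affine and surjective. -/
theorem result {Y PC P : Scheme.{u}} (𝒮 𝒮h : RelProj.QCGrAlg Y) (h0 : RelCone.StrZeroBij 𝒮)
    (ι : 𝒮.toQCAlg ⟶ 𝒮h.toQCAlg) (z : 𝒮h.presheaf.obj (op ⊤)) (hz : RelCone.IsPolyOver 𝒮 𝒮h ι z)
    (pC : PC ⟶ Y)
    (chartC : ∀ (U : Y.Opens) (hU : IsAffineOpen U), (((pC ⁻¹ᵁ U : PC.Opens) : Scheme.{u}) ≅ Proj (𝒮h.deg U hU)))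
    (hPC : RelProj.IsRelProj 𝒮h pC chartC)
    (p : P ⟶ Y)
    (chart : ∀ (U : Y.Opens) (hU : IsAffineOpen U), (((p ⁻¹ᵁ U : P.Opens) : Scheme.{u}) ≅ Proj (𝒮.deg U hU)))
    (hP : RelProj.IsRelProj 𝒮 p chart)
    (i : 𝒮.toQCAlg.spec ⟶ PC) (hi : RelCone.IsConeImm 𝒮 hz pC chartC i)
    (r : ((RelCone.pointedProjCone 𝒮 hz pC chartC : PC.Opens) : Scheme.{u}) ⟶ P)
    (hr : (∀ (U : Y.Opens) (hU : IsAffineOpen U) (d : ℕ) (hd : 0 < d) (f : 𝒮.presheaf.obj (op U)) (hf : f ∈ 𝒮.deg U hU d)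
        (g : Spec (CommRingCat.of (HomogeneousLocalization.Away (𝒮h.deg U hU) ((RelProj.gradedHomAt ι hz.graded U hU) f))) ⟶
          ((RelCone.pointedProjCone 𝒮 hz pC chartC : PC.Opens) : Scheme.{u})),
        g ≫ (RelCone.pointedProjCone 𝒮 hz pC chartC).ι =
            Proj.awayι (𝒮h.deg U hU) ((RelProj.gradedHomAt ι hz.graded U hU) f) ((RelProj.gradedHomAt ι hz.graded U hU).2 hf) hd ≫
              RelProj.emb pC chartC U hU →
          g ≫ r =
            Spec.map (CommRingCat.ofHom (HomogeneousLocalization.Away.map (RelProj.gradedHomAt ι hz.graded U hU) f)) ≫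
              Proj.awayι (𝒮.deg U hU) f hf hd ≫ RelProj.emb p chart U hU)) :
    (RelCone.pointedCone 𝒮 : 𝒮.toQCAlg.spec.Opens) ≤ i ⁻¹ᵁ (RelCone.pointedProjCone 𝒮 hz pC chartC) ∧
      ∀ i' : ((RelCone.pointedCone 𝒮 : 𝒮.toQCAlg.spec.Opens) : Scheme.{u}) ⟶ ((RelCone.pointedProjCone 𝒮 hz pC chartC : PC.Opens) : Scheme.{u}),
        i' ≫ (RelCone.pointedProjCone 𝒮 hz pC chartC).ι = (RelCone.pointedCone 𝒮).ι ≫ i →
          IsAffineHom (i' ≫ r) ∧ Function.Surjective (i' ≫ r).base := by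
  have key : ∀ (W : PC.Opens), W = RelProj.domQ (RelProj.QGrHom.ofHom ι hz.graded) pC chartC →
      ∀ r : (W : Scheme.{u}) ⟶ P, ConeX.ChartPred ι hz.graded p pC chart chartC W r →
      (RelCone.pointedCone 𝒮 : 𝒮.toQCAlg.spec.Opens) ≤ i ⁻¹ᵁ W ∧
        ∀ i' : ((RelCone.pointedCone 𝒮 : 𝒮.toQCAlg.spec.Opens) : Scheme.{u}) ⟶ (W : Scheme.{u}),
          i' ≫ W.ι = (RelCone.pointedCone 𝒮).ι ≫ i →
            IsAffineHom (i' ≫ r) ∧ Function.Surjective (i' ≫ r).base := by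
    rintro _ rfl r hr
    have hr' := (ConeX.chartPred_iff hP _ r).mp hr
    refine ⟨fun x hx => (ConeX.coneImm_mem_iff hz hPC hi x).mpr hx, fun i' hi' => ?_⟩
    let E : 𝒮.toQCAlg.spec.Opens := RelCone.pointedCone 𝒮
    have hcomp : (i' ≫ r) ≫ p = E.ι ≫ 𝒮.toQCAlg.π := by
      rw [Category.assoc, (Proj16.existsUnique_projQMapOn (RelProj.QGrHom.ofHom ι hz.graded) hP hPC).2 r hr',
        Category.comp_id, reassoc_of% hi', ConeX.coneImm_comp hz hPC hi]
    have hmem : ∀ (U : Y.Opens) (hU : IsAffineOpen U) (d : ℕ) (hd : 0 < d) (f : 𝒮.presheaf.obj (op U))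
        (hf : f ∈ 𝒮.deg U hU d) (x : (E : Scheme.{u})) (t : Spec (𝒮.presheaf.obj (op U))),
        E.ι x = 𝒮.toQCAlg.ι U hU t →
        ((i' ≫ r) x ∈ (RelProj.emb p chart U hU) ''ᵁ Proj.basicOpen (𝒮.deg U hU) f ↔ f ∉ t.asIdeal) := by
      intro U hU d hd f hf x t hxt
      rw [Scheme.Hom.comp_apply]
      refine ConeX.retraction_coneImm_mem_iff hz hPC hP hi r hr' U hU hd f hf (i' x) t ?_
      have e : (i' ≫ (RelProj.domQ (RelProj.QGrHom.ofHom ι hz.graded) pC chartC).ι) x = i (E.ι x) := by rw [hi']; rfl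
      rw [← hxt, ← e]
      rfl
    constructor
    · refine isAffineHom_of_forall_exists_isAffineOpen _ fun u => ?_
      obtain ⟨_, ⟨U, hU, rfl⟩, huU, -⟩ := Y.isBasis_affineOpens.exists_subset_of_mem_open
        (Set.mem_univ (p u)) isOpen_univ
      obtain ⟨q, rfl⟩ := (Proj16.opensRange_emb (p := p) (chart := chart) U hU).ge huU
      obtain ⟨d, f, hd, hf, hfq⟩ := Proj16.exists_homogeneous_notMem' (𝒜 := 𝒮.deg U hU)
        (I := q.asHomogeneousIdeal.toIdeal) q.not_irrelevant_le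
      refine ⟨(RelProj.emb p chart U hU) ''ᵁ Proj.basicOpen (𝒮.deg U hU) f, ⟨q, hfq, rfl⟩,
        (Proj.isAffineOpen_basicOpen _ f hf hd).image_of_isOpenImmersion _, ?_⟩
      let D : (Spec (𝒮.presheaf.obj (op U))).Opens := PrimeSpectrum.basicOpen f
      have hDE : (𝒮.toQCAlg.ι U hU) ''ᵁ D ≤ E := by
        rintro _ ⟨t, ht, rfl⟩
        exact (ConeX.mem_pointedCone 𝒮 U hU t).mpr ((ConeX.mem_vertexCompl t).mpr
          ⟨f, HomogeneousIdeal.mem_irrelevant_of_mem _ hd hf, ht⟩)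
      have heq : (i' ≫ r) ⁻¹ᵁ ((RelProj.emb p chart U hU) ''ᵁ Proj.basicOpen (𝒮.deg U hU) f) =
          E.ι ⁻¹ᵁ ((𝒮.toQCAlg.ι U hU) ''ᵁ D) := by
        ext x
        constructor
        · intro hx
          have hxU : 𝒮.toQCAlg.π (E.ι x) ∈ U := by
            rw [← Scheme.Hom.comp_apply, ← hcomp, Scheme.Hom.comp_apply]
            obtain ⟨w, -, hw⟩ := hx
            exact (Proj16.opensRange_emb (p := p) (chart := chart) U hU).le ⟨w, hw⟩
          obtain ⟨t, ht⟩ := (𝒮.toQCAlg.π_preimage U hU).le hxU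
          exact ⟨t, (hmem U hU d hd f hf x t ht.symm).mp hx, ht⟩
        · rintro ⟨t, ht, hxt⟩
          exact (hmem U hU d hd f hf x t hxt.symm).mpr ht
      rw [heq]
      have hD : IsAffineOpen D := IsAffineOpen.Spec_basicOpen f
      exact (hD.image_of_isOpenImmersion _).preimage_of_isOpenImmersion _
        (hDE.trans (Scheme.Opens.opensRange_ι E).ge)
    · intro u
      obtain ⟨_, ⟨U, hU, rfl⟩, huU, -⟩ := Y.isBasis_affineOpens.exists_subset_of_mem_open
        (Set.mem_univ (p u)) isOpen_univ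
      obtain ⟨q, rfl⟩ := (Proj16.opensRange_emb (p := p) (chart := chart) U hU).ge huU
      let t : Spec (𝒮.presheaf.obj (op U)) := ⟨q.asHomogeneousIdeal.toIdeal, q.isPrime⟩
      have htE : 𝒮.toQCAlg.ι U hU t ∈ E := by
        obtain ⟨d, f, hd, hf, hfq⟩ := Proj16.exists_homogeneous_notMem' (𝒜 := 𝒮.deg U hU)
          (I := q.asHomogeneousIdeal.toIdeal) q.not_irrelevant_le
        exact (ConeX.mem_pointedCone 𝒮 U hU t).mpr ((ConeX.mem_vertexCompl t).mpr
          ⟨f, HomogeneousIdeal.mem_irrelevant_of_mem _ hd hf, hfq⟩)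
      refine ⟨⟨_, htE⟩, ?_⟩
      have hxU : p ((i' ≫ r) ⟨_, htE⟩) ∈ U := by
        rw [← Scheme.Hom.comp_apply, hcomp, Scheme.Hom.comp_apply]
        exact (𝒮.toQCAlg.π_preimage U hU).ge ⟨t, rfl⟩
      obtain ⟨w, hw⟩ := (Proj16.opensRange_emb (p := p) (chart := chart) U hU).ge hxU
      refine hw.symm.trans (congrArg _ (ConeX.proj_point_ext w q fun d f hd hf => ?_))
      refine Iff.trans ?_ (hmem U hU d hd f hf ⟨_, htE⟩ t rfl)
      rw [← hw]
      exact ⟨fun h => ⟨w, h, rfl⟩, fun ⟨w', h, e⟩ => (RelProj.emb p chart U hU).isOpenEmbedding.injective e ▸ h⟩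
  exact key _ (ConeX.pointed_eq_domQ hz hPC) r hr

end Groth.Agent.S8309
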