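import Groth.Statements.S8333
import Groth.Agent.AmpleVan.CounitEpi
import Groth.Agent.ProjX.TwistAmple
import Groth.Agent.ProjX.TwistMul
import Groth.Agent.Proj16.RelIntegral
import Groth.Agent.Lib.CurveRR

set_option autoImplicit false
set_option backward.isDefEq.respectTransparency false
set_option backward.isDefEq.respectTransparency.types false
universe u
open CategoryTheory CategoryTheory.Limits AlgebraicGeometry Opposite TopologicalSpace
open scoped HomogeneousIdeal
noncomputable section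
open EGA2

namespace Groth.Agent.S8333

/-- Let Y be a scheme with quasi-compact underlying space, 𝒮 a quasi-coherent positively graded
O_Y-algebra generated by 𝒮_1 with 𝒮_1 of finite type, p : P = Proj(𝒮) → Y, and F a quasi-coherent
O_P-module of finite type. Then there is n₀ such that for all n ≥ n₀ the canonical morphism
p^*(p_*(F(n))) → F(n) is an epimorphism, where F(n) = F ⊗ O_P(n) with O_P(n) given through its
chartwise identifications. -/
theorem result {Y P : Scheme.{u}} (𝒮 : RelProj.QCGrAlg Y) (p : P ⟶ Y)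
    (chart : ∀ (U : Y.Opens) (hU : IsAffineOpen U), (((p ⁻¹ᵁ U : P.Opens) : Scheme.{u}) ≅ Proj (𝒮.deg U hU)))
    (hP : RelProj.IsRelProj 𝒮 p chart) [CompactSpace Y] (hgen : 𝒮.IsGenDegOne)
    (hft : 𝒮.IsFTDeg 1) (F : P.Modules) (hFq : Coh.IsQCoh F) (hFt : CohB1.IsFT F) :
    ∃ n₀ : ℤ, ∀ (n : ℤ), n₀ ≤ n → ∀ (L : P.Modules)
      (lam : ∀ (U : Y.Opens) (hU : IsAffineOpen U),
      L ⟶ (Scheme.Modules.pushforward (RelProj.emb p chart U hU)).obj (GrTwist.twist (𝒮.deg U hU) n)),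
      RelProj.IsRelTwist 𝒮 p chart n L lam →
        Epi ((Scheme.Modules.pullbackPushforwardAdjunction p).counit.app (CohB1.tensorMod F L)) := by
  haveI : QuasiCompact p := (Groth.Agent.Proj16.locallyOfFiniteType_of_genDegOne hP hgen hft).2
  haveI : CompactSpace P := QuasiCompact.compactSpace_of_compactSpace p
  obtain ⟨L₁, lam₁, hL₁⟩ := Groth.Agent.ProjX.exists_isRelTwist hP (n := 1)
  obtain ⟨N, hN⟩ := Groth.Agent.AmpleVan.CounitEpi.eventually_epi_counit p
    (Groth.Agent.ProjX.isRelAmple_twist hP hgen hft hL₁) hFq hFt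
  have hpow : ∀ k : ℕ, ∀ (L : P.Modules)
      (lam : ∀ (U : Y.Opens) (hU : IsAffineOpen U),
      L ⟶ (Scheme.Modules.pushforward (RelProj.emb p chart U hU)).obj (GrTwist.twist (𝒮.deg U hU) ((k : ℤ) + 1))),
      RelProj.IsRelTwist 𝒮 p chart ((k : ℤ) + 1) L lam → Nonempty (CohB1.tensorPow L₁ (k + 1) ≅ L) := by
    intro k
    induction k with
    | zero =>
      intro L lam hL
      obtain ⟨L₀, lam₀, hL₀⟩ := Groth.Agent.ProjX.exists_isRelTwist hP (n := 0)
      obtain ⟨e₁⟩ := Groth.Agent.ProjX.nonempty_tensor_iso hP hL₀ hL₁ hL₁ hgen (zero_add 1)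
      obtain ⟨e₂⟩ := Groth.Agent.ProjX.nonempty_tensor_iso hP hL₀ hL₁ hL hgen (by simp)
      let e : L₁ ≅ L := e₁.symm ≪≫ e₂
      exact ⟨((Groth.Agent.CurveRR.tensorStructureIso' P).app L₁) ≪≫ e⟩
    | succ k ih =>
      intro L lam hL
      obtain ⟨Lk, lamk, hLk⟩ := Groth.Agent.ProjX.exists_isRelTwist hP (n := (k : ℤ) + 1)
      obtain ⟨e⟩ := ih Lk lamk hLk
      obtain ⟨e'⟩ := Groth.Agent.ProjX.nonempty_tensor_iso hP hLk hL₁ hL hgen (by push_cast; ring)
      exact ⟨(DCoh.tensorBi.mapIso e).app L₁ ≪≫ e'⟩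
  refine ⟨(N : ℤ) + 1, fun n hn L lam hL => ?_⟩
  obtain ⟨k, rfl⟩ : ∃ k : ℕ, n = (k : ℤ) + 1 := ⟨(n - 1).toNat, by omega⟩
  obtain ⟨e⟩ := hpow k L lam hL
  let adj := Scheme.Modules.pullbackPushforwardAdjunction p
  let f := (DCoh.tensorBi.obj F).mapIso e
  have h := adj.counit.naturality f.hom
  have h1 : Epi (adj.counit.app (CohB1.tensorMod F (CohB1.tensorPow L₁ (k + 1))) ≫ f.hom) :=
    @epi_comp _ _ _ _ _ _ (hN (k + 1) (by omega)) _ inferInstance
  exact @epi_of_epi _ _ _ _ _ ((Scheme.Modules.pullback p).map ((Scheme.Modules.pushforward p).map f.hom))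
    (adj.counit.app ((DCoh.tensorBi.obj F).obj L)) (h.symm ▸ h1)

end Groth.Agent.S8333
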