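import Groth.Statements.S8334
import Groth.Agent.S8333
import Groth.Agent.ProjX.EpiPullFT
import Groth.Agent.H23.PicMul
import Groth.Agent.RelTildeX.Invertible
import Groth.Agent.S2297
import Groth.Agent.KZ.QuasiProj
import Groth.Agent.CurveDefAmple.Basic

set_option autoImplicit false
set_option backward.isDefEq.respectTransparency false
set_option backward.isDefEq.respectTransparency.types false
set_option maxHeartbeats 1600000
universe u
open CategoryTheory CategoryTheory.Limits AlgebraicGeometry Opposite TopologicalSpace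
open scoped HomogeneousIdeal
noncomputable section
open EGA2

namespace Groth.Agent.S8334

open scoped Groth.Agent.H23.PicMul

/-- Let Y be a quasi-compact separated scheme, or a scheme with Noetherian underlying space, 𝒮 a
quasi-coherent positively graded O_Y-algebra generated by 𝒮_1 with 𝒮_1 of finite type, p : P =
Proj(𝒮) → Y, and F a quasi-coherent O_P-module of finite type. Then there is n₀ such that for every
n ≥ n₀, F is a quotient of (p^*G)(−n) = p^*(G) ⊗ O_P(−n) for some quasi-coherent O_Y-module G of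
finite type (which may vary with n), O_P(−n) being given through its chartwise identifications. -/
theorem result {Y P : Scheme.{u}} (𝒮 : RelProj.QCGrAlg Y) (p : P ⟶ Y)
    (chart : ∀ (U : Y.Opens) (hU : IsAffineOpen U), (((p ⁻¹ᵁ U : P.Opens) : Scheme.{u}) ≅ Proj (𝒮.deg U hU)))
    (hP : RelProj.IsRelProj 𝒮 p chart)
    (hY : (CompactSpace Y ∧ Y.IsSeparated) ∨ NoetherianSpace Y) (hgen : 𝒮.IsGenDegOne)
    (hft : 𝒮.IsFTDeg 1) (F : P.Modules) (hFq : Coh.IsQCoh F) (hFt : CohB1.IsFT F) :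
    ∃ n₀ : ℤ, ∀ (n : ℤ), n₀ ≤ n → ∀ (L : P.Modules)
      (lam : ∀ (U : Y.Opens) (hU : IsAffineOpen U),
      L ⟶ (Scheme.Modules.pushforward (RelProj.emb p chart U hU)).obj (GrTwist.twist (𝒮.deg U hU) (-n))),
      RelProj.IsRelTwist 𝒮 p chart (-n) L lam →
        ∃ (G : Y.Modules) (π : CohB1.tensorMod ((Scheme.Modules.pullback p).obj G) L ⟶ F),
          Coh.IsQCoh G ∧ CohB1.IsFT G ∧ Epi π := by
  haveI : CompactSpace Y := by
    rcases hY with ⟨h, _⟩ | h
    · exact h
    · exact ⟨NoetherianSpace.isCompact _⟩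
  haveI : QuasiSeparatedSpace Y := by
    rcases hY with ⟨_, h⟩ | h
    · infer_instance
    · exact ⟨fun U V _ _ _ _ => NoetherianSpace.isCompact _⟩
  haveI : QuasiCompact p := (Groth.Agent.Proj16.locallyOfFiniteType_of_genDegOne hP hgen hft).2
  haveI : IsSeparated p := Groth.Agent.Proj16.isSeparated hP
  haveI : CompactSpace P := QuasiCompact.compactSpace_of_compactSpace p
  obtain ⟨n₀, hn₀⟩ := Groth.Agent.S8333.result 𝒮 p chart hP hgen hft F hFq hFt
  refine ⟨n₀, fun n hn L lam hL => ?_⟩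
  obtain ⟨L', lam', hL'⟩ := Groth.Agent.ProjX.exists_isRelTwist hP (n := n)
  obtain ⟨L₀, lam₀, hL₀⟩ := Groth.Agent.ProjX.exists_isRelTwist hP (n := (0 : ℤ))
  obtain ⟨e₁⟩ := Groth.Agent.ProjX.nonempty_tensor_iso hP hL' hL hL₀ hgen (by simp)
  obtain ⟨e₂⟩ := Groth.Agent.ProjX.nonempty_tensor_iso hP hL₀ hL₀ hL₀ hgen (add_zero 0)
  have h₀ : PicF.cl L₀ = 1 :=
    (Groth.Agent.H23.PicMul.isUnit_cl (Groth.Agent.RelTildeX.isInvertible_twist hgen hL₀)).mul_eq_left.1
      ((Groth.Agent.H23.PicMul.cl_tensor L₀ L₀).symm.trans (Groth.Agent.H23.PicMul.cl_eq_iff.2 ⟨e₂⟩))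
  have hflf := Groth.Agent.KZ.QuasiProj.flf_of_invertible (Groth.Agent.RelTildeX.isInvertible_twist hgen hL')
  haveI : Coh.IsQCoh F := hFq
  haveI : Coh.IsQCoh L' := Groth.Agent.QCoh.isQCoh_of_isFinLocFree hflf
  have hFL : Coh.IsQCoh (CohB1.tensorMod F L') := (Groth.Agent.S2297.result F L').1
  have hFLt : CohB1.IsFT (CohB1.tensorMod F L') :=
    (Groth.Agent.S2297.result F L').2 hFt (Groth.Agent.QCoh.isFT_of_isFP (Groth.Agent.QCoh.isFP_of_isFinLocFree hflf))
  haveI := hn₀ n hn L' lam' hL'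
  obtain ⟨G, π, hGq, hGt, hπ⟩ := Groth.Agent.ProjX.exists_epi_pullback_isFT _ p
    (Groth.Agent.QCoh.isQCoh_pushforward p hFL) hFL hFLt
    ((Scheme.Modules.pullbackPushforwardAdjunction p).counit.app (CohB1.tensorMod F L'))
  haveI := hπ
  obtain ⟨a⟩ := Groth.Agent.H23.PicMul.assoc F L' L
  obtain ⟨u⟩ := Groth.Agent.H23.PicMul.unit F
  obtain ⟨e₀⟩ : Nonempty (L₀ ≅ Coh.structureModule P) := Groth.Agent.H23.PicMul.cl_eq_iff.1 h₀
  let i : CohB1.tensorMod (CohB1.tensorMod F L') L ≅ F :=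
    a ≪≫ (DCoh.tensorBi.obj F).mapIso (e₁ ≪≫ e₀) ≪≫ u
  haveI : Epi ((DCoh.tensorBi.map π).app L) := Groth.Agent.DefAmple.epi_tensor_flip π L
  exact ⟨G, (DCoh.tensorBi.map π).app L ≫ i.hom, hGq, hGt, epi_comp _ _⟩

end Groth.Agent.S8334
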