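import Groth.Statements.S8347
import Groth.Agent.S8355

set_option autoImplicit false
universe v u
open CategoryTheory CategoryTheory.Limits
open SpSeq

namespace Groth.Agent.S8347

/-- Let E be a spectral sequence in an abelian category with abutment data (H^m), and suppose that for
some page r and every total degree m there is an integer q(m) such that E_r^{m-q,q} = 0 for every q
other than q(m). Let n be a total degree such that the filtration of H^n is discrete (some step is
zero) and exhaustive (H^n is the supremum of the steps), and such that the position (n - q(n), q(n))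
is stationary from page r on. Then H^n is isomorphic to E_r^{n-q(n), q(n)}. (The published statement
asserts this without any condition on the differentials at the surviving positions; that version
fails when a differential d_r links the surviving terms of two consecutive total degrees, for
instance a spectral sequence whose only nonzero page-2 terms are E_2^{0,1} and E_2^{2,0} with d_2 an
isomorphism between them and zero abutment. The stationarity assumed here is automatic when q(m)
does not depend on m and r ≥ 2.) -/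
theorem result {C : Type u} [Category.{v} C] [Abelian C] {r₀ : ℤ}
    (E : CohomologicalSpectralSequence C r₀) {H : ℤ → C} (a : SpSeq.Abutment E H)
    (r : ℤ) (hr : r₀ ≤ r) (q : ℤ → ℤ)
    (hdeg : ∀ m q' : ℤ, q' ≠ q m → IsZero ((E.page r hr).X (m - q', q')))
    (n : ℤ) (hdisc : (a.filObj n).IsDiscrete) (hexh : a.IsExhaustive n)
    (hst : SpSeq.StationaryAt E (n - q n, q n) r) :
    Nonempty (H n ≅ (E.page r hr).X (n - q n, q n)) := by
  have hcast : ∀ (m p : ℤ), m = n → Nonempty (SpSeq.grPiece (a.fil m) (a.anti m) p ≅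
      SpSeq.grPiece (a.fil n) (a.anti n) p) := by
    rintro m p rfl
    exact ⟨Iso.refl _⟩
  have hstat : ∀ (pq : ℤ × ℤ) (r₁ : ℤ) (h₁ : SpSeq.StationaryAt E pq r₁) (k : ℤ) (hk : r₁ ≤ k),
      Nonempty ((E.page r₁ h₁.1).X pq ≅ (E.page k (h₁.1.trans hk)).X pq) := by
    intro pq r₁ h₁ k hk
    induction k, hk using Int.le_induction with
    | base => exact ⟨Iso.refl _⟩
    | succ k hk ih =>
      obtain ⟨e⟩ := ih
      have h0 := h₁.1.trans hk
      obtain ⟨hd1, hd2⟩ := h₁.2 k h0 hk
      have hprev : (ComplexShape.up' (⟨k, 1 - k⟩ : ℤ × ℤ)).prev pq = pq - (k, 1 - k) :=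
        ComplexShape.prev_eq' _ (by simp)
      have hnext : (ComplexShape.up' (⟨k, 1 - k⟩ : ℤ × ℤ)).next pq = pq + (k, 1 - k) :=
        ComplexShape.next_eq' _ (by simp)
      have hf : ((E.page k h0).sc pq).f = 0 := by
        change (E.page k h0).d _ pq = 0
        rw [hprev]; exact hd1
      have hg : ((E.page k h0).sc pq).g = 0 := by
        change (E.page k h0).d pq _ = 0
        rw [hnext]; exact hd2
      exact ⟨e ≪≫ ((ShortComplex.HomologyData.ofZeros _ hf hg).left.homologyIso.symm ≪≫
          E.iso k (k + 1) pq rfl h0)⟩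
  -- a step whose graded piece vanishes
  have hzero : ∀ p : ℤ, p ≠ n - q n → a.fil n p = a.fil n (p + 1) := by
    intro p hp
    have h1 := hdeg n (n - p) (by omega)
    rw [show n - (n - p) = p by omega] at h1
    have h2 := (Groth.Agent.S8355.result E r hr (p, n - p) h1).2 H a
    obtain ⟨e⟩ := hcast (p + (n - p)) p (by omega)
    have h3 : IsZero (SpSeq.grPiece (a.fil n) (a.anti n) p) := IsZero.of_iso h2 e.symm
    haveI : Epi (Subobject.ofLE (a.fil n (p + 1)) (a.fil n p) (a.anti n (Int.le_add_one le_rfl))) :=
      Preadditive.epi_of_cokernel_zero (h3.eq_of_tgt _ _)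
    haveI := isIso_of_mono_of_epi (Subobject.ofLE (a.fil n (p + 1)) (a.fil n p) (a.anti n (Int.le_add_one le_rfl)))
    exact le_antisymm (Subobject.le_of_comm (inv (Subobject.ofLE (a.fil n (p + 1)) (a.fil n p) (a.anti n (Int.le_add_one le_rfl)))) (by simp))
      (a.anti n (Int.le_add_one le_rfl))
  have habove : ∀ (j : ℕ), a.fil n (n - q n + 1) = a.fil n (n - q n + 1 + j) := by
    intro j
    induction j with
    | zero => simp
    | succ j ih =>
      rw [ih, hzero _ (by omega)]
      congr 1
      omega
  have hbelow : ∀ (j : ℕ), a.fil n (n - q n - j) = a.fil n (n - q n) := by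
    intro j
    induction j with
    | zero => simp
    | succ j ih =>
      rw [← ih, hzero (n - q n - (j + 1 : ℕ)) (by omega)]
      congr 1
      omega
  have hbot : a.fil n (n - q n + 1) = ⊥ := by
    obtain ⟨b, hb⟩ := hdisc
    rcases le_total b (n - q n + 1) with h | h
    · exact le_bot_iff.1 ((a.anti n h).trans hb.le)
    · obtain ⟨j, hj⟩ := Int.eq_ofNat_of_zero_le (show 0 ≤ b - (n - q n + 1) by omega)
      rw [habove j, show n - q n + 1 + (j : ℤ) = b by omega]
      exact hb
  have htop : a.fil n (n - q n) = ⊤ := by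
    refine top_le_iff.1 (hexh.2 ?_)
    rintro _ ⟨p, rfl⟩
    rcases le_total (n - q n) p with h | h
    · exact a.anti n h
    · obtain ⟨j, hj⟩ := Int.eq_ofNat_of_zero_le (show 0 ≤ n - q n - p by omega)
      rw [← hbelow j, show n - q n - (j : ℤ) = p by omega]
      exact le_rfl
  obtain ⟨e0⟩ := hstat _ _ hst (max r (a.rk (n - q n, q n))) (le_max_left _ _)
  obtain ⟨e1⟩ := hstat _ _ (a.stat (n - q n, q n)) (max r (a.rk (n - q n, q n))) (le_max_right _ _)
  obtain ⟨e2⟩ := hcast ((n - q n, q n).1 + (n - q n, q n).2) (n - q n) (by simp)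
  have e3 : SpSeq.grPiece (a.fil n) (a.anti n) (n - q n) ≅ H n := by
    have hb0 : Subobject.ofLE (a.fil n (n - q n + 1)) (a.fil n (n - q n)) (a.anti n (Int.le_add_one le_rfl)) = 0 := by
      rw [← cancel_mono (a.fil n (n - q n)).arrow, Subobject.ofLE_arrow, zero_comp]
      have : ∀ S : Subobject (H n), S = ⊥ → S.arrow = 0 := by rintro S rfl; exact Subobject.bot_arrow
      exact this _ hbot
    haveI : IsIso (a.fil n (n - q n)).arrow := (Subobject.isIso_arrow_iff_eq_top _).2 htop
    exact cokernelIsoOfEq hb0 ≪≫ cokernelZeroIsoTarget ≪≫ asIso (a.fil n (n - q n)).arrow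
  exact ⟨e3.symm ≪≫ e2.symm ≪≫ (a.β (n - q n, q n)).symm ≪≫ e1 ≪≫ e0.symm⟩

end Groth.Agent.S8347
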