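import Groth.Statements.S8348
import Mathlib.Algebra.Homology.ShortComplex.Exact
import Mathlib.Algebra.Homology.HomologicalComplexAbelian
import Mathlib.CategoryTheory.Abelian.Refinements

set_option autoImplicit false
universe v u
open CategoryTheory CategoryTheory.Limits
open HomAlg3

namespace Groth.Agent.S8348

/-- Let C be an abelian category and Q a cochain complex of objects of C in degrees 0, 1, 2, ... such
that every Q^i is injective, every homology object H^i(Q) with i ≥ 1 is zero, and every inclusion of
the cycles Z^i(Q) into Q^i (i ≥ 0) is a split monomorphism. Then Q is an injective object of the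
category of cochain complexes of C indexed by the natural numbers. (The published statement is for
the narrower class of complexes with Z^i(Q) = B^i(Q) for every i ≥ 0, which in degree 0, where there
is no incoming differential, forces Z^0(Q) = 0; this row allows a nonzero Z^0(Q), so that it pairs
with the embedding of an arbitrary complex into such a Q. Such a Q is the direct sum of Z^0(Q)
placed in degree 0 and of the two-term complexes with Z^{i+1}(Q) in degrees i and i+1 and the
identity as differential, and the published argument carries over with Z^i(Q) in place of B^i(Q) as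
the first summand of Q^i.) -/
theorem result {C : Type u} [Category.{v} C] [Abelian C]
    (Q : CochainComplex C ℕ) (hinj : ∀ i : ℕ, Injective (Q.X i)) (hac : ∀ i : ℕ, IsZero (Q.homology (i + 1)))
    (hsplit : ∀ i : ℕ, IsSplitMono (Q.iCycles i)) : Injective Q := by
  haveI := hinj
  haveI := hsplit
  have hZ : ∀ i, Injective (Q.cycles i) := fun i =>
    ({ i := Q.iCycles i, r := retraction (Q.iCycles i), retract := IsSplitMono.id _ } :
      Retract (Q.cycles i) (Q.X i)).injective
  let r : ∀ i, Q.X i ⟶ Q.cycles i := fun i => retraction (Q.iCycles i)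
  have hr : ∀ i, Q.iCycles i ≫ r i = 𝟙 _ := fun i => IsSplitMono.id _
  have hepi : ∀ i, Epi (Q.toCycles i (i + 1)) := by
    intro i
    haveI : Epi (Q.toCycles i (i + 1)) := by
      rw [epi_iff_surjective_up_to_refinements]
      intro T z
      have hex := (HomologicalComplex.exactAt_iff_isZero_homology Q (i + 1)).2 (hac i)
      rw [HomologicalComplex.exactAt_iff' _ i (i + 1) (i + 2) (by simp) (by simp),
        ShortComplex.exact_iff_exact_up_to_refinements] at hex
      obtain ⟨T', π, hπ, x, hx⟩ := hex (z ≫ Q.iCycles (i + 1))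
        (show (z ≫ Q.iCycles (i + 1)) ≫ Q.d (i + 1) (i + 2) = 0 by simp)
      exact ⟨T', π, hπ, x, by
        rw [← cancel_mono (Q.iCycles (i + 1))]
        simp only [Category.assoc, HomologicalComplex.toCycles_i]
        exact hx⟩
    exact this
  let S : ∀ i, ShortComplex C := fun i => ShortComplex.mk (Q.iCycles i) (Q.toCycles i (i + 1)) (by
    rw [← cancel_mono (Q.iCycles (i + 1))]; simp)
  have hS : ∀ i, (S i).Exact := fun i => by
    refine ShortComplex.exact_of_f_is_kernel _ ?_
    exact isKernelOfComp (Q.iCycles (i + 1)) (Q.d i (i + 1))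
      (Q.cyclesIsKernel i (i + 1) (CochainComplex.next ℕ i)) _ (Q.toCycles_i i (i + 1))
  let σ : ∀ i, (S i).Splitting := fun i =>
    ShortComplex.Splitting.ofExactOfRetraction (S i) (hS i) (r i) (hr i) (hepi i)
  refine ⟨fun {A B} g m hm => ?_⟩
  haveI : ∀ i, Mono (m.f i) := fun i => inferInstance
  let a : ∀ i, B.X i ⟶ Q.cycles i := fun i => Injective.factorThru (g.f i ≫ r i) (m.f i)
  have ha : ∀ i, m.f i ≫ a i = g.f i ≫ r i := fun i => Injective.comp_factorThru _ _
  let s : ∀ i, Q.cycles (i + 1) ⟶ Q.X i := fun i => (σ i).s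
  have hs : ∀ i, s i ≫ Q.d i (i + 1) = Q.iCycles (i + 1) := fun i => by
    rw [← Q.toCycles_i i (i + 1)]
    have := (σ i).s_g_assoc (Q.iCycles (i + 1))
    exact this
  have hid : ∀ i, r i ≫ Q.iCycles i + Q.toCycles i (i + 1) ≫ s i = 𝟙 _ := fun i => (σ i).id
  have hrd : ∀ i, Q.d i (i + 1) ≫ r (i + 1) = Q.toCycles i (i + 1) := fun i => by
    rw [← Q.toCycles_i i (i + 1), Category.assoc, hr, Category.comp_id]
  refine ⟨{ f := fun i => a i ≫ Q.iCycles i + B.d i (i + 1) ≫ a (i + 1) ≫ s i, comm' := ?_ }, ?_⟩
  · intro i i' h
    obtain rfl : i + 1 = i' := h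
    simp [hs]
  · ext i
    show m.f i ≫ (a i ≫ Q.iCycles i + B.d i (i + 1) ≫ a (i + 1) ≫ s i) = g.f i
    rw [Preadditive.comp_add, reassoc_of% ha, m.comm_assoc, reassoc_of% ha, ← g.comm_assoc,
      reassoc_of% hrd, ← Preadditive.comp_add, hid, Category.comp_id]

end Groth.Agent.S8348
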