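import Groth.Statements.S8349
import Mathlib.Algebra.Homology.ShortComplex.Exact
import Mathlib.Algebra.Homology.HomologicalComplexAbelian
import Mathlib.CategoryTheory.Abelian.Refinements

set_option autoImplicit false
universe v u
open CategoryTheory CategoryTheory.Limits
open HomAlg3

namespace Groth.Agent.S8349

/-- Let C be an abelian category in which every object embeds in an injective object, and let A be a
cochain complex of objects of C in degrees 0, 1, 2, .... Then there are a cochain complex Q, with
every Q^i injective, H^i(Q) = 0 for every i ≥ 1 and every cycle inclusion Z^i(Q) ⟶ Q^i (i ≥ 0) a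
split monomorphism, and a monomorphism of complexes A ⟶ Q. (The published statement asks Z^i(Q) =
B^i(Q) for every i ≥ 0; in degree 0, where there is no incoming differential, this makes Z^0(Q) = 0,
and then no complex with nonzero degree-0 cycles, for instance a nonzero object placed in degree 0,
embeds in such a Q, because the degree-0 component of a chain map into Q factors through Z^0(Q).
This row asks vanishing homology in positive degrees only; the published construction, which embeds
each A^i in an injective I^i and takes Q^i = I^i ⊕ I^{i+1}, proves that version once an injective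
I^0 containing A^0 is used in degree 0 as well.) -/
theorem result {C : Type u} [Category.{v} C] [Abelian C]
    [EnoughInjectives C] (A : CochainComplex C ℕ) :
    ∃ (Q : CochainComplex C ℕ) (f : A ⟶ Q), Mono f ∧ (∀ i : ℕ, Injective (Q.X i)) ∧
      (∀ i : ℕ, IsZero (Q.homology (i + 1))) ∧ ∀ i : ℕ, IsSplitMono (Q.iCycles i) := by
  let I : ℕ → C := fun i => Injective.under (A.X i)
  let d : ∀ i, I i ⊞ I (i + 1) ⟶ I (i + 1) ⊞ I (i + 1 + 1) := fun i => Limits.biprod.snd ≫ Limits.biprod.inl
  let Q : CochainComplex C ℕ := CochainComplex.of (fun i => I i ⊞ I (i + 1)) d (fun i => by simp [d])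
  have hd : ∀ i, Q.d i (i + 1) = d i := fun i => by simp [Q]
  let f : A ⟶ Q :=
    { f := fun i => Limits.biprod.lift (Injective.ι (A.X i)) (A.d i (i + 1) ≫ Injective.ι (A.X (i + 1)))
      comm' := by
        intro i i' h
        obtain rfl : i + 1 = i' := h
        rw [hd]
        refine Limits.biprod.hom_ext _ _ ?_ ?_
        · simp [d, I]
        · simp [d, I] }
  haveI : ∀ i, Mono (f.f i) := fun i =>
    mono_of_mono_fac (show f.f i ≫ (Limits.biprod.fst : I i ⊞ I (i + 1) ⟶ I i) = Injective.ι (A.X i) from
      Limits.biprod.lift_fst _ _)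
  refine ⟨Q, f, HomologicalComplex.mono_of_mono_f f inferInstance, fun i => ?_, fun i => ?_, fun i => ?_⟩
  · exact inferInstanceAs (Injective (I i ⊞ I (i + 1)))
  · rw [← HomologicalComplex.exactAt_iff_isZero_homology,
      HomologicalComplex.exactAt_iff' _ i (i + 1) (i + 2) (by simp) (by simp),
      ShortComplex.exact_iff_exact_up_to_refinements]
    intro T x hx
    let x' : T ⟶ I (i + 1) ⊞ I (i + 1 + 1) := x
    have hx' : x' ≫ d (i + 1) = 0 := by rw [← hd]; exact hx
    have h2 : x' ≫ Limits.biprod.snd = 0 := by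
      simpa [d] using congrArg (· ≫ Limits.biprod.fst) hx'
    refine ⟨T, 𝟙 T, inferInstance, (x' ≫ Limits.biprod.fst ≫ Limits.biprod.inr : T ⟶ I i ⊞ I (i + 1)), ?_⟩
    show 𝟙 T ≫ x' = (x' ≫ _ ≫ _) ≫ Q.d i (i + 1)
    rw [hd]
    refine Limits.biprod.hom_ext _ _ ?_ ?_
    · simp [d]
    · simp [d, h2]
  · let p : Q.X i ⟶ Q.X i := (Limits.biprod.fst ≫ Limits.biprod.inl : I i ⊞ I (i + 1) ⟶ I i ⊞ I (i + 1))
    have hp : p ≫ Q.d i (i + 1) = 0 := by
      rw [hd]
      show (Limits.biprod.fst ≫ Limits.biprod.inl : I i ⊞ I (i + 1) ⟶ I i ⊞ I (i + 1)) ≫ d i = 0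
      simp [d]
    refine ⟨⟨⟨Q.liftCycles p (i + 1) (by simp) hp, ?_⟩⟩⟩
    rw [← cancel_mono (Q.iCycles i), Category.assoc, HomologicalComplex.liftCycles_i, Category.id_comp]
    let z : Q.cycles i ⟶ I i ⊞ I (i + 1) := Q.iCycles i
    have h1 : z ≫ d i = 0 := by rw [← hd]; exact Q.iCycles_d i (i + 1)
    have h2 : z ≫ Limits.biprod.snd = 0 := by
      simpa [d] using congrArg (· ≫ Limits.biprod.fst) h1
    show z ≫ Limits.biprod.fst ≫ Limits.biprod.inl = z
    refine Limits.biprod.hom_ext _ _ ?_ ?_
    · simp
    · simp [h2]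

end Groth.Agent.S8349
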