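import Groth.Statements.S8350
import Groth.Agent.PerfGen7.HorseshoeExt
import Mathlib

set_option autoImplicit false
universe v u
open CategoryTheory CategoryTheory.Limits
open HomAlg3

namespace Groth.Agent.S8350

open CategoryTheory CategoryTheory.Limits

variable {C : Type u} [Category.{v} C] [Abelian C] [EnoughInjectives C]

lemma exists_family (K : SpSeq.FilObj C) (n : ℤ) (hn : K.fil n = ⊥) (j : ℕ) (p : ℤ) (hp : p + j = n) :
    ∃ (R : InjectiveResolution (K.step p)) (G : ℤ → Subobject R.cocomplex), Antitone G ∧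
      (∀ i, i ≤ p → G i = ⊤) ∧ (∀ i, n ≤ i → G i = ⊥) ∧
      ∀ i (h : p ≤ i), (∀ l : ℕ, Injective ((G i : CochainComplex C ℕ).X l)) ∧
        ∃ ι : (CochainComplex.single₀ C).obj (K.step i) ⟶ (G i : CochainComplex C ℕ),
          ι ≫ (G i).arrow = (CochainComplex.single₀ C).map (K.stepLE h) ≫ R.ι ∧ QuasiIso ι := by
  induction j generalizing p with
  | zero =>
    obtain rfl : p = n := by omega
    have hz : ∀ i, p ≤ i → IsZero (K.step i) := fun i hi => by
      have : K.fil i = ⊥ := le_bot_iff.1 (hn ▸ K.anti hi)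
      unfold SpSeq.FilObj.step
      rw [this]
      exact (isZero_zero C).of_iso Subobject.botCoeIsoZero
    have : Injective (K.step p) := (hz p le_rfl).injective
    let R := InjectiveResolution.self (Z := K.step p)
    have hR : IsZero R.cocomplex := Functor.map_isZero (CochainComplex.single₀ C) (hz p le_rfl)
    have htb : (⊤ : Subobject R.cocomplex) = ⊥ := by
      rw [Subobject.top_eq_id, Subobject.mk_eq_bot_iff_zero]
      exact hR.eq_of_src _ _
    refine ⟨R, fun _ => ⊤, fun _ _ _ => le_rfl, fun _ _ => rfl, fun _ _ => htb, fun i h => ?_⟩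
    have hT : IsZero ((⊤ : Subobject R.cocomplex) : CochainComplex C ℕ) :=
      hR.of_iso (asIso (⊤ : Subobject R.cocomplex).arrow)
    refine ⟨fun l => (Functor.map_isZero (HomologicalComplex.eval _ _ l) hT).injective, 0, ?_, ?_⟩
    · exact hR.eq_of_tgt _ _
    · have hA : IsZero ((CochainComplex.single₀ C).obj (K.step i)) := Functor.map_isZero _ (hz i h)
      have : IsIso (0 : (CochainComplex.single₀ C).obj (K.step i) ⟶
          ((⊤ : Subobject R.cocomplex) : CochainComplex C ℕ)) :=
        ⟨0, hA.eq_of_src _ _, hT.eq_of_src _ _⟩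
      infer_instance
  | succ j ih =>
    obtain ⟨R, G, hG, hGtop, hGbot, hι⟩ := ih (p + 1) (by omega)
    let f : K.step (p + 1) ⟶ K.step p := K.stepLE (by omega)
    let S := ShortComplex.mk f (cokernel.π f) (cokernel.condition f)
    have hS : S.ShortExact :=
      { exact := ShortComplex.exact_of_g_is_cokernel _ (cokernelIsCokernel f)
        mono_f := inferInstanceAs (Mono (K.stepLE (show p ≤ p + 1 by omega)))
        epi_g := inferInstanceAs (Epi (cokernel.π f)) }
    obtain ⟨R', φ, hφ, hφι⟩ := SESResLib.exists_extension hS R (injectiveResolution S.X₃)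
    let G' : ℤ → Subobject R'.cocomplex :=
      fun i => if i ≤ p then ⊤ else (Subobject.map φ).obj (G i)
    refine ⟨R', G', fun a b hab => ?_, fun i hi => if_pos hi, fun i hi => ?_, fun i hi => ?_⟩
    · dsimp only [G']
      split_ifs with h1 h2
      · exact le_rfl
      · omega
      · exact le_top
      · exact ((Subobject.map φ).map (homOfLE (hG hab))).le
    · dsimp only [G']
      rw [if_neg (by omega), hGbot i hi, Subobject.map_bot]
    · rcases lt_or_eq_of_le hi with hi' | rfl
      · obtain ⟨hinj, ι, hι₁, hι₂⟩ := hι i (by omega)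
        have hG' : G' i = Subobject.mk ((G i).arrow ≫ φ) := by
          dsimp only [G']
          rw [if_neg (by omega)]
          conv_lhs => rw [← Subobject.mk_arrow (G i), Subobject.map_mk]
        let e : (G' i : CochainComplex C ℕ) ≅ (G i : CochainComplex C ℕ) :=
          eqToIso (by rw [hG']) ≪≫ Subobject.underlyingIso _
        have he : e.inv ≫ (G' i).arrow = (G i).arrow ≫ φ := by
          rw [Iso.inv_comp_eq]
          dsimp only [e]
          clear_value G'
          revert hG'
          generalize G' i = Y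
          rintro rfl
          simp
        refine ⟨fun l => ?_, ι ≫ e.inv, ?_, inferInstance⟩
        · have := hinj l
          exact Injective.of_iso ((HomologicalComplex.eval C (ComplexShape.up ℕ) l).mapIso e).symm
            (hinj l)
        · rw [Category.assoc, he, reassoc_of% hι₁, hφι, ← Functor.map_comp_assoc]
          congr 2
          simp [S, f, SpSeq.FilObj.stepLE]
      · have hG' : G' p = ⊤ := if_pos le_rfl
        rw [hG']
        refine ⟨fun l => Injective.of_iso ((HomologicalComplex.eval C (ComplexShape.up ℕ) l).mapIso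
          (asIso (⊤ : Subobject R'.cocomplex).arrow)).symm (R'.injective l),
          R'.ι ≫ inv (⊤ : Subobject R'.cocomplex).arrow, ?_, inferInstance⟩
        simp [SpSeq.FilObj.stepLE, Subobject.ofLE_refl]


/-- Let C be an abelian category in which every object embeds in an injective object, and let A be an
object of C with a finite decreasing filtration (F^i A). Then there are an injective resolution X of
A and a decreasing filtration of X by subcomplexes F^i X such that F^i X = X when F^i A = A, F^i X =
0 when F^i A = 0, and, for every i, F^i X is a complex of injective objects into which F^i A (placed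
in degree 0) maps, compatibly with the augmentation A ⟶ X, by a quasi-isomorphism; thus F^i X is an
injective resolution of F^i A. -/
theorem result {C : Type u} [Category.{v} C] [Abelian C] [EnoughInjectives C]
    (K : SpSeq.FilObj C) (hK : K.IsFinite) :
    ∃ (X : InjectiveResolution K.obj) (G : ℤ → Subobject X.cocomplex), Antitone G ∧
      (∀ i : ℤ, K.fil i = ⊤ → G i = ⊤) ∧ (∀ i : ℤ, K.fil i = ⊥ → G i = ⊥) ∧
      ∀ i : ℤ, (∀ j : ℕ, Injective ((G i : CochainComplex C ℕ).X j)) ∧
        ∃ ι : (CochainComplex.single₀ C).obj (K.step i) ⟶ (G i : CochainComplex C ℕ),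
          ι ≫ (G i).arrow = (CochainComplex.single₀ C).map (K.fil i).arrow ≫ X.ι ∧ QuasiIso ι := by
  classical
  obtain ⟨⟨a, ha⟩, ⟨b, hb⟩⟩ := hK
  by_cases h0 : IsZero K.obj
  · have : Injective K.obj := h0.injective
    let R := InjectiveResolution.self (Z := K.obj)
    have hR : IsZero R.cocomplex := Functor.map_isZero (CochainComplex.single₀ C) h0
    have htb : (⊤ : Subobject R.cocomplex) = ⊥ := by
      rw [Subobject.top_eq_id, Subobject.mk_eq_bot_iff_zero]
      exact hR.eq_of_src _ _
    refine ⟨R, fun _ => ⊤, fun _ _ _ => le_rfl, fun _ _ => rfl, fun _ _ => htb, fun i => ?_⟩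
    have hT : IsZero ((⊤ : Subobject R.cocomplex) : CochainComplex C ℕ) :=
      hR.of_iso (asIso (⊤ : Subobject R.cocomplex).arrow)
    have hA : IsZero ((CochainComplex.single₀ C).obj (K.step i)) :=
      Functor.map_isZero _ (IsZero.of_mono (K.fil i).arrow h0)
    refine ⟨fun l => (Functor.map_isZero (HomologicalComplex.eval _ _ l) hT).injective, 0,
      hR.eq_of_tgt _ _, ?_⟩
    have : IsIso (0 : (CochainComplex.single₀ C).obj (K.step i) ⟶
        ((⊤ : Subobject R.cocomplex) : CochainComplex C ℕ)) :=
      ⟨0, hA.eq_of_src _ _, hT.eq_of_src _ _⟩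
    infer_instance
  have hne : ∀ i, ¬ (K.fil i = ⊤ ∧ K.fil i = ⊥) := fun i ⟨h, h'⟩ => h0 (by
    rw [h] at h'
    rw [Subobject.top_eq_id, Subobject.mk_eq_bot_iff_zero] at h'
    exact (IsZero.iff_id_eq_zero _).2 h')
  have hlt : ∀ i j, K.fil i = ⊤ → K.fil j = ⊥ → i < j := fun i j hi hj => by
    by_contra h
    exact hne i ⟨hi, le_bot_iff.1 (hj ▸ K.anti (not_lt.1 h))⟩
  obtain ⟨m, hm, hmmax⟩ := Int.exists_greatest_of_bdd (P := fun i => K.fil i = ⊤)
    ⟨b, fun i hi => (hlt i b hi hb).le⟩ ⟨a, ha⟩
  obtain ⟨n, hn, hnmin⟩ := Int.exists_least_of_bdd (P := fun i => K.fil i = ⊥)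
    ⟨a, fun j hj => (hlt a j ha hj).le⟩ ⟨b, hb⟩
  have hmn := hlt m n hm hn
  obtain ⟨R, G, hG, hGtop, hGbot, hι⟩ := exists_family K n hn (n - m).toNat m (by omega)
  have : IsIso (K.fil m).arrow := (Subobject.isIso_arrow_iff_eq_top _).2 hm
  let X : InjectiveResolution K.obj :=
    { cocomplex := R.cocomplex
      ι := (CochainComplex.single₀ C).map (inv (K.fil m).arrow) ≫ R.ι
      quasiIso := inferInstance }
  refine ⟨X, G, hG, fun i hi => hGtop i (hmmax i hi), fun i hi => hGbot i (hnmin i hi), fun i => ?_⟩
  by_cases h : m ≤ i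
  · obtain ⟨hinj, ι, hι₁, hι₂⟩ := hι i h
    refine ⟨hinj, ι, ?_, hι₂⟩
    rw [hι₁]
    simp only [X, ← Functor.map_comp_assoc]
    congr 2
    rw [IsIso.eq_comp_inv]
    exact Subobject.ofLE_arrow _
  · have hi : K.fil i = ⊤ := top_le_iff.1 (hm ▸ K.anti (by omega))
    have : IsIso (K.fil i).arrow := (Subobject.isIso_arrow_iff_eq_top _).2 hi
    have hGi : G i = ⊤ := hGtop i (by omega)
    have : IsIso (G i).arrow := (Subobject.isIso_arrow_iff_eq_top _).2 hGi
    refine ⟨fun l => Injective.of_iso ((HomologicalComplex.eval C (ComplexShape.up ℕ) l).mapIso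
      (asIso (G i).arrow)).symm (R.injective l),
      (CochainComplex.single₀ C).map (K.fil i).arrow ≫ X.ι ≫ inv (G i).arrow, ?_, inferInstance⟩
    simp

end Groth.Agent.S8350
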