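import Groth.Statements.S8360
import Groth.Agent.MultConjLib.ToHom
import Groth.Agent.MultConjLib.Subgroups
import Groth.Agent.GrpSchLib.MultTypeBC
import Groth.Agent.S1488
-- import your own Groth.Agent.* helpers here

set_option autoImplicit false
universe u
open CategoryTheory MonObj AlgebraicGeometry
open Red

set_option backward.isDefEq.respectTransparency false
open MonoidalCategory CartesianMonoidalCategory

namespace Groth.Agent.S8360

/-- Over the affine base S = Spec R with S₀ = Spec (R/I) for a nilpotent ideal I, for a commutative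
group M, the diagonalisable group D(M) = Spec R[M] over S and a group scheme X smooth over S, every
homomorphism of S₀-group schemes from D(M) ×_S S₀ to X ×_S S₀ is the base change of a homomorphism
of S-group schemes from D(M) to X. -/
theorem result (R : Type u) [CommRing R] (I : Ideal R)
    (hI : IsNilpotent I) (M : Type) [AddCommGroup M] (X : Over (Spec (CommRingCat.of R))) [GrpObj X]
    [Smooth X.hom]
    (f₀ : Red.bc (Spec.map (CommRingCat.ofHom (Ideal.Quotient.mk I))) (Red.diag R M) ⟶ Red.bc (Spec.map (CommRingCat.ofHom (Ideal.Quotient.mk I))) X) [IsMonHom f₀] :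
    ∃ f : Red.diag R M ⟶ X, IsMonHom f ∧ (Over.pullback (Spec.map (CommRingCat.ofHom (Ideal.Quotient.mk I)))).map f = f₀ := by
  classical
  let jR : Spec (CommRingCat.of (R ⧸ I)) ⟶ Spec (CommRingCat.of R) := Spec.map (CommRingCat.ofHom (Ideal.Quotient.mk I))
  let H : Over (Spec (CommRingCat.of R)) := Red.diag R M
  haveI : IsAffine H.left := inferInstanceAs (IsAffine (Spec _))
  haveI : IsAffineHom H.hom := inferInstance
  have hH : MultConjLib.IsLocDS H := by
    refine ⟨_, 𝟙 (Spec (CommRingCat.of R)), inferInstance, inferInstance, fun V hV => ⟨V, hV.isCompact, by simp⟩,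
      fun s' => ⟨⊤, trivial, M, inferInstance, ?_⟩⟩
    obtain ⟨e₀⟩ := GrpSchLib.AffineHopf.nonempty_DS_iso R M
    obtain ⟨e₁⟩ := GrpSchLib.MultTypeBC.bc_iso ((⊤ : (Spec (CommRingCat.of R)).Opens).ι ≫ 𝟙 _) e₀
    obtain ⟨e₂⟩ := GrpSchLib.MultTypeBC.bc_DS ((⊤ : (Spec (CommRingCat.of R)).Opens).ι ≫ 𝟙 _) M
    exact ⟨e₁ ≪≫ e₂⟩
  let S₀ : Over (Spec (CommRingCat.of R)) := Over.mk jR
  let w : H ⊗ S₀ ⟶ X := Over.homMk (f₀.left ≫ Limits.pullback.fst X.hom jR) (by
    show (f₀.left ≫ Limits.pullback.fst X.hom jR) ≫ X.hom = Limits.pullback.fst H.hom jR ≫ H.hom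
    rw [Category.assoc, Limits.pullback.condition, ← Category.assoc, Limits.pullback.condition]
    exact congrArg (· ≫ jR) (Over.w f₀))
  have hw : ∀ (X₀ : Over (Spec (CommRingCat.of (R ⧸ I)))) (a : X₀ ⟶ Red.bc jR H),
      lift (DSPtsLib.theta jR a) (Over.homMk X₀.hom rfl : (Over.map jR).obj X₀ ⟶ S₀) ≫ w =
        DSPtsLib.theta jR (a ≫ f₀) := by
    intro X₀ a
    refine Over.OverMorphism.ext ?_
    show (lift (DSPtsLib.theta jR a) (Over.homMk X₀.hom rfl : (Over.map jR).obj X₀ ⟶ S₀)).left ≫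
      f₀.left ≫ Limits.pullback.fst X.hom jR = (a.left ≫ f₀.left) ≫ Limits.pullback.fst X.hom jR
    rw [show (lift (DSPtsLib.theta jR a) (Over.homMk X₀.hom rfl : (Over.map jR).obj X₀ ⟶ S₀)).left = a.left from
      Limits.pullback.hom_ext
        (congrArg CommaMorphism.left (lift_fst (DSPtsLib.theta jR a) (Over.homMk X₀.hom rfl : (Over.map jR).obj X₀ ⟶ S₀)))
        ((congrArg CommaMorphism.left (lift_snd (DSPtsLib.theta jR a)
          (Over.homMk X₀.hom rfl : (Over.map jR).obj X₀ ⟶ S₀))).trans (Over.w a).symm), Category.assoc]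
  have hwmul : ∀ {Y : Over (Spec (CommRingCat.of R))} (p : Y ⟶ S₀) (q q' : Y ⟶ H),
      lift (q * q') p ≫ w = (lift q p ≫ w) * (lift q' p ≫ w) := by
    intro Y p q q'
    let X₀ : Over (Spec (CommRingCat.of (R ⧸ I))) := Over.mk p.left
    let i : (Over.map jR).obj X₀ ≅ Y := Over.isoMk (Iso.refl _) (by
      show 𝟙 Y.left ≫ Y.hom = p.left ≫ jR
      rw [Category.id_comp]; exact (Over.w p).symm)
    obtain ⟨a, ha⟩ := (DSPtsLib.theta_bijective (g := jR) (H := H) (Y := X₀)).2 (i.hom ≫ q)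
    obtain ⟨a', ha'⟩ := (DSPtsLib.theta_bijective (g := jR) (H := H) (Y := X₀)).2 (i.hom ≫ q')
    have hp : (Over.homMk X₀.hom rfl : (Over.map jR).obj X₀ ⟶ S₀) = i.hom ≫ p :=
      Over.OverMorphism.ext (Category.id_comp _).symm
    have h₁ := hw X₀ a
    have h₂ := hw X₀ a'
    have h₃ := hw X₀ (a * a')
    rw [DSPtsLib.theta_mul, MonObj.mul_comp, DSPtsLib.theta_mul, ← h₁, ← h₂, ha, ha', hp, ← MonObj.comp_mul] at h₃
    simp only [← comp_lift, Category.assoc, ← MonObj.comp_mul] at h₃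
    exact (cancel_epi i.hom).mp h₃
  let u₀ : MultConjLib.PtHom (𝟙 (Spec (CommRingCat.of R))) H X (R ⧸ I) :=
    { app := fun B _ _ ρ q => lift q (MultConjLib.toS₀ I ρ) ≫ w
      nat := fun f ρ q => by
        rw [← Category.assoc, comp_lift]
        congr 2
        refine Over.OverMorphism.ext ?_
        show Spec.map _ ≫ Spec.map _ = Spec.map _
        rw [← Spec.map_comp]
        rfl
      mul := fun ρ q q' => hwmul _ q q' }
  obtain ⟨_, _, _, x, hx, -, -, j', hj'⟩ := MultConjLib.exists_univ_int hH (𝟙 (Spec (CommRingCat.of R)))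
  obtain ⟨u, hu⟩ := MultConjLib.exists_hom_lift_nilpotent hx hj' ((Groth.Agent.S1488.result X.hom).mp ‹_›).2 I hI u₀
  obtain ⟨f, hfm, hf⟩ := MultConjLib.exists_hom_of_ptHom u
  have hfw : fst H S₀ ≫ f = w := by
    haveI : IsAffine (H ⊗ S₀).left := by
      show IsAffine (Limits.pullback H.hom jR)
      exact isAffine_of_isAffineHom (Limits.pullback.snd H.hom jR)
    obtain ⟨B, _, _, ⟨τ⟩⟩ := MultConjLib.exists_sp_iso (H ⊗ S₀)
    obtain ⟨ρ, hρ⟩ := MultConjLib.exists_algHom_of_toS₀ I τ (snd H S₀)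
    have h := congrArg (fun v => MultConjLib.PtHom.app v B ρ (τ.hom ≫ fst H S₀)) hu
    rw [← hf] at h
    change (τ.hom ≫ fst H S₀) ≫ f = lift (τ.hom ≫ fst H S₀) (MultConjLib.toS₀ I ρ) ≫ w at h
    rw [← hρ, ← comp_lift, lift_fst_snd, Category.comp_id, Category.assoc] at h
    exact (cancel_epi τ.hom).mp h
  refine ⟨f, hfm, Over.OverMorphism.ext (Limits.pullback.hom_ext ?_ ?_)⟩
  · exact (Limits.pullback.lift_fst _ _ _).trans (congrArg CommaMorphism.left hfw)
  · exact (Limits.pullback.lift_snd _ _ _).trans (Over.w f₀).symm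

end Groth.Agent.S8360
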