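import Groth.Statements.S8366
import Groth.Agent.AssocGrp.Basic
import Groth.Agent.GrpSchLib.ThickIso
-- import your own Groth.Agent.* helpers here

set_option autoImplicit false
set_option backward.isDefEq.respectTransparency false
set_option maxHeartbeats 1000000
set_option linter.style.haveILetI false
universe u
open CategoryTheory MonoidalCategory MonObj AlgebraicGeometry
open SGA3

namespace Groth.Agent.S8366

/-- Over an affine base S = Spec R with S₀ = Spec (R/I) for a nilpotent ideal I: let X be an S-scheme
which is flat and either quasi-compact or locally of finite presentation over S, and P : X ×_S X → X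
a composition law. If P is associative and its base change to S₀ is the multiplication of some
group-scheme structure on X ×_S S₀, then P is the multiplication of a group-scheme structure on X.
(The published statement is over an arbitrary base scheme with S₀ defined by a nilpotent
quasi-coherent ideal; this row is its case of an affine base.) -/
theorem result (R : Type u) [CommRing R] (I : Ideal R)
    (hI : IsNilpotent I) (X : Over (Spec (CommRingCat.of R))) [Flat X.hom]
    (hX : QuasiCompact X.hom ∨ LocallyOfFinitePresentation X.hom) (P : X ⊗ X ⟶ X)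
    (hassoc : (P ▷ X) ≫ P = (α_ X X X).hom ≫ (X ◁ P) ≫ P)
    (h0 : ∃ _ : GrpObj ((Over.pullback (Spec.map (CommRingCat.ofHom (Ideal.Quotient.mk I)))).obj X),
      μ[(Over.pullback (Spec.map (CommRingCat.ofHom (Ideal.Quotient.mk I)))).obj X] =
        Functor.LaxMonoidal.μ (Over.pullback (Spec.map (CommRingCat.ofHom (Ideal.Quotient.mk I)))) X X ≫ (Over.pullback (Spec.map (CommRingCat.ofHom (Ideal.Quotient.mk I)))).map P) :
    ∃ _ : GrpObj X, μ[X] = P := by
  set π := Spec.map (CommRingCat.ofHom (Ideal.Quotient.mk I)) with hπ
  obtain ⟨g₀, hg₀⟩ := h0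
  haveI : Surjective π := Groth.Agent.GrpSchLib.ThickIso.surjective_SpecMap_quotient I hI
  haveI : Flat (X ⊗ X).hom := by
    show Flat (Limits.pullback.fst X.hom X.hom ≫ X.hom)
    infer_instance
  have key : ∀ σ : X ⊗ X ⟶ X ⊗ X, IsIso ((Over.pullback π).map σ) → IsIso σ := by
    intro σ hσ
    haveI : IsIso σ.left := by
      let e := (Over.forget _).mapIso (asIso ((Over.pullback π).map σ))
      have he1 : e.hom ≫ Limits.pullback.fst (X ⊗ X).hom π = Limits.pullback.fst (X ⊗ X).hom π ≫ σ.left :=
        Limits.pullback.lift_fst _ _ _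
      have he2 : e.hom ≫ Limits.pullback.snd (X ⊗ X).hom π = Limits.pullback.snd (X ⊗ X).hom π :=
        Limits.pullback.lift_snd _ _ _
      exact Groth.Agent.GrpSchLib.ThickIso.isIso_of_thickening I hI (X ⊗ X).hom (X ⊗ X).hom
        (Limits.pullback.fst (X ⊗ X).hom π) (Limits.pullback.fst (X ⊗ X).hom π ≫ σ.left)
        (Limits.pullback.snd (X ⊗ X).hom π) (IsPullback.of_hasPullback _ _)
        (IsPullback.of_iso (IsPullback.of_hasPullback (X ⊗ X).hom π) e.symm (Iso.refl _) (Iso.refl _) (Iso.refl _)
          (by rw [Iso.symm_hom, Iso.eq_inv_comp, Iso.refl_hom, Category.comp_id, he1])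
          (by rw [Iso.symm_hom, Iso.eq_inv_comp, Iso.refl_hom, Category.comp_id, he2]) (by simp) (by simp [hπ]))
        σ.left (Over.w σ) rfl
    haveI : IsIso ((Over.forget _).map σ) := ‹IsIso σ.left›
    exact isIso_of_reflects_iso σ (Over.forget _)
  let μF := Functor.LaxMonoidal.μ (Over.pullback π) X X
  have hP : μF ≫ (Over.pullback π).map P = μ[(Over.pullback π).obj X] := hg₀.symm
  haveI : IsIso μF := inferInstanceAs (IsIso (Functor.LaxMonoidal.μ (Over.pullback π) X X))
  obtain ⟨h₁, h₂⟩ := Groth.Agent.AssocGrp.isIso_shear ((Over.pullback π).obj X)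
  have hl : IsIso (CartesianMonoidalCategory.lift (SemiCartesianMonoidalCategory.fst X X) P) := by
    refine key _ ?_
    have h : μF ≫ (Over.pullback π).map (CartesianMonoidalCategory.lift (SemiCartesianMonoidalCategory.fst X X) P) =
        CartesianMonoidalCategory.lift (SemiCartesianMonoidalCategory.fst _ _) μ[(Over.pullback π).obj X] ≫ μF := by
      rw [← Functor.Monoidal.lift_μ, ← Category.assoc, CartesianMonoidalCategory.comp_lift, hP, Functor.Monoidal.μ_fst]
    haveI : IsIso (μF ≫ (Over.pullback π).map (CartesianMonoidalCategory.lift (SemiCartesianMonoidalCategory.fst X X) P)) := by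
      rw [h]; infer_instance
    exact IsIso.of_isIso_comp_left μF _
  have hr : IsIso (CartesianMonoidalCategory.lift P (SemiCartesianMonoidalCategory.snd X X)) := by
    refine key _ ?_
    have h : μF ≫ (Over.pullback π).map (CartesianMonoidalCategory.lift P (SemiCartesianMonoidalCategory.snd X X)) =
        CartesianMonoidalCategory.lift μ[(Over.pullback π).obj X] (SemiCartesianMonoidalCategory.snd _ _) ≫ μF := by
      rw [← Functor.Monoidal.lift_μ, ← Category.assoc, CartesianMonoidalCategory.comp_lift, hP, Functor.Monoidal.μ_snd]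
    haveI : IsIso (μF ≫ (Over.pullback π).map (CartesianMonoidalCategory.lift P (SemiCartesianMonoidalCategory.snd X X))) := by
      rw [h]; infer_instance
    exact IsIso.of_isIso_comp_left μF _
  haveI : Surjective X.hom := by
    refine ⟨fun s => ?_⟩
    obtain ⟨z, hz⟩ := π.surjective s
    refine ⟨Limits.pullback.fst X.hom π ((η[(Over.pullback π).obj X]).left z), ?_⟩
    rw [← hz, ← Scheme.Hom.comp_apply, Limits.pullback.condition, Scheme.Hom.comp_apply]
    exact congrArg π (congrArg (fun f => f.base z) (Over.w η[(Over.pullback π).obj X]))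
  exact Groth.Agent.AssocGrp.exists_grpObj P hassoc hl hr hX

end Groth.Agent.S8366
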