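import Groth.Statements.S8386
import Groth.Agent.MultConjLib.CentralLiftSub
-- import your own Groth.Agent.* helpers here

set_option autoImplicit false
universe u
open CategoryTheory MonoidalCategory CartesianMonoidalCategory MonObj GrpObj AlgebraicGeometry
open SGA3x

set_option backward.isDefEq.respectTransparency false

namespace Groth.Agent.S8386

open Groth.Agent.MultConjLib Groth.Agent.GrpSchLib

/-- Over an affine base: let A be a ring, J an ideal of A all of whose elements are nilpotent, S = Spec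
A, S₀ = Spec(A/J), G an S-group scheme flat and of finite presentation over S, and H₀ a subgroup
scheme of G₀ = G ×_S S₀ which is smooth and finite over S₀, of multiplicative type and central in
G₀. Then there is a subgroup scheme H of G of multiplicative type with H ×_S S₀ = H₀ as subgroups of
G₀; it is unique (any two such are isomorphic over G); and H is central in G. -/
theorem result (A : Type u) [CommRing A] (J : Ideal A)
    (hJ : ∀ x ∈ J, IsNilpotent x) (G : Over (Spec (CommRingCat.of A))) [GrpObj G] [Flat G.hom] [QuasiCompact G.hom]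
    [QuasiSeparated G.hom] [LocallyOfFinitePresentation G.hom]
    (H₀ : Over (Spec (CommRingCat.of (A ⧸ J)))) [GrpObj H₀] (j₀ : H₀ ⟶ Red.bc (Spec.map (CommRingCat.ofHom (Ideal.Quotient.mk J))) G) [IsMonHom j₀] [Mono j₀]
    [Smooth H₀.hom] [IsFinite H₀.hom] (hm₀ : SGA3x.IsMultTypeFT H₀)
    (hc₀ : (∀ (X : Over _) (x : X ⟶ _) (g : X ⟶ Red.bc (Spec.map (CommRingCat.ofHom (Ideal.Quotient.mk J))) G), (x ≫ j₀) * g = g * (x ≫ j₀))) :
    (∃ (H : Over (Spec (CommRingCat.of A))) (_ : GrpObj H) (j : H ⟶ G), IsMonHom j ∧ Mono j ∧ SGA3x.IsMultTypeFT H ∧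
      (∃ e : Red.bc (Spec.map (CommRingCat.ofHom (Ideal.Quotient.mk J))) H ≅ H₀, e.hom ≫ j₀ = (Over.pullback (Spec.map (CommRingCat.ofHom (Ideal.Quotient.mk J)))).map j) ∧
      (∀ (X : Over _) (x : X ⟶ _) (g : X ⟶ G), (x ≫ j) * g = g * (x ≫ j)) ∧
      ∀ (H' : Over (Spec (CommRingCat.of A))) [GrpObj H'] (j' : H' ⟶ G) [IsMonHom j'] [Mono j'], SGA3x.IsMultTypeFT H' →
        (∃ e' : Red.bc (Spec.map (CommRingCat.ofHom (Ideal.Quotient.mk J))) H' ≅ H₀, e'.hom ≫ j₀ = (Over.pullback (Spec.map (CommRingCat.ofHom (Ideal.Quotient.mk J)))).map j') →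
        ∃ φ : H' ≅ H, φ.hom ≫ j = j') := by
  let π := Spec.map (CommRingCat.ofHom (Ideal.Quotient.mk J))
  haveI : IsClosedImmersion π := IsClosedImmersion.spec_of_surjective _ Ideal.Quotient.mk_surjective
  haveI : Surjective π := CentralLift.surjective_specMk J hJ
  obtain ⟨H, _, hHm, hHf, hHe, ψ, hψ⟩ := CentralLift.exists_multType_lift J hJ H₀ hm₀
  haveI := hHf; haveI := hHe; haveI := hψ
  have hl := isLocDS_of_multTypeFT hHm
  haveI : IsMonHom (ψ.hom ≫ j₀) := inferInstance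
  obtain ⟨j, hjm, hj, hjc, hju⟩ := CentralLift.exists_hom_lift π hl (ψ.hom ≫ j₀) fun X x g => by
    rw [← Category.assoc]; exact hc₀ X (x ≫ ψ.hom) g
  haveI := hjm
  have hmono : Mono j := ⟨fun {X} a b hab => by
    refine CentralLift.eq_of_map_eq π hl (fun Y a b => MultTypeComm.points_comm hHm a b) a b ?_
    obtain ⟨a₀, ha⟩ := (DSPtsLib.theta_bijective (g := π) (H := H)).2 (CentralLift.thick π X ≫ a)
    obtain ⟨b₀, hb⟩ := (DSPtsLib.theta_bijective (g := π) (H := H)).2 (CentralLift.thick π X ≫ b)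
    have h := congrArg (CentralLift.thick π X ≫ ·) hab
    rw [← Category.assoc, ← Category.assoc, ← ha, ← hb, ← HomUnitLocus.theta_comp_map, ← HomUnitLocus.theta_comp_map,
      hj] at h
    have h' := (DSPtsLib.theta_bijective (g := π)).1 h
    rw [← ha, ← hb, (cancel_mono (ψ.hom ≫ j₀)).mp h']⟩
  refine ⟨H, inferInstance, j, hjm, hmono, hHm, ⟨ψ, hj.symm⟩, hjc, fun H' _ j' _ _ hH'm he' => ?_⟩
  obtain ⟨e', he'⟩ := he'
  have hl' := isLocDS_of_multTypeFT hH'm
  haveI : LocallyOfFiniteType H'.hom := MultTypeLft.lft hH'm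
  haveI : IsIso e'.hom.left := inferInstanceAs (IsIso ((Over.forget _).map e'.hom))
  obtain ⟨hf', het'⟩ := CentralLift.finite_etale_of_thick hl' π
    (by rw [← Over.w e'.hom]; infer_instance) (by rw [← Over.w e'.hom]; infer_instance)
  haveI := hf'; haveI := het'
  haveI : IsMonHom e'.hom := by
    haveI : IsMonHom (e'.hom ≫ j₀) := by rw [he']; infer_instance
    exact ⟨(cancel_mono j₀).mp (by rw [Category.assoc, IsMonHom.one_hom j₀]; exact IsMonHom.one_hom (e'.hom ≫ j₀)),
      (cancel_mono j₀).mp (by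
        rw [Category.assoc, Category.assoc, IsMonHom.mul_hom j₀, MonoidalCategory.tensorHom_comp_tensorHom_assoc]
        exact IsMonHom.mul_hom (e'.hom ≫ j₀))⟩
  haveI : Flat H.hom := inferInstance
  haveI : Flat H'.hom := inferInstance
  have hcom : ∀ (K : Over (Spec (CommRingCat.of A))) [GrpObj K], SGA3x.IsMultTypeFT K →
      ∀ (X : Over _) (a b : X ⟶ Red.bc π K), a * b = b * a := fun K _ hK X a b => by
    apply (DSPtsLib.theta_bijective (g := π)).1
    rw [DSPtsLib.theta_mul, DSPtsLib.theta_mul, MultTypeComm.points_comm hK]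
  haveI : IsMonHom (e'.hom ≫ ψ.inv) := inferInstance
  haveI : IsMonHom (ψ.hom ≫ e'.inv) := inferInstance
  obtain ⟨φ, hφm, hφ, -, -⟩ := CentralLift.exists_hom_lift π hl' (e'.hom ≫ ψ.inv) fun X x g => hcom H hHm X _ _
  obtain ⟨χ, hχm, hχ, -, -⟩ := CentralLift.exists_hom_lift π hl (ψ.hom ≫ e'.inv) fun X x g => hcom H' hH'm X _ _
  haveI := hφm; haveI := hχm
  have hid : ∀ (K : Over (Spec (CommRingCat.of A))) [GrpObj K] [IsFinite K.hom] [Etale K.hom], SGA3x.IsMultTypeFT K →
      ∀ v : K ⟶ K, IsMonHom v → (Over.pullback π).map v = 𝟙 _ → v = 𝟙 K := fun K _ _ _ hK v hv h => by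
    obtain ⟨w, -, -, -, hw⟩ := CentralLift.exists_hom_lift π (isLocDS_of_multTypeFT hK) (𝟙 (Red.bc π K))
      fun X x g => hcom K hK X _ _
    exact (hw v hv h).trans (hw (𝟙 K) inferInstance (CategoryTheory.Functor.map_id _ _)).symm
  have h₁ : φ ≫ χ = 𝟙 H' := hid H' hH'm _ inferInstance (by
    rw [Functor.map_comp, hφ, hχ, Category.assoc, Iso.inv_hom_id_assoc, Iso.hom_inv_id])
  have h₂ : χ ≫ φ = 𝟙 H := hid H hHm _ inferInstance (by
    rw [Functor.map_comp, hφ, hχ, Category.assoc, Iso.inv_hom_id_assoc, Iso.hom_inv_id])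
  refine ⟨⟨φ, χ, h₁, h₂⟩, ?_⟩
  show φ ≫ j = j'
  haveI : IsMonHom (e'.hom ≫ j₀) := inferInstance
  obtain ⟨w, -, -, -, hw⟩ := CentralLift.exists_hom_lift π hl' (e'.hom ≫ j₀) fun X x g => by
    rw [← Category.assoc]; exact hc₀ X (x ≫ e'.hom) g
  exact (hw (φ ≫ j) inferInstance (by rw [Functor.map_comp, hφ, hj, Category.assoc, Iso.inv_hom_id_assoc])).trans
    (hw j' inferInstance he'.symm).symm

end Groth.Agent.S8386
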