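import Groth.Statements.S8398
import Groth.Agent.GModLib.CentreTori
import Groth.Agent.GModLib.CentralizerRelative
import Groth.Agent.GModLib.CentralKernelRelative
import Groth.Agent.GModLib.MaxTorusBC

set_option autoImplicit false
universe u
open CategoryTheory MonoidalCategory CartesianMonoidalCategory MonObj GrpObj AlgebraicGeometry
open SGA3x

set_option backward.isDefEq.respectTransparency false
set_option backward.isDefEq.respectTransparency.types false

namespace Groth.Agent.S8398

/-- Let G be an S-group scheme which is smooth and affine over S with connected fibres, T a maximal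
torus of G, and u : H → G a central homomorphism from an S-group scheme H of multiplicative type and
of finite type. Then u factors through T. -/
theorem result (S : Scheme.{u}) (G : Over S) [GrpObj G]
    [Smooth G.hom] [IsAffineHom G.hom] (hconn : ∀ s : S, _root_.IsConnected (G.hom.base ⁻¹' {s}))
    (T : Over S) [GrpObj T] (i : T ⟶ G) (hT : Red.IsMaximalTorus i)
    (H : Over S) [GrpObj H] (hH : SGA3x.IsMultTypeFT H) (u : H ⟶ G) [IsMonHom u]
    (hc : ∀ (X : Over S) (x : X ⟶ H) (g : X ⟶ G), (x ≫ u) * g = g * (x ≫ u)) :
    ∃ w : H ⟶ T, w ≫ i = u := by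
    haveI : LocallyOfFinitePresentation i.left := by
      haveI := hT.2.1
      haveI : IsAffineHom T.hom := (TransLib.multTypeFT_essFree (GrpSchLib.RankOne.isMultTypeFT_of_isTorus hT.2.2.1)).1
      haveI : Smooth T.hom := MultConjLib.smooth_of_isTorus hT.2.2.1
      haveI : LocallyOfFinitePresentation (i.left ≫ G.hom) := by rw [Over.w i]; infer_instance
      exact AlgSpPts.locallyOfFinitePresentation_of_comp i.left G.hom
    haveI := hT.1; haveI := hT.2.1
    obtain ⟨U, -, hU, hUle⟩ := GModLib.EqLocusMono.main i u (GrpSchLib.RankOne.isMultTypeFT_of_isTorus hT.2.2.1) hH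
      (Or.inr fun Y g b => (hc Y b g).symm) (Or.inr inferInstance)
    have hall : ∀ s : S, s ∈ U := fun s => (hU s).mpr (by
      let φ : Spec (CommRingCat.of (AlgebraicClosure (S.residueField s))) ⟶ Spec (S.residueField s) :=
        Spec.map (CommRingCat.ofHom (algebraMap (S.residueField s) (AlgebraicClosure (S.residueField s))))
      refine GModLib.EqLocusMono.Le.of_covers φ (GrpSchLib.HomUnitLocus.covers_field _) ?_
      let σ := Red.geomPt s
      haveI : Smooth (Red.bc σ G).hom := inferInstanceAs (Smooth (Limits.pullback.snd G.hom σ))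
      haveI : IsAffineHom (Red.bc σ G).hom := inferInstanceAs (IsAffineHom (Limits.pullback.snd G.hom σ))
      haveI : IsAffine (Red.bc σ G).left := isAffine_of_isAffineHom (Red.bc σ G).hom
      haveI := GModLib.connectedSpace_geomFibre hconn s
      obtain ⟨θ, hθ⟩ := GModLib.central_multType_factors ((Over.pullback σ).map i)
        (GModLib.isMaxTorus_of_isMaximalTorus (GModLib.isMaximalTorus_bc i hT σ))
        (GrpSchLib.MultTypeBC.isMultTypeFT_bc σ hH) ((Over.pullback σ).map u) (fun X x g => (DSPtsLib.theta_bijective σ).1 (by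
          rw [DSPtsLib.theta_mul, DSPtsLib.theta_mul, GModLib.BC.theta_map]
          exact hc _ _ _))
      exact GModLib.le_of_map i u σ θ hθ)
    obtain ⟨w, hw⟩ := hUle H (Over.homMk (IsOpenImmersion.lift U.ι H.hom (by
      rintro _ ⟨x, rfl⟩; exact ⟨⟨_, hall _⟩, rfl⟩)) (IsOpenImmersion.lift_fac _ _ _)) (𝟙 H)
    exact ⟨w, hw.trans (Category.id_comp u)⟩

end Groth.Agent.S8398
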