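import Groth.Statements.S8401
import Groth.Agent.GModLib.CentreTori

set_option autoImplicit false
universe u
open CategoryTheory MonoidalCategory CartesianMonoidalCategory MonObj GrpObj AlgebraicGeometry
open SGA3x

set_option backward.isDefEq.respectTransparency false
set_option backward.isDefEq.respectTransparency.types false

namespace Groth.Agent.S8401

/-- Let G be an affine, smooth, connected algebraic group over an algebraically closed field k, and Z
its reductive centre. Then Z is the scheme-theoretic intersection of the maximal tori of G: a point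
of G with values in a k-scheme X factors through Z if and only if it factors through every maximal
torus of G. -/
theorem result (k : Type u) [Field k] [IsAlgClosed k]
    (G : Over (Spec (CommRingCat.of k))) [GrpObj G] [Smooth G.hom] [QuasiCompact G.hom] [IsAffine G.left] [ConnectedSpace ↥G.left]
    (Z : Over (Spec (CommRingCat.of k))) [GrpObj Z] (z : Z ⟶ G)
    (hZ : (IsMonHom z ∧ Mono z ∧ SGA3x.IsMultTypeFT Z ∧
      (∀ (X : Over (Spec (CommRingCat.of k))) (x : X ⟶ Z) (g : X ⟶ G), (x ≫ z) * g = g * (x ≫ z)) ∧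
      ∀ (S' : Scheme.{u}) (f : S' ⟶ (Spec (CommRingCat.of k))) (H : Over S') [GrpObj H] (v : H ⟶ Red.bc f G) [IsMonHom v],
        SGA3x.IsMultTypeFT H →
        (∀ (X : Over S') (x : X ⟶ H) (g : X ⟶ Red.bc f G), (x ≫ v) * g = g * (x ≫ v)) →
        ∃ w : H ⟶ Red.bc f Z, w ≫ (Over.pullback f).map z = v)) (X : Over (Spec (CommRingCat.of k))) (g : X ⟶ G) :
    (∃ x : X ⟶ Z, x ≫ z = g) ↔
      ∀ (T : Over (Spec (CommRingCat.of k))) [GrpObj T] (i : T ⟶ G), Red.IsMaximalTorus i → ∃ t : X ⟶ T, t ≫ i = g := by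
    obtain ⟨hzm, hzmo, hZt, hzc, hzu⟩ := hZ
    haveI := hzm; haveI := hzmo
    refine GModLib.reductiveCentre_iff_mem_all z hZt hzc (fun H _ v _ hH hv => ?_) X g
    let e : ∀ Y : Over (Spec (CommRingCat.of k)), (Over.map (𝟙 _)).obj Y ⟶ Y := fun Y =>
      Over.homMk (𝟙 Y.left) (by show 𝟙 _ ≫ Y.hom = Y.hom ≫ 𝟙 _; rw [Category.id_comp, Category.comp_id])
    have he : ∀ {Y W : Over (Spec (CommRingCat.of k))} (a : Y ⟶ W), (Over.map (𝟙 _)).map a ≫ e W = e Y ≫ a :=
      fun a => Over.OverMorphism.ext ((Category.comp_id _).trans (Category.id_comp _).symm)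
    haveI : ∀ Y, IsIso (e Y) := fun Y => by
      haveI : IsIso ((Over.forget _).map (e Y)) := inferInstanceAs (IsIso (𝟙 Y.left))
      exact isIso_of_reflects_iso (e Y) (Over.forget _)
    obtain ⟨v', hv'⟩ := (DSPtsLib.theta_bijective (𝟙 _)).2 (e H ≫ v)
    have key : ∀ {Y : Over (Spec (CommRingCat.of k))} (a : Y ⟶ H),
        DSPtsLib.theta (𝟙 _) (a ≫ v') = e Y ≫ a ≫ v := fun a => by
      rw [DSPtsLib.theta_comp, hv', reassoc_of% (he a)]
    haveI : IsMonHom v' := LargeNormal.isMonHom_of_mul v' fun Y a b => (DSPtsLib.theta_bijective (𝟙 _)).1 (by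
      rw [DSPtsLib.theta_mul, key, key, key, ← MonObj.comp_mul, MonObj.mul_comp])
    obtain ⟨w, hw⟩ := hzu _ (𝟙 _) H v' hH fun Y x y => (DSPtsLib.theta_bijective (𝟙 _)).1 (by
      obtain ⟨y', hy'⟩ : ∃ y' : Y ⟶ G, DSPtsLib.theta (𝟙 _) y = e Y ≫ y' := ⟨inv (e Y) ≫ _, (IsIso.hom_inv_id_assoc _ _).symm⟩
      rw [DSPtsLib.theta_mul, DSPtsLib.theta_mul, key, hy', ← MonObj.comp_mul, ← MonObj.comp_mul, hv])
    refine ⟨inv (e H) ≫ DSPtsLib.theta (𝟙 _) w, ?_⟩
    rw [Category.assoc, ← GModLib.BC.theta_map, hw, hv', IsIso.inv_hom_id_assoc]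

end Groth.Agent.S8401
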