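import Groth.Statements.S8404
import Groth.Agent.RankLib.Consequences

set_option autoImplicit false
universe u
open CategoryTheory MonoidalCategory CartesianMonoidalCategory MonObj GrpObj AlgebraicGeometry
open SGA3x

set_option backward.isDefEq.respectTransparency false
set_option backward.isDefEq.respectTransparency.types false

namespace Groth.Agent.S8404

/-- Let G be an S-group scheme, smooth and affine over S, such that every geometric fibre of G is
connected and nilpotent (its group of points over the algebraic closure is a nilpotent group), and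
such that the reductive rank of G is locally constant. Then G has a unique maximal torus T; T is
central and contains every subtorus of G. -/
theorem result (S : Scheme.{u}) (G : Over S) [GrpObj G]
    [Smooth G.hom] [IsAffineHom G.hom]
    (hconn : ∀ s : S, ConnectedSpace ↥(Red.geomFibre s G).left)
    (hnil : ∀ s : S, Group.IsNilpotent
      (𝟙_ (Over (Spec (CommRingCat.of (AlgebraicClosure (S.residueField s))))) ⟶ Red.geomFibre s G))
    (hr : SGA3x.RedRankLocallyConstant G) :
    ∃ (T : Over S) (_ : GrpObj T) (i : T ⟶ G), Red.IsMaximalTorus i ∧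
      (∀ (X : Over S) (t : X ⟶ T) (g : X ⟶ G), (t ≫ i) * g = g * (t ≫ i)) ∧
      ∀ (R : Over S) [GrpObj R] (j : R ⟶ G) [IsMonHom j] [Mono j], Red.IsTorus R → ∃ f : R ⟶ T, f ≫ i = j := by
    obtain ⟨S', f, hfe, hfs, T, _, i, hi⟩ := Groth.Agent.RankLib.hasMaxTorusEtaleLocally_of_rank G hr
    haveI := hfe; haveI := hfs
    haveI : Smooth (Red.bc f G).hom := inferInstanceAs (Smooth (Limits.pullback.snd G.hom f))
    haveI : IsAffineHom (Red.bc f G).hom := MorphismProperty.pullback_snd G.hom f ‹IsAffineHom G.hom›
    exact Groth.Agent.GModLib.exists_centralTorus (Groth.Agent.FpqcDescLib.isCovering_of_lfp f) i hi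
      (Groth.Agent.RankLib.central_maxTorus_of_nilpotent (Red.bc f G) (fun s' => (Groth.Agent.RankLib.nilpotent_fibres_bc G hconn hnil f s').1)
        (fun s' => (Groth.Agent.RankLib.nilpotent_fibres_bc G hconn hnil f s').2) i hi)

end Groth.Agent.S8404
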