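import Groth.Statements.S8406
import Groth.Agent.GModLib.MaxTorusGeom
import Groth.Agent.S3901
import Groth.Agent.Chevalley.BC.NonConn

set_option autoImplicit false
universe u
open CategoryTheory MonoidalCategory CartesianMonoidalCategory MonObj GrpObj AlgebraicGeometry
open SGA3x

set_option backward.isDefEq.respectTransparency false
set_option backward.isDefEq.respectTransparency.types false

namespace Groth.Agent.S8406

/-- Let G be a smooth connected algebraic group (not necessarily affine) over an algebraically closed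
field k. Then any two maximal tori of G are conjugate by an element of G(k). -/
theorem result (k : Type u) [Field k] [IsAlgClosed k]
    (G : Over (Spec (CommRingCat.of k))) [GrpObj G] [Smooth G.hom] [QuasiCompact G.hom] [ConnectedSpace ↥G.left]
    (T₁ T₂ : Over (Spec (CommRingCat.of k))) [GrpObj T₁] [GrpObj T₂] (i₁ : T₁ ⟶ G) (i₂ : T₂ ⟶ G)
    (h₁ : Red.IsMaximalTorus i₁) (h₂ : Red.IsMaximalTorus i₂) :
    ∃ g : 𝟙_ (Over (Spec (CommRingCat.of k))) ⟶ G, SGA3x.ConjBy i₁ i₂ g := by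
  have ha₁ := GModLib.isMaxTorus_of_isMaximalTorus h₁
  have ha₂ := GModLib.isMaxTorus_of_isMaximalTorus h₂
  obtain ⟨hm₁, hmo₁, ht₁, hmax₁⟩ := id ha₁
  obtain ⟨hm₂, hmo₂, ht₂, hmax₂⟩ := id ha₂
  obtain ⟨L, _, l, hl, hfac⟩ := Chevalley.BC.exists_affPart G
  haveI := hl.hom; haveI := hl.closed; haveI := hl.smooth; haveI := hl.conn
  haveI : IsAffine L.left := hl.prop
  haveI : Mono l := Over.mono_of_mono_left l
  have hfac' : ∀ (T : Over (Spec (CommRingCat.of k))) [GrpObj T] (i : T ⟶ G) (h : AGF.IsMaxTorus i),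
      ∃ e : T ⟶ L, e ≫ l = i ∧ AGF.IsMaxTorus e := by
    intro T _ i ⟨hm, hmo, ht, hmax⟩
    haveI := hm; haveI := hmo
    obtain ⟨q1, q2, q3, -, -⟩ := GModLib.TorusBasic.torus_props ht
    haveI := q1; haveI := q2; haveI := q3
    obtain ⟨e, he⟩ := hfac T i
    haveI : IsMonHom (e ≫ l) := he ▸ hm
    haveI : IsMonHom e :=
      { one_hom := by rw [← cancel_mono l, Category.assoc, IsMonHom.one_hom (e ≫ l), IsMonHom.one_hom l]
        mul_hom := by
          rw [← cancel_mono l, Category.assoc, IsMonHom.mul_hom (e ≫ l), Category.assoc, IsMonHom.mul_hom l,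
            ← Category.assoc (_ ⊗ₘ _), MonoidalCategory.tensorHom_comp_tensorHom] }
    haveI : Mono (e ≫ l) := he ▸ hmo
    haveI : Mono e := mono_of_mono e l
    exact ⟨e, he, inferInstance, inferInstance, ht, fun T' _ j _ _ f hT' hf =>
      hmax T' (j ≫ l) f hT' (by rw [← Category.assoc, hf, he])⟩
  obtain ⟨e₁, he₁, hM₁⟩ := hfac' T₁ i₁ ha₁
  obtain ⟨e₂, he₂, hM₂⟩ := hfac' T₂ i₂ ha₂
  obtain ⟨g, φ, hφ⟩ := Groth.Agent.S3901.result k L T₁ T₂ e₁ e₂ hM₁ hM₂
  refine ⟨g ≫ l, φ, ?_⟩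
  rw [← he₂, ← Category.assoc φ.hom e₂ l, hφ]
  simp only [AGF.conjBy, MonObj.mul_comp, GrpObj.inv_comp, Category.assoc, he₁]

end Groth.Agent.S8406
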