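import Groth.Statements.S8409
import Groth.Agent.GModLib.NilpotentTori

set_option autoImplicit false
universe u
open CategoryTheory MonoidalCategory CartesianMonoidalCategory MonObj GrpObj AlgebraicGeometry
open SGA3x

set_option backward.isDefEq.respectTransparency false
set_option backward.isDefEq.respectTransparency.types false

namespace Groth.Agent.S8409

/-- Let G be a smooth connected algebraic group (not necessarily affine) over an algebraically closed
field k. Then G is nilpotent (the group G(k) is nilpotent) if and only if every torus in G is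
central, if and only if G has only one maximal torus. (The published statement adds that the unique
maximal torus is then the largest subtorus of G; this row omits that clause.) -/
theorem result (k : Type u) [Field k] [IsAlgClosed k]
    (G : Over (Spec (CommRingCat.of k))) [GrpObj G] [Smooth G.hom] [QuasiCompact G.hom] [ConnectedSpace ↥G.left] :
    (Group.IsNilpotent (𝟙_ (Over (Spec (CommRingCat.of k))) ⟶ G) ↔
      ∀ (T : Over (Spec (CommRingCat.of k))) [GrpObj T] (j : T ⟶ G) [IsMonHom j] [Mono j], Red.IsTorus T →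
        ∀ (X : Over (Spec (CommRingCat.of k))) (t : X ⟶ T) (g : X ⟶ G), (t ≫ j) * g = g * (t ≫ j)) ∧
    (Group.IsNilpotent (𝟙_ (Over (Spec (CommRingCat.of k))) ⟶ G) ↔
      ∀ (T₁ T₂ : Over (Spec (CommRingCat.of k))) [GrpObj T₁] [GrpObj T₂] (i₁ : T₁ ⟶ G) (i₂ : T₂ ⟶ G),
        Red.IsMaximalTorus i₁ → Red.IsMaximalTorus i₂ → ∃ φ : T₁ ≅ T₂, φ.hom ≫ i₂ = i₁) := by
  have key : Group.IsNilpotent (𝟙_ (Over (Spec (CommRingCat.of k))) ⟶ G) ↔
      Group.IsNilpotent (VecGrp.pt k k ⟶ G) := by
    refine Group.isNilpotent_congr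
      { toFun := fun g => toUnit (VecGrp.pt k k) ≫ g
        invFun := fun g => GModLib.toPt _ ≫ g
        left_inv := fun g => by
          show GModLib.toPt _ ≫ toUnit (VecGrp.pt k k) ≫ g = g
          rw [← Category.assoc, toUnit_unique (GModLib.toPt _ ≫ toUnit _) (𝟙 _), Category.id_comp]
        right_inv := fun g => by
          show toUnit (VecGrp.pt k k) ≫ GModLib.toPt _ ≫ g = g
          rw [← Category.assoc, GModLib.toUnit_toPt, Category.id_comp]
        map_mul' := fun a b => MonObj.comp_mul _ a b }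
  have hu : (∀ (T : Over (Spec (CommRingCat.of k))) [GrpObj T] (j : T ⟶ G) [IsMonHom j] [Mono j], Red.IsTorus T →
      ∀ (X : Over (Spec (CommRingCat.of k))) (t : X ⟶ T) (g : X ⟶ G), (t ≫ j) * g = g * (t ≫ j)) ↔
      ∀ (T₁ T₂ : Over (Spec (CommRingCat.of k))) [GrpObj T₁] [GrpObj T₂] (i₁ : T₁ ⟶ G) (i₂ : T₂ ⟶ G),
        Red.IsMaximalTorus i₁ → Red.IsMaximalTorus i₂ → ∃ φ : T₁ ≅ T₂, φ.hom ≫ i₂ = i₁ := by
    constructor
    · intro h T₁ T₂ _ _ i₁ i₂ h₁ h₂
      haveI := h₂.1; haveI := h₂.2.1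
      exact GModLib.maxTorus_unique_of_central i₂ (GModLib.isMaxTorus_of_isMaximalTorus h₂) i₁
        (GModLib.isMaxTorus_of_isMaximalTorus h₁) fun X g a => (h T₂ i₂ h₂.2.2.1 X a g).symm
    · intro h T _ j _ _ hT X t g
      exact GModLib.central_of_unique (fun T₁ T₂ _ _ i₁ i₂ h₁ h₂ => h T₁ T₂ i₁ i₂
        (GModLib.isMaximalTorus_of_isMaxTorus h₁) (GModLib.isMaximalTorus_of_isMaxTorus h₂)) T j hT X t g
  have h1 : Group.IsNilpotent (𝟙_ (Over (Spec (CommRingCat.of k))) ⟶ G) ↔
      ∀ (T : Over (Spec (CommRingCat.of k))) [GrpObj T] (j : T ⟶ G) [IsMonHom j] [Mono j], Red.IsTorus T →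
        ∀ (X : Over (Spec (CommRingCat.of k))) (t : X ⟶ T) (g : X ⟶ G), (t ≫ j) * g = g * (t ≫ j) :=
    ⟨fun h T _ j _ _ hT X t g => GModLib.central_of_isNilpotent (key.mp h) j hT X t g,
      fun h => key.mpr (GModLib.isNilpotent_of_central h)⟩
  exact ⟨h1, h1.trans hu⟩

end Groth.Agent.S8409
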