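import Groth.Statements.S8422
import Groth.Agent.GModLib.BorelConjNonAffine

set_option autoImplicit false
universe u
open CategoryTheory MonoidalCategory CartesianMonoidalCategory MonObj GrpObj AlgebraicGeometry
open SGA3x

set_option backward.isDefEq.respectTransparency false
set_option backward.isDefEq.respectTransparency.types false

namespace Groth.Agent.S8422

/-- Let G be a smooth algebraic group (not necessarily affine) over an algebraically closed field k.
Then the Borel subgroups of G are conjugate; the maximal tori of a Borel subgroup B are maximal tori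
of G; and if G is connected, the Cartan subgroups of B are Cartan subgroups of G. (The published
statement also asserts that G/B is projective; this row omits that assertion.) -/
theorem result (k : Type u) [Field k] [IsAlgClosed k]
    (G : Over (Spec (CommRingCat.of k))) [GrpObj G] [Smooth G.hom] [QuasiCompact G.hom] :
    (∀ (B₁ B₂ : Over (Spec (CommRingCat.of k))) [GrpObj B₁] [GrpObj B₂] (b₁ : B₁ ⟶ G) (b₂ : B₂ ⟶ G),
      Red.IsBorelOver k b₁ → Red.IsBorelOver k b₂ → ∃ g : 𝟙_ (Over (Spec (CommRingCat.of k))) ⟶ G, SGA3x.ConjBy b₁ b₂ g) ∧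
    (∀ (B : Over (Spec (CommRingCat.of k))) [GrpObj B] (b : B ⟶ G), Red.IsBorelOver k b →
      ∀ (T : Over (Spec (CommRingCat.of k))) [GrpObj T] (t : T ⟶ B), Red.IsMaximalTorus t → Red.IsMaximalTorus (t ≫ b)) ∧
    (ConnectedSpace ↥G.left → ∀ (B : Over (Spec (CommRingCat.of k))) [GrpObj B] (b : B ⟶ G), Red.IsBorelOver k b →
      ∀ (C : Over (Spec (CommRingCat.of k))) [GrpObj C] (c : C ⟶ B), SGA3x.IsCartanOver k c → SGA3x.IsCartanOver k (c ≫ b)) := by
  haveI : IsSeparated G.hom := GrpSchLib.AntiAffine.isSeparated_grp G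
  obtain ⟨N, _, c, hcm, hcc, hNs, hNq, hNc, hcr⟩ := Chevalley.BC.exists_comp G
  haveI := hcm; haveI := hcc; haveI := hNs; haveI := hNq; haveI := hNc
  haveI : Mono c := Over.mono_of_mono_left c
  have hfac : ∀ (D : Over (Spec (CommRingCat.of k))) [GrpObj D] [Smooth D.hom] [ConnectedSpace D.left] (i : D ⟶ G)
      [IsMonHom i], ∃ (i' : D ⟶ N), i' ≫ c = i ∧ IsMonHom i' := fun D _ _ _ i _ => by
    haveI : IsReduced D.left := GrpSchLib.isReduced_of_smooth_field D.hom
    obtain ⟨g, hg⟩ := Chevalley.BC.exists_factor G hcr i (Chevalley.Val.pp η[D]) (by rw [← IsMonHom.one_hom i]; rfl)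
    haveI : IsMonHom (g ≫ c) := hg ▸ inferInstance
    exact ⟨g, hg, GModLib.isMonHom_of_comp g c⟩
  have hBor : ∀ (B : Over (Spec (CommRingCat.of k))) [GrpObj B] (b : B ⟶ G), Red.IsBorelOver k b →
      ∃ (b' : B ⟶ N), b' ≫ c = b ∧ Red.IsBorelOver k b' := fun B _ b hB => by
    haveI := hB.1; haveI := hB.2.1; haveI := hB.2.2.1; haveI := hB.2.2.2.1
    obtain ⟨b', hb', hm⟩ := hfac B b
    haveI := hm
    haveI : IsClosedImmersion b'.left := by
      haveI : IsClosedImmersion (b'.left ≫ c.left) := by rw [← Over.comp_left, hb']; infer_instance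
      exact IsClosedImmersion.of_comp _ c.left
    refine ⟨b', hb', inferInstance, inferInstance, hB.2.2.1, hB.2.2.2.1, hB.2.2.2.2.1, fun B' _ i' _ f hcl hsm hcn hsol hf => ?_⟩
    haveI := hcl
    exact hB.2.2.2.2.2 B' (i' ≫ c) f (by rw [Over.comp_left]; infer_instance) hsm hcn hsol
      (by rw [← Category.assoc, hf, hb'])
  refine ⟨fun B₁ B₂ _ _ b₁ b₂ h₁ h₂ => ?_, fun B _ b hB T _ t hT => ?_, fun hconn B _ b hB C _ e he => ?_⟩
  · obtain ⟨a₁, ha₁, hA₁⟩ := hBor B₁ b₁ h₁
    obtain ⟨a₂, ha₂, hA₂⟩ := hBor B₂ b₂ h₂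
    obtain ⟨x, φ, hφ⟩ := GModLib.borel_conj_nonaffine a₁ a₂ hA₁ hA₂
    refine ⟨x ≫ c, φ, ?_⟩
    rw [← GModLib.comp_inner, ← ha₂, ← ha₁, reassoc_of% hφ, GModLib.inner_comp_hom, Category.assoc]
  · obtain ⟨a, ha, hA⟩ := hBor B b hB
    have hTa := GModLib.isMaxTorus_of_borel a hA t (GModLib.isMaxTorus_of_isMaximalTorus hT)
    refine GModLib.isMaximalTorus_of_isMaxTorus ?_
    haveI := hTa.1; haveI := hTa.2.1
    rw [← ha, ← Category.assoc]
    refine ⟨inferInstance, inferInstance, hT.2.2.1, fun T' _ j _ _ f hT' hf => ?_⟩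
    obtain ⟨q1, q2, q3, -, -⟩ := GModLib.TorusBasic.torus_props hT'
    haveI := q1; haveI := q2; haveI := q3
    obtain ⟨j', hj', hm⟩ := hfac T' j
    haveI := hm
    haveI : Mono (j' ≫ c) := hj' ▸ inferInstance
    haveI : Mono j' := mono_of_mono j' c
    exact hTa.2.2.2 T' j' f hT' (by rw [← cancel_mono c, Category.assoc, hj', hf])
  · haveI := hconn
    haveI := hB.1; haveI := hB.2.1
    haveI : Mono b := Over.mono_of_mono_left b
    obtain ⟨hem, hemo, T, _, t, hT, hC⟩ := he
    haveI := hem; haveI := hemo; haveI := hT.1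
    have hTG := GModLib.isMaxTorus_of_borel b hB t (GModLib.isMaxTorus_of_isMaximalTorus hT)
    refine ⟨inferInstance, inferInstance, T, inferInstance, t ≫ b, GModLib.isMaximalTorus_of_isMaxTorus hTG,
      inferInstance, inferInstance, fun X g => ⟨?_, fun h => ?_⟩⟩
    · rintro ⟨z, rfl⟩ X' x s
      have h := (hC.2.2 X (z ≫ e)).mp ⟨z, rfl⟩ X' x s
      have h' := congrArg (fun v => v ≫ b) h
      simp only [MonObj.mul_comp] at h'
      simp only [Category.assoc] at h' ⊢
      exact h'
    · obtain ⟨v, hv⟩ := GModLib.centralizer_le_borel_nonaffine b hB t hTG g fun X' x s => h X' x s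
      obtain ⟨z, hz⟩ := (hC.2.2 X v).mpr fun X' x s => by
        rw [← cancel_mono b, MonObj.mul_comp, MonObj.mul_comp, Category.assoc, Category.assoc, hv]
        exact h X' x s
      exact ⟨z, by rw [reassoc_of% hz, hv]⟩

end Groth.Agent.S8422
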