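import Groth.Statements.S8424
import Groth.Agent.GModLib.CartanNormalizer

set_option autoImplicit false
universe u
open CategoryTheory MonoidalCategory CartesianMonoidalCategory MonObj GrpObj AlgebraicGeometry
open SGA3x

set_option backward.isDefEq.respectTransparency false
set_option backward.isDefEq.respectTransparency.types false

namespace Groth.Agent.S8424

/-- Let G be a smooth algebraic group (not necessarily affine) over an algebraically closed field k, B a
Borel subgroup of G, C a Cartan subgroup of B and N the normalizer of C in G. Then N ∩ B = C: a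
point of G with values in a k-scheme factors through N and through B if and only if it factors
through C. -/
theorem result (k : Type u) [Field k] [IsAlgClosed k]
    (G : Over (Spec (CommRingCat.of k))) [GrpObj G] [Smooth G.hom] [QuasiCompact G.hom]
    (B : Over (Spec (CommRingCat.of k))) [GrpObj B] (b : B ⟶ G) (hB : Red.IsBorelOver k b)
    (C : Over (Spec (CommRingCat.of k))) [GrpObj C] (c : C ⟶ B) (hC : SGA3x.IsCartanOver k c)
    (N : Over (Spec (CommRingCat.of k))) [GrpObj N] (n : N ⟶ G) (hN : Red.IsNormalizerOf (c ≫ b) n)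
    (X : Over (Spec (CommRingCat.of k))) (g : X ⟶ G) :
    ((∃ x : X ⟶ N, x ≫ n = g) ∧ (∃ y : X ⟶ B, y ≫ b = g)) ↔ ∃ z : X ⟶ C, z ≫ c ≫ b = g := by
  haveI := hB.1; haveI := hB.2.1; haveI := hB.2.2.1; haveI := hB.2.2.2.1
  haveI : Mono b := Over.mono_of_mono_left b
  haveI : QuasiCompact B.hom := by rw [← Over.w b]; infer_instance
  obtain ⟨hcm, hcmo, T, _, t, hT, hCc⟩ := hC
  haveI := hcm; haveI := hcmo
  constructor
  · rintro ⟨⟨x, hx⟩, ⟨y, rfl⟩⟩
    have hnorm := (hN.2.2 X (y ≫ b)).mp ⟨x, hx⟩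
    obtain ⟨v, hv⟩ := GModLib.cartan_self_normalizing hB.2.2.2.2.1 t (GModLib.isMaxTorus_of_isMaximalTorus hT) c hCc y
      fun X' r h => by
        obtain ⟨⟨h₁, e₁⟩, ⟨h₂, e₂⟩⟩ := hnorm X' r h
        refine ⟨⟨h₁, ?_⟩, ⟨h₂, ?_⟩⟩
        · rw [← cancel_mono b, MonObj.mul_comp, MonObj.mul_comp, GrpObj.inv_comp, Category.assoc, Category.assoc,
            Category.assoc, e₁]
        · rw [← cancel_mono b, MonObj.mul_comp, MonObj.mul_comp, GrpObj.inv_comp, Category.assoc, Category.assoc,
            Category.assoc, e₂]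
    exact ⟨v, by rw [← hv, Category.assoc]⟩
  · rintro ⟨z, rfl⟩
    refine ⟨(hN.2.2 X _).mpr fun X' r h => ⟨⟨(r ≫ z) * h * (r ≫ z)⁻¹, ?_⟩, ⟨(r ≫ z)⁻¹ * h * (r ≫ z), ?_⟩⟩,
      ⟨z ≫ c, by rw [Category.assoc]⟩⟩
    · simp only [MonObj.mul_comp, GrpObj.inv_comp, Category.assoc]
    · simp only [MonObj.mul_comp, GrpObj.inv_comp, Category.assoc]

end Groth.Agent.S8424
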