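import Groth.Statements.S8428
import Groth.Agent.S4147
import Groth.Agent.S4117
import Groth.Agent.GModLib.FibreSurj
import Groth.Agent.GModLib.NeutralTorus

set_option autoImplicit false
universe u
open CategoryTheory MonoidalCategory CartesianMonoidalCategory MonObj GrpObj AlgebraicGeometry
open SGA3x

set_option backward.isDefEq.respectTransparency false
set_option backward.isDefEq.respectTransparency.types false

namespace Groth.Agent.S8428

/-- Let G and G′ be S-group schemes, smooth, separated and of finite type over S, G admitting a maximal
torus locally for the fpqc topology, and u : G → G′ a homomorphism which is surjective on every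
geometric fibre. Then G′ admits a maximal torus locally for the etale topology. -/
theorem result (S : Scheme.{u}) (G G' : Over S) [GrpObj G] [GrpObj G']
    [Smooth G.hom] [IsSeparated G.hom] [QuasiCompact G.hom] [Smooth G'.hom] [IsSeparated G'.hom] [QuasiCompact G'.hom]
    (hG : SGA3x.HasMaxTorusFpqcLocally G) (u : G ⟶ G') [IsMonHom u]
    (hu : ∀ s : S, Surjective ((Over.pullback (Red.geomPt s)).map u).left) :
    SGA3x.HasMaxTorusEtaleLocally G' := by
    obtain ⟨S', g, hge, hgs, T, iT, i, hT⟩ := Groth.Agent.S4117.result S G hG
    haveI : Smooth (Red.bc g G).hom := inferInstanceAs (Smooth (Limits.pullback.snd G.hom g))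
    haveI : IsSeparated (Red.bc g G).hom := inferInstanceAs (IsSeparated (Limits.pullback.snd G.hom g))
    haveI : QuasiCompact (Red.bc g G).hom := inferInstanceAs (QuasiCompact (Limits.pullback.snd G.hom g))
    haveI : Smooth (Red.bc g G').hom := inferInstanceAs (Smooth (Limits.pullback.snd G'.hom g))
    haveI : IsSeparated (Red.bc g G').hom := inferInstanceAs (IsSeparated (Limits.pullback.snd G'.hom g))
    haveI : QuasiCompact (Red.bc g G').hom := inferInstanceAs (QuasiCompact (Limits.pullback.snd G'.hom g))
    obtain ⟨T', iT', i', v, hT', -⟩ := Groth.Agent.S4147.result S' (Red.bc g G) (Red.bc g G')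
      (GModLib.hasMaxTorusFpqcLocally_bc hG g) ((Over.pullback g).map u)
      (fun s => GModLib.surjective_geomFibre_bc u hu g s) T i hT
    exact ⟨S', g, hge, hgs, T', iT', i', hT'⟩

end Groth.Agent.S8428
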