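import Groth.Statements.S8430
import Groth.Agent.GModLib.CentralKernelPreimage

set_option autoImplicit false
universe u
open CategoryTheory MonoidalCategory CartesianMonoidalCategory MonObj GrpObj AlgebraicGeometry
open SGA3x

set_option backward.isDefEq.respectTransparency false
set_option backward.isDefEq.respectTransparency.types false

namespace Groth.Agent.S8430

/-- Let G, G′ be S-group schemes, smooth and of finite presentation over S, u : G → G′ a homomorphism
which is faithfully flat on every fibre, with Ker u central and G with connected fibres. Then for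
every subgroup scheme H′ of G′, smooth and of finite presentation over S and having the same
reductive and nilpotent ranks as G′ at every point (each geometric fibre contains a Cartan
subgroup), the inverse image H = u⁻¹(H′) is a subgroup scheme of G, smooth and of finite
presentation over S, with the same property relative to G; and H has connected fibres if and only if
H′ does. (The published statement also asserts that H′ ↦ u⁻¹(H′) is a bijection onto the subgroup
schemes of G that are smooth, of finite presentation and have the ranks of G everywhere; this row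
states only that u⁻¹(H′) is one of them.) -/
theorem result (S : Scheme.{u}) (G G' : Over S)
    [GrpObj G] [GrpObj G'] [Smooth G.hom] [QuasiCompact G.hom] [QuasiSeparated G.hom]
    [Smooth G'.hom] [QuasiCompact G'.hom] [QuasiSeparated G'.hom]
    (hconn : ∀ s : S, _root_.IsConnected (G.hom.base ⁻¹' {s}))
    (u : G ⟶ G') [IsMonHom u] (hu : ∀ s : S, Surjective ((Over.pullback (S.fromSpecResidueField s)).map u).left ∧
      Flat ((Over.pullback (S.fromSpecResidueField s)).map u).left)
    (hker : ∀ (X : Over S) (z : X ⟶ G), z ≫ u = 1 → ∀ (X' : Over S) (x : X' ⟶ X) (g : X' ⟶ G),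
      (x ≫ z) * g = g * (x ≫ z))
    (H' : Over S) [GrpObj H'] (h' : H' ⟶ G') [IsMonHom h'] [Mono h'] [Smooth H'.hom] [QuasiCompact H'.hom]
    (hH' : ∀ s : S, ∃ (C' : Over (Spec (CommRingCat.of (AlgebraicClosure (S.residueField s))))) (_ : GrpObj C')
      (c' : C' ⟶ Red.geomFibre s H'), SGA3x.IsCartanOver _ (c' ≫ (Over.pullback (Red.geomPt s)).map h')) :
    Smooth (Limits.pullback h' u).hom ∧ QuasiCompact (Limits.pullback h' u).hom ∧
    (∀ s : S, ∃ (C : Over (Spec (CommRingCat.of (AlgebraicClosure (S.residueField s))))) (_ : GrpObj C)
      (c : C ⟶ Red.geomFibre s (Limits.pullback h' u)),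
      SGA3x.IsCartanOver _ (c ≫ (Over.pullback (Red.geomPt s)).map (Limits.pullback.snd h' u))) ∧
    ((∀ s : S, _root_.IsConnected ((Limits.pullback h' u).hom.base ⁻¹' {s})) ↔
      ∀ s : S, _root_.IsConnected (H'.hom.base ⁻¹' {s})) := by
    haveI hus : Surjective u.left := ⟨fun y => by
      let s : S := G'.hom y
      obtain ⟨z, hz, -⟩ := Scheme.Pullback.exists_preimage_pullback (f := G'.hom) (g := S.fromSpecResidueField s) y
        (IsLocalRing.closedPoint _) (Scheme.fromSpecResidueField_apply _ _).symm
      obtain ⟨w, hw⟩ := (hu s).1.1 z
      refine ⟨Limits.pullback.fst G.hom (S.fromSpecResidueField s) w, ?_⟩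
      have h1 : Limits.pullback.fst G.hom (S.fromSpecResidueField s) ≫ u.left =
          ((Over.pullback (S.fromSpecResidueField s)).map u).left ≫ Limits.pullback.fst G'.hom _ :=
        (Limits.pullback.lift_fst _ _ _).symm
      rw [← Scheme.Hom.comp_apply, h1, Scheme.Hom.comp_apply]
      exact (congrArg (Limits.pullback.fst G'.hom (S.fromSpecResidueField s)) hw).trans hz⟩
    haveI : GeometricallyReduced G'.hom := GrpSchLib.IsogenyFibre.geometricallyReduced_of_smooth' G'.hom
    haveI : Flat u.left := (GrpSchLib.HomFlatLft.flat_hom u).1
    haveI : LocallyOfFinitePresentation u.left := by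
      haveI : LocallyOfFinitePresentation (u.left ≫ G'.hom) := by rw [Over.w u]; infer_instance
      exact AlgSpPts.locallyOfFinitePresentation_of_comp u.left G'.hom
    haveI : QuasiCompact u.left := by
      haveI : QuasiCompact (u.left ≫ G'.hom) := by rw [Over.w u]; infer_instance
      exact QuasiCompact.of_comp u.left G'.hom
    have hconn' : ∀ s : S, _root_.IsConnected (G'.hom.base ⁻¹' {s}) := fun s => by
      have : G'.hom.base ⁻¹' {s} = u.left '' (G.hom.base ⁻¹' {s}) := by
        ext y
        obtain ⟨x, rfl⟩ := u.left.surjective y
        constructor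
        · intro hy
          refine ⟨x, ?_, rfl⟩
          show G.hom x = s
          rw [← Over.w u, Scheme.Hom.comp_apply]; exact hy
        · rintro ⟨x', hx', hxx'⟩
          show G'.hom (u.left x) = s
          rw [← hxx', ← Scheme.Hom.comp_apply, Over.w u]; exact hx'
      rw [this]
      exact (hconn s).image _ u.left.continuous.continuousOn
    obtain ⟨P, _, a, b, ha, hb, hmono, sql, sq⟩ := GModLib.exists_preimage_subgroup u h'
    haveI := ha; haveI := hb; haveI := hmono
    haveI : Surjective b.left := MorphismProperty.of_isPullback (P := @Surjective) sql ‹_›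
    haveI : Flat b.left := MorphismProperty.of_isPullback (P := @Flat) sql ‹_›
    haveI : QuasiCompact b.left := MorphismProperty.of_isPullback (P := @QuasiCompact) sql ‹_›
    haveI : LocallyOfFinitePresentation b.left := MorphismProperty.of_isPullback (P := @LocallyOfFinitePresentation) sql ‹_›
    haveI : Flat P.hom := by rw [← Over.w b]; infer_instance
    haveI : QuasiCompact P.hom := by rw [← Over.w b]; infer_instance
    haveI : LocallyOfFinitePresentation P.hom := by rw [← Over.w b]; infer_instance
    let E : P ≅ Limits.pullback h' u := sq.flip.isoPullback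
    have hEa : E.inv ≫ a = Limits.pullback.snd h' u := sq.flip.isoPullback_inv_snd
    -- the geometric fibres
    let σ := fun s : S => Red.geomPt s
    have hfib : ∀ s : S, Smooth (Red.bc (σ s) P).hom ∧
        (∃ (C : Over (Spec (CommRingCat.of (AlgebraicClosure (S.residueField s))))) (_ : GrpObj C)
          (c : C ⟶ Red.geomFibre s P), SGA3x.IsCartanOver _ (c ≫ (Over.pullback (Red.geomPt s)).map a)) ∧
        (ConnectedSpace (Red.bc (σ s) H').left → ConnectedSpace (Red.bc (σ s) P).left) := fun s => by
      haveI : Smooth (Red.bc (σ s) G).hom := inferInstanceAs (Smooth (Limits.pullback.snd G.hom (σ s)))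
      haveI : QuasiCompact (Red.bc (σ s) G).hom := inferInstanceAs (QuasiCompact (Limits.pullback.snd G.hom (σ s)))
      haveI : Smooth (Red.bc (σ s) G').hom := inferInstanceAs (Smooth (Limits.pullback.snd G'.hom (σ s)))
      haveI : QuasiCompact (Red.bc (σ s) G').hom := inferInstanceAs (QuasiCompact (Limits.pullback.snd G'.hom (σ s)))
      haveI : Smooth (Red.bc (σ s) H').hom := inferInstanceAs (Smooth (Limits.pullback.snd H'.hom (σ s)))
      haveI : QuasiCompact (Red.bc (σ s) H').hom := inferInstanceAs (QuasiCompact (Limits.pullback.snd H'.hom (σ s)))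
      haveI : QuasiCompact (Red.bc (σ s) P).hom := inferInstanceAs (QuasiCompact (Limits.pullback.snd P.hom (σ s)))
      haveI : LocallyOfFiniteType (Red.bc (σ s) P).hom :=
        inferInstanceAs (LocallyOfFiniteType (Limits.pullback.snd P.hom (σ s)))
      haveI := GModLib.connectedSpace_geomFibre hconn s
      haveI : Surjective ((Over.pullback (σ s)).map u).left := MorphismProperty.overPullbackMap _ _ ‹Surjective u.left›
      haveI : Surjective ((Over.pullback (σ s)).map b).left := MorphismProperty.overPullbackMap _ _ ‹Surjective b.left›
      haveI : Flat ((Over.pullback (σ s)).map b).left := MorphismProperty.overPullbackMap _ _ ‹Flat b.left›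
      haveI : LocallyOfFinitePresentation ((Over.pullback (σ s)).map b).left :=
        MorphismProperty.overPullbackMap _ _ ‹LocallyOfFinitePresentation b.left›
      have sqσ := sq.map (Over.pullback (σ s))
      obtain ⟨C', _, c', hC'⟩ := hH' s
      haveI := hC'.1
      obtain ⟨C, _, l, w, hC, hCs, hCc, -, hw⟩ := GModLib.exists_cartan_preimage ((Over.pullback (σ s)).map u)
        (GModLib.IsCentralKer.bc hker (σ s)) ((Over.pullback (σ s)).map h') sqσ c' hC'
      haveI := hC.1
      exact ⟨GModLib.smooth_preimage _ ((Over.pullback (σ s)).map h') _ _ sqσ.w c' l w hw,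
        ⟨C, inferInstance, l, hC⟩,
        fun _ => GModLib.connectedSpace_preimage _ ((Over.pullback (σ s)).map h') _ _ sqσ.w c' l w hw⟩
    haveI : Smooth P.hom := GModLib.smooth_of_geomFibres fun s => (hfib s).1
    haveI : IsIso E.inv.left := ((Over.forget S).mapIso E).isIso_inv
    refine ⟨by rw [← Over.w E.inv]; infer_instance, by rw [← Over.w E.inv]; infer_instance, fun s => ?_, ?_⟩
    · obtain ⟨C, _, c, hC⟩ := (hfib s).2.1
      refine ⟨C, inferInstance, c ≫ (Over.pullback (Red.geomPt s)).map E.hom, ?_⟩
      rwa [Category.assoc, ← Functor.map_comp, ← hEa, E.hom_inv_id_assoc]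
    · have hPE : ∀ s : S, _root_.IsConnected ((Limits.pullback h' u).hom.base ⁻¹' {s}) ↔
          _root_.IsConnected (P.hom.base ⁻¹' {s}) := fun s => by
        have : (Limits.pullback h' u).hom.base ⁻¹' {s} = E.inv.left.homeomorph ⁻¹' (P.hom.base ⁻¹' {s}) := by
          rw [← Over.w E.inv]; rfl
        rw [this, Homeomorph.isConnected_preimage]
      refine ⟨fun h s => ?_, fun h s => ?_⟩
      · have : H'.hom.base ⁻¹' {s} = b.left '' (P.hom.base ⁻¹' {s}) := by
          ext y
          obtain ⟨x, rfl⟩ := b.left.surjective y
          constructor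
          · intro hy
            refine ⟨x, ?_, rfl⟩
            show P.hom x = s
            rw [← Over.w b, Scheme.Hom.comp_apply]; exact hy
          · rintro ⟨x', hx', hxx'⟩
            show H'.hom (b.left x) = s
            rw [← hxx', ← Scheme.Hom.comp_apply, Over.w b]; exact hx'
        rw [this]
        exact ((hPE s).1 (h s)).image _ b.left.continuous.continuousOn
      · haveI := (hfib s).2.2 (GModLib.connectedSpace_geomFibre h s)
        haveI : ConnectedSpace ↥(Limits.pullback P.hom (Red.geomPt s)) := ‹_›
        refine (hPE s).2 ?_
        have hr : Set.range (Limits.pullback.fst P.hom (Red.geomPt s)) = P.hom.base ⁻¹' {s} := by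
          rw [Scheme.Pullback.range_fst]
          have : Set.range (Red.geomPt s) = {s} := by
            refine Set.eq_singleton_iff_unique_mem.mpr
              ⟨⟨IsLocalRing.closedPoint _, Scheme.fromSpecResidueField_apply s _⟩, ?_⟩
            rintro _ ⟨w, rfl⟩
            exact Scheme.fromSpecResidueField_apply s _
          rw [this]
        rw [← hr]
        exact isConnected_range (Limits.pullback.fst P.hom (Red.geomPt s)).continuous

end Groth.Agent.S8430
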