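import Groth.Statements.S8431
import Groth.Agent.TorusBilin.Central

set_option autoImplicit false
universe u
open CategoryTheory MonoidalCategory CartesianMonoidalCategory MonObj GrpObj AlgebraicGeometry
open SGA3x

namespace Groth.Agent.S8431

/-- Let G be an algebraic group over a field k and Z a central algebraic subgroup such that G′ = G/Z is
a torus. Then G is commutative. Here q : G → G′ is a homomorphism representing the fppf quotient of
G by Z, and G′ is a k-torus. -/
theorem result (k : Type u) [Field k]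
    (G : Over (Spec (CommRingCat.of k))) [GrpObj G] [QuasiCompact G.hom] [LocallyOfFiniteType G.hom]
    (Z : Over (Spec (CommRingCat.of k))) [GrpObj Z] (z : Z ⟶ G) [IsMonHom z] [Mono z]
    (hz : ∀ (X : Over (Spec (CommRingCat.of k))) (x : X ⟶ Z) (g : X ⟶ G), (x ≫ z) * g = g * (x ≫ z))
    (G' : Over (Spec (CommRingCat.of k))) [GrpObj G'] (q : G ⟶ G') [IsMonHom q] (hq : RedSub.IsQuotient z q) (hT : Red.IsTorus G') :
    ∀ (X : Over (Spec (CommRingCat.of k))) (g h : X ⟶ G), g * h = h * g := by
  haveI : IsSeparated G'.hom := GrpSchLib.AntiAffine.isSeparated_grp G'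
  haveI : QuasiCompact q.left := by
    haveI : QuasiCompact (q.left ≫ G'.hom) := by rw [Over.w q]; infer_instance
    exact QuasiCompact.of_comp q.left G'.hom
  haveI : Surjective q.left := hq.1
  haveI : Flat q.left := hq.2.1
  intro X g h
  refine TorusBilin.comm_of_central hT q (fun X x y hx => ?_) X g h
  let l : X ⟶ G ⊗ Z := hq.2.2.2.lift (1 : X ⟶ G) x (by rw [MonObj.one_comp, hx])
  have hl1 : l ≫ fst G Z = 1 := hq.2.2.2.lift_fst _ _ _
  have hl2 : l ≫ (G ◁ z) ≫ μ[G] = x := hq.2.2.2.lift_snd _ _ _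
  have hl : (l ≫ snd G Z) ≫ z = x := by
    have e : (G ◁ z) ≫ μ[G] = fst G Z * (snd G Z ≫ z) := by
      rw [Hom.mul_def]
      congr 1
    rw [e, MonObj.comp_mul, hl1, _root_.one_mul, ← Category.assoc] at hl2
    exact hl2
  rw [← hl]
  exact hz X (l ≫ snd G Z) y

end Groth.Agent.S8431
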