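import Groth.Statements.S8437
import Groth.Agent.GModLib.CentralKernelCartan

set_option autoImplicit false
universe u
open CategoryTheory MonoidalCategory CartesianMonoidalCategory MonObj GrpObj AlgebraicGeometry
open SGA3x

set_option backward.isDefEq.respectTransparency false
set_option backward.isDefEq.respectTransparency.types false

namespace Groth.Agent.S8437

/-- Let G, G′ be S-group schemes, smooth, separated and of finite type over S, G admitting a maximal
torus locally for the fpqc topology, G′ with connected fibres, and u : G → G′ a homomorphism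
surjective on every geometric fibre whose kernel is central. Then C ↦ u(C) is a bijection from the
Cartan subgroups of G onto those of G′ with C = u⁻¹(u(C)): for every Cartan subgroup C of G there
are a Cartan subgroup C′ of G′ and a faithfully flat homomorphism v : C → C′ making C → G, C → C′ a
cartesian square over u; and every Cartan subgroup C′ of G′ is obtained in this way. -/
theorem result (S : Scheme.{u}) (G G' : Over S) [GrpObj G] [GrpObj G']
    [Smooth G.hom] [IsSeparated G.hom] [QuasiCompact G.hom] [Smooth G'.hom] [IsSeparated G'.hom] [QuasiCompact G'.hom]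
    (hG : SGA3x.HasMaxTorusFpqcLocally G) (u : G ⟶ G') [IsMonHom u]
    (hu : ∀ s : S, Surjective ((Over.pullback (Red.geomPt s)).map u).left)
    (hconn' : ∀ s : S, _root_.IsConnected (G'.hom.base ⁻¹' {s}))
    (hker : ∀ (X : Over S) (z : X ⟶ G), z ≫ u = 1 → ∀ (X' : Over S) (x : X' ⟶ X) (g : X' ⟶ G),
      (x ≫ z) * g = g * (x ≫ z)) :
    (∀ (C : Over S) [GrpObj C] (c : C ⟶ G), SGA3x.IsCartan c →
      ∃ (C' : Over S) (_ : GrpObj C') (c' : C' ⟶ G') (v : C ⟶ C'), SGA3x.IsCartan c' ∧ IsMonHom v ∧
        Surjective v.left ∧ Flat v.left ∧ IsPullback c v u c') ∧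
    (∀ (C' : Over S) [GrpObj C'] (c' : C' ⟶ G'), SGA3x.IsCartan c' →
      ∃ (C : Over S) (_ : GrpObj C) (c : C ⟶ G) (v : C ⟶ C'), SGA3x.IsCartan c ∧ IsMonHom v ∧
        Surjective v.left ∧ Flat v.left ∧ IsPullback c v u c') := by
    refine ⟨fun C _ c hC => ?_, fun C' _ c' hC' => ?_⟩
    · obtain ⟨T, _, i, hi, hc⟩ := GModLib.exists_maxTorus_of_cartan hG c hC
      obtain ⟨T', _, i', v, hi', -, e, hvs, hvf⟩ := Groth.Agent.S4147.result S G G' hG u hu T i hi
      haveI := hvs; haveI := hvf
      obtain ⟨C', _, c', hc', -, hC', -⟩ := GModLib.exists_centralizer_maxTorus i' hi'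
      obtain ⟨w, hw⟩ := GModLib.exists_isPullback_centralizer u hu hconn' hker i hi i' hi' v e c hc c' hc'
      exact ⟨C', inferInstance, c', w, hC', hw⟩
    · have hG' : SGA3x.HasMaxTorusFpqcLocally G' := by
        obtain ⟨S₁, g₁, hg₁e, hg₁s, T₁, _, i₁, h₁⟩ := Groth.Agent.S4117.result S G hG
        haveI := hg₁e; haveI := hg₁s
        haveI : Smooth (Red.bc g₁ G).hom := inferInstanceAs (Smooth (Limits.pullback.snd G.hom g₁))
        haveI : IsSeparated (Red.bc g₁ G).hom := inferInstanceAs (IsSeparated (Limits.pullback.snd G.hom g₁))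
        haveI : QuasiCompact (Red.bc g₁ G).hom := inferInstanceAs (QuasiCompact (Limits.pullback.snd G.hom g₁))
        haveI : Smooth (Red.bc g₁ G').hom := inferInstanceAs (Smooth (Limits.pullback.snd G'.hom g₁))
        haveI : IsSeparated (Red.bc g₁ G').hom := inferInstanceAs (IsSeparated (Limits.pullback.snd G'.hom g₁))
        haveI : QuasiCompact (Red.bc g₁ G').hom := inferInstanceAs (QuasiCompact (Limits.pullback.snd G'.hom g₁))
        obtain ⟨A, _, a, -, hA, -⟩ := Groth.Agent.S4147.result S₁ (Red.bc g₁ G) (Red.bc g₁ G')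
          (GModLib.hasMaxTorusFpqcLocally_bc hG g₁) ((Over.pullback g₁).map u)
          (fun s => GModLib.surjective_geomFibre_bc u hu g₁ s) T₁ i₁ h₁
        obtain ⟨hfl, hcov⟩ := GrpSchLib.SubgroupEqLocus.flat_hcov_of_isCovering (FpqcDescLib.isCovering_of_lfp g₁)
        exact ⟨S₁, g₁, hfl, hg₁s, hcov, A, inferInstance, a, hA⟩
      obtain ⟨T', _, i', hi', hc'⟩ := GModLib.exists_maxTorus_of_cartan hG' c' hC'
      obtain ⟨T, _, i, v, hi, -, e, hvs, hvf⟩ := GModLib.exists_maxTorus_over hG u hu hker i' hi'
      haveI := hvs; haveI := hvf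
      obtain ⟨C, _, c, hc, -, hC, -⟩ := GModLib.exists_centralizer_maxTorus i hi
      obtain ⟨w, hw⟩ := GModLib.exists_isPullback_centralizer u hu hconn' hker i hi i' hi' v e c hc c' hc'
      exact ⟨C, inferInstance, c, w, hC, hw⟩

end Groth.Agent.S8437
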