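import Groth.Statements.S8453
import Groth.Agent.GrpSchLib.RankOneHomGen
import Groth.Agent.S8452
-- import your own Groth.Agent.* helpers here

set_option autoImplicit false
universe u
open CategoryTheory MonoidalCategory CartesianMonoidalCategory MonObj GrpObj AlgebraicGeometry CategoryTheory.Limits
open Red

namespace Groth.Agent.S8453

/-- Isomorphism thm for groups of semisimple rank 1: Let (G, T, α, p₊, p₋, α^*) and (G', T', α', p'₊,
p'₋, α'^*) be two rank-one systems over S: G reductive, i : T ⟶ G a maximal torus, α a character of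
T non-trivial on every geometric fibre, p₊, p₋ : 𝔾_a ⟶ G monomorphisms normalised by T with
multipliers α, α⁻¹ whose cell map (y, t, x) ↦ p₋(y) i(t) p₊(x) is an open immersion, α^* : 𝔾_m ⟶ T
with α ∘ α^* the squaring map and p₊(x) p₋(y) = p₋(y/(1+xy)) · i(α^*(1+xy)) · p₊(x/(1+xy)) whenever
1 + xy is invertible; likewise for the primed data. Let q > 0 be an integer such that x ↦ x^q is
additive on all functions of S-schemes. Let c be an S-point of 𝔾_m (a trivialisation of the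
isomorphism (𝔤^α)^{⊗q} ≅ 𝔤'^{α'}) and f_T : T ⟶ T' a homomorphism with α' ∘ f_T = α^q and f_T ∘ α^*
= (α'^*)^q. Then there is exactly one homomorphism f : G ⟶ G' extending f_T (i ∘ f = f_T ∘ i') with
f(p₊(x)) = p'₊(c x^q) for all points x of 𝔾_a; moreover every such f satisfies f(p₋(y)) = p'₋(c⁻¹
y^q) for all points y. -/
theorem result (S : Scheme.{u}) (G T : Over S) [GrpObj G] [GrpObj T] (i : T ⟶ G) [IsMonHom i] [Mono i] (hG : Red.IsReductive G) (hTm : Red.IsMaximalTorus i)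
    (α : T ⟶ Red.Gm S) [IsMonHom α] (hα : ∀ s : S, (Over.pullback (Red.geomPt s)).map α ≠ 1)
    (pp pm : Red.Ga S ⟶ G) [IsMonHom pp] [Mono pp] [IsMonHom pm] [Mono pm]
    (hpp : ∀ (X : Over S) (t : X ⟶ T) (x : X ⟶ Red.Ga S), ∃ x' : X ⟶ Red.Ga S,
      x' ≫ pp = (t ≫ i) * (x ≫ pp) * (t ≫ i)⁻¹ ∧ Red.gaFn x' = Red.gmFn (t ≫ α) * Red.gaFn x)
    (hpm : ∀ (X : Over S) (t : X ⟶ T) (y : X ⟶ Red.Ga S), ∃ y' : X ⟶ Red.Ga S,
      y' ≫ pm = (t ≫ i) * (y ≫ pm) * (t ≫ i)⁻¹ ∧ Red.gaFn y' * Red.gmFn (t ≫ α) = Red.gaFn y)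
    (hΩ : IsOpenImmersion (((pm ⊗ₘ i) ⊗ₘ pp) ≫ (μ[G] ▷ G) ≫ μ[G]).left)
    (av : Red.Gm S ⟶ T) [IsMonHom av] (h2 : av ≫ α = (𝟙 (Red.Gm S)) ^ 2)
    (hF : ∀ (X : Over S) (x y : X ⟶ Red.Ga S), IsUnit (1 + Red.gaFn x * Red.gaFn y) →
      ∃ (x' y' : X ⟶ Red.Ga S) (z : X ⟶ Red.Gm S), Red.gmFn z = 1 + Red.gaFn x * Red.gaFn y ∧
        Red.gaFn x' * Red.gmFn z = Red.gaFn x ∧ Red.gaFn y' * Red.gmFn z = Red.gaFn y ∧
        (x ≫ pp) * (y ≫ pm) = (y' ≫ pm) * (z ≫ av ≫ i) * (x' ≫ pp))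
    (G' T' : Over S) [GrpObj G'] [GrpObj T'] (i' : T' ⟶ G') [IsMonHom i'] [Mono i'] (hG' : Red.IsReductive G') (hTm' : Red.IsMaximalTorus i')
    (α' : T' ⟶ Red.Gm S) [IsMonHom α'] (hα' : ∀ s : S, (Over.pullback (Red.geomPt s)).map α' ≠ 1)
    (pp' pm' : Red.Ga S ⟶ G') [IsMonHom pp'] [Mono pp'] [IsMonHom pm'] [Mono pm']
    (hpp' : ∀ (X : Over S) (t : X ⟶ T') (x : X ⟶ Red.Ga S), ∃ x' : X ⟶ Red.Ga S,
      x' ≫ pp' = (t ≫ i') * (x ≫ pp') * (t ≫ i')⁻¹ ∧ Red.gaFn x' = Red.gmFn (t ≫ α') * Red.gaFn x)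
    (hpm' : ∀ (X : Over S) (t : X ⟶ T') (y : X ⟶ Red.Ga S), ∃ y' : X ⟶ Red.Ga S,
      y' ≫ pm' = (t ≫ i') * (y ≫ pm') * (t ≫ i')⁻¹ ∧ Red.gaFn y' * Red.gmFn (t ≫ α') = Red.gaFn y)
    (hΩ' : IsOpenImmersion (((pm' ⊗ₘ i') ⊗ₘ pp') ≫ (μ[G'] ▷ G') ≫ μ[G']).left)
    (av' : Red.Gm S ⟶ T') [IsMonHom av'] (h2' : av' ≫ α' = (𝟙 (Red.Gm S)) ^ 2)
    (hF' : ∀ (X : Over S) (x y : X ⟶ Red.Ga S), IsUnit (1 + Red.gaFn x * Red.gaFn y) →
      ∃ (x' y' : X ⟶ Red.Ga S) (z : X ⟶ Red.Gm S), Red.gmFn z = 1 + Red.gaFn x * Red.gaFn y ∧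
        Red.gaFn x' * Red.gmFn z = Red.gaFn x ∧ Red.gaFn y' * Red.gmFn z = Red.gaFn y ∧
        (x ≫ pp') * (y ≫ pm') = (y' ≫ pm') * (z ≫ av' ≫ i') * (x' ≫ pp'))
    (q : ℕ) (hq0 : 0 < q) (hq : ∀ (X : Over S) (a b : Γ(X.left, ⊤)), (a + b) ^ q = a ^ q + b ^ q) (c : 𝟙_ (Over S) ⟶ Red.Gm S) (fT : T ⟶ T') [IsMonHom fT]
    (hfTα : fT ≫ α' = α ^ q) (hfTav : av ≫ fT = av' ^ q) :
    (∃! f : G ⟶ G', IsMonHom f ∧ i ≫ f = fT ≫ i' ∧
        ∀ (X : Over S) (x y : X ⟶ Red.Ga S), Red.gaFn y = Red.gmFn (toUnit X ≫ c) * Red.gaFn x ^ q →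
          (x ≫ pp) ≫ f = y ≫ pp') ∧
      ∀ f : G ⟶ G', IsMonHom f → i ≫ f = fT ≫ i' →
        (∀ (X : Over S) (x y : X ⟶ Red.Ga S), Red.gaFn y = Red.gmFn (toUnit X ≫ c) * Red.gaFn x ^ q →
          (x ≫ pp) ≫ f = y ≫ pp') →
        ∀ (X : Over S) (x y : X ⟶ Red.Ga S), Red.gaFn y * Red.gmFn (toUnit X ≫ c) = Red.gaFn x ^ q →
          (x ≫ pm) ≫ f = y ≫ pm' := by
  have D : GrpSchLib.RankOneClosed.Data i α pp pm av := ⟨hG, hTm.2.2.1, inferInstance, hpp, hpm, hΩ, h2, hF⟩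
  have D' : GrpSchLib.RankOneClosed.Data i' α' pp' pm' av' :=
    ⟨hG', hTm'.2.2.1, inferInstance, hpp', hpm', hΩ', h2', hF'⟩
  have second : ∀ f : G ⟶ G', IsMonHom f → i ≫ f = fT ≫ i' →
      (∀ (X : Over S) (x y : X ⟶ Red.Ga S), Red.gaFn y = Red.gmFn (toUnit X ≫ c) * Red.gaFn x ^ q →
        (x ≫ pp) ≫ f = y ≫ pp') →
      ∀ (X : Over S) (x y : X ⟶ Red.Ga S), Red.gaFn y * Red.gmFn (toUnit X ≫ c) = Red.gaFn x ^ q →
        (x ≫ pm) ≫ f = y ≫ pm' := by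
    intro f hf hfi hp
    haveI := hf
    obtain ⟨c', ⟨hp', hm'⟩, -⟩ := (S8452.result S G T i hG hTm α hα pp pm hpp hpm hΩ av h2 hF G' T' i' hG' hTm'
      α' hα' pp' pm' hpp' hpm' hΩ' av' h2' hF' q hq0 hq f).mp ⟨fT, inferInstance, hfi, hfTα, hfTav⟩
    obtain rfl : c' = c := by
      refine GmPts.gmFn_injective ?_
      let x : 𝟙_ (Over S) ⟶ Red.Ga S := GrpSchLib.GaPts.ptOfFn 1
      have hx : Red.gaFn x = 1 := GrpSchLib.GaPts.gaFn_ptOfFn _
      have e1 := hp' _ x (GrpSchLib.GaPts.ptOfFn (Red.gmFn c'))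
        (by rw [GrpSchLib.GaPts.gaFn_ptOfFn, hx, one_pow, _root_.mul_one, toUnit_unique (toUnit _) (𝟙 _),
          Category.id_comp])
      have e2 := hp _ x (GrpSchLib.GaPts.ptOfFn (Red.gmFn c))
        (by rw [GrpSchLib.GaPts.gaFn_ptOfFn, hx, one_pow, _root_.mul_one, toUnit_unique (toUnit _) (𝟙 _),
          Category.id_comp])
      have := congrArg Red.gaFn ((cancel_mono pp').mp (e1.symm.trans e2))
      rwa [GrpSchLib.GaPts.gaFn_ptOfFn, GrpSchLib.GaPts.gaFn_ptOfFn] at this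
    exact hm'
  let cw : (X : Over S) → (Γ(X.left, ⊤))ˣ := fun X => GmPts.unitOfPt (toUnit X ≫ c)
  let fp : Red.Ga S ⟶ G' :=
    GrpSchLib.GaPts.ptOfFn ((cw (Red.Ga S) : Γ((Red.Ga S).left, ⊤)) * Red.gaFn (𝟙 (Red.Ga S)) ^ q) ≫ pp'
  let fm : Red.Ga S ⟶ G' :=
    GrpSchLib.GaPts.ptOfFn ((((cw (Red.Ga S))⁻¹ : _ˣ) : Γ((Red.Ga S).left, ⊤)) * Red.gaFn (𝟙 (Red.Ga S)) ^ q) ≫ pm'
  have hcw : ∀ (X : Over S) (x : X ⟶ Red.Ga S),
      x.left.appTop (cw (Red.Ga S) : Γ((Red.Ga S).left, ⊤)) = cw X ∧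
      x.left.appTop (((cw (Red.Ga S))⁻¹ : _ˣ) : Γ((Red.Ga S).left, ⊤)) = (((cw X)⁻¹ : _ˣ) : Γ(X.left, ⊤)) := by
    intro X x
    have h : Units.map x.left.appTop.hom.toMonoidHom (cw (Red.Ga S)) = cw X := Units.ext (by
      show x.left.appTop (cw (Red.Ga S) : Γ((Red.Ga S).left, ⊤)) = _
      simp only [cw, GmPts.val_unitOfPt]
      rw [← GmPts.gmFn_comp, ← Category.assoc, toUnit_unique (x ≫ toUnit _) (toUnit _)])
    refine ⟨congrArg Units.val h, ?_⟩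
    rw [← h]; rfl
  have hfp : ∀ (X : Over S) (x : X ⟶ Red.Ga S), x ≫ fp =
      GrpSchLib.GaPts.ptOfFn ((cw X : Γ(X.left, ⊤)) * Red.gaFn x ^ q) ≫ pp' := fun X x => by
    rw [← Category.assoc]
    congr 1
    refine GrpSchLib.GaPts.gaFn_injective ?_
    simp only [GrpSchLib.GaPts.gaFn_ptOfFn, GrpSchLib.GaPts.gaFn_comp, map_mul, map_pow]
    rw [← GrpSchLib.GaPts.gaFn_comp, Category.comp_id, (hcw X x).1]
  have hfm : ∀ (X : Over S) (x : X ⟶ Red.Ga S), x ≫ fm =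
      GrpSchLib.GaPts.ptOfFn ((((cw X)⁻¹ : _ˣ) : Γ(X.left, ⊤)) * Red.gaFn x ^ q) ≫ pm' := fun X x => by
    rw [← Category.assoc]
    congr 1
    refine GrpSchLib.GaPts.gaFn_injective ?_
    simp only [GrpSchLib.GaPts.gaFn_ptOfFn, GrpSchLib.GaPts.gaFn_comp, map_mul, map_pow]
    rw [← GrpSchLib.GaPts.gaFn_comp, Category.comp_id, (hcw X x).2]
  obtain ⟨f, hf, hfi, hfpp, hfpm⟩ := GrpSchLib.RankOneClosed.exists_hom_of_sys D hα (fT ≫ i') fp fm
    (fun A _ b => by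
      let Φ := GrpSchLib.RankOneClosed.sysAt D b
      let Φ' := GrpSchLib.RankOneClosed.sysAt D' b
      let cb : Aˣ := Units.map (GrpSchLib.RankOneComm.sv b : Γ((Over.mk b).left, ⊤) →* A) (cw (Over.mk b))
      have hqA : ∀ x y : A, (x + y) ^ q = x ^ q + y ^ q := fun x y => by
        have := congrArg (GrpSchLib.RankOneComm.sv b)
          (hq (Over.mk b) ((GrpSchLib.RankOneComm.sv b).symm x) ((GrpSchLib.RankOneComm.sv b).symm y))
        simpa using this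
      have hneg : ∀ (t : Over.mk b ⟶ T), Φ'.a (t ≫ fT) = (Φ.a t) ^ q := fun t => by
        show GrpSchLib.RankOneComm.gval b ((t ≫ fT) ≫ α') = _
        rw [Category.assoc, hfTα, MonObj.comp_pow]
        exact map_pow (MonoidHom.mk' (GrpSchLib.RankOneComm.gval b) (GrpSchLib.RankOneComm.gval_mul b)) (t ≫ α) q
      have hav : ∀ u : Aˣ, Φ.av u ≫ fT = Φ'.av (u ^ q) := fun u => by
        show (GrpSchLib.RankOneComm.gpt b u ≫ av) ≫ fT = _
        rw [Category.assoc, hfTav, MonObj.comp_pow, map_pow]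
        rfl
      refine ⟨{ p := fun x => Φ'.p ((cb : A) * x ^ q)
                m := fun x => Φ'.m (((cb⁻¹ : Aˣ) : A) * x ^ q)
                I := MonoidHom.mk' (fun t => t ≫ fT ≫ i') fun t t' => MonObj.mul_comp t t' (fT ≫ i')
                a := Φ.a
                av := Φ.av
                p_add := fun x y => by rw [hqA, mul_add, Φ'.p_add]
                m_add := fun x y => by rw [hqA, mul_add, Φ'.m_add]
                conj_p := fun t x => by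
                  show (t ≫ fT ≫ i') * _ * (t ≫ fT ≫ i')⁻¹ = _
                  rw [← Category.assoc]
                  refine (Φ'.conj_p (t ≫ fT) _).trans ?_
                  rw [hneg, Units.val_pow_eq_pow_val]
                  congr 1
                  ring
                conj_m := fun t x => by
                  show (t ≫ fT ≫ i') * _ * (t ≫ fT ≫ i')⁻¹ = _
                  rw [← Category.assoc]
                  refine (Φ'.conj_m (t ≫ fT) _).trans ?_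
                  rw [hneg, ← inv_pow, Units.val_pow_eq_pow_val]
                  congr 1
                  ring
                a_av := Φ.a_av
                rule := fun x y u hu => by
                  have hu' : ((u ^ q : Aˣ) : A) = 1 + (cb : A) * x ^ q * (((cb⁻¹ : Aˣ) : A) * y ^ q) := by
                    rw [Units.val_pow_eq_pow_val, hu, hqA, one_pow, mul_pow]
                    linear_combination -(x ^ q * y ^ q) * cb.mul_inv
                  show Φ'.p _ * Φ'.m _ = Φ'.m _ * (Φ.av u ≫ fT ≫ i') * Φ'.p _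
                  rw [Φ'.rule _ _ _ hu', ← Category.assoc, hav, mul_pow, mul_pow, ← Units.val_pow_eq_pow_val,
                    inv_pow]
                  congr 2
                  · congr 1
                    ring
                  · ring }, fun x => ?_, fun x => ?_, fun t => rfl, rfl, rfl⟩
      · show GrpSchLib.RankOneComm.pt b ((cb : A) * x ^ q) ≫ pp' = _
        rw [hfp]
        congr 1
        refine GrpSchLib.GaPts.gaFn_injective ?_
        simp [GrpSchLib.RankOneComm.pt, GrpSchLib.GaPts.gaFn_ptOfFn, cb]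
      · show GrpSchLib.RankOneComm.pt b (((cb⁻¹ : Aˣ) : A) * x ^ q) ≫ pm' = _
        rw [hfm]
        congr 1
        refine GrpSchLib.GaPts.gaFn_injective ?_
        simp [GrpSchLib.RankOneComm.pt, GrpSchLib.GaPts.gaFn_ptOfFn, cb])
  have hc : ∀ (X : Over S) (x y : X ⟶ Red.Ga S), Red.gaFn y = Red.gmFn (toUnit X ≫ c) * Red.gaFn x ^ q →
      (x ≫ pp) ≫ f = y ≫ pp' := fun X x y h => by
    rw [Category.assoc, hfpp, hfp]
    congr 1
    exact GrpSchLib.GaPts.gaFn_injective (by simp [GrpSchLib.GaPts.gaFn_ptOfFn, cw, GmPts.val_unitOfPt, h])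
  refine ⟨⟨f, ⟨hf, hfi, hc⟩, ?_⟩, second⟩
  rintro f' ⟨hf', hf'i, hf'c⟩
  haveI := hf'
  haveI := hf
  refine GrpSchLib.RankOneClosed.hom_ext D f' f (hf'i.trans hfi.symm) ?_ ?_
  · have key : ∀ (X : Over S) (x : X ⟶ Red.Ga S), (x ≫ pp) ≫ f' = (x ≫ pp) ≫ f := fun X x =>
      (hf'c X x (GrpSchLib.GaPts.ptOfFn _) (GrpSchLib.GaPts.gaFn_ptOfFn _)).trans
        (hc X x _ (GrpSchLib.GaPts.gaFn_ptOfFn _)).symm
    simpa using key _ (𝟙 _)
  · have key : ∀ (X : Over S) (x : X ⟶ Red.Ga S), (x ≫ pm) ≫ f' = (x ≫ pm) ≫ f := fun X x => by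
      let y : X ⟶ Red.Ga S := GrpSchLib.GaPts.ptOfFn ((((cw X)⁻¹ : _ˣ) : Γ(X.left, ⊤)) * Red.gaFn x ^ q)
      have hy : Red.gaFn y * Red.gmFn (toUnit X ≫ c) = Red.gaFn x ^ q := by
        rw [GrpSchLib.GaPts.gaFn_ptOfFn, ← GmPts.val_unitOfPt, mul_comm _ (GmPts.unitOfPt (toUnit X ≫ c)).val,
          Units.mul_inv_cancel_left]
      exact (second f' hf' hf'i hf'c X x y hy).trans (second f hf hfi hc X x y hy).symm
    simpa using key _ (𝟙 _)

end Groth.Agent.S8453
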