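import Groth.Statements.S8456
import Groth.Agent.GrpSchLib.RankOneClosed
import Groth.Agent.GrpSchLib.RankOneBig
import Groth.Agent.S8446
import Groth.Agent.S4131
-- import your own Groth.Agent.* helpers here

set_option autoImplicit false
universe u
open CategoryTheory MonoidalCategory CartesianMonoidalCategory MonObj GrpObj AlgebraicGeometry CategoryTheory.Limits
open Red

namespace Groth.Agent.S8456

/-- Let G be a reductive S-group, i : T ⟶ G a maximal torus, α a character of T non-trivial on every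
geometric fibre, and p₊, p₋ : 𝔾_a ⟶ G monomorphisms of groups normalised by T with multipliers α and
α⁻¹ such that 𝔾_a ×_S T ×_S 𝔾_a ⟶ G, (y, t, x) ↦ p₋(y) i(t) p₊(x), is an open immersion (a rank-one
system: G has semisimple rank 1 and p₊, p₋ trivialise the root groups of α and -α). Then the
subgroups U_α = im p₊, U_{-α} = im p₋, T·U_α and T·U_{-α} are closed in G: p₊ and p₋ are closed
immersions, and so are the morphisms T ×_S 𝔾_a ⟶ G, (t, x) ↦ i(t) p₊(x) and (t, y) ↦ i(t) p₋(y). -/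
theorem result (S : Scheme.{u}) (G T : Over S) [GrpObj G] [GrpObj T] (i : T ⟶ G) [IsMonHom i] [Mono i] (hG : Red.IsReductive G) (hTm : Red.IsMaximalTorus i)
    (α : T ⟶ Red.Gm S) [IsMonHom α] (hα : ∀ s : S, (Over.pullback (Red.geomPt s)).map α ≠ 1)
    (pp pm : Red.Ga S ⟶ G) [IsMonHom pp] [Mono pp] [IsMonHom pm] [Mono pm]
    (hpp : ∀ (X : Over S) (t : X ⟶ T) (x : X ⟶ Red.Ga S), ∃ x' : X ⟶ Red.Ga S,
      x' ≫ pp = (t ≫ i) * (x ≫ pp) * (t ≫ i)⁻¹ ∧ Red.gaFn x' = Red.gmFn (t ≫ α) * Red.gaFn x)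
    (hpm : ∀ (X : Over S) (t : X ⟶ T) (y : X ⟶ Red.Ga S), ∃ y' : X ⟶ Red.Ga S,
      y' ≫ pm = (t ≫ i) * (y ≫ pm) * (t ≫ i)⁻¹ ∧ Red.gaFn y' * Red.gmFn (t ≫ α) = Red.gaFn y)
    (hΩ : IsOpenImmersion (((pm ⊗ₘ i) ⊗ₘ pp) ≫ (μ[G] ▷ G) ≫ μ[G]).left) :
    IsClosedImmersion pp.left ∧ IsClosedImmersion pm.left ∧
      IsClosedImmersion ((i ⊗ₘ pp) ≫ μ[G]).left ∧ IsClosedImmersion ((i ⊗ₘ pm) ≫ μ[G]).left := by
  obtain ⟨⟨a, av⟩, ⟨hav, h2, hrule⟩, -⟩ := S4131.result S G T i hTm.2.2.1 α hα pp pm hpp hpm hΩ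
    (S8446.result S G T i hG hTm α hα pp pm hpp hpm hΩ)
  haveI : IsMonHom av := hav
  dsimp only at h2 hrule
  let e := GrpSchLib.RankOne.scaleIso a
  have he : ∀ {X : Over S} (y : X ⟶ Red.Ga S),
      Red.gmFn (toUnit X ≫ a) * Red.gaFn (y ≫ e.inv) = Red.gaFn y := fun {X} y => GrpSchLib.RankOne.scaleIso_inv a y
  have hu : ∀ X : Over S, IsUnit (Red.gmFn (toUnit X ≫ a)) := fun X => by
    rw [← GmPts.val_unitOfPt]; exact Units.isUnit _
  let pm' : Red.Ga S ⟶ G := e.inv ≫ pm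
  have hadd : ∀ {X : Over S} (x y : X ⟶ Red.Ga S), (x * y) ≫ e.inv = (x ≫ e.inv) * (y ≫ e.inv) := fun {X} x y =>
    GrpSchLib.GaPts.gaFn_injective ((hu X).mul_left_cancel (by
      show _ * Red.gaFn _ = _ * Red.gaFn _
      rw [he, GrpSchLib.GaPts.gaFn_mul, GrpSchLib.GaPts.gaFn_mul, mul_add, he, he]))
  haveI : IsMonHom e.inv := by
    exact GrpSchLib.RankOne.isMonHom_of_comp e.inv fun Y x y => hadd x y
  haveI : IsMonHom pm' := inferInstanceAs (IsMonHom (e.inv ≫ pm))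
  haveI : Mono pm' := inferInstanceAs (Mono (e.inv ≫ pm))
  have hpm' : ∀ (X : Over S) (t : X ⟶ T) (y : X ⟶ Red.Ga S), ∃ y' : X ⟶ Red.Ga S,
      y' ≫ pm' = (t ≫ i) * (y ≫ pm') * (t ≫ i)⁻¹ ∧ Red.gaFn y' * Red.gmFn (t ≫ α) = Red.gaFn y := by
    intro X t y
    obtain ⟨y', h1, h3⟩ := hpm X t (y ≫ e.inv)
    refine ⟨y' ≫ e.hom, ?_, ?_⟩
    · simpa only [pm', Category.assoc, Iso.hom_inv_id_assoc] using h1
    · rw [GrpSchLib.RankOne.scaleIso_hom, _root_.mul_assoc, h3, he]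
  have hΩ' : IsOpenImmersion (GrpSchLib.RankOne.cellMap i pp pm').left := by
    haveI := hΩ
    have : GrpSchLib.RankOne.cellMap i pp pm' =
        ((e.inv ⊗ₘ 𝟙 T) ⊗ₘ 𝟙 (Red.Ga S)) ≫ GrpSchLib.RankOne.cellMap i pp pm := by
      simp only [GrpSchLib.RankOne.cellMap, pm']
      rw [← Category.assoc ((e.inv ⊗ₘ 𝟙 T) ⊗ₘ 𝟙 _), tensorHom_comp_tensorHom, tensorHom_comp_tensorHom,
        Category.id_comp, Category.id_comp]
    rw [this, Over.comp_left]
    haveI : IsIso ((e.inv ⊗ₘ 𝟙 T) ⊗ₘ 𝟙 (Red.Ga S)).left :=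
      inferInstanceAs (IsIso ((Over.forget S).map ((e.inv ⊗ₘ 𝟙 T) ⊗ₘ 𝟙 (Red.Ga S))))
    haveI : IsOpenImmersion (GrpSchLib.RankOne.cellMap i pp pm).left := hΩ
    infer_instance
  have D : GrpSchLib.RankOneClosed.Data i α pp pm' av :=
    { hG := hG
      hT := hTm.2.2.1
      hi := inferInstance
      hpp := hpp
      hpm := hpm'
      hΩ := hΩ'
      h2 := h2
      hF := fun X x y hxy => by
        obtain ⟨-, h⟩ := hrule X x (y ≫ e.inv)
        have e1 : Red.gmFn (toUnit X ≫ a) * Red.gaFn x * Red.gaFn (y ≫ e.inv) = Red.gaFn x * Red.gaFn y := by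
          rw [mul_comm (Red.gmFn _) (Red.gaFn x), _root_.mul_assoc, he]
        obtain ⟨x', y', z, hz, hx', hy', h'⟩ := h (by rw [e1]; exact hxy)
        refine ⟨x', y' ≫ e.hom, z, hz.trans (congrArg (1 + ·) e1), hx', ?_, ?_⟩
        · rw [GrpSchLib.RankOne.scaleIso_hom, _root_.mul_assoc, hy', he]
        · simpa only [pm', Category.assoc, Iso.hom_inv_id_assoc] using h' }
  obtain ⟨c1, c2, c3, c4⟩ := GrpSchLib.RankOneClosed.isClosedImmersion D
  have h4 : (i ⊗ₘ pm) ≫ μ[G] = (T ◁ e.hom) ≫ (i ⊗ₘ pm') ≫ μ[G] := by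
    simp [pm', ← id_tensorHom, tensorHom_comp_tensorHom_assoc]
  refine ⟨c1, ?_, c3, ?_⟩
  · have : pm = e.hom ≫ pm' := (Iso.hom_inv_id_assoc _ _).symm
    rw [this, Over.comp_left]
    haveI : IsIso e.hom.left := inferInstanceAs (IsIso ((Over.forget S).map e.hom))
    infer_instance
  · rw [h4, Over.comp_left]
    haveI : IsIso (T ◁ e.hom).left := inferInstanceAs (IsIso ((Over.forget S).map (T ◁ e.hom)))
    infer_instance

end Groth.Agent.S8456
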