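import Groth.Statements.S8457
import Groth.Agent.GrpSchLib.RankOneRel
-- import your own Groth.Agent.* helpers here

set_option autoImplicit false
universe u
open CategoryTheory MonoidalCategory CartesianMonoidalCategory MonObj GrpObj AlgebraicGeometry CategoryTheory.Limits
open Red

namespace Groth.Agent.S8457

/-- Generators and relations for a group of semisimple rank 1: for H an S-group scheme. Let G be a
reductive S-group, i : T ⟶ G a maximal torus, α a character of T non-trivial on every geometric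
fibre, p₊, p₋ : 𝔾_a ⟶ G monomorphisms of groups normalised by T with multipliers α and α⁻¹ whose
cell map (y, t, x) ↦ p₋(y) i(t) p₊(x) is an open immersion 𝔾_a ×_S T ×_S 𝔾_a ⟶ G, and α^* : 𝔾_m ⟶ T
the coroot: α ∘ α^* is the squaring map and p₊(x) p₋(y) = p₋(y/(1+xy)) · i(α^*(1+xy)) · p₊(x/(1+xy))
whenever 1 + xy is invertible (so p₊ and p₋ are dual to each other). Let e₁, em be the S-points of
𝔾_a with coordinates 1, -1 and m the S-point of 𝔾_m with coordinate -1; put u = p₊(e₁) and w =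
p₊(e₁) p₋(em) p₊(e₁). Let H be an S-group scheme, f_T : T ⟶ H and f_α : 𝔾_a ⟶ H homomorphisms and h
an S-point of H. Then there is exactly one homomorphism f : G ⟶ H with f ∘ i = f_T, f ∘ p₊ = f_α and
f(w) = h if and only if: (1) f_T(t) f_α(x) f_T(t)⁻¹ = f_α(α(t) x) for all points t of T and x of
𝔾_a; (2) h f_T(t) h⁻¹ = f_T(t · α^*(α(t))⁻¹) for all points t of T; (3) h² = f_T(α^*(m)); (4) (h ·
f_α(e₁))³ = e. (The published statement allows H to be any fppf sheaf of groups.) -/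
theorem result (S : Scheme.{u}) (G T : Over S) [GrpObj G] [GrpObj T] (i : T ⟶ G) [IsMonHom i] [Mono i] (hG : Red.IsReductive G) (hTm : Red.IsMaximalTorus i)
    (α : T ⟶ Red.Gm S) [IsMonHom α] (hα : ∀ s : S, (Over.pullback (Red.geomPt s)).map α ≠ 1)
    (pp pm : Red.Ga S ⟶ G) [IsMonHom pp] [Mono pp] [IsMonHom pm] [Mono pm]
    (hpp : ∀ (X : Over S) (t : X ⟶ T) (x : X ⟶ Red.Ga S), ∃ x' : X ⟶ Red.Ga S,
      x' ≫ pp = (t ≫ i) * (x ≫ pp) * (t ≫ i)⁻¹ ∧ Red.gaFn x' = Red.gmFn (t ≫ α) * Red.gaFn x)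
    (hpm : ∀ (X : Over S) (t : X ⟶ T) (y : X ⟶ Red.Ga S), ∃ y' : X ⟶ Red.Ga S,
      y' ≫ pm = (t ≫ i) * (y ≫ pm) * (t ≫ i)⁻¹ ∧ Red.gaFn y' * Red.gmFn (t ≫ α) = Red.gaFn y)
    (hΩ : IsOpenImmersion (((pm ⊗ₘ i) ⊗ₘ pp) ≫ (μ[G] ▷ G) ≫ μ[G]).left)
    (av : Red.Gm S ⟶ T) [IsMonHom av] (h2 : av ≫ α = (𝟙 (Red.Gm S)) ^ 2)
    (hF : ∀ (X : Over S) (x y : X ⟶ Red.Ga S), IsUnit (1 + Red.gaFn x * Red.gaFn y) →
      ∃ (x' y' : X ⟶ Red.Ga S) (z : X ⟶ Red.Gm S), Red.gmFn z = 1 + Red.gaFn x * Red.gaFn y ∧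
        Red.gaFn x' * Red.gmFn z = Red.gaFn x ∧ Red.gaFn y' * Red.gmFn z = Red.gaFn y ∧
        (x ≫ pp) * (y ≫ pm) = (y' ≫ pm) * (z ≫ av ≫ i) * (x' ≫ pp))
    (e₁ em : 𝟙_ (Over S) ⟶ Red.Ga S) (he₁ : Red.gaFn e₁ = 1) (hem : Red.gaFn em = -1)
    (m : 𝟙_ (Over S) ⟶ Red.Gm S) (hm : Red.gmFn m = -1)
    (H : Over S) [GrpObj H] (fT : T ⟶ H) [IsMonHom fT] (fα : Red.Ga S ⟶ H) [IsMonHom fα] (h : 𝟙_ (Over S) ⟶ H) :
    (∃! f : G ⟶ H, IsMonHom f ∧ i ≫ f = fT ∧ pp ≫ f = fα ∧ ((e₁ ≫ pp) * (em ≫ pm) * (e₁ ≫ pp)) ≫ f = h) ↔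
      ((∀ (X : Over S) (t : X ⟶ T) (x x' : X ⟶ Red.Ga S), Red.gaFn x' = Red.gmFn (t ≫ α) * Red.gaFn x →
          (t ≫ fT) * (x ≫ fα) * (t ≫ fT)⁻¹ = x' ≫ fα) ∧
        (∀ (X : Over S) (t : X ⟶ T), (toUnit X ≫ h) * (t ≫ fT) * (toUnit X ≫ h)⁻¹ = (t * (t ≫ α ≫ av)⁻¹) ≫ fT) ∧
        h ^ 2 = m ≫ av ≫ fT ∧ (h * (e₁ ≫ fα)) ^ 3 = 1) := by
  have D : GrpSchLib.RankOneClosed.Data i α pp pm av := ⟨hG, hTm.2.2.1, inferInstance, hpp, hpm, hΩ, h2, hF⟩
  let E := fun (A : Type u) [CommRing A] (b : Spec (CommRingCat.of A) ⟶ S) => GrpSchLib.RankOneClosed.sysAt D b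
  have hcoord : ∀ (A : Type u) [CommRing A] (b : Spec (CommRingCat.of A) ⟶ S),
      toUnit (Over.mk b) ≫ e₁ = GrpSchLib.RankOneComm.pt b 1 ∧
      toUnit (Over.mk b) ≫ em = GrpSchLib.RankOneComm.pt b (-1) ∧
      toUnit (Over.mk b) ≫ m = GrpSchLib.RankOneComm.gpt b (-1) := by
    intro A _ b
    refine ⟨GrpSchLib.GaPts.gaFn_injective ?_, GrpSchLib.GaPts.gaFn_injective ?_, ?_⟩
    · simp [GrpSchLib.RankOneComm.pt, GrpSchLib.GaPts.gaFn_comp, GrpSchLib.GaPts.gaFn_ptOfFn, he₁]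
    · show Red.gaFn _ = Red.gaFn _
      rw [GrpSchLib.GaPts.gaFn_comp, hem, GrpSchLib.RankOneComm.pt, GrpSchLib.GaPts.gaFn_ptOfFn, map_neg, map_one]
      exact ((map_neg (GrpSchLib.RankOneComm.sv b).symm.toRingHom (1 : A)).trans (by simp)).symm
    · refine GrpSchLib.RankOneComm.gval_injective b (Units.ext ?_)
      rw [GrpSchLib.RankOneComm.gval_gpt, GrpSchLib.RankOneComm.val_gval, GmPts.gmFn_comp, hm, map_neg, map_one]
      exact (map_neg (GrpSchLib.RankOneComm.sv b).toRingHom 1).trans (by simp)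
  constructor
  · rintro ⟨f, ⟨hf, hfi, hfp, hfw⟩, -⟩
    haveI := hf
    refine ⟨fun X t x x' hx' => ?_, fun X t => ?_, ?_, ?_⟩
    · obtain ⟨x'', h1, h3⟩ := hpp X t x
      rw [← hx'] at h3
      obtain rfl : x'' = x' := GrpSchLib.GaPts.gaFn_injective h3
      simp only [← hfi, ← hfp, ← Category.assoc]
      rw [← GrpObj.inv_comp, ← MonObj.mul_comp, ← MonObj.mul_comp, h1]
    · refine GrpSchLib.RankOne.ext_spec fun A b j => ?_
      simp only [MonObj.comp_mul, GrpObj.comp_inv, ← Category.assoc]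
      rw [toUnit_unique (j ≫ toUnit X) (toUnit _), ← hfw, ← hfi]
      simp only [← Category.assoc]
      rw [← GrpObj.inv_comp, ← MonObj.mul_comp, ← MonObj.mul_comp]
      congr 1
      simp only [MonObj.comp_mul, GrpObj.comp_inv, ← Category.assoc]
      obtain ⟨ce, cem, -⟩ := hcoord A b
      rw [ce, cem]
      have hw := (E A b).w_conj 1 (j ≫ t)
      rw [← map_inv, ← map_mul, GrpSchLib.RankOne.torus_mul_comm hTm.2.2.1] at hw
      simp only [GrpSchLib.RankOne.Sys.w, inv_one, Units.val_one] at hw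
      refine hw.trans ?_
      show (_ : Over.mk b ⟶ T) ≫ i = _
      congr 3
      show GrpSchLib.RankOneComm.gpt (A := A) b (GrpSchLib.RankOneComm.gval (A := A) b ((j ≫ t) ≫ α)) ≫ av = _
      congr 1
      exact GrpSchLib.RankOneComm.gval_injective (A := A) b (GrpSchLib.RankOneComm.gval_gpt (A := A) b _)
    · refine GrpSchLib.RankOne.ext_spec fun A b j => ?_
      obtain rfl : j = toUnit _ := toUnit_unique _ _
      obtain ⟨ce, cem, cm⟩ := hcoord A b
      rw [MonObj.comp_pow, ← hfw, ← hfi, ← Category.assoc, ← MonObj.pow_comp]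
      simp only [← Category.assoc]
      congr 1
      simp only [MonObj.comp_mul, ← Category.assoc]
      rw [ce, cem, cm]
      have hw := (E A b).w_sq 1
      simp only [GrpSchLib.RankOne.Sys.w, inv_one, Units.val_one] at hw
      exact hw
    · refine GrpSchLib.RankOne.ext_spec fun A b j => ?_
      obtain rfl : j = toUnit _ := toUnit_unique _ _
      obtain ⟨ce, cem, -⟩ := hcoord A b
      rw [MonObj.comp_pow, MonObj.comp_one, ← hfw, ← hfp, ← Category.assoc e₁, ← MonObj.mul_comp, ← Category.assoc,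
        ← MonObj.pow_comp]
      simp only [MonObj.comp_mul, ← Category.assoc]
      rw [ce, cem]
      have h3 := (GrpSchLib.RankOneClosed.sysAt_braided D b)
      have h1 := GrpSchLib.RankOne.Sys.w_conj_self h3 (1 : Aˣ)
      have hb := h3 (-1)
      simp only [inv_neg, inv_one, neg_neg, Units.val_one, Units.val_neg] at hb h1
      have key : ((E A b).w 1 * (E A b).p 1) ^ 3 = 1 := by
        have hsq : (E A b).w 1 ^ 2 * (E A b).m (-1) = (E A b).m (-1) * (E A b).w 1 ^ 2 := by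
          rw [(E A b).w_sq, (E A b).I_mul_m, (E A b).a_av]; simp
        have hw1 : (E A b).w 1 = (E A b).p 1 * (E A b).m (-1) * (E A b).p 1 := by
          simp [GrpSchLib.RankOne.Sys.w]
        calc ((E A b).w 1 * (E A b).p 1) ^ 3
            = ((E A b).w 1 * (E A b).p 1 * ((E A b).w 1)⁻¹) * (E A b).w 1 ^ 2 * (E A b).p 1 * (E A b).w 1 *
                (E A b).p 1 := by rw [pow_succ, pow_two]; group
          _ = (E A b).w 1 ^ 2 * ((E A b).m (-1) * (E A b).p 1 * (E A b).w 1 * (E A b).p 1) := by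
              rw [h1, ← hsq]; group
          _ = (E A b).w 1 ^ 2 * ((E A b).m (-1) * (E A b).p 1 *
                ((E A b).m (-1) * (E A b).p 1 * (E A b).m (-1)) * (E A b).p 1) := by rw [hb]
          _ = (E A b).w 1 ^ 2 * (((E A b).m (-1) * (E A b).p 1 * (E A b).m (-1)) *
                ((E A b).p 1 * (E A b).m (-1) * (E A b).p 1)) := by group
          _ = 1 := by
              rw [hb, ← hw1, ← pow_two, (E A b).w_sq, ← map_mul, ← map_mul, neg_mul_neg, _root_.one_mul, map_one,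
                map_one]
      simp only [GrpSchLib.RankOne.Sys.w, inv_one, Units.val_one] at key
      exact (congrArg (· ≫ f) key).trans (MonObj.one_comp f)
  · rintro ⟨r1, r2, r3, r4⟩
    have hR : GrpSchLib.RankOneClosed.Rels α av fT fα h :=
      { r1 := r1
        r2 := r2
        r3 := fun A _ b => by
          rw [← MonObj.comp_pow, r3, ← (hcoord A b).2.2]
          simp only [Category.assoc]
        r4 := fun A _ b => by
          rw [← (hcoord A b).1, Category.assoc, ← MonObj.comp_mul, ← MonObj.comp_pow, r4, MonObj.comp_one] }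
    obtain ⟨f, hf, hfi, hfp, hfm⟩ := GrpSchLib.RankOneClosed.exists_hom_of_sys D hα fT fα
      (GrpSchLib.RankOneClosed.negMor fα h) (fun A _ b => GrpSchLib.RankOneClosed.exists_sys D hR b)
    haveI := hf
    haveI : IsAffineHom G.hom := hG.1
    have hw : ((e₁ ≫ pp) * (em ≫ pm) * (e₁ ≫ pp)) ≫ f = h := by
      refine GrpSchLib.RankOne.ext_spec fun A b j => ?_
      obtain rfl : j = toUnit _ := toUnit_unique _ _
      rw [MonObj.mul_comp, MonObj.mul_comp, MonObj.comp_mul, MonObj.comp_mul]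
      simp only [Category.assoc, hfp, hfm]
      obtain ⟨ce, cem, -⟩ := hcoord A b
      simp only [← Category.assoc, ce, cem]
      letI := GrpSchLib.RankOneClosed.commPts D (A := A) b
      have := GrpSchLib.RankOneClosed.isW_at D hR (A := A) b 1
      rw [GrpSchLib.RankOne.Pre.IsW, GrpSchLib.RankOneClosed.preAt_m D hR, inv_one, Units.val_one] at this
      refine this.trans ?_
      show (((GrpSchLib.RankOneClosed.sysAt D b).av 1) ≫ fT) * _ = _
      rw [map_one, MonObj.one_comp, _root_.one_mul]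
      rfl
    refine ⟨f, ⟨hf, hfi, hfp, hw⟩, ?_⟩
    rintro f' ⟨hf', hf'i, hf'p, hf'w⟩
    haveI := hf'
    refine GrpSchLib.RankOneClosed.hom_ext D f' f (hf'i.trans hfi.symm) (hf'p.trans hfp.symm) ?_
    let W := (toUnit (Red.Ga S) ≫ ((e₁ ≫ pp) * (em ≫ pm) * (e₁ ≫ pp)))
    have hk : pm = W * ((𝟙 (Red.Ga S))⁻¹ ≫ pp) * W⁻¹ := by
      refine GrpSchLib.RankOneClosed.ext_units _ _ fun A _ b u => ?_
      simp only [W, MonObj.comp_mul, GrpObj.comp_inv, ← Category.assoc]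
      rw [toUnit_unique (GrpSchLib.RankOneComm.pt b (u : A) ≫ toUnit _) (toUnit _), (hcoord A b).1, (hcoord A b).2.1,
        Category.comp_id]
      have := GrpSchLib.RankOne.Sys.w_conj_p_unit (GrpSchLib.RankOneClosed.sysAt_braided D b) (-u)
      simp only [GrpSchLib.RankOne.Sys.w, inv_one, Units.val_one, Units.val_neg, neg_neg] at this
      refine this.symm.trans ?_
      congr 3
      show GrpSchLib.RankOneComm.pt b (-(u : A)) ≫ pp = _
      congr 1
      refine (inv_eq_of_mul_eq_one_right ?_).symm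
      rw [← GrpSchLib.RankOneComm.pt_add, add_neg_cancel, GrpSchLib.RankOneComm.pt_zero]
    rw [hfm, hk, GrpSchLib.RankOneClosed.negMor]
    simp only [MonObj.mul_comp, GrpObj.inv_comp, Category.assoc, W, hf'p]
    rw [← hf'w]
    simp only [MonObj.mul_comp, MonObj.comp_mul, Category.assoc, hf'p]

end Groth.Agent.S8457
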