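import Groth.Statements.S8469
import Groth.Agent.RootChartLib.DualType
import Groth.Agent.RootChartLib.UniqueSplitGen

set_option autoImplicit false
universe u
open CategoryTheory MonoidalCategory CartesianMonoidalCategory MonObj GrpObj AlgebraicGeometry CategoryTheory.Limits
open Red

set_option backward.isDefEq.respectTransparency false
set_option backward.isDefEq.respectTransparency.types false

namespace Groth.Agent.S8469

/-- Let G and G' be reductive S-groups each admitting a splitting, and let s be a point of S such that
the geometric fibres G_{s̄} and G'_{s̄} have the same type: both are split of type Q for one root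
datum Q. Then G and G' are isomorphic as S-group schemes. -/
theorem result (S : Scheme.{u}) (G G' : Over S) [GrpObj G] [GrpObj G']
    (D : Red.SplitRed G) (D' : Red.SplitRed G') (s : S)
    {ι' M' N' : Type} [AddCommGroup M'] [Module ℤ M'] [AddCommGroup N'] [Module ℤ N'] (Q : RootPairing ι' ℤ M' N')
    (hs : Red.IsSplitOfType Q (Red.geomFibre s G)) (hs' : Red.IsSplitOfType Q (Red.geomFibre s G')) :
    Nonempty (Grp.mk G ≅ Grp.mk G') := by
    obtain ⟨E, ⟨e⟩⟩ := hs
    obtain ⟨E', ⟨e'⟩⟩ := hs'
    obtain ⟨h⟩ := Groth.Agent.RootChartLib.nonempty_equiv_fibre D (Red.geomPt s) E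
    obtain ⟨h'⟩ := Groth.Agent.RootChartLib.nonempty_equiv_fibre D' (Red.geomPt s) E'
    exact Groth.Agent.RootChartLib.nonempty_iso_of_equiv D D'
      (RootPairing.Equiv.comp (RootPairing.Equiv.symm _ _ h)
        (RootPairing.Equiv.comp (RootPairing.Equiv.symm _ _ e) (RootPairing.Equiv.comp e' h')))

end Groth.Agent.S8469
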