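import Groth.Statements.S8472
import Groth.Agent.RootChartLib.Chevalley

set_option autoImplicit false
universe u
open CategoryTheory MonoidalCategory CartesianMonoidalCategory MonObj GrpObj AlgebraicGeometry CategoryTheory.Limits
open Red

set_option backward.isDefEq.respectTransparency false
set_option backward.isDefEq.respectTransparency.types false

namespace Groth.Agent.S8472

/-- Existence of a Chevalley system extending a pinning: at the level of root groups. Let G be a pinned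
reductive S-group: a splitting D (maximal torus T ≅ D_S(M), root datum with root homomorphisms u_c :
𝔾_a ⟶ G for all roots c, system of simple roots Δ) such that for every simple root a the root
homomorphisms of a and -a are dual to each other: u_a(x) u_{-a}(y) = u_{-a}(y/(1+xy)) · a^∨(1+xy) ·
u_a(x/(1+xy)) whenever 1 + xy is invertible, where a^∨ : 𝔾_m ⟶ T is the coroot of a read through the
splitting. For a root a put w_a = u_a(1) u_{-a}(-1) u_a(1) (an S-point of G). Then the pinning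
extends to a Chevalley system: there is a family (v_c)_{c} of root homomorphisms v_c : 𝔾_a ⟶ G, one
for each root c, normalised by T through the character of c, with v_a = u_a for every simple root a,
such that every v_c admits a dual root homomorphism v_c⁻ (v_c(x) v_c⁻(y) = v_c⁻(y/(1+xy)) c^∨(1+xy)
v_c(x/(1+xy)) for 1 + xy invertible) for which, writing n_c = v_c(1) v_c⁻(1)⁻¹ v_c(1), one has for
every root b a sign ε ∈ {1, -1} with n_c v_b(x) n_c⁻¹ = v_{s_c(b)}(ε x) for all points x of 𝔾_a. -/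
theorem result (S : Scheme.{u}) (e₁ : 𝟙_ (Over S) ⟶ Red.Ga S) (he₁ : Red.gaFn e₁ = 1)
    (G : Over S) [GrpObj G] (D : Red.Pinning G)
    (avc : D.idx → (Red.Gm S ⟶ D.T))
    (havc : ∀ a, avc a = Red.DSmap S (D.P.coroot a).toAddMonoidHom ≫ D.split.inv.hom.hom)
    (hpair : ∀ a ∈ D.base.support, ∀ (X : Over S) (x y : X ⟶ Red.Ga S), IsUnit (1 + Red.gaFn x * Red.gaFn y) →
        ∃ (x' y' : X ⟶ Red.Ga S) (z : X ⟶ Red.Gm S), Red.gmFn z = 1 + Red.gaFn x * Red.gaFn y ∧
          Red.gaFn x' * Red.gmFn z = Red.gaFn x ∧ Red.gaFn y' * Red.gmFn z = Red.gaFn y ∧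
          (x ≫ D.u a) * (y ≫ D.u (D.P.reflectionPerm a a)) = (y' ≫ D.u (D.P.reflectionPerm a a)) * (z ≫ avc a ≫ D.i) * (x' ≫ D.u a)) :
    ∃ v : D.idx → (Red.Ga S ⟶ G),
      (∀ c, Red.IsRootHom D.i (D.split.hom.hom.hom ≫ Red.chi S (D.P.root c)) (v c)) ∧
      (∀ a ∈ D.base.support, v a = D.u a) ∧
      ∀ c, ∃ vd : Red.Ga S ⟶ G, IsMonHom vd ∧
        (∀ (X : Over S) (x y : X ⟶ Red.Ga S), IsUnit (1 + Red.gaFn x * Red.gaFn y) →
        ∃ (x' y' : X ⟶ Red.Ga S) (z : X ⟶ Red.Gm S), Red.gmFn z = 1 + Red.gaFn x * Red.gaFn y ∧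
          Red.gaFn x' * Red.gmFn z = Red.gaFn x ∧ Red.gaFn y' * Red.gmFn z = Red.gaFn y ∧
          (x ≫ v c) * (y ≫ vd) = (y' ≫ vd) * (z ≫ avc c ≫ D.i) * (x' ≫ v c)) ∧
        ∀ b, ∃ ε : ℤ, (ε = 1 ∨ ε = -1) ∧ ∀ (X : Over S) (x y : X ⟶ Red.Ga S), Red.gaFn y = (ε : Γ(X.left, ⊤)) * Red.gaFn x →
          (toUnit X ≫ ((e₁ ≫ v c) * (e₁ ≫ vd)⁻¹ * (e₁ ≫ v c))) * (x ≫ v b) *
              (toUnit X ≫ ((e₁ ≫ v c) * (e₁ ≫ vd)⁻¹ * (e₁ ≫ v c)))⁻¹ = y ≫ v (D.P.reflectionPerm c b) := by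
    classical
    rcases isEmpty_or_nonempty ↥G.left with hE | ⟨⟨p⟩⟩
    · have hX : ∀ (X : Over S), (X ⟶ G) → IsEmpty ↥X.left := fun X f => Function.isEmpty f.left
      have hsub : ∀ (X Y : Over S), IsEmpty ↥X.left → ∀ f g : X ⟶ Y, f = g := fun X Y hX f g => by
        haveI := hX
        exact Over.OverMorphism.ext ((isInitialOfIsEmpty (X := X.left)).hom_ext _ _)
      refine ⟨D.u, fun c => D.rootHom c, fun a _ => rfl, fun c => ⟨D.u (D.P.reflectionPerm c c),
        Groth.Agent.RankLib.SplitRedPts.isMonHom_u D.toSplitRed _, fun X x y _ => ?_, fun b => ⟨1, Or.inl rfl,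
          fun X x y _ => hsub X G (hX X (x ≫ D.u b)) _ _⟩⟩⟩
      have hx := hX X (x ≫ D.u c)
      haveI : Subsingleton Γ(X.left, ⊤) := ⟨fun r s => by
        rw [← Groth.Agent.GrpSchLib.GaPts.gaFn_ptOfFn (S := S) r, ← Groth.Agent.GrpSchLib.GaPts.gaFn_ptOfFn (S := S) s, hsub X (Red.Ga S) hx (Groth.Agent.GrpSchLib.GaPts.ptOfFn r) (Groth.Agent.GrpSchLib.GaPts.ptOfFn s)]⟩
      exact ⟨x, y, 1, Subsingleton.elim _ _, Subsingleton.elim _ _, Subsingleton.elim _ _, hsub X G hx _ _⟩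
    obtain ⟨K, _, _, a', -, -⟩ := Groth.Agent.RootChartLib.exists_geomPt p
    haveI := Groth.Agent.RootChartLib.isReduced_datum D.toSplitRed a'
    have hd : ∀ r ∈ D.base.support, Groth.Agent.RootChartLib.IsDual D.toSplitRed r := fun r hr X x y h => by
      have := hpair r hr X x y h
      rw [havc] at this
      exact this
    obtain ⟨v, h1, h2, h3⟩ := Groth.Agent.RootChartLib.exists_chevalley D.toSplitRed D.base hd he₁
      (w := fun r => (e₁ ≫ D.u r) * (e₁ ≫ D.u (D.P.reflectionPerm r r))⁻¹ * (e₁ ≫ D.u r)) (fun r => rfl)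
    refine ⟨v, h1, h2, fun c => ?_⟩
    obtain ⟨vd, g1, g2, g3⟩ := h3 c
    exact ⟨vd, g1, fun X x y h => by rw [havc]; exact g2 X x y h, g3⟩

end Groth.Agent.S8472
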