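import Groth.Statements.S8473
import Groth.Agent.EtNormal.Basic
import Groth.Agent.GrpSchLib.GaPts
import Groth.Agent.GrpSchLib.AntiAffineHom
import Groth.Agent.TorusBilin.Central
-- import your own Groth.Agent.* helpers here

set_option autoImplicit false
universe u
open CategoryTheory MonoidalCategory CartesianMonoidalCategory MonObj GrpObj AlgebraicGeometry CategoryTheory.Limits
open Red

set_option backward.isDefEq.respectTransparency false

namespace Groth.Agent.S8473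

/-- Let k be an algebraically closed field, T a k-torus, α : T ⟶ 𝔾_m a non-trivial character and P the
semi-direct product T ⋉_α 𝔾_a, given as a k-group P with homomorphisms j_T : T ⟶ P and j_U : 𝔾_a ⟶ P
such that (t, x) ↦ j_T(t) j_U(x) is an isomorphism of schemes T × 𝔾_a ≅ P and j_T(t) j_U(x) j_T(t)⁻¹
= j_U(α(t) x). Let n : N ⟶ P be a normal subgroup scheme which is étale over k and such that N ∩ T
is trivial (a point of N whose image is in j_T(T) is the unit). Then N is the trivial group. -/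
theorem result (K : Type u) [Field K] [IsAlgClosed K]
    (T P N : Over (Spec (CommRingCat.of K))) [GrpObj T] [GrpObj P] [GrpObj N] (hT : Red.IsTorus T)
    (α : T ⟶ Red.Gm (Spec (CommRingCat.of K))) [IsMonHom α] (hα : α ≠ 1)
    (jT : T ⟶ P) [IsMonHom jT] (jU : Red.Ga (Spec (CommRingCat.of K)) ⟶ P) [IsMonHom jU] (hiso : IsIso ((jT ⊗ₘ jU) ≫ μ[P]))
    (hconj : ∀ (X : Over (Spec (CommRingCat.of K))) (t : X ⟶ T) (x x' : X ⟶ Red.Ga (Spec (CommRingCat.of K))), Red.gaFn x' = Red.gmFn (t ≫ α) * Red.gaFn x →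
      (t ≫ jT) * (x ≫ jU) * (t ≫ jT)⁻¹ = x' ≫ jU)
    (n : N ⟶ P) [IsMonHom n] [Mono n] (hn : AlgGrp.IsNormalHom n) (het : Etale N.hom)
    (hNT : ∀ (X : Over (Spec (CommRingCat.of K))) (t : X ⟶ T) (m : X ⟶ N), t ≫ jT = m ≫ n → m = 1) :
    Red.IsTrivialGrp N := by
  haveI : IsIso ((jT ⊗ₘ jU) ≫ μ[P]) := hiso
  have hone : ∀ {X : Over (Spec (CommRingCat.of K))}, (1 : X ⟶ T) ≫ jT = 1 := fun {X} => one_comp jT
  have huniq : ∀ {X : Over (Spec (CommRingCat.of K))} (t t' : X ⟶ T) (x x' : X ⟶ Red.Ga (Spec (CommRingCat.of K))),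
      (t ≫ jT) * (x ≫ jU) = (t' ≫ jT) * (x' ≫ jU) → t = t' ∧ x = x' := by
    intro X t t' x x' h
    have h' : lift t x ≫ ((jT ⊗ₘ jU) ≫ μ[P]) = lift t' x' ≫ ((jT ⊗ₘ jU) ≫ μ[P]) := by
      rw [← Category.assoc, ← Category.assoc, lift_map, lift_map, ← Hom.mul_def, ← Hom.mul_def, h]
    have h'' := (cancel_mono _).mp h'
    exact ⟨by simpa using congrArg (· ≫ fst _ _) h'', by simpa using congrArg (· ≫ snd _ _) h''⟩
  haveI : Mono n.left := inferInstanceAs (Mono ((Over.forget _).map n))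
  haveI : IsSeparated P.hom := by
    exact GrpSchLib.AntiAffine.isSeparated_grp P
  haveI : IsSeparated N.hom := by rw [← Over.w n]; infer_instance
  haveI : LocallyOfFiniteType N.hom := inferInstance
  refine EtNormal.isTrivialGrp_of_points N fun m => ?_
  -- decomposition of the point
  let z := (m ≫ n) ≫ inv ((jT ⊗ₘ jU) ≫ μ[P])
  let t₀ := z ≫ fst _ _
  let x₀ := z ≫ snd _ _
  have hz : (t₀ ≫ jT) * (x₀ ≫ jU) = m ≫ n := by
    rw [Hom.mul_def, ← lift_map, Category.assoc, show lift t₀ x₀ = z from CartesianMonoidalCategory.hom_ext _ _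
      (by rw [lift_fst]) (by rw [lift_snd])]
    simp [z]
  haveI : PreconnectedSpace ↥T.left := EtNormal.preconnected_of_isTorus T hT
  haveI : Nonempty ↥T.left := ⟨(η[T]).left (IsLocalRing.closedPoint K)⟩
  haveI : Nonempty ↥(𝟙_ (Over (Spec (CommRingCat.of K)))).left := ⟨IsLocalRing.closedPoint K⟩
  obtain ⟨m', hm'⟩ := hn T (𝟙 T ≫ jT) (toUnit T ≫ m)
  have hconst : m' = toUnit T ≫ m := by
    refine EtNormal.eq_of_point m' (toUnit T ≫ m) (η[T]) ?_
    rw [← cancel_mono n, Category.assoc, ← hm']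
    have h1 : (η[T] : 𝟙_ (Over (Spec (CommRingCat.of K))) ⟶ T) = 1 := by
      rw [Hom.one_def, toUnit_unique (toUnit _) (𝟙 _), Category.id_comp]
    rw [comp_mul, comp_mul, GrpObj.comp_inv, Category.id_comp, ← Category.assoc η[T] (toUnit T) m,
      ← Category.assoc η[T] (toUnit T ≫ m) n]
    rw [toUnit_unique (η[T] ≫ toUnit T) (𝟙 _), Category.id_comp, h1, hone, _root_.one_mul, inv_one, _root_.mul_one]
    simp
  subst hconst
  have hc := hm'
  rw [Category.assoc, ← hz, comp_mul, ← Category.assoc (toUnit T) t₀, ← Category.assoc (toUnit T) x₀] at hc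
  let α' := 𝟙 T ≫ α
  obtain ⟨x', hx'⟩ : ∃ x' : T ⟶ Red.Ga (Spec (CommRingCat.of K)),
      Red.gaFn x' = Red.gmFn α' * Red.gaFn (toUnit T ≫ x₀) :=
    ⟨GrpSchLib.GaPts.ptOfFn _, GrpSchLib.GaPts.gaFn_ptOfFn _⟩
  have hcomm : (𝟙 T ≫ jT) * ((toUnit T ≫ t₀) ≫ jT) = ((toUnit T ≫ t₀) ≫ jT) * (𝟙 T ≫ jT) := by
    rw [← mul_comp, ← mul_comp, TorusBilin.comm_of_isTorus hT]
  have h2 := hconj T (𝟙 T) (toUnit T ≫ x₀) x' hx'
  have h3 : ((toUnit T ≫ t₀) ≫ jT) * (x' ≫ jU) = ((toUnit T ≫ t₀) ≫ jT) * ((toUnit T ≫ x₀) ≫ jU) := by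
    rw [← h2, ← _root_.mul_assoc, ← _root_.mul_assoc, ← hcomm, _root_.mul_assoc (𝟙 T ≫ jT), hc]
  have hx : x' = toUnit T ≫ x₀ := (huniq _ _ _ _ h3).2
  have hx₀ : x₀ = 1 := by
    by_contra hne
    apply hα
    rw [hx] at hx'
    have hu : IsUnit (Red.gaFn x₀) := by
      let e := (Scheme.ΓSpecIso (CommRingCat.of K))
      have : e.hom (Red.gaFn x₀) ≠ 0 := by
        intro h0
        apply hne
        refine GrpSchLib.GaPts.gaFn_injective ?_
        show Red.gaFn x₀ = Red.gaFn 1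
        rw [GrpSchLib.GaPts.gaFn_one]
        exact (map_eq_zero_iff _ e.commRingCatIsoToRingEquiv.injective).mp h0
      have h' := (isUnit_iff_ne_zero.mpr this).map e.inv.hom
      rwa [← CommRingCat.comp_apply, e.hom_inv_id] at h'
    have hu' : IsUnit (Red.gaFn (toUnit T ≫ x₀)) := by
      rw [GrpSchLib.GaPts.gaFn_comp]
      exact hu.map _
    have : Red.gmFn α' = 1 := (hu'.mul_eq_right).mp hx'.symm
    refine GmPts.gmFn_injective ?_
    show Red.gmFn α = Red.gmFn 1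
    rw [GmPts.gmFn_one, ← this]
    exact congrArg Red.gmFn (Category.id_comp α).symm
  refine hNT _ t₀ m ?_
  rw [← hz, hx₀, one_comp, _root_.mul_one]

end Groth.Agent.S8473
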