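import Groth.Statements.S8479
import Groth.Agent.RootChartLib.ChevFormulas

set_option autoImplicit false
universe u
open CategoryTheory MonoidalCategory CartesianMonoidalCategory MonObj GrpObj AlgebraicGeometry CategoryTheory.Limits
open Red

set_option backward.isDefEq.respectTransparency false
set_option backward.isDefEq.respectTransparency.types false

namespace Groth.Agent.S8479

/-- The cases (p, q) = (1,1), (2,1), (3,1) of the table. Let G be a split reductive S-group with
splitting D (torus T ≅ D_S(M), root datum) and a Chevalley system at the level of root groups: for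
every root c a root homomorphism v_c : 𝔾_a ⟶ G (normalised by T through the character of c) with a
dual root homomorphism v_c⁻ (v_c(x) v_c⁻(y) = v_c⁻(y/(1+xy)) c^∨(1+xy) v_c(x/(1+xy)) for 1 + xy
invertible), such that with n_c = v_c(1) v_c⁻(1)⁻¹ v_c(1) one has, for all roots c, b, n_c v_b(x)
n_c⁻¹ = v_{s_c(b)}(± x) for a sign depending on (c, b). Let a, b be two linearly independent roots
with |⟨a, b^∨⟩| ≤ |⟨b, a^∨⟩| (a is not longer than b). Suppose a + b is a root, with index c, and b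
+ 2a is not a root (q = 1); let p ≥ 1 be such that b - k a is a root for k < p and b - p a is not a
root. Then there is a sign ε ∈ {1, -1} with v_b(y) v_a(x) v_b(y)⁻¹ v_a(x)⁻¹ = v_c(ε p x y) for all
points x, y of 𝔾_a. -/
theorem result (S : Scheme.{u}) (e₁ : 𝟙_ (Over S) ⟶ Red.Ga S) (he₁ : Red.gaFn e₁ = 1)
    (G : Over S) [GrpObj G] (D : Red.SplitRed G)
    (avc : D.idx → (Red.Gm S ⟶ D.T))
    (havc : ∀ a, avc a = Red.DSmap S (D.P.coroot a).toAddMonoidHom ≫ D.split.inv.hom.hom)
    (v vd : D.idx → (Red.Ga S ⟶ G)) (hv : ∀ c, Red.IsRootHom D.i (D.split.hom.hom.hom ≫ Red.chi S (D.P.root c)) (v c))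
    (hvd : ∀ c, IsMonHom (vd c) ∧ ∀ (X : Over S) (x y : X ⟶ Red.Ga S), IsUnit (1 + Red.gaFn x * Red.gaFn y) →
        ∃ (x' y' : X ⟶ Red.Ga S) (z : X ⟶ Red.Gm S), Red.gmFn z = 1 + Red.gaFn x * Red.gaFn y ∧
          Red.gaFn x' * Red.gmFn z = Red.gaFn x ∧ Red.gaFn y' * Red.gmFn z = Red.gaFn y ∧
          (x ≫ v c) * (y ≫ vd c) = (y' ≫ vd c) * (z ≫ avc c ≫ D.i) * (x' ≫ v c))
    (n : D.idx → (𝟙_ (Over S) ⟶ G)) (hn : ∀ c, n c = (e₁ ≫ v c) * (e₁ ≫ vd c)⁻¹ * (e₁ ≫ v c))
    (hSC : ∀ c b, ∃ ε : ℤ, (ε = 1 ∨ ε = -1) ∧ ∀ (X : Over S) (x y : X ⟶ Red.Ga S),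
      Red.gaFn y = (ε : Γ(X.left, ⊤)) * Red.gaFn x →
        (toUnit X ≫ n c) * (x ≫ v b) * (toUnit X ≫ n c)⁻¹ = y ≫ v (D.P.reflectionPerm c b))
    (a b : D.idx) (hind : ∀ r s : ℤ, r • D.P.root a + s • D.P.root b = 0 → r = 0 ∧ s = 0)
    (hlen : |D.P.pairing a b| ≤ |D.P.pairing b a|)
    (c : D.idx) (hc : D.P.root c = D.P.root a + D.P.root b) (hq : D.P.root b + (2 : ℤ) • D.P.root a ∉ Set.range D.P.root)
    (p : ℕ) (hp1 : 1 ≤ p) (hpk : ∀ k : ℕ, k < p → D.P.root b - (k : ℤ) • D.P.root a ∈ Set.range D.P.root)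
    (hp : D.P.root b - (p : ℤ) • D.P.root a ∉ Set.range D.P.root) :
    ∃ ε : ℤ, (ε = 1 ∨ ε = -1) ∧ ∀ (X : Over S) (x y z : X ⟶ Red.Ga S),
      Red.gaFn z = (ε : Γ(X.left, ⊤)) * (p : Γ(X.left, ⊤)) * Red.gaFn x * Red.gaFn y → (y ≫ v b) * (x ≫ v a) * (y ≫ v b)⁻¹ * (x ≫ v a)⁻¹ = z ≫ v c := by
    obtain hR | hsub := Groth.Agent.RootChartLib.reduced_or_subsingleton D
    rotate_left
    · exact ⟨1, Or.inl rfl, fun X _ _ _ _ => hsub X _ _⟩
    have hsys : Groth.Agent.RootChartLib.ChevSys D e₁ v vd n :=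
      ⟨he₁, hv, fun c => ⟨(hvd c).1, fun X x y hu => by simpa only [havc] using (hvd c).2 X x y hu⟩, hn, hSC⟩
    obtain ⟨f1, f2, f3, f4, f5, f6, f7⟩ := Groth.Agent.RootChartLib.pairing_facts D hind
    obtain ⟨hle, hpair⟩ := Groth.Agent.RootChartLib.pairing_of_string hind (p - 1) 1
      (fun k hk => hpk k (by omega)) ⟨c, by rw [hc, Nat.cast_one, one_smul]; abel⟩
    have hB := hpair (by rw [show p - 1 + 1 = p by omega]; exact hp) (by simpa using hq)
    have hp3 : p ≤ 3 := by omega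
    interval_cases p
    · have hA : D.P.pairing a b = -1 := by norm_num at hB; rw [hB] at hlen f4; norm_num [abs_le] at hlen f4; omega
      obtain ⟨ε, hε, hf⟩ := hsys.form_A2 hind hA (by simpa using hp) (by simpa using hB) hc
      exact ⟨ε, hε, fun X x y z hz => hf X x y z (by simpa using hz)⟩
    · obtain ⟨d, hd⟩ := hpk 1 (by omega)
      rw [Nat.cast_one, one_smul] at hd
      have hB' : D.P.pairing d a = -2 := by
        rw [← D.P.root_coroot'_eq_pairing, hd, map_sub, D.P.root_coroot'_eq_pairing, D.P.root_coroot'_eq_pairing,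
          D.P.pairing_same, hB]
        norm_num
      have hind' : ∀ r s : ℤ, r • D.P.root a + s • D.P.root d = 0 → r = 0 ∧ s = 0 := fun r s h => by
        obtain ⟨h1, h2⟩ := hind (r - s) s (by rw [← h, hd]; module)
        omega
      have hA' : D.P.pairing a d = -1 := by
        obtain ⟨g1, g2, g3, g4, g5, g6, g7⟩ := Groth.Agent.RootChartLib.pairing_facts D hind'
        rw [hB'] at g4 g5
        omega
      obtain ⟨ε, hε, hf⟩ := hsys.form_B2_mixed hind' hA'
        (show D.P.root d - D.P.root a ∉ Set.range D.P.root by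
          rw [hd, show D.P.root b - D.P.root a - D.P.root a = D.P.root b - ((2 : ℕ) : ℤ) • D.P.root a by
            rw [Nat.cast_two]; module]
          exact hp)
        hB' (b' := b) (c := c) (by rw [hd]; module) (by rw [hc, hd]; module)
      exact ⟨ε, hε, fun X x y z hz => hf X x y z (by simpa using hz)⟩
    · obtain ⟨d, hd⟩ := hpk 2 (by omega)
      rw [Nat.cast_two] at hd
      have hB' : D.P.pairing d a = -3 := by
        rw [← D.P.root_coroot'_eq_pairing, hd, map_sub, map_zsmul, D.P.root_coroot'_eq_pairing,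
          D.P.root_coroot'_eq_pairing, D.P.pairing_same, hB]
        norm_num
      have hind' : ∀ r s : ℤ, r • D.P.root a + s • D.P.root d = 0 → r = 0 ∧ s = 0 := fun r s h => by
        obtain ⟨h1, h2⟩ := hind (r - 2 * s) s (by rw [← h, hd]; module)
        omega
      have hA' : D.P.pairing a d = -1 := by
        obtain ⟨g1, g2, g3, g4, g5, g6, g7⟩ := Groth.Agent.RootChartLib.pairing_facts D hind'
        rw [hB'] at g4 g5
        omega
      obtain ⟨ε, hε, hf⟩ := hsys.form_G2_p3 hind' hA'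
        (show D.P.root d - D.P.root a ∉ Set.range D.P.root by
          rw [hd, show D.P.root b - (2 : ℤ) • D.P.root a - D.P.root a = D.P.root b - ((3 : ℕ) : ℤ) • D.P.root a by
            rw [Nat.cast_ofNat]; module]
          exact hp)
        hB' (b' := b) (c := c) (by rw [hd]; module) (by rw [hc, hd]; module)
      exact ⟨ε, hε, fun X x y z hz => hf X x y z (by simpa using hz)⟩

end Groth.Agent.S8479
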