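import Groth.Statements.S8482
import Groth.Agent.RootChartLib.ChevFormulas

set_option autoImplicit false
universe u
open CategoryTheory MonoidalCategory CartesianMonoidalCategory MonObj GrpObj AlgebraicGeometry CategoryTheory.Limits
open Red

set_option backward.isDefEq.respectTransparency false
set_option backward.isDefEq.respectTransparency.types false

namespace Groth.Agent.S8482

/-- The case (p, q) = (2,2) of the table. Let G be a split reductive S-group with splitting D (torus T ≅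
D_S(M), root datum) and a Chevalley system at the level of root groups: for every root c a root
homomorphism v_c : 𝔾_a ⟶ G (normalised by T through the character of c) with a dual root
homomorphism v_c⁻ (v_c(x) v_c⁻(y) = v_c⁻(y/(1+xy)) c^∨(1+xy) v_c(x/(1+xy)) for 1 + xy invertible),
such that with n_c = v_c(1) v_c⁻(1)⁻¹ v_c(1) one has, for all roots c, b, n_c v_b(x) n_c⁻¹ =
v_{s_c(b)}(± x) for a sign depending on (c, b). Let a, b be two linearly independent roots with |⟨a,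
b^∨⟩| ≤ |⟨b, a^∨⟩| (a is not longer than b). Suppose b - a is a root and b - 2a is not, a + b and 2a
+ b are roots with indices c₁, c₂, 3a + b is not a root, and a + 2b is a root with index c₃. Then
there are signs ε₁, ε₂, ε₃ ∈ {1, -1} with v_b(y) v_a(x) v_b(y)⁻¹ v_a(x)⁻¹ = v_{c₁}(2 ε₁ x y)
v_{c₂}(3 ε₂ x² y) v_{c₃}(3 ε₃ x y²) for all points x, y of 𝔾_a. -/
theorem result (S : Scheme.{u}) (e₁ : 𝟙_ (Over S) ⟶ Red.Ga S) (he₁ : Red.gaFn e₁ = 1)
    (G : Over S) [GrpObj G] (D : Red.SplitRed G)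
    (avc : D.idx → (Red.Gm S ⟶ D.T))
    (havc : ∀ a, avc a = Red.DSmap S (D.P.coroot a).toAddMonoidHom ≫ D.split.inv.hom.hom)
    (v vd : D.idx → (Red.Ga S ⟶ G)) (hv : ∀ c, Red.IsRootHom D.i (D.split.hom.hom.hom ≫ Red.chi S (D.P.root c)) (v c))
    (hvd : ∀ c, IsMonHom (vd c) ∧ ∀ (X : Over S) (x y : X ⟶ Red.Ga S), IsUnit (1 + Red.gaFn x * Red.gaFn y) →
        ∃ (x' y' : X ⟶ Red.Ga S) (z : X ⟶ Red.Gm S), Red.gmFn z = 1 + Red.gaFn x * Red.gaFn y ∧
          Red.gaFn x' * Red.gmFn z = Red.gaFn x ∧ Red.gaFn y' * Red.gmFn z = Red.gaFn y ∧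
          (x ≫ v c) * (y ≫ vd c) = (y' ≫ vd c) * (z ≫ avc c ≫ D.i) * (x' ≫ v c))
    (n : D.idx → (𝟙_ (Over S) ⟶ G)) (hn : ∀ c, n c = (e₁ ≫ v c) * (e₁ ≫ vd c)⁻¹ * (e₁ ≫ v c))
    (hSC : ∀ c b, ∃ ε : ℤ, (ε = 1 ∨ ε = -1) ∧ ∀ (X : Over S) (x y : X ⟶ Red.Ga S),
      Red.gaFn y = (ε : Γ(X.left, ⊤)) * Red.gaFn x →
        (toUnit X ≫ n c) * (x ≫ v b) * (toUnit X ≫ n c)⁻¹ = y ≫ v (D.P.reflectionPerm c b))
    (a b : D.idx) (hind : ∀ r s : ℤ, r • D.P.root a + s • D.P.root b = 0 → r = 0 ∧ s = 0)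
    (hlen : |D.P.pairing a b| ≤ |D.P.pairing b a|)
    (hm1 : D.P.root b - D.P.root a ∈ Set.range D.P.root) (hm2 : D.P.root b - (2 : ℤ) • D.P.root a ∉ Set.range D.P.root)
    (c₁ c₂ c₃ : D.idx) (hc₁ : D.P.root c₁ = D.P.root a + D.P.root b)
    (hc₂ : D.P.root c₂ = (2 : ℤ) • D.P.root a + D.P.root b) (hq : D.P.root b + (3 : ℤ) • D.P.root a ∉ Set.range D.P.root)
    (hc₃ : D.P.root c₃ = D.P.root a + (2 : ℤ) • D.P.root b) :
    ∃ ε₁ ε₂ ε₃ : ℤ, (ε₁ = 1 ∨ ε₁ = -1) ∧ (ε₂ = 1 ∨ ε₂ = -1) ∧ (ε₃ = 1 ∨ ε₃ = -1) ∧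
      ∀ (X : Over S) (x y z₁ z₂ z₃ : X ⟶ Red.Ga S),
      Red.gaFn z₁ = 2 * (ε₁ : Γ(X.left, ⊤)) * Red.gaFn x * Red.gaFn y →
      Red.gaFn z₂ = 3 * (ε₂ : Γ(X.left, ⊤)) * Red.gaFn x ^ 2 * Red.gaFn y →
      Red.gaFn z₃ = 3 * (ε₃ : Γ(X.left, ⊤)) * Red.gaFn x * Red.gaFn y ^ 2 →
        (y ≫ v b) * (x ≫ v a) * (y ≫ v b)⁻¹ * (x ≫ v a)⁻¹ = (z₁ ≫ v c₁) * (z₂ ≫ v c₂) * (z₃ ≫ v c₃) := by
    obtain hR | hsub := Groth.Agent.RootChartLib.reduced_or_subsingleton D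
    rotate_left
    · exact ⟨1, 1, 1, Or.inl rfl, Or.inl rfl, Or.inl rfl, fun X _ _ _ _ _ _ _ _ => hsub X _ _⟩
    have hsys : Groth.Agent.RootChartLib.ChevSys D e₁ v vd n :=
      ⟨he₁, hv, fun c => ⟨(hvd c).1, fun X x y hu => by simpa only [havc] using (hvd c).2 X x y hu⟩, hn, hSC⟩
    obtain ⟨f1, f2, f3, f4, f5, f6, f7⟩ := Groth.Agent.RootChartLib.pairing_facts D hind
    obtain ⟨d, hd⟩ := hm1
    obtain ⟨hle, hpair⟩ := Groth.Agent.RootChartLib.pairing_of_string hind 1 2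
      (fun k hk => by
        interval_cases k
        · exact ⟨b, by simp⟩
        · exact ⟨d, by rw [hd]; simp⟩) ⟨c₂, by rw [hc₂, Nat.cast_ofNat]; abel⟩
    have hB : D.P.pairing b a = -1 := by simpa using hpair (by simpa using hm2) (by simpa using hq)
    have hB' : D.P.pairing d a = -3 := by
      rw [← D.P.root_coroot'_eq_pairing, hd, map_sub, D.P.root_coroot'_eq_pairing, D.P.root_coroot'_eq_pairing,
        D.P.pairing_same, hB]
      norm_num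
    have hind' : ∀ r s : ℤ, r • D.P.root a + s • D.P.root d = 0 → r = 0 ∧ s = 0 := fun r s h => by
      obtain ⟨h1, h2⟩ := hind (r - s) s (by rw [← h, hd]; module)
      omega
    have hA' : D.P.pairing a d = -1 := by
      obtain ⟨g1, g2, g3, g4, g5, g6, g7⟩ := Groth.Agent.RootChartLib.pairing_facts D hind'
      rw [hB'] at g4 g5
      omega
    exact hsys.form_G2_mixed hind' hA'
      (show D.P.root d - D.P.root a ∉ Set.range D.P.root by
        rw [hd, show D.P.root b - D.P.root a - D.P.root a = D.P.root b - (2 : ℤ) • D.P.root a by module]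
        exact hm2)
      hB' (b' := b) (c₁ := c₁) (c₂ := c₂) (c₃ := c₃) (by rw [hd]; module) (by rw [hc₁, hd]; module)
      (by rw [hc₂, hd]; module) (by rw [hc₃, hd]; module)

end Groth.Agent.S8482
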