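import Groth.Statements.S8509
import Groth.Agent.SchTorsor.Props
import Groth.Agent.EtFound.Descent
import Groth.Agent.GrpSchLib.SepPoints
import Groth.Agent.Hensel.EtaleResidueExt
import Groth.Agent.Hensel.IntegralStrict
import Groth.Agent.Hensel.SmoothLift
import Mathlib.AlgebraicGeometry.Sites.Fpqc
import Mathlib.FieldTheory.SeparableClosure
import Mathlib.AlgebraicGeometry.Morphisms.Etale

set_option autoImplicit false
open CategoryTheory MonoidalCategory CartesianMonoidalCategory MonObj GrpObj AlgebraicGeometry
universe u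
open RedSub

namespace Groth.Agent.S8509

open CategoryTheory.Limits IsLocalRing in
/-- A smooth faithfully flat algebra over a henselian local ring has a point in a finite etale local algebra. -/
theorem exists_etale_point (A : Type u) [CommRing A] [HenselianLocalRing A] (B : Type u) [CommRing B]
    [Algebra A B] [Algebra.Smooth A B] (ks : Type u) [Field ks] [Algebra (ResidueField A) ks]
    [Algebra.IsSeparable (ResidueField A) ks] (σ : B →+* ks)
    (hσ : ∀ a, σ (algebraMap A B a) = algebraMap (ResidueField A) ks (residue A a)) :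
    ∃ (R : Type u) (_ : CommRing R) (_ : IsLocalRing R) (_ : Algebra A R) (_ : IsLocalHom (algebraMap A R)),
      Module.Finite A R ∧ Algebra.Etale A R ∧ Nonempty (B →ₐ[A] R) := by
  classical
  haveI : Algebra.IsAlgebraic (ResidueField A) ks := Algebra.IsSeparable.isAlgebraic _ _
  obtain ⟨t, ht⟩ := (Algebra.FiniteType.out : (⊤ : Subalgebra A B).FG)
  let E : IntermediateField (ResidueField A) ks := IntermediateField.adjoin _ (σ '' (t : Set B))
  haveI : FiniteDimensional (ResidueField A) E :=
    IntermediateField.finiteDimensional_adjoin fun x _ => Algebra.IsIntegral.isIntegral x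
  have hmem : ∀ b, σ b ∈ E := by
    intro b
    have hb : b ∈ Algebra.adjoin A (t : Set B) := by rw [ht]; trivial
    induction hb using Algebra.adjoin_induction with
    | mem x hx => exact IntermediateField.subset_adjoin _ _ ⟨x, hx, rfl⟩
    | algebraMap a => rw [hσ]; exact E.algebraMap_mem _
    | add x y _ _ hx hy => rw [map_add]; exact E.add_mem hx hy
    | mul x y _ _ hx hy => rw [map_mul]; exact E.mul_mem hx hy
  obtain ⟨R, _, _, _, _, hfin, het, ⟨e⟩⟩ := Hensel.exists_finite_etale_residueField A E
  haveI := hfin
  haveI : HenselianLocalRing R := Hensel.henselianLocalRing_of_isIntegral_local A R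
  let σE : B →+* E := σ.codRestrict E hmem
  let σR : B →ₐ[A] R ⧸ maximalIdeal R :=
    { (e.symm.toRingEquiv.toRingHom.comp σE) with
      commutes' := fun a => by
        show e.symm (σE (algebraMap A B a)) = _
        rw [show σE (algebraMap A B a) = algebraMap (ResidueField A) E (residue A a) from Subtype.ext (hσ a)]
        exact (e.symm.commutes _).trans rfl }
  obtain ⟨τ, -⟩ := Hensel.exists_smooth_lift (A := R) (maximalIdeal R) (R := A) σR
  exact ⟨R, inferInstance, inferInstance, inferInstance, inferInstance, hfin, het, ⟨τ⟩⟩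

/-- Let A be a henselian local ring, S = Spec A, and G an S-group scheme which is smooth and affine over
S. Then every torsor P under G (a representable principal homogeneous bundle) is isotrivial: there
is a finite etale surjective morphism S' ⟶ S such that P_{S'} has a section. (The published
statement asks only that every finite set of points of G lie in an affine open; this row takes G
affine over S.) -/
theorem result (A : Type u) [CommRing A] [HenselianLocalRing A]
    {G P : Over (Spec (CommRingCat.of A))} [GrpObj G] [Smooth G.hom] [IsAffineHom G.hom] (a : AlgGrp.Action G P)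
    (ha : RedSub.IsTorsor a) :
    ∃ (S' : Scheme.{u}) (f : S' ⟶ Spec (CommRingCat.of A)), IsFinite f ∧ Etale f ∧ Surjective f ∧
      RedSub.HasSection (Red.bc f P) := by
  obtain ⟨hsurj, hfl, hfp, hiso⟩ := ha
  haveI := hsurj
  haveI := hfl
  haveI := hfp
  have htor : NonAbH1.IsTorsorFor Scheme.fpqcPrecoverage a := by
    refine ⟨hiso, Presieve.singleton P.hom, Scheme.fppfPrecoverage_le_fpqcPrecoverage _ P.hom.singleton_mem_fppfPrecoverage, ?_⟩
    rintro _ _ ⟨⟩
    exact ⟨𝟙 _, Category.id_comp _⟩
  haveI := EtFound.fpqc_isAffineHom.{u}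
  haveI : IsAffineHom P.hom := SchTorsor.torsor_property @IsAffineHom htor inferInstance
  haveI : Smooth P.hom := SchTorsor.torsor_property @Smooth htor inferInstance
  haveI : IsAffine P.left := isAffine_of_isAffineHom P.hom
  obtain ⟨φ, hφ⟩ : ∃ φ : CommRingCat.of A ⟶ Γ(P.left, ⊤), Spec.map φ = P.left.isoSpec.inv ≫ P.hom :=
    ⟨_, Spec.map_preimage _⟩
  have hsm : φ.hom.Smooth := by
    rw [← HasRingHomProperty.Spec_iff (P := @Smooth), hφ]
    infer_instance
  let B := Γ(P.left, ⊤)
  letI : Algebra A B := φ.hom.toAlgebra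
  haveI : Algebra.Smooth A B := hsm
  let κ := IsLocalRing.ResidueField A
  let ks := SeparableClosure κ
  let g : Spec (CommRingCat.of ks) ⟶ Spec (CommRingCat.of A) :=
    Spec.map (CommRingCat.ofHom ((algebraMap κ ks).comp (IsLocalRing.residue A)))
  haveI : IsSepClosed ks := inferInstance
  obtain ⟨x₀, hx₀⟩ := P.hom.surjective (g (IsLocalRing.closedPoint ks))
  obtain ⟨w, -, -⟩ := Scheme.Pullback.exists_preimage_pullback (f := P.hom) (g := g) x₀ (IsLocalRing.closedPoint ks) hx₀
  obtain ⟨z, hz, -⟩ := GrpSchLib.exists_point_of_smooth (Limits.pullback.snd P.hom g) ⊤ (x := w) trivial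
  obtain ⟨σ, hσ⟩ : ∃ σ : B ⟶ CommRingCat.of ks,
      Spec.map σ = z ≫ Limits.pullback.fst P.hom g ≫ P.left.isoSpec.hom := ⟨_, Spec.map_preimage _⟩
  have hσφ : φ ≫ σ = CommRingCat.ofHom ((algebraMap κ ks).comp (IsLocalRing.residue A)) := by
    apply Spec.map_injective
    rw [Spec.map_comp, hσ, hφ]
    simp only [Category.assoc, Iso.hom_inv_id_assoc]
    rw [Limits.pullback.condition, ← Category.assoc, hz, Category.id_comp]
  obtain ⟨R, _, _, _, _, hfin, het, ⟨τ⟩⟩ := exists_etale_point A B ks σ.hom
    (fun r => congrArg (fun h => h.hom r) hσφ)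
  let f : Spec (CommRingCat.of R) ⟶ Spec (CommRingCat.of A) := Spec.map (CommRingCat.ofHom (algebraMap A R))
  refine ⟨_, f, ?_, ?_, ?_, ?_⟩
  · rw [IsFinite.SpecMap_iff, CommRingCat.hom_ofHom, RingHom.finite_algebraMap]
    exact hfin
  · rw [HasRingHomProperty.Spec_iff (P := @Etale), CommRingCat.hom_ofHom, RingHom.etale_algebraMap]
    exact het
  · refine ⟨fun p => ?_⟩
    haveI : Flat f := by
      haveI : Etale f := by
        rw [HasRingHomProperty.Spec_iff (P := @Etale), CommRingCat.hom_ofHom, RingHom.etale_algebraMap]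
        exact het
      infer_instance
    have hcl : f (IsLocalRing.closedPoint R) = IsLocalRing.closedPoint A := IsLocalRing.comap_closedPoint _
    obtain ⟨q, -, hq⟩ := Flat.generalizingMap f (show p ⤳ f (IsLocalRing.closedPoint R) by
      rw [hcl]; exact IsLocalRing.specializes_closedPoint p)
    exact ⟨q, hq⟩
  · let t : Spec (CommRingCat.of R) ⟶ P.left := Spec.map (CommRingCat.ofHom τ.toRingHom) ≫ P.left.isoSpec.inv
    have ht : t ≫ P.hom = f := by
      rw [Category.assoc, ← hφ, ← Spec.map_comp]
      congr 1
      exact CommRingCat.hom_ext (RingHom.ext fun r => τ.commutes r)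
    exact ⟨Over.homMk (Limits.pullback.lift t (𝟙 _) (by rw [Category.id_comp]; exact ht))
      (Limits.pullback.lift_snd _ _ _)⟩

end Groth.Agent.S8509
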