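import Groth.Statements.S8540
import Groth.Agent.EtTorLib.ColimConstr
import Groth.Agent.EtFound.NoethACC
import Mathlib.CategoryTheory.Subobject.NoetherianObject

set_option autoImplicit false
universe u
open CategoryTheory CategoryTheory.Limits AlgebraicGeometry Opposite
open EtPBC

namespace Groth.Agent.S8540

/-- Let X be a Noetherian scheme and F a torsion abelian sheaf on the small etale site of X. Then F is
constructible if and only if F is a Noetherian object of the category of abelian etale sheaves on X
(ascending chain condition on subsheaves). -/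
theorem result (X : Scheme.{u}) [IsNoetherian X] (F : EtCoh.Ab X)
    (hF : EtCoh.IsTorsion F) :
    EtPBC.IsConstructible F ↔ IsNoetherianObject F := by
  constructor
  · intro h
    rw [isNoetherianObject_iff_monotone_chain_condition]
    intro c
    obtain ⟨N, hN⟩ := EtFound.subobject_chain_stabilises h c
    exact ⟨N, fun m hm => (hN m hm).symm⟩
  intro hN
  let P : EtCoh.Ab X → Prop := fun _ => True
  have hP : EtTorLib.Good P := ⟨fun _ _ => trivial, fun _ => trivial, fun _ _ => trivial, fun _ _ => trivial⟩
  obtain ⟨hcol⟩ := EtTorLib.exists_isColimit hP hF fun U hU s n hn hs => by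
    haveI : NeZero n := ⟨hn.ne'⟩
    obtain ⟨h, hh⟩ := EtTorLib.exists_hom_gen s hs
    haveI := hU
    exact ⟨_, h, EtTorLib.gen U n, S0133.result X U (ZMod n), trivial, hh⟩
  haveI := EtTorLib.isFiltered_idx (F := F) hP
  haveI : Nonempty (EtTorLib.Idx P F) := IsFiltered.nonempty
  obtain ⟨_, ⟨j, rfl⟩, hj⟩ := (wellFounded_gt (α := Subobject F)).has_min
    (Set.range fun i : EtTorLib.Idx P F => imageSubobject i.m) (Set.range_nonempty _)
  haveI : Epi j.m := by
    refine ⟨fun {Z} α β h => hcol.hom_ext fun i => ?_⟩
    obtain ⟨k, a, b, -⟩ := IsFilteredOrEmpty.cocone_objs j i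
    have hle : ∀ {l : EtTorLib.Idx P F} (c : l ⟶ k), imageSubobject l.m ≤ imageSubobject k.m := fun c => by
      conv_lhs => rw [← c.2]
      exact imageSubobject_comp_le _ _
    have heq : imageSubobject k.m = imageSubobject j.m :=
      (eq_or_lt_of_le (hle a)).elim Eq.symm (fun hlt => absurd hlt (hj _ ⟨k, rfl⟩))
    have hA : (imageSubobject j.m).arrow ≫ α = (imageSubobject j.m).arrow ≫ β := by
      rw [← cancel_epi (factorThruImageSubobject j.m), imageSubobject_arrow_comp_assoc,
        imageSubobject_arrow_comp_assoc]
      exact h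
    have hk : (imageSubobject k.m).arrow ≫ α = (imageSubobject k.m).arrow ≫ β := by rw [heq]; exact hA
    change i.m ≫ α = i.m ≫ β
    have hkα : k.m ≫ α = k.m ≫ β := by
      rw [← imageSubobject_arrow_comp k.m, Category.assoc, Category.assoc, hk]
    rw [← b.2, Category.assoc, Category.assoc, hkα]
  exact EtFound.isConstructible_of_epi j.p.isConstructible j.m

end Groth.Agent.S8540
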