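import Groth.Statements.S8541
import Groth.Agent.PThick.Main

set_option autoImplicit false
universe u
open CategoryTheory CategoryTheory.Limits AlgebraicGeometry Opposite
open EtCd

namespace Groth.Agent.S8541

/-- Let A be a Noetherian local ring, S = Spec A, and X a closed subscheme of the projective space P^N_S
(closed immersion i) whose fibres over S all have dimension at most n. Then there is a closed
subscheme Z of P^N_S which is flat over S with all fibres of dimension at most n and which contains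
X: a closed immersion j : Z → P^N_S with Z → S flat of relative dimension ≤ n and a closed immersion
g : X → Z with g ≫ j = i. -/
theorem result (A : Type u) [CommRing A] [IsNoetherianRing A] [IsLocalRing A]
    (N n : ℕ) {X : Scheme.{u}} (i : X ⟶ CohB1.ProjSpaceOver N (Spec (CommRingCat.of A))) [IsClosedImmersion i]
    (hdim : ∀ s : ↥(Spec (CommRingCat.of A)),
      topologicalKrullDim ↥((i ≫ CohB1.ProjSpaceOver.toBase N (Spec (CommRingCat.of A))).fiber s) ≤ n) :
    ∃ (Z : Scheme.{u}) (j : Z ⟶ CohB1.ProjSpaceOver N (Spec (CommRingCat.of A))) (g : X ⟶ Z),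
      IsClosedImmersion j ∧ IsClosedImmersion g ∧ g ≫ j = i ∧
      Flat (j ≫ CohB1.ProjSpaceOver.toBase N (Spec (CommRingCat.of A))) ∧
      ∀ s : ↥(Spec (CommRingCat.of A)),
        topologicalKrullDim ↥((j ≫ CohB1.ProjSpaceOver.toBase N (Spec (CommRingCat.of A))).fiber s) ≤ n := by
  let Q := CohB1.ProjSpace.toSpec N A
  have hP' : IsPullback (Groth.Agent.ProjX.pmap N (Groth.Agent.ProjX.zto A)) Q
      (CohB1.ProjSpace.toSpec N (ULift.{u} ℤ)) (specULiftZIsTerminal.from (Spec (CommRingCat.of A))) := by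
    rw [specULiftZIsTerminal.hom_ext (specULiftZIsTerminal.from (Spec (CommRingCat.of A)))
      (Spec.map (CommRingCat.ofHom (Groth.Agent.ProjX.zto A)))]
    exact Groth.Agent.ProjX.isPullback_pmap N (Groth.Agent.ProjX.zto A)
  let e : CohB1.ProjSpace N A ≅ CohB1.ProjSpaceOver N (Spec (CommRingCat.of A)) := hP'.isoPullback
  have he : e.hom ≫ CohB1.ProjSpaceOver.toBase N (Spec (CommRingCat.of A)) = Q := hP'.isoPullback_hom_snd
  have he' : e.inv ≫ Q = CohB1.ProjSpaceOver.toBase N (Spec (CommRingCat.of A)) := by rw [← he, e.inv_hom_id_assoc]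
  have hX : i ≫ CohB1.ProjSpaceOver.toBase N (Spec (CommRingCat.of A)) = (i ≫ e.inv) ≫ Q := by
    rw [Category.assoc, he']
  have hd := hdim (IsLocalRing.closedPoint A)
  rw [hX] at hd
  obtain ⟨c, n', hN, hn, hd'⟩ : ∃ c n' : ℕ, c + n' = N ∧ n' ≤ n ∧
      topologicalKrullDim ↥(((i ≫ e.inv) ≫ Q).fiber (IsLocalRing.closedPoint A)) ≤ (n' : WithBot ℕ∞) := by
    by_cases h : n ≤ N
    · exact ⟨N - n, n, Nat.sub_add_cancel h, le_rfl, hd⟩
    · refine ⟨0, N, zero_add N, by omega, ?_⟩
      refine (Groth.Agent.PThick.fibreHomeo (i ≫ e.inv)).isInducing.topologicalKrullDim_le.trans ?_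
      exact (Topology.IsInducing.subtypeVal.topologicalKrullDim_le).trans (Groth.Agent.S10829.result _ N).le
  obtain ⟨Z, j, g, hj, hg, hgj, hflat, hfib⟩ := Groth.Agent.PThick.exists_thickening (i ≫ e.inv) hN hd'
  have hZ : (j ≫ e.hom) ≫ CohB1.ProjSpaceOver.toBase N (Spec (CommRingCat.of A)) = j ≫ Q := by
    rw [Category.assoc, he]
  refine ⟨Z, j ≫ e.hom, g, inferInstance, hg, ?_, ?_, fun s => ?_⟩
  · rw [← Category.assoc, hgj, Category.assoc, e.inv_hom_id, Category.comp_id]
  · rw [hZ]; exact hflat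
  · rw [hZ]; exact (hfib s).trans (Nat.cast_le.2 hn)

end Groth.Agent.S8541
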