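import Groth.Statements.S8547
import Groth.Agent.EtShPull.Exact

set_option autoImplicit false
universe u
open CategoryTheory CategoryTheory.Limits AlgebraicGeometry Opposite
open EtBC

namespace Groth.Agent.S8547

/-- Let h : Y → X and p : X̄ → X be morphisms of schemes with X, Y, X̄ quasi-compact and quasi-separated
(p need not be surjective), and Ȳ = Y ×_X X̄ with projections h̄ : Ȳ → X̄ and p_Y : Ȳ → Y. If the
pullback map on global sections Γ(X, F) → Γ(Y, h^*F) is injective for every sheaf of sets F on X and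
the base change morphism h^* p_* F̄ → p_{Y*} h̄^* F̄ is a monomorphism for every sheaf of sets F̄ on
X̄, then Γ(X̄, F̄) → Γ(Ȳ, h̄^*F̄) is injective for every F̄. If the maps for h are bijective and the
base change morphisms are isomorphisms, then the maps for h̄ are bijective. -/
theorem result {X Y Xb Yb : Scheme.{u}} [CompactSpace X]
    [QuasiSeparatedSpace X] [CompactSpace Y] [QuasiSeparatedSpace Y] [CompactSpace Xb] [QuasiSeparatedSpace Xb]
    (h : Y ⟶ X) (p : Xb ⟶ X) (hb : Yb ⟶ Xb) (pY : Yb ⟶ Y) (sq : IsPullback hb pY p h) :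
    ((∀ F : EtDesc.Sh X, Function.Injective (EtDesc.secPull h F)) →
      (∀ Fb : EtDesc.Sh Xb, Mono (EtBC.baseChange0Sh p h pY hb sq.w Fb)) →
      ∀ Fb : EtDesc.Sh Xb, Function.Injective (EtDesc.secPull hb Fb)) ∧
    ((∀ F : EtDesc.Sh X, Function.Bijective (EtDesc.secPull h F)) →
      (∀ Fb : EtDesc.Sh Xb, IsIso (EtBC.baseChange0Sh p h pY hb sq.w Fb)) →
      ∀ Fb : EtDesc.Sh Xb, Function.Bijective (EtDesc.secPull hb Fb)) := by
  have inj : (∀ F : EtDesc.Sh X, Function.Injective (EtDesc.secPull h F)) →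
      (∀ Fb : EtDesc.Sh Xb, Mono (EtBC.baseChange0Sh p h pY hb sq.w Fb)) →
      ∀ Fb : EtDesc.Sh Xb, Function.Injective (EtDesc.secPull hb Fb) := by
    intro hi hm Fb s t hst
    obtain ⟨α, β, e⟩ := Groth.Agent.EtShPull.secPull_baseChange h p hb pY sq.w Fb
    haveI := hm Fb
    have := congrArg β hst
    rw [← e, ← e] at this
    exact α.injective (hi _ (Groth.Agent.EtShPull.app_injective _ _ this))
  refine ⟨inj, fun hb' hiso Fb => ⟨inj (fun F => (hb' F).1) (fun F => ?_) Fb, fun y => ?_⟩⟩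
  · haveI := hiso F
    infer_instance
  · obtain ⟨α, β, e⟩ := Groth.Agent.EtShPull.secPull_baseChange h p hb pY sq.w Fb
    haveI := hiso Fb
    obtain ⟨z, hz⟩ := (ConcreteCategory.bijective_of_isIso
      (((sheafToPresheaf _ _).map (EtBC.baseChange0Sh p h pY hb sq.w Fb)).app (op (EtCoh.top Y)))).2 (β y)
    obtain ⟨x, hx⟩ := (hb' _).2 z
    obtain ⟨s, rfl⟩ := α.surjective x
    refine ⟨s, β.injective ?_⟩
    rw [← e, hx]
    exact hz

end Groth.Agent.S8547
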