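import Groth.Statements.S8551
import Groth.Agent.EtLeray.CompN
import Groth.Agent.EtPBC0.AcycComp
import Groth.Agent.S14622
import Groth.Agent.EtBCFib.ViaSquare

set_option autoImplicit false
universe u
open CategoryTheory CategoryTheory.Limits AlgebraicGeometry
open EtBC

namespace Groth.Agent.S8551

/-- Let h : Y → X and p : X̄ → X be morphisms of schemes with X, Y, X̄ quasi-compact quasi-separated and
p surjective, Ȳ = Y ×_X X̄ with projections h̄ : Ȳ → X̄ and p_Y : Ȳ → Y, L a set of primes and n a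
natural number. Assume that pullback along h is bijective on the etale cohomology of every abelian
L-torsion sheaf on X in degrees ≤ n and injective in degree n + 1, and that for every abelian
L-torsion sheaf F̄ on X̄ the degree-i base change morphism h⁻¹ R^i p_* F̄ → R^i p_{Y*} h̄⁻¹ F̄ is an
isomorphism for i ≤ n and a monomorphism for i = n + 1. Let F be an abelian L-torsion sheaf on X and
ξ ∈ H^{n+1}(Y, h⁻¹F). Then ξ lies in the image of H^{n+1}(X, F) if and only if its pullback to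
H^{n+1}(Ȳ, (p_Y ≫ h)⁻¹F) lies in the image of H^{n+1}(X̄, p⁻¹F) under pullback along h̄. -/
theorem result {X Y Xb Yb : Scheme.{u}} [CompactSpace X]
    [QuasiSeparatedSpace X] [CompactSpace Y] [QuasiSeparatedSpace Y] [CompactSpace Xb] [QuasiSeparatedSpace Xb]
    (h : Y ⟶ X) (p : Xb ⟶ X) (hb : Yb ⟶ Xb) (pY : Yb ⟶ Y) (sq : IsPullback hb pY p h) (hp : Function.Surjective p.base)
    (L : Set ℕ) (n : ℕ) (hh : EtAcyc.CompN h L n)
    [PreservesFiniteLimits (EtCoh.pull h)] [PreservesFiniteLimits (EtCoh.pull hb)] [PreservesFiniteLimits (EtCoh.pull pY)]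
    (hbc : ∀ Fb : EtCoh.Ab Xb, EtAcyc.IsLTorsion L Fb →
      (∀ i : ℕ, i ≤ n → IsIso (EtBC.bcQ p h pY hb sq.w i Fb)) ∧ Mono (EtBC.bcQ p h pY hb sq.w (n + 1) Fb))
    (F : EtCoh.Ab X) (hF : EtAcyc.IsLTorsion L F) (ξ : EtCoh.H Y ((EtCoh.pull h).obj F) (n + 1)) :
    ξ ∈ Set.range (EtCore.Hpull h F (n + 1)) ↔
      EtCore.HpullVia pY h (pY ≫ h) rfl F (n + 1) ξ ∈
        Set.range (EtCore.HpullVia hb p (pY ≫ h) sq.w F (n + 1)) := by
  classical
  haveI : QuasiCompact p := quasiCompact_of_compactSpace p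
  haveI : QuasiSeparated p := inferInstance
  haveI : Surjective p := ⟨hp⟩
  haveI := EtFound.pull_preservesFiniteLimits p
  haveI := EtFound.pull_preservesFiniteLimits (pY ≫ h)
  let Fb := (EtCoh.pull p).obj F
  have hFb : EtAcyc.IsLTorsion L Fb := EtPBC0.AcycComp.isLTorsion_pull p L F hF
  obtain ⟨J, i, hi, hJ, hsub, hac⟩ := EtLeray.exists_hull_LTors Fb hFb
  haveI := hi
  haveI : Mono ((EtCoh.pullPushAdj p).unit.app F) := S14622.result p F
  haveI : (EtCoh.push p).IsRightAdjoint := (EtCoh.pullPushAdj p).isRightAdjoint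
  let u : F ⟶ (EtCoh.push p).obj J := (EtCoh.pullPushAdj p).unit.app F ≫ (EtCoh.push p).map i
  haveI : Mono u := mono_comp _ _
  have hG : EtAcyc.IsLTorsion L ((EtCoh.push p).obj J) := EtLeray.isLTorsion_push p hJ
  constructor
  · rintro ⟨ζ, rfl⟩
    refine ⟨EtCore.Hpull p F (n + 1) ζ, ?_⟩
    exact EtBCFib.HpullVia_comm h p hb pY sq.w F (n + 1) ζ
  · rintro ⟨γ, hγ⟩
    refine S8536.result h L n hh u hF hG ξ ⟨0, (map_zero _).trans ?_⟩
    have hP := EtLeray.isIso_baseChange0_of_bcQ h p hb pY sq.w J ((hbc J hJ).1 0 n.zero_le)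
    haveI := hP
    haveI := EtFound.pull_preservesFiniteLimits pY
    have hinj : Function.Injective (EtLim.HofPush pY ((EtCoh.pull hb).obj J) (n + 1)) :=
      (EtLeray.hofPush_bdd pY _ (n + 1)).2 fun b hb' => by
        haveI := (hbc J hJ).1 (b + 1) (by omega)
        exact ((EtCoh.pull h).map_isZero (hac p b)).of_iso (asIso (EtBC.bcQ p h pY hb sq.w (b + 1) J)).symm
    have hm : Function.Injective ((EtCoh.HF Y (n + 1)).map (EtCoh.baseChange0 p h pY hb sq.w J)) :=
      (ConcreteCategory.bijective_of_isIso _).1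
    refine (hm (hinj ?_)).symm
    exact (EtBCFib.image_eq_zero h p hb pY sq.w F i (n + 1) ξ γ hγ (hsub n)).trans
      ((congrArg _ (map_zero _)).trans (map_zero _)).symm

end Groth.Agent.S8551
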