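import Groth.Statements.S8554
import Groth.Agent.GodGrp.Basic
import Mathlib.AlgebraicGeometry.Sites.EtalePoint
-- import your own Groth.Agent.* helpers here

set_option autoImplicit false
universe u
open CategoryTheory CategoryTheory.Limits AlgebraicGeometry Opposite
open NonAbH1

namespace Groth.Agent.S8554

/-- Every sheaf of groups F on the small etale site of a scheme X embeds into a sheaf of groups G with
vanishing first non-abelian cohomology on every etale X-scheme: there are G and a morphism u : F ⟶
G, injective on sections over every object of the site, such that for every etale X-scheme U every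
torsor under the restriction of G to the induced site over U is trivial, i.e. H¹(U, G) is reduced to
its base point. (The published statement adds that the first higher direct images of G along any
morphism of schemes then vanish as pointed sheaves; that clause follows from this one and is not
stated here.) -/
theorem result {X : Scheme.{u}}
    (F : Sheaf X.smallEtaleTopology GrpCat.{u + 1}) :
    ∃ (G : Sheaf X.smallEtaleTopology GrpCat.{u + 1}) (φ : F ⟶ G),
      (∀ U : X.Etaleᵒᵖ, Function.Injective (φ.hom.app U)) ∧
      ∀ (U : X.Etale) (P : NonAbH1.Torsor (G.over U)), P.IsTrivial := by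
  let Φ : X → GrothendieckTopology.Point.{u} X.smallEtaleTopology := fun x =>
    Scheme.pointSmallEtale ((Scheme.SpecToEquivOfField (SeparableClosure (X.residueField x)) _).2
      ⟨x, CommRingCat.ofHom (algebraMap (X.residueField x) _)⟩)
  refine ⟨GodGrp.godSheaf Φ (fun i => GodGrp.stalk (Φ i) F.obj), GodGrp.unit Φ F,
    fun V => GodGrp.unit_injective Φ F (fun {V} S hS => ?_) V, fun U P => GodGrp.isTrivial Φ _ P⟩
  choose Y f hf y hy using hS
  refine X.smallEtaleTopology.superset_covering
    (S := Sieve.ofArrows _ fun j : (Σ i : X, (Φ i).fiber.obj V) => f j.1 j.2) ?_ ?_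
  · rw [Sieve.generate_le_iff, Presieve.ofArrows_le_iff]
    exact fun j => hf _ _
  · rw [(Scheme.isConservativeFamilyOfPoints_pointSmallEtale' X).jointly_reflect_ofArrows_mem]
    rintro ⟨_, ⟨x⟩⟩ t
    exact ⟨⟨x, t⟩, y x t, hy x t⟩

end Groth.Agent.S8554
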