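import Groth.Statements.S8559
import Groth.Agent.RelChart.Global

set_option autoImplicit false
attribute [-instance] CategoryTheory.catToReflQuiver
set_option backward.isDefEq.respectTransparency false
universe u
open CategoryTheory CategoryTheory.Limits AlgebraicGeometry
open Pi1

namespace Groth.Agent.S8559

/-- Let f : X ⟶ S be smooth of relative dimension m + 1 and h : Y ⟶ S smooth of relative dimension m, i
: Y ⟶ X a closed immersion with i ≫ f = h whose ideal sheaf is generated by a global function t on X
(a smooth S-pair of codimension one with Y defined by the equation t = 0), and U = X_t the open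
complement of Y. Let G be a finite group of order n with n invertible on Y, and V ⟶ U a principal
G-cover (a finite etale cover with an action of G by U-automorphisms, surjective, G acting simply
transitively on every geometric fibre). Let X′ ⟶ X be obtained by adjoining an n-th root z of t,
namely the fibre product of X ⟶ Spec Γ(X)[T] (T ↦ t) with Spec Γ(X)[T] ⟶ Spec Γ(X)[T] (T ↦ Tⁿ), U′
the inverse image of U and V′ the pullback of V to U′. Then V′ is the restriction to U′ of some
finite etale cover of X′, and any two finite etale covers of X′ whose restrictions to U′ are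
isomorphic to V′ are isomorphic. (The published statement allows any smooth S-pair of codimension
one with Y cut out by one equation; the fixed relative dimensions m + 1 and m assumed here are its
local form.) -/
theorem result {S X Y : Scheme.{u}}
    (f : X ⟶ S) (h : Y ⟶ S) (i : Y ⟶ X) [IsClosedImmersion i] (w : i ≫ f = h)
    (m : ℕ) [SmoothOfRelativeDimension (m + 1) f] [SmoothOfRelativeDimension m h]
    (t : Γ(X, ⊤)) (ht : i.ker = Scheme.IdealSheafData.ofIdealTop (Ideal.span {t}))
    (n : ℕ) (hn : IsUnit ((n : ℕ) : Γ(Y, ⊤)))
    (G : Type u) [Group G] [Finite G] (hcard : Nat.card G = n)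
    (V : FEt.Cat (X.basicOpen t : Scheme.{u})) (ρ : G →* Aut V) (hV : SGA1t.IsPrincipal G V ρ) :
    letI A := Γ(X, ⊤)
    letI τ : X ⟶ Spec (CommRingCat.of (Polynomial A)) :=
      X.toSpecΓ ≫ Spec.map (CommRingCat.ofHom (Polynomial.aeval (R := A) t).toRingHom)
    letI ν : Spec (CommRingCat.of (Polynomial A)) ⟶ Spec (CommRingCat.of (Polynomial A)) :=
      Spec.map (CommRingCat.ofHom (Polynomial.expand A n).toRingHom)
    letI p : pullback τ ν ⟶ X := pullback.fst τ ν
    letI V' : FEt.Cat (p ⁻¹ᵁ X.basicOpen t : Scheme.{u}) := (FEt.restrict (p ∣_ X.basicOpen t)).obj V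
    (∃ W : FEt.Cat (pullback τ ν), Nonempty ((FEt.restrict (p ⁻¹ᵁ X.basicOpen t).ι).obj W ≅ V')) ∧
      ∀ W₁ W₂ : FEt.Cat (pullback τ ν),
        Nonempty ((FEt.restrict (p ⁻¹ᵁ X.basicOpen t).ι).obj W₁ ≅ V') →
        Nonempty ((FEt.restrict (p ⁻¹ᵁ X.basicOpen t).ι).obj W₂ ≅ V') → Nonempty (W₁ ≅ W₂) := by
  exact Groth.Agent.RelChart.exists_extend_root f h i w m t ht n hn hcard V ρ hV.2

end Groth.Agent.S8559
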