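import Groth.Statements.S8561
import Groth.Agent.EtTorLib.OpenFiltration
import Groth.Agent.EtTorLib.OpenChain
import Groth.Agent.EtFound.Presentation

set_option autoImplicit false
universe u
open CategoryTheory CategoryTheory.Limits AlgebraicGeometry Opposite
open EtPBC

namespace Groth.Agent.S8561

set_option backward.isDefEq.respectTransparency.types false

/-- Let X be a quasi-compact and quasi-separated scheme and F a constructible abelian sheaf on the small
etale site of X (every affine open has a finite partition into constructible locally closed strata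
along which F is finite locally constant). Then F has a finite filtration whose successive quotients
are extensions by zero of finite locally constant sheaves on constructible locally closed
subschemes: there are abelian sheaves 0 = E₀, E₁, …, E_n with E_n ≅ F and short exact sequences 0 →
E_k → E_{k+1} → j_!(c_* G) → 0, where j : U ⟶ X is an open immersion, c : W ⟶ U a closed immersion
with the image of c ≫ j constructible in X, and G a finite locally constant abelian sheaf on W. (The
refinement with irreducible strata for X Noetherian is not stated.) -/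
theorem result {X : Scheme.{u}} [CompactSpace X]
    [QuasiSeparatedSpace X] (F : EtCoh.Ab X) (hF : EtPBC.IsConstructible F) :
    ∃ (n : ℕ) (E : Fin (n + 1) → EtCoh.Ab X) (ι : ∀ k : Fin n, E k.castSucc ⟶ E k.succ),
      IsZero (E 0) ∧ Nonempty (E (Fin.last n) ≅ F) ∧
      ∀ k : Fin n, ∃ (U W : Scheme.{u}) (j : U ⟶ X) (_ : IsOpenImmersion j) (c : W ⟶ U)
        (_ : IsClosedImmersion c) (G : EtCoh.Ab W)
        (π : E k.succ ⟶ (EtShriek.extZero j).obj ((EtCoh.push c).obj G)) (hz : ι k ≫ π = 0),
        Topology.IsConstructible (Set.range (c ≫ j)) ∧ EtCoh.IsFiniteLocallyConstant G ∧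
        (ShortComplex.mk (ι k) π hz).ShortExact := by
  obtain ⟨n, E, hE, hc, hu⟩ := EtFound.exists_pieces ((EtFound.isConstructible_iff_adaptedStrata X F).1 hF)
  have hc' : ∀ k, Topology.IsConstructible (E k) := fun k => by
    have := (hc k).image_of_isOpenEmbedding isOpen_univ.isOpenEmbedding_subtypeVal
      (by rw [Subtype.range_coe]; exact IsRetrocompact.univ)
    rwa [Subtype.image_preimage_coe, Set.univ_inter] at this
  obtain ⟨N, U, hUo, hUc, hU0, hUN, hUle, hUk⟩ := EtTorLib.exists_chain E hc' hu
  let O : Fin (N + 1) → X.Opens := fun i => ⟨U i, hUo i⟩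
  choose ι hι using fun k : Fin N => EtTorLib.exists_openPartMap (F := F) (O := O k.castSucc) (O' := O k.succ) (hUle k)
  have key : ∀ k : Fin N, ∃ (T : Scheme.{u}) (g : T ⟶ X), IsImmersion g ∧
      Set.range g.base = U k.succ ∩ (U k.castSucc)ᶜ ∧
      EtCoh.IsFiniteLocallyConstant ((EtCoh.pull g).obj F) := fun k => by
    have hlc : IsLocallyClosed (U k.succ ∩ (U k.castSucc)ᶜ) := ⟨_, _, hUo _, (hUo _).isClosed_compl, rfl⟩
    rcases (U k.succ ∩ (U k.castSucc)ᶜ).eq_empty_or_nonempty with h | h
    · rcases isEmpty_or_nonempty X with hX | ⟨⟨x⟩⟩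
      · obtain ⟨T, g, hg, hr⟩ := EtFound.exists_immersion_range hlc
        exact ⟨T, g, hg, hr, (EtFound.isFiniteLocallyConstant_iff _).2 fun t => isEmptyElim (g.base t)⟩
      · obtain ⟨j, hj⟩ := Set.mem_iUnion.1 (hu.ge (Set.mem_univ x))
        exact (hE j).mono (h ▸ Set.empty_subset _) hlc
    · obtain ⟨j, hj⟩ := hUk k h
      exact (hE j).mono hj hlc
  choose T g hg hgr hgT using key
  have step : ∀ k : Fin N, ∃ (c : T k ⟶ (O k.succ).toScheme) (_ : IsClosedImmersion c) (G : EtCoh.Ab (T k))
      (π : EtTorLib.openPart F (O k.succ) ⟶ (EtShriek.extZero (O k.succ).ι).obj ((EtCoh.push c).obj G))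
      (hz : ι k ≫ π = 0), c ≫ (O k.succ).ι = g k ∧ EtCoh.IsFiniteLocallyConstant G ∧
        (ShortComplex.mk (ι k) π hz).ShortExact := fun k => by
    haveI := hg k
    exact EtTorLib.exists_step (hUle k) (g k) (hgr k) (hgT k) (ι k) (hι k)
  refine ⟨N, fun i => EtTorLib.openPart F (O i), ι,
    EtTorLib.isZero_openPart fun x (hx : x ∈ U 0) => by rw [hU0] at hx; exact hx,
    EtTorLib.nonempty_iso_openPart fun x => show x ∈ U (Fin.last N) by rw [hUN]; trivial, fun k => ?_⟩
  obtain ⟨c, hcl, G, π, hz, hcg, hG, hS⟩ := step k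
  refine ⟨_, T k, (O k.succ).ι, inferInstance, c, hcl, G, π, hz, ?_, hG, hS⟩
  rw [hcg]
  exact (hgr k).symm ▸ (hUc _).inter (hUc _).compl

end Groth.Agent.S8561
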