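import Groth.Statements.S8567
import Groth.Agent.SoftTop.Extend

set_option autoImplicit false
open CategoryTheory TopologicalSpace Opposite
universe u
open CohTop

namespace Groth.Agent.S8567

/-- Let X be a topological space, K ⊆ X a compact subset such that any two distinct points of K have
disjoint neighbourhoods in X, and F a flasque abelian sheaf on X. Then the inverse image F|K of F on
the subspace K is a soft sheaf: for every closed subset A of K, every section of (F|K)|A over A is
the restriction of a section of F|K over K (the restriction map is the unit of the inverse image /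
direct image adjunction for the inclusion A → K, taken on global sections). -/
theorem result {X : TopCat.{u}} {K : Set X} (hK : IsCompact K)
    (hsep : ∀ x ∈ K, ∀ y ∈ K, x ≠ y → ∃ U V : Set X, IsOpen U ∧ IsOpen V ∧ x ∈ U ∧ y ∈ V ∧ Disjoint U V)
    (F : CohTop.Ab X) [TopCat.Sheaf.IsFlasque F] {A : Set K} (hA : IsClosed A) :
    Function.Surjective
      ((((TopCat.Sheaf.pullbackPushforwardAdjunction AddCommGrpCat.{u}
        (TopCat.ofHom ⟨((↑) : A → K), continuous_subtype_val⟩ : TopCat.of A ⟶ TopCat.of K)).unit.app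
        ((CohTop.pull (TopCat.ofHom ⟨((↑) : K → X), continuous_subtype_val⟩ : TopCat.of K ⟶ X)).obj F)).hom.app
        (op ⊤)).hom) := by
  let k : TopCat.of K ⟶ X := TopCat.ofHom ⟨((↑) : K → X), continuous_subtype_val⟩
  let j : TopCat.of A ⟶ TopCat.of K := TopCat.ofHom ⟨((↑) : A → K), continuous_subtype_val⟩
  let G := (CohTop.pull k).obj F
  let H := (CohTop.pull j).obj G
  let D := SoftTop.pullData k F
  let E := SoftTop.pullData j G
  haveI : CompactSpace K := isCompact_iff_compactSpace.mp hK
  haveI : CompactSpace A := isCompact_iff_compactSpace.mp hA.isCompact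
  intro (t : H.obj.obj (op ⊤))
  have hK' : ∀ x y : K, x ≠ y → ∃ U V : Set X, IsOpen U ∧ IsOpen V ∧ (x : X) ∈ U ∧ (y : X) ∈ V ∧ Disjoint U V :=
    fun x y h => hsep x x.2 y y.2 (fun e => h (Subtype.ext e))
  obtain ⟨W, T, hT⟩ := E.exists_extend (U := ⊤) Topology.IsEmbedding.subtypeVal (A := Set.univ) isCompact_univ
    (fun x _ y _ h => by
      obtain ⟨U, V, hU, hV, hx, hy, hd⟩ := hK' x.1 y.1 (fun e => h (Subtype.ext e))
      exact ⟨Subtype.val ⁻¹' U, Subtype.val ⁻¹' V, hU.preimage continuous_subtype_val,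
        hV.preimage continuous_subtype_val, hx, hy, hd.preimage _⟩)
    (Set.subset_univ _) t
  obtain ⟨W', S, hS⟩ := D.exists_extend (U := W) Topology.IsEmbedding.subtypeVal (A := A) hA.isCompact
    (fun x _ y _ h => hK' x y h) (fun a ha => (hT ⟨a, ha⟩ trivial).choose) T
  obtain ⟨S', hS'⟩ := (AddCommGrpCat.epi_iff_surjective _).1
    (TopCat.Presheaf.IsFlasque.epi (F := F.obj) (homOfLE (le_top : W' ≤ ⊤)).op) S
  let g : G.obj.obj (op ⊤) := D.η.app (op ⊤) S'
  refine ⟨g, TopCat.Presheaf.section_ext H ⊤ _ _ fun a _ => ?_⟩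
  obtain ⟨hW, e⟩ := hT a trivial
  obtain ⟨hW', e'⟩ := hS a.1 a.2
  have e₁ : TopCat.Presheaf.germ F.obj ⊤ (k a.1) trivial S' = TopCat.Presheaf.germ F.obj W' (k a.1) hW' S := by
    rw [← hS']
    exact (TopCat.Presheaf.germ_res_apply F.obj (homOfLE le_top) _ hW' S').symm
  have e₂ : TopCat.Presheaf.germ G.obj ⊤ a.1 trivial g = TopCat.Presheaf.germ G.obj W a.1 hW T :=
    (D.germ_map (U := ⊤) a.1 trivial hW' S' S e₁).trans e'
  exact (E.germ_map (U := ⊤) a trivial hW g T e₂).trans e

end Groth.Agent.S8567
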