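import Groth.Statements.S8570
import Groth.Agent.DescSS.TopDescent
import Groth.Agent.DescTop.CechProper
import Groth.Agent.SoftTop.DisjointH

set_option autoImplicit false
open CategoryTheory TopologicalSpace
universe u
open CohTop

namespace Groth.Agent.S8570

open Topology in
/-- The cohomology of a fibre power of the disjoint union of a family of subsets. -/
theorem cechLevelIso {X : TopCat.{u}} {I : Type u} (U : I → Set X) (F : CohTop.Ab X)
    (f : TopCat.of (Σ i, (U i : Set X)) ⟶ X) (hf : ∀ p, f p = (p.2 : X)) (n q : ℕ) :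
    Nonempty (CohTop.H ((CohTop.pull (Limits.WidePullback.base (fun _ : Fin (n + 1) => f) :
        Limits.widePullback X (fun _ : Fin (n + 1) => TopCat.of (Σ i, (U i : Set X))) (fun _ => f) ⟶ X)).obj F) q ≃+
      ∀ σ : Fin (n + 1) → I,
        CohTop.H ((CohTop.pull (TopCat.ofHom ⟨((↑) : (⋂ k, U (σ k) : Set X) → X), continuous_subtype_val⟩ :
          TopCat.of (⋂ k, U (σ k) : Set X) ⟶ X)).obj F) q) := by
  classical
  let B : Limits.widePullback X (fun _ : Fin (n + 1) => TopCat.of (Σ i, (U i : Set X))) (fun _ => f) ⟶ X :=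
    Limits.WidePullback.base (fun _ : Fin (n + 1) => f)
  let π := fun k => Limits.WidePullback.π (fun _ : Fin (n + 1) => f) k
  let inc := fun σ : Fin (n + 1) → I => (TopCat.ofHom ⟨((↑) : (⋂ k, U (σ k) : Set X) → X), continuous_subtype_val⟩ :
          TopCat.of (⋂ k, U (σ k) : Set X) ⟶ X)
  let cmp : ∀ (σ : Fin (n + 1) → I) (k : Fin (n + 1)),
      TopCat.of (⋂ k, U (σ k) : Set X) ⟶ TopCat.of (Σ i, (U i : Set X)) := fun σ k =>
    TopCat.ofHom ⟨fun y => ⟨σ k, ⟨y.1, Set.mem_iInter.1 y.2 k⟩⟩,
      continuous_sigmaMk.comp (continuous_subtype_val.subtype_mk _)⟩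
  let j := fun σ => Limits.WidePullback.lift (inc σ) (fun k => cmp σ k)
    (fun k => ConcreteCategory.hom_ext _ _ fun y => hf _)
  have hjB : ∀ σ, j σ ≫ B = inc σ := fun σ => Limits.WidePullback.lift_base _ _ _ _
  have hjπ : ∀ σ k y, π k (j σ y) = ⟨σ k, ⟨y.1, Set.mem_iInter.1 y.2 k⟩⟩ := fun σ k y => by
    show (j σ ≫ π k) y = _
    rw [Limits.WidePullback.lift_π]
    rfl
  have hπB : ∀ k P, ((π k P).2 : X) = B P := fun k P => by
    rw [← hf]
    show (π k ≫ f) P = _
    rw [Limits.WidePullback.π_arrow]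
  have hrange : ∀ σ, Set.range (j σ) = {P | ∀ k, (π k P).1 = σ k} := fun σ => by
    ext P
    constructor
    · rintro ⟨y, rfl⟩ k
      rw [hjπ]
    · intro hP
      have hmem : B P ∈ ⋂ k, U (σ k) := Set.mem_iInter.2 fun k => by
        rw [← hπB k, ← hP k]
        exact (π k P).2.2
      refine ⟨⟨B P, hmem⟩, ?_⟩
      refine Limits.Concrete.widePullback_ext (fun _ : Fin (n + 1) => f) _ _ ?_ fun k => ?_
      · show (j σ ≫ B) _ = B P
        rw [hjB]
        rfl
      · show π k _ = π k P
        rw [hjπ]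
        have h1 := hP k
        have h2 := hπB k P
        revert h1 h2
        generalize π k P = w
        obtain ⟨i, z⟩ := w
        rintro (rfl : i = σ k) h2
        exact congrArg _ (Subtype.ext h2.symm)
  have hopen : ∀ σ, IsOpen (Set.range (j σ)) := fun σ => by
    rw [hrange]
    simp only [Set.setOf_forall]
    refine isOpen_iInter_of_finite fun k => ?_
    have : IsOpen ((π k) ⁻¹' (Sigma.fst ⁻¹' {σ k})) := by
      refine IsOpen.preimage (π k).hom.continuous (isOpen_sigma_iff.2 fun i => ?_)
      by_cases hi : i = σ k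
      · convert isOpen_univ
        ext; simp [hi]
      · convert isOpen_empty
        ext; simp [hi]
    exact this
  have hj : ∀ σ, IsOpenEmbedding (j σ) := fun σ => by
    refine ⟨IsEmbedding.of_comp (j σ).hom.continuous B.hom.continuous ?_, hopen σ⟩
    have : (B : _ → X) ∘ (j σ) = inc σ := funext fun y => by
      show (j σ ≫ B) y = _
      rw [hjB]
    rw [this]
    exact IsEmbedding.subtypeVal
  obtain ⟨e⟩ := SoftTop.nonempty_H_addEquiv_pi_pull j hj (fun σ τ hστ => by
      show Disjoint (Set.range (j σ)) (Set.range (j τ))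
      refine Set.disjoint_left.2 fun P hP hP' => hστ (funext fun k => ?_)
      rw [hrange] at hP hP'
      exact (hP k).symm.trans (hP' k))
    (Set.eq_univ_of_forall fun P => Set.mem_iUnion.2 ⟨fun k => (π k P).1, by rw [hrange]; exact fun k => rfl⟩)
    ((CohTop.pull B).obj F) q
  exact ⟨e.trans (AddEquiv.piCongrRight fun σ =>
    ((Sheaf.functorH _ q).mapIso ((SoftTop.pullCompTop (j σ) B).app F ≪≫ eqToIso (by rw [hjB]))).addCommGroupIsoToAddEquiv)⟩


/-- Let (U_i), i in I, be a locally finite covering of a topological space X by closed subsets and F an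
abelian sheaf on X. The disjoint union of the U_i is then of cohomological descent over X, and the
descent spectral sequence reads, in existence form: there is a bounded spectral sequence of abelian
groups starting at page one, with E_1^{p,q} isomorphic for p, q ≥ 0 to the product, over all ordered
(p+1)-tuples of indices (i_0, ..., i_p), of the groups H^q(U_{i_0} ∩ ... ∩ U_{i_p}, F|(U_{i_0} ∩ ...
∩ U_{i_p})) (inverse image of F on the closed subspace) and zero otherwise, together with abutment
data whose filtrations are finite on H^n(X, F) for n ≥ 0 (zero for n < 0). (The E_1 identifications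
and the abutment isomorphisms are asserted to exist only; the first differential, which is the
alternating sum of the restriction maps, is not part of this statement.) -/
theorem result {X : TopCat.{u}} {I : Type u} (U : I → Set X)
    (hU : ∀ i, IsClosed (U i)) (hlf : LocallyFinite U) (hcov : ⋃ i, U i = Set.univ) (F : CohTop.Ab X) :
    ∃ (E : CohomologicalSpectralSequence AddCommGrpCat.{u} 1)
      (a : SpSeq.Abutment E (fun n : ℤ =>
        if 0 ≤ n then AddCommGrpCat.of (CohTop.H F n.toNat) else AddCommGrpCat.of PUnit.{u + 1})),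
      (∀ n, a.IsFinite n) ∧ SpSeq.IsBounded E ∧
      ∀ p q : ℤ, Nonempty ((E.page 1 le_rfl).X (p, q) ≅
        (if 0 ≤ p ∧ 0 ≤ q then
          AddCommGrpCat.of (∀ σ : Fin (p.toNat + 1) → I,
            CohTop.H ((CohTop.pull (TopCat.ofHom ⟨((↑) : (⋂ k, U (σ k) : Set X) → X), continuous_subtype_val⟩ :
              TopCat.of (⋂ k, U (σ k) : Set X) ⟶ X)).obj F) q.toNat)
         else AddCommGrpCat.of PUnit.{u + 1})) := by
  classical
  let X' : TopCat.{u} := TopCat.of (Σ i, (U i : Set X))
  let f : X' ⟶ X := TopCat.ofHom ⟨fun p => (p.2 : X), continuous_sigma fun i => continuous_subtype_val⟩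
  have hfp : IsProperMap f := by
    refine isProperMap_iff_isClosedMap_and_compact_fibers.2 ⟨f.hom.continuous, fun C hC => ?_, fun x => ?_⟩
    · have : f '' C = ⋃ i, Subtype.val '' ((fun y : (U i : Set X) => (⟨i, y⟩ : X')) ⁻¹' C) := by
        ext x
        simp only [Set.mem_image, Set.mem_iUnion, Set.mem_preimage]
        constructor
        · rintro ⟨⟨i, y⟩, hy, rfl⟩
          exact ⟨i, y, hy, rfl⟩
        · rintro ⟨i, y, hy, rfl⟩
          exact ⟨⟨i, y⟩, hy, rfl⟩
      rw [this]
      refine LocallyFinite.isClosed_iUnion (hlf.subset fun i => ?_) fun i =>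
        (hU i).isClosedMap_subtype_val _ (isClosed_sigma_iff.1 hC i)
      rintro _ ⟨y, -, rfl⟩
      exact y.2
    · refine Set.Finite.isCompact ?_
      refine Set.Finite.of_finite_image (f := Sigma.fst) ((hlf.point_finite x).subset ?_) ?_
      · rintro _ ⟨⟨i, y⟩, hy, rfl⟩
        have : (y : X) = x := hy
        show x ∈ U i
        exact this ▸ y.2
      · rintro ⟨i, y⟩ hy ⟨j, z⟩ hz (rfl : i = j)
        exact congrArg _ (Subtype.ext ((show (y : X) = x from hy).trans (show (z : X) = x from hz).symm))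
  have hs : ∀ x x' : X', f x = f x' → x ≠ x' → ∃ A B : Set X', IsOpen A ∧ IsOpen B ∧ x ∈ A ∧ x' ∈ B ∧ Disjoint A B := by
    rintro ⟨i, y⟩ ⟨j, z⟩ he hne
    have hij : i ≠ j := by
      rintro rfl
      exact hne (congrArg _ (Subtype.ext he))
    refine ⟨Set.range (Sigma.mk i), Set.range (Sigma.mk j), isOpen_range_sigmaMk, isOpen_range_sigmaMk,
      Set.mem_range_self y, Set.mem_range_self z, Set.disjoint_left.2 ?_⟩
    rintro _ ⟨a, rfl⟩ ⟨b, hb⟩
    exact hij (congrArg Sigma.fst hb).symm
  have hsurj : Function.Surjective f := fun x => by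
    obtain ⟨i, hi⟩ := Set.mem_iUnion.1 (hcov.ge (Set.mem_univ x))
    exact ⟨⟨i, ⟨x, hi⟩⟩, rfl⟩
  obtain ⟨E, a, ha, hb, hE⟩ := DescSS.TopDescent.exists_spectralSequence (FibDesc.cechAug f)
    (DescTop.isCohDescentMap_of_proper f hfp hs hsurj) F
  refine ⟨E, a, ha, hb, fun p q => ?_⟩
  obtain ⟨e⟩ := hE p q
  refine ⟨e ≪≫ ?_⟩
  by_cases hpq : 0 ≤ p ∧ 0 ≤ q
  · refine eqToIso (if_pos hpq) ≪≫ ?_ ≪≫ eqToIso (if_pos hpq).symm
    exact (cechLevelIso U F f (fun _ => rfl) p.toNat q.toNat).some.toAddCommGrpIso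
  · exact eqToIso ((if_neg hpq).trans (if_neg hpq).symm)

end Groth.Agent.S8570
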