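import Groth.Statements.S8576
import Groth.Agent.DescBig.Refine
import Groth.Agent.UnivOpenSec.LocNoeth
import Groth.Agent.EtFound.IntegralProps

set_option autoImplicit false
open CategoryTheory CategoryTheory.Limits AlgebraicGeometry
universe u
open EtDesc

namespace Groth.Agent.S8576

set_option backward.isDefEq.respectTransparency false
set_option backward.isDefEq.respectTransparency.types false


/-- Let Y be a locally Noetherian scheme, f : X → Y a surjective morphism which is universally open and
locally of finite presentation, and F any abelian sheaf on the small etale site of Y. Then f is of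
cohomological descent for F, and the descent spectral sequence reads, in existence form: there is a
bounded spectral sequence of abelian groups starting at page one with E_1^{p,q} isomorphic, for p, q
≥ 0, to the etale cohomology group H^q(X_p, F|X_p), where X_p is the (p+1)-fold fibre product of X
over Y and F|X_p the inverse image of F along its projection to Y, and zero otherwise, together with
abutment data whose filtrations are finite on H^n(Y_et, F) for n ≥ 0 (zero for n < 0). (The E_1
identifications and the abutment isomorphisms are asserted to exist only; the differentials are not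
part of this statement.) -/
theorem result {X Y : Scheme.{u}} [IsLocallyNoetherian Y] (f : X ⟶ Y)
    [UniversallyOpen f] [LocallyOfFinitePresentation f] [Surjective f] (F : EtCoh.Ab Y) :
    ∃ (E : CohomologicalSpectralSequence AddCommGrpCat.{u + 1} 1)
      (a : SpSeq.Abutment E (fun n : ℤ =>
        if 0 ≤ n then AddCommGrpCat.of (EtCoh.H Y F n.toNat) else AddCommGrpCat.of PUnit.{u + 2})),
      (∀ n, a.IsFinite n) ∧ SpSeq.IsBounded E ∧
      ∀ p q : ℤ, Nonempty ((E.page 1 le_rfl).X (p, q) ≅
        (if 0 ≤ p ∧ 0 ≤ q then
          AddCommGrpCat.of (EtCoh.H (widePullback Y (fun _ : Fin (p.toNat + 1) => X) (fun _ => f))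
            ((EtCoh.pull (WidePullback.base (fun _ : Fin (p.toNat + 1) => f) :
              widePullback Y (fun _ : Fin (p.toNat + 1) => X) (fun _ => f) ⟶ Y)).obj F) q.toNat)
         else AddCommGrpCat.of PUnit.{u + 2})) := by
  classical
  obtain ⟨Z, ν, hν, hsurj, hsec⟩ := UnivOpenSec.exists_integral_local_sections' f
  choose V hV s hs using hsec
  let e : (∐ fun z : Z => (V z : Scheme.{u})) ⟶ Z := Sigma.desc fun z => (V z).ι
  haveI : Etale e := Groth.Agent.EtFound.etale_sigmaDesc _
  haveI : Surjective e := ⟨fun z => ⟨Sigma.ι (fun z : Z => (V z : Scheme.{u})) z ⟨z, hV z⟩, by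
    rw [← Scheme.Hom.comp_apply, Sigma.ι_desc]
    rfl⟩⟩
  have hmem : Presieve.singleton e ∈ Scheme.etalePrecoverage Z := by
    exact (Scheme.singleton_mem_precoverage_iff (P := @Etale) e).2 ⟨e.surjective, inferInstance⟩
  refine DescBig.exists_spectralSequence_of_bijective_pre f F fun n =>
    DescBig.bijective_pre_of_refinement f ν e (Precoverage.generate_mem_toGrothendieck hmem)
      (Sigma.desc s) (Sigma.hom_ext _ _ fun z => ?_) F n
  simp only [e, Sigma.ι_desc_assoc]
  exact hs z

end Groth.Agent.S8576
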