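import Groth.Statements.S8600
import Groth.Agent.ShriekLib.BC.Colim
-- import your own Groth.Agent.* helpers here

set_option autoImplicit false
universe u
open CategoryTheory CategoryTheory.Limits AlgebraicGeometry Opposite
open EtDl

set_option linter.style.haveILetI false
set_option backward.isDefEq.respectTransparency false
set_option backward.isDefEq.respectTransparency.types false

namespace Groth.Agent.S8600

/-- Let f : X -> S be separated and locally of finite type. Then the functor f_! (sections of f_* with
proper support over the base) on abelian etale sheaves is left exact — it preserves finite limits —
and commutes with filtered colimits (indexed by small filtered categories). -/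
theorem result {X S : Scheme.{u}} (f : X ⟶ S) [IsSeparated f]
    [LocallyOfFiniteType f] :
    PreservesFiniteLimits (EtShriek.lowerShriek f) ∧
      PreservesFilteredColimitsOfSize.{u, u} (EtShriek.lowerShriek f) := by
  haveI := ShriekLib.shriekSh_preservesFiniteLimits f
  haveI := ShriekLib.BC.preservesFilteredColimits_shriekSh f
  refine ⟨preservesFiniteLimits_of_natIso (ShriekLib.shriekShIso f), ⟨fun J _ _ => ?_⟩⟩
  exact preservesColimitsOfShape_of_natIso (ShriekLib.shriekShIso f)

end Groth.Agent.S8600
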