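import Groth.Statements.S8610
import Groth.Agent.EtPBCq.ProperBC
import Groth.Agent.S0156
import Groth.Agent.S8525
import Groth.Agent.EtFound.AbRecollement
import Groth.Agent.EtPBC0.BaseChangeAb
import Groth.Agent.EtBCQ.Vcomp
import Groth.Agent.EtTorLib.ClosedQuot
import Groth.Agent.EtLC12.AffineLocalAcyclic

set_option autoImplicit false
universe u
open CategoryTheory CategoryTheory.Limits AlgebraicGeometry
open SGA4h

set_option backward.isDefEq.respectTransparency false
set_option backward.isDefEq.respectTransparency.types false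
set_option maxHeartbeats 2000000

namespace Groth.Agent.S8610

/-- Let j₁ : X → P₁ and j₂ : X → P₂ be open immersions of quasi-compact quasi-separated schemes and p :
P₂ → P₁ a proper morphism with p ∘ j₂ = j₁ such that the square is cartesian (X = P₂ ×_{P₁} X, i.e.
p⁻¹(j₁ X) = j₂ X). For every torsion abelian etale sheaf F on X, p_*(j₂! F) is isomorphic to j₁! F
(existence of an isomorphism only) and R^q p_*(j₂! F) = 0 for q > 0. (The published statement is for
two compactifications of X compared by p; its argument uses that p is an isomorphism above X, which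
is the cartesian hypothesis made explicit here.) -/
theorem result {X P₁ P₂ : Scheme.{u}}
    [CompactSpace ↥P₁] [QuasiSeparatedSpace ↥P₁] [CompactSpace ↥P₂] [QuasiSeparatedSpace ↥P₂]
    [CompactSpace ↥X]
    (j₁ : X ⟶ P₁) (j₂ : X ⟶ P₂) [IsOpenImmersion j₁] [IsOpenImmersion j₂] (p : P₂ ⟶ P₁) [IsProper p]
    (hsq : IsPullback (𝟙 X) j₂ j₁ p) (F : EtCoh.Ab X) (hF : EtCoh.IsTorsion F) :
    Nonempty ((EtCoh.push p).obj ((EtShriek.extZero j₂).obj F) ≅ (EtShriek.extZero j₁).obj F) ∧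
      ∀ q : ℕ, 0 < q → IsZero ((EtCoh.Rpush p q).obj ((EtShriek.extZero j₂).obj F)) := by
  haveI := Groth.Agent.EtFound.jCont j₁
  haveI := Groth.Agent.EtFound.jCont j₂
  haveI : QuasiCompact j₂ := QuasiCompact.of_comp j₂ (terminal.from P₂)
  let G := (EtShriek.extZero j₂).obj F
  have sq : IsPullback j₂ (𝟙 X) p j₁ := hsq.flip
  haveI := Groth.Agent.EtFound.pull_preservesFiniteLimits j₂
  -- the fibres over points outside the open are empty of support
  have hout : ∀ (Ω : Type u) [Field Ω] [IsSepClosed Ω] (ξ : Spec (CommRingCat.of Ω) ⟶ P₁),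
      ξ.base (default : Spec (CommRingCat.of Ω)) ∉ Set.range j₁.base →
        IsZero ((EtCoh.pull (pullback.fst p ξ)).obj G) := fun Ω _ _ ξ hξ => by
    refine (Groth.Agent.EtFound.isZero_iff_stalks _).2 fun L _ _ ζ => ?_
    refine (Groth.Agent.EtFound.isZero_stalk_extZero j₂ (ζ ≫ pullback.fst p ξ) ?_ F).of_iso
      ((Groth.Agent.EtFound.stalkPullIso (pullback.fst p ξ) ζ).app G)
    rintro ⟨x, hx⟩
    refine hξ ⟨x, ?_⟩
    have e1 : j₂ ≫ p = j₁ := sq.w.trans (Category.id_comp _)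
    calc j₁.base x = p.base (j₂.base x) := by rw [← e1]; exact Scheme.Hom.comp_apply _ _ _
      _ = p.base ((pullback.fst p ξ).base (ζ.base default)) := congrArg p.base (hx.trans (Scheme.Hom.comp_apply _ _ _))
      _ = ξ.base ((pullback.snd p ξ).base (ζ.base default)) := by
          rw [← Scheme.Hom.comp_apply, pullback.condition, Scheme.Hom.comp_apply]
      _ = ξ.base default := congrArg ξ.base (Subsingleton.elim _ _)
  let eid : EtCoh.push (𝟙 X) ≅ 𝟭 _ :=
    ((EtCoh.pullPushAdj (𝟙 X)).ofNatIsoLeft (Groth.Agent.EtBCQ.pullId X).symm).rightAdjointUniq Adjunction.id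
  let rj₁ := Groth.Agent.EtLC12.AffineLocalAcyclic.restrIsoPull j₁
  let rj₂ := Groth.Agent.EtLC12.AffineLocalAcyclic.restrIsoPull j₂
  haveI : IsIso ((EtShriek.extZeroAdj j₂).unit.app F) := (Groth.Agent.EtFound.isIso_iff_stalks _).2
    fun L _ _ ζ => Groth.Agent.EtFound.isIso_stalk_unit j₂ F ζ
  let back : (EtCoh.pull j₂).obj G ≅ F := (rj₂.app G).symm ≪≫ (asIso ((EtShriek.extZeroAdj j₂).unit.app F)).symm
  have hG : EtCoh.IsTorsion G := by
    have hL : EtAcyc.IsLTorsion Set.univ G := (Groth.Agent.S8525.result _ G).2 fun Ω _ _ ξ t => by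
      by_cases hξ : ξ.base (default : Spec (CommRingCat.of Ω)) ∈ Set.range j₂.base
      · obtain ⟨z, rfl⟩ : ∃ z : Spec (CommRingCat.of Ω) ⟶ X, z ≫ j₂ = ξ :=
          ⟨IsOpenImmersion.lift j₂ ξ (by
            rintro _ ⟨t, rfl⟩
            rw [Subsingleton.elim t default]
            exact hξ), IsOpenImmersion.lift_fac _ _ _⟩
        let e := ((Groth.Agent.EtFound.stalkPullIso j₂ z).app G).symm ≪≫ (EtCoh.stalk z).mapIso back
        obtain ⟨m, hm, hm0⟩ := (Groth.Agent.S8525.result _ F).1 (Groth.Agent.EtPBCq.isLTorsion_univ hF) Ω z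
          (e.addCommGroupIsoToAddEquiv t)
        exact ⟨m, hm, e.addCommGroupIsoToAddEquiv.injective (by rw [map_nsmul, hm0, map_zero])⟩
      · haveI := AddCommGrpCat.subsingleton_of_isZero (Groth.Agent.EtFound.isZero_stalk_extZero j₂ ξ hξ F)
        exact ⟨1, ⟨one_pos, fun p _ _ => Set.mem_univ p⟩, @Subsingleton.elim ((EtCoh.stalk ξ).obj G) _ _ _⟩
    intro U s x
    obtain ⟨V, g, m, hv, hm, hms⟩ := hL U s x
    exact ⟨V, g, hv, isOfFinAddOrder_iff_nsmul_eq_zero.2 ⟨m, hm.1, hms⟩⟩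
  haveI : ∀ q, IsIso (EtBC.bcQ p j₁ (𝟙 X) j₂ sq.w q G) := fun q =>
    Groth.Agent.EtPBCq.isIso_bcQ_proper p j₁ (𝟙 X) j₂ sq G hG q
  refine ⟨?_, fun q hq => ?_⟩
  · haveI := Groth.Agent.EtPBC0.isIso_baseChange0 p j₁ (𝟙 X) j₂ sq G
    have hzero : ∀ (Ω : Type u) [Field Ω] [IsSepClosed Ω] (ξ : Spec (CommRingCat.of Ω) ⟶ P₁),
        ξ.base (default : Spec (CommRingCat.of Ω)) ∉ Set.range j₁.base →
          IsZero ((EtCoh.stalk ξ).obj ((EtCoh.push p).obj G)) := fun Ω _ _ ξ hξ => by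
      obtain ⟨e⟩ := Groth.Agent.EtPBC0.nonempty_stalkIso p ξ G
      exact (((sheafToPresheaf _ _ ⋙ (evaluation _ _).obj (Opposite.op (EtCoh.top (pullback p ξ)))).map_isZero
        (hout Ω ξ hξ))).of_iso e
    haveI := Groth.Agent.EtFound.extZero_iso_of_outside j₁ ((EtCoh.push p).obj G) hzero
    exact ⟨(asIso ((EtShriek.extZeroAdj j₁).counit.app ((EtCoh.push p).obj G))).symm ≪≫
      (EtShriek.extZero j₁).mapIso (rj₁.app _ ≪≫ asIso (EtCoh.baseChange0 p j₁ (𝟙 X) j₂ sq.w G) ≪≫ eid.app _ ≪≫ back)⟩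
  · refine (Groth.Agent.EtFound.isZero_iff_stalks _).2 fun Ω _ _ ξ => ?_
    by_cases hξ : ξ.base (default : Spec (CommRingCat.of Ω)) ∈ Set.range j₁.base
    · have h0 : IsZero ((EtCoh.pull j₁).obj ((EtCoh.Rpush p q).obj G)) :=
        (Groth.Agent.EtTorLib.isZero_Rpush_closedImmersion (𝟙 X) _ q hq).of_iso
          (asIso (EtBC.bcQ p j₁ (𝟙 X) j₂ sq.w q G))
      let z : Spec (CommRingCat.of Ω) ⟶ X := IsOpenImmersion.lift j₁ ξ (by
        rintro _ ⟨t, rfl⟩
        rw [Subsingleton.elim t default]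
        exact hξ)
      have hz : z ≫ j₁ = ξ := IsOpenImmersion.lift_fac _ _ _
      rw [← hz]
      exact ((EtCoh.stalk z).map_isZero h0).of_iso ((Groth.Agent.EtFound.stalkPullIso j₁ z).app _).symm
    · haveI := Groth.Agent.EtFound.pull_preservesFiniteLimits (pullback.fst p ξ)
      obtain ⟨e⟩ := Groth.Agent.S0156.result p ξ G hG q
      have hs : Subsingleton ((EtCoh.HF (pullback p ξ) q).obj ((EtCoh.pull (pullback.fst p ξ)).obj G)) :=
        AddCommGrpCat.subsingleton_of_isZero ((EtCoh.HF (pullback p ξ) q).map_isZero (hout Ω ξ hξ))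
      exact (@AddCommGrpCat.isZero_of_subsingleton (AddCommGrpCat.of (EtCoh.H (pullback p ξ) _ q)) hs).of_iso e

end Groth.Agent.S8610
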