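import Groth.Statements.S8657
import Groth.Agent.S8656
import Groth.Agent.RegImmLib.Basic

set_option autoImplicit false
universe u
open CategoryTheory CategoryTheory.Limits AlgebraicGeometry
open Synt

namespace Groth.Agent.S8657

/-- Let i : X ⟶ V and j : X ⟶ V' be immersions and p : V' ⟶ V a smooth morphism with j ≫ p = i. Then i
is a Koszul-regular immersion if and only if j is. -/
theorem result {X V V' : Scheme.{u}} (i : X ⟶ V) [IsImmersion i] (j : X ⟶ V') [IsImmersion j]
    (p : V' ⟶ V) [Smooth p] (h : j ≫ p = i) :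
    RegImm.IsRegularImmersion .koszul i ↔ RegImm.IsRegularImmersion .koszul j := by
  constructor
  · intro hi
    refine S8656.result i (fun x => ?_) p j h
    refine ⟨⊤, V, (⊤ : X.Opens).ι ≫ i, 𝟙 V, trivial, inferInstance, ?_, inferInstance, Category.comp_id _⟩
    haveI : IsIso ((⊤ : X.Opens).ι) := inferInstanceAs (IsIso (Scheme.topIso X).hom)
    exact Groth.Agent.RegImmLib.isRegularImmersion_baseChange
      (g := 𝟙 V) (g' := (⊤ : X.Opens).ι) (IsPullback.of_horiz_isIso ⟨(Category.comp_id _).symm⟩) hi
  · intro hj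
    refine S8656.result i (fun x => ?_) (𝟙 V) i (Category.comp_id _)
    refine ⟨⊤, V', (⊤ : X.Opens).ι ≫ j, p, trivial, inferInstance, ?_, inferInstance, by rw [Category.assoc, h]⟩
    haveI : IsIso ((⊤ : X.Opens).ι) := inferInstanceAs (IsIso (Scheme.topIso X).hom)
    exact Groth.Agent.RegImmLib.isRegularImmersion_baseChange
      (g := 𝟙 V') (g' := (⊤ : X.Opens).ι) (IsPullback.of_horiz_isIso ⟨(Category.comp_id _).symm⟩) hj

end Groth.Agent.S8657
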