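import Groth.Statements.S8668
import Groth.Agent.H1VRD.Class

set_option autoImplicit false
universe u
open CategoryTheory CategoryTheory.Limits AlgebraicGeometry
attribute [local instance] HasDerivedCategory.standard
open Synt

namespace Groth.Agent.S8668

/-- Let f : X ⟶ Y be a local complete intersection morphism in the factorisation sense (around each
point, locally of finite type and factoring as a Koszul-regular immersion followed by a smooth
morphism), and let f = i ≫ g = i' ≫ g' be two factorisations with g : V ⟶ Y and g' : V' ⟶ Y smooth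
and i, i' closed immersions. Let d : O_V → Ω and d' : O_{V'} → Ω' be universal Y-derivations
(sheaves of relative differentials of V and V' over Y). Then i^*Ω, i'^*Ω' and the conormal sheaves
N_i, N_{i'} are finite locally free, and in K₀ of finite locally free O_X-modules one has [i^*Ω] −
[N_i] = [i'^*Ω'] − [N_{i'}]: the virtual cotangent class of f does not depend on the factorisation. -/
theorem result {X Y V V' : Scheme.{u}} (f : X ⟶ Y) (hf : ∀ x : X, Synt.IsKoszulAt f x)
    (g : V ⟶ Y) [Smooth g] (i : X ⟶ V) [IsClosedImmersion i] (hi : i ≫ g = f)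
    (g' : V' ⟶ Y) [Smooth g'] (i' : X ⟶ V') [IsClosedImmersion i'] (hi' : i' ≫ g' = f)
    (Ω : V.Modules) (d : OmegaSh.Der g Ω) (hd : OmegaSh.IsUniversal d)
    (Ω' : V'.Modules) (d' : OmegaSh.Der g' Ω') (hd' : OmegaSh.IsUniversal d') :
    FlatMod.IsFinLocFree ((Scheme.Modules.pullback i).obj Ω) ∧ FlatMod.IsFinLocFree (Omega.conormal i) ∧
    FlatMod.IsFinLocFree ((Scheme.Modules.pullback i').obj Ω') ∧ FlatMod.IsFinLocFree (Omega.conormal i') ∧
    KRR.cl X ((Scheme.Modules.pullback i).obj Ω) - KRR.cl X (Omega.conormal i) =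
      KRR.cl X ((Scheme.Modules.pullback i').obj Ω') - KRR.cl X (Omega.conormal i') := by
  refine ⟨H1VRD.isFinLocFree_pullback_omega g i Ω d hd, H1VRD.isFinLocFree_conormal i (S8656.result f hf g i hi),
    H1VRD.isFinLocFree_pullback_omega g' i' Ω' d' hd', H1VRD.isFinLocFree_conormal i' (S8656.result f hf g' i' hi'), ?_⟩
  let i₀ : X ⟶ pullback g g' := pullback.lift i i' (hi.trans hi'.symm)
  haveI : IsImmersion (i₀ ≫ pullback.fst g g') := by rw [pullback.lift_fst]; infer_instance
  haveI : IsImmersion i₀ := IsImmersion.of_comp i₀ (pullback.fst g g')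
  have h1 : i₀.liftCoborder ≫ i₀.coborderRange.ι ≫ pullback.fst g g' = i := by
    rw [← Category.assoc, i₀.liftCoborder_ι, pullback.lift_fst]
  have h2 : i₀.liftCoborder ≫ i₀.coborderRange.ι ≫ pullback.snd g g' = i' := by
    rw [← Category.assoc, i₀.liftCoborder_ι, pullback.lift_snd]
  have e1 := H1VRD.cl_conormal_add f hf g i hi g' i' Ω' d' hd' (pullback.fst g g') (pullback.snd g g')
    (IsPullback.of_hasPullback g g').flip i₀.coborderRange i₀.liftCoborder h1 h2
  have e2 := H1VRD.cl_conormal_add f hf g' i' hi' g i Ω d hd (pullback.snd g g') (pullback.fst g g')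
    (IsPullback.of_hasPullback g g') i₀.coborderRange i₀.liftCoborder h2 h1
  have e := e1.symm.trans e2
  rw [sub_eq_sub_iff_add_eq_add]
  exact ((add_comm _ _).trans (e2.symm.trans e1)).trans (add_comm _ _)

end Groth.Agent.S8668
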