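import Groth.Statements.S8669
import Groth.Agent.KPE7.PnData
import Groth.Agent.KPE7.Main

set_option autoImplicit false
universe v u
open CategoryTheory CategoryTheory.Limits AlgebraicGeometry
attribute [local instance] HasDerivedCategory.standard
open SGA6

namespace Groth.Agent.S8669

attribute [local instance] HasDerivedCategory.standard
open CategoryTheory CategoryTheory.Limits AlgebraicGeometry Filter
open scoped Groth.Agent.H23.PicMul
attribute [local instance] Groth.Agent.ExtPow7.Lam.commRing


/-- Let S be a quasi-compact scheme, f : P = P^r_S ⟶ S the projection, and F, G finite locally free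
O_P-modules whose classes in K₀ of finite locally free O_P-modules coincide. Then there is n₀ such
that for every n ≥ n₀ the modules f_*(F(n)) and f_*(G(n)) are finite locally free on S and have the
same class in K₀ of finite locally free O_S-modules, where F(n) = O_P(n) ⊗ F. (The published
statement is for the projective bundle of any finite locally free module of rank r + 1; this row
takes the trivial bundle.) -/
theorem result (S : Scheme.{u}) [CompactSpace ↥S] (r : ℕ)
    (F G : (KRR.PY r S).Modules) (hF : FlatMod.IsFinLocFree F) (hG : FlatMod.IsFinLocFree G)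
    (h : KRR.cl (KRR.PY r S) F = KRR.cl (KRR.PY r S) G) :
    ∃ n₀ : ℕ, ∀ n : ℕ, n₀ ≤ n →
      FlatMod.IsFinLocFree ((Scheme.Modules.pushforward (KRR.pr r S)).obj (KRR.twF r S (n : ℤ) F)) ∧
      FlatMod.IsFinLocFree ((Scheme.Modules.pushforward (KRR.pr r S)).obj (KRR.twF r S (n : ℤ) G)) ∧
      KRR.cl S ((Scheme.Modules.pushforward (KRR.pr r S)).obj (KRR.twF r S (n : ℤ) F)) =
        KRR.cl S ((Scheme.Modules.pushforward (KRR.pr r S)).obj (KRR.twF r S (n : ℤ) G)) := by
  obtain ⟨q, B⟩ := KPE7.bd_pr r S
  obtain ⟨ψ, hψ⟩ := B.exists_germ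
  obtain ⟨m₁, hm₁⟩ := B.serre F hF
  obtain ⟨m₂, hm₂⟩ := B.serre G hG
  have he := (hψ F hF).symm.trans ((congrArg ψ (show ExtPow7.Lam.c F = ExtPow7.Lam.c G from h)).trans (hψ G hG))
  obtain ⟨a, ha⟩ := Filter.eventually_atTop.1 (Filter.Germ.coe_eq.1 he)
  refine ⟨(max a (max m₁ m₂)).toNat, fun n hn => ?_⟩
  exact ⟨B.pushFlf _ (B.flf_tw hF _) (hm₁ n (by omega)), B.pushFlf _ (B.flf_tw hG _) (hm₂ n (by omega)), ha n (by omega)⟩

end Groth.Agent.S8669
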