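import Groth.Statements.S8673
import Groth.Agent.KRR7.Nil

set_option autoImplicit false
universe v u
open CategoryTheory CategoryTheory.Limits AlgebraicGeometry
attribute [local instance] HasDerivedCategory.standard
open scoped TensorProduct
open KRR

namespace Groth.Agent.S8673

/-- Let X be a connected quasi-compact scheme with an ample invertible O_X-module, (K, P, φ) a model of
the λ-ring K(X) of finite locally free modules (augmentation ε = rank), and A a commutative ring.
Then y ∈ A ⊗_ℤ K(X) is invertible if and only if (id ⊗ ε)(y) ∈ A ⊗_ℤ ℤ is invertible; in particular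
the class of a nowhere-zero bundle is invertible in K(X) ⊗ ℚ. (The published statement allows X
disconnected, with ε valued in H^0(X, ℤ); this row takes X connected, as the model requires.) -/
theorem result (X : Scheme.{u}) [ConnectedSpace ↥X] (L : X.Modules) (hL : CohB1.IsAmple L)
    (K : Type v) [CommRing K] [LambdaRing.LambdaOps K] (P : LambdaRing.PosStructure K) (φ : SGA6.Kvb X →+ K) (hK : KRR.IsModel X K P φ)
    (A : Type v) [CommRing A] (y : A ⊗[ℤ] K) :
    IsUnit y ↔ IsUnit (Algebra.TensorProduct.map (AlgHom.id ℤ A) P.aug.toIntAlgHom y) := by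
  set f := Algebra.TensorProduct.map (AlgHom.id ℤ A) P.aug.toIntAlgHom
  refine ⟨fun h => h.map f, fun h => ?_⟩
  let g : A ⊗[ℤ] ℤ →ₐ[ℤ] A ⊗[ℤ] K := Algebra.TensorProduct.map (AlgHom.id ℤ A) (Int.castRingHom K).toIntAlgHom
  have key : ∀ z : A ⊗[ℤ] K, z - g (f z) ∈ nilradical (A ⊗[ℤ] K) := fun z => by
    induction z using TensorProduct.induction_on with
    | zero => simp
    | tmul a x =>
      have h1 : g (f (a ⊗ₜ[ℤ] x)) = a ⊗ₜ[ℤ] ((P.aug x : ℤ) : K) := rfl
      rw [h1, ← TensorProduct.tmul_sub, mem_nilradical]
      have hn : IsNilpotent (x - ((P.aug x : ℤ) : K)) :=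
        Groth.Agent.KRR7.Nil.isNilpotent_of_aug_eq_zero hK hL (by simp [map_sub])
      obtain ⟨k, hk⟩ := hn
      exact ⟨k, by rw [Algebra.TensorProduct.tmul_pow, hk, TensorProduct.tmul_zero]⟩
    | add z w hz hw =>
      have : z + w - g (f (z + w)) = (z - g (f z)) + (w - g (f w)) := by rw [map_add, map_add]; abel
      rw [this]
      exact add_mem hz hw
  have := (mem_nilradical.1 (key y)).isUnit_add_left_of_commute (h.map g) (Commute.all _ _)
  rwa [add_sub_cancel] at this

end Groth.Agent.S8673
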