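import Groth.Statements.S8675
import Groth.Agent.H1CNSplit.Main

set_option autoImplicit false
universe u
open CategoryTheory CategoryTheory.Limits AlgebraicGeometry
open RegImm

namespace Groth.Agent.S8675

/-- Let i : Y ⟶ X and j : Z ⟶ Y be closed immersions such that i and j ≫ i are Koszul-regular
immersions. Let φ₁ : j^* N_{Y/X} ⟶ N_{Z/X} and φ₂ : N_{Z/X} ⟶ N_{Z/Y} be the canonical maps between
conormal sheaves (pinned by their values on classes of local sections of the ideals). If 0 → j^*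
N_{Y/X} → N_{Z/X} → N_{Z/Y} → 0 is a short exact sequence which is locally split (locally on Z, φ₁
admits a retraction), then j is a Koszul-regular immersion. (The published statement allows
arbitrary immersions and reduces to closed ones locally; this row takes closed immersions.) -/
theorem result {X Y Z : Scheme.{u}}
    (i : Y ⟶ X) [IsClosedImmersion i] (j : Z ⟶ Y) [IsClosedImmersion j]
    (hi : RegImm.IsRegularImmersion .koszul i) (hij : RegImm.IsRegularImmersion .koszul (j ≫ i))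
    (φ₁ : (Scheme.Modules.pullback j).obj (Omega.conormal i) ⟶ Omega.conormal (j ≫ i))
    (hφ₁ : OmegaSh.IsConormalMap (j ≫ i) i (𝟙 X) j φ₁)
    (φ₂ : (Scheme.Modules.pullback (𝟙 Z)).obj (Omega.conormal (j ≫ i)) ⟶ Omega.conormal j)
    (hφ₂ : OmegaSh.IsConormalMap j (j ≫ i) i (𝟙 Z) φ₂)
    (w : φ₁ ≫ ((Scheme.Modules.pullbackId Z).inv.app (Omega.conormal (j ≫ i)) ≫ φ₂) = 0)
    (hex : (ShortComplex.mk φ₁ ((Scheme.Modules.pullbackId Z).inv.app (Omega.conormal (j ≫ i)) ≫ φ₂) w).ShortExact)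
    (hsplit : ∀ z : Z, ∃ (U : Z.Opens) (ρ : (Scheme.Modules.restrictFunctor U.ι).obj (Omega.conormal (j ≫ i)) ⟶
        (Scheme.Modules.restrictFunctor U.ι).obj ((Scheme.Modules.pullback j).obj (Omega.conormal i))),
        z ∈ U ∧ (Scheme.Modules.restrictFunctor U.ι).map φ₁ ≫ ρ = 𝟙 _) :
    RegImm.IsRegularImmersion .koszul j := by
  classical
  refine ⟨inferInstance, fun z => ?_⟩
  obtain ⟨n, U₁, hU₁, hz₁, -, f₁, hf₁, hk₁⟩ := (Groth.Agent.RegImmLib.isRegularImmersionAt_iff i (j z)).1 (hi.2 (j z))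
  obtain ⟨l, U₂, hU₂, hz₂, -, f₂, hf₂, hk₂⟩ := (Groth.Agent.RegImmLib.isRegularImmersionAt_iff (j ≫ i) z).1 (hij.2 z)
  obtain ⟨G₁, G₂, hGG, hzG⟩ := exists_basicOpen_le_affine_inter hU₁ hU₂ (i (j z)) ⟨hz₁, hz₂⟩
  obtain ⟨f, hf, hkf⟩ := Groth.Agent.RegImmLib.restrict_basicOpen i G₁ hf₁ hk₁ hU₁
  obtain ⟨h, hh, hkh⟩ : ∃ h : Fin l → Γ(X, X.basicOpen G₁), Groth.Agent.WiebeLib.IsExact h ∧
      RingHom.ker ((j ≫ i).app (X.basicOpen G₁)).hom = Ideal.span (Set.range h) := by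
    rw [hGG]
    exact Groth.Agent.RegImmLib.restrict_basicOpen (j ≫ i) G₂ hf₂ hk₂ hU₂
  exact Groth.Agent.H1CNSplit.regularImmersionAt i j φ₁ hφ₁ z (hsplit z) (hU₁.basicOpen G₁) hzG f hf hkf h hh hkh

end Groth.Agent.S8675
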