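import Groth.Statements.S8682
import Groth.Agent.H1NL.Two

set_option backward.isDefEq.respectTransparency false
set_option backward.isDefEq.respectTransparency.types false

set_option autoImplicit false
universe u
open CategoryTheory CategoryTheory.Limits AlgebraicGeometry
attribute [local instance] HasDerivedCategory.standard
open Synt

namespace Groth.Agent.S8682

/-- Let f : X ⟶ Y admit two factorisations f = i ≫ g = i' ≫ g' with g : V ⟶ Y, g' : V' ⟶ Y smooth and i,
i' closed immersions. Let d : O_V → Ω and d' : O_{V'} → Ω' be universal Y-derivations and let φ :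
N_i ⟶ i^*Ω, φ' : N_{i'} ⟶ i'^*Ω' be the maps induced by d and d' on the conormal sheaves (pinned by
their values on classes of local sections of the ideals). Then the cotangent complexes [N_i → i^*Ω]
and [N_{i'} → i'^*Ω'], placed in degrees −1 and 0, are isomorphic in the derived category of
O_X-modules. The published statement names a canonical isomorphism; this row asserts only that an
isomorphism exists. -/
theorem result {X Y V V' : Scheme.{u}} (f : X ⟶ Y)
    (g : V ⟶ Y) [Smooth g] (i : X ⟶ V) [IsClosedImmersion i] (hi : i ≫ g = f)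
    (g' : V' ⟶ Y) [Smooth g'] (i' : X ⟶ V') [IsClosedImmersion i'] (hi' : i' ≫ g' = f)
    (Ω : V.Modules) (d : OmegaSh.Der g Ω) (hd : OmegaSh.IsUniversal d)
    (Ω' : V'.Modules) (d' : OmegaSh.Der g' Ω') (hd' : OmegaSh.IsUniversal d')
    (φ : Omega.conormal i ⟶ (Scheme.Modules.pullback i).obj Ω) (hφ : OmegaSh.IsConormalDiff i d φ)
    (φ' : Omega.conormal i' ⟶ (Scheme.Modules.pullback i').obj Ω') (hφ' : OmegaSh.IsConormalDiff i' d' φ') :
    Nonempty (DCoh.toD X (HomologicalComplex.double φ (show (ComplexShape.up ℤ).Rel (-1 : ℤ) 0 from neg_add_cancel (1 : ℤ))) ≅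
      DCoh.toD X (HomologicalComplex.double φ' (show (ComplexShape.up ℤ).Rel (-1 : ℤ) 0 from neg_add_cancel (1 : ℤ)))) := by
  let j : X ⟶ pullback g g' := pullback.lift i i' (hi.trans hi'.symm)
  haveI : IsImmersion (j ≫ pullback.fst g g') := by rw [pullback.lift_fst]; infer_instance
  haveI : IsImmersion j := IsImmersion.of_comp j (pullback.fst g g')
  let W := j.coborderRange
  have h1 : j.liftCoborder ≫ W.ι ≫ pullback.fst g g' = i := by
    rw [← Category.assoc, j.liftCoborder_ι, pullback.lift_fst]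
  have h2 : j.liftCoborder ≫ W.ι ≫ pullback.snd g g' = i' := by
    rw [← Category.assoc, j.liftCoborder_ι, pullback.lift_snd]
  have hw : (W.ι ≫ pullback.snd g g') ≫ g' = (W.ι ≫ pullback.fst g g') ≫ g := by
    rw [Category.assoc, Category.assoc, pullback.condition]
  obtain ⟨ΩW, dW, hdW⟩ := Groth.Agent.H1Omega.exists_isUniversal ((W.ι ≫ pullback.fst g g') ≫ g)
  obtain ⟨φ₁, hφ₁⟩ := Groth.Agent.GrpOmega.exists_conormalDiff _ j.liftCoborder ΩW dW
  obtain ⟨c, hc, -⟩ := Groth.Agent.S9370.result g ((W.ι ≫ pullback.fst g g') ≫ g) (W.ι ≫ pullback.fst g g') (𝟙 Y)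
    (Category.comp_id _) Ω d hd ΩW dW hdW
  obtain ⟨c', hc', -⟩ := Groth.Agent.S9370.result g' ((W.ι ≫ pullback.fst g g') ≫ g) (W.ι ≫ pullback.snd g g') (𝟙 Y)
    ((Category.comp_id _).trans hw.symm) Ω' d' hd' ΩW dW hdW
  haveI : IsSplitMono c := Groth.Agent.H1NL.isSplitMono_diff g g' (pullback.fst g g') (pullback.snd g g')
    (IsPullback.of_hasPullback g g') W.ι _ rfl _ rfl Ω d hd ΩW dW hdW c hc
  haveI : IsSplitMono c' := Groth.Agent.H1NL.isSplitMono_diff g' g (pullback.snd g g') (pullback.fst g g')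
    (IsPullback.of_hasPullback g g').flip W.ι _ rfl _ hw Ω' d' hd' ΩW dW hdW c' hc'
  obtain ⟨e⟩ := Groth.Agent.H1NL.nonempty_iso_of_smooth g (W.ι ≫ pullback.fst g g') _ rfl i j.liftCoborder h1
    Ω d hd ΩW dW hdW φ hφ φ₁ hφ₁ c hc
  obtain ⟨e'⟩ := Groth.Agent.H1NL.nonempty_iso_of_smooth g' (W.ι ≫ pullback.snd g g') _ hw i' j.liftCoborder h2
    Ω' d' hd' ΩW dW hdW φ' hφ' φ₁ hφ₁ c' hc'
  exact ⟨e ≪≫ e'.symm⟩
end Groth.Agent.S8682
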