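import Groth.Statements.S8683
import Groth.Agent.H1VRD.Stalk
import Groth.Agent.H1VRD.Local
import Groth.Agent.S8656
import Groth.Agent.KRegLib.Mor
import Groth.Agent.RegNear.Basic

set_option autoImplicit false
universe u
open CategoryTheory CategoryTheory.Limits AlgebraicGeometry
open Synt

namespace Groth.Agent.S8683

/-- Let f : X ⟶ Y and g : Y ⟶ Z be local complete intersection morphisms in the factorisation sense,
with factorisations f = i_f ≫ g_f, g = i_g ≫ g_g and f ≫ g = i_h ≫ g_h through smooth morphisms g_f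
: V ⟶ Y, g_g : W ⟶ Z, g_h : T ⟶ Z by closed immersions, universal derivations d_f, d_g, d_h (sheaves
of differentials Ω_f, Ω_g, Ω_h of V/Y, W/Z, T/Z), and x ∈ X. Suppose that on open neighbourhoods of
x the modules i_f^*Ω_f, N_{i_f}, i_h^*Ω_h, N_{i_h} are free of ranks a_f, b_f, a_h, b_h and that on
open neighbourhoods of f(x) the modules i_g^*Ω_g, N_{i_g} are free of ranks a_g, b_g. Then a_h − b_h
= (a_f − b_f) + (a_g − b_g): virtual relative dimensions add under composition. (The published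
statement allows local factorisations through arbitrary immersions; this row takes global
closed-immersion factorisations.) -/
theorem result {X Y Z V W T : Scheme.{u}} (f : X ⟶ Y) (g : Y ⟶ Z)
    (hf : ∀ x : X, Synt.IsKoszulAt f x) (hg : ∀ y : Y, Synt.IsKoszulAt g y)
    (gf : V ⟶ Y) [Smooth gf] (jf : X ⟶ V) [IsClosedImmersion jf] (hjf : jf ≫ gf = f)
    (gg : W ⟶ Z) [Smooth gg] (jg : Y ⟶ W) [IsClosedImmersion jg] (hjg : jg ≫ gg = g)
    (gh : T ⟶ Z) [Smooth gh] (jh : X ⟶ T) [IsClosedImmersion jh] (hjh : jh ≫ gh = f ≫ g)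
    (Ωf : V.Modules) (df : OmegaSh.Der gf Ωf) (hdf : OmegaSh.IsUniversal df)
    (Ωg : W.Modules) (dg : OmegaSh.Der gg Ωg) (hdg : OmegaSh.IsUniversal dg)
    (Ωh : T.Modules) (dh : OmegaSh.Der gh Ωh) (hdh : OmegaSh.IsUniversal dh)
    (x : X) (af bf ag bg ah bh : ℕ) (U₁ U₂ U₃ U₄ : X.Opens) (U₅ U₆ : Y.Opens)
    (h₁ : x ∈ U₁) (h₂ : x ∈ U₂) (h₃ : x ∈ U₃) (h₄ : x ∈ U₄) (h₅ : f x ∈ U₅) (h₆ : f x ∈ U₆)
    (haf : FlatMod.IsFinLocFreeOfRank af ((Scheme.Modules.restrictFunctor U₁.ι).obj ((Scheme.Modules.pullback jf).obj Ωf)))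
    (hbf : FlatMod.IsFinLocFreeOfRank bf ((Scheme.Modules.restrictFunctor U₂.ι).obj (Omega.conormal jf)))
    (hah : FlatMod.IsFinLocFreeOfRank ah ((Scheme.Modules.restrictFunctor U₃.ι).obj ((Scheme.Modules.pullback jh).obj Ωh)))
    (hbh : FlatMod.IsFinLocFreeOfRank bh ((Scheme.Modules.restrictFunctor U₄.ι).obj (Omega.conormal jh)))
    (hag : FlatMod.IsFinLocFreeOfRank ag ((Scheme.Modules.restrictFunctor U₅.ι).obj ((Scheme.Modules.pullback jg).obj Ωg)))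
    (hbg : FlatMod.IsFinLocFreeOfRank bg ((Scheme.Modules.restrictFunctor U₆.ι).obj (Omega.conormal jg))) :
    (ah : ℤ) - bh = ((af : ℤ) - bf) + ((ag : ℤ) - bg) := by
  have hjg' : RegImm.IsRegularImmersion .koszul jg := S8656.result g hg gg jg hjg
  have hfgker : (RingHom.ker (jg.stalkMap (f x)).hom).FG := by
    obtain ⟨V₀, hyV, -, rs, -, hker⟩ := hjg'.2 (f x)
    rw [RegNear.ker_stalkMap jg (f x) V₀.2 hyV, hker, Ideal.map_ofList]
    exact Submodule.fg_span (List.finite_toSet _)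
  letI : Algebra (Z.presheaf.stalk (g (f x))) (Y.presheaf.stalk (f x)) := (g.stalkMap (f x)).hom.toAlgebra
  letI : Algebra (Y.presheaf.stalk (f x)) (X.presheaf.stalk x) := (f.stalkMap x).hom.toAlgebra
  letI : Algebra (Z.presheaf.stalk (g (f x))) (X.presheaf.stalk x) := ((f ≫ g).stalkMap x).hom.toAlgebra
  haveI : IsScalarTower (Z.presheaf.stalk (g (f x))) (Y.presheaf.stalk (f x)) (X.presheaf.stalk x) :=
    IsScalarTower.of_algebraMap_eq fun r => by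
      show (f ≫ g).stalkMap x r = f.stalkMap x (g.stalkMap (f x) r)
      rw [Scheme.Hom.stalkMap_comp]
      rfl
  obtain ⟨Ef, hEf, -, -, ⟨eaf⟩, ⟨ebf⟩⟩ := H1VRD.exists_extension f gf jf hjf Ωf df hdf x af bf U₁ U₂ h₁ h₂ haf hbf
  obtain ⟨Eh, hEh, ⟨eah⟩, ⟨ebh⟩⟩ : ∃ P : Algebra.Extension.{u} (Z.presheaf.stalk (g (f x))) (X.presheaf.stalk x),
      Algebra.FormallySmooth (Z.presheaf.stalk (g (f x))) P.Ring ∧
      Nonempty (Module.Basis (Fin ah) (X.presheaf.stalk x) P.CotangentSpace) ∧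
      Nonempty (Module.Basis (Fin bh) (X.presheaf.stalk x) P.Cotangent) := by
    obtain ⟨P, h1, -, -, h2, h3⟩ := H1VRD.exists_extension (f ≫ g) gh jh hjh Ωh dh hdh x ah bh U₃ U₄ h₃ h₄ hah hbh
    exact ⟨P, h1, h2, h3⟩
  obtain ⟨Eg, hEg, hloc, hfg, ⟨eag⟩, ⟨ebg⟩⟩ :=
    H1VRD.exists_extension g gg jg hjg Ωg dg hdg (f x) ag bg U₅ U₆ h₅ h₆ hag hbg
  haveI := hEf
  haveI := hEh
  haveI := hEg
  haveI := hloc
  obtain ⟨Y₀, hY₀, hfY, -⟩ := exists_isAffineOpen_mem_and_subset (U := (⊤ : Y.Opens)) (x := f x) trivial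
  obtain ⟨U, hU, hxU, hUle⟩ := exists_isAffineOpen_mem_and_subset (U := f ⁻¹ᵁ Y₀) (x := x) hfY
  letI : Algebra Γ(Y, Y₀) Γ(X, U) := (f.appLE Y₀ U hUle).hom.toAlgebra
  have hlci : LCI.IsLCI Γ(Y, Y₀) Γ(X, U) :=
    (KRegLib.isLCI'_iff f).1 ((KRegLib.forall_isKoszulAt_iff f).1 hf) U Y₀ hU hY₀ hUle
  letI : Algebra Γ(Y, Y₀) (Y.presheaf.stalk (f x)) := Y.presheaf.algebra_section_stalk ⟨f x, hfY⟩
  letI : Algebra Γ(X, U) (X.presheaf.stalk x) := X.presheaf.algebra_section_stalk ⟨x, hxU⟩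
  haveI := hY₀.isLocalization_stalk ⟨f x, hfY⟩
  haveI := hU.isLocalization_stalk ⟨x, hxU⟩
  exact H1VRD.chi_add (R := Z.presheaf.stalk (g (f x))) hlci (hY₀.primeIdealOf ⟨f x, hfY⟩).asIdeal.primeCompl (hU.primeIdealOf ⟨x, hxU⟩).asIdeal
    (fun b => by
      show X.presheaf.germ U x hxU (f.appLE Y₀ U hUle b) = f.stalkMap x (Y.presheaf.germ Y₀ (f x) hfY b)
      rw [Scheme.Hom.germ_stalkMap_apply]
      exact X.presheaf.germ_res_apply (homOfLE hUle) x hxU _)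
    Eg (hfg hfgker) Ef Eh eaf ebf eag ebg eah ebh

end Groth.Agent.S8683
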