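import Groth.Statements.S8692
import Groth.Agent.KPE7.Special

set_option autoImplicit false
set_option backward.isDefEq.respectTransparency false
set_option linter.style.haveILetI false
universe v u
open CategoryTheory CategoryTheory.Limits AlgebraicGeometry
attribute [local instance] HasDerivedCategory.standard
open SGA6

namespace Groth.Agent.S8692

attribute [local instance] HasDerivedCategory.standard
open CategoryTheory CategoryTheory.Limits AlgebraicGeometry
attribute [local instance] Groth.Agent.ExtPow7.Lam.commRing Groth.Agent.ExtPow7.Lam.lambdaOps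


/-- Let S be a quasi-compact scheme and K the Grothendieck ring of finite locally free O_S-modules with
the pre-λ-structure given by exterior powers. Concretely: every finite locally free O_S-module is
assumed to have finite locally free exterior powers (hext), and K is a commutative ring with
λ-operations together with an additive bijection φ from K₀ of finite locally free O_S-modules
carrying [O_S] to 1, [E]·[F] to [E ⊗ F], and with λ^i(φ[E]) = φ[L] whenever L is an i-th exterior
power of E. Then K is a λ-ring in the strict sense: λ_t(1) = 1 + t, λ^n(xy) = P_n(λ^1 x, …; λ^1 y,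
…) and λ^j(λ^i x) = Q_{i,j}(λ^1 x, …) for the universal polynomials. -/
theorem result (S : Scheme.{u}) [CompactSpace ↥S]
    (hext : ∀ (i : ℕ) (E : S.Modules), FlatMod.IsFinLocFree E →
      ∃ L : S.Modules, FlatMod.IsFinLocFree L ∧ ExtPow.IsExtPow i E L)
    (K : Type v) [CommRing K] [LambdaRing.LambdaOps K] (φ : SGA6.Kvb S →+ K) (hφ : Function.Bijective φ)
    (h1 : φ (KRR.cl S (Coh.structureModule S)) = 1)
    (hmul : ∀ E F : S.Modules, FlatMod.IsFinLocFree E → FlatMod.IsFinLocFree F →
      φ (KRR.cl S E) * φ (KRR.cl S F) = φ (KRR.cl S (((DCoh.tensorBi (X := S)).obj E).obj F)))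
    (hlam : ∀ (i : ℕ) (E L : S.Modules), FlatMod.IsFinLocFree E → FlatMod.IsFinLocFree L →
      ExtPow.IsExtPow i E L → LambdaRing.LambdaOps.lam i (φ (KRR.cl S E)) = φ (KRR.cl S L)) :
    LambdaRing.IsSpecial K := by
  have hm : ∀ x y, φ (x * y) = φ x * φ y := fun x y => by
    refine DFunLike.congr_fun (DFunLike.congr_fun (KZ.K0sub_hom_ext (KRR.vbP S)
      (f := (AddMonoidHom.compHom φ).comp AddMonoidHom.mul)
      (g := (AddMonoidHom.compHom.flip φ).comp ((AddMonoidHom.mul (R := K)).comp φ)) fun A hA =>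
      KZ.K0sub_hom_ext (KRR.vbP S) fun C hC => ?_) x) y
    show φ (ExtPow7.Lam.c A * ExtPow7.Lam.c C) = φ (KRR.cl S A) * φ (KRR.cl S C)
    rw [ExtPow7.Lam.mul_eq hA hC]
    exact (hmul A C hA hC).symm
  let ψ : SGA6.Kvb S →+* K := { φ with map_one' := h1, map_mul' := hm }
  let σ := RingEquiv.ofBijective ψ hφ
  have hl : ∀ i x, ψ (LambdaRing.LambdaOps.lam i x) = LambdaRing.LambdaOps.lam i (ψ x) :=
    KPE7.lamHom_of_gen ψ fun i M L hM hLf hL => (hlam i M L hM hLf hL).symm
  have hS := KPE7.isSpecial_Kvb (S := S)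
  refine ⟨fun n hn => ?_, fun n P hP x y => ?_, fun i j Q hQ x => ?_⟩
  · rw [← map_one ψ, ← hl, hS.lam_one_eq_zero n hn, map_zero]
  · obtain ⟨x, rfl⟩ := hφ.2 x
    obtain ⟨y, rfl⟩ := hφ.2 y
    show LambdaRing.LambdaOps.lam n (ψ x * ψ y) = MvPolynomial.aeval
      (Sum.elim (fun k : Fin n => LambdaRing.LambdaOps.lam ((k : ℕ) + 1) (ψ x))
        (fun k : Fin n => LambdaRing.LambdaOps.lam ((k : ℕ) + 1) (ψ y))) P
    rw [← map_mul, ← hl, hS.lam_mul n P hP x y, Lambda.ringHom_aeval_int]
    congr 2
    funext k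
    rcases k with k | k <;> simp only [Sum.elim_inl, Sum.elim_inr, hl]
  · obtain ⟨x, rfl⟩ := hφ.2 x
    show LambdaRing.LambdaOps.lam j (LambdaRing.LambdaOps.lam i (ψ x)) = MvPolynomial.aeval
      (fun k : Fin (i * j) => LambdaRing.LambdaOps.lam ((k : ℕ) + 1) (ψ x)) Q
    rw [← hl, ← hl, hS.lam_lam i j Q hQ x, Lambda.ringHom_aeval_int]
    congr 2
    funext k
    exact hl _ _

end Groth.Agent.S8692
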