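import Groth.Statements.S8693
import Groth.Agent.KRR7.Nil

set_option autoImplicit false
universe v u
open CategoryTheory CategoryTheory.Limits AlgebraicGeometry
attribute [local instance] HasDerivedCategory.standard
open KRR

namespace Groth.Agent.S8693

/-- Let X be a connected quasi-compact scheme with an ample invertible O_X-module L, (K, P, φ) a model
of the λ-ring K(X) of finite locally free modules with its positive structure (augmentation ε =
rank), and E_1, …, E_k finite locally free O_X-modules. Let R ⊆ K(X) be the subring generated by the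
elements λ^j[E_i] for all i and j, which is the sub-λ-ring generated by the classes [E_i]. Then the
ideal R ∩ Ker ε of R is nilpotent: there is n such that every product of n elements of R of
augmentation zero vanishes; and R is finitely generated as an abelian group. (The published
statement allows X disconnected, with R a module of finite type over R ∩ H^0(X, ℤ), and also asserts
that the λ-ring filtration of R is discrete; this row takes X connected, as the model requires, and
states the nilpotency and the finite generation over the integers.) -/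
theorem result (X : Scheme.{u}) [ConnectedSpace ↥X] (L : X.Modules) (hL : CohB1.IsAmple L)
    (K : Type v) [CommRing K] [LambdaRing.LambdaOps K] (P : LambdaRing.PosStructure K) (φ : SGA6.Kvb X →+ K)
    (hK : KRR.IsModel X K P φ)
    (k : ℕ) (E : Fin k → X.Modules) (hE : ∀ i : Fin k, FlatMod.IsFinLocFree (E i)) :
    (∃ n : ℕ, ∀ f : Fin n → K,
      (∀ t : Fin n, f t ∈ Subring.closure {y : K | ∃ (i : Fin k) (j : ℕ), y = LambdaRing.LambdaOps.lam j (φ (KRR.cl X (E i)))} ∧ P.aug (f t) = 0) →
        ∏ t, f t = 0) ∧
    (Subring.closure {y : K | ∃ (i : Fin k) (j : ℕ), y = LambdaRing.LambdaOps.lam j (φ (KRR.cl X (E i)))}).toAddSubgroup.FG := by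
  classical
  choose r hr using fun i => Groth.Agent.KRR7.exists_rank (hE i)
  let S := {y : K | ∃ (i : Fin k) (j : ℕ), y = LambdaRing.LambdaOps.lam j (φ (KRR.cl X (E i)))}
  have hzero : ∀ (i : Fin k) (j : ℕ), r i < j → LambdaRing.LambdaOps.lam j (φ (KRR.cl X (E i))) = 0 := fun i j hj => by
    obtain ⟨M, hM, hMf⟩ := Groth.Agent.ExtPow7.exists_isExtPow (hE i) j
    rw [hK.map_lam j _ M (hE i) hMf hM, show KRR.cl X M = 0 from
      Groth.Agent.KZ.clSub_isZero _ (Groth.Agent.ExtPow7.isZero_of_isExtPow_lt (hr i) hj hM), map_zero]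
  have hfin : S.Finite := by
    refine Set.Finite.subset (((Set.finite_range fun p : Σ i : Fin k, Fin (r i + 1) =>
      LambdaRing.LambdaOps.lam (p.2 : ℕ) (φ (KRR.cl X (E p.1)))).insert 0)) ?_
    rintro _ ⟨i, j, rfl⟩
    by_cases hj : j ≤ r i
    · exact Or.inr ⟨⟨i, ⟨j, Nat.lt_succ_of_le hj⟩⟩, rfl⟩
    · exact Or.inl (hzero i j (by omega))
  have hnil := fun {z : K} (hz : P.aug z = 0) => Groth.Agent.KRR7.Nil.isNilpotent_of_aug_eq_zero hK hL hz
  have hint : ∀ z : K, IsIntegral ℤ z := fun z => by
    obtain ⟨m, hm⟩ := hnil (z := z - (P.aug z : K)) (by simp [map_sub])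
    refine ⟨(Polynomial.X - Polynomial.C (P.aug z)) ^ m, (Polynomial.monic_X_sub_C _).pow m, ?_⟩
    rw [Polynomial.eval₂_pow, Polynomial.eval₂_sub, Polynomial.eval₂_X, Polynomial.eval₂_C, eq_intCast]
    exact hm
  have hfg : (Algebra.adjoin ℤ S).toSubmodule.FG := fg_adjoin_of_finite hfin fun z _ => hint z
  have hcl : ∀ z : K, z ∈ Subring.closure S ↔ z ∈ (Algebra.adjoin ℤ S).toSubmodule := fun z => by
    rw [Subalgebra.mem_toSubmodule, Algebra.adjoin_int, mem_subalgebraOfSubring]
  refine ⟨?_, ?_⟩
  · let M : Submodule ℤ K := (Algebra.adjoin ℤ S).toSubmodule ⊓ LinearMap.ker P.aug.toAddMonoidHom.toIntLinearMap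
    obtain ⟨G, hG⟩ : M.FG := Submodule.FG.of_le hfg inf_le_left
    have hJ : IsNilpotent (Ideal.span (G : Set K)) := by
      refine (Ideal.FG.isNilpotent_iff_le_nilradical ⟨G, rfl⟩).2 (Ideal.span_le.2 fun z hz => ?_)
      have : z ∈ M := hG ▸ Submodule.subset_span hz
      exact mem_nilradical.2 (hnil this.2)
    obtain ⟨n, hn⟩ := hJ
    refine ⟨n, fun f hf => ?_⟩
    have hle : M ≤ (Ideal.span (G : Set K)).restrictScalars ℤ := by
      rw [← hG, Submodule.span_le]
      exact Ideal.subset_span
    have hp := Ideal.prod_mem_prod (s := (Finset.univ : Finset (Fin n))) (I := fun _ => Ideal.span (G : Set K))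
      (x := f) fun t _ => hle ⟨(hcl _).1 (hf t).1, (hf t).2⟩
    rw [Finset.prod_const, Finset.card_univ, Fintype.card_fin, hn] at hp
    exact hp
  · obtain ⟨G, hG⟩ := hfg
    refine ⟨G, ?_⟩
    ext z
    rw [← Submodule.span_int_eq_addSubgroupClosure, hG]
    exact (hcl z).symm

end Groth.Agent.S8693
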