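import Groth.Statements.S8705
import Mathlib.Tactic.Abel
import Mathlib.LinearAlgebra.Quotient.Basic
import Mathlib.Algebra.Group.MinimalAxioms


set_option autoImplicit false
universe u
open SGA7

namespace Groth.Agent.S8705

/-- The extension of `P` by `Q` given by a symmetric two-cocycle. -/
structure CExt (P Q : Type u) [AddCommGroup P] [AddCommGroup Q] (c : P → P → Q) where
  a : Q
  p : P

theorem exists_extension {P Q : Type u} [AddCommGroup P] [AddCommGroup Q] (c : P → P → Q)
    (hc : ∀ p q r, c (p + q) r - c p (q + r) + c p q - c q r = 0) (hs : ∀ p q, c p q = c q p) :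
    ∃ (E : Type u) (_ : AddCommGroup E) (s : P → E) (ι : Q →+ E), Function.Injective ι ∧
      ∀ p q, s p + s q = s (p + q) + ι (c p q) := by
  have h0 : ∀ p, c p 0 = c 0 0 := fun p => by
    have h := hc p 0 0
    simp only [add_zero] at h
    rw [sub_self, zero_add] at h
    exact sub_eq_zero.1 h
  have h0' : ∀ p, c 0 p = c 0 0 := fun p => (hs _ _).trans (h0 p)
  have ext' : ∀ x y : CExt P Q c, x.a = y.a → x.p = y.p → x = y := fun x y h h' => by
    cases x
    cases y
    cases h
    cases h'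
    rfl
  letI : Add (CExt P Q c) := ⟨fun x y => ⟨x.a + y.a + c x.p y.p, x.p + y.p⟩⟩
  letI : Zero (CExt P Q c) := ⟨⟨-c 0 0, 0⟩⟩
  letI : Neg (CExt P Q c) := ⟨fun x => ⟨-x.a - c x.p (-x.p) - c 0 0, -x.p⟩⟩
  letI I : AddCommGroup (CExt P Q c) :=
    { AddGroup.ofLeftAxioms
        (fun x y z => ext' _ _ (by
          show x.a + y.a + c x.p y.p + z.a + c (x.p + y.p) z.p = x.a + (y.a + z.a + c y.p z.p) + c x.p (y.p + z.p)
          rw [← sub_eq_zero, ← hc x.p y.p z.p]
          abel) (add_assoc _ _ _))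
        (fun x => ext' _ _ (by
          show -c 0 0 + x.a + c 0 x.p = x.a
          rw [h0' x.p]
          abel) (zero_add _))
        (fun x => ext' _ _ (by
          show -x.a - c x.p (-x.p) - c 0 0 + x.a + c (-x.p) x.p = -c 0 0
          rw [hs (-x.p) x.p]
          abel) (neg_add_cancel _)) with
      add_comm := fun x y => ext' _ _ (by
        show x.a + y.a + c x.p y.p = y.a + x.a + c y.p x.p
        rw [hs, add_comm x.a]) (add_comm _ _) }
  refine ⟨CExt P Q c, I, fun p => ⟨0, p⟩, AddMonoidHom.mk' (fun a => ⟨a - c 0 0, 0⟩) fun a b => ext' _ _ ?_ ?_,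
    fun a b h => sub_left_injective (congrArg CExt.a h), fun p q => ext' _ _ ?_ ?_⟩
  · show a + b - c 0 0 = a - c 0 0 + (b - c 0 0) + c 0 0
    abel
  · exact (add_zero _).symm
  · show 0 + 0 + c p q = 0 + (c p q - c 0 0) + c (p + q) 0
    rw [h0 (p + q)]
    abel
  · exact (add_zero _).symm

/-- In the case of the punctual topos (ordinary abelian groups): let P be an abelian group and consider
the complex of free abelian groups Z[P × P × P] ⊕ Z[P × P] → Z[P × P] → Z[P], augmented to P by [p]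
↦ p, with d₀[p, q] = [p + q] − [p] − [q], with d₁ on the first summand given by [p, q, r] ↦ [p + q,
r] − [p, q + r] + [p, q] − [q, r] and on the second summand by [p, q] ↦ [p, q] − [q, p]. Then the
augmentation is surjective with kernel the image of d₀ (so H₀ is P), and the kernel of d₀ is the sum
of the images of the two components of d₁ (so H₁ vanishes). (The published statement is for abelian
sheaves on an arbitrary topos; this row is its case of a one-point space.) -/
theorem result (P : Type u) [AddCommGroup P] :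
    letI ε : (P →₀ ℤ) →ₗ[ℤ] P := Finsupp.linearCombination ℤ (fun p : P => p)
    letI d₀ : (P × P →₀ ℤ) →ₗ[ℤ] (P →₀ ℤ) := Finsupp.linearCombination ℤ
      (fun pq : P × P => Finsupp.single (pq.1 + pq.2) 1 - Finsupp.single pq.1 1 - Finsupp.single pq.2 1)
    letI d₁ : (P × P × P →₀ ℤ) →ₗ[ℤ] (P × P →₀ ℤ) := Finsupp.linearCombination ℤ
      (fun t : P × P × P => Finsupp.single (t.1 + t.2.1, t.2.2) 1 - Finsupp.single (t.1, t.2.1 + t.2.2) 1
        + Finsupp.single (t.1, t.2.1) 1 - Finsupp.single (t.2.1, t.2.2) 1)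
    letI d₁' : (P × P →₀ ℤ) →ₗ[ℤ] (P × P →₀ ℤ) := Finsupp.linearCombination ℤ
      (fun pq : P × P => Finsupp.single pq 1 - Finsupp.single (pq.2, pq.1) 1)
    Function.Surjective ε ∧ LinearMap.ker ε = LinearMap.range d₀ ∧
      LinearMap.ker d₀ = LinearMap.range d₁ ⊔ LinearMap.range d₁' := by
  let ε : (P →₀ ℤ) →ₗ[ℤ] P := Finsupp.linearCombination ℤ (fun p : P => p)
  let d₀ : (P × P →₀ ℤ) →ₗ[ℤ] (P →₀ ℤ) := Finsupp.linearCombination ℤ
    (fun pq : P × P => Finsupp.single (pq.1 + pq.2) 1 - Finsupp.single pq.1 1 - Finsupp.single pq.2 1)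
  let d₁ : (P × P × P →₀ ℤ) →ₗ[ℤ] (P × P →₀ ℤ) := Finsupp.linearCombination ℤ
    (fun t : P × P × P => Finsupp.single (t.1 + t.2.1, t.2.2) 1 - Finsupp.single (t.1, t.2.1 + t.2.2) 1
      + Finsupp.single (t.1, t.2.1) 1 - Finsupp.single (t.2.1, t.2.2) 1)
  let d₁' : (P × P →₀ ℤ) →ₗ[ℤ] (P × P →₀ ℤ) := Finsupp.linearCombination ℤ
    (fun pq : P × P => Finsupp.single pq 1 - Finsupp.single (pq.2, pq.1) 1)
  show Function.Surjective ε ∧ LinearMap.ker ε = LinearMap.range d₀ ∧
    LinearMap.ker d₀ = LinearMap.range d₁ ⊔ LinearMap.range d₁'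
  have hsu : ∀ p : P, ε (Finsupp.single p 1) = p := fun p => by
    rw [Finsupp.linearCombination_single, one_smul]
  have hd₀ : ∀ p q : P, d₀ (Finsupp.single (p, q) 1) =
      Finsupp.single (p + q) 1 - Finsupp.single p 1 - Finsupp.single q 1 := fun p q => by
    rw [Finsupp.linearCombination_single, one_smul]
  have hd₁ : ∀ p q r : P, d₁ (Finsupp.single (p, q, r) 1) = Finsupp.single (p + q, r) 1 - Finsupp.single (p, q + r) 1
      + Finsupp.single (p, q) 1 - Finsupp.single (q, r) 1 := fun p q r => by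
    rw [Finsupp.linearCombination_single, one_smul]
  have hd₁' : ∀ p q : P, d₁' (Finsupp.single (p, q) 1) = Finsupp.single (p, q) 1 - Finsupp.single (q, p) 1 := fun p q => by
    rw [Finsupp.linearCombination_single, one_smul]
  have hεd : ∀ y, ε (d₀ y) = 0 := fun y => by
    have h : ε.comp d₀ = 0 := Finsupp.lhom_ext' fun ⟨p, q⟩ => LinearMap.ext_ring (by
      show ε (d₀ (Finsupp.single (p, q) 1)) = 0
      rw [hd₀, map_sub, map_sub, hsu, hsu, hsu]
      abel)
    exact LinearMap.congr_fun h y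
  refine ⟨fun p => ⟨_, hsu p⟩, ?_, ?_⟩
  · refine le_antisymm (fun x hx => ?_) (fun x ⟨y, hy⟩ => hy ▸ hεd y)
    let π := (LinearMap.range d₀).mkQ
    have hadd : ∀ p q : P, π (Finsupp.single (p + q) 1) = π (Finsupp.single p 1) + π (Finsupp.single q 1) := fun p q => by
      rw [← sub_eq_zero, ← sub_sub, ← map_sub, ← map_sub]
      exact (Submodule.Quotient.mk_eq_zero _).2 ⟨Finsupp.single (p, q) 1, hd₀ p q⟩
    let σ : P →+ ((P →₀ ℤ) ⧸ LinearMap.range d₀) := AddMonoidHom.mk' (fun p => π (Finsupp.single p 1)) hadd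
    have h : σ.toIntLinearMap.comp ε = π := Finsupp.lhom_ext' fun p => LinearMap.ext_ring (by
      show σ (ε (Finsupp.single p 1)) = π (Finsupp.single p 1)
      rw [hsu]
      rfl)
    have h' := LinearMap.congr_fun h x
    rw [LinearMap.comp_apply, LinearMap.mem_ker.1 hx, map_zero] at h'
    exact (Submodule.Quotient.mk_eq_zero _).1 h'.symm
  · let R := LinearMap.range d₁ ⊔ LinearMap.range d₁'
    let π := R.mkQ
    have h1 : ∀ p q r : P, π (Finsupp.single (p + q, r) 1) - π (Finsupp.single (p, q + r) 1)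
        + π (Finsupp.single (p, q) 1) - π (Finsupp.single (q, r) 1) = 0 := fun p q r => by
      rw [← map_sub, ← map_add, ← map_sub, ← hd₁]
      exact (Submodule.Quotient.mk_eq_zero _).2 (Submodule.mem_sup_left ⟨_, rfl⟩)
    have h2 : ∀ p q : P, π (Finsupp.single (p, q) 1) = π (Finsupp.single (q, p) 1) := fun p q => by
      rw [← sub_eq_zero, ← map_sub, ← hd₁']
      exact (Submodule.Quotient.mk_eq_zero _).2 (Submodule.mem_sup_right ⟨_, rfl⟩)
    obtain ⟨E, _, s, ι, hι, hs⟩ := exists_extension (fun p q => π (Finsupp.single (p, q) 1)) h1 h2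
    refine le_antisymm (fun x hx => ?_) ?_
    · have h : (Finsupp.linearCombination ℤ s).comp d₀ = -(ι.toIntLinearMap.comp π) :=
        Finsupp.lhom_ext' fun ⟨p, q⟩ => LinearMap.ext_ring (by
          show Finsupp.linearCombination ℤ s (d₀ (Finsupp.single (p, q) 1)) = -ι (π (Finsupp.single (p, q) 1))
          rw [hd₀, map_sub, map_sub, Finsupp.linearCombination_single, Finsupp.linearCombination_single,
            Finsupp.linearCombination_single, one_smul, one_smul, one_smul, sub_sub, hs p q]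
          abel)
      have h' := LinearMap.congr_fun h x
      rw [LinearMap.comp_apply, LinearMap.mem_ker.1 hx, map_zero] at h'
      have h3 : ι (π x) = 0 := neg_eq_zero.1 h'.symm
      exact (Submodule.Quotient.mk_eq_zero _).1 (hι (h3.trans ι.map_zero.symm))
    · rw [sup_le_iff, LinearMap.range_le_ker_iff, LinearMap.range_le_ker_iff]
      refine ⟨Finsupp.lhom_ext' fun ⟨p, q, r⟩ => LinearMap.ext_ring ?_, Finsupp.lhom_ext' fun ⟨p, q⟩ => LinearMap.ext_ring ?_⟩
      · show d₀ (d₁ (Finsupp.single (p, q, r) 1)) = 0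
        rw [hd₁, map_sub, map_add, map_sub, hd₀, hd₀, hd₀, hd₀, add_assoc p q r]
        abel
      · show d₀ (d₁' (Finsupp.single (p, q) 1)) = 0
        rw [hd₁', map_sub, hd₀, hd₀, add_comm q p]
        abel

end Groth.Agent.S8705
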