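import Groth.Statements.S8709
import Groth.Agent.ComodLib.Rosenlicht
import Groth.Agent.LargeGrpA1.Basic
import Groth.Prelude.Def_GmPts
-- import your own Groth.Agent.* helpers here

set_option autoImplicit false
universe u
open CategoryTheory CategoryTheory.Limits MonoidalCategory CartesianMonoidalCategory MonObj AlgebraicGeometry
open SGA7

namespace Groth.Agent.S8709

open TensorProduct

variable {K : Type u} [Field K] [IsAlgClosed K]

/-- A unit of `A ⊗ B` (finitely generated domains over an algebraically closed field) has trivial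
cross ratio at points. -/
theorem cross {A B : Type u} [CommRing A] [IsDomain A] [Algebra K A] [Algebra.FiniteType K A]
    [CommRing B] [IsDomain B] [Algebra K B] [Algebra.FiniteType K B]
    (w : (A ⊗[K] B)ˣ) (φ φ' : A →ₐ[K] K) (ψ ψ' : B →ₐ[K] K) :
    Algebra.TensorProduct.lift φ ψ (fun _ _ => mul_comm _ _) (w : A ⊗[K] B) *
      Algebra.TensorProduct.lift φ' ψ' (fun _ _ => mul_comm _ _) (w : A ⊗[K] B) =
    Algebra.TensorProduct.lift φ ψ' (fun _ _ => mul_comm _ _) (w : A ⊗[K] B) *
      Algebra.TensorProduct.lift φ' ψ (fun _ _ => mul_comm _ _) (w : A ⊗[K] B) := by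
  classical
  let R : (B →ₐ[K] K) → (A ⊗[K] B →ₐ[K] A) := fun g =>
    Algebra.TensorProduct.lift (AlgHom.id K A) ((Algebra.ofId K A).comp g) fun _ _ => mul_comm _ _
  have hR : ∀ g z, R g z = ComodLib.slice g.toLinearMap z := fun g z => by
    induction z using TensorProduct.induction_on with
    | zero => simp
    | tmul a b =>
      show (AlgHom.id K A) a * (Algebra.ofId K A).comp g b = ComodLib.slice g.toLinearMap (a ⊗ₜ[K] b)
      simp [Algebra.smul_def, mul_comm, Algebra.ofId_apply]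
    | add a b ha hb => simp only [map_add, ha, hb]
  have hev : ∀ (f : A →ₐ[K] K) (g : B →ₐ[K] K) (z : A ⊗[K] B),
      Algebra.TensorProduct.lift f g (fun _ _ => mul_comm _ _) z = f (ComodLib.slice g.toLinearMap z) := fun f g z => by
    induction z using TensorProduct.induction_on with
    | zero => simp
    | tmul a b =>
      show f a * g b = f (ComodLib.slice g.toLinearMap (a ⊗ₜ[K] b))
      simp [mul_comm]
    | add a b ha hb => simp only [map_add, ha, hb]
  obtain ⟨S₁, hS₁⟩ := TensorProduct.exists_finset (w : A ⊗[K] B)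
  obtain ⟨S₂, hS₂⟩ := TensorProduct.exists_finset ((w⁻¹ : (A ⊗[K] B)ˣ) : A ⊗[K] B)
  let W : Submodule K A := Submodule.span K ↑((S₁ ∪ S₂).image Prod.fst)
  haveI : Module.Finite K W := Module.Finite.span_finset K _
  have hW₁ : ∀ g : B →ₐ[K] K, R g w ∈ W := fun g => by
    rw [hR, hS₁, map_sum]
    exact W.sum_mem fun i hi => by
      rw [ComodLib.slice_tmul]
      exact W.smul_mem _ (Submodule.subset_span (Finset.mem_image_of_mem _ (Finset.mem_union_left _ hi)))
  have hW₂ : ∀ g : B →ₐ[K] K, R g (w⁻¹ : (A ⊗[K] B)ˣ) ∈ W := fun g => by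
    rw [hR, hS₂, map_sum]
    exact W.sum_mem fun i hi => by
      rw [ComodLib.slice_tmul]
      exact W.smul_mem _ (Submodule.subset_span (Finset.mem_image_of_mem _ (Finset.mem_union_right _ hi)))
  obtain ⟨F, hF⟩ := ComodLib.exists_finite_unit_classes W
  obtain ⟨v, -, hv⟩ := ComodLib.exists_single_line (w : A ⊗[K] B) (F.image fun f : Aˣ => (f : A)) fun g => by
    obtain ⟨f, hf, c, hc⟩ := hF (Units.map (R g).toMonoidHom w) (hW₁ g) (by
      rw [← map_inv]; exact hW₂ g)
    refine ⟨_, Finset.mem_image_of_mem _ hf, Submodule.mem_span_singleton.mpr ⟨c, ?_⟩⟩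
    rw [← hR]
    exact hc.symm
  obtain ⟨c, hc⟩ := Submodule.mem_span_singleton.mp (hv ψ)
  obtain ⟨c', hc'⟩ := Submodule.mem_span_singleton.mp (hv ψ')
  simp only [hev, ← hc, ← hc', map_smul, smul_eq_mul]
  ring

variable {k : Type u} [Field k] (σ : Spec (CommRingCat.of K) ⟶ Spec (CommRingCat.of k))

/-- A morphism constant on the rational points of every integral affine open is constant on rational points. -/
theorem constPts {P Q : Scheme.{u}} (q : P ⟶ Spec (CommRingCat.of K)) (r : Q ⟶ Spec (CommRingCat.of K))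
    [LocallyOfFiniteType q] [QuasiCompact q] [LocallyOfFiniteType r] [AlgebraicGeometry.IsReduced P] [ConnectedSpace ↥P]
    (g : P ⟶ Q) (hg : g ≫ r = q)
    (H : ∀ (A : CommRingCat.{u}) (j : Spec A ⟶ P), IsOpenImmersion j → IsDomain A →
      ∀ t t' : Spec (CommRingCat.of K) ⟶ Spec A, t ≫ j ≫ q = 𝟙 _ → t' ≫ j ≫ q = 𝟙 _ →
        t ≫ j ≫ g = t' ≫ j ≫ g)
    (s s' : Spec (CommRingCat.of K) ⟶ P) (hs : s ≫ q = 𝟙 _) (hs' : s' ≫ q = 𝟙 _) : s ≫ g = s' ≫ g := by
  haveI : IsLocallyNoetherian P := LocallyOfFiniteType.isLocallyNoetherian q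
  haveI : CompactSpace ↥P := QuasiCompact.compactSpace_of_compactSpace q
  haveI : AlgebraicGeometry.IsNoetherian P := {}
  haveI : JacobsonSpace ↥P := LocallyOfFiniteType.jacobsonSpace q
  let o : Spec (CommRingCat.of K) := IsLocalRing.closedPoint K
  have hcl : ∀ t : Spec (CommRingCat.of K) ⟶ P, t ≫ q = 𝟙 _ → IsClosed {g (t o)} := fun t ht => by
    have ht' : (t ≫ g) ≫ r = 𝟙 _ := by rw [Category.assoc, hg, ht]
    exact (pointEquivClosedPoint r ⟨t ≫ g, ht'⟩).2
  have hC : ∀ C ∈ irreducibleComponents ↥P, ∃ z : Q, IsClosed {z} ∧ C ⊆ g ⁻¹' {z} := by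
    intro C hC
    have hfinc : (irreducibleComponents ↥P).Finite := TopologicalSpace.NoetherianSpace.finite_irreducibleComponents
    let T : Set (Set ↥P) := irreducibleComponents ↥P \ {C}
    have hT : T.Finite := hfinc.subset Set.sdiff_subset
    let O : Set ↥P := (⋃₀ T)ᶜ
    have hO : IsOpen O :=
      (by rw [Set.sUnion_eq_biUnion]
          exact hT.isClosed_biUnion fun D hD => isClosed_of_mem_irreducibleComponents D hD.1 :
        IsClosed (⋃₀ T)).isOpen_compl
    have hOC : O ⊆ C := fun y hy => by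
      by_contra hyC
      refine hy ⟨irreducibleComponent y, ⟨irreducibleComponent_mem_irreducibleComponents y, fun h => ?_⟩,
        mem_irreducibleComponent⟩
      exact hyC ((Set.mem_singleton_iff.mp h) ▸ mem_irreducibleComponent)
    obtain ⟨x, hx⟩ : O.Nonempty := by
      rw [Set.nonempty_compl]
      intro hu
      have hsub : C ⊆ ⋃₀ (hT.toFinset : Set (Set ↥P)) := by
        rw [Set.Finite.coe_toFinset, hu]; exact Set.subset_univ C
      obtain ⟨D, hD, hCD⟩ := isIrreducible_iff_sUnion_isClosed.mp hC.1 hT.toFinset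
        (fun D hD => isClosed_of_mem_irreducibleComponents D ((Set.Finite.mem_toFinset hT).mp hD).1) hsub
      have hD' := (Set.Finite.mem_toFinset hT).mp hD
      exact hD'.2 (Set.mem_singleton_iff.mpr (le_antisymm (hC.2 hD'.1.1 hCD) hCD))
    obtain ⟨U, hU, hxU, hUO⟩ := exists_isAffineOpen_mem_and_subset (U := ⟨O, hO⟩) hx
    have hUirr : IsIrreducible (U : Set ↥P) :=
      ⟨⟨x, hxU⟩, hC.1.2.open_subset U.2 (Set.Subset.trans hUO hOC)⟩
    haveI : IrreducibleSpace ↥(U : Scheme.{u}) := Subtype.irreducibleSpace hUirr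
    haveI : AlgebraicGeometry.IsReduced (U : Scheme.{u}) := isReduced_of_isOpenImmersion U.ι
    haveI : IsIntegral (U : Scheme.{u}) := isIntegral_of_irreducibleSpace_of_isReduced _
    haveI : Nonempty ↥(Spec Γ(P, U)) := ⟨hU.isoSpec.hom ⟨x, hxU⟩⟩
    haveI : IsIntegral (Spec Γ(P, U)) := isIntegral_of_isOpenImmersion hU.isoSpec.inv
    have hdom : IsDomain Γ(P, U) := (affine_isIntegral_iff _).mp inferInstance
    obtain ⟨c, hcU, hc⟩ := nonempty_inter_closedPoints (Z := (U : Set ↥P)) ⟨x, hxU⟩ U.2.isLocallyClosed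
    have fact : ∀ d ∈ (U : Set ↥P), IsClosed {d} → ∃ t : Spec (CommRingCat.of K) ⟶ Spec Γ(P, U),
        t ≫ hU.fromSpec ≫ q = 𝟙 _ ∧ hU.fromSpec (t o) = d := by
      intro d hdU hd
      let t₀ := (pointEquivClosedPoint q).symm ⟨d, hd⟩
      have ht₀ : t₀.1 o = d := congrArg Subtype.val ((pointEquivClosedPoint q).apply_symm_apply ⟨d, hd⟩)
      have hr : Set.range t₀.1 ⊆ Set.range hU.fromSpec := by
        rintro _ ⟨y, rfl⟩
        rw [Subsingleton.elim y o, ht₀, hU.range_fromSpec]
        exact hdU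
      refine ⟨IsOpenImmersion.lift hU.fromSpec t₀.1 hr, ?_, ?_⟩
      · rw [IsOpenImmersion.lift_fac_assoc]; exact t₀.2
      · rw [← Scheme.Hom.comp_apply, IsOpenImmersion.lift_fac]; exact ht₀
    obtain ⟨t, ht, htc⟩ := fact c hcU hc
    have hz : IsClosed {g c} := by
      rw [← htc, ← Scheme.Hom.comp_apply]
      exact hcl (t ≫ hU.fromSpec) (by rw [Category.assoc]; exact ht)
    refine ⟨g c, hz, ?_⟩
    have hUz : (U : Set ↥P) ⊆ g ⁻¹' {g c} := by
      by_contra hn
      obtain ⟨d, ⟨hdU, hdn⟩, hd⟩ := nonempty_inter_closedPoints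
        (Z := (U : Set ↥P) ∩ (g ⁻¹' {g c})ᶜ)
        (by obtain ⟨y, hy, hy'⟩ := Set.not_subset.mp hn; exact ⟨y, hy, hy'⟩)
        (U.2.inter (hz.preimage g.continuous).isOpen_compl).isLocallyClosed
      obtain ⟨t', ht', htd⟩ := fact d hdU hd
      apply hdn
      have := congrArg (fun m : Spec (CommRingCat.of K) ⟶ Q => m o)
        (H _ hU.fromSpec inferInstance hdom t' t ht' ht)
      simp only [Scheme.Hom.comp_apply] at this
      rw [htd, htc] at this
      exact this
    calc C ⊆ closure (C ∩ U) := subset_closure_inter_of_isPreirreducible_of_isOpen hC.1.2 U.2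
            ⟨x, hOC hx, hxU⟩
      _ ⊆ closure (g ⁻¹' {g c}) := closure_mono (Set.inter_subset_right.trans hUz)
      _ = g ⁻¹' {g c} := (hz.preimage g.continuous).closure_eq
  choose z hz hzC using hC
  have hfin : (Set.range g).Finite := by
    haveI : Finite (irreducibleComponents ↥P) :=
      (TopologicalSpace.NoetherianSpace.finite_irreducibleComponents (α := ↥P)).to_subtype
    refine (Set.finite_range fun C : irreducibleComponents ↥P => z C.1 C.2).subset ?_
    rintro _ ⟨y, rfl⟩
    exact ⟨⟨_, irreducibleComponent_mem_irreducibleComponents y⟩,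
      (hzC _ (irreducibleComponent_mem_irreducibleComponents y) mem_irreducibleComponent).symm⟩
  have hclosed : ∀ a ∈ Set.range g, IsClosed {a} := by
    rintro _ ⟨y, rfl⟩
    have := hzC _ (irreducibleComponent_mem_irreducibleComponents y) mem_irreducibleComponent
    rw [Set.mem_preimage, Set.mem_singleton_iff] at this
    rw [this]; exact hz _ _
  have hsing : (Set.range g).Subsingleton := by
    intro a ha b hb
    by_contra hab
    have hT : IsClosed (Set.range g \ {a}) := by
      rw [← Set.biUnion_of_singleton (Set.range g \ {a})]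
      exact (hfin.subset Set.sdiff_subset).isClosed_biUnion fun y hy => hclosed y hy.1
    obtain ⟨x, hx, hxa, hxb⟩ := (isPreconnected_range g.continuous) _ _
      hT.isOpen_compl (hclosed a ha).isOpen_compl
      (fun y _ => by
        by_cases h : y = a
        · exact Or.inl fun hy => hy.2 h
        · exact Or.inr h)
      ⟨a, ha, fun h => h.2 rfl⟩ ⟨b, hb, Ne.symm hab⟩
    exact hxa ⟨hx, hxb⟩
  have hp : ∀ t : Spec (CommRingCat.of K) ⟶ P, (ht : t ≫ q = 𝟙 _) → (t ≫ g) ≫ r = 𝟙 _ :=
    fun t ht => by rw [Category.assoc, hg, ht]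
  have : pointEquivClosedPoint r ⟨s ≫ g, hp s hs⟩ = pointEquivClosedPoint r ⟨s' ≫ g, hp s' hs'⟩ :=
    Subtype.ext (hsing ⟨_, rfl⟩ ⟨_, rfl⟩)
  exact congrArg Subtype.val ((pointEquivClosedPoint r).injective this)

omit [IsAlgClosed K] [Field K] in
theorem lft_Gm (S : Scheme.{u}) : LocallyOfFiniteType (Red.Gm S).hom := by
  haveI : LocallyOfFiniteType (Red.diag (ULift.{u} ℤ) ℤ).hom := by
    apply (HasRingHomProperty.Spec_iff (P := @LocallyOfFiniteType)).mpr
    exact RingHom.finiteType_algebraMap.mpr inferInstance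
  exact inferInstanceAs (LocallyOfFiniteType (pullback.snd (Red.diag (ULift.{u} ℤ) ℤ).hom
    (IsTerminal.from specULiftZIsTerminal S)))

/-- `Spec K` over `Spec k`. -/
noncomputable abbrev Pt : Over (Spec (CommRingCat.of k)) := Over.mk σ

variable {X Y : Over (Spec (CommRingCat.of k))}

/-- An affine chart over `K`, as an object over `k`. -/
noncomputable abbrev Ch (A : Type u) [CommRing A] [Algebra K A] : Over (Spec (CommRingCat.of k)) :=
  Over.mk (Spec.map (CommRingCat.ofHom (algebraMap K A)) ≫ σ)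

/-- A `K`-point of a chart. -/
noncomputable def chPt {A : Type u} [CommRing A] [Algebra K A] (φ : A →ₐ[K] K) : Pt σ ⟶ Ch σ A :=
  Over.homMk (Spec.map (CommRingCat.ofHom φ.toRingHom)) (by
    show Spec.map (CommRingCat.ofHom φ.toRingHom) ≫ Spec.map (CommRingCat.ofHom (algebraMap K A)) ≫ σ = σ
    have e : φ.toRingHom.comp (algebraMap K A) = RingHom.id K := φ.comp_algebraMap
    rw [← Category.assoc, ← Spec.map_comp, ← CommRingCat.ofHom_comp, e]
    show Spec.map (𝟙 (CommRingCat.of K)) ≫ σ = σ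
    rw [Spec.map_id, Category.id_comp])

/-- The map between charts of an algebra map. -/
noncomputable def chMap {A B : Type u} [CommRing A] [Algebra K A] [CommRing B] [Algebra K B]
    (f : A →ₐ[K] B) : Ch σ B ⟶ Ch σ A :=
  Over.homMk (Spec.map (CommRingCat.ofHom f.toRingHom)) (by
    show Spec.map (CommRingCat.ofHom f.toRingHom) ≫ Spec.map (CommRingCat.ofHom (algebraMap K A)) ≫ σ = _
    have e : f.toRingHom.comp (algebraMap K A) = algebraMap K B := f.comp_algebraMap
    rw [← Category.assoc, ← Spec.map_comp, ← CommRingCat.ofHom_comp, e]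
    rfl)

theorem chPt_chMap {A B : Type u} [CommRing A] [Algebra K A] [CommRing B] [Algebra K B]
    (f : A →ₐ[K] B) (φ : B →ₐ[K] K) : chPt σ φ ≫ chMap σ f = chPt σ (φ.comp f) := by
  apply Over.OverMorphism.ext
  simp only [chPt, chMap, Over.comp_left, Over.homMk_left, ← Spec.map_comp]
  rfl

variable (u : X ⊗ Y ⟶ Red.Gm (Spec (CommRingCat.of k)))

/-- The unit `u(x, y)`. -/
noncomputable def val (x : Pt σ ⟶ X) (y : Pt σ ⟶ Y) : (Γ((Pt σ).left, ⊤))ˣ :=
  GmPts.unitOfPt (lift x y ≫ u)

/-- Cross ratio on a pair of charts. -/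
theorem cross_chart {A B : Type u} [CommRing A] [IsDomain A] [Algebra K A] [Algebra.FiniteType K A]
    [CommRing B] [IsDomain B] [Algebra K B] [Algebra.FiniteType K B]
    (a : Ch σ A ⟶ X) (b : Ch σ B ⟶ Y) (φ φ' : A →ₐ[K] K) (ψ ψ' : B →ₐ[K] K) :
    val σ u (chPt σ φ ≫ a) (chPt σ ψ ≫ b) * val σ u (chPt σ φ' ≫ a) (chPt σ ψ' ≫ b) =
      val σ u (chPt σ φ ≫ a) (chPt σ ψ' ≫ b) * val σ u (chPt σ φ' ≫ a) (chPt σ ψ ≫ b) := by
  let T := lift (chMap σ (Algebra.TensorProduct.includeLeft (R := K) (S := K) (A := A) (B := B)) ≫ a)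
    (chMap σ (Algebra.TensorProduct.includeRight (R := K) (A := A) (B := B)) ≫ b) ≫ u
  let e := Scheme.ΓSpecIso (CommRingCat.of (A ⊗[K] B))
  let w : (A ⊗[K] B)ˣ := Units.map e.hom.hom.toMonoidHom (GmPts.unitOfPt T)
  have key : ∀ (f : A →ₐ[K] K) (g : B →ₐ[K] K),
      (val σ u (chPt σ f ≫ a) (chPt σ g ≫ b)).val = (Scheme.ΓSpecIso (CommRingCat.of K)).inv.hom
        (Algebra.TensorProduct.lift f g (fun _ _ => mul_comm _ _) (w : A ⊗[K] B)) := by
    intro f g
    let fg := Algebra.TensorProduct.lift f g (fun _ _ => mul_comm _ _)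
    have h1 : chPt σ fg ≫ T = lift (chPt σ f ≫ a) (chPt σ g ≫ b) ≫ u := by
      simp only [T]
      rw [← Category.assoc, comp_lift, ← Category.assoc, ← Category.assoc, chPt_chMap, chPt_chMap]
      simp only [fg]
      congr 4
      · exact Algebra.TensorProduct.lift_comp_includeLeft f g (fun _ _ => mul_comm _ _)
      · exact Algebra.TensorProduct.lift_comp_includeRight f g (fun _ _ => mul_comm _ _)
    rw [val, ← h1, GmPts.unitOfPt_comp]
    have h2 := Scheme.ΓSpecIso_inv_naturality (CommRingCat.ofHom fg.toRingHom)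
    have h3 := congrArg (fun m => m.hom (e.hom.hom (GmPts.unitOfPt T).val)) h2
    simp only [CommRingCat.hom_comp, RingHom.comp_apply, e, Iso.hom_inv_id_apply] at h3
    exact h3.symm
  apply Units.ext
  simp only [Units.val_mul, key, ← map_mul]
  rw [cross w φ φ' ψ ψ']

/-- The base change of `X` to `K`, over `k`. -/
noncomputable abbrev BC (X : Over (Spec (CommRingCat.of k))) : Over (Spec (CommRingCat.of k)) :=
  Over.mk (pullback.snd X.hom σ ≫ σ)

/-- First projection. -/
noncomputable def bcX (X : Over (Spec (CommRingCat.of k))) : BC σ X ⟶ X :=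
  Over.homMk (pullback.fst X.hom σ) pullback.condition

/-- Second projection. -/
noncomputable def bcK (X : Over (Spec (CommRingCat.of k))) : BC σ X ⟶ Pt σ :=
  Over.homMk (pullback.snd X.hom σ) rfl

/-- The section of a point. -/
noncomputable def sec {X : Over (Spec (CommRingCat.of k))} (x : Pt σ ⟶ X) : Pt σ ⟶ BC σ X :=
  Over.homMk (pullback.lift x.left (𝟙 _) ((Over.w x).trans (Category.id_comp σ).symm)) (by
    show pullback.lift _ _ _ ≫ pullback.snd X.hom σ ≫ σ = σ
    rw [pullback.lift_snd_assoc]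
    exact Category.id_comp σ)

theorem sec_bcX {X : Over (Spec (CommRingCat.of k))} (x : Pt σ ⟶ X) : sec σ x ≫ bcX σ X = x :=
  Over.OverMorphism.ext (pullback.lift_fst _ _ _)

theorem sec_bcK {X : Over (Spec (CommRingCat.of k))} (x : Pt σ ⟶ X) : sec σ x ≫ bcK σ X = 𝟙 _ :=
  Over.OverMorphism.ext (pullback.lift_snd _ _ _)

omit u in
/-- A morphism on the base change which is constant on the points of charts is constant on points. -/
theorem const_pts [LocallyOfFiniteType X.hom] [QuasiCompact X.hom] [GeometricallyReduced X.hom]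
    [GeometricallyConnected X.hom] {Z : Over (Spec (CommRingCat.of k))} [LocallyOfFiniteType Z.hom]
    (h : BC σ X ⟶ Z)
    (H : ∀ (A : Type u) [CommRing A] [IsDomain A] [Algebra K A] [Algebra.FiniteType K A]
      (a : Ch σ A ⟶ BC σ X), a ≫ bcK σ X = Over.homMk (Spec.map (CommRingCat.ofHom (algebraMap K A))) rfl →
        ∀ φ φ' : A →ₐ[K] K, chPt σ φ ≫ a ≫ h = chPt σ φ' ≫ a ≫ h)
    (x x' : Pt σ ⟶ X) : sec σ x ≫ h = sec σ x' ≫ h := by
  let q := pullback.snd X.hom σ
  haveI : AlgebraicGeometry.IsReduced (pullback X.hom σ) :=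
    GeometricallyReduced.geometrically_isReduced _ _ _ (.of_hasPullback _ _)
  haveI : ConnectedSpace ↥(pullback X.hom σ) :=
    GeometricallyConnected.geometrically_connectedSpace _ _ _ (.of_hasPullback _ _)
  let g : pullback X.hom σ ⟶ pullback Z.hom σ := pullback.lift h.left q (Over.w h)
  have hc := constPts q (pullback.snd Z.hom σ) g (pullback.lift_snd _ _ _) (fun A j hj hA t t' ht ht' => ?_)
    (sec σ x).left (sec σ x').left (pullback.lift_snd _ _ _) (pullback.lift_snd _ _ _)
  · apply Over.OverMorphism.ext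
    have := congrArg (fun m => m ≫ pullback.fst Z.hom σ) hc
    simp only [g, Category.assoc, pullback.lift_fst] at this
    exact this
  · letI : Algebra K A := (Spec.preimage (j ≫ q)).hom.toAlgebra
    have hmap : Spec.map (CommRingCat.ofHom (algebraMap K A)) = j ≫ q := by
      rw [RingHom.algebraMap_toAlgebra, CommRingCat.ofHom_hom, Spec.map_preimage]
    haveI : Algebra.FiniteType K A := by
      have : LocallyOfFiniteType (Spec.map (CommRingCat.ofHom (algebraMap K A))) := by
        rw [hmap]; infer_instance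
      exact (HasRingHomProperty.Spec_iff (P := @LocallyOfFiniteType)).mp this
    let a : Ch σ A ⟶ BC σ X := Over.homMk j (by
      show j ≫ q ≫ σ = Spec.map (CommRingCat.ofHom (algebraMap K A)) ≫ σ
      rw [hmap, Category.assoc])
    have pt : ∀ t : Spec (CommRingCat.of K) ⟶ Spec A, t ≫ j ≫ q = 𝟙 _ →
        ∃ φ : A →ₐ[K] K, (chPt σ φ).left = t := by
      intro t ht
      refine ⟨⟨(Spec.preimage t).hom, fun r => ?_⟩, ?_⟩
      · have h1 : CommRingCat.ofHom (algebraMap K A) ≫ Spec.preimage t = 𝟙 _ := by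
          apply Spec.map_injective
          rw [Spec.map_comp, Spec.map_preimage, hmap, ht, Spec.map_id]
        exact congrArg (fun m => m.hom r) h1
      · exact Spec.map_preimage t
    obtain ⟨φ, rfl⟩ := pt t ht
    obtain ⟨φ', rfl⟩ := pt t' ht'
    have h1 := congrArg CommaMorphism.left (H A a (Over.OverMorphism.ext hmap.symm) φ φ')
    apply pullback.hom_ext
    · simp only [g, Category.assoc, pullback.lift_fst]
      simpa [a] using h1
    · simp only [g, Category.assoc, pullback.lift_snd]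
      rw [ht, ht']

theorem rigid [LocallyOfFiniteType X.hom] [QuasiCompact X.hom] [GeometricallyReduced X.hom]
    [GeometricallyConnected X.hom] [LocallyOfFiniteType Y.hom] [QuasiCompact Y.hom]
    [GeometricallyReduced Y.hom] [GeometricallyConnected Y.hom]
    (eX : 𝟙_ (Over (Spec (CommRingCat.of k))) ⟶ X) (eY : 𝟙_ (Over (Spec (CommRingCat.of k))) ⟶ Y)
    (huX : lift (𝟙 X) (toUnit X ≫ eY) ≫ u = 1) (huY : lift (toUnit Y ≫ eX) (𝟙 Y) ≫ u = 1)
    (x : Pt σ ⟶ X) (y : Pt σ ⟶ Y) : val σ u x y = 1 := by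
  have hY0 : ∀ x : Pt σ ⟶ X, val σ u x (toUnit _ ≫ eY) = 1 := fun x => by
    rw [val, show lift x (toUnit (Pt σ) ≫ eY) = x ≫ lift (𝟙 X) (toUnit X ≫ eY) by simp,
      Category.assoc, huX, MonObj.comp_one, GmPts.unitOfPt_one]
  have hX0 : ∀ y : Pt σ ⟶ Y, val σ u (toUnit _ ≫ eX) y = 1 := fun y => by
    rw [val, show lift (toUnit (Pt σ) ≫ eX) y = y ≫ lift (toUnit Y ≫ eX) (𝟙 Y) by simp,
      Category.assoc, huY, MonObj.comp_one, GmPts.unitOfPt_one]
  haveI : LocallyOfFiniteType (Red.Gm (Spec (CommRingCat.of k))).hom := lft_Gm _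
  -- the value on a chart of `X` does not depend on the point
  have hchart : ∀ (A : Type u) [CommRing A] [IsDomain A] [Algebra K A] [Algebra.FiniteType K A]
      (a : Ch σ A ⟶ X) (φ φ' : A →ₐ[K] K) (y : Pt σ ⟶ Y),
      val σ u (chPt σ φ ≫ a) y = val σ u (chPt σ φ' ≫ a) y := by
    intro A _ _ _ _ a φ φ' y
    let x := chPt σ φ ≫ a
    let x' := chPt σ φ' ≫ a
    let h : BC σ Y ⟶ Red.Gm (Spec (CommRingCat.of k)) :=
      (lift (bcK σ Y ≫ x) (bcX σ Y) ≫ u) * (lift (bcK σ Y ≫ x') (bcX σ Y) ≫ u)⁻¹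
    have hh : ∀ p : Pt σ ⟶ BC σ Y, p ≫ bcK σ Y = 𝟙 _ →
        GmPts.unitOfPt (p ≫ h) = val σ u x (p ≫ bcX σ Y) * (val σ u x' (p ≫ bcX σ Y))⁻¹ := by
      intro p hp
      simp only [h, MonObj.comp_mul, GrpObj.comp_inv, GmPts.unitOfPt_mul, GmPts.unitOfPt_inv, val,
        ← Category.assoc, comp_lift]
      simp only [hp, Category.id_comp]
    have hconst := const_pts σ (X := Y) h (fun B _ _ _ _ b hb ψ ψ' => ?_) y (toUnit _ ≫ eY)
    · have h1 := congrArg GmPts.unitOfPt hconst
      rw [hh _ (sec_bcK σ _), hh _ (sec_bcK σ _), sec_bcX, sec_bcX, hY0, hY0, inv_one, _root_.mul_one,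
        mul_inv_eq_one] at h1
      exact h1
    · apply (GmPts.equiv (Pt σ)).injective
      show GmPts.unitOfPt _ = GmPts.unitOfPt _
      have hp : ∀ ψ : B →ₐ[K] K, (chPt σ ψ ≫ b) ≫ bcK σ Y = 𝟙 _ := fun ψ => by
        rw [Category.assoc, hb]
        apply Over.OverMorphism.ext
        show Spec.map _ ≫ Spec.map _ = 𝟙 _
        rw [← Spec.map_comp, ← CommRingCat.ofHom_comp,
          show ψ.toRingHom.comp (algebraMap K B) = RingHom.id K from ψ.comp_algebraMap]
        exact Spec.map_id _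
      rw [← Category.assoc (chPt σ ψ) b h, ← Category.assoc (chPt σ ψ') b h, hh _ (hp ψ), hh _ (hp ψ'),
        Category.assoc, Category.assoc,
        ← div_eq_mul_inv, ← div_eq_mul_inv, div_eq_div_iff_mul_eq_mul]
      exact cross_chart σ u a (b ≫ bcX σ Y) φ φ' ψ ψ'
  let h : BC σ X ⟶ Red.Gm (Spec (CommRingCat.of k)) := lift (bcX σ X) (bcK σ X ≫ y) ≫ u
  have hh : ∀ p : Pt σ ⟶ BC σ X, p ≫ bcK σ X = 𝟙 _ → GmPts.unitOfPt (p ≫ h) = val σ u (p ≫ bcX σ X) y := by
    intro p hp
    simp only [h, val, ← Category.assoc, comp_lift]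
    simp only [hp, Category.id_comp]
  have hconst := const_pts σ h (fun A _ _ _ _ a ha φ φ' => ?_) x (toUnit _ ≫ eX)
  · have h1 := congrArg GmPts.unitOfPt hconst
    rw [hh _ (sec_bcK σ _), hh _ (sec_bcK σ _), sec_bcX, sec_bcX, hX0] at h1
    exact h1
  · apply (GmPts.equiv (Pt σ)).injective
    show GmPts.unitOfPt _ = GmPts.unitOfPt _
    have hp : ∀ φ : A →ₐ[K] K, (chPt σ φ ≫ a) ≫ bcK σ X = 𝟙 _ := fun φ => by
      rw [Category.assoc, ha]
      apply Over.OverMorphism.ext
      show Spec.map _ ≫ Spec.map _ = 𝟙 _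
      rw [← Spec.map_comp, ← CommRingCat.ofHom_comp,
          show φ.toRingHom.comp (algebraMap K A) = RingHom.id K from φ.comp_algebraMap]
      exact Spec.map_id _
    rw [← Category.assoc (chPt σ φ) a h, ← Category.assoc (chPt σ φ') a h, hh _ (hp φ), hh _ (hp φ'),
      Category.assoc, Category.assoc]
    exact hchart A (a ≫ bcX σ X) φ φ' y


/-- Let k be a field and X, Y two k-schemes of finite type which are geometrically reduced and
geometrically connected, with rational points e_X and e_Y. Then every k-morphism u from X ×_k Y to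
the multiplicative group whose restrictions to X × e_Y and to e_X × Y are trivial is trivial.
(Morphisms to the multiplicative group over k form a group; trivial means equal to its unit
element.) -/
theorem result (k : Type u) [Field k]
    (X Y : Over (Spec (CommRingCat.of k)))
    [LocallyOfFiniteType X.hom] [QuasiCompact X.hom] [GeometricallyReduced X.hom] [GeometricallyConnected X.hom]
    [LocallyOfFiniteType Y.hom] [QuasiCompact Y.hom] [GeometricallyReduced Y.hom] [GeometricallyConnected Y.hom]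
    (eX : 𝟙_ (Over (Spec (CommRingCat.of k))) ⟶ X) (eY : 𝟙_ (Over (Spec (CommRingCat.of k))) ⟶ Y)
    (u : X ⊗ Y ⟶ Red.Gm (Spec (CommRingCat.of k)))
    (huX : lift (𝟙 X) (toUnit X ≫ eY) ≫ u = 1) (huY : lift (toUnit Y ≫ eX) (𝟙 Y) ≫ u = 1) :
    u = 1 := by
  haveI : GeometricallyReduced (pullback.snd X.hom Y.hom) := inferInstance
  haveI : AlgebraicGeometry.IsReduced Y.left :=
    GeometricallyReduced.isReduced_of_flat_of_isLocallyNoetherian Y.hom
  haveI : IsLocallyNoetherian Y.left := LocallyOfFiniteType.isLocallyNoetherian Y.hom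
  haveI : AlgebraicGeometry.IsReduced (X ⊗ Y).left :=
    GeometricallyReduced.isReduced_of_flat_of_isLocallyNoetherian (pullback.snd X.hom Y.hom)
  haveI : IsAffine (Red.diag (ULift.{u} ℤ) ℤ).left := by
    show IsAffine (Spec _)
    infer_instance
  haveI : IsAffineHom (Red.diag (ULift.{u} ℤ) ℤ).hom := isAffineHom_of_isAffine _
  haveI : IsSeparated (Red.Gm (Spec (CommRingCat.of k))).hom :=
    inferInstanceAs (IsSeparated (pullback.snd (Red.diag (ULift.{u} ℤ) ℤ).hom
      (IsTerminal.from specULiftZIsTerminal (Spec (CommRingCat.of k)))))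
  apply Over.OverMorphism.ext
  refine Groth.Agent.LargeGrpA1.hom_ext_of_points (Red.Gm (Spec (CommRingCat.of k))).hom _ _
    ((Over.w u).trans (Over.w (1 : X ⊗ Y ⟶ Red.Gm (Spec (CommRingCat.of k)))).symm) fun z => ?_
  let L := AlgebraicClosure ((X ⊗ Y).left.residueField z)
  let p : Spec (CommRingCat.of L) ⟶ (X ⊗ Y).left :=
    Spec.map (CommRingCat.ofHom (algebraMap ((X ⊗ Y).left.residueField z) L)) ≫ (X ⊗ Y).left.fromSpecResidueField z
  refine ⟨L, inferInstance, p, ?_, ?_⟩
  · have hm : p (IsLocalRing.closedPoint L) ∈ Set.range ((X ⊗ Y).left.fromSpecResidueField z) := ⟨_, rfl⟩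
    rwa [Scheme.range_fromSpecResidueField, Set.mem_singleton_iff] at hm
  · let σ := p ≫ (X ⊗ Y).hom
    let P : Pt σ ⟶ X ⊗ Y := Over.homMk p rfl
    have h := rigid σ u eX eY huX huY (P ≫ fst X Y) (P ≫ snd X Y)
    rw [val, ← comp_lift, lift_fst_snd, Category.comp_id, ← GmPts.unitOfPt_one,
      ← MonObj.comp_one P] at h
    exact congrArg CommaMorphism.left ((GmPts.equiv (Pt σ)).injective h)

end Groth.Agent.S8709
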