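import Groth.Statements.S8710
import Groth.Agent.TorBridge.LES

set_option autoImplicit false
universe u
open CategoryTheory CategoryTheory.Limits
open SGA7

namespace Groth.Agent.S8710

open Groth.Agent.TorBridge CategoryTheory.MonoidalCategory in
variable {R : Type u} [CommRing R] in
/-- Vanishing of the first and of the middle term in the long exact sequence of `Tor`. -/
theorem isZero_tor_first_middle (S : ShortComplex (ModuleCat.{u} R)) (hS : S.ShortExact) (N : ModuleCat.{u} R) (i : ℕ) :
    (IsZero (((Tor (ModuleCat.{u} R) (i + 1)).obj S.X₃).obj N) → IsZero (((Tor (ModuleCat.{u} R) i).obj S.X₂).obj N) →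
      IsZero (((Tor (ModuleCat.{u} R) i).obj S.X₁).obj N)) ∧
    (IsZero (((Tor (ModuleCat.{u} R) i).obj S.X₁).obj N) → IsZero (((Tor (ModuleCat.{u} R) i).obj S.X₃).obj N) →
      IsZero (((Tor (ModuleCat.{u} R) i).obj S.X₂).obj N)) := by
  let P : ProjectiveResolution N := ProjectiveResolution.of _
  let c := ComplexShape.down ℕ
  let C : ModuleCat.{u} R → ChainComplex (ModuleCat.{u} R) ℕ := fun X =>
    ((tenF X).mapHomologicalComplex c).obj P.complex
  let f : C S.X₁ ⟶ C S.X₂ :=
    (NatTrans.mapHomologicalComplex ((tensoringLeft (ModuleCat.{u} R)).map S.f) c).app P.complex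
  let g : C S.X₂ ⟶ C S.X₃ :=
    (NatTrans.mapHomologicalComplex ((tensoringLeft (ModuleCat.{u} R)).map S.g) c).app P.complex
  have hfg : f ≫ g = 0 := by
    refine HomologicalComplex.hom_ext _ _ fun j => ModuleCat.hom_ext ?_
    show S.g.hom.rTensor (P.complex.X j) ∘ₗ S.f.hom.rTensor (P.complex.X j) = 0
    rw [← LinearMap.rTensor_comp, ← ModuleCat.hom_comp, S.zero, ModuleCat.hom_zero, LinearMap.rTensor_zero]
  have hT : (ShortComplex.mk f g hfg).ShortExact := by
    refine HomologicalComplex.shortExact_of_degreewise_shortExact _ fun j => ?_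
    haveI : Module.Projective R (P.complex.X j) := (IsProjective.iff_projective _).2 (P.projective j)
    have he : Function.Exact S.f.hom S.g.hom :=
      (ShortComplex.ShortExact.moduleCat_exact_iff_function_exact _).1 hS.exact
    exact
      { exact := (ShortComplex.ShortExact.moduleCat_exact_iff_function_exact _).2
          (rTensor_exact (P.complex.X j) he ((ModuleCat.epi_iff_surjective _).1 hS.epi_g))
        mono_f := (ModuleCat.mono_iff_injective _).2 (Module.Flat.rTensor_preserves_injective_linearMap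
          (M := P.complex.X j) S.f.hom ((ModuleCat.mono_iff_injective _).1 hS.mono_f))
        epi_g := (ModuleCat.epi_iff_surjective _).2
          (LinearMap.rTensor_surjective (P.complex.X j) ((ModuleCat.epi_iff_surjective _).1 hS.epi_g)) }
  have key : ∀ (X : ModuleCat.{u} R) (j : ℕ),
      IsZero (((Tor (ModuleCat.{u} R) j).obj X).obj N) ↔ IsZero ((C X).homology j) := fun X j =>
    Iso.isZero_iff (P.isoLeftDerivedObj (tenF X) j)
  refine ⟨fun h₃ h₂ => ?_, fun h₁ h₃ => ?_⟩
  · rw [key, ModuleCat.isZero_iff_subsingleton] at h₂ h₃ ⊢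
    have hex := hT.homology_exact₁ (i + 1) i rfl
    rw [ShortComplex.ShortExact.moduleCat_exact_iff_function_exact] at hex
    refine subsingleton_of_forall_eq 0 fun x => ?_
    obtain ⟨y, rfl⟩ := (hex x).1 (@Subsingleton.elim _ h₂ _ _)
    rw [@Subsingleton.elim _ h₃ y 0, map_zero]
  · rw [key, ModuleCat.isZero_iff_subsingleton] at h₁ h₃ ⊢
    have hex := hT.homology_exact₂ i
    rw [ShortComplex.ShortExact.moduleCat_exact_iff_function_exact] at hex
    refine subsingleton_of_forall_eq 0 fun x => ?_
    obtain ⟨y, rfl⟩ := (hex x).1 (@Subsingleton.elim _ h₃ _ _)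
    rw [@Subsingleton.elim _ h₁ y 0, map_zero]

/-- Let f : B' → B be a surjective map of R-algebras with B' flat over R, g : C → B a map of R-algebras,
P = B' ×_B C their fibre product (the equalizer of f ∘ pr₁ and g ∘ pr₂ in B' × C), S an R-algebra
and n a natural number. If Tor_i^R(C, S) = 0 for 0 < i < n and Tor_i^R(B, S) = 0 for 0 < i ≤ n, then
Tor_i^R(P, S) = 0 for 0 < i < n. Here Tor_i^R(M, S) is the i-th left derived functor of M ⊗_R − on
R-modules, evaluated at S. (The published statement asks the vanishing for B only in degrees 0 < i <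
n; the published proof and the corollary following it use it in degrees 0 < i ≤ n, which this row
assumes.) -/
theorem result (R B' B C S : Type u) [CommRing R] [CommRing B'] [CommRing B]
    [CommRing C] [CommRing S] [Algebra R B'] [Algebra R B] [Algebra R C] [Algebra R S]
    (f : B' →ₐ[R] B) (hf : Function.Surjective f) (g : C →ₐ[R] B) [Module.Flat R B'] (n : ℕ)
    (hC : ∀ i : ℕ, 0 < i → i < n →
      IsZero (((Tor (ModuleCat.{u} R) i).obj (ModuleCat.of R C)).obj (ModuleCat.of R S)))
    (hB : ∀ i : ℕ, 0 < i → i ≤ n →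
      IsZero (((Tor (ModuleCat.{u} R) i).obj (ModuleCat.of R B)).obj (ModuleCat.of R S))) :
    letI P := AlgHom.equalizer (f.comp (AlgHom.fst R B' C)) (g.comp (AlgHom.snd R B' C))
    ∀ i : ℕ, 0 < i → i < n →
      IsZero (((Tor (ModuleCat.{u} R) i).obj (ModuleCat.of R ↥P)).obj (ModuleCat.of R S)) := by
  intro i hi hin
  let P := AlgHom.equalizer (f.comp (AlgHom.fst R B' C)) (g.comp (AlgHom.snd R B' C))
  obtain ⟨j, rfl⟩ : ∃ j, i = j + 1 := ⟨i - 1, (Nat.succ_pred_eq_of_pos hi).symm⟩
  let a : P →ₗ[R] B' × C := P.val.toLinearMap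
  let b : B' × C →ₗ[R] B := f.toLinearMap ∘ₗ LinearMap.fst R B' C - g.toLinearMap ∘ₗ LinearMap.snd R B' C
  have hab : b ∘ₗ a = 0 := LinearMap.ext fun x => sub_eq_zero.2 x.2
  have hker : Function.Exact a b := by
    intro x
    constructor
    · intro h
      have hx : f x.1 = g x.2 := sub_eq_zero.1 h
      exact ⟨(⟨x, hx⟩ : P), rfl⟩
    · rintro ⟨y, rfl⟩
      exact LinearMap.congr_fun hab y
  let S₁ : ShortComplex (ModuleCat.{u} R) :=
    ShortComplex.mk (ModuleCat.ofHom a) (ModuleCat.ofHom b) (ModuleCat.hom_ext hab)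
  have hS₁ : S₁.ShortExact :=
    { exact := (ShortComplex.ShortExact.moduleCat_exact_iff_function_exact _).2 hker
      mono_f := (ModuleCat.mono_iff_injective _).2 Subtype.val_injective
      epi_g := (ModuleCat.epi_iff_surjective _).2 fun z => by
        obtain ⟨y, rfl⟩ := hf z
        exact ⟨(y, 0), by show f y - g 0 = f y; rw [map_zero, sub_zero]⟩ }
  let S₂ : ShortComplex (ModuleCat.{u} R) := ShortComplex.mk (ModuleCat.ofHom (LinearMap.inl R B' C))
    (ModuleCat.ofHom (LinearMap.snd R B' C)) (ModuleCat.hom_ext (LinearMap.ext fun _ => rfl))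
  have hS₂ : S₂.ShortExact :=
    { exact := (ShortComplex.ShortExact.moduleCat_exact_iff_function_exact _).2 Function.Exact.inl_snd
      mono_f := (ModuleCat.mono_iff_injective _).2 LinearMap.inl_injective
      epi_g := (ModuleCat.epi_iff_surjective _).2 LinearMap.snd_surjective }
  exact (isZero_tor_first_middle S₁ hS₁ _ (j + 1)).1 (hB (j + 2) (by omega) (by omega))
    ((isZero_tor_first_middle S₂ hS₂ _ (j + 1)).2
      (Groth.Agent.TorBridge.isZero_tor_succ_of_flat (ModuleCat.of R B') _ j) (hC (j + 1) hi hin))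

end Groth.Agent.S8710
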