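import Groth.Statements.S8716
import Mathlib
import Groth.Agent.ExtCentral.Desc

set_option autoImplicit false
universe u
open CategoryTheory CategoryTheory.Limits MonoidalCategory CartesianMonoidalCategory MonObj AlgebraicGeometry
open SGA7 Groth.Agent.ExtCentral

namespace Groth.Agent.S8716

theorem exists_pt {S : Scheme.{u}} (M : Type u) {T : Over S} [Subsingleton T.left] [Nonempty T.left]
    (a : T ⟶ TwC.const S M) : ∃ m : M, a = toUnit T ≫ TwC.pt S M m ∧
      ∀ x : T.left, a.left x ∈ Set.range (Sigma.ι (fun _ : M => S) m) := by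
  obtain ⟨x₀⟩ := ‹Nonempty T.left›
  obtain ⟨m, y, hy⟩ := (AlgebraicGeometry.sigmaOpenCover (fun _ : M => S)).exists_eq (a.left x₀)
  have hr : ∀ x : T.left, a.left x ∈ Set.range (Sigma.ι (fun _ : M => S) m) := fun x => by
    rw [Subsingleton.elim x x₀]; exact ⟨y, hy⟩
  refine ⟨m, ?_, hr⟩
  let a₀ := IsOpenImmersion.lift (Sigma.ι (fun _ : M => S) m) a.left (Set.range_subset_iff.2 hr)
  have h₀ : a₀ ≫ Sigma.ι (fun _ : M => S) m = a.left := IsOpenImmersion.lift_fac _ _ _
  have h₁ : a₀ = T.hom := by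
    have := Over.w a
    rw [← h₀] at this
    simpa using this
  ext
  rw [← h₀, h₁]
  rfl

theorem eq_one_of_points {S : Scheme.{u}} (M : Type u) [Group M] {P G : Over S} [GrpObj G]
    (eG : G ≅ TwC.const S M) (hG : TwC.IsConstGrp M G eG) (ψ : P ⟶ G)
    (h : ∀ x : P.left, (ψ ≫ eG.hom).left x ∈ Set.range (Sigma.ι (fun _ : M => S) (1 : M))) : ψ = 1 := by
  let a := ψ ≫ eG.hom
  let a₀ := IsOpenImmersion.lift (Sigma.ι (fun _ : M => S) (1 : M)) a.left (Set.range_subset_iff.2 h)
  have h₀ : a₀ ≫ Sigma.ι (fun _ : M => S) (1 : M) = a.left := IsOpenImmersion.lift_fac _ _ _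
  have h₁ : a₀ = P.hom := by
    have := Over.w a
    rw [← h₀] at this
    simpa using this
  have h₂ : a = toUnit P ≫ TwC.pt S M 1 := by
    ext
    rw [← h₀, h₁]
    rfl
  have h₃ : TwC.pt S M (1 : M) ≫ eG.inv = 1 := by
    have := hG 1 1
    rw [_root_.mul_one] at this
    exact mul_eq_left.1 this
  calc ψ = a ≫ eG.inv := by simp [a]
    _ = _ := by rw [h₂, Category.assoc, h₃, MonObj.comp_one]

theorem idx_pow {S : Scheme.{u}} (M : Type u) [Group M] {T G : Over S} [GrpObj G] (eG : G ≅ TwC.const S M)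
    (hG : TwC.IsConstGrp M G eG) (m : M) (n : ℕ) :
    (toUnit T ≫ TwC.pt S M m ≫ eG.inv) ^ (n + 1) = toUnit T ≫ TwC.pt S M (m ^ (n + 1)) ≫ eG.inv := by
  induction n with
  | zero => simp
  | succ n ih => rw [pow_succ, ih, ← MonObj.comp_mul, hG, ← pow_succ]

/-- Let k be a field, Z a commutative group without non-trivial elements of finite order, P a
commutative k-group scheme of finite type (so that its group of connected components is a finite,
hence torsion, group), G the constant k-group scheme Z_k (through the isomorphism eG), and u : G →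
E, v : E → P homomorphisms of commutative k-group schemes forming a sequence 1 → G → E → P → 1 exact
for the fppf topology. Then the extension is rigid: every automorphism of the k-group scheme E
compatible with u and v is the identity. (The published statement assumes only P locally of finite
type with torsion component group; this row takes P of finite type, the case it names.) -/
theorem result (k : Type u) [Field k]
    (Z : Type u) [CommGroup Z] (hZ : ∀ z : Z, IsOfFinOrder z → z = 1)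
    (P E G : Over (Spec (CommRingCat.of k))) [GrpObj P] [GrpObj E] [GrpObj G]
    [IsCommMonObj P] [IsCommMonObj E]
    [LocallyOfFiniteType P.hom] [QuasiCompact P.hom]
    (eG : G ≅ TwC.const (Spec (CommRingCat.of k)) Z) (hG : TwC.IsConstGrp Z G eG)
    (u : G ⟶ E) (v : E ⟶ P) (hex : NonAbH1.IsExactSeq Scheme.fppfPrecoverage u v)
    (φ : E ≅ E) [IsMonHom φ.hom] (hφu : u ≫ φ.hom = u) (hφv : φ.hom ≫ v = v) :
    φ.hom = 𝟙 E := by
  obtain ⟨hu, hv, huv, hpb, R, hR, hsec⟩ := hex
  haveI := hu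
  haveI := hv
  have hvs : LocSplit v := locSplit_of_presieve v R hR fun W f hf => hsec f hf
  have h3 : (E ◁ u) ≫ μ[E] = fst E G * (snd E G ≫ u) := by
    rw [Hom.mul_def]
    congr 1
  have hmono : ∀ {W : Over (Spec (CommRingCat.of k))} (a b : W ⟶ G), a ≫ u = b ≫ u → a = b := by
    intro W a b hab
    have h := hpb.hom_ext (k := lift (1 : W ⟶ E) a) (l := lift 1 b) (by simp)
      (by simp [h3, MonObj.comp_mul, hab])
    simpa using congrArg (· ≫ snd _ _) h
  have hker : ∀ {W : Over (Spec (CommRingCat.of k))} (y x : W ⟶ E), x ≫ v = y ≫ v →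
      ∃ g : W ⟶ G, y = x * (g ≫ u) := by
    intro W y x hxy
    refine ⟨hpb.lift x y hxy ≫ snd _ _, ?_⟩
    have h := (congrArg (hpb.lift x y hxy ≫ ·) h3).symm.trans (hpb.lift_snd x y hxy)
    simp only [MonObj.comp_mul] at h
    rw [hpb.lift_fst, ← Category.assoc] at h
    exact h.symm
  let δ : E ⟶ E := φ.hom * (𝟙 E)⁻¹
  have hδv : δ ≫ v = 1 := by
    simp only [δ, MonObj.mul_comp, GrpObj.inv_comp, hφv, Category.id_comp, _root_.mul_inv_cancel]
  have hδu : u ≫ δ = 1 := by
    simp only [δ, MonObj.comp_mul, GrpObj.comp_inv, hφu, Category.comp_id, _root_.mul_inv_cancel]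
  have hδ : ∀ {W : Over (Spec (CommRingCat.of k))} (x y : W ⟶ E), (x * y) ≫ δ = (x ≫ δ) * (y ≫ δ) := by
    intro W x y
    simp only [δ, MonObj.comp_mul, GrpObj.comp_inv, Category.comp_id, MonObj.mul_comp]
    rw [mul_inv, _root_.mul_mul_mul_comm]
  obtain ⟨l, hl⟩ := hker δ 1 (by rw [hδv, MonObj.one_comp])
  rw [_root_.one_mul] at hl
  obtain ⟨ψ, hψ⟩ := hvs.exists_desc l fun {W} a b hab => hmono _ _ (by
    obtain ⟨g, hg⟩ := hker b a hab
    rw [Category.assoc, Category.assoc, ← hl, hg, hδ, Category.assoc, hδu, MonObj.comp_one, _root_.mul_one])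
  have hψhom : μ[P] ≫ ψ = (fst P P ≫ ψ) * (snd P P ≫ ψ) := by
    refine (hvs.tensor hvs).hom_ext (hmono _ _ ?_)
    have e : (v ⊗ₘ v) ≫ μ[P] = μ[E] ≫ v := (IsMonHom.mul_hom v).symm
    have hmu : μ[E] = fst E E * snd E E := by rw [Hom.mul_def, lift_fst_snd, Category.id_comp]
    have key : μ[E] ≫ δ = (fst E E ≫ δ) * (snd E E ≫ δ) := by rw [hmu]; exact hδ _ _
    rw [MonObj.comp_mul, tensorHom_fst_assoc, tensorHom_snd_assoc, reassoc_of% e, hψ, MonObj.mul_comp,
      Category.assoc, Category.assoc, Category.assoc, ← hl]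
    exact key
  have hψmul : ∀ {W : Over (Spec (CommRingCat.of k))} (x y : W ⟶ P), (x * y) ≫ ψ = (x ≫ ψ) * (y ≫ ψ) := by
    intro W x y
    rw [Hom.mul_def, Category.assoc, hψhom, MonObj.comp_mul, lift_fst_assoc, lift_snd_assoc]
  haveI : CompactSpace P.left := QuasiCompact.compactSpace_of_compactSpace P.hom
  let U : Z → Set P.left := fun m =>
    (ψ ≫ eG.hom).left ⁻¹' Set.range (Sigma.ι (fun _ : Z => Spec (CommRingCat.of k)) m)
  have hU : ∀ m, IsOpen (U m) := fun m =>
    (IsOpenImmersion.isOpen_range (Sigma.ι (fun _ : Z => Spec (CommRingCat.of k)) m)).preimage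
      (ψ ≫ eG.hom).left.continuous
  obtain ⟨F, hF⟩ := isCompact_univ.elim_finite_subcover U hU fun x _ => by
    obtain ⟨m, y, hy⟩ := (AlgebraicGeometry.sigmaOpenCover (fun _ : Z => Spec (CommRingCat.of k))).exists_eq
      ((ψ ≫ eG.hom).left x)
    exact Set.mem_iUnion.2 ⟨m, y, hy⟩
  have hψ1 : ψ = 1 := by
    refine eq_one_of_points Z eG hG ψ fun x => ?_
    let T : Over (Spec (CommRingCat.of k)) := Over.mk (P.left.fromSpecResidueField x ≫ P.hom)
    let p : T ⟶ P := Over.homMk (P.left.fromSpecResidueField x)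
    haveI : Subsingleton T.left :=
      inferInstanceAs (Subsingleton (PrimeSpectrum (P.left.residueField x)))
    haveI : Nonempty T.left :=
      inferInstanceAs (Nonempty (PrimeSpectrum (P.left.residueField x)))
    obtain ⟨z, hz, hzr⟩ := exists_pt Z (p ≫ ψ ≫ eG.hom)
    have hp : ∀ n, (p ^ (n + 1)) ≫ ψ = toUnit T ≫ TwC.pt (Spec (CommRingCat.of k)) Z (z ^ (n + 1)) ≫ eG.inv := by
      intro n
      have h1 : p ≫ ψ = toUnit T ≫ TwC.pt (Spec (CommRingCat.of k)) Z z ≫ eG.inv := by
        rw [← Category.assoc (toUnit T), ← hz]; simp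
      induction n with
      | zero => rw [pow_one, pow_one, h1]
      | succ n ih => rw [pow_succ, hψmul, ih, h1, ← MonObj.comp_mul, hG, ← pow_succ]
    have hmem : ∀ n, z ^ (n + 1) ∈ F := by
      intro n
      obtain ⟨pt₀⟩ := ‹Nonempty T.left›
      obtain ⟨m, hmF, hm⟩ : ∃ m ∈ F, (p ^ (n + 1)).left pt₀ ∈ U m := by
        simpa using hF (Set.mem_univ ((p ^ (n + 1)).left pt₀))
      obtain ⟨y, hy⟩ := hm
      have h2 : ((p ^ (n + 1)) ≫ ψ ≫ eG.hom) =
          toUnit T ≫ TwC.pt (Spec (CommRingCat.of k)) Z (z ^ (n + 1)) := by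
        rw [← Category.assoc, hp n]; simp
      have h3 : Sigma.ι (fun _ : Z => Spec (CommRingCat.of k)) m y =
          Sigma.ι (fun _ : Z => Spec (CommRingCat.of k)) (z ^ (n + 1)) ((toUnit T).left pt₀) :=
        hy.trans (congrArg (fun q : T ⟶ TwC.const (Spec (CommRingCat.of k)) Z => q.left pt₀) h2)
      by_contra hne
      have hmn : m ≠ z ^ (n + 1) := fun h => hne (h ▸ hmF)
      exact (disjoint_opensRange_sigmaι (fun _ : Z => Spec (CommRingCat.of k)) m (z ^ (n + 1)) hmn).le_bot
        ⟨⟨y, rfl⟩, ⟨(toUnit T).left pt₀, h3.symm⟩⟩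
    have hz1 : z = 1 := by
      refine hZ z (isOfFinOrder_iff_pow_eq_one.2 ?_)
      obtain ⟨a, -, b, -, hab, hpow⟩ := Set.infinite_univ.exists_lt_map_eq_of_mapsTo
        (f := fun n : ℕ => z ^ (n + 1)) (t := (F : Set Z)) (fun n _ => hmem n) F.finite_toSet
      refine ⟨b - a, by omega, ?_⟩
      have : z ^ (a + 1) * z ^ (b - a) = z ^ (a + 1) * 1 := by
        rw [← pow_add, _root_.mul_one, show a + 1 + (b - a) = b + 1 by omega]; exact hpow.symm
      exact mul_left_cancel this
    subst hz1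
    obtain ⟨pt₀⟩ := ‹Nonempty T.left›
    have := hzr pt₀
    rwa [show (p ≫ ψ ≫ eG.hom).left pt₀ = (ψ ≫ eG.hom).left x by
      change (ψ ≫ eG.hom).left (P.left.fromSpecResidueField x pt₀) = _
      rw [Scheme.fromSpecResidueField_apply]] at this
  rw [hψ1, MonObj.comp_one] at hψ
  rw [← hψ, MonObj.one_comp] at hl
  exact mul_inv_eq_one.1 hl

end Groth.Agent.S8716
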