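import Groth.Statements.S8718
import Mathlib
import Groth.Agent.ExtCentral.Desc

set_option autoImplicit false
universe u
open CategoryTheory CategoryTheory.Limits MonoidalCategory CartesianMonoidalCategory MonObj AlgebraicGeometry
open SGA7 Groth.Agent.ExtCentral

namespace Groth.Agent.S8718

/-- For group schemes over a base scheme S (the representable case on the fppf site): let P and G be
S-group schemes with G commutative, and u : G → E, v : E → P homomorphisms of S-group schemes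
forming a sequence 1 → G → E → P → 1 exact for the fppf topology. Suppose every morphism of
S-schemes P ×_S G → G whose restrictions to P × e_G and to e_P × G are trivial is trivial. Then u(G)
is central in E: for all points g of G and x of E with values in any S-scheme, u(g) x = x u(g). If
moreover P is commutative and every morphism of S-schemes P ×_S P → G trivial on P × e_P and on e_P
× P is trivial, then E is commutative. (The published statement is for sheaves of groups on an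
arbitrary topos; this row is its case of representable sheaves on the fppf site of S. Morphisms to G
form a group; trivial means equal to its unit.) -/
theorem result (S : Scheme.{u})
    (P G E : Over S) [GrpObj P] [GrpObj G] [GrpObj E] [IsCommMonObj G]
    (u : G ⟶ E) (v : E ⟶ P) (hex : NonAbH1.IsExactSeq Scheme.fppfPrecoverage u v)
    (hPG : ∀ f : P ⊗ G ⟶ G, lift (𝟙 P) (toUnit P ≫ η[G]) ≫ f = 1 → lift (toUnit G ≫ η[P]) (𝟙 G) ≫ f = 1 → f = 1) :
    (∀ (T : Over S) (g : T ⟶ G) (x : T ⟶ E), (g ≫ u) * x = x * (g ≫ u)) ∧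
      (IsCommMonObj P →
        (∀ f : P ⊗ P ⟶ G, lift (𝟙 P) (toUnit P ≫ η[P]) ≫ f = 1 → lift (toUnit P ≫ η[P]) (𝟙 P) ≫ f = 1 → f = 1) →
          IsCommMonObj E) := by
  obtain ⟨hu, hv, huv, hpb, R, hR, hsec⟩ := hex
  haveI := hu
  haveI := hv
  have hvs : LocSplit v := locSplit_of_presieve v R hR fun W f hf => hsec f hf
  have h3 : (E ◁ u) ≫ μ[E] = fst E G * (snd E G ≫ u) := by
    rw [Hom.mul_def]
    congr 1
  have hmono : ∀ {Z : Over S} (a b : Z ⟶ G), a ≫ u = b ≫ u → a = b := by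
    intro Z a b hab
    have h := hpb.hom_ext (k := lift (1 : Z ⟶ E) a) (l := lift 1 b) (by simp)
      (by simp [h3, MonObj.comp_mul, hab])
    simpa using congrArg (· ≫ snd _ _) h
  have hker : ∀ {Z : Over S} (y x : Z ⟶ E), x ≫ v = y ≫ v → ∃ g : Z ⟶ G, y = x * (g ≫ u) := by
    intro Z y x hxy
    refine ⟨hpb.lift x y hxy ≫ snd _ _, ?_⟩
    have h := (congrArg (hpb.lift x y hxy ≫ ·) h3).symm.trans (hpb.lift_snd x y hxy)
    simp only [MonObj.comp_mul] at h
    rw [hpb.lift_fst, ← Category.assoc] at h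
    exact h.symm
  have hdesc : ∀ {A B : Over S} (q : A ⟶ B), LocSplit q → ∀ c : A ⟶ E, c ≫ v = 1 →
      (∀ {Z : Over S} (a b : Z ⟶ A), a ≫ q = b ≫ q → a ≫ c = b ≫ c) →
      ∃ m : B ⟶ G, q ≫ m ≫ u = c := by
    intro A B q hq c hc hinv
    obtain ⟨l, hl⟩ := hker c 1 (by rw [hc, MonObj.one_comp])
    rw [_root_.one_mul] at hl
    obtain ⟨m, hm⟩ := hq.exists_desc l fun {Z} a b h => hmono _ _ (by
      rw [Category.assoc, Category.assoc, ← hl]; exact hinv a b h)
    exact ⟨m, by rw [← Category.assoc, hm, hl]⟩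
  have hcentral : ∀ (T : Over S) (g : T ⟶ G) (x : T ⟶ E), (g ≫ u) * x = x * (g ≫ u) := by
    let c : E ⊗ G ⟶ E := fst E G * (snd E G ≫ u) * (fst E G)⁻¹ * (snd E G ≫ u)⁻¹
    have hev : ∀ {Z : Over S} (a : Z ⟶ E ⊗ G), a ≫ c = (a ≫ fst E G) * ((a ≫ snd E G) ≫ u) *
        (a ≫ fst E G)⁻¹ * ((a ≫ snd E G) ≫ u)⁻¹ := fun a => by
      simp only [c, MonObj.comp_mul, GrpObj.comp_inv, Category.assoc]
    have hc : c ≫ v = 1 := by
      simp only [c, MonObj.mul_comp, GrpObj.inv_comp, Category.assoc, huv, MonObj.comp_one, inv_one,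
        _root_.mul_one, _root_.mul_inv_cancel]
    obtain ⟨m, hm⟩ := hdesc (v ⊗ₘ 𝟙 G) (hvs.tensor (locSplit_id G)) c hc fun {Z} a b hab => by
      have h1 := congrArg (· ≫ fst P G) hab
      have h2 := congrArg (· ≫ snd P G) hab
      simp only [Category.assoc, tensorHom_fst, tensorHom_snd, Category.comp_id] at h1 h2
      obtain ⟨g', hg'⟩ := hker (b ≫ fst E G) (a ≫ fst E G) (by rw [Category.assoc, Category.assoc, h1])
      have hcomm : (g' ≫ u) * ((b ≫ snd E G) ≫ u) * (g' ≫ u)⁻¹ = (b ≫ snd E G) ≫ u := by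
        rw [← MonObj.mul_comp, ← GrpObj.inv_comp, ← MonObj.mul_comp, mul_comm g', mul_inv_cancel_right]
      rw [hev, hev, hg', h2]
      rw [show ∀ x : Z ⟶ E, x * (g' ≫ u) * ((b ≫ snd E G) ≫ u) * (x * (g' ≫ u))⁻¹ =
        x * ((g' ≫ u) * ((b ≫ snd E G) ≫ u) * (g' ≫ u)⁻¹) * x⁻¹ from fun x => by group, hcomm]
    have hm1 : m = 1 := by
      refine hPG m ?_ ?_
      · refine hvs.hom_ext (hmono _ _ ?_)
        have e : v ≫ lift (𝟙 P) (toUnit P ≫ η[G]) = lift (𝟙 E) (1 : E ⟶ G) ≫ (v ⊗ₘ 𝟙 G) := by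
          apply CartesianMonoidalCategory.hom_ext
          · simp
          · simp [Hom.one_def, toUnit_unique (v ≫ toUnit P) (toUnit E)]
        rw [reassoc_of% e, MonObj.comp_one, MonObj.one_comp, Category.assoc, Category.assoc, hm, hev]
        simp
      · refine hmono _ _ ?_
        have e : lift (toUnit G ≫ η[P]) (𝟙 G) = lift (1 : G ⟶ E) (𝟙 G) ≫ (v ⊗ₘ 𝟙 G) := by
          apply CartesianMonoidalCategory.hom_ext
          · simp only [lift_fst, Category.assoc, tensorHom_fst, lift_fst_assoc, MonObj.one_comp]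
            exact (Hom.one_def).symm
          · simp
        rw [e, MonObj.one_comp, Category.assoc, Category.assoc, hm, hev]
        simp
    rw [hm1, MonObj.one_comp, MonObj.comp_one] at hm
    intro T g x
    have h := hev (lift x g)
    rw [← hm, MonObj.comp_one, lift_fst, lift_snd] at h
    exact (mul_inv_eq_iff_eq_mul.1 (mul_inv_eq_one.1 h.symm)).symm
  refine ⟨hcentral, fun hP hPP => ?_⟩
  haveI := hP
  let d : E ⊗ E ⟶ E := fst E E * snd E E * (fst E E)⁻¹ * (snd E E)⁻¹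
  have hev : ∀ {Z : Over S} (a : Z ⟶ E ⊗ E), a ≫ d = (a ≫ fst E E) * (a ≫ snd E E) *
      (a ≫ fst E E)⁻¹ * (a ≫ snd E E)⁻¹ := fun a => by
    simp only [d, MonObj.comp_mul, GrpObj.comp_inv]
  have hd : d ≫ v = 1 := by
    simp only [d, MonObj.mul_comp, GrpObj.inv_comp]
    rw [mul_comm (fst E E ≫ v), mul_inv_cancel_right, _root_.mul_inv_cancel]
  obtain ⟨m, hm⟩ := hdesc (v ⊗ₘ v) (hvs.tensor hvs) d hd fun {Z} a b hab => by
    have h1 := congrArg (· ≫ fst P P) hab
    have h2 := congrArg (· ≫ snd P P) hab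
    simp only [Category.assoc, tensorHom_fst, tensorHom_snd] at h1 h2
    obtain ⟨g₁, hg₁⟩ := hker (b ≫ fst E E) (a ≫ fst E E) (by rw [Category.assoc, Category.assoc, h1])
    obtain ⟨g₂, hg₂⟩ := hker (b ≫ snd E E) (a ≫ snd E E) (by rw [Category.assoc, Category.assoc, h2])
    rw [hev, hev, hg₁, hg₂]
    have hk : ∀ (g : Z ⟶ G) (y z : Z ⟶ E), y * ((g ≫ u) * z) = y * (z * (g ≫ u)) := fun g y z => by
      rw [hcentral]
    have hc₁ : ∀ (g : Z ⟶ G) (y : Z ⟶ E), Commute (g ≫ u) y := fun g y => hcentral Z g y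
    symm
    calc (a ≫ fst E E) * (g₁ ≫ u) * ((a ≫ snd E E) * (g₂ ≫ u)) * ((a ≫ fst E E) * (g₁ ≫ u))⁻¹ *
          ((a ≫ snd E E) * (g₂ ≫ u))⁻¹
        = (a ≫ fst E E) * ((g₁ ≫ u) * ((a ≫ snd E E) * (g₂ ≫ u)) * (g₁ ≫ u)⁻¹) * (a ≫ fst E E)⁻¹ *
          ((a ≫ snd E E) * (g₂ ≫ u))⁻¹ := by group
      _ = (a ≫ fst E E) * ((a ≫ snd E E) * (g₂ ≫ u)) * (a ≫ fst E E)⁻¹ *
          ((a ≫ snd E E) * (g₂ ≫ u))⁻¹ := by rw [(hc₁ g₁ _).eq, mul_inv_cancel_right]
      _ = (a ≫ fst E E) * (a ≫ snd E E) * ((g₂ ≫ u) * (a ≫ fst E E)⁻¹ * (g₂ ≫ u)⁻¹) *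
          (a ≫ snd E E)⁻¹ := by group
      _ = _ := by rw [(hc₁ g₂ _).eq, mul_inv_cancel_right]
  have hm1 : m = 1 := by
    refine hPP m ?_ ?_
    · refine hvs.hom_ext (hmono _ _ ?_)
      have e : v ≫ lift (𝟙 P) (toUnit P ≫ η[P]) = lift (𝟙 E) (1 : E ⟶ E) ≫ (v ⊗ₘ v) := by
        apply CartesianMonoidalCategory.hom_ext
        · simp
        · simp [Hom.one_def, toUnit_unique (v ≫ toUnit P) (toUnit E)]
      rw [reassoc_of% e, MonObj.comp_one, MonObj.one_comp, Category.assoc, Category.assoc, hm, hev]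
      simp
    · refine hvs.hom_ext (hmono _ _ ?_)
      have e : v ≫ lift (toUnit P ≫ η[P]) (𝟙 P) = lift (1 : E ⟶ E) (𝟙 E) ≫ (v ⊗ₘ v) := by
        apply CartesianMonoidalCategory.hom_ext
        · simp [Hom.one_def, toUnit_unique (v ≫ toUnit P) (toUnit E)]
        · simp
      rw [reassoc_of% e, MonObj.comp_one, MonObj.one_comp, Category.assoc, Category.assoc, hm, hev]
      simp
  rw [hm1, MonObj.one_comp, MonObj.comp_one] at hm
  refine ⟨?_⟩
  have h : fst E E * snd E E = snd E E * fst E E :=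
    mul_inv_eq_iff_eq_mul.1 (mul_inv_eq_one.1 (show d = 1 from hm.symm))
  have h' := congrArg (fun t => (β_ E E).hom ≫ t) h
  simp only [MonObj.comp_mul] at h'
  have hmu : μ[E] = fst E E * snd E E := by rw [Hom.mul_def, lift_fst_snd, Category.id_comp]
  rw [hmu, MonObj.comp_mul]
  simpa using h.symm

end Groth.Agent.S8718
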