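import Groth.Statements.S8734
import Groth.Agent.OmegaPn.Bott

set_option autoImplicit false
set_option backward.isDefEq.respectTransparency false
set_option backward.isDefEq.respectTransparency.types false
universe u
open CategoryTheory CategoryTheory.Limits AlgebraicGeometry
open LefPen

namespace Groth.Agent.S8734

/-- Over a field: let k be a field, r >= 1, P = P^r_k, Ω = Ω^1_{P/k}, L an O_P-module which is a j-th
exterior power of Ω, and n a nonzero integer; write L(n) = L ⊗ O_P(n). Then H^i(P, L(n)) = H^i(P^r,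
Ω^j(n)) is zero unless either i = 0 and n > j, or i = r and n < j - r. -/
theorem result (k : Type u) [Field k] (r : ℕ) (hr : 1 ≤ r) (j : ℕ)
    (L : (CohB1.ProjSpace r k).Modules)
    (hL : ExtPow.IsExtPow j (Omega.sheaf (CohB1.ProjSpace.toSpec r k)) L) (n : ℤ) (hn : n ≠ 0) (i : ℕ)
    (h0 : ¬ (i = 0 ∧ (j : ℤ) < n)) (hr' : ¬ (i = r ∧ n < (j : ℤ) - r)) :
    Subsingleton (Coh.HH (CohB1.ProjSpace r k)
      (CohB1.tensorMod L (Twist.twistProjSpace r k n)) i) := by
  obtain ⟨e⟩ := OmegaPn.nonempty_iso_Z r k hL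
  have hF := OmegaPn.isTw_Tw r k n
  suffices h : Subsingleton (Coh.HH (CohB1.ProjSpace r k) ((OmegaPn.Tw r k n).obj (OmegaPn.Z r k j)) i) by
    exact (OmegaPn.HHiso k ((OmegaPn.Tw r k n).mapIso e) i).toEquiv.subsingleton
  rcases Nat.lt_or_ge r j with hj | hj
  · exact OmegaPn.Z_van_gt (F := OmegaPn.Tw r k n) j i hj
  rcases Nat.lt_or_ge r i with hi | hi
  · exact OmegaPn.Z_van_high hF i hi j
  rcases lt_or_gt_of_ne hn with hneg | hpos
  · rcases Nat.lt_or_ge i r with hir | hir
    · exact OmegaPn.Z_van_neg hF hneg j i hir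
    obtain rfl : i = r := le_antisymm hi hir
    obtain ⟨m, hm⟩ := Int.exists_eq_neg_ofNat hneg.le
    subst hm
    obtain ⟨h1, h2⟩ := OmegaPn.finrank_Z_top (k := k) hr (e := m) (by omega) hF j hj
    haveI := h1
    refine Module.finrank_zero_iff.1 (h2.trans ?_)
    rw [OmegaPn.bott, Nat.choose_eq_zero_of_lt (show m - 1 < i - j by omega), mul_zero]
  · rcases Nat.eq_zero_or_pos i with rfl | hi'
    · obtain ⟨m, rfl⟩ := Int.eq_ofNat_of_zero_le hpos.le
      obtain ⟨h1, h2⟩ := OmegaPn.finrank_Z_zero (k := k) hr (d := m) (by omega) hF j hj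
      haveI := h1
      refine Module.finrank_zero_iff.1 (h2.trans ?_)
      rw [OmegaPn.bott, Nat.choose_eq_zero_of_lt (show m - 1 < j by omega), mul_zero]
    · exact OmegaPn.Z_van_pos hF hpos j i hi'

end Groth.Agent.S8734
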