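import Groth.Statements.S8738
import Mathlib.RingTheory.Derivation.MapCoeffs
import Mathlib.Algebra.TrivSqZeroExt.Basic
import Mathlib.RingTheory.FractionalIdeal.Operations

set_option autoImplicit false
universe u
open SGA7II

namespace Groth.Agent.S8738

open Polynomial in
/-- Seidenberg: if `d * x ^ j` is in the range of `A` for all `j` then so is `d * d * n! * (Dx) ^ n`. -/
theorem fact_mul_deriv_pow_mem {A K : Type*} [CommRing A] [CommRing K] (φ : A →+* K)
    (Dk : Derivation ℤ K K) (hD : ∀ y ∈ φ.range, Dk y ∈ φ.range) (x d : K)
    (hd : ∀ j : ℕ, d * x ^ j ∈ φ.range) (n : ℕ) :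
    d * (d * ((n.factorial : K) * Dk x ^ n)) ∈ φ.range := by
  letI : Differential K := ⟨Dk⟩
  set u : K[X] := C x - X with hu
  have key : ∀ i, i ≤ n → ∃ P : K[X],
      (⇑(Differential.mapCoeffs (A := K)))^[i] (u ^ n * C d) = u ^ (n - i) * P ∧
        P.eval x = (n.descFactorial i : K) * Dk x ^ i * d := by
    intro i
    induction i with
    | zero => exact fun _ => ⟨C d, by simp, by simp⟩
    | succ i ih =>
      intro hi
      obtain ⟨P, hP, he⟩ := ih (by omega)
      obtain ⟨m, hm⟩ : ∃ m, n - i = m + 1 := ⟨n - i - 1, by omega⟩
      refine ⟨((m : K[X]) + 1) * C (Dk x) * P + u * Differential.mapCoeffs P, ?_, ?_⟩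
      · rw [Function.iterate_succ_apply', hP, hm, show n - (i + 1) = m by omega,
          Derivation.leibniz, Derivation.leibniz_pow]
        have hx : Differential.mapCoeffs u = C (Dk x) := by
          rw [hu, map_sub, Differential.mapCoeffs_C, Differential.mapCoeffs_X, sub_zero]
          rfl
        rw [hx]
        simp only [smul_eq_mul, nsmul_eq_mul, Nat.add_sub_cancel]
        push_cast
        ring
      · rw [Nat.descFactorial_succ, hm]
        simp only [hu, eval_add, eval_mul, eval_natCast, eval_one, eval_C, eval_sub, eval_X, sub_self,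
          zero_mul, add_zero, he]
        push_cast
        ring
  obtain ⟨P, hP, he⟩ := key n le_rfl
  rw [Nat.sub_self, pow_zero, one_mul] at hP
  rw [Nat.descFactorial_self] at he
  have hcoe : ∀ i, ∀ k, ((⇑(Differential.mapCoeffs (A := K)))^[i] (u ^ n * C d)).coeff k
      ∈ φ.range := by
    intro i
    induction i with
    | zero =>
      intro k
      have hu' : u = -(X + C (-x)) := by rw [hu, map_neg]; ring
      rw [Function.iterate_zero_apply, hu', neg_pow, ← C_1, ← C_neg, ← C_pow, mul_assoc,
        coeff_C_mul, coeff_mul_C, coeff_X_add_C_pow, neg_pow x (n - k)]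
      have := φ.range.mul_mem (φ.range.mul_mem (pow_mem (φ.range.neg_mem φ.range.one_mem) n)
        (φ.range.mul_mem (pow_mem (φ.range.neg_mem φ.range.one_mem) (n - k))
          (natCast_mem φ.range (n.choose k)))) (hd (n - k))
      convert this using 1
      ring
    | succ i ih =>
      intro k
      rw [Function.iterate_succ_apply', Differential.coeff_mapCoeffs]
      exact hD _ (ih k)
  have hcn := hcoe n
  rw [hP] at hcn
  have h2 : d * P.eval x ∈ φ.range := by
    rw [Polynomial.eval_eq_sum, Polynomial.sum, Finset.mul_sum]
    refine φ.range.sum_mem fun k _ => ?_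
    have := φ.range.mul_mem (hcn k) (hd k)
    convert this using 1
    ring
  rw [he] at h2
  convert h2 using 1
  ring

/-- Extension of a derivation to a localization, here the total ring of fractions. -/
theorem exists_extend (k : Type*) [Field k] {A K : Type*} [CommRing A] [CommRing K] [Algebra k A]
    [Algebra A K] [Algebra k K] [IsScalarTower k A K] (M : Submonoid A) [IsLocalization M K]
    (D : Derivation k A A) :
    ∃ Dk : Derivation k K K, ∀ a, Dk (algebraMap A K a) = algebraMap A K (D a) := by
  let φ : A →+* TrivSqZeroExt K K :=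
    { toFun := fun a => TrivSqZeroExt.inl (algebraMap A K a) + TrivSqZeroExt.inr (algebraMap A K (D a))
      map_one' := by ext <;> simp
      map_mul' := fun a b => by
        ext
        · simp
        · simp [mul_comm, add_comm]
      map_zero' := by ext <;> simp
      map_add' := fun a b => by ext <;> simp }
  have hφ : ∀ y : M, IsUnit (φ y) := fun y => by
    rw [TrivSqZeroExt.isUnit_iff_isUnit_fst]
    simpa [φ] using IsLocalization.map_units K y
  let ψ : K →+* TrivSqZeroExt K K := IsLocalization.lift hφ
  have hψ : ∀ a, ψ (algebraMap A K a) = φ a := fun a => IsLocalization.lift_eq hφ a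
  have hfst : ∀ z, (ψ z).fst = z := by
    intro z
    have : (TrivSqZeroExt.fstHom K K K).toRingHom.comp ψ = RingHom.id K := by
      refine IsLocalization.ringHom_ext M ?_
      ext a
      simp [hψ, φ]
    exact RingHom.congr_fun this z
  let L : K →ₗ[k] K :=
    { toFun := fun z => (ψ z).snd
      map_add' := fun a b => by simp
      map_smul' := fun c z => by
        rw [Algebra.smul_def, IsScalarTower.algebraMap_apply k A K, map_mul, TrivSqZeroExt.snd_mul,
          hfst, hψ]
        simp [φ, Algebra.smul_def, IsScalarTower.algebraMap_apply k A K] }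
  refine ⟨Derivation.mk' L ?_, fun a => ?_⟩
  · intro a b
    change (ψ (a * b)).snd = a • (ψ b).snd + b • (ψ a).snd
    rw [map_mul, TrivSqZeroExt.snd_mul, hfst, hfst]
    simp [mul_comm]
  · change (ψ (algebraMap A K a)).snd = _
    simp [hψ, φ]

/-- In characteristic zero a derivation preserves integrality over a Noetherian ring. -/
theorem isIntegral_deriv (k : Type*) [Field k] [CharZero k] {A K : Type*} [CommRing A] [CommRing K]
    [IsNoetherianRing A] [Algebra k A] [Algebra A K] [Algebra k K] [IsScalarTower k A K]
    (M : Submonoid A) [IsLocalization M K] (D : Derivation k A A) (Dk : Derivation k K K)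
    (hDk : ∀ a, Dk (algebraMap A K a) = algebraMap A K (D a)) {x : K} (hx : IsIntegral A x) :
    IsIntegral A (Dk x) := by
  obtain ⟨a, haM, ha⟩ := FractionalIdeal.isFractional_of_fg (S := M) (P := K)
    (I := Subalgebra.toSubmodule (Algebra.adjoin A {x})) hx.fg_adjoin_singleton
  have hd : ∀ j : ℕ, algebraMap A K a * x ^ j ∈ (algebraMap A K).range := fun j => by
    obtain ⟨r, hr⟩ := ha (x ^ j) (pow_mem (Algebra.self_mem_adjoin_singleton A x) j)
    exact ⟨r, by rw [hr, Algebra.smul_def]⟩
  let DZ : Derivation ℤ K K := Dk.restrictScalars ℤ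
  have hD : ∀ y ∈ (algebraMap A K).range, DZ y ∈ (algebraMap A K).range := by
    rintro _ ⟨r, rfl⟩
    exact ⟨D r, (hDk r).symm⟩
  obtain ⟨w, hw⟩ := (IsLocalization.map_units K (⟨a, haM⟩ : M)).exists_left_inv
  have hmem : ∀ n : ℕ, Dk x ^ n ∈ Submodule.span A {w * w} := fun n => by
    obtain ⟨r, hr⟩ := fact_mul_deriv_pow_mem (algebraMap A K) DZ hD x (algebraMap A K a) hd n
    have hf : (n.factorial : k) ≠ 0 := by exact_mod_cast Nat.factorial_ne_zero n
    refine Submodule.mem_span_singleton.2 ⟨algebraMap k A (n.factorial : k)⁻¹ * r, ?_⟩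
    rw [Algebra.smul_def, map_mul, ← IsScalarTower.algebraMap_apply, hr]
    have h1 : algebraMap k K (n.factorial : k)⁻¹ * (n.factorial : K) = 1 := by
      rw [← map_natCast (algebraMap k K), ← map_mul, inv_mul_cancel₀ hf, map_one]
    change algebraMap k K (n.factorial : k)⁻¹ *
      (algebraMap A K a * (algebraMap A K a * ((n.factorial : K) * Dk x ^ n))) * (w * w) = _
    calc _ = (algebraMap k K (n.factorial : k)⁻¹ * (n.factorial : K)) *
          (w * algebraMap A K a) * (w * algebraMap A K a) * Dk x ^ n := by ring
      _ = _ := by simp only [hw] at *; rw [h1, one_mul, one_mul, one_mul]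
  have hle : Subalgebra.toSubmodule (Algebra.adjoin A {Dk x}) ≤ Submodule.span A {w * w} := by
    intro y hy
    rw [Subalgebra.mem_toSubmodule, Algebra.adjoin_singleton_eq_range_aeval] at hy
    obtain ⟨p, rfl⟩ := hy
    change Polynomial.aeval (Dk x) p ∈ _
    rw [Polynomial.aeval_eq_sum_range]
    exact Submodule.sum_mem _ fun i _ => Submodule.smul_mem _ _ (hmem i)
  haveI : IsNoetherian A ↥(Submodule.span A {w * w}) :=
    isNoetherian_of_fg_of_noetherian _ (Submodule.fg_span_singleton _)
  exact IsIntegral.of_mem_of_fg _ (isNoetherian_submodule.1 ‹_› _ hle) _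
    (Algebra.self_mem_adjoin_singleton A (Dk x))

/-- Let k be a field of characteristic zero and A a reduced Noetherian local k-algebra of Krull
dimension one, essentially of finite type over k (the local ring of a reduced curve over k at one of
its points), and let A' be the integral closure of A in its total ring of fractions (the
normalization). Then every k-derivation D of A extends to a k-derivation D' of A', i.e. D' agrees
with D on the image of A. -/
theorem result (k : Type u) [Field k] [CharZero k] (A : Type u) [CommRing A]
    [Algebra k A] [IsReduced A] [IsNoetherianRing A] [IsLocalRing A] [Algebra.EssFiniteType k A]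
    (hdim : ringKrullDim A = 1) (D : Derivation k A A) :
    ∃ D' : Derivation k ↥(integralClosure A (FractionRing A)) ↥(integralClosure A (FractionRing A)),
      ∀ a : A, (D' (algebraMap A ↥(integralClosure A (FractionRing A)) a) : FractionRing A) =
        algebraMap A (FractionRing A) (D a) := by
  obtain ⟨Dk, hDk⟩ := exists_extend k (K := FractionRing A) (nonZeroDivisors A) D
  let B := integralClosure A (FractionRing A)
  have hB : ∀ x : B, Dk (x : FractionRing A) ∈ B := fun x =>
    isIntegral_deriv k (nonZeroDivisors A) D Dk hDk x.2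
  let L : B →ₗ[k] B :=
    { toFun := fun x => ⟨Dk x, hB x⟩
      map_add' := fun a b => Subtype.ext (map_add Dk (a : FractionRing A) b)
      map_smul' := fun c a => Subtype.ext (Dk.map_smul c (a : FractionRing A)) }
  refine ⟨Derivation.mk' L fun a b => Subtype.ext ?_, fun a => hDk a⟩
  exact Dk.leibniz (a : FractionRing A) b
end Groth.Agent.S8738
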