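import Groth.Statements.S8794
import Groth.Agent.H1Falt.KillCompl
set_option linter.style.haveILetI false

set_option autoImplicit false
universe u
open CategoryTheory
attribute [local instance] HasDerivedCategory.standard
open LocCoh

namespace Groth.Agent.S8794

/-- Let (A, m) be a Noetherian local ring with a dualizing complex, I an ideal and d a natural with
cd(A, I) ≤ d, M a finite A-module, p a prime of A and s a natural with depth(M_p) + dim(A/p) > d +
s. Assume the total right derived functor RΓ_m and derived I-adic completion exist on D(A). Then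
there is f ∈ A with f ∉ p annihilating the cohomology modules H^i of the derived I-adic completion
of RΓ_m(M) for all i ≤ s. -/
theorem result (A : Type u) [CommRing A] [IsNoetherianRing A] [IsLocalRing A] (hdc : ∃ ω : Dual.D A, Dual.IsDualizing A ω) (I : Ideal A) [DRing.HasRgammaI (IsLocalRing.maximalIdeal A)] [DRing.HasDerivedCompletion I] (M : Type u) [AddCommGroup M] [Module A M] [Module.Finite A M] (p : PrimeSpectrum A) (s d : ℕ) (h2 : LocCoh.CdLE A I d) (h3 : (((d + s : ℕ) : ℕ∞) : WithBot ℕ∞) < ((LocCoh.depth (Localization.AtPrime p.asIdeal) (LocalizedModule p.asIdeal.primeCompl M) : ℕ∞) : WithBot ℕ∞) + ringKrullDim (A ⧸ p.asIdeal)) : ∃ f : A, f ∉ p.asIdeal ∧ ∀ i : ℤ, i ≤ s → ∀ x : Dual.HD A ((DRing.derivedCompletion I).obj ((DRing.RgammaI (IsLocalRing.maximalIdeal A)).obj (Dual.inD A M))).obj i, f • x = 0 := by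
  letI := HasDerivedCategory.standard (ModuleCat.{u} A)
  obtain ⟨ω, hω⟩ := hdc
  obtain ⟨n, -, hcov, hmono, -⟩ := KFlatLib.exists_extDegree hω
  obtain ⟨e, he, he'⟩ := KFlatLib.ringKrullDim_quotient_eq hcov hmono p
  rw [he] at h3
  let m := IsLocalRing.maximalIdeal A
  obtain ⟨f, hf, hk⟩ := H1Falt.exists_notMem_killed hω M (K := I ⊔ m) (s := d + s) p
    fun p' q hp' hq hpq => by
      have hqm : q = IsLocalRing.closedPoint A := PrimeSpectrum.ext
        (le_antisymm (IsLocalRing.le_maximalIdeal q.isPrime.ne_top) (le_sup_right.trans hq))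
      subst hqm
      have h1 := H1Falt.depth_le_depth_add M n hmono hp'
      have h2 := hmono.monotone hp'
      rw [H1Falt.krullDim_Icc n hmono hcov hpq]
      generalize LocCoh.depth (Localization.AtPrime p'.asIdeal) (LocalizedModule p'.asIdeal.primeCompl M) = k' at h1 ⊢
      generalize LocCoh.depth (Localization.AtPrime p.asIdeal) (LocalizedModule p.asIdeal.primeCompl M) = k at h1 h3
      induction k' using ENat.recTopCoe with
      | top =>
        rw [← WithBot.coe_add, top_add]
        exact WithBot.coe_lt_coe.2 (ENat.natCast_lt_top _)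
      | coe k' =>
        induction k using ENat.recTopCoe with
        | top => exact absurd h1 (not_le.2 (ENat.natCast_lt_top _))
        | coe k =>
          suffices d + s < k' + (n (IsLocalRing.closedPoint A) - n p').toNat by exact_mod_cast this
          have h4 : d + s < k + e := by exact_mod_cast h3
          have h5 : k ≤ k' + (n p - n p').toNat := by exact_mod_cast h1
          omega
  exact ⟨f ^ (d + s + 1), fun h => hf (p.isPrime.mem_of_pow_mem _ h),
    H1Falt.killed_completion_RgammaI I m M h2 s f hk⟩

end Groth.Agent.S8794
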