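import Groth.Statements.S8795
import Groth.Agent.H1Falt.CompletionLocal
set_option linter.style.haveILetI false
set_option backward.isDefEq.respectTransparency false

set_option autoImplicit false
universe u
open CategoryTheory
attribute [local instance] HasDerivedCategory.standard
open LocCoh

namespace Groth.Agent.S8795

/-- Let (A, m) be a Noetherian local ring which is I-adically complete for an ideal I and has a
dualizing complex; let d be a natural with cd(A, I) ≤ d, M a finite A-module and s a natural. Assume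
that every prime p ∉ V(I) with V(p) ∩ V(I) ≠ {m} satisfies depth(M_p) ≥ s or depth(M_p) + dim(A/p) >
d + s, and that derived I-adic completion (left adjoint to the inclusion of derived complete
objects) exists on D(A). Then there is an ideal J₀ with V(J₀) ∩ V(I) = {m} such that for every ideal
J ⊆ J₀ with V(J) ∩ V(I) = {m} whose total right derived functor RΓ_J exists, the canonical map from
RΓ_J(M) to its derived I-adic completion induces a bijection on cohomology in every degree i ≤ s.
(The identification of that completion with the completion of RΓ_m(M) is not part of this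
statement.) -/
theorem result (A : Type u) [CommRing A] [IsNoetherianRing A] [IsLocalRing A] (I : Ideal A) [IsAdicComplete I A] (hdc : ∃ ω : Dual.D A, Dual.IsDualizing A ω) [DRing.HasDerivedCompletion I] (d : ℕ) (hcd : LocCoh.CdLE A I d) (M : Type u) [AddCommGroup M] [Module A M] [Module.Finite A M] (s : ℕ) (h4 : ∀ p : PrimeSpectrum A, ¬ I ≤ p.asIdeal → (∃ r : PrimeSpectrum A, p ≤ r ∧ I ≤ r.asIdeal ∧ r.asIdeal ≠ IsLocalRing.maximalIdeal A) → (s : ℕ∞) ≤ LocCoh.depth (Localization.AtPrime p.asIdeal) (LocalizedModule p.asIdeal.primeCompl M) ∨ (((d + s : ℕ) : ℕ∞) : WithBot ℕ∞) < ((LocCoh.depth (Localization.AtPrime p.asIdeal) (LocalizedModule p.asIdeal.primeCompl M) : ℕ∞) : WithBot ℕ∞) + ringKrullDim (A ⧸ p.asIdeal)) : ∃ J₀ : Ideal A, PrimeSpectrum.zeroLocus ((J₀ : Ideal A) : Set A) ∩ PrimeSpectrum.zeroLocus ((I : Ideal A) : Set A) = {IsLocalRing.closedPoint A} ∧ ∀ (J : Ideal A) [DRing.HasRgammaI J], J ≤ J₀ → PrimeSpectrum.zeroLocus ((J : Ideal A) : Set A) ∩ PrimeSpectrum.zeroLocus ((I : Ideal A)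 : Set A) = {IsLocalRing.closedPoint A} → ∀ i : ℤ, i ≤ s → Function.Bijective ((DerivedCategory.homologyFunctor (ModuleCat.{u} A) i).map (DRing.toDerivedCompletion I ((DRing.RgammaI J).obj (Dual.inD A M)))).hom := by
  letI := HasDerivedCategory.standard (ModuleCat.{u} A)
  obtain ⟨ω, hω⟩ := hdc
  let m := IsLocalRing.maximalIdeal A
  obtain ⟨n, -, hcov, hmono, -⟩ := KFlatLib.exists_extDegree hω
  have hIm : I ≤ m := (IsAdicComplete.le_jacobson_bot I).trans
    (IsLocalRing.jacobson_eq_maximalIdeal ⊥ bot_ne_top).le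
  have hle : ∀ p : PrimeSpectrum A, p ≤ IsLocalRing.closedPoint A := fun p =>
    IsLocalRing.le_maximalIdeal p.isPrime.ne_top
  have hVm : PrimeSpectrum.zeroLocus (m : Set A) ∩ PrimeSpectrum.zeroLocus (I : Set A) = {IsLocalRing.closedPoint A} := by
    ext x
    constructor
    · exact fun hx => PrimeSpectrum.ext (le_antisymm (hle x) hx.1)
    · rintro rfl
      exact ⟨le_refl m, hIm⟩
  have hdim : ∀ p : PrimeSpectrum A, Formal2.dimBetween A p.asIdeal (IsLocalRing.closedPoint A).asIdeal =
      ringKrullDim (A ⧸ p.asIdeal) := fun p => by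
    obtain ⟨e, he, he'⟩ := KFlatLib.ringKrullDim_quotient_eq hcov hmono p
    rw [H1Falt.dimBetween_eq (hle p), H1Falt.krullDim_Icc n hmono hcov (hle p), he,
      show (n (IsLocalRing.closedPoint A) - n p).toNat = e by omega]
    rfl
  let T : Set (PrimeSpectrum A) := {p | ∀ q : PrimeSpectrum A, p ≤ q → I ≤ q.asIdeal → m ≤ q.asIdeal}
  have hT : H1Falt.IsTSet I m T := fun p => Iff.rfl
  have hd := H1Falt.depthCond_T hω M hT (d := d) (s := s)
    (fun p hpI hpT => ⟨IsLocalRing.closedPoint A, hle p, le_refl m, hIm, by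
      haveI : IsLocalRing (A ⧸ p.asIdeal) := .of_surjective' _ Ideal.Quotient.mk_surjective
      rw [hdim p]
      refine (H1Falt.dim_le_of_cdLE (I := I.map (Ideal.Quotient.mk p.asIdeal)) ?_ (H1Falt.cdLE_quot I _ hcd)).trans le_rfl
      have hp := le_trans (le_refl p.asIdeal) (hle p)
      refine le_antisymm ((Ideal.IsPrime.radical_le_iff inferInstance).2 ?_) ?_
      · rw [← IsLocalRing.map_maximalIdeal_of_surjective (Ideal.Quotient.mk p.asIdeal) Ideal.Quotient.mk_surjective]
        exact Ideal.map_mono hIm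
      · rw [Ideal.radical_eq_sInf]
        refine le_sInf fun P hP => ?_
        haveI := hP.2
        let P' : PrimeSpectrum A := ⟨P.comap (Ideal.Quotient.mk p.asIdeal), inferInstance⟩
        have h := hpT P' (fun a ha => by
          show Ideal.Quotient.mk p.asIdeal a ∈ P
          rw [Ideal.Quotient.eq_zero_iff_mem.2 ha]
          exact zero_mem _) (Ideal.map_le_iff_le_comap.1 hP.1)
        rw [← IsLocalRing.map_maximalIdeal_of_surjective (Ideal.Quotient.mk p.asIdeal) Ideal.Quotient.mk_surjective]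
        exact Ideal.map_le_iff_le_comap.2 h⟩)
    (fun p hpI hpT q hpq hq hIq => by
      obtain rfl : q = IsLocalRing.closedPoint A := PrimeSpectrum.ext (le_antisymm (hle q) hq)
      rw [hdim p]
      refine h4 p hpI ?_
      have hpT' : ∃ r : PrimeSpectrum A, p ≤ r ∧ I ≤ r.asIdeal ∧ ¬ m ≤ r.asIdeal := by
        by_contra hc
        push Not at hc
        exact hpT hc
      obtain ⟨r, h1, h2, h3⟩ := hpT'
      exact ⟨r, h1, h2, fun h => h3 h.ge⟩)
  obtain ⟨J₀, hJ₀, hV, hcond⟩ := H1Falt.exists_J0 hω M hT hd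
  refine ⟨J₀, hV.trans hVm, fun J hJr hJ hVJ i hi => ?_⟩
  have hsub := H1Falt.IsTSet.zeroLocus_subset hT (hVJ.trans hVm.symm)
  obtain ⟨N, hN⟩ := H1Falt.killed_of_depthCond hω M (K := J) (K' := J * I) (hcond.mono hsub
    (PrimeSpectrum.zeroLocus_anti_mono (SetLike.coe_subset_coe.2 (Ideal.mul_mono_left hJ))))
  refine H1Falt.bijective_completion_local hω I J M hcd
    (fun q hqJ hqI => ?_) (fun j hj => ⟨N, fun r hr => hN r hr j hj⟩) (fun p hpI hpJ hpT => ?_) h4 i hi
  · exact (hVJ.le ⟨hqJ, hqI⟩ : q ∈ ({IsLocalRing.closedPoint A} : Set (PrimeSpectrum A)))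
  · refine H1Falt.natCast_lt_depth_of_lt M (hcond p p ?_ (fun q hpq hIq => (hpT q hpq hIq) ▸ le_refl m) le_rfl)
    rw [PrimeSpectrum.zeroLocus_mul]
    rintro (h | h)
    · exact hpJ (hJ.trans h)
    · exact hpI h

end Groth.Agent.S8795
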