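import Groth.Agent.FlatLoc6.Loc
import Groth.Agent.Alg6.LocLoc
import Groth.Agent.FormalFib6.Cplt
import Mathlib.RingTheory.AdicCompletion.AsTensorProduct
import Mathlib.RingTheory.Ideal.GoingDown
import Mathlib.RingTheory.Flat.FaithfullyFlat.Basic

/-!
# Depth at a prime through a punctured formal fibre
-/

namespace Groth.Agent.S8796Lib

universe u

open TensorProduct

theorem depth_eq_top_of_subsingleton (R : Type u) [CommRing R] [IsLocalRing R] (N : Type u) [AddCommGroup N]
    [Module R N] [Subsingleton N] : LocCoh.depth R N = ⊤ :=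
  if_pos (Subsingleton.elim _ _)

theorem exists_prime_over (R : Type u) [CommRing R] [IsLocalRing R] [IsNoetherianRing R] (J : Ideal R) (hJ : J ≠ ⊤)
    (P : Ideal R) [P.IsPrime] :
    ∃ P' : PrimeSpectrum (AdicCompletion J R),
      P'.asIdeal.comap (algebraMap R (AdicCompletion J R)) = P ∧
      ∀ Q : PrimeSpectrum (AdicCompletion J R), Q.asIdeal ≤ P'.asIdeal →
        P ≤ Q.asIdeal.comap (algebraMap R (AdicCompletion J R)) → Q.asIdeal = P'.asIdeal := by
  have fg : J.FG := IsNoetherian.noetherian _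
  let f := algebraMap R (AdicCompletion J R)
  have hev : ∀ x : R, AdicCompletion.evalOneₐ J (f x) = Ideal.Quotient.mk J x := fun x => by
    show AdicCompletion.evalOneₐ J (algebraMap R _ x) = _
    rw [AlgHom.commutes]; rfl
  let mbar : Ideal (R ⧸ J) := (IsLocalRing.maximalIdeal R).map (Ideal.Quotient.mk J)
  have hJm : J ≤ IsLocalRing.maximalIdeal R := IsLocalRing.le_maximalIdeal hJ
  have hne : P.map f ≠ ⊤ := by
    intro h
    have h1 : (P.map f).map (AdicCompletion.evalOneₐ J).toRingHom = ⊤ := by rw [h, Ideal.map_top]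
    rw [Ideal.map_map] at h1
    have h2 : P.map (Ideal.Quotient.mk J) = ⊤ := by
      rw [← h1]; congr 1
    have h3 := congrArg (Ideal.comap (Ideal.Quotient.mk J)) h2
    rw [Ideal.comap_map_of_surjective _ Ideal.Quotient.mk_surjective, ← RingHom.ker_eq_comap_bot, Ideal.mk_ker,
      Ideal.comap_top] at h3
    have h4 : P ⊔ J ≤ IsLocalRing.maximalIdeal R := sup_le (IsLocalRing.le_maximalIdeal ‹P.IsPrime›.ne_top) hJm
    exact (IsLocalRing.maximalIdeal.isMaximal R).ne_top (top_le_iff.mp (h3 ▸ h4))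
  obtain ⟨M, hM, hPM⟩ := Ideal.exists_le_maximal _ hne
  obtain ⟨P', hP', hP'M⟩ := Ideal.exists_minimalPrimes_le (J := M) hPM
  haveI : P'.IsPrime := hP'.1.1
  have hle : P ≤ P'.comap f := Ideal.map_le_iff_le_comap.mp hP'.1.2
  haveI : P'.LiesOver (P'.comap f) := ⟨rfl⟩
  obtain ⟨P'', hP''le, hP''prime, hP''over⟩ := Ideal.exists_ideal_le_liesOver_of_le (p := P) (q := P'.comap f) P' hle
  have hover : P = P''.comap f := hP''over.over
  have heq : P' ≤ P'' := hP'.2 ⟨hP''prime, Ideal.map_le_iff_le_comap.mpr hover.le⟩ hP''le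
  refine ⟨⟨P', inferInstance⟩, ?_, fun Q hQ hPQ => le_antisymm hQ (hP'.2 ⟨Q.2, Ideal.map_le_iff_le_comap.mpr hPQ⟩ hQ)⟩
  show P'.comap f = P
  rw [hover, le_antisymm hP''le heq]

theorem isMaximal_of_comap (R : Type u) [CommRing R] [IsLocalRing R] [IsNoetherianRing R] (J : Ideal R)
    (Q : Ideal (AdicCompletion J R)) [Q.IsPrime] (hJQ : J.map (algebraMap R (AdicCompletion J R)) ≤ Q)
    (hQ : Q.comap (algebraMap R (AdicCompletion J R)) = IsLocalRing.maximalIdeal R) : Q.IsMaximal := by
  have fg : J.FG := IsNoetherian.noetherian _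
  have hsurj : ∀ x : AdicCompletion J R, ∃ r : R, x - algebraMap R (AdicCompletion J R) r ∈ Q := by
    intro x
    obtain ⟨r, hr⟩ := Ideal.Quotient.mk_surjective (AdicCompletion.evalOneₐ J x)
    refine ⟨r, hJQ ?_⟩
    rw [← AdicCompletion.ker_evalOneₐ_eq_map J fg, RingHom.mem_ker]
    show AdicCompletion.evalOneₐ J (x - algebraMap R _ r) = 0
    rw [map_sub, AlgHom.commutes, sub_eq_zero, Ideal.Quotient.algebraMap_eq]
    exact hr.symm
  let g : R →+* AdicCompletion J R ⧸ Q := (Ideal.Quotient.mk Q).comp (algebraMap R _)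
  have hg : Function.Surjective g := fun y => by
    obtain ⟨x, rfl⟩ := Ideal.Quotient.mk_surjective y
    obtain ⟨r, hr⟩ := hsurj x
    exact ⟨r, (Ideal.Quotient.eq.mpr hr).symm⟩
  have hker : RingHom.ker g = IsLocalRing.maximalIdeal R := by
    rw [← hQ]; ext r
    rw [RingHom.mem_ker, Ideal.mem_comap, RingHom.comp_apply, Ideal.Quotient.eq_zero_iff_mem]
  haveI : (RingHom.ker g).IsMaximal := hker ▸ IsLocalRing.maximalIdeal.isMaximal R
  have hf : IsField (R ⧸ RingHom.ker g) := (Ideal.Quotient.maximal_ideal_iff_isField_quotient _).mp inferInstance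
  exact Ideal.Quotient.maximal_of_isField _ ((RingHom.quotientKerEquivOfSurjective hg).symm.toMulEquiv.isField hf)

/-- The depth at a prime of the base is the depth at a prime of the completion minimal over it. -/
theorem depth_completion_eq (R : Type u) [CommRing R] [IsLocalRing R] [IsNoetherianRing R] (J : Ideal R)
    (E : Type u) [AddCommGroup E] [Module R E] [Module.Finite R E] (P : Ideal R) [P.IsPrime]
    (P' : PrimeSpectrum (AdicCompletion J R))
    (hc : P'.asIdeal.comap (algebraMap R (AdicCompletion J R)) = P)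
    (hmin : ∀ Q : PrimeSpectrum (AdicCompletion J R), Q.asIdeal ≤ P'.asIdeal →
        P ≤ Q.asIdeal.comap (algebraMap R (AdicCompletion J R)) → Q.asIdeal = P'.asIdeal)
    (hE : (⟨P, ‹_›⟩ : PrimeSpectrum R) ∈ Module.support R E) :
    LocCoh.depth (Localization.AtPrime P'.asIdeal) (LocalizedModule P'.asIdeal.primeCompl (AdicCompletion J E)) =
      LocCoh.depth (Localization.AtPrime P) (LocalizedModule P.primeCompl E) := by
  haveI := FormalFib6.isNoetherianRing_adicCompletion R J
  haveI : Nontrivial (AdicCompletion J R) :=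
    ⟨⟨0, 1, fun h => P'.2.ne_top ((Ideal.eq_top_iff_one _).mpr (by rw [← h]; exact zero_mem _))⟩⟩
  have hF : (⟨P'.asIdeal, P'.2⟩ : PrimeSpectrum (AdicCompletion J R)) ∈
      Module.support (AdicCompletion J R) (AdicCompletion J R) := by
    rw [Module.support_eq_zeroLocus]
    intro x hx
    have : x = 0 := by simpa using (Module.mem_annihilator.mp hx) 1
    rw [this]; exact zero_mem _
  have h := (FlatLoc6.formulas_atPrime (A := R) (B := AdicCompletion J R) (AdicCompletion J R) E P P'.asIdeal hc hF hE).1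
  have h0 := (FlatLoc6.fib_zero_of_minimal (A := R) (B := AdicCompletion J R) (AdicCompletion J R) P'.asIdeal hF
    fun Q _ hQ hQ' => hmin Q hQ (hc ▸ hQ')).2
  let e : AdicCompletion J R ⊗[R] E ≃ₗ[AdicCompletion J R] AdicCompletion J E :=
    AdicCompletion.ofTensorProductEquivOfFiniteNoetherian J E
  haveI : IsNoetherianRing (Localization.AtPrime P'.asIdeal) :=
    IsLocalization.isNoetherianRing P'.asIdeal.primeCompl _ inferInstance
  rw [← Hensel.depth_congr (IsLocalizedModule.mapEquiv P'.asIdeal.primeCompl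
      (LocalizedModule.mkLinearMap P'.asIdeal.primeCompl (AdicCompletion J R ⊗[R] E))
      (LocalizedModule.mkLinearMap P'.asIdeal.primeCompl (AdicCompletion J E))
      (Localization.AtPrime P'.asIdeal) e), h, h0, add_zero]

end Groth.Agent.S8796Lib
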