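import Groth.Statements.S8796
import Groth.Agent.S8796Lib

set_option autoImplicit false
universe u
open CategoryTheory
open Dual2

namespace Groth.Agent.S8796

/-- Let A be a Noetherian ring with a dualizing complex, I an ideal with cd(A, I) ≤ d, M a finite
A-module, T ⊆ V(I) a subset stable under specialization and s a natural, satisfying: (4) for primes
p ⊆ r ⊆ q with p ∉ V(I), r ∈ V(I) ∖ T and q ∈ T, either depth(M_p) ≥ s or depth(M_p) + dim((A/p)_q)
> d + s; (6) for q ∈ T, writing A', I', M' for the I-adic completions of A_q, IA_q, M_q, one has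
depth(M'_{p'}) > s for every prime p' of A' not containing I' such that the only primes containing
both p' and I' are maximal. Let p ⊆ q be primes with p ∉ V(I) and q ∈ T such that no prime r with p
⊆ r ⊆ q lies in V(I) ∖ T. Then depth(M_p) > s. -/
theorem result (A : Type u) [CommRing A] [IsNoetherianRing A] (hdc : ∃ ω : Dual.D A, Dual.IsDualizing A ω) (I : Ideal A) (d : ℕ) (hcd : LocCoh.CdLE A I d) (M : Type u) [AddCommGroup M] [Module A M] [Module.Finite A M] (T : Set (PrimeSpectrum A)) (hTI : T ⊆ PrimeSpectrum.zeroLocus (I : Set A)) (hT : StableUnderSpecialization T) (s : ℕ) (h4 : ∀ p r q : PrimeSpectrum A, p ≤ r → r ≤ q → ¬ I ≤ p.asIdeal → I ≤ r.asIdeal → r ∉ T → q ∈ T → (s : ℕ∞) ≤ LocCoh.depth (Localization.AtPrime p.asIdeal) (LocalizedModule p.asIdeal.primeCompl M) ∨ ((d + s : ℕ) : WithBot ℕ∞) < (LocCoh.depth (Localization.AtPrime p.asIdeal) (LocalizedModule p.asIdeal.primeCompl M) : WithBot ℕ∞) + Formal2.dimBetween A p.asIdeal q.asIdeal) (h6 : ∀ q : PrimeSpectrum A, q ∈ T → ∀ p' :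 PrimeSpectrum (AdicCompletion (I.map (algebraMap A (Localization.AtPrime q.asIdeal))) (Localization.AtPrime q.asIdeal)), ¬ (I.map (algebraMap A (AdicCompletion (I.map (algebraMap A (Localization.AtPrime q.asIdeal))) (Localization.AtPrime q.asIdeal)))) ≤ p'.asIdeal → (∀ q' : PrimeSpectrum (AdicCompletion (I.map (algebraMap A (Localization.AtPrime q.asIdeal))) (Localization.AtPrime q.asIdeal)), p' ≤ q' → (I.map (algebraMap A (AdicCompletion (I.map (algebraMap A (Localization.AtPrime q.asIdeal))) (Localization.AtPrime q.asIdeal)))) ≤ q'.asIdeal → q'.asIdeal.IsMaximal) → (s : ℕ∞) < LocCoh.depth (Localization.AtPrime p'.asIdeal) (LocalizedModule p'.asIdeal.primeCompl (AdicCompletion (I.map (algebraMap A (Localization.AtPrime q.asIdeal))) (LocalizedModule q.asIdeal.primeCompl M)))) (p q : PrimeSpectrum A) (hpq : p ≤ q) (hp : ¬ I ≤ p.asIdeal) (hq : q ∈ T) (hr : ∀ r : PrimeSpectrum A, p ≤ r → r ≤ q → I ≤ r.asIdeal → r ∈ T) : (s : ℕ∞) < LocCoh.depth (Localization.AtPrime p.asIdeal) (LocalizedModule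 p.asIdeal.primeCompl M) := by
  obtain ⟨Q0, hQ0, hQ0q⟩ := Ideal.exists_minimalPrimes_le (I := p.asIdeal ⊔ I) (J := q.asIdeal)
    (sup_le hpq (hTI hq))
  haveI : Q0.IsPrime := hQ0.1.1
  let q0 : PrimeSpectrum A := ⟨Q0, inferInstance⟩
  have hpq0 : p ≤ q0 := le_sup_left.trans hQ0.1.2
  have hIq0 : I ≤ Q0 := le_sup_right.trans hQ0.1.2
  have hq0 : q0 ∈ T := hr q0 hpq0 hQ0q hIq0
  let R := Localization.AtPrime Q0
  let J : Ideal R := I.map (algebraMap A R)
  haveI : IsNoetherianRing R := IsLocalization.isNoetherianRing Q0.primeCompl _ inferInstance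
  have hdisj : Disjoint (Q0.primeCompl : Set A) (p.asIdeal : Set A) :=
    Set.disjoint_left.mpr fun x hx hx' => hx (hpq0 hx')
  let P : Ideal R := p.asIdeal.map (algebraMap A R)
  haveI : P.IsPrime := IsLocalization.isPrime_of_isPrime_disjoint Q0.primeCompl R _ p.2 hdisj
  have hPc : P.comap (algebraMap A R) = p.asIdeal :=
    IsLocalization.comap_map_of_isPrime_disjoint Q0.primeCompl R p.2 hdisj
  have hJ : J ≠ ⊤ := fun h => (IsLocalRing.maximalIdeal.isMaximal R).ne_top (top_le_iff.mp (by
    rw [← h, ← Localization.AtPrime.map_eq_maximalIdeal]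
    exact Ideal.map_mono hIq0))
  obtain ⟨P', hP'c, hP'min⟩ := S8796Lib.exists_prime_over R J hJ P
  let L := LocalizedModule Q0.primeCompl M
  have hpP : LocCoh.depth (Localization.AtPrime P) (LocalizedModule P.primeCompl L) =
      LocCoh.depth (Localization.AtPrime p.asIdeal) (LocalizedModule p.asIdeal.primeCompl M) := by
    rw [Alg6.depth_locLoc]
    have key : ∀ (p1 p2 : Ideal A) [p1.IsPrime] [p2.IsPrime], p1 = p2 →
        LocCoh.depth (Localization.AtPrime p1) (LocalizedModule p1.primeCompl M) =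
          LocCoh.depth (Localization.AtPrime p2) (LocalizedModule p2.primeCompl M) := by
      intro p1 p2 _ _ h
      subst h
      rfl
    exact key _ _ hPc
  rw [← hpP]
  by_cases hE : (⟨P, ‹_›⟩ : PrimeSpectrum R) ∈ Module.support R L
  · rw [← S8796Lib.depth_completion_eq R J L P P' hP'c hP'min hE]
    refine h6 q0 hq0 P' (fun hle => hp ?_) fun Q hQ hJQ => ?_
    · rw [← hPc, ← hP'c, Ideal.comap_comap, ← Ideal.map_le_iff_le_comap]
      refine le_trans ?_ hle
      rw [IsScalarTower.algebraMap_eq A R (AdicCompletion J R)]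
    · have hJQ' : J.map (algebraMap R (AdicCompletion J R)) ≤ Q.asIdeal := by
        refine le_trans ?_ hJQ
        rw [Ideal.map_map, ← IsScalarTower.algebraMap_eq]
      refine S8796Lib.isMaximal_of_comap R J Q.asIdeal hJQ' ?_
      let N : Ideal A := (Q.asIdeal.comap (algebraMap R (AdicCompletion J R))).comap (algebraMap A R)
      have hN1 : p.asIdeal ≤ N := by
        rw [← hPc, ← hP'c]
        exact Ideal.comap_mono (Ideal.comap_mono hQ)
      have hN2 : I ≤ N := Ideal.map_le_iff_le_comap.mp (Ideal.map_le_iff_le_comap.mp hJQ')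
      have hN3 : N ≤ Q0 := by
        intro a ha
        by_contra ha'
        exact (Ideal.IsPrime.comap (algebraMap R (AdicCompletion J R)) (K := Q.asIdeal)).ne_top
          (Ideal.eq_top_of_isUnit_mem _ ha (IsLocalization.map_units R (⟨a, ha'⟩ : Q0.primeCompl)))
      have hN : Q0 ≤ N := hQ0.2 ⟨inferInstance, sup_le hN1 hN2⟩ hN3
      refine le_antisymm (IsLocalRing.le_maximalIdeal (Ideal.IsPrime.ne_top inferInstance)) ?_
      rw [← Localization.AtPrime.map_eq_maximalIdeal, Ideal.map_le_iff_le_comap]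
      exact hN
  · haveI := Module.notMem_support_iff.mp hE
    rw [S8796Lib.depth_eq_top_of_subsingleton]
    exact WithTop.coe_lt_top s

end Groth.Agent.S8796
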