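import Groth.Statements.S8799
import Groth.Agent.S0817

set_option autoImplicit false
universe u
open CategoryTheory Opposite
open LocCoh

namespace Groth.Agent.S8799

open CategoryTheory Opposite in
theorem isEssConstant_of_artinian {A : Type u} [CommRing A] (X : ARSys.PS (ModuleCat.{u} A))
    [∀ n : ℕᵒᵖ, IsArtinian A (X.obj n)] (N : ModuleCat.{u} A) [IsArtinian A N]
    (c : (Functor.const ℕᵒᵖ).obj N ⟶ X)
    (hinj : ∀ x : N, (∀ n : ℕᵒᵖ, (c.app n) x = 0) → x = 0)
    (hsurj : ∀ y : (∀ n : ℕ, X.obj (op n)), (∀ (n m : ℕ) (h : n ≤ m), (X.map (homOfLE h).op) (y m) = y n) →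
      ∃ x : N, ∀ n : ℕ, (c.app (op n)) x = y n) :
    DerCA.IsEssConstant X N c := by
  classical
  let C : ∀ n : ℕ, N →ₗ[A] X.obj (op n) := fun n => (c.app (op n)).hom
  let T : ∀ {n m : ℕ}, n ≤ m → (X.obj (op m) →ₗ[A] X.obj (op n)) := fun h => (X.map (homOfLE h).op).hom
  have hTC : ∀ {n m : ℕ} (h : n ≤ m) (x : N), T h (C m x) = C n x := fun {n m} h x => by
    have := congrArg (fun f => f.hom x) (c.naturality (homOfLE h).op)
    simp only [ModuleCat.hom_comp, LinearMap.comp_apply, Functor.const_obj_map] at this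
    exact this.symm
  have hTT : ∀ {n m k : ℕ} (h₁ : n ≤ m) (h₂ : m ≤ k) (x : X.obj (op k)),
      T h₁ (T h₂ x) = T (h₁.trans h₂) x := fun {n m k} h₁ h₂ x => by
    show (X.map _).hom ((X.map _).hom x) = (X.map _).hom x
    rw [← LinearMap.comp_apply, ← ModuleCat.hom_comp, ← X.map_comp]
    rfl
  have hT1 : ∀ (n : ℕ) (x : X.obj (op n)), T (le_refl n) x = x := fun n x => by
    show (X.map _).hom x = x
    rw [show (homOfLE (le_refl n)).op = 𝟙 (op n) from rfl, X.map_id]
    rfl
  -- stable images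
  have hML : ∀ n : ℕ, ∃ m : ℕ, ∃ h : n ≤ m, ∀ k (hk : m ≤ k),
      LinearMap.range (T h) ≤ LinearMap.range (T (h.trans hk)) := by
    intro n
    obtain ⟨a, ha⟩ := IsArtinian.monotone_stabilizes (R := A)
      (⟨fun j => OrderDual.toDual (LinearMap.range (T (Nat.le_add_right n j))), fun a b hab =>
        show LinearMap.range (T (Nat.le_add_right n b)) ≤ LinearMap.range (T (Nat.le_add_right n a)) by
          rintro _ ⟨x, rfl⟩
          exact ⟨T (Nat.add_le_add_left hab n) x, hTT _ _ x⟩⟩ :
        ℕ →o (Submodule A (X.obj (op n)))ᵒᵈ)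
    refine ⟨n + a, Nat.le_add_right n a, fun k hk => ?_⟩
    obtain ⟨b, rfl⟩ : ∃ b, k = n + b := ⟨k - n, by omega⟩
    exact le_of_eq (congrArg OrderDual.ofDual (ha b (by omega)) :)
  choose m hnm hm using hML
  let E : ∀ n : ℕ, Submodule A (X.obj (op n)) := fun n => LinearMap.range (T (hnm n))
  have hEk : ∀ {n k : ℕ} (hk : m n ≤ k) (hn : n ≤ k) (x : X.obj (op k)), T hn x ∈ E n :=
    fun {n k} hk hn x => ⟨T hk x, hTT _ _ x⟩
  have hC : ∀ n : ℕ, LinearMap.range (C n) = E n := by
    intro n
    refine le_antisymm ?_ fun y hy => ?_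
    · rintro _ ⟨x, rfl⟩
      exact ⟨C (m n) x, hTC _ x⟩
    -- lift stable images one step
    have hup : ∀ j (y : X.obj (op j)), y ∈ E j → ∃ z ∈ E (j + 1), T (Nat.le_succ j) z = y := by
      intro j y hy
      have h1 : m j ≤ max (m j) (m (j + 1)) := le_max_left _ _
      obtain ⟨x, rfl⟩ := hm j _ h1 hy
      have h2 : m (j + 1) ≤ max (m j) (m (j + 1)) := le_max_right _ _
      exact ⟨T ((hnm (j + 1)).trans h2) x, hEk h2 _ x, hTT _ _ x⟩
    choose f hfE hf using hup
    let z : ∀ j : ℕ, {v : X.obj (op (n + j)) // v ∈ E (n + j)} := fun j =>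
      Nat.rec ⟨y, hy⟩ (fun j v => ⟨f _ v.1 v.2, hfE _ _ v.2⟩) j
    have hstep : ∀ j, T (Nat.le_succ (n + j)) (z (j + 1)).1 = (z j).1 := fun j => hf _ _ _
    have hz : ∀ j l : ℕ, T (Nat.add_le_add_left (Nat.le_add_right j l) n) (z (j + l)).1 = (z j).1 := by
      intro j l
      induction l with
      | zero => exact hT1 _ _
      | succ l ih =>
        rw [← ih]
        conv_rhs => rw [← hstep (j + l)]
        rw [hTT]
        rfl
    let w : ∀ j : ℕ, X.obj (op j) := fun j => T (Nat.le_add_left j n) (z j).1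
    obtain ⟨x, hx⟩ := hsurj w fun a b hab => by
      obtain ⟨l, rfl⟩ := Nat.le.dest hab
      show T hab (T _ (z (a + l)).1) = T _ (z a).1
      rw [← hz a l, hTT, hTT]
    refine ⟨x, ?_⟩
    have h0 := hx n
    change C n x = T _ (z n).1 at h0
    rw [h0]
    have hzn : ∀ l, T (Nat.le_add_right n l) (z l).1 = y := by
      intro l
      induction l with
      | zero => exact hT1 _ _
      | succ l ih => rw [← ih, ← hstep l, hTT]
    exact hzn n
  -- injectivity from some point on
  obtain ⟨a, ha⟩ := IsArtinian.monotone_stabilizes (R := A)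
    (⟨fun n => OrderDual.toDual (LinearMap.ker (C n)), fun p q hpq =>
      show LinearMap.ker (C q) ≤ LinearMap.ker (C p) from fun x hx => by
        rw [LinearMap.mem_ker] at hx ⊢
        rw [← hTC hpq, hx, map_zero]⟩ : ℕ →o (Submodule A N)ᵒᵈ)
  have hCa : Function.Injective (C a) := by
    rw [injective_iff_map_eq_zero]
    intro x hx
    refine hinj x fun n => ?_
    obtain ⟨n⟩ := n
    show C n x = 0
    rcases le_total a n with h | h
    · exact (congrArg OrderDual.ofDual (ha n h) : LinearMap.ker (C a) = LinearMap.ker (C n)).le hx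
    · rw [← hTC h, hx, map_zero]
  let e := LinearEquiv.ofInjective (C a) hCa
  let P : X.obj (op (m a)) →ₗ[A] LinearMap.range (C a) :=
    (T (hnm a)).codRestrict _ fun x => (hC a).ge ⟨x, rfl⟩
  let s : X.obj (op (m a)) →ₗ[A] N := e.symm.toLinearMap.comp P
  have hs : ∀ x, C a (s x) = T (hnm a) x := fun x => congrArg Subtype.val (e.apply_symm_apply (P x))
  refine ⟨m a, ModuleCat.ofHom s, ?_, fun j => ?_⟩
  · refine ModuleCat.hom_ext (LinearMap.ext fun x => hCa ?_)
    show C a (s (C (m a) x)) = C a x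
    rw [hs, hTC]
  · let J := max a j
    refine ⟨max (m a) (m J), le_max_left _ _,
      ((le_max_right a j).trans (hnm J)).trans (le_max_right _ _),
      ModuleCat.hom_ext (LinearMap.ext fun x => ?_)⟩
    have hJ : J ≤ max (m a) (m J) := (hnm J).trans (le_max_right _ _)
    obtain ⟨z, hz⟩ := (hC J).ge (hEk (le_max_right (m a) (m J)) hJ x)
    show T _ x = C j (s (T (le_max_left (m a) (m J)) x))
    have hz' : s (T (le_max_left (m a) (m J)) x) = z := hCa (by
      rw [hs, hTT, ← hTT (le_max_left a j) hJ x, ← hz, hTC])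
    rw [hz', ← hTC (le_max_right a j) z, hz, hTT]

/-- Let (A, m) be a Noetherian local ring, (M_n) an inverse system of finite A-modules, and M a finite
A-module with a compatible system of maps M → M_n. Suppose that for some i the induced map H^i_m(M)
→ lim H^i_m(M_n) on local cohomology is bijective, in the sense that an element of H^i_m(M)
vanishing in every H^i_m(M_n) is zero and every compatible family in the H^i_m(M_n) comes from
H^i_m(M). We conclude that, taking the cone formed by the given maps, essential constancy holds for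
the local cohomology system (H^i_m(M_n))_n, and the value it stabilizes at is H^i_m(M). -/
theorem result (A : Type u) [CommRing A] [IsNoetherianRing A] [IsLocalRing A] (Msys : ℕᵒᵖ ⥤ ModuleCat.{u} A) (hfin : ∀ n : ℕᵒᵖ, Module.Finite A (Msys.obj n)) (M : Type u) [AddCommGroup M] [Module A M] [Module.Finite A M] (c : (Functor.const ℕᵒᵖ).obj (ModuleCat.of A M) ⟶ Msys) (i : ℕ) (Hc : (Functor.const ℕᵒᵖ).obj ((localCohomology (IsLocalRing.maximalIdeal A) i).obj (ModuleCat.of A M)) ⟶ Msys ⋙ localCohomology (IsLocalRing.maximalIdeal A) i) (hHc : ∀ n : ℕᵒᵖ, Hc.app n = (localCohomology (IsLocalRing.maximalIdeal A) i).map (c.app n)) (hinj : ∀ x : (localCohomology (IsLocalRing.maximalIdeal A) i).obj (ModuleCat.of A M), (∀ n : ℕᵒᵖ, (Hc.app n) x = 0) → x = 0) (hsurj : ∀ y : (∀ n : ℕ, (localCohomology (IsLocalRing.maximalIdeal A) i).obj (Msys.obj (op n))), (∀ (n m : ℕ) (h : n ≤ m), ((localCohomology (IsLocalRing.maximalIdeal A) i).map (Msys.map (homOfLE h).op)) (y m) = y n) → ∃ x : (localCohomology (IsLocalRing.maximalIdeal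 A) i).obj (ModuleCat.of A M), ∀ n : ℕ, (Hc.app (op n)) x = y n) : DerCA.IsEssConstant (Msys ⋙ localCohomology (IsLocalRing.maximalIdeal A) i) ((localCohomology (IsLocalRing.maximalIdeal A) i).obj (ModuleCat.of A M)) Hc := by
  have : IsArtinian A ((localCohomology (IsLocalRing.maximalIdeal A) i).obj (ModuleCat.of A M)) :=
    Groth.Agent.S0817.result A M i
  have : ∀ n : ℕᵒᵖ, IsArtinian A ((Msys ⋙ localCohomology (IsLocalRing.maximalIdeal A) i).obj n) :=
    fun n => by
      haveI := hfin n
      exact Groth.Agent.S0817.result A (Msys.obj n) i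
  exact isEssConstant_of_artinian _ _ Hc hinj hsurj

end Groth.Agent.S8799
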