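import Groth.Statements.S8802
import Groth.Agent.GradExt.Canon

set_option autoImplicit false
universe u
open CategoryTheory AlgebraicGeometry Opposite
open Algz

namespace Groth.Agent.S8802

/-- Let A be a Noetherian ring, I ⊆ 𝔞 ideals, U the complement of V(𝔞) in Spec A, and (F_n) an object of
Coh(U, IO_U), indexed here from 0. Assume: (1) there are f_1, …, f_d ∈ I such that for every point y
of U lying in V(I) the ideal IO_{U,y} is generated by the images of f_1, …, f_d and f_1, …, f_d form
a regular sequence on the completed stalk F^∧_y over the completed local ring; (2) writing F_0 for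
the first term of the system, both cohomology groups H^1(U, F_0) and H^0(U, F_0) are finitely
generated over A. Under these hypotheses the system (F_n) admits a canonical extension to all of
Spec A. -/
theorem result (A : Type u) [CommRing A] [IsNoetherianRing A] (I 𝔞 : Ideal A) (hI𝔞 : I ≤ 𝔞) (G : ℕᵒᵖ ⥤ (↑(LocCoh.puncturedOpen A 𝔞) : Scheme.{u}).Modules) (hG : Formal.IsCohFormal I G) (d : ℕ) (f : Fin d → A) (hfI : ∀ j, f j ∈ I) (h1 : ∀ (y : (↑(LocCoh.puncturedOpen A 𝔞) : Scheme.{u})), (LocCoh.puncturedOpen A 𝔞).ι.base y ∈ PrimeSpectrum.zeroLocus (R := A) I → Algz.stalkIdeal I y = Ideal.span (Set.range (fun j => Algz.toStalk A (↑(LocCoh.puncturedOpen A 𝔞) : Scheme.{u}) y (f j))) ∧ RingTheory.Sequence.IsRegular ↥(Algz.hatStalk I G y) (List.ofFn (fun j => algebraMap ((↑(LocCoh.puncturedOpen A 𝔞) : Scheme.{u}).presheaf.stalk y) (Algz.hatRing I y) (Algz.toStalk A (↑(LocCoh.puncturedOpen A 𝔞) : Scheme.{u}) y (f j))))) (h2 : Module.Finite A (Coh.HH (↑(LocCoh.puncturedOpen A 𝔞) : Scheme.{u}) (G.obj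 (op 0)) 0) ∧ Module.Finite A (Coh.HH (↑(LocCoh.puncturedOpen A 𝔞) : Scheme.{u}) (G.obj (op 0)) 1)) : Algz.CanonicallyExtends A I (LocCoh.puncturedOpen A 𝔞) G := by
  classical
  refine Groth.Agent.GradExt.canonicallyExtends_of_indep (J := Ideal.span (Set.range f)) _ hG
    (Ideal.span_le.2 (by rintro _ ⟨j, rfl⟩; exact hfI j)) (fun x hx => ?_) (fun n => ?_) h2.1 h2.2
  · rw [Ideal.map_span, ← Set.range_comp]
    exact (h1 x (show (I : Set A) ⊆ _ from hx)).1
  · obtain ⟨s, b, hb, hbI⟩ := Groth.Agent.GradExt.exists_indep_gens d f (n + 1)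
    refine ⟨s, b, hb, fun x hx => hbI _ _ _ fun k m hm => ?_⟩
    have hreg := (h1 x (show (I : Set A) ⊆ _ from hx)).2.toIsWeaklyRegular.regular_mod_prev k (by simp)
    rw [isSMulRegular_quotient_iff_mem_of_smul_mem] at hreg
    let ψ := Groth.Agent.GradExt.hatHom (LocCoh.puncturedOpen A 𝔞) I x
    have hset : Ideal.ofList ((List.ofFn fun j => ψ (f j)).take k) = (Ideal.span (f '' Set.Iio k)).map ψ := by
      rw [Ideal.map_span, Ideal.ofList, ← Set.image_comp]
      congr 1
      ext y
      simp only [Set.mem_setOf_eq, List.mem_take_iff_getElem, List.length_ofFn, List.getElem_ofFn,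
        Set.mem_image, Set.mem_Iio, Function.comp_apply]
      constructor
      · rintro ⟨j, hj, rfl⟩
        exact ⟨⟨j, by omega⟩, by show j < (k : ℕ); omega, rfl⟩
      · rintro ⟨j, hj, rfl⟩
        exact ⟨j, by simp only [lt_min_iff]; exact ⟨hj, j.2⟩, rfl⟩
    rw [← hset] at hm ⊢
    refine hreg m ?_
    rw [List.getElem_ofFn]
    exact hm

end Groth.Agent.S8802
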