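import Groth.Statements.S8806
import Mathlib.Algebra.Homology.DerivedCategory.FullyFaithful
import Mathlib.Algebra.Homology.DerivedCategory.ShortExact
import Mathlib.Algebra.Homology.DerivedCategory.Ext.EnoughProjectives
import Mathlib.Algebra.Homology.HomologicalComplexAbelian
import Mathlib.RingTheory.Extension.Presentation.Submersive
import Mathlib.RingTheory.Extension.Cotangent.Basic
import Mathlib.LinearAlgebra.Matrix.Adjugate

set_option autoImplicit false
universe u
open CategoryTheory
attribute [local instance] HasDerivedCategory.standard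
open LCI

namespace Groth.Agent.S8806

open MvPolynomial Algebra in
theorem transfer_self {R S : Type u} [CommRing R] [CommRing S] [Algebra R S] {ι : Type} (P : Generators R S ι) :
    ∃ (α : (Generators.self R S).toExtension.CotangentSpace →ₗ[S] P.toExtension.CotangentSpace)
      (β : (Generators.self R S).toExtension.Cotangent →ₗ[S] P.toExtension.Cotangent)
      (β' : P.toExtension.Cotangent →ₗ[S] (Generators.self R S).toExtension.Cotangent)
      (α' : P.toExtension.CotangentSpace →ₗ[S] (Generators.self R S).toExtension.CotangentSpace)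
      (σ : (Generators.self R S).toExtension.CotangentSpace →ₗ[S] (Generators.self R S).toExtension.Cotangent),
      (∀ x, α ((Generators.self R S).toExtension.cotangentComplex x) = P.toExtension.cotangentComplex (β x)) ∧
      (∀ x, α' (P.toExtension.cotangentComplex x) = (Generators.self R S).toExtension.cotangentComplex (β' x)) ∧
      (∀ x, x = β' (β x) + σ ((Generators.self R S).toExtension.cotangentComplex x)) ∧
      (∀ y, y = α' (α y) + (Generators.self R S).toExtension.cotangentComplex (σ y)) := by
  let G := (Generators.self R S).toExtension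
  let a := ((Generators.self R S).defaultHom P).toExtensionHom
  let b := (P.defaultHom (Generators.self R S)).toExtensionHom
  refine ⟨Extension.CotangentSpace.map a, Extension.Cotangent.map a, Extension.Cotangent.map b,
    Extension.CotangentSpace.map b, (Extension.Hom.id G).sub (b.comp a), fun x => ?_, fun x => ?_, fun x => ?_, fun y => ?_⟩
  · exact Extension.CotangentSpace.map_cotangentComplex a x
  · exact Extension.CotangentSpace.map_cotangentComplex b x
  · have h := LinearMap.congr_fun (Extension.Cotangent.map_sub_map (Extension.Hom.id G) (b.comp a)) x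
    rw [LinearMap.sub_apply, Extension.Cotangent.map_id, Extension.Cotangent.map_comp] at h
    exact (eq_add_of_sub_eq h).trans (add_comm _ _)
  · have h := LinearMap.congr_fun (Extension.CotangentSpace.map_sub_map (Extension.Hom.id G) (b.comp a)) y
    rw [LinearMap.sub_apply, Extension.CotangentSpace.map_id, Extension.CotangentSpace.map_comp] at h
    exact (eq_add_of_sub_eq h).trans (add_comm _ _)

open MvPolynomial Algebra in
/-- Adjugate contraction on the presentation. -/
theorem presentation_factors {A : Type u} [CommRing A] {n m : ℕ} (f : Fin m → MvPolynomial (Fin n) A) (hmn : m ≤ n)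
    {N : Type u} [AddCommGroup N] [Module (MvPolynomial (Fin n) A ⧸ Ideal.span (Set.range f)) N]
    (ψ : (Presentation.naive (v := f)).toExtension.Cotangent →ₗ[MvPolynomial (Fin n) A ⧸ Ideal.span (Set.range f)] N) :
    ∃ χ : (Presentation.naive (v := f)).toExtension.CotangentSpace →ₗ[MvPolynomial (Fin n) A ⧸ Ideal.span (Set.range f)] N,
      (∀ x, Ideal.Quotient.mk (Ideal.span (Set.range f))
        (Matrix.det (Matrix.of fun i j : Fin m => pderiv (Fin.castLE hmn i) (f j))) • ψ x =
          χ ((Presentation.naive (v := f)).toExtension.cotangentComplex x)) ∧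
      ∀ (l : Fin n) (hl : (l : ℕ) < m), χ ((Presentation.naive (v := f)).cotangentSpaceBasis l) =
        ∑ j, ((Matrix.of fun i j : Fin m => pderiv (Fin.castLE hmn i) (f j)).map
          (Ideal.Quotient.mk (Ideal.span (Set.range f)))).adjugate j ⟨l, hl⟩ •
          ψ (Extension.Cotangent.mk ⟨f j, (Presentation.naive (v := f)).relation_mem_ker j⟩) := by
  classical
  let S := MvPolynomial (Fin n) A ⧸ Ideal.span (Set.range f)
  let P : Presentation A S (Fin n) (Fin m) := Presentation.naive (v := f)
  let J : Matrix (Fin m) (Fin m) S :=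
    (Matrix.of fun i j : Fin m => pderiv (Fin.castLE hmn i) (f j)).map (Ideal.Quotient.mk _)
  let cl : Fin m → P.toExtension.Cotangent := fun j => Extension.Cotangent.mk ⟨f j, P.relation_mem_ker j⟩
  let bv : Fin n → N := fun l => if h : (l : ℕ) < m then ∑ j, J.adjugate j ⟨l, h⟩ • ψ (cl j) else 0
  let χ : P.toExtension.CotangentSpace →ₗ[S] N := P.cotangentSpaceBasis.constr S bv
  have hdet : Ideal.Quotient.mk (Ideal.span (Set.range f))
      (Matrix.det (Matrix.of fun i j : Fin m => pderiv (Fin.castLE hmn i) (f j))) = J.det := RingHom.map_det _ _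
  have haev : ∀ p : MvPolynomial (Fin n) A, aeval P.val p = Ideal.Quotient.mk (Ideal.span (Set.range f)) p := fun p => by
    refine congr($(show aeval (R := A) P.val = Ideal.Quotient.mkₐ A _ from algHom_ext fun i => ?_) p)
    simp [P]
    rfl
  have hgen : ∀ k, J.det • ψ (cl k) = χ (P.toExtension.cotangentComplex (cl k)) := by
    intro k
    have hrepr : ∀ l, P.cotangentSpaceBasis.repr (P.toExtension.cotangentComplex (cl k)) l =
        Ideal.Quotient.mk _ (pderiv l (f k)) := fun l => by
      rw [Extension.cotangentComplex_mk]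
      erw [Generators.cotangentSpaceBasis_repr_one_tmul]
      exact haev _
    rw [show χ (P.toExtension.cotangentComplex (cl k)) = ∑ l, P.cotangentSpaceBasis.repr (P.toExtension.cotangentComplex (cl k)) l • bv l from
      Module.Basis.constr_apply_fintype _ _ _ _]
    simp only [hrepr]
    rw [← Finset.sum_subset (Finset.subset_univ (Finset.univ.map (Fin.castLEEmb hmn))) (fun l _ hl => by
      have : ¬ (l : ℕ) < m := fun h => hl (Finset.mem_map.2 ⟨⟨l, h⟩, Finset.mem_univ _, Fin.ext rfl⟩)
      simp [bv, this])]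
    rw [Finset.sum_map]
    simp only [bv, Fin.castLEEmb_apply, Fin.val_castLE, Fin.is_lt, dite_true, Fin.eta, Finset.smul_sum, smul_smul]
    rw [Finset.sum_comm]
    have hmul := Matrix.adjugate_mul J
    calc J.det • ψ (cl k) = ∑ j, (J.adjugate * J) j k • ψ (cl j) := by
          rw [hmul, Finset.sum_eq_single k (fun j _ hj => by rw [Matrix.smul_apply, Matrix.one_apply_ne hj, smul_zero]; exact zero_smul S (ψ (cl j))) (fun h => absurd (Finset.mem_univ k) h)]
          simp
      _ = _ := by
          refine Finset.sum_congr rfl fun j _ => ?_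
          rw [Matrix.mul_apply, Finset.sum_smul]
          refine Finset.sum_congr rfl fun i _ => ?_
          rw [mul_comm]
          rfl
  refine ⟨χ, fun x => ?_, fun l hl => ?_⟩
  case refine_2 =>
    exact (P.cotangentSpaceBasis.constr_basis S bv l).trans (dif_pos hl)
  rw [hdet]
  obtain ⟨⟨p, hp⟩, rfl⟩ := Extension.Cotangent.mk_surjective x
  have hp' : p ∈ Ideal.span (Set.range P.relation) := P.span_range_relation_eq_ker.ge hp
  let F : Fin m → P.toExtension.Ring := f
  obtain ⟨c, hc⟩ : ∃ c : Fin m → P.toExtension.Ring, ∑ k, c k * F k = p := by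
    obtain ⟨c, hc⟩ := (Submodule.mem_span_range_iff_exists_fun (MvPolynomial (Fin n) A) (v := f) (x := (p : MvPolynomial (Fin n) A))).1 hp'
    exact ⟨c, hc⟩
  have hsum : Extension.Cotangent.mk (⟨p, hp⟩ : P.toExtension.ker) = ∑ k, algebraMap P.toExtension.Ring S (c k) • cl k := by
    have : (⟨p, hp⟩ : P.toExtension.ker) =
        ∑ k, (c k : P.toExtension.Ring) • (⟨f k, P.relation_mem_ker k⟩ : P.toExtension.ker) := Subtype.ext (by
      simp only [Submodule.coe_sum, Submodule.coe_smul]
      exact hc.symm)
    rw [this, map_sum]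
    refine Finset.sum_congr rfl fun k _ => ?_
    rw [map_smul, algebraMap_smul]
  rw [hsum]
  simp only [map_sum, map_smul, Finset.smul_sum]
  refine Finset.sum_congr rfl fun k _ => ?_
  rw [smul_comm]
  exact congrArg _ (hgen k)

open MvPolynomial Algebra in
theorem self_factors {A : Type u} [CommRing A] {n m : ℕ} (f : Fin m → MvPolynomial (Fin n) A) (hmn : m ≤ n)
    {N : Type u} [AddCommGroup N] [Module (MvPolynomial (Fin n) A ⧸ Ideal.span (Set.range f)) N]
    (ψ : (Generators.self A (MvPolynomial (Fin n) A ⧸ Ideal.span (Set.range f))).toExtension.Cotangent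
      →ₗ[MvPolynomial (Fin n) A ⧸ Ideal.span (Set.range f)] N) :
    ∃ χ : (Generators.self A (MvPolynomial (Fin n) A ⧸ Ideal.span (Set.range f))).toExtension.CotangentSpace
        →ₗ[MvPolynomial (Fin n) A ⧸ Ideal.span (Set.range f)] N,
      Ideal.Quotient.mk (Ideal.span (Set.range f))
        (Matrix.det (Matrix.of fun i j : Fin m => pderiv (Fin.castLE hmn i) (f j))) • ψ =
          χ ∘ₗ (Generators.self A (MvPolynomial (Fin n) A ⧸ Ideal.span (Set.range f))).toExtension.cotangentComplex := by
  obtain ⟨α, β, β', α', σ, h1, -, h3, -⟩ := transfer_self (Presentation.naive (v := f)).toGenerators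
  obtain ⟨χ', hχ', -⟩ := presentation_factors f hmn (ψ ∘ₗ β')
  refine ⟨χ' ∘ₗ α + (Ideal.Quotient.mk (Ideal.span (Set.range f))
    (Matrix.det (Matrix.of fun i j : Fin m => pderiv (Fin.castLE hmn i) (f j)))) • (ψ ∘ₗ σ), LinearMap.ext fun x => ?_⟩
  simp only [LinearMap.smul_apply, LinearMap.comp_apply, LinearMap.add_apply, h1]
  conv_lhs => rw [h3 x, map_add, smul_add]
  exact congrArg (· + _) (hχ' (β x))

open MvPolynomial Algebra in
theorem self_nullhomotopic {A : Type u} [CommRing A] {n : ℕ} (f : Fin n → MvPolynomial (Fin n) A) :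
    let g : MvPolynomial (Fin n) A ⧸ Ideal.span (Set.range f) := Ideal.Quotient.mk (Ideal.span (Set.range f))
        (Matrix.det (Matrix.of fun i j : Fin n => pderiv (Fin.castLE le_rfl i) (f j)))
    let G := (Generators.self A (MvPolynomial (Fin n) A ⧸ Ideal.span (Set.range f))).toExtension
    ∃ H : G.CotangentSpace →ₗ[MvPolynomial (Fin n) A ⧸ Ideal.span (Set.range f)] G.Cotangent,
      H ∘ₗ G.cotangentComplex = g • LinearMap.id ∧ G.cotangentComplex ∘ₗ H = g • LinearMap.id := by
  classical
  intro g G
  let S := MvPolynomial (Fin n) A ⧸ Ideal.span (Set.range f)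
  let P : Presentation A S (Fin n) (Fin n) := Presentation.naive (v := f)
  obtain ⟨α, β, β', α', σ, h1, h2, h3, h4⟩ := transfer_self P.toGenerators
  obtain ⟨h, hh, hb⟩ := presentation_factors f le_rfl (LinearMap.id : P.toExtension.Cotangent →ₗ[S] _)
  have hd : P.toExtension.cotangentComplex ∘ₗ h = g • LinearMap.id := by
    refine P.cotangentSpaceBasis.ext fun l => P.cotangentSpaceBasis.repr.injective (Finsupp.ext fun i => ?_)
    let J : Matrix (Fin n) (Fin n) S :=
      (Matrix.of fun i j : Fin n => pderiv (Fin.castLE le_rfl i) (f j)).map (Ideal.Quotient.mk _)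
    have haev : ∀ p : MvPolynomial (Fin n) A, aeval P.val p = Ideal.Quotient.mk (Ideal.span (Set.range f)) p := fun p => by
      refine congr($(show aeval (R := A) P.val = Ideal.Quotient.mkₐ A _ from algHom_ext fun i => ?_) p)
      simp [P]
      rfl
    rw [LinearMap.comp_apply, hb l l.isLt, LinearMap.smul_apply, LinearMap.id_apply, map_sum]
    simp only [LinearMap.id_apply, map_smul, map_sum, Finsupp.coe_finset_sum, Finset.sum_apply, Finsupp.smul_apply,
      Module.Basis.repr_self, smul_eq_mul]
    have hrepr : ∀ j, P.cotangentSpaceBasis.repr (P.toExtension.cotangentComplex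
        (Extension.Cotangent.mk ⟨f j, P.relation_mem_ker j⟩)) i = J i j := fun j => by
      rw [Extension.cotangentComplex_mk]
      erw [Generators.cotangentSpaceBasis_repr_one_tmul]
      exact haev _
    rw [show g = J.det from RingHom.map_det _ _]
    calc _ = (J * J.adjugate) i l := by
          rw [Matrix.mul_apply]
          exact Finset.sum_congr rfl fun j _ => by rw [hrepr]; exact mul_comm _ _
      _ = _ := by
          rw [Matrix.mul_adjugate, Matrix.smul_apply, Matrix.one_apply, smul_eq_mul, Finsupp.single_apply]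
          simp only [eq_comm (a := i) (b := l)]
  refine ⟨β' ∘ₗ h ∘ₗ α + g • σ, LinearMap.ext fun x => ?_, LinearMap.ext fun y => ?_⟩
  · simp only [LinearMap.comp_apply, LinearMap.add_apply, LinearMap.smul_apply, LinearMap.id_apply]
    rw [h1, show h (P.toExtension.cotangentComplex (β x)) = g • β x from (hh (β x)).symm, map_smul, ← smul_add]
    exact congrArg (g • ·) (h3 x).symm
  · have hy : P.toExtension.cotangentComplex (h (α y)) = g • α y := LinearMap.congr_fun hd (α y)
    simp only [LinearMap.comp_apply, LinearMap.add_apply, LinearMap.smul_apply, LinearMap.id_apply, map_add, map_smul]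
    rw [show G.cotangentComplex (β' (h (α y))) = α' (P.toExtension.cotangentComplex (h (α y))) from (h2 _).symm, hy,
      map_smul, ← smul_add]
    exact congrArg (g • ·) (h4 y).symm

open Pretriangulated in
theorem sf_map {C : Type (u+1)} [Category.{u} C] [Abelian C] [HasDerivedCategory.{u+1} C] (n : ℤ) {X Y : C} (f : X ⟶ Y) :
    DerivedCategory.Q.map ((HomologicalComplex.single C (ComplexShape.up ℤ) n).map f) =
      (DerivedCategory.singleFunctor C n).map f := by
  have h := ((DerivedCategory.singleFunctorsPostcompQIso C).hom.hom n).naturality f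
  rw [DerivedCategory.singleFunctorsPostcompQIso_hom_hom] at h
  exact ((Category.comp_id _).symm.trans h).trans (Category.id_comp _) |>.symm

open HomologicalComplex Pretriangulated in
theorem smul_hom_eq_zero {B : Type u} [CommRing B] {X₀ X₁ N : ModuleCat.{u} B} [CategoryTheory.Projective X₁]
    (d : X₀ ⟶ X₁) (g : B) (hfac : ∀ ψ : X₀ →ₗ[B] N, ∃ χ : X₁ →ₗ[B] N, g • ψ = χ ∘ₗ d.hom)
    (φ : DerivedCategory.Q.obj (double d (show (ComplexShape.up ℤ).Rel (-1) 0 by simp)) ⟶
      ((DerivedCategory.singleFunctor (ModuleCat.{u} B) 0).obj N)⟦(1 : ℤ)⟧) : g • φ = 0 := by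
  have hr : (ComplexShape.up ℤ).Rel (-1) 0 := by simp
  let K := double d hr
  let i₀ := doubleXIso₀ d hr
  let i₁ := doubleXIso₁ d hr (by decide)
  let P₁ := (single (ModuleCat.{u} B) (ComplexShape.up ℤ) 0).obj X₁
  let P₀ := (single (ModuleCat.{u} B) (ComplexShape.up ℤ) (-1)).obj X₀
  let ι : P₁ ⟶ K := mkHomFromSingle i₁.inv fun k hk => by
    have : Limits.IsZero (K.X k) := isZero_double_X d hr k (by simp at hk; omega) (by simp at hk; omega)
    exact this.eq_of_tgt _ _
  let π : K ⟶ P₀ := mkHomToSingle i₀.hom fun k hk => by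
    have : Limits.IsZero (K.X k) := isZero_double_X d hr k (by simp at hk; omega) (by simp at hk; omega)
    exact this.eq_of_src _ _
  have hz : ι ≫ π = 0 := by
    refine HomologicalComplex.hom_ext _ _ fun k => ?_
    by_cases hk : k = 0
    · subst hk
      exact (isZero_single_obj_X (ComplexShape.up ℤ) (-1) X₀ (0 : ℤ) (by omega)).eq_of_tgt _ _
    · exact (isZero_single_obj_X (ComplexShape.up ℤ) 0 X₁ k hk).eq_of_src _ _
  let S : ShortComplex (CochainComplex (ModuleCat.{u} B) ℤ) := ShortComplex.mk ι π hz
  have hS : S.ShortExact := shortExact_of_degreewise_shortExact S fun k => by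
    refine ShortComplex.Splitting.shortExact (if hk : k = 0 then ?_ else if hk' : k = -1 then ?_ else ?_)
    · subst hk
      exact
        { r := i₁.hom ≫ (singleObjXSelf (ComplexShape.up ℤ) (0 : ℤ) X₁).inv
          s := 0
          f_r := by
            show ι.f 0 ≫ i₁.hom ≫ _ = 𝟙 _
            rw [mkHomFromSingle_f]
            simp
          s_g := (isZero_single_obj_X (ComplexShape.up ℤ) (-1) X₀ (0 : ℤ) (by omega)).eq_of_src _ _
          id := show (i₁.hom ≫ (singleObjXSelf (ComplexShape.up ℤ) (0 : ℤ) X₁).inv) ≫ ι.f 0 +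
              π.f 0 ≫ (0 : P₀.X 0 ⟶ K.X 0) = 𝟙 (K.X 0) by
            rw [mkHomFromSingle_f]
            simp [K] }
    · subst hk'
      exact
        { r := 0
          s := (singleObjXSelf (ComplexShape.up ℤ) (-1 : ℤ) X₀).hom ≫ i₀.inv
          f_r := (isZero_single_obj_X (ComplexShape.up ℤ) 0 X₁ (-1 : ℤ) (by omega)).eq_of_src _ _
          s_g := by
            show (_ ≫ i₀.inv) ≫ π.f (-1) = 𝟙 _
            rw [mkHomToSingle_f]
            simp
          id := show (0 : K.X (-1) ⟶ P₁.X (-1)) ≫ ι.f (-1) + π.f (-1) ≫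
              (singleObjXSelf (ComplexShape.up ℤ) (-1 : ℤ) X₀).hom ≫ i₀.inv = 𝟙 (K.X (-1)) by
            rw [mkHomToSingle_f]
            simp [K] }
    · exact
        { r := 0
          s := 0
          f_r := (isZero_single_obj_X (ComplexShape.up ℤ) 0 X₁ k hk).eq_of_src _ _
          s_g := (isZero_single_obj_X (ComplexShape.up ℤ) (-1) X₀ k hk').eq_of_src _ _
          id := (isZero_double_X d hr k hk' hk).eq_of_src _ _ }
  let σ := ((DerivedCategory.singleFunctors (ModuleCat.{u} B)).shiftIso 1 (-1) 0 (by omega)).app N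
  let φ' := φ ≫ σ.hom
  have h1 : DerivedCategory.Q.map ι ≫ φ' = 0 :=
    DerivedCategory.from_singleFunctor_obj_eq_zero_of_projective (P := X₁)
      (L := (CochainComplex.singleFunctor (ModuleCat.{u} B) (-1)).obj N) (n := -1) _ (by omega)
  obtain ⟨θ, hθ⟩ := Triangle.yoneda_exact₂ _ (DerivedCategory.triangleOfSES_distinguished hS) φ' h1
  obtain ⟨ψ, hψ⟩ := (DerivedCategory.singleFunctor (ModuleCat.{u} B) (-1)).map_surjective
    (θ : (DerivedCategory.singleFunctor (ModuleCat.{u} B) (-1)).obj X₀ ⟶ (DerivedCategory.singleFunctor (ModuleCat.{u} B) (-1)).obj N)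
  obtain ⟨χ, hχ⟩ := hfac ψ.hom
  have hgψ : g • ψ = d ≫ ModuleCat.ofHom χ := ModuleCat.hom_ext hχ
  have hπd : DerivedCategory.Q.map (π ≫ (single (ModuleCat.{u} B) (ComplexShape.up ℤ) (-1)).map d) = 0 := by
    have hh : Homotopy (π ≫ (single (ModuleCat.{u} B) (ComplexShape.up ℤ) (-1)).map d) 0 := by
      let h : ∀ i j, (ComplexShape.up ℤ).Rel j i →
          (K.X i ⟶ ((single (ModuleCat.{u} B) (ComplexShape.up ℤ) (-1)).obj X₁).X j) := fun i j hij =>
        if hi : i = 0 then eqToHom (by rw [hi]) ≫ i₁.hom ≫
          (singleObjXIsoOfEq (ComplexShape.up ℤ) (-1 : ℤ) X₁ j (by simp at hij; omega)).inv else 0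
      refine (Homotopy.ofEq ?_).trans (Homotopy.nullHomotopy' h)
      refine HomologicalComplex.hom_ext _ _ fun k => ?_
      by_cases hk : k = -1
      · subst hk
        rw [Homotopy.nullHomotopicMap'_f (k₂ := -2) (k₀ := 0) (by simp) hr, comp_f, mkHomToSingle_f,
          single_map_f_self, double_d d hr (by decide)]
        simp [h, i₀, i₁]
        rfl
      · exact (isZero_single_obj_X (ComplexShape.up ℤ) (-1) X₁ k hk).eq_of_tgt _ _
    have h2 := congrArg DerivedCategory.Qh.map (HomotopyCategory.eq_of_homotopy _ _ hh)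
    rw [← cancel_epi ((DerivedCategory.quotientCompQhIso (ModuleCat.{u} B)).hom.app K),
      ← DerivedCategory.quotientCompQhIso_hom_naturality, h2, Functor.map_zero, Functor.map_zero, Limits.zero_comp,
      Limits.comp_zero]
  rw [← cancel_mono σ.hom, Limits.zero_comp, Linear.smul_comp, show φ ≫ σ.hom = φ' from rfl, hθ]
  show g • (DerivedCategory.Q.map π ≫ θ) = 0
  have e : g • (DerivedCategory.singleFunctor (ModuleCat.{u} B) (-1)).map ψ =
      DerivedCategory.Q.map ((single (ModuleCat.{u} B) (ComplexShape.up ℤ) (-1)).map d) ≫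
        (DerivedCategory.singleFunctor (ModuleCat.{u} B) (-1)).map (ModuleCat.ofHom χ) := by
    rw [← Functor.map_smul, hgψ, Functor.map_comp, sf_map]
    rfl
  rw [← Linear.comp_smul, ← hψ]
  refine (congrArg (DerivedCategory.Q.map π ≫ ·) e).trans ?_
  rw [← Category.assoc, ← Functor.map_comp, hπd]
  exact Limits.zero_comp

open HomologicalComplex in
theorem smul_id_eq_zero {B : Type u} [CommRing B] {X₀ X₁ : ModuleCat.{u} B}
    (d : X₀ ⟶ X₁) (g : B) (H : X₁ →ₗ[B] X₀) (h₀ : H ∘ₗ d.hom = g • LinearMap.id) (h₁ : d.hom ∘ₗ H = g • LinearMap.id) :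
    g • 𝟙 (DerivedCategory.Q.obj (double d (show (ComplexShape.up ℤ).Rel (-1) 0 by simp))) = 0 := by
  have hr : (ComplexShape.up ℤ).Rel (-1) 0 := by simp
  let K := double d hr
  have e₀ : d ≫ ModuleCat.ofHom H = g • 𝟙 X₀ := ModuleCat.hom_ext h₀
  have e₁ : ModuleCat.ofHom H ≫ d = g • 𝟙 X₁ := ModuleCat.hom_ext h₁
  let h : ∀ i j, (ComplexShape.up ℤ).Rel j i → (K.X i ⟶ K.X j) := fun i j hij =>
    if hi : i = 0 then eqToHom (by rw [hi]) ≫ (doubleXIso₁ d hr (by decide)).hom ≫ ModuleCat.ofHom H ≫
      (doubleXIso₀ d hr).inv ≫ eqToHom (by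
        obtain rfl : j = -1 := by simp at hij; omega
        rfl)
    else 0
  have hh : Homotopy (g • 𝟙 K) 0 := by
    refine (Homotopy.ofEq ?_).trans (Homotopy.nullHomotopy' h)
    refine from_double_hom_ext ?_ ?_
    · rw [Homotopy.nullHomotopicMap'_f (k₂ := -2) (k₀ := 0) (by simp) hr, smul_f_apply, id_f, double_d d hr (by decide)]
      simp [h, reassoc_of% e₀]
    · rw [Homotopy.nullHomotopicMap'_f (k₂ := -1) (k₀ := 1) hr (by simp), smul_f_apply, id_f, double_d d hr (by decide)]
      simp [h, reassoc_of% e₁]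
  have h2 := congrArg DerivedCategory.Qh.map (HomotopyCategory.eq_of_homotopy _ _ hh)
  rw [← DerivedCategory.Q.map_id, ← Functor.map_smul, ← cancel_epi ((DerivedCategory.quotientCompQhIso (ModuleCat.{u} B)).hom.app K),
    ← DerivedCategory.quotientCompQhIso_hom_naturality, h2, Functor.map_zero, Functor.map_zero, Limits.zero_comp,
    Limits.comp_zero]

/-- Let A be a ring, m ≤ n, f_1, …, f_m ∈ A[x_1, …, x_n], B = A[x_1, …, x_n]/(f_1, …, f_m), and g ∈ B
the image of the determinant of the m × m matrix of partial derivatives ∂f_j/∂x_i with i, j ≤ m (the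
first m variables). Then: (1) for every B-module N, g annihilates Ext^1_B(NL_{B/A}, N), i.e. every
morphism NL_{B/A} → N[1] in D(B) is killed by g; (2) if n = m then multiplication by g on NL_{B/A}
is the zero endomorphism in D(B). -/
theorem result (A : Type u) [CommRing A] (n m : ℕ) (hmn : m ≤ n) (f : Fin m → MvPolynomial (Fin n) A) : (∀ (N : Type u) [AddCommGroup N] [Module (MvPolynomial (Fin n) A ⧸ Ideal.span (Set.range f)) N] (φ : LCI.NL A (MvPolynomial (Fin n) A ⧸ Ideal.span (Set.range f)) ⟶ (Dual.inD (MvPolynomial (Fin n) A ⧸ Ideal.span (Set.range f)) N)⟦(1 : ℤ)⟧), (Ideal.Quotient.mk (Ideal.span (Set.range f)) (Matrix.det (Matrix.of (fun i j : Fin m => MvPolynomial.pderiv (Fin.castLE hmn i) (f j))))) • φ = 0) ∧ (n = m → (Ideal.Quotient.mk (Ideal.span (Set.range f)) (Matrix.det (Matrix.of (fun i j : Fin m => MvPolynomial.pderiv (Fin.castLE hmn i) (f j))))) • 𝟙 (LCI.NL A (MvPolynomial (Fin n) A ⧸ Ideal.span (Set.range f))) = 0) := by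
  refine ⟨?_, ?_⟩
  · intro N _ _ φ
    exact smul_hom_eq_zero _ _ (fun ψ => self_factors f hmn ψ) φ
  · intro hnm
    subst hnm
    obtain ⟨H, h₀, h₁⟩ := self_nullhomotopic f
    exact smul_id_eq_zero _ _ H h₀ h₁

end Groth.Agent.S8806
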