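import Groth.Statements.S8821
import Groth.Prelude.Def_KLin

set_option autoImplicit false
universe u
open CategoryTheory CategoryTheory.Limits AlgebraicGeometry
open Formal2

namespace Groth.Agent.S8821

theorem smulMod_mul' {A : Type u} [CommRing A] {X : Scheme.{u}} [X.Over (Spec (CommRingCat.of A))]
    (M : X.Modules) (a b : A) :
    Formal.smulMod A M (a * b) = Formal.smulMod A M a ≫ Formal.smulMod A M b := by
  unfold Formal.smulMod
  rw [map_mul]
  exact KLin.smulModΓ_mul M _ _

/-- Implication (4) ⇒ (2), for an O_X-module over a base ring A and f ∈ A. Let X be a scheme over Spec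
A, f ∈ A and F an O_X-module on which multiplication by f is a monomorphism. Then for every n ≥ 1
there is a monomorphism i : F/fF → F/f^{n+1}F through which multiplication by f^n on F/f^{n+1}F
factors (projection to F/fF followed by i), and F/fF → F/f^{n+1}F → F/f^nF, with second map the
transition map, is a short exact sequence. (Stated for schemes; the published statement is for
ringed spaces.) -/
theorem result (A : Type u) [CommRing A] (X : Scheme.{u}) [X.Over (Spec (CommRingCat.of A))] (f : A) (F : X.Modules) (hF : Mono (Formal.smulMod A F f)) (n : ℕ) (hn : 1 ≤ n) : ∃ i : Formal.modPow (Ideal.span ({f} : Set A)) 1 F ⟶ Formal.modPow (Ideal.span ({f} : Set A)) (n + 1) F, Mono i ∧ Formal2.modPowLE (Ideal.span ({f} : Set A)) (Nat.le_add_left 1 n) F ≫ i = Formal.smulMod A (Formal.modPow (Ideal.span ({f} : Set A)) (n + 1) F) (f ^ n) ∧ ∃ w : i ≫ Formal.modPowTrans (Ideal.span ({f} : Set A)) n F = 0, (ShortComplex.mk i (Formal.modPowTrans (Ideal.span ({f} : Set A)) n F) w).ShortExact := by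
  let φ := Formal.smulMod A F f
  let I : Ideal A := Ideal.span ({f} : Set A)
  have hmem : ∀ k : ℕ, f ^ k ∈ I ^ k := fun k => Ideal.pow_mem_pow (Ideal.mem_span_singleton_self f) k
  have hπ : ∀ (k : ℕ), Formal.smulMod A F (f ^ k) ≫ Formal.modPowπ I k F = 0 := by
    intro k
    have e : Sigma.ι (fun _ : (I ^ k : Ideal A) => F) ⟨f ^ k, hmem k⟩ ≫ Formal.smulFamily (I ^ k) F =
        Formal.smulMod A F (f ^ k) := by simp [Formal.smulFamily]
    rw [← e, Category.assoc]
    exact (congrArg _ (cokernel.condition _)).trans comp_zero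
  have hfac : ∀ (k : ℕ) {T : X.Modules} (g : F ⟶ T), Formal.smulMod A F (f ^ k) ≫ g = 0 →
      Formal.smulFamily (I ^ k) F ≫ g = 0 := by
    intro k T g hg
    apply Sigma.hom_ext
    rintro ⟨a, ha⟩
    rw [comp_zero]
    rw [Ideal.span_singleton_pow, Ideal.mem_span_singleton'] at ha
    obtain ⟨c, rfl⟩ := ha
    rw [show Sigma.ι (fun _ : (I ^ k : Ideal A) => F) ⟨c * f ^ k, ha⟩ ≫ Formal.smulFamily (I ^ k) F ≫ g =
      Formal.smulMod A F (c * f ^ k) ≫ g by simp [Formal.smulFamily], smulMod_mul',
      Category.assoc, hg, comp_zero]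
  have hex : ∀ k : ℕ, (ShortComplex.mk (Formal.smulMod A F (f ^ k)) (Formal.modPowπ I k F) (hπ k)).Exact := by
    intro k
    apply ShortComplex.exact_of_g_is_cokernel
    exact CokernelCofork.IsColimit.ofπ _ _ (fun g hg => cokernel.desc _ g (hfac k g hg))
      (fun g hg => cokernel.π_desc _ _ _) (fun g hg m hm => by
        exact coequalizer.hom_ext (hm.trans (cokernel.π_desc _ _ _).symm))
  have hepi : ∀ k : ℕ, Epi (Formal.modPowπ I k F) := fun k => coequalizer.π_epi
  have hcomm : ∀ a b : A, Formal.smulMod A F a ≫ Formal.smulMod A F b = Formal.smulMod A F (a * b) := by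
    intro a b
    rw [smulMod_mul']
  have hnat : ∀ {M N : X.Modules} (g : M ⟶ N) (a : A),
      g ≫ Formal.smulMod A N a = Formal.smulMod A M a ≫ g := by
    intro M N g a
    exact KLin.comp_smulModΓ g _
  have hmono : Mono (Formal.smulMod A F (f ^ n)) := by
    clear hn hex
    induction n with
    | zero =>
      rw [pow_zero]
      have : Formal.smulMod A F (1 : A) = 𝟙 F := by
        unfold Formal.smulMod
        rw [map_one]
        exact KLin.smulModΓ_one F
      rw [this]; infer_instance
    | succ k ih =>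
      rw [pow_succ, ← hcomm]
      infer_instance
  have hlift : ∀ (k : ℕ) {T : X.Modules} (x : T ⟶ Formal.modPow I k F),
      ∃ (T' : X.Modules) (p : T' ⟶ T) (_ : Epi p) (y : T' ⟶ F), p ≫ x = y ≫ Formal.modPowπ I k F :=
    fun k T x => by
      haveI := hepi k
      exact surjective_up_to_refinements_of_epi (Formal.modPowπ I k F) x
  have hdesc : Formal.smulFamily (I ^ 1) F ≫ Formal.smulMod A F (f ^ n) ≫ Formal.modPowπ I (n + 1) F = 0 := by
    apply hfac
    rw [← Category.assoc, hcomm, ← pow_add, add_comm 1 n, hπ]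
  let i : Formal.modPow I 1 F ⟶ Formal.modPow I (n + 1) F :=
    cokernel.desc _ (Formal.smulMod A F (f ^ n) ≫ Formal.modPowπ I (n + 1) F) hdesc
  have hi : Formal.modPowπ I 1 F ≫ i = Formal.smulMod A F (f ^ n) ≫ Formal.modPowπ I (n + 1) F :=
    cokernel.π_desc _ _ _
  have hmi : Mono i := by
    rw [Preadditive.mono_iff_cancel_zero]
    intro T x hx
    obtain ⟨T', p, _, y, hy⟩ := hlift 1 x
    have h1 : (y ≫ Formal.smulMod A F (f ^ n)) ≫ Formal.modPowπ I (n + 1) F = 0 := by
      rw [Category.assoc, ← hi, ← Category.assoc, ← hy, Category.assoc, hx, comp_zero]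
    obtain ⟨T'', p', _, z, hz⟩ := (hex (n + 1)).exact_up_to_refinements _ h1
    dsimp at hz
    rw [pow_succ', ← hcomm, ← Category.assoc, ← Category.assoc, cancel_mono] at hz
    rw [← cancel_epi p, comp_zero, ← cancel_epi p', comp_zero, hy, ← Category.assoc, hz]
    have h0 := hπ 1
    rw [pow_one] at h0
    rw [Category.assoc, h0, comp_zero]
  refine ⟨i, hmi, ?_, ?_⟩
  · haveI := hepi (n + 1)
    rw [← cancel_epi (Formal.modPowπ I (n + 1) F), ← Category.assoc, Formal2.modPowπ_modPowLE, hi, hnat]
  · have w : i ≫ Formal.modPowTrans I n F = 0 := by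
      haveI := hepi 1
      rw [← cancel_epi (Formal.modPowπ I 1 F), ← Category.assoc, hi, Category.assoc,
        Formal.modPowπ_trans, hπ, comp_zero]
    refine ⟨w, ?_⟩
    haveI := hmi
    haveI : Epi (Formal.modPowTrans I n F) := by
      haveI := hepi n
      exact epi_of_epi_fac (Formal.modPowπ_trans I n F)
    apply ShortComplex.ShortExact.mk' (S := ShortComplex.mk i (Formal.modPowTrans I n F) w) <;> try assumption
    rw [ShortComplex.exact_iff_exact_up_to_refinements]
    intro T x hx
    dsimp at hx ⊢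
    obtain ⟨T', p, _, y, hy⟩ := hlift (n + 1) x
    have h1 : y ≫ Formal.modPowπ I n F = 0 := by
      rw [← Formal.modPowπ_trans, ← Category.assoc, ← hy, Category.assoc, hx, comp_zero]
    obtain ⟨T'', p', _, z, hz⟩ := (hex n).exact_up_to_refinements _ h1
    dsimp at hz
    refine ⟨T'', p' ≫ p, inferInstance, z ≫ Formal.modPowπ I 1 F, ?_⟩
    rw [Category.assoc, hy, Category.assoc, hi, ← Category.assoc, hz, Category.assoc]

end Groth.Agent.S8821
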