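import Groth.Statements.S8827
import Groth.Agent.S8796

set_option autoImplicit false
universe u
open CategoryTheory
open Dual2

namespace Groth.Agent.S8827

theorem dimBetween_mono {A : Type u} [CommRing A] (p r q : Ideal A) [r.IsPrime] [q.IsPrime] (h : r ≤ q) :
    Formal2.dimBetween A p r ≤ Formal2.dimBetween A p q := by
  let f : Localization.AtPrime q →+* Localization.AtPrime r :=
    IsLocalization.lift (M := q.primeCompl) (g := algebraMap A (Localization.AtPrime r))
      fun y => IsLocalization.map_units (Localization.AtPrime r) (⟨y.1, fun hy => y.2 (h hy)⟩ : r.primeCompl)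
  have hf : f.comp (algebraMap A (Localization.AtPrime q)) = algebraMap A (Localization.AtPrime r) :=
    IsLocalization.lift_comp _
  have hle : p.map (algebraMap A (Localization.AtPrime q)) ≤
      (p.map (algebraMap A (Localization.AtPrime r))).comap f := by
    rw [Ideal.map_le_iff_le_comap, Ideal.comap_comap, hf]
    exact Ideal.le_comap_map
  let g := Ideal.quotientMap (p.map (algebraMap A (Localization.AtPrime r))) f hle
  refine Order.krullDim_le_of_strictMono (PrimeSpectrum.comap g)
    (Monotone.strictMono_of_injective (fun a b hab => Ideal.comap_mono hab) fun a b hab => ?_)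
  have h1 := congrArg (PrimeSpectrum.comap ((Ideal.Quotient.mk _).comp (algebraMap A (Localization.AtPrime q)))) hab
  rw [← PrimeSpectrum.comap_comp_apply, ← PrimeSpectrum.comap_comp_apply] at h1
  have hcomp : g.comp ((Ideal.Quotient.mk _).comp (algebraMap A (Localization.AtPrime q))) =
      (Ideal.Quotient.mk _).comp (algebraMap A (Localization.AtPrime r)) := by
    rw [← RingHom.comp_assoc, Ideal.quotientMap_comp_mk, RingHom.comp_assoc, hf]
  rw [hcomp, PrimeSpectrum.comap_comp_apply, PrimeSpectrum.comap_comp_apply] at h1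
  exact PrimeSpectrum.comap_injective_of_surjective _ Ideal.Quotient.mk_surjective
    (PrimeSpectrum.localization_comap_injective (Localization.AtPrime r) r.primeCompl h1)

/-- Let A be a Noetherian ring with a dualizing complex, I an ideal with cd(A, I) ≤ d, M a finite
A-module, T ⊆ V(I) stable under specialization and s a natural, satisfying: (4) for primes p ⊆ r ⊆ q
with p ∉ V(I), r ∈ V(I) ∖ T and q ∈ T, either depth(M_p) ≥ s or depth(M_p) + dim((A/p)_q) > d + s;
(6) for q ∈ T, writing A', I', M' for the I-adic completions of A_q, IA_q, M_q, one has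
depth(M'_{p'}) > s for every prime p' of A' not containing I' such that the only primes containing
both p' and I' are maximal. Then for every smaller subset T' ⊆ T stable under specialization,
conditions (4) and (6) hold with T' in place of T (so A, I, T', M are again in the same situation). -/
theorem result (A : Type u) [CommRing A] [IsNoetherianRing A] (hdc : ∃ ω : Dual.D A, Dual.IsDualizing A ω) (I : Ideal A) (d : ℕ) (hcd : LocCoh.CdLE A I d) (M : Type u) [AddCommGroup M] [Module A M] [Module.Finite A M] (T : Set (PrimeSpectrum A)) (hTI : T ⊆ PrimeSpectrum.zeroLocus (I : Set A)) (hT : StableUnderSpecialization T) (s : ℕ) (h4 : ∀ p r q : PrimeSpectrum A, p ≤ r → r ≤ q → ¬ I ≤ p.asIdeal → I ≤ r.asIdeal → r ∉ T → q ∈ T → (s : ℕ∞) ≤ LocCoh.depth (Localization.AtPrime p.asIdeal) (LocalizedModule p.asIdeal.primeCompl M) ∨ ((d + s : ℕ) : WithBot ℕ∞) < (LocCoh.depth (Localization.AtPrime p.asIdeal) (LocalizedModule p.asIdeal.primeCompl M) : WithBot ℕ∞) + Formal2.dimBetween A p.asIdeal q.asIdeal) (h6 : ∀ q : PrimeSpectrum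 A, q ∈ T → ∀ p' : PrimeSpectrum (AdicCompletion (I.map (algebraMap A (Localization.AtPrime q.asIdeal))) (Localization.AtPrime q.asIdeal)), ¬ (I.map (algebraMap A (AdicCompletion (I.map (algebraMap A (Localization.AtPrime q.asIdeal))) (Localization.AtPrime q.asIdeal)))) ≤ p'.asIdeal → (∀ q' : PrimeSpectrum (AdicCompletion (I.map (algebraMap A (Localization.AtPrime q.asIdeal))) (Localization.AtPrime q.asIdeal)), p' ≤ q' → (I.map (algebraMap A (AdicCompletion (I.map (algebraMap A (Localization.AtPrime q.asIdeal))) (Localization.AtPrime q.asIdeal)))) ≤ q'.asIdeal → q'.asIdeal.IsMaximal) → (s : ℕ∞) < LocCoh.depth (Localization.AtPrime p'.asIdeal) (LocalizedModule p'.asIdeal.primeCompl (AdicCompletion (I.map (algebraMap A (Localization.AtPrime q.asIdeal))) (LocalizedModule q.asIdeal.primeCompl M)))) (T' : Set (PrimeSpectrum A)) (hT'T : T' ⊆ T) (hT' : StableUnderSpecialization T') : (∀ p r q : PrimeSpectrum A, p ≤ r → r ≤ q → ¬ I ≤ p.asIdeal → I ≤ r.asIdeal → r ∉ T' → q ∈ T' → (s : ℕ∞) ≤ LocCoh.depth (Localization.AtPrime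 p.asIdeal) (LocalizedModule p.asIdeal.primeCompl M) ∨ ((d + s : ℕ) : WithBot ℕ∞) < (LocCoh.depth (Localization.AtPrime p.asIdeal) (LocalizedModule p.asIdeal.primeCompl M) : WithBot ℕ∞) + Formal2.dimBetween A p.asIdeal q.asIdeal) ∧ (∀ q : PrimeSpectrum A, q ∈ T' → ∀ p' : PrimeSpectrum (AdicCompletion (I.map (algebraMap A (Localization.AtPrime q.asIdeal))) (Localization.AtPrime q.asIdeal)), ¬ (I.map (algebraMap A (AdicCompletion (I.map (algebraMap A (Localization.AtPrime q.asIdeal))) (Localization.AtPrime q.asIdeal)))) ≤ p'.asIdeal → (∀ q' : PrimeSpectrum (AdicCompletion (I.map (algebraMap A (Localization.AtPrime q.asIdeal))) (Localization.AtPrime q.asIdeal)), p' ≤ q' → (I.map (algebraMap A (AdicCompletion (I.map (algebraMap A (Localization.AtPrime q.asIdeal))) (Localization.AtPrime q.asIdeal)))) ≤ q'.asIdeal → q'.asIdeal.IsMaximal) → (s : ℕ∞) < LocCoh.depth (Localization.AtPrime p'.asIdeal) (LocalizedModule p'.asIdeal.primeCompl (AdicCompletion (I.map (algebraMap A (Localization.AtPrime q.asIdeal))) (LocalizedModule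 q.asIdeal.primeCompl M)))) := by
  refine ⟨fun p r q hpr hrq hp hI hrT hqT => ?_, fun q hq => h6 q (hT'T hq)⟩
  by_cases hrT0 : r ∈ T
  · by_cases hex : ∃ r' : PrimeSpectrum A, p ≤ r' ∧ r' ≤ r ∧ I ≤ r'.asIdeal ∧ r' ∉ T
    · obtain ⟨r', h1, h2, h3, h5⟩ := hex
      rcases h4 p r' r h1 h2 hp h3 h5 hrT0 with h | h
      · exact Or.inl h
      · exact Or.inr (lt_of_lt_of_le h (by gcongr; exact dimBetween_mono p.asIdeal r.asIdeal q.asIdeal hrq))
    · push Not at hex
      exact Or.inl (Groth.Agent.S8796.result A hdc I d hcd M T hTI hT s h4 h6 p r hpr hp hrT0 hex).le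
  · exact h4 p r q hpr hrq hp hI hrT0 (hT'T hqT)

end Groth.Agent.S8827
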