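import Groth.Statements.S8831
import Groth.Agent.H1PunctLin.Coh
import Groth.Agent.S0817
import Groth.Agent.S8832

set_option autoImplicit false
universe u
open CategoryTheory AlgebraicGeometry Opposite
open LocCoh

namespace Groth.Agent.S8831

/-- Let (A, m) be a Noetherian local ring and U = Spec A ∖ {m} the punctured spectrum. Suppose we are
given a system (F_n), indexed inversely by n, of coherent modules on U. In each positive degree i,
the cohomology groups H^i(U, F_n) then form a Mittag-Leffler system; concretely, given any n one can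
find r ≥ n such that for all s ≥ r the image of H^i(U, F_s) → H^i(U, F_n) equals the image of H^i(U,
F_r) → H^i(U, F_n). -/
theorem result (A : Type u) [CommRing A] [IsNoetherianRing A] [IsLocalRing A] (G : ℕᵒᵖ ⥤ (↑(LocCoh.puncturedOpen A (IsLocalRing.maximalIdeal A)) : Scheme.{u}).Modules) (hG : ∀ n : ℕᵒᵖ, Coh.IsCoh (G.obj n)) (i : ℕ) (hi : 0 < i) (n : ℕ) : ∃ (r : ℕ) (hnr : n ≤ r), ∀ (s : ℕ) (hrs : r ≤ s), Set.range (Sheaf.H.map ((SheafOfModules.toSheaf _).map (G.map (homOfLE (hnr.trans hrs : n ≤ s)).op)) i) = Set.range (Sheaf.H.map ((SheafOfModules.toSheaf _).map (G.map (homOfLE (hnr : n ≤ r)).op)) i) := by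
  open Groth.Agent in
  haveI := S8832.result A (G.obj (Opposite.op n)) (hG _) i hi
  let R : ℕ →o (Submodule A (Coh.HH (↑(LocCoh.puncturedOpen A (IsLocalRing.maximalIdeal A)) : Scheme.{u}) (G.obj (Opposite.op n)) i))ᵒᵈ :=
    { toFun := fun k => OrderDual.toDual
        (LinearMap.range (Groth.Agent.H1PunctLin.HmL _ (G.map (homOfLE (Nat.le_add_right n k)).op) i))
      monotone' := by
        intro a b hab x hx
        obtain ⟨z, rfl⟩ := hx
        refine ⟨Groth.Agent.H1PunctLin.HmL _ (G.map (homOfLE (Nat.add_le_add_left hab n)).op) i z, ?_⟩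
        show Groth.Agent.H1Punct.Hm _ i (Groth.Agent.H1Punct.Hm _ i z) = Groth.Agent.H1Punct.Hm _ i z
        refine (Sheaf.H.map_comp_apply _ _ _).symm.trans ?_
        refine congrArg (fun t => Sheaf.H.map t i z) ?_
        refine ((SheafOfModules.toSheaf _).map_comp _ _).symm.trans (congrArg _ ?_)
        exact (G.map_comp _ _).symm }
  obtain ⟨k, hk⟩ := IsArtinian.monotone_stabilizes R
  refine ⟨n + k, Nat.le_add_right n k, fun s hs => ?_⟩
  obtain ⟨l, rfl⟩ := Nat.exists_eq_add_of_le hs
  have h := congrArg (fun S => SetLike.coe (OrderDual.ofDual S)) (hk (k + l) (Nat.le_add_right k l))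
  simp only [R, OrderHom.coe_mk, OrderDual.ofDual_toDual, LinearMap.coe_range] at h
  have key : ∀ m (h₁ : n ≤ m) (h₂ : n ≤ n + (k + l)), m = n + (k + l) →
      Set.range (Groth.Agent.H1PunctLin.HmL _ (G.map (homOfLE h₁).op) i) =
        Set.range (Groth.Agent.H1PunctLin.HmL _ (G.map (homOfLE h₂).op) i) := by
    rintro m h₁ h₂ rfl
    rfl
  exact (key _ _ (Nat.le_add_right _ _) (add_assoc n k l)).trans h.symm

end Groth.Agent.S8831
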