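import Groth.Statements.S8833
import Groth.Agent.H1GrPhi.Module

set_option autoImplicit false
universe u
open scoped BigOperators TensorProduct
open LocCoh

namespace Groth.Agent.S8833

/-- Let A be a Noetherian ring, f_1, …, f_r ∈ A and I = (f_1, …, f_r) with cd(A, I) = 1; let c ≥ 1 and
φ_j : I^c → A be A-linear maps with x = Σ_j f_j φ_j(x) for all x ∈ I^c. Let B be a Noetherian
A-algebra and N a finite B-module. Then there is c' ≥ c with the following property. Write φ_j again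
for the restrictions of the φ_j to I^{c'} and let Φ be a graded A-algebra homomorphism from ⊕_{n ≥
0} I^{nc'} to A[T_1, …, T_r] with Φ(g) = Σ_j φ_j(g) T_j for g ∈ I^{c'} (there is exactly one; it is
encoded by functions Φ_n : A → A[T_1, …, T_r] whose values on I^{nc'} are additive, A-homogeneous,
homogeneous of degree n and multiplicative across degrees, with Φ_0 the structure map and Φ_1 as
prescribed). Then for every n there is a unique B-linear map Ψ_n from the submodule I^{nc'}N of N to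
N[T_1, …, T_r] = B[T_1, …, T_r] ⊗_B N with Ψ_n(g x) = Φ_n(g) ⊗ x for g ∈ I^{nc'} and x ∈ N; that is,
the Ψ_n form the unique graded B-module map from ⊕_n I^{nc'}N to N[T_1, …, T_r] with this property.
Moreover substituting T_j ↦ f_j after Ψ_n gives back the inclusion of I^{nc'}N into N. -/
theorem result (A : Type u) [CommRing A] [IsNoetherianRing A] (r : ℕ) (f : Fin r → A) (I : Ideal A) (hI : I = Ideal.span (Set.range f)) (h1 : LocCoh.CdLE A I 1) (h0 : ¬ LocCoh.CdLE A I 0) (c : ℕ) (hc : 1 ≤ c) (φ : Fin r → (↥(I ^ c) →ₗ[A] A)) (hφ : ∀ x : ↥(I ^ c), (x : A) = ∑ j, f j * φ j x) (B : Type u) [CommRing B] [Algebra A B] [IsNoetherianRing B] (N : Type u) [AddCommGroup N] [Module B N] [Module.Finite B N] : ∃ c' : ℕ, ∃ hcc' : c ≤ c', ∀ Φ : ℕ → A → MvPolynomial (Fin r) A, ((∀ n : ℕ, ∀ g ∈ I ^ (n * c'), ∀ h ∈ I ^ (n * c'), Φ n (g + h) = Φ n g + Φ n h) ∧ (∀ (n : ℕ) (a : A), ∀ g ∈ I ^ (n * c'), Φ n (a * g) = a • Φ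 n g) ∧ (∀ n : ℕ, ∀ g ∈ I ^ (n * c'), (Φ n g).IsHomogeneous n) ∧ (∀ n m : ℕ, ∀ g ∈ I ^ (n * c'), ∀ h ∈ I ^ (m * c'), Φ (n + m) (g * h) = Φ n g * Φ m h) ∧ (∀ a : A, Φ 0 a = MvPolynomial.C a) ∧ (∀ (g : A) (hg : g ∈ I ^ c'), Φ 1 g = ∑ j, MvPolynomial.C (φ j ⟨g, Ideal.pow_le_pow_right hcc' hg⟩) * MvPolynomial.X j)) → ∀ n : ℕ, ∃ Ψ : ↥(Submodule.span B {y : N | ∃ g ∈ I ^ (n * c'), ∃ x : N, y = algebraMap A B g • x}) →ₗ[B] (MvPolynomial (Fin r) B ⊗[B] N), (∀ (g : A) (hg : g ∈ I ^ (n * c')) (x : N), Ψ ⟨algebraMap A B g • x, Submodule.subset_span ⟨g, hg, x, rfl⟩⟩ = MvPolynomial.map (algebraMap A B) (Φ n g) ⊗ₜ[B] x) ∧ (∀ y : ↥(Submodule.span B {y : N | ∃ g ∈ I ^ (n * c'), ∃ x : N, y = algebraMap A B g • x}), TensorProduct.lift ((LinearMap.lsmul B N).comp (MvPolynomial.aeval (fun j ↦ algebraMap A B (f j))).toLinearMap) (Ψ y) = (y : N)) ∧ (∀ Ψ' : ↥(Submodule.span B {y : N | ∃ g ∈ I ^ (n * c'), ∃ x : N, y = algebraMap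 A B g • x}) →ₗ[B] (MvPolynomial (Fin r) B ⊗[B] N), (∀ (g : A) (hg : g ∈ I ^ (n * c')) (x : N), Ψ' ⟨algebraMap A B g • x, Submodule.subset_span ⟨g, hg, x, rfl⟩⟩ = MvPolynomial.map (algebraMap A B) (Φ n g) ⊗ₜ[B] x) → Ψ' = Ψ) := by
  obtain ⟨c', hcc', hψ⟩ := H1GrPhi.exists_psi I B N c φ
  choose ψ hψ using hψ
  refine ⟨c', hcc', fun Φ hΦ n => ?_⟩
  let φ' : Fin r → (↥(I ^ c') →ₗ[A] A) := fun j =>
    φ j ∘ₗ Submodule.inclusion (Ideal.pow_le_pow_right hcc')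
  obtain ⟨hadd, -, -, hmul, h0', h1'⟩ := hΦ
  have hΦeq := H1GrPhi.Phi_unique I c' φ' Φ hadd hmul h0' h1' n
  obtain ⟨Ψ, hΨ⟩ := H1GrPhi.exists_Psi φ' ψ (fun j g hg x => hψ j g hg x) n
  let Ψ₀ : ↥(Submodule.span B {y : N | ∃ g ∈ I ^ (n * c'), ∃ x : N, y = algebraMap A B g • x})
      →ₗ[B] (MvPolynomial (Fin r) B ⊗[B] N) := Ψ
  refine ⟨Ψ₀, fun g hg x => ?_, ?_, fun Ψ' hΨ' => ?_⟩
  · rw [hΦeq g hg]; exact hΨ g hg x
  · refine H1GrPhi.S_induction I B N (k := n * c') (fun g hg x => ?_) ?_ (fun a b ha hb => ?_)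
      (fun d a ha => ?_)
    · show TensorProduct.lift _ (Ψ ⟨algebraMap A B g • x, _⟩) = algebraMap A B g • x
      rw [hΨ g hg x, TensorProduct.lift.tmul]
      simp only [LinearMap.comp_apply, AlgHom.toLinearMap_apply, LinearMap.lsmul_apply,
        MvPolynomial.aeval_map_algebraMap]
      congr 1
      have e := H1GrPhi.aeval_Phi I c' φ' f (fun z => hφ ⟨z, Ideal.pow_le_pow_right hcc' z.2⟩) n g hg
      exact (MvPolynomial.aeval_algebraMap_apply B f _).trans (congrArg (algebraMap A B) e)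
    · exact (congrArg _ (map_zero Ψ)).trans (map_zero _)
    · refine (congrArg _ (map_add Ψ a b)).trans ((map_add _ _ _).trans ?_)
      exact congrArg₂ (· + ·) ha hb
    · refine (congrArg _ (map_smul Ψ d a)).trans ((map_smul _ _ _).trans ?_)
      exact congrArg (d • ·) ha
  · refine LinearMap.ext fun y => ?_
    refine H1GrPhi.S_induction I B N (k := n * c') (P := fun y => Ψ' y = Ψ₀ y) (fun g hg x => ?_) ?_
      (fun a b ha hb => ?_) (fun d a ha => ?_) y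
    · refine (hΨ' g hg x).trans ?_
      rw [hΦeq g hg]
      exact (hΨ g hg x).symm
    · exact (map_zero Ψ').trans (map_zero Ψ₀).symm
    · exact (map_add Ψ' a b).trans ((congrArg₂ (· + ·) ha hb).trans (map_add Ψ₀ a b).symm)
    · exact (map_smul Ψ' d a).trans ((congrArg (d • ·) ha).trans (map_smul Ψ₀ d a).symm)

end Groth.Agent.S8833
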