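import Groth.Statements.S8850
import Groth.Agent.NagataLib.Birat

set_option autoImplicit false
set_option backward.isDefEq.respectTransparency false
set_option backward.isDefEq.respectTransparency.types false
universe u
open CategoryTheory CategoryTheory.Limits AlgebraicGeometry TopologicalSpace
open SDiv

namespace Groth.Agent.S8850

/-- Let S be a scheme, X a Noetherian S-scheme, Y a proper S-scheme, U ⊆ X an open subscheme and f : U ⟶
Y a morphism compatible with the structure morphisms to S. Then there are a proper morphism p : X' ⟶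
X restricting to an isomorphism over U and an S-morphism f' : X' ⟶ Y whose restriction to p⁻¹(U) is
f composed with p. The published statement takes U dense, so that f is an S-rational map; this row
allows any open U, which its proof does not need. -/
theorem result {X Y S : Scheme.{u}} [IsNoetherian X] (a : X ⟶ S) (b : Y ⟶ S)
    [IsProper b] (U : X.Opens) (f : (U : Scheme.{u}) ⟶ Y) (hf : f ≫ b = U.ι ≫ a) :
    ∃ (X' : Scheme.{u}) (p : X' ⟶ X) (f' : X' ⟶ Y), IsProper p ∧ IsIso (p ∣_ U) ∧ f' ≫ b = p ≫ a ∧
      (p ⁻¹ᵁ U).ι ≫ f' = (p ∣_ U) ≫ f := by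
  let r : pullback a b ⟶ X := pullback.fst a b
  let t : (U : Scheme.{u}) ⟶ pullback a b := pullback.lift U.ι f hf.symm
  haveI : QuasiCompact U.ι := inferInstance
  obtain ⟨-, h2⟩ := Groth.Agent.NagataLib.closure_graph r U.ι t (pullback.lift_fst _ _ _)
  rw [Scheme.Opens.opensRange_ι] at h2
  let p : t.image ⟶ X := t.imageι ≫ r
  let f' : t.image ⟶ Y := t.imageι ≫ pullback.snd a b
  refine ⟨t.image, p, f', inferInstance, h2, ?_, ?_⟩
  · simp [f', p, r, pullback.condition]
  · haveI : IsIso (p ∣_ U) := h2
    have htp : t.toImage ≫ p = U.ι := by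
      rw [Scheme.Hom.toImage_imageι_assoc]; exact pullback.lift_fst _ _ _
    let t' : (U : Scheme.{u}) ⟶ (p ⁻¹ᵁ U : Scheme.{u}) := IsOpenImmersion.lift (p ⁻¹ᵁ U).ι t.toImage (by
      rintro _ ⟨v, rfl⟩
      rw [Scheme.Opens.range_ι]
      show p (t.toImage v) ∈ U
      rw [← Scheme.Hom.comp_apply, htp]
      exact v.2)
    have ht' : t' ≫ (p ⁻¹ᵁ U).ι = t.toImage := IsOpenImmersion.lift_fac _ _ _
    have hone : t' ≫ (p ∣_ U) = 𝟙 _ := by
      rw [← cancel_mono U.ι, Category.assoc, morphismRestrict_ι, reassoc_of% ht', htp, Category.id_comp]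
    haveI : IsIso t' := by
      rw [show t' = inv (p ∣_ U) from IsIso.eq_inv_of_inv_hom_id hone]
      infer_instance
    rw [← cancel_epi t', reassoc_of% ht', reassoc_of% hone, Scheme.Hom.toImage_imageι_assoc]
    exact pullback.lift_snd _ _ _

end Groth.Agent.S8850
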