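import Groth.Statements.S8856
import Groth.Agent.RegCover.Basic
import Groth.Agent.RegImmLib.Basic
import Groth.Agent.RegImmLib.EtDescent

set_option autoImplicit false
set_option backward.isDefEq.respectTransparency false
set_option backward.isDefEq.respectTransparency.types false
set_option linter.style.haveILetI false
set_option maxHeartbeats 1000000
universe u
open CategoryTheory CategoryTheory.Limits AlgebraicGeometry TopologicalSpace
open SDiv

namespace Groth.Agent.S8856

/-- A sequence weakly regular modulo the zero ideal generating a proper ideal is regular. -/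
theorem isRegular_of_wreg {R : Type u} [CommRing R] {c : ℕ} (g : Fin c → R) (h : RegCover.WReg ⊥ g)
    (hne : Ideal.span (Set.range g) ≠ ⊤) : RingTheory.Sequence.IsRegular R (List.ofFn g) := by
  refine ⟨(RingTheory.Sequence.isWeaklyRegular_iff_Fin R _).2 fun i => ?_, ?_⟩
  · rw [isSMulRegular_on_quot_iff_lsmul_comap_le]
    intro x hx
    rw [Submodule.mem_comap, LinearMap.lsmul_apply] at hx
    have hset : Ideal.ofList ((List.ofFn g).take i) • (⊤ : Submodule R R) =
        (⊥ : Ideal R) ⊔ Ideal.span (g '' {j | j < Fin.cast (List.length_ofFn ..) i}) := by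
      rw [bot_sup_eq, smul_eq_mul, Ideal.mul_top]
      refine congrArg Ideal.span (Set.ext fun y => ?_)
      simp only [Set.mem_setOf_eq, List.mem_take_iff_getElem, List.getElem_ofFn, Set.mem_image]
      constructor
      · rintro ⟨j, hj, rfl⟩
        exact ⟨_, (lt_min_iff.1 hj).1, rfl⟩
      · rintro ⟨j, hj, rfl⟩
        exact ⟨j, lt_min hj (by simp), rfl⟩
    rw [hset] at hx ⊢
    refine h _ x ?_
    simpa [mul_comm, Fin.cast] using hx
  · rw [smul_eq_mul, Ideal.mul_top, ← RegImmLib.span_range_eq_ofList]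
    exact hne.symm

/-- For a Koszul-regular closed immersion i : Z ⟶ X, some surjective smooth morphism g : X' ⟶ X makes
the base change Z ×_X X' ⟶ X' of i along g a regular immersion. -/
theorem result {Z X : Scheme.{u}} (i : Z ⟶ X) [IsClosedImmersion i]
    (hi : RegImm.IsRegularImmersion RegImm.Kind.koszul i) :
    ∃ (X' : Scheme.{u}) (g : X' ⟶ X), Smooth g ∧ Surjective g ∧
      RegImm.IsRegularImmersion RegImm.Kind.regular (pullback.snd i g) := by
  have hloc : ∀ x : X, ∃ (U : X.Opens) (hU : IsAffineOpen U) (hx : x ∈ U) (R' : Type u) (_ : CommRing R')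
      (_ : Algebra Γ(X, U) R'), Algebra.Smooth Γ(X, U) R' ∧
      (∃ Q : Ideal R', Q.IsPrime ∧ Q.comap (algebraMap Γ(X, U) R') = (hU.primeIdealOf ⟨x, hx⟩).asIdeal) ∧
      ∃ (c : ℕ) (g : Fin c → R'), RegCover.WReg ⊥ g ∧
        Ideal.span (Set.range g) = (RingHom.ker (i.app U).hom).map (algebraMap Γ(X, U) R') := by
    intro x
    by_cases hx : x ∈ Set.range i
    · obtain ⟨z, rfl⟩ := hx
      obtain ⟨c, U, hU, hzU, hci, f, hf, hker⟩ := (RegImmLib.isRegularImmersionAt_iff i z).1 (hi.2 z)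
      obtain ⟨hV, -⟩ := Synt29.surjective_app_of_isClosedImmersion_restrict i U hU
      obtain ⟨R', _, _, hsm, hpt, g, hg, hspan⟩ :=
        RegCover.exists_smooth_wreg c Γ(X, U) Γ(X, U) (RingHom.id _) Function.surjective_id f hf
      have h0 : RingHom.ker (RingHom.id Γ(X, U)) = ⊥ := (RingHom.injective_iff_ker_eq_bot _).1 Function.injective_id
      simp only [h0, Ideal.map_bot, bot_sup_eq] at hpt hg hspan
      refine ⟨U, hU, hzU, R', inferInstance, inferInstance, hsm, hpt _ inferInstance ?_, c, g, hg, ?_⟩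
      · rw [← hker]
        exact KRegLib.ker_app_le_primeIdealOf i hU hV z hzU
      · rw [hspan, hker]
    · obtain ⟨U, hU, hxU, hle⟩ := exists_isAffineOpen_mem_and_subset (x := x)
        (U := ⟨(Set.range i)ᶜ, i.isClosedEmbedding.isClosed_range.isOpen_compl⟩) hx
      refine ⟨U, hU, hxU, Γ(X, U), inferInstance, inferInstance, inferInstance,
        ⟨_, inferInstance, Ideal.comap_id _⟩, 1, fun _ => 1, fun j y hy => by simpa using hy, ?_⟩
      have he : i ⁻¹ᵁ U = ⊥ := by
        ext z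
        exact ⟨fun hz => hle hz ⟨z, rfl⟩, fun hz => hz.elim⟩
      haveI : Subsingleton Γ(Z, i ⁻¹ᵁ U) := by
        rw [he]; exact CommRingCat.subsingleton_of_isTerminal Z.sheaf.isTerminalOfEmpty
      have htop : RingHom.ker (i.app U).hom = ⊤ := eq_top_iff.2 fun y _ => Subsingleton.elim _ _
      rw [htop, Ideal.map_top, Set.range_const, Ideal.span_singleton_one]
  choose U hU hxU R' instR instA hsm hpt c g hg hspan using hloc
  let F : X → Scheme.{u} := fun x => Spec (CommRingCat.of (R' x))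
  let φ : ∀ x, F x ⟶ X := fun x =>
    Spec.map (CommRingCat.ofHom (algebraMap Γ(X, U x) (R' x))) ≫ (hU x).fromSpec
  haveI : ∀ x, Smooth (φ x) := fun x => by
    haveI : Smooth (Spec.map (CommRingCat.ofHom (algebraMap Γ(X, U x) (R' x)))) :=
      HasRingHomProperty.Spec_iff.2 (RingHom.smooth_algebraMap.2 (hsm x))
    exact MorphismProperty.comp_mem @Smooth _ _ inferInstance inferInstance
  refine ⟨∐ F, Sigma.desc φ, IsZariskiLocalAtSource.sigmaDesc inferInstance, ⟨fun x => ?_⟩, ?_, fun z' => ?_⟩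
  · obtain ⟨Q, hQ, hQ'⟩ := hpt x
    refine ⟨Sigma.ι F x ⟨Q, hQ⟩, ?_⟩
    rw [← Scheme.Hom.comp_apply, Sigma.ι_desc]
    show (hU x).fromSpec (Spec.map (CommRingCat.ofHom (algebraMap Γ(X, U x) (R' x))) ⟨Q, hQ⟩) = x
    rw [show Spec.map (CommRingCat.ofHom (algebraMap Γ(X, U x) (R' x))) ⟨Q, hQ⟩ = (hU x).primeIdealOf ⟨x, hxU x⟩ from
      PrimeSpectrum.ext hQ', (hU x).fromSpec_primeIdealOf]
  · infer_instance
  · let G : ∐ F ⟶ X := Sigma.desc φ
    let i' := pullback.snd i G
    let g' := pullback.fst i G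
    obtain ⟨x, y, hy⟩ := (Scheme.IsLocallyDirected.openCover (Discrete.functor F)).exists_eq (i' z') |>
      fun ⟨⟨x⟩, y, hy⟩ => (⟨x, y, hy⟩ : ∃ x y, Sigma.ι F x y = i' z')
    let W : (∐ F).Opens := Sigma.ι F x ''ᵁ ⊤
    have hW : IsAffineOpen W := (isAffineOpen_top (F x)).image_of_isOpenImmersion _
    have hGι : Sigma.ι F x ≫ G = φ x := Sigma.ι_desc _ _
    have hle : W ≤ G ⁻¹ᵁ U x := by
      rintro _ ⟨w, -, rfl⟩
      show G (Sigma.ι F x w) ∈ U x
      rw [← Scheme.Hom.comp_apply, hGι, ← SetLike.mem_coe, ← (hU x).range_fromSpec]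
      exact ⟨_, rfl⟩
    have hzW : i' z' ∈ W := ⟨y, trivial, hy⟩
    haveI : IsClosedImmersion (i ∣_ U x) := IsZariskiLocalAtTarget.restrict (P := @IsClosedImmersion) inferInstance _
    haveI : IsClosedImmersion (i' ∣_ W) := IsZariskiLocalAtTarget.restrict (P := @IsClosedImmersion) inferInstance _
    obtain ⟨hUY, hUs⟩ := Synt29.surjective_app_of_isClosedImmersion_restrict i (U x) (hU x)
    obtain ⟨hWY, -⟩ := Synt29.surjective_app_of_isClosedImmersion_restrict i' W hW
    have hsq : IsPullback g' i' i G := IsPullback.of_hasPullback i G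
    have hUY' : i' ⁻¹ᵁ W = g' ⁻¹ᵁ (i ⁻¹ᵁ U x) ⊓ i' ⁻¹ᵁ W := by
      refine (inf_eq_right.2 fun y hy => ?_).symm
      show i (g' y) ∈ U x
      rw [← Scheme.Hom.comp_apply, hsq.w, Scheme.Hom.comp_apply]
      exact hle hy
    have hpo := (isIso_pushoutSection_iff hsq hle le_rfl hUY').1
      (isIso_pushoutSection_of_isAffineOpen hsq hle le_rfl hUY' (hU x) hW hUY)
    have hs : Function.Surjective (i.appLE (U x) (i ⁻¹ᵁ U x) le_rfl) := by
      rw [← Scheme.Hom.app_eq_appLE]
      exact hUs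
    have hk := RegImmLib.ker_of_isPushout hpo hs
    rw [← Scheme.Hom.app_eq_appLE, ← Scheme.Hom.app_eq_appLE] at hk
    let e : Γ(∐ F, W) ≅ CommRingCat.of (R' x) :=
      (Sigma.ι F x).appIso ⊤ ≪≫ Scheme.ΓSpecIso (CommRingCat.of (R' x))
    have hψ : G.appLE (U x) W hle ≫ e.hom = CommRingCat.ofHom (algebraMap Γ(X, U x) (R' x)) := by
      have key : ∀ (h : F x ⟶ X) (_ : h = φ x) (e : ⊤ ≤ h ⁻¹ᵁ U x), h.appLE (U x) ⊤ e =
          CommRingCat.ofHom (algebraMap Γ(X, U x) (R' x)) ≫ (Scheme.ΓSpecIso (CommRingCat.of (R' x))).inv := by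
        rintro h rfl e
        simp only [φ, Scheme.Hom.appLE, Scheme.Hom.comp_app, (hU x).fromSpec_app_self, Category.assoc]
        rw [Scheme.ΓSpecIso_inv_naturality]
        simp only [Scheme.Hom.naturality_assoc, ← Functor.map_comp, Scheme.Hom.appTop]
        congr 1
      rw [Iso.trans_hom, Scheme.Hom.appIso_hom', ← Category.assoc, Scheme.Hom.appLE_comp_appLE, key _ hGι,
        Category.assoc, Iso.inv_hom_id, Category.comp_id]
    let ψ : R' x →+* Γ(∐ F, W) := e.inv.hom
    have hψ' : ψ.comp (algebraMap Γ(X, U x) (R' x)) = (G.appLE (U x) W hle).hom := by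
      have h1 : CommRingCat.ofHom (algebraMap Γ(X, U x) (R' x)) ≫ e.inv = G.appLE (U x) W hle := by
        rw [← hψ, Category.assoc, e.hom_inv_id, Category.comp_id]
      rw [← h1]; rfl
    have hbij : Function.Bijective ψ := e.commRingCatIsoToRingEquiv.symm.bijective
    have hker' : RingHom.ker (i'.app W).hom = Ideal.span (Set.range (ψ ∘ g x)) := by
      rw [hk, ← hψ', ← Ideal.map_map, ← hspan x, Ideal.map_span, ← Set.range_comp]
    have hwreg : RegCover.WReg ⊥ (ψ ∘ g x) := by
      intro j w hw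
      obtain ⟨w, rfl⟩ := hbij.2 w
      rw [bot_sup_eq, Set.image_comp, ← Ideal.map_span, Function.comp_apply, ← map_mul,
        Ideal.mem_map_iff_of_surjective _ hbij.2] at hw
      obtain ⟨v, hv, hv'⟩ := hw
      rw [hbij.1 hv'] at hv
      rw [bot_sup_eq, Set.image_comp, ← Ideal.map_span]
      exact Ideal.mem_map_of_mem _ (by simpa using hg x j w (by simpa using hv))
    refine ⟨⟨W, hW⟩, hzW, inferInstance, List.ofFn (ψ ∘ g x), isRegular_of_wreg _ hwreg ?_,
      hker'.trans (RegImmLib.span_range_eq_ofList _)⟩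
    rw [← hker']
    exact fun htop => (hW.primeIdealOf ⟨i' z', hzW⟩).isPrime.ne_top
      (top_le_iff.1 (htop ▸ KRegLib.ker_app_le_primeIdealOf i' hW hWY z' hzW))

end Groth.Agent.S8856
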