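import Groth.Statements.S8858
import Groth.Agent.BlowSep.Wide
import Groth.Agent.BlowUpLib.Glue
import Groth.Agent.BlowUpX.Basic
import Groth.Agent.S1683

set_option autoImplicit false
universe u
open CategoryTheory CategoryTheory.Limits AlgebraicGeometry TopologicalSpace
open SDiv

namespace Groth.Agent.S8858

/-- Let X be a quasi-compact and quasi-separated scheme, U ⊆ X a quasi-compact open subscheme, and b_i :
X_i ⟶ X, i < n, blowing ups of X in quasi-coherent ideal sheaves 𝓘_i of finite type with support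
disjoint from U (U-admissible blow-ups). Then there is a U-admissible blow-up c : X' ⟶ X such that
(a) c factors as X' ⟶ X_i ⟶ X for every i, and (b) each factor X' ⟶ X_i is a blowing up of X_i in a
quasi-coherent ideal sheaf of finite type whose support is disjoint from the inverse image of U. -/
theorem result (X : Scheme.{u}) [CompactSpace ↥X] [QuasiSeparatedSpace ↥X]
    (U : X.Opens) (hU : IsCompact (U : Set ↥X)) {n : ℕ} (Xi : Fin n → Scheme.{u}) (b : ∀ i, Xi i ⟶ X)
    (𝓘 : Fin n → X.IdealSheafData) (hb : ∀ i, BlowUp.IsBlowUp (b i) (𝓘 i)) (ha : ∀ i, BlowUp.IsAdmissibleFor U (𝓘 i)) :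
    ∃ (𝓙 : X.IdealSheafData) (X' : Scheme.{u}) (c : X' ⟶ X), BlowUp.IsBlowUp c 𝓙 ∧ BlowUp.IsAdmissibleFor U 𝓙 ∧
      ∀ i, ∃ (g : X' ⟶ Xi i) (𝓚 : (Xi i).IdealSheafData), g ≫ b i = c ∧ BlowUp.IsBlowUp g 𝓚 ∧
        BlowUp.IsAdmissibleFor ((b i) ⁻¹ᵁ U) 𝓚 := by
  classical
  have hFG : ∀ s : Finset (Fin n), BlowUp.IsAdmissibleFor U (∏ i ∈ s, 𝓘 i) := by
    intro s
    induction s using Finset.induction_on with
    | empty =>
      rw [Finset.prod_empty, Scheme.IdealSheafData.one_eq_top]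
      exact ⟨fun V => by rw [Scheme.IdealSheafData.ideal_top]; exact ⟨{1}, by simp⟩, by simp⟩
    | insert a s h ih =>
      rw [Finset.prod_insert h]
      refine ⟨fun V => ?_, ?_⟩
      · rw [Scheme.IdealSheafData.ideal_mul, Pi.mul_apply]
        exact Submodule.FG.mul ((ha a).1 V) (ih.1 V)
      · rw [Scheme.IdealSheafData.support_mul, TopologicalSpace.Closeds.coe_sup]
        exact (ha a).2.union_left ih.2
  obtain ⟨X', c, hc⟩ := BlowUpLib.exists_blowUp (∏ i, 𝓘 i)
  refine ⟨_, X', c, hc, hFG Finset.univ, fun i => ?_⟩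
  let R := ∏ j ∈ Finset.univ.erase i, 𝓘 j
  have hprod : 𝓘 i * R = ∏ j, 𝓘 j := Finset.mul_prod_erase _ _ (Finset.mem_univ i)
  obtain ⟨Y, g, hg⟩ := BlowUpLib.exists_blowUp (R.comap (b i))
  have hgb : BlowUp.IsBlowUp (g ≫ b i) (∏ j, 𝓘 j) := hprod ▸ S1683.result (𝓘 i) R (b i) (hb i) g hg
  obtain ⟨e, he⟩ := BlowUpLib.exists_iso hc hgb
  refine ⟨e.hom ≫ g, R.comap (b i), by rw [Category.assoc, he], BlowUpLib.isBlowUp_iso_comp e.hom hg,
    MorLib.IdealFG.isFG_comap (hFG _).1 _, Set.disjoint_left.2 fun y hy hyU => ?_⟩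
  rw [Scheme.IdealSheafData.support_comap] at hy
  exact Set.disjoint_left.1 (hFG _).2 hy hyU

end Groth.Agent.S8858
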