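import Groth.Statements.S8860
import Groth.Agent.S8878
import Groth.Agent.S8880
import Groth.Agent.S8881
import Groth.Agent.ConsPropLib.Noetherian

set_option autoImplicit false
set_option backward.isDefEq.respectTransparency false
set_option backward.isDefEq.respectTransparency.types false
universe u
open CategoryTheory CategoryTheory.Limits AlgebraicGeometry TopologicalSpace
open SDiv

namespace Groth.Agent.S8860

/-- Let π : X ⟶ Y be a finite surjective morphism of schemes with X quasi-affine. If either π is finite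
locally free (finite, flat and locally of finite presentation), or Y is integral with all local
rings integrally closed domains (normal), then Y is quasi-affine. -/
theorem result {X Y : Scheme.{u}} (π : X ⟶ Y) [IsFinite π] [Surjective π]
    (hX : X.IsQuasiAffine) (h : Mor2.IsFinLocFree π ∨ (IsIntegral Y ∧ Pi1.IsNormalScheme Y)) :
    Y.IsQuasiAffine := by
  haveI : CompactSpace Y := ⟨by
    rw [← π.surjective.range_eq]
    haveI := hX.toCompactSpace
    exact isCompact_range π.continuous⟩
  rcases h with ⟨-, hfl, hfp⟩ | ⟨hint, hnor⟩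
  · refine @Scheme.IsQuasiAffine.of_forall_exists_mem_basicOpen Y _ fun y => ?_
    have hlc := Scheme.Hom.isLocallyConstant_finrank π
    let d := π.finrank y
    let W : Y.Opens := ⟨π.finrank ⁻¹' {d}, hlc _⟩
    let V : Y.Opens := ⟨π.finrank ⁻¹' {d}ᶜ, hlc _⟩
    haveI : (W : Scheme.{u}).IsQuasiAffine := by
      haveI : CompactSpace X := hX.toCompactSpace
      haveI : CompactSpace (π ⁻¹ᵁ W : Scheme.{u}) := isCompact_iff_compactSpace.mp
        ((hlc.isClopen_fiber d).isClosed.preimage π.continuous).isCompact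
      haveI : X.IsQuasiAffine := hX
      have hq : (π ⁻¹ᵁ W : Scheme.{u}).IsQuasiAffine :=
        Scheme.IsQuasiAffine.of_isImmersion (π ⁻¹ᵁ W).ι
      have hdeg : Mor2.IsFinLocFreeOfDeg d (π ∣_ W) := by
        refine ⟨⟨IsZariskiLocalAtTarget.restrict (P := @IsFinite) inferInstance W,
          IsZariskiLocalAtTarget.restrict (P := @Flat) hfl W,
          IsZariskiLocalAtTarget.restrict (P := @LocallyOfFinitePresentation) hfp W⟩, fun w => ?_⟩
        rw [Scheme.Hom.finrank_of_isPullback _ _ π W.ι (isPullback_morphismRestrict π W).flip w]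
        exact w.2
      have hd : 1 ≤ d := (Scheme.Hom.one_le_finrank_iff_surjective π).2 inferInstance y
      obtain ⟨N⟩ := Groth.Agent.S8878.result (π ∣_ W) d hd hdeg
      exact Groth.Agent.S8880.result (π ∣_ W) d ⟨N⟩ hq
    have hyW : y ∈ W := rfl
    obtain ⟨_, ⟨_, ⟨r, hr, rfl⟩, rfl⟩, hyr, -⟩ := (Scheme.IsQuasiAffine.isBasis_basicOpen
      (W : Scheme.{u})).exists_subset_of_mem_open (Set.mem_univ (⟨y, hyW⟩ : W)) isOpen_univ
    let a : Γ(Y, W) := W.topIso.hom r
    obtain ⟨a', ha', -⟩ := Y.sheaf.existsUnique_gluing' (fun b : ULift.{u} Bool => bif b.down then W else V) ⊤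
      (fun _ => homOfLE le_top)
      (fun z _ => by
        by_cases hz : π.finrank z = d
        · exact TopologicalSpace.Opens.mem_iSup.mpr ⟨⟨true⟩, hz⟩
        · exact TopologicalSpace.Opens.mem_iSup.mpr ⟨⟨false⟩, hz⟩)
      (fun b => match b with | ⟨true⟩ => a | ⟨false⟩ => (0 : Γ(Y, V)))
      (by
        have hbot : W ⊓ V ≤ (⊥ : Y.Opens) := fun z hz => hz.2 hz.1
        rintro ⟨_ | _⟩ ⟨_ | _⟩ <;> dsimp only [cond]
        · apply congrArg; rfl
        · suffices Subsingleton Γ(Y, V ⊓ W) from @Subsingleton.elim _ this _ _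
          rw [show V ⊓ W = ⊥ from eq_bot_iff.2 (by rwa [inf_comm])]; exact CommRingCat.subsingleton_of_isTerminal Y.sheaf.isTerminalOfEmpty
        · suffices Subsingleton Γ(Y, W ⊓ V) from @Subsingleton.elim _ this _ _
          rw [show W ⊓ V = ⊥ from eq_bot_iff.2 hbot]; exact CommRingCat.subsingleton_of_isTerminal Y.sheaf.isTerminalOfEmpty
        · apply congrArg; rfl)
    have hW : Y.presheaf.map (homOfLE (le_top : W ≤ ⊤)).op a' = a := ha' ⟨true⟩
    have hV : Y.presheaf.map (homOfLE (le_top : V ≤ ⊤)).op a' = 0 := ha' ⟨false⟩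
    have hle : Y.basicOpen a' ≤ W := fun z hz => by
      by_contra hzW
      have h0 : z ∈ Y.basicOpen (Y.presheaf.map (homOfLE (le_top : V ≤ ⊤)).op a') := by
        rw [Scheme.basicOpen_res]; exact ⟨hzW, hz⟩
      rw [hV, Scheme.basicOpen_zero] at h0
      exact h0
    have heq : Y.basicOpen a' = W.ι ''ᵁ (W : Scheme.{u}).basicOpen r := by
      rw [Scheme.image_basicOpen, ← inf_eq_right.2 hle, ← Scheme.basicOpen_res Y a' (homOfLE le_top).op, hW]
      simp [a]
      erw [Scheme.basicOpen_res_eq]
      rfl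
    refine ⟨a', ?_, ?_⟩
    · rw [heq]; exact hr.image_of_isOpenImmersion _
    · rw [heq]; exact ⟨⟨y, hyW⟩, hyr, rfl⟩
  · obtain ⟨x, hx⟩ := π.surjective (genericPoint Y)
    obtain ⟨Z, j, _, _, -, hgen⟩ := Groth.Agent.ConsPropLib.exists_integral_closure x
    haveI : X.IsQuasiAffine := hX
    haveI : CompactSpace Z := QuasiCompact.compactSpace_of_compactSpace j
    haveI hZ : Z.IsQuasiAffine := Scheme.IsQuasiAffine.of_isImmersion j
    haveI : IsFinite (j ≫ π) := inferInstance
    haveI : Surjective (j ≫ π) := ⟨Set.range_eq_univ.1 (Set.univ_subset_iff.1 (by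
      rw [← genericPoint_closure (α := Y)]
      exact closure_minimal (Set.singleton_subset_iff.2 ⟨genericPoint Z, by
        rw [Scheme.Hom.comp_apply, hgen, hx]⟩) (j ≫ π).isClosedMap.isClosed_range))⟩
    obtain ⟨d, hd⟩ := Groth.Agent.S8881.result (j ≫ π) hnor
    exact Groth.Agent.S8880.result (j ≫ π) d hd hZ

end Groth.Agent.S8860
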