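import Groth.Statements.S8861
import Groth.Agent.AssPtX.Regular
import Groth.Agent.HTopCov.AlmostBlowUp

set_option autoImplicit false
universe u
open CategoryTheory CategoryTheory.Limits AlgebraicGeometry TopologicalSpace
open SDiv

namespace Groth.Agent.S8861

/-- Let f : X ⟶ Y be a morphism of schemes and 𝓘 the ideal sheaf of an effective Cartier divisor D ⊆ Y.
If f x ∉ D for every weakly associated point x of X (weakly associated point of the structure
sheaf), then the inverse image ideal sheaf of 𝓘 on X is the ideal of an effective Cartier divisor,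
i.e. the pullback of D by f is defined. -/
theorem result {X Y : Scheme.{u}} (f : X ⟶ Y) (𝓘 : Y.IdealSheafData)
    (hD : BlowUp.IsEffCartierIdeal 𝓘)
    (h : ∀ x : ↥X, Curv2.IsWeakAssPoint (Coh.structureModule X) x → f x ∉ 𝓘.support) :
    BlowUp.IsEffCartierIdeal (𝓘.comap f) := by
  intro x
  obtain ⟨U, hU, g, -, hg⟩ := hD (f x)
  obtain ⟨V, hV, hxV, hle'⟩ := exists_isAffineOpen_mem_and_subset (x := x) (U := f ⁻¹ᵁ U.1) hU
  have hle : V ≤ f ⁻¹ᵁ U.1 := hle'
  let t := f.appLE U.1 V hle g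
  have hideal : (𝓘.comap f).ideal ⟨V, hV⟩ = Ideal.span {t} := by
    rw [Groth.Agent.HTopCov.ideal_comap_appLE f 𝓘 U ⟨V, hV⟩ hle, hg, Ideal.map_span, Set.image_singleton]
  refine ⟨⟨V, hV⟩, hxV, t, ?_, hideal⟩
  have hreg : t ∈ Mero.regSub X V := Groth.Agent.AssPtX.germ_mem_nonZeroDivisors_of_weakAss t fun z hz hza => by
    rw [← Scheme.mem_basicOpen]
    by_contra hzt
    refine h z hza ?_
    have h1 : f z ∈ (U.1 : Set Y) := hle hz
    have h2 : z ∉ f ⁻¹ᵁ Y.basicOpen g := fun hc => hzt (by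
      show z ∈ X.basicOpen t
      rw [Scheme.basicOpen_appLE]
      exact ⟨hz, hc⟩)
    have h3 : f z ∈ Y.zeroLocus (U := U.1) (𝓘.ideal U : Set Γ(Y, U.1)) ∩ U.1 := by
      refine ⟨?_, h1⟩
      rw [hg, Scheme.zeroLocus_span, Scheme.zeroLocus_singleton]
      exact h2
    rw [← 𝓘.coe_support_inter U] at h3
    exact h3.1
  rw [mem_nonZeroDivisors_iff_right]
  intro b hb
  refine TopCat.Presheaf.section_ext X.sheaf V _ _ fun z hz => ?_
  have hbz := congrArg (X.presheaf.germ V z hz) hb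
  rw [map_mul, map_zero] at hbz
  exact ((mem_nonZeroDivisors_iff_right.1 (hreg ⟨z, hz⟩)) _ hbz).trans (map_zero _).symm

end Groth.Agent.S8861
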