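import Groth.Statements.S8865
import Mathlib

set_option autoImplicit false
set_option backward.isDefEq.respectTransparency false
set_option backward.isDefEq.respectTransparency.types false
universe u
open CategoryTheory CategoryTheory.Limits AlgebraicGeometry TopologicalSpace
open SDiv

namespace Groth.Agent.S8865

/-- Let X be a quasi-compact scheme, h a global section of O_X and f a global section of the sheaf of
meromorphic functions K_X whose restriction to the open X_h where h is invertible vanishes. Then h^n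
f = 0 in K_X(X) for some natural number n. -/
theorem result (X : Scheme.{u}) [CompactSpace ↥X] (h : Γ(X, ⊤))
    (f : Γ(Mero.kmod X, ⊤)) (hf : (Mero.kmod X).presheaf.map (homOfLE (le_top : X.basicOpen h ≤ ⊤)).op f = 0) :
    ∃ n : ℕ, Mero.toK X ⊤ h ^ n * f = 0 := by
  classical
  have key : ∀ x : X, ∃ (W : X.Opens), x ∈ W ∧ ∃ n : ℕ, ∀ y : X, y ∈ W →
      (Mero.toK X ⊤ h ^ n * f).1 ⟨y, trivial⟩ = 0 := fun x => by
    obtain ⟨V, hxV, i, a, b, w⟩ := f.2 (⟨x, trivial⟩ : (⊤ : X.Opens))
    obtain ⟨_, ⟨W, hW, rfl⟩, hxW, hWV⟩ := X.isBasis_affineOpens.exists_subset_of_mem_open hxV V.isOpen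
    let a' : Γ(X, W) := X.presheaf.map (homOfLE hWV).op a
    let h' : Γ(X, W) := X.presheaf.map (homOfLE (le_top : W ≤ ⊤)).op h
    have ha : X.presheaf.map (homOfLE (X.basicOpen_le h')).op a' = 0 := by
      refine TopCat.Presheaf.section_ext X.sheaf _ _ _ fun y hy => ?_
      have hyW : y ∈ W := X.basicOpen_le h' hy
      have hyh : y ∈ X.basicOpen h := by
        rw [Scheme.basicOpen_res] at hy
        exact hy.2
      have h0 : f.1 ⟨y, trivial⟩ = 0 := congrArg (fun t => t.1 ⟨y, hyh⟩) hf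
      have h1 : LocalizedModule.mk (X.presheaf.germ V y (hWV hyW) a) (Mero.regGerm ⟨y, hWV hyW⟩ b) =
          (0 : Mero.KStalk X y) := (w ⟨y, hWV hyW⟩).symm.trans h0
      rw [← LocalizedModule.zero_mk (Mero.regGerm ⟨y, hWV hyW⟩ b), LocalizedModule.mk_eq] at h1
      obtain ⟨⟨c, U, hyU, s, hs, hsc⟩, hc⟩ := h1
      have hreg : c ∈ nonZeroDivisors (X.presheaf.stalk y) := hsc ▸ hs ⟨y, hyU⟩
      have hbreg : X.presheaf.germ V y (hWV hyW) b.1 ∈ nonZeroDivisors (X.presheaf.stalk y) :=
        b.2 ⟨y, hWV hyW⟩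
      simp only [smul_zero, Submonoid.smul_def, smul_eq_mul] at hc
      have hz : X.presheaf.germ V y (hWV hyW) a = 0 :=
        hbreg.1 _ (hreg.1 _ hc)
      show X.presheaf.germ (X.basicOpen h') y hy (X.presheaf.map _ a') = X.presheaf.germ (X.basicOpen h') y hy 0
      rw [TopCat.Presheaf.germ_res_apply, map_zero]
      show X.presheaf.germ W y hyW (X.presheaf.map (homOfLE hWV).op a) = 0
      refine (TopCat.Presheaf.germ_res_apply X.presheaf _ _ _ a).trans ?_
      exact hz
    letI : Algebra Γ(X, W) Γ(X, X.basicOpen h') := (X.presheaf.map (homOfLE (X.basicOpen_le h')).op).hom.toAlgebra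
    haveI : IsLocalization.Away h' Γ(X, X.basicOpen h') := hW.isLocalization_basicOpen h'
    obtain ⟨⟨_, n, rfl⟩, hn⟩ := (IsLocalization.map_eq_zero_iff (Submonoid.powers h') Γ(X, X.basicOpen h') a').1 ha
    refine ⟨W, hxW, n, fun y hy => ?_⟩
    rw [← map_pow, Mero.kmod_mul_apply]
    show (LocalizedModule.mk (X.presheaf.germ ⊤ y trivial (h ^ n)) 1 : Mero.KStalk X y) * f.1 ⟨y, trivial⟩ = 0
    have e : f.1 ⟨y, trivial⟩ = LocalizedModule.mk (X.presheaf.germ V y (hWV hy) a) (Mero.regGerm ⟨y, hWV hy⟩ b) :=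
      w ⟨y, hWV hy⟩
    rw [e, LocalizedModule.mk_mul_mk]
    have h2 := congrArg (X.presheaf.germ W y hy) hn
    simp only [map_mul, map_pow, map_zero, h', a', TopCat.Presheaf.germ_res_apply] at h2; erw [TopCat.Presheaf.germ_res_apply] at h2
    rw [map_pow, h2, LocalizedModule.zero_mk]
  choose W hW n hn using key
  obtain ⟨t, ht⟩ := isCompact_univ.elim_finite_subcover (fun x => (W x : Set X)) (fun x => (W x).isOpen)
    (fun x _ => Set.mem_iUnion.2 ⟨x, hW x⟩)
  refine ⟨t.sup n, Subtype.ext (funext fun y => ?_)⟩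
  obtain ⟨x, hxt, hy⟩ := Set.mem_iUnion₂.1 (ht (Set.mem_univ y.1))
  have h3 := hn x y.1 hy
  rw [← Nat.add_sub_cancel' (Finset.le_sup (f := n) hxt), pow_add, mul_comm (_ ^ n x), mul_assoc,
    Mero.kmod_mul_apply, h3, mul_zero]
  rfl

end Groth.Agent.S8865
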