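import Groth.Statements.S8871
import Groth.Agent.S5752
import Groth.Agent.AssLib.Basic
import Groth.Agent.CycLib.FinLen
import Groth.Agent.Lib.CurveBundle

set_option autoImplicit false
set_option backward.isDefEq.respectTransparency false
set_option backward.isDefEq.respectTransparency.types false
universe u
open CategoryTheory CategoryTheory.Limits AlgebraicGeometry TopologicalSpace
open SDiv

namespace Groth.Agent.S8871

/-- Let X be a locally Noetherian scheme and F a coherent O_X-module. Then F has no embedded associated
points (every associated point of F is maximal among the associated points of F under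
specialization) if and only if F has property (S_1): for every point x, depth F_x ≥ min(1, dim Supp
F_x), where dim Supp F_x is the Krull dimension of the support of the O_{X,x}-module F_x (for F_x =
0 the depth is infinite and the support empty, so the condition holds). -/
theorem result (X : Scheme.{u}) [IsLocallyNoetherian X] (F : X.Modules) (hF : Coh.IsCoh F) :
    (∀ x : ↥X, Curv2.IsAssPoint F x → ∀ y : ↥X, Curv2.IsAssPoint F y → y ⤳ x → y = x) ↔
      ∀ x : ↥X, min (1 : WithBot ℕ∞) (Module.supportDim ↑(X.presheaf.stalk x) ↑(F.presheaf.stalk x)) ≤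
        ((LocCoh.depth (X.presheaf.stalk x) (F.presheaf.stalk x) : ℕ∞) : WithBot ℕ∞) := by
  haveI hfin : ∀ x : X, Module.Finite (X.presheaf.stalk x) (F.presheaf.stalk x) :=
    fun x => Groth.Agent.CurveBundle.finite_stalk_of_coh hF x
  constructor
  · intro h x
    by_cases hx : IsLocalRing.maximalIdeal (X.presheaf.stalk x) ∈
        associatedPrimes (X.presheaf.stalk x) (F.presheaf.stalk x)
    · have hfl : IsFiniteLength (X.presheaf.stalk x) (F.presheaf.stalk x) := by
        refine (Groth.Agent.AssLib.isFiniteLength_stalk_iff hF x).2 fun y hy hyx => ?_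
        obtain ⟨z, hz, hzy⟩ := Groth.Agent.AssLib.exists_ass_specializes hF.1 hy
        have hzx : z = x := h x hx z hz (hzy.trans hyx)
        exact (hyx.antisymm (hzx ▸ hzy)).eq
      refine min_le_of_right_le (le_trans ?_ (WithBot.coe_le_coe.2 bot_le))
      show Module.supportDim _ _ ≤ 0
      haveI : IsArtinian (X.presheaf.stalk x) (F.presheaf.stalk x) :=
        (isFiniteLength_iff_isNoetherian_isArtinian.1 hfl).2
      obtain ⟨k, hk⟩ := Groth.Agent.AssLib.exists_pow_le_annihilator (X.presheaf.stalk x) (F.presheaf.stalk x)
      refine Order.krullDim_nonpos_iff_forall_isMax.2 fun p q hpq => ?_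
      have hp : IsLocalRing.maximalIdeal (X.presheaf.stalk x) ≤ p.1.asIdeal := by
        exact p.1.isPrime.le_of_pow_le (hk.trans (Module.annihilator_le_of_mem_support p.2))
      exact (IsLocalRing.le_maximalIdeal q.1.isPrime.ne_top).trans hp
    · refine min_le_of_left_le ?_
      have h1 : (1 : ℕ∞) ≤ LocCoh.depth (X.presheaf.stalk x) (F.presheaf.stalk x) := by
        rw [Order.one_le_iff_pos, pos_iff_ne_zero]
        exact fun h0 => hx ((Groth.Agent.S5752.result _ _).1 h0)
      exact_mod_cast h1
  · intro h x hx y hy hyx
    have h0 := (Groth.Agent.S5752.result (X.presheaf.stalk x) (F.presheaf.stalk x)).2 hx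
    have := h x
    rw [h0] at this
    have hd : Module.supportDim (X.presheaf.stalk x) (F.presheaf.stalk x) ≤ 0 := by
      by_contra hcon
      refine absurd this (not_le.2 (lt_min ?_ (not_le.1 hcon)))
      exact_mod_cast one_pos
    have hfl : IsFiniteLength (X.presheaf.stalk x) (F.presheaf.stalk x) :=
      Module.length_ne_top_iff.1 (Groth.Agent.CycLib.length_ne_top_of_support
        (Groth.Agent.CycLib.support_subset_of_supportDim_le_zero hd))
    exact (Groth.Agent.AssLib.isFiniteLength_stalk_iff hF x).1 hfl y
      (Groth.Agent.AssLib.mem_support_of_mem_ass hy) hyx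

end Groth.Agent.S8871
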