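import Groth.Statements.S8882
import Groth.Agent.AModX.Res
import Mathlib.Algebra.CharP.Lemmas

set_option autoImplicit false
set_option backward.isDefEq.respectTransparency false
set_option backward.isDefEq.respectTransparency.types false
universe u
open CategoryTheory CategoryTheory.Limits AlgebraicGeometry TopologicalSpace
open SDiv

open TopologicalSpace Groth.Agent.AModX
namespace Groth.Agent.S8882

/-- Let X be a Noetherian scheme on which a prime number p is zero (p·O_X = 0). Then the closed
immersion X_red ⟶ X cut out by the nilradical carries a norm whose degree is p^e for some e > 0. -/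
theorem result (X : Scheme.{u}) [IsNoetherian X] (p : ℕ) (hp : p.Prime)
    (hpX : (p : Γ(X, ⊤)) = 0) : ∃ e : ℕ, 0 < e ∧ Nrm.HasNorm X.nilradical.subschemeι (p ^ e) := by
  classical
  obtain ⟨S, hS⟩ := isCompact_univ.elim_finite_subcover (fun W : X.affineOpens => (W.1 : Set X)) (fun W => W.1.2)
    fun x _ => by
      obtain ⟨_, ⟨W, hW, rfl⟩, hxW, -⟩ := X.isBasis_affineOpens.exists_subset_of_mem_open
        (Set.mem_univ x) isOpen_univ
      exact Set.mem_iUnion.2 ⟨⟨W, hW⟩, hxW⟩
  have hn : ∀ W : S, ∃ n, X.nilradical.ideal W.1 ^ n = ⊥ := fun W => by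
    haveI : IsNoetherianRing Γ(X, W.1.1) := IsLocallyNoetherian.component_noetherian W.1
    rw [show X.nilradical.ideal W.1 = nilradical Γ(X, W.1.1) from rfl]
    exact IsNoetherianRing.isNilpotent_nilradical _
  choose n hn using hn
  let e := Finset.univ.sup n + 1
  let q := p ^ e
  have hq : ∀ W, n W ≤ q := fun W =>
    ((Finset.le_sup (Finset.mem_univ W)).trans (Nat.le_succ _)).trans (Nat.lt_pow_self hp.one_lt).le
  have hbot : X.nilradical ^ q = ⊥ := by
    refine Scheme.IdealSheafData.ext_of_iSup_eq_top (fun W : S => W.1) ?_ fun W => ?_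
    · refine top_le_iff.1 fun x _ => ?_
      obtain ⟨W, hW, hxW⟩ := Set.mem_iUnion₂.1 (hS (Set.mem_univ x))
      exact Opens.mem_iSup.2 ⟨⟨W, hW⟩, hxW⟩
    · rw [Scheme.IdealSheafData.ideal_pow, Pi.pow_apply]
      exact le_bot_iff.1 ((Ideal.pow_le_pow_right (hq W)).trans (hn W).le)
  let i := X.nilradical.subschemeι
  have hkey : ∀ (V : X.affineOpens) (a b : Γ(X, V.1)), i.app V.1 a = i.app V.1 b → a ^ q = b ^ q := by
    intro V a b hab
    have hmem : a - b ∈ X.nilradical.ideal V := by
      rw [← Scheme.IdealSheafData.ker_subschemeι_app X.nilradical V, RingHom.mem_ker, map_sub]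
      exact sub_eq_zero.2 hab
    have h0 : (a - b) ^ q = 0 := by
      have := congrArg (fun I : X.IdealSheafData => I.ideal V) hbot
      simp only [Scheme.IdealSheafData.ideal_pow, Pi.pow_apply, Scheme.IdealSheafData.ideal_bot, Pi.bot_apply] at this
      exact (Ideal.mem_bot).1 (this ▸ Ideal.pow_mem_pow hmem q)
    have hp0 : (p : Γ(X, V.1)) = 0 := by
      have := congrArg (X.presheaf.map (homOfLE (le_top : V.1 ≤ ⊤)).op) hpX
      rwa [map_natCast, map_zero] at this
    conv_lhs => rw [← sub_add_cancel a b, (Commute.all _ b).add_pow_prime_pow_eq' hp e, hp0]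
    rw [zero_mul, add_zero, h0, zero_add]
  let R : ∀ (U : X.Opens), Γ(X.nilradical.subscheme, i ⁻¹ᵁ U) → Γ(X, U) → Prop := fun U s t =>
    ∀ (V : X.affineOpens) (h : V.1 ≤ U) (a : Γ(X, V.1)), i.app V.1 a = resR (i.preimage_mono h) s →
      resR h t = a ^ q
  have hnat : ∀ {U V : X.Opens} (h : V ≤ U) (a : Γ(X, U)),
      i.app V (resR h a) = resR (i.preimage_mono h) (i.app U a) := fun h a =>
    ConcreteCategory.congr_hom (i.naturality (homOfLE h).op) a
  have hex : ∀ U s, ∃! t, R U s t := by
    intro U s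
    let ι : Type u := {V : X.affineOpens // V.1 ≤ U}
    choose a ha using fun V : ι =>
      (i.app_surjective V.1.1 V.1.2) (resR (i.preimage_mono V.2) s)
    obtain ⟨t, ht, huniq⟩ := existsUnique_glue (M := Coh.structureModule X) (V := U) (fun V : ι => V.1.1)
      (fun V => V.2) (fun y hy => by
        obtain ⟨_, ⟨W, hW, rfl⟩, hyW, hWU⟩ := X.isBasis_affineOpens.exists_subset_of_mem_open hy U.isOpen
        exact ⟨⟨⟨W, hW⟩, hWU⟩, hyW⟩)
      (fun V => (a V ^ q : Γ(X, V.1.1))) (fun V V' => by
        refine eq_of_locally _ _ fun y hy => ?_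
        obtain ⟨_, ⟨W, hW, rfl⟩, hyW, hWV⟩ :=
          X.isBasis_affineOpens.exists_subset_of_mem_open hy (V.1.1 ⊓ V'.1.1).isOpen
        refine ⟨W, hWV, hyW, ?_⟩
        rw [res_res, res_res]
        show resR (le_trans hWV inf_le_left) (a V ^ q) = resR (le_trans hWV inf_le_right) (a V' ^ q)
        rw [map_pow, map_pow]
        refine hkey ⟨W, hW⟩ _ _ ?_
        rw [hnat, hnat, ha, ha, resR_resR, resR_resR])
    refine ⟨t, fun V h b hb => ?_, fun t' ht' => huniq t' fun V => ht' V.1 V.2 (a V) (ha V)⟩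
    exact (ht ⟨V, h⟩).trans (hkey V _ _ ((ha ⟨V, h⟩).trans hb.symm))
  let N : ∀ U, Γ(X.nilradical.subscheme, i ⁻¹ᵁ U) → Γ(X, U) := fun U s => (hex U s).choose
  have hN : ∀ U s, R U s (N U s) := fun U s => (hex U s).choose_spec.1
  have huniq : ∀ U s t, R U s t → t = N U s := fun U s t => (hex U s).choose_spec.2 t
  refine ⟨e, Nat.succ_pos _, ⟨{
    one_le := Nat.one_le_pow _ _ hp.pos
    norm := fun U =>
      { toFun := N U
        map_one' := (huniq U 1 1 fun V h a ha => by
          rw [map_one, ← one_pow q]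
          refine hkey V _ _ ?_
          rw [ha, map_one, map_one]).symm
        map_mul' := fun s s' => (huniq U _ _ fun V h a ha => by
          obtain ⟨b, hb⟩ := i.app_surjective V.1 V.2 (resR (i.preimage_mono h) s)
          obtain ⟨b', hb'⟩ := i.app_surjective V.1 V.2 (resR (i.preimage_mono h) s')
          rw [map_mul, hN U s V h b hb, hN U s' V h b' hb', ← mul_pow]
          refine hkey V _ _ ?_
          rw [map_mul, hb, hb', ha, map_mul]).symm }
    norm_res := fun {U V} j s => ?_
    norm_app := fun U g => ?_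
    norm_mem := fun U s x hx h => ?_ }⟩⟩
  · refine huniq V _ _ fun W h a ha => ?_
    show resR h (resR j.le (N U s)) = a ^ q
    rw [resR_resR]
    refine hN U s W (h.trans j.le) a ?_
    rw [ha]
    exact resR_resR (i.preimage_mono j.le) (i.preimage_mono h) s
  · refine (huniq U _ _ fun V h a ha => ?_).symm
    rw [map_pow]
    refine hkey V _ _ ?_
    rw [hnat, ha]
  · obtain ⟨_, ⟨W, hW, rfl⟩, hxW, hWU⟩ := X.isBasis_affineOpens.exists_subset_of_mem_open
      (show i x ∈ U from hx) U.isOpen
    obtain ⟨a, ha⟩ := i.app_surjective W hW (resR (i.preimage_mono hWU) s)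
    show X.presheaf.germ U (i x) hx (N U s) ∈ _
    rw [← X.presheaf.germ_res_apply (homOfLE hWU) (i x) hxW]
    show X.presheaf.germ W (i x) hxW (resR hWU (N U s)) ∈ _
    rw [hN U s ⟨W, hW⟩ hWU a ha, map_pow]
    refine Ideal.pow_mem_of_mem _ ?_ q (pow_pos hp.pos e)
    rw [IsLocalRing.mem_maximalIdeal] at h ⊢
    intro hu
    apply h
    have h1 := hu.map (i.stalkMap x).hom
    rw [Scheme.Hom.germ_stalkMap_apply, ha] at h1
    change IsUnit (X.nilradical.subscheme.presheaf.germ (i ⁻¹ᵁ W) x hxW
      (X.nilradical.subscheme.presheaf.map (homOfLE (i.preimage_mono hWU)).op s)) at h1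
    rwa [X.nilradical.subscheme.presheaf.germ_res_apply] at h1

end Groth.Agent.S8882
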