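import Groth.Statements.S8886
import Groth.Agent.FlatMisc.RedTotal

set_option autoImplicit false
universe u
open CategoryTheory CategoryTheory.Limits AlgebraicGeometry TopologicalSpace
open SDiv

namespace Groth.Agent.S8886

/-- Let f : X ⟶ Y be a flat morphism of schemes with Y integral. If the scheme-theoretic fibre of f over
the generic point of Y is integral, then X is integral. -/
theorem result {X Y : Scheme.{u}} (f : X ⟶ Y) [Flat f] [IsIntegral Y]
    (h : IsIntegral (f.fiber (genericPoint ↥Y))) : IsIntegral X := by
  haveI := h
  have hcomp : irreducibleComponents ↥Y = {Set.univ} := by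
    rw [irreducibleComponents_eq_singleton]
  haveI hred : IsReduced X := by
    refine FlatMisc.isReduced_of_flat_of_generic_fibres f (by rw [hcomp]; exact Set.finite_singleton _) fun η hη => ?_
    rw [hcomp, Set.mem_singleton_iff] at hη
    obtain rfl : η = genericPoint ↥Y := IsGenericPoint.eq hη (genericPoint_spec ↥Y)
    infer_instance
  let ξ := f.fiberι (genericPoint ↥Y) (genericPoint ↥(f.fiber (genericPoint ↥Y)))
  have hall : ∀ x : X, ξ ⤳ x := fun x => by
    obtain ⟨z, hz, hfz⟩ := Flat.generalizingMap f ((genericPoint_spec ↥Y).specializes (Set.mem_univ (f x)))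
    obtain ⟨w, hw⟩ : z ∈ Set.range (f.fiberι (genericPoint ↥Y)) := by
      rw [Scheme.Hom.range_fiberι]; exact hfz
    refine Specializes.trans ?_ hz
    rw [← hw]
    exact ((genericPoint_spec _).specializes (Set.mem_univ w)).map (f.fiberι _).continuous
  haveI : IrreducibleSpace ↥X := by
    have hu : closure {ξ} = (Set.univ : Set ↥X) := Set.eq_univ_of_forall fun x => (hall x).mem_closure
    have h1 := (isIrreducible_singleton (x := ξ)).closure
    rw [hu] at h1
    exact (irreducibleSpace_def ↥X).mpr h1
  exact isIntegral_of_irreducibleSpace_of_isReduced X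

end Groth.Agent.S8886
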