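import Groth.Statements.S8887
import Groth.Agent.QCoh.LocFree
import Groth.Agent.QCoh.Support
import Groth.Agent.QCoh.Localize
import Groth.Agent.RefX2.Gen

set_option autoImplicit false
set_option backward.isDefEq.respectTransparency false
set_option backward.isDefEq.respectTransparency.types false
universe u
open CategoryTheory CategoryTheory.Limits AlgebraicGeometry TopologicalSpace
open SDiv

namespace Groth.Agent.S8887

/-- Let X be an integral scheme and F a quasi-coherent O_X-module of finite type, of rank r (r being the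
finite dimension of the generic stalk of F as a vector space over the function field of X). Then one
can find an open subset U of X, not empty, on which the restriction of F is isomorphic to the free
module of rank r. -/
theorem result (X : Scheme.{u}) [IsIntegral X] (F : X.Modules) (hF : Coh.IsQCoh F)
    (hft : CohB1.IsFT F) :
    ∃ U : X.Opens, (U : Set ↥X).Nonempty ∧
      Nonempty (F.restrict U.ι ≅ FlatMod.freeMod (↑U)
        (Module.finrank ↑(X.presheaf.stalk (genericPoint ↥X)) ↑(F.presheaf.stalk (genericPoint ↥X)))) := by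
  classical
  obtain ⟨U, hU, hη, -⟩ := exists_isAffineOpen_mem_and_subset (X := X) (U := ⊤) (x := genericPoint X) trivial
  haveI : Nonempty U := ⟨⟨genericPoint X, hη⟩⟩
  haveI := QCoh.finite_of_isFT hF hft hU
  haveI : Module.Finite X.functionField (F.presheaf.stalk (genericPoint X)) :=
    QCoh.finite_stalk_of_isFT hF hft (genericPoint X)
  let γ : Γ(F, U) → F.presheaf.stalk (genericPoint X) := fun m => F.presheaf.germ U (genericPoint X) hη m
  let ρ : Γ(X, U) → X.functionField := fun a => X.presheaf.germ U (genericPoint X) hη a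
  have hρ : ∀ a, ρ a = 0 → a = 0 := fun a h => germ_injective_of_isIntegral X _ hη (h.trans (map_zero _).symm)
  have hγ : ∀ a m, γ (a • m) = ρ a • γ m := fun a m => QCoh.germ_smul' F hη a m
  have hkill : ∀ m, γ m = 0 → ∃ e : Γ(X, U), e ≠ 0 ∧ e • m = 0 := fun m h => by
    obtain ⟨e, he, hem⟩ := (QCoh.germ_eq_zero_iff hF hU hη m).1 h
    refine ⟨e, fun h0 => ?_, hem⟩
    rw [h0, Scheme.basicOpen_zero] at he
    exact he
  have hsurj : ∀ v, ∃ (m : Γ(F, U)) (q : X.functionField), q ≠ 0 ∧ γ m = q • v := fun v => by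
    letI := QCoh.stalkModule F hη
    haveI := QCoh.isLocalizedModule_germLin hF hU hη
    obtain ⟨⟨m, s⟩, hms⟩ := IsLocalizedModule.surj (hU.primeIdealOf ⟨_, hη⟩).asIdeal.primeCompl (QCoh.germLin F hη) v
    refine ⟨m, ρ s.1, fun h0 => s.2 ?_, hms.symm⟩
    rw [hρ _ h0]
    exact zero_mem _
  let r := Module.finrank X.functionField (F.presheaf.stalk (genericPoint X))
  let b := Module.finBasis X.functionField (F.presheaf.stalk (genericPoint X))
  choose v q hq hv using fun i : Fin r => hsurj (b i)
  let b' := b.unitsSMul fun i => Units.mk0 (q i) (hq i)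
  have hb' : ∀ i, b' i = γ (v i) := fun i => by rw [Module.Basis.unitsSMul_apply, hv]; rfl
  have hsum : ∀ a : Fin r → Γ(X, U), γ (∑ i, a i • v i) = ∑ i, ρ (a i) • b' i := fun a => by
    rw [show γ (∑ i, a i • v i) = ∑ i, γ (a i • v i) from map_sum (F.presheaf.germ U (genericPoint X) hη).hom _ _]
    exact Finset.sum_congr rfl fun i _ => by rw [hγ, hb']
  have hN : ∀ m : Γ(F, U), ∃ e : Γ(X, U), e ≠ 0 ∧ e • m ∈ Submodule.span Γ(X, U) (Set.range v) := fun m => by
    haveI := functionField_isFractionRing_of_isAffineOpen X U hU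
    obtain ⟨⟨d, hd⟩, hd'⟩ := IsLocalization.exist_integer_multiples_of_finite (nonZeroDivisors Γ(X, U))
      fun i => b'.repr (γ m) i
    choose a ha using hd'
    obtain ⟨e, he, hem⟩ := hkill (d • m - ∑ i, a i • v i) (by
      show F.presheaf.germ U (genericPoint X) hη _ = 0
      rw [map_sub, sub_eq_zero]
      show γ (d • m) = γ _
      rw [hγ, hsum]
      conv_lhs => rw [← b'.sum_repr (γ m), Finset.smul_sum]
      refine Finset.sum_congr rfl fun i _ => ?_
      rw [smul_smul]
      congr 1
      exact ((Algebra.smul_def d _).symm.trans (ha i).symm))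
    refine ⟨e * d, mul_ne_zero he (nonZeroDivisors.ne_zero hd), ?_⟩
    rw [smul_sub, sub_eq_zero] at hem
    rw [mul_smul, hem]
    exact Submodule.smul_mem _ _ (Submodule.sum_mem _ fun i _ => Submodule.smul_mem _ _ (Submodule.subset_span ⟨i, rfl⟩))
  obtain ⟨T, hT⟩ := (Module.Finite.fg_top : (⊤ : Submodule Γ(X, U) Γ(F, U)).FG)
  choose e he hem using hN
  let f := ∏ t ∈ T, e t
  have hf : f ≠ 0 := Finset.prod_ne_zero_iff.2 fun t _ => he t
  have hfm : ∀ m : Γ(F, U), f • m ∈ Submodule.span Γ(X, U) (Set.range v) := fun m => by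
    have hm : m ∈ Submodule.span Γ(X, U) (T : Set Γ(F, U)) := hT ▸ Submodule.mem_top
    induction hm using Submodule.span_induction with
    | mem t ht =>
      obtain ⟨c, hc⟩ := Finset.dvd_prod_of_mem e (Finset.mem_coe.1 ht)
      show (∏ t ∈ T, e t) • t ∈ _
      rw [hc, mul_comm, mul_smul]
      exact Submodule.smul_mem _ _ (hem t)
    | zero => rw [smul_zero]; exact zero_mem _
    | add x y _ _ hx hy => rw [smul_add]; exact add_mem hx hy
    | smul c x _ hx => rw [smul_comm]; exact Submodule.smul_mem _ _ hx
  have hηf : genericPoint X ∈ X.basicOpen f := (X.mem_basicOpen _ _ hη).2 (isUnit_iff_ne_zero.2 fun h => hf (hρ f h))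
  let res := F.presheaf.map (homOfLE (X.basicOpen_le f)).op
  let rr := X.presheaf.map (homOfLE (X.basicOpen_le f)).op
  let w : Fin r → Γ(F, X.basicOpen f) := fun i => res (v i)
  have hgw : ∀ i, F.presheaf.germ (X.basicOpen f) (genericPoint X) hηf (w i) = b' i := fun i => by
    rw [hb']; exact TopCat.Presheaf.germ_res_apply _ _ _ _ _
  have hu : IsUnit (rr f) := X.toRingedSpace.isUnit_res_basicOpen f
  have hli : LinearIndependent Γ(X, X.basicOpen f) w := Fintype.linearIndependent_iff.2 fun c hc i => by
    have h0 := congrArg (F.presheaf.germ (X.basicOpen f) (genericPoint X) hηf) hc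
    rw [map_sum, map_zero] at h0
    simp only [QCoh.germ_smul', hgw] at h0
    exact germ_injective_of_isIntegral X _ hηf ((Fintype.linearIndependent_iff.1 b'.linearIndependent _ h0 i).trans (map_zero _).symm)
  have hspan : ⊤ ≤ Submodule.span Γ(X, X.basicOpen f) (Set.range w) := fun s _ => by
    have hres : ∀ m ∈ Submodule.span Γ(X, U) (Set.range v), res m ∈ Submodule.span Γ(X, X.basicOpen f) (Set.range w) := by
      intro m hm
      induction hm using Submodule.span_induction with
      | mem x hx => obtain ⟨i, rfl⟩ := hx; exact Submodule.subset_span ⟨i, rfl⟩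
      | zero => rw [map_zero]; exact zero_mem _
      | add x y _ _ hx hy => rw [map_add]; exact add_mem hx hy
      | smul c x _ hx => rw [QCoh.map_smul']; exact Submodule.smul_mem _ _ hx
    obtain ⟨n, t, ht⟩ := QCoh.exists_pow_smul_eq_map hF hU f s
    obtain ⟨u, hu'⟩ := hu.pow (n + 1)
    have h1 : rr f ^ (n + 1) • s = res (f • t) := by
      rw [QCoh.map_smul', pow_succ', mul_smul, ht]
    have h2 : s = (↑u⁻¹ : Γ(X, X.basicOpen f)) • res (f • t) := by
      rw [← h1, ← hu', smul_smul, Units.inv_mul, one_smul]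
    rw [h2]
    exact Submodule.smul_mem _ _ (hres _ (hfm t))
  let bw := Module.Basis.mk hli hspan
  exact ⟨X.basicOpen f, ⟨_, hηf⟩, QCoh.exists_free_restrict hF (hU.basicOpen f)
    (bw.reindex Equiv.ulift.symm).repr⟩

end Groth.Agent.S8887
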