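import Groth.Statements.S8891
import Groth.Agent.RefX2.DepthTwo

set_option autoImplicit false
universe u
open CategoryTheory CategoryTheory.Limits AlgebraicGeometry TopologicalSpace
open SDiv

namespace Groth.Agent.S8891

/-- Let X be an integral locally Noetherian scheme and φ : F ⟶ G a morphism of quasi-coherent
O_X-modules with F coherent and G torsion free. Assume that for every point x either the stalk map
F_x → G_x is an isomorphism, or depth(F_x) ≥ 2 and x is not the generic point of X. Then φ is an
isomorphism. (The published statement allows the second alternative at the generic point as well;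
since the zero module has infinite depth, F = 0 and G = O_X then satisfy every hypothesis while 0 →
O_X is not an isomorphism. The general criterion this is a special case of requires x not to be
associated to G, which for torsion-free G ≠ 0 fails exactly at the generic point; so the generic
point is excluded from the second alternative here.) -/
theorem result (X : Scheme.{u}) [IsIntegral X] [IsLocallyNoetherian X] {F G : X.Modules}
    (φ : F ⟶ G) (hF : Coh.IsCoh F) (hG : Coh.IsQCoh G)
    (htf : ∀ x : ↥X, NoZeroSMulDivisors ↑(X.presheaf.stalk x) ↑(G.presheaf.stalk x))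
    (h : ∀ x : ↥X, Function.Bijective ((TopCat.Presheaf.stalkFunctor AddCommGrpCat.{u} x).map (Scheme.Modules.Hom.mapPresheaf φ)) ∨
      ((2 : ℕ∞) ≤ LocCoh.depth (X.presheaf.stalk x) (F.presheaf.stalk x) ∧ x ≠ genericPoint ↥X)) :
    IsIso φ := by
  have hG' : RefX2.TF G := RefX2.tf_of_smul_eq_zero hG fun x a m ham => by
    haveI := htf x
    exact smul_eq_zero.1 ham
  refine ZClosLib.isIso_of_stalkMap_bijective φ fun x => ?_
  obtain ⟨n, hn⟩ : ∃ n : ℕ, Order.coheight x < n := by
    rcases eq_or_ne (Order.coheight x) ⊤ with ht | ht
    · exact absurd (ringKrullDim_stalk_eq_coheight x) (by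
        rw [ht]; exact (lt_top_iff_ne_top.1 ringKrullDim_lt_top))
    · exact ⟨(Order.coheight x).toNat + 1, by
        conv_lhs => rw [← ENat.coe_toNat ht]
        exact_mod_cast Nat.lt_succ_self _⟩
  exact RefX2.bijective_of_depth φ hF hG hG' h n x hn

end Groth.Agent.S8891
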