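import Groth.Statements.S8895
import Groth.Agent.RegImmLib.FlatLfp
import Groth.Agent.RegImmLib.RelQuasi

set_option autoImplicit false
set_option backward.isDefEq.respectTransparency false
set_option backward.isDefEq.respectTransparency.types false
universe u
open CategoryTheory CategoryTheory.Limits AlgebraicGeometry TopologicalSpace
open SDiv

namespace Groth.Agent.S8895

/-- Let f : X ⟶ S be locally of finite presentation and i : Z ⟶ X a relative H_1-regular immersion. Then
(1) there is an open subscheme U ⊆ X containing the image of Z such that U ⟶ S is flat, and (2) i is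
a regular immersion and remains one after any base change S' ⟶ S. -/
theorem result {Z X S : Scheme.{u}} (f : X ⟶ S) [LocallyOfFinitePresentation f] (i : Z ⟶ X)
    (hi : RegImm.IsRelRegularImmersion RegImm.Kind.h1 f i) :
    (∃ U : X.Opens, Set.range (fun z : ↥Z => i z) ⊆ (U : Set ↥X) ∧ Flat (U.ι ≫ f)) ∧
      RegImm.IsRegularImmersion RegImm.Kind.regular i ∧
      ∀ (S' : Scheme.{u}) (g : S' ⟶ S), RegImm.IsRegularImmersion RegImm.Kind.regular (pullback.snd i (pullback.fst f g)) := by
  haveI := hi.1.1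
  haveI : Flat (i ≫ f) := hi.2
  have hq : ∀ z, RegImm.IsRegularImmersionAt RegImm.Kind.quasi i z := fun z => by
    obtain ⟨U, hz, hc, rs, hrs, hker⟩ := hi.1.2 z
    exact ⟨U, hz, hc, rs, Groth.Agent.KRegLib.quasi_of_seq .h1 rs hrs, hker⟩
  have hfl : ∀ z, (f.stalkMap (i z)).hom.Flat := fun z =>
    Groth.Agent.RegImmLib.flat_stalkMap_of_relQuasi_lfp f i z (hq z)
  refine ⟨?_, ⟨inferInstance, fun z => (Groth.Agent.RegImmLib.regular_of_relQuasi_at f i z (hfl z) (hq z)).1⟩,
    fun S' g => ⟨MorphismProperty.of_isPullback (P := @IsImmersion) (IsPullback.of_hasPullback i (pullback.fst f g))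
      hi.1.1, fun z' => (Groth.Agent.RegImmLib.regular_of_relQuasi_at f i _ (hfl _) (hq _)).2 S' g z' rfl⟩⟩
  let F : X.Opens := ⟨{x | (f.stalkMap x).hom.Flat}, Groth.Agent.FlatLocus.isOpen_flat_locus f⟩
  refine ⟨F, ?_, ?_⟩
  · rintro _ ⟨z, rfl⟩
    exact hfl z
  · exact Flat.of_stalkMap _ fun x => (Groth.Agent.FibFlat.flat_stalk_open_comp F.ι f x).2 x.2

end Groth.Agent.S8895
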