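import Groth.Statements.S8897
import Groth.Agent.S8657
import Groth.Agent.ConormalFrame.SmoothDescend
import Mathlib

set_option backward.isDefEq.respectTransparency false
set_option backward.isDefEq.respectTransparency.types false
set_option linter.style.haveILetI false
set_option maxHeartbeats 1000000

set_option autoImplicit false
universe u
open CategoryTheory CategoryTheory.Limits AlgebraicGeometry TopologicalSpace
open SDiv

namespace Groth.Agent.S8897

open Groth.Agent Groth.Agent.KRegLib Groth.Agent.RegImmLib Groth.Agent.ConormalFrame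

theorem at_of_smooth {Y X S : Scheme.{u}} (p : X ⟶ S) [Smooth p] (i : Y ⟶ X)
    [IsImmersion i] [IsImmersion (i ≫ p)] (k : RegImm.Kind) (hk : k = .h1 ∨ k = .quasi)
    (hi : RegImm.IsRegularImmersion k i) (y : Y) : RegImm.IsRegularImmersionAt k (i ≫ p) y := by
  classical
  have hk' : k ≠ .regular := by rcases hk with rfl | rfl <;> simp
  obtain ⟨U0, hU0, W0, hW0, hyW0, e0, hstd⟩ := Smooth.exists_isStandardSmooth p (i y)
  obtain ⟨U, V, hUle, hVle, hyV, eVU, hsm⟩ := exists_affineOpens_le_appLE_of_appLE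
    (P := fun f => RingHom.IsStandardSmooth f) (f := p)
    RingHom.isStandardSmooth_stableUnderCompositionWithLocalizationAway.right
    RingHom.isStandardSmooth_localizationPreserves.away (i y) (i ≫ p).coborderRange ⟨U0, hU0⟩
    i.coborderRange ⟨W0, hW0⟩ (subset_coborder ⟨y, rfl⟩) hyW0 e0 hstd (subset_coborder ⟨y, rfl⟩)
  haveI := KRegLib.isClosedImmersion_restrict_coborderRange (i ≫ p)
  haveI := KRegLib.isClosedImmersion_restrict_coborderRange i
  haveI : IsClosedImmersion ((i ≫ p) ∣_ U.1) := isClosedImmersion_restrict_of_le (i ≫ p) hUle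
  haveI : IsClosedImmersion (i ∣_ V.1) := isClosedImmersion_restrict_of_le i hVle
  obtain ⟨hjU, hjs⟩ := Synt29.surjective_app_of_isClosedImmersion_restrict (i ≫ p) U.1 U.2
  have hyU : y ∈ (i ≫ p) ⁻¹ᵁ U.1 := eVU hyV
  obtain ⟨b, hb, hyb⟩ := hjU.exists_basicOpen_le (V := i ⁻¹ᵁ V.1) ⟨y, hyV⟩ hyU
  obtain ⟨r, rfl⟩ := hjs b
  let φr : Γ(X, V.1) := p.appLE U.1 V.1 eVU r
  let D : S.Opens := S.basicOpen r
  let W : X.Opens := X.basicOpen φr
  have hWeq : W = V.1 ⊓ p ⁻¹ᵁ D := by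
    show X.basicOpen φr = _
    rw [Scheme.basicOpen_appLE]
  have hWD : W ≤ p ⁻¹ᵁ D := hWeq.le.trans inf_le_right
  have hD : IsAffineOpen D := U.2.basicOpen r
  have hW : IsAffineOpen W := V.2.basicOpen φr
  have hsm' : (p.appLE D W hWD).hom.IsStandardSmooth := by
    have h1 := RingHom.isStandardSmooth_localizationPreserves.away
    haveI := U.2.isLocalization_basicOpen r
    haveI := V.2.isLocalization_basicOpen φr
    have h2 := h1 (p.appLE U.1 V.1 eVU).hom r Γ(S, D) Γ(X, W) hsm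
    rw [U.2.appLE_eq_away_map p V.2]
    exact h2
  have hjb : (i ≫ p) ⁻¹ᵁ D = Y.basicOpen ((i ≫ p).app U.1 r) := Scheme.preimage_basicOpen (i ≫ p) r
  have hpre : i ⁻¹ᵁ W = (i ≫ p) ⁻¹ᵁ D := by
    rw [hWeq]
    exact inf_eq_right.2 (show (i ≫ p) ⁻¹ᵁ D ≤ i ⁻¹ᵁ V.1 from hjb.le.trans hb)
  have hyD : (i ≫ p) y ∈ D := by
    show y ∈ (i ≫ p) ⁻¹ᵁ D
    rw [hjb]
    exact hyb
  haveI : IsClosedImmersion ((i ≫ p) ∣_ D) := isClosedImmersion_restrict_of_le (i ≫ p) (S.basicOpen_le r)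
  haveI : IsClosedImmersion (i ∣_ W) := isClosedImmersion_restrict_of_le i (X.basicOpen_le φr)
  have key : ∀ (O : Y.Opens) (hO : O = (i ≫ p) ⁻¹ᵁ D) (e : O ≤ (i ≫ p) ⁻¹ᵁ D),
      Function.Surjective ((i ≫ p).appLE D O e).hom ∧
      RingHom.ker ((i ≫ p).appLE D O e).hom = RingHom.ker ((i ≫ p).app D).hom := by
    rintro O rfl e
    rw [← Scheme.Hom.app_eq_appLE]
    exact ⟨(Synt29.surjective_app_of_isClosedImmersion_restrict (i ≫ p) D hD).2, rfl⟩
  obtain ⟨hχs, hχk⟩ := key (i ⁻¹ᵁ W) hpre hpre.le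
  have hcomp : (i.app W).hom.comp (p.appLE D W hWD).hom = ((i ≫ p).appLE D (i ⁻¹ᵁ W) hpre.le).hom := by
    rw [← CommRingCat.hom_comp, Scheme.Hom.app_eq_appLE, Scheme.Hom.appLE_comp_appLE]
  rw [← hcomp] at hχs hχk
  obtain ⟨n, g, hg, het⟩ := hsm'.exists_etale_mvPolynomial
  letI : Algebra Γ(S, D) Γ(X, W) := (p.appLE D W hWD).hom.toAlgebra
  letI : Algebra (MvPolynomial (Fin n) Γ(S, D)) Γ(X, W) := g.toAlgebra
  haveI : IsScalarTower Γ(S, D) (MvPolynomial (Fin n) Γ(S, D)) Γ(X, W) := IsScalarTower.of_algebraMap_eq' hg.symm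
  haveI : Algebra.Etale (MvPolynomial (Fin n) Γ(S, D)) Γ(X, W) := het
  refine regImmAt_of_locSeq k hk' (i ≫ p) y hD hyD (hχk ▸ ?_)
  exact locSeq_of_etale_coords (P := Γ(S, D)) (n := n) (i.app W).hom hχs k hk (locSeq_ker k hk' i hi hW)

/-- Let p : X ⟶ S be smooth and let i : Y ⟶ X and j : Y ⟶ S be immersions with i ≫ p = j. If i is a
Koszul-regular (resp. H_1-regular, resp. quasi-regular) immersion, then so is j. -/
theorem result {Y X S : Scheme.{u}} (p : X ⟶ S) [Smooth p] (i : Y ⟶ X) (j : Y ⟶ S)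
    [IsImmersion i] [IsImmersion j] (h : i ≫ p = j) (k : RegImm.Kind) (hk : k ≠ RegImm.Kind.regular)
    (hi : RegImm.IsRegularImmersion k i) : RegImm.IsRegularImmersion k j := by
  subst h
  refine ⟨inferInstance, fun y => ?_⟩
  cases k with
  | regular => exact absurd rfl hk
  | koszul => exact ((S8657.result (i ≫ p) i p rfl).2 hi).2 y
  | h1 => exact at_of_smooth p i .h1 (Or.inl rfl) hi y
  | quasi => exact at_of_smooth p i .quasi (Or.inr rfl) hi y

end Groth.Agent.S8897
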