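import Groth.Statements.S8899
import Groth.Agent.QCoh.PullStalk
import Groth.Agent.AssPtX.Basic

set_option autoImplicit false
set_option backward.isDefEq.respectTransparency false
set_option backward.isDefEq.respectTransparency.types false
universe u
open CategoryTheory CategoryTheory.Limits AlgebraicGeometry TopologicalSpace
open SDiv

namespace Groth.Agent.S8899

/-- Let f : X ⟶ S be a morphism of schemes, G a quasi-coherent O_S-module and x a point of X over s = f
x such that f is flat at x, no point of f⁻¹(s) other than x specialises to x (x is the generic point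
of some irreducible component of the fibre X_s), and s is weakly associated to G. Then x is weakly
associated to f^*G. -/
theorem result {X S : Scheme.{u}} (f : X ⟶ S) (G : S.Modules) (hG : Coh.IsQCoh G)
    (x : ↥X) (hfl : (f.stalkMap x).hom.Flat) (hgen : ∀ y : ↥X, f y = f x → y ⤳ x → y = x)
    (hs : Curv2.IsWeakAssPoint G (f x)) : Curv2.IsWeakAssPoint ((Scheme.Modules.pullback f).obj G) x := by
  letI : Algebra (S.presheaf.stalk (f x)) (X.presheaf.stalk x) := (f.stalkMap x).hom.toAlgebra
  haveI : Module.Flat (S.presheaf.stalk (f x)) (X.presheaf.stalk x) := hfl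
  haveI : IsLocalHom (algebraMap (S.presheaf.stalk (f x)) (X.presheaf.stalk x)) :=
    inferInstanceAs (IsLocalHom (f.stalkMap x).hom)
  haveI : Module.FaithfullyFlat (S.presheaf.stalk (f x)) (X.presheaf.stalk x) :=
    Module.FaithfullyFlat.of_flat_of_isLocalHom
  obtain ⟨e⟩ := Groth.Agent.QCoh.nonempty_pullStalkEquiv f hG x
  obtain ⟨v, hv⟩ := hs
  refine ⟨e.symm (TensorProduct.tmul (S.presheaf.stalk (f x)) (1 : X.presheaf.stalk x) v), ?_⟩
  rw [Groth.Agent.AssPtX.ker_toSpanSingleton] at hv ⊢
  have hv0 : v ≠ 0 := fun h => by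
    have h1 : (1 : S.presheaf.stalk (f x)) ∈ (Groth.Agent.WeakAss.annEl (S.presheaf.stalk (f x)) v).radical :=
      Ideal.le_radical (Groth.Agent.WeakAss.mem_annEl.2 (by rw [h, smul_zero]))
    rw [hv] at h1
    exact (IsLocalRing.maximalIdeal.isMaximal _).ne_top ((Ideal.eq_top_iff_one _).2 h1)
  refine le_antisymm (IsLocalRing.le_maximalIdeal fun htop => ?_) ?_
  · have h1 : (1 : X.presheaf.stalk x) ∈ Groth.Agent.WeakAss.annEl (X.presheaf.stalk x)
        (e.symm (TensorProduct.tmul (S.presheaf.stalk (f x)) (1 : X.presheaf.stalk x) v)) := by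
      rw [Ideal.radical_eq_top] at htop
      rw [htop]
      trivial
    have h2 := Groth.Agent.WeakAss.mem_annEl.1 h1
    rw [one_smul, LinearEquiv.map_eq_zero_iff] at h2
    exact hv0 ((Module.FaithfullyFlat.one_tmul_eq_zero_iff _ _ v).1 h2)
  · rw [Ideal.radical_eq_sInf]
    refine le_sInf fun q hq => ?_
    haveI := hq.2
    have hle : (IsLocalRing.maximalIdeal (S.presheaf.stalk (f x))).map
        (algebraMap (S.presheaf.stalk (f x)) (X.presheaf.stalk x)) ≤ q := by
      refine Ideal.map_le_iff_le_comap.2 fun r hr => ?_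
      rw [← hv] at hr
      obtain ⟨n, hn⟩ := hr
      refine hq.2.mem_of_pow_mem n (hq.1 (Groth.Agent.WeakAss.mem_annEl.2 ?_))
      rw [← map_pow, ← map_smul, IsScalarTower.algebraMap_smul, ← LinearEquiv.map_zero e.symm]
      refine congrArg e.symm ?_
      rw [← TensorProduct.tmul_smul, Groth.Agent.WeakAss.mem_annEl.1 hn, TensorProduct.tmul_zero]
    let p : Spec (X.presheaf.stalk x) := ⟨q, hq.2⟩
    have hpx : (X.fromSpecStalk x).base p ⤳ x := by
      have : (X.fromSpecStalk x).base p ∈ Set.range (X.fromSpecStalk x).base := ⟨_, rfl⟩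
      rwa [Scheme.range_fromSpecStalk] at this
    have hfp : f ((X.fromSpecStalk x).base p) = f x := by
      have h1 : (Spec.map (f.stalkMap x)).base p = IsLocalRing.closedPoint (S.presheaf.stalk (f x)) :=
        PrimeSpectrum.ext (le_antisymm (IsLocalRing.le_maximalIdeal (Ideal.IsPrime.ne_top inferInstance))
          (Ideal.map_le_iff_le_comap.1 hle))
      have h2 := congrArg (fun φ => φ.base p) (Scheme.SpecMap_stalkMap_fromSpecStalk f (x := x))
      simp only [Scheme.Hom.comp_base, TopCat.comp_app] at h2
      rw [h1, Scheme.fromSpecStalk_closedPoint] at h2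
      exact h2.symm
    have hp : p = IsLocalRing.closedPoint (X.presheaf.stalk x) :=
      (X.fromSpecStalk x).isEmbedding.injective ((hgen _ hfp hpx).trans Scheme.fromSpecStalk_closedPoint.symm)
    exact (congrArg PrimeSpectrum.asIdeal hp).ge

end Groth.Agent.S8899
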