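import Groth.Statements.S8900
import Groth.Agent.AssPtX.FieldExt
import Groth.Agent.EtPBC0.Discrete
import Groth.Agent.QCoh.PullbackBC
import Mathlib.Algebra.Category.Ring.Constructions

set_option autoImplicit false
universe u
open CategoryTheory CategoryTheory.Limits AlgebraicGeometry TopologicalSpace
open SDiv

namespace Groth.Agent.S8900
set_option backward.isDefEq.respectTransparency false
set_option backward.isDefEq.respectTransparency.types false
set_option linter.style.haveILetI false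
open scoped TensorProduct

/-- Let K/k be an extension of fields, X a scheme over k, F a quasi-coherent O_X-module, and y a point
of X_K = X ×_k Spec K with image x in X. If y is weakly associated to the pullback of F to X_K, then
x is weakly associated to F. -/
theorem result (k : Type u) [Field k] (K : Type u) [Field K] [Algebra k K] (X : Scheme.{u})
    [X.Over (Spec (CommRingCat.of k))] (F : X.Modules) (hF : Coh.IsQCoh F) (y : ↥(Curv2.bc k X K))
    (hy : Curv2.IsWeakAssPoint ((Scheme.Modules.pullback (Curv2.bcFst k X K)).obj F) y) :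
    Curv2.IsWeakAssPoint F (Curv2.bcFst k X K y) := by
  obtain ⟨U, hU, hxU, -⟩ := exists_isAffineOpen_mem_and_subset (x := Curv2.bcFst k X K y) (U := ⊤) trivial
  let g := Curv2.bcFst k X K
  let iX := X ↘ Spec (CommRingCat.of k)
  let f := Spec.map (CommRingCat.ofHom (algebraMap k K))
  have H : IsPullback g (Curv2.bcSnd k X K) iX f := IsPullback.of_hasPullback _ _
  obtain ⟨hW0, hpo0⟩ := EtPBC0.isPushout_appLE_of_opens H (isAffineOpen_top _) (isAffineOpen_top _) hU
    (show (⊤ : (Spec (CommRingCat.of K)).Opens) ≤ f ⁻¹ᵁ ⊤ from le_rfl) (show U ≤ iX ⁻¹ᵁ ⊤ from le_top)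
  let W := g ⁻¹ᵁ U ⊓ (Curv2.bcSnd k X K) ⁻¹ᵁ ⊤
  have hle : W ≤ g ⁻¹ᵁ U := inf_le_left
  have hyW : y ∈ W := ⟨hxU, trivial⟩
  let φk := iX.appLE ⊤ U le_top
  let ψK := (Curv2.bcSnd k X K).appLE ⊤ W le_top
  let a : CommRingCat.of k ⟶ Γ(X, U) := (Scheme.ΓSpecIso (CommRingCat.of k)).inv ≫ φk
  let b : CommRingCat.of K ⟶ Γ(Curv2.bc k X K, W) := (Scheme.ΓSpecIso (CommRingCat.of K)).inv ≫ ψK
  have hpo : IsPushout (CommRingCat.ofHom (algebraMap k K)) a b (g.appLE U W hle) := by
    refine hpo0.flip.of_iso (Scheme.ΓSpecIso (CommRingCat.of k)) (Scheme.ΓSpecIso (CommRingCat.of K))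
      (Iso.refl _) (Iso.refl _) ?_ ?_ ?_ ?_
    · rw [show Scheme.Hom.appLE f ⊤ ⊤ le_rfl = f.appTop from (Scheme.Hom.app_eq_appLE f).symm]
      exact Scheme.ΓSpecIso_naturality (CommRingCat.ofHom (algebraMap k K))
    · simp only [a, φk, Iso.refl_hom, Category.comp_id, Iso.hom_inv_id_assoc]
    · simp only [b, ψK, Iso.refl_hom, Category.comp_id, Iso.hom_inv_id_assoc]
      rfl
    · simp only [Iso.refl_hom, Category.comp_id, Category.id_comp]
      rfl
  letI : Algebra k Γ(X, U) := a.hom.toAlgebra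
  letI : Algebra Γ(X, U) Γ(Curv2.bc k X K, W) := (g.appLE U W hle).hom.toAlgebra
  letI : Algebra K Γ(Curv2.bc k X K, W) := b.hom.toAlgebra
  letI : Algebra k Γ(Curv2.bc k X K, W) := (CommRingCat.ofHom (algebraMap k K) ≫ b).hom.toAlgebra
  haveI : IsScalarTower k K Γ(Curv2.bc k X K, W) := IsScalarTower.of_algebraMap_eq fun _ => rfl
  haveI : IsScalarTower k Γ(X, U) Γ(Curv2.bc k X K, W) :=
    IsScalarTower.of_algebraMap_eq fun c => congr($(hpo.w).hom c)
  haveI : Algebra.IsPushout k K Γ(X, U) Γ(Curv2.bc k X K, W) := CommRingCat.isPushout_iff_isPushout.1 hpo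
  let σ₀ := Algebra.IsPushout.equiv k K Γ(X, U) Γ(Curv2.bc k X K, W)
  letI := Algebra.TensorProduct.rightAlgebra (R := k) (A := K) (B := Γ(X, U))
  let σ : K ⊗[k] Γ(X, U) ≃ₐ[Γ(X, U)] Γ(Curv2.bc k X K, W) :=
    AlgEquiv.ofRingEquiv (f := σ₀.toRingEquiv) fun c => by
      show σ₀ ((1 : K) ⊗ₜ c) = algebraMap Γ(X, U) Γ(Curv2.bc k X K, W) c
      rw [Algebra.IsPushout.equiv_tmul, map_one, one_mul]
  let G := (Scheme.Modules.pullback g).obj F
  letI : Module Γ(X, U) Γ(G, W) := Module.compHom _ (g.appLE U W hle).hom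
  haveI : IsScalarTower Γ(X, U) Γ(Curv2.bc k X K, W) Γ(G, W) := IsScalarTower.of_algebraMap_smul fun _ _ => rfl
  let l : Γ(F, U) →ₗ[Γ(X, U)] Γ(G, W) :=
    { toFun := Groth.Agent.QCoh.pullSec g F hle
      map_add' := Groth.Agent.QCoh.pullSec_add g F hle
      map_smul' := fun r m => Groth.Agent.QCoh.pullSec_smul g F hle r m }
  have hbc : IsBaseChange Γ(Curv2.bc k X K, W) l :=
    Groth.Agent.QCoh.isBaseChange_pullback (hV := hU) (hW := hW0) g hF hle (fun _ => rfl) l fun _ => rfl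
  rw [Groth.Agent.AssPtX.isWeakAssPoint_iff_sections hF hU hxU]
  rw [Groth.Agent.AssPtX.isWeakAssPoint_iff_sections (Groth.Agent.QCoh.isQCoh_pullback g hF) hW0 hyW] at hy
  have h1 := Groth.Agent.AssPtX.mem_weakAss_baseChange_congr σ
    (Groth.Agent.WeakAss.weakAss_subset_of_injective hbc.equiv.symm.toLinearMap hbc.equiv.symm.injective hy)
  have h2 := Groth.Agent.AssPtX.comap_mem_weakAss_fieldExt h1
  rw [Ideal.comap_comap] at h2
  convert h2 using 2
  rw [← IsAffineOpen.comap_primeIdealOf_appLE (f := g) U hU W hW0 hle hyW]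
  refine congrArg (Ideal.comap · _) ?_
  ext c
  exact (σ.commutes c).symm

end Groth.Agent.S8900
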