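import Groth.Statements.S8917
import Groth.Agent.OmegaUniv.Unram
import Groth.Agent.FittX.StrictSheaf
import Groth.Agent.FittX.Sheaf
import Groth.Agent.S9370
import Groth.Agent.S9386

set_option autoImplicit false
set_option backward.isDefEq.respectTransparency false
set_option backward.isDefEq.respectTransparency.types false
universe u
open CategoryTheory CategoryTheory.Limits AlgebraicGeometry TopologicalSpace
open SDiv

namespace Groth.Agent.S8917

/-- Let f : X ⟶ S be locally of finite type and quasi-separated and let g : S' ⟶ S be a morphism, X' = X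
×_S S' with projections g' : X' ⟶ X and f' : X' ⟶ S'. Then for every i the inverse image ideal sheaf
under g' of the i-th Fitting ideal of Ω_{X/S} is the i-th Fitting ideal of Ω_{X'/S'}: the Fitting
subschemes of Ω are compatible with base change. The published statement does not assume f
quasi-separated; this row does, because the module Ω_{X/S} used here is defined for quasi-separated
f. -/
theorem result {X S S' : Scheme.{u}} (f : X ⟶ S) [LocallyOfFiniteType f] [QuasiSeparated f] (g : S' ⟶ S)
    (i : ℕ) :
    (Fitt.sheafIdeal (Omega.sheaf f) i).comap (pullback.fst f g) = Fitt.sheafIdeal (Omega.sheaf (pullback.snd f g)) i := by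
  haveI : QuasiSeparated (pullback.snd f g) := MorphismProperty.pullback_snd f g inferInstance
  have hQ := Groth.Agent.OmegaUniv.isQCoh_omega f
  have hT := Groth.Agent.OmegaUniv.isFT_omega f
  have hd := Groth.Agent.OmegaUniv.isUniversal_dOmega f
  have hd' := Groth.Agent.OmegaUniv.isUniversal_dOmega (pullback.snd f g)
  obtain ⟨c, hc, -⟩ := Groth.Agent.S9370.result f (pullback.snd f g) (pullback.fst f g) g
    pullback.condition.symm (Omega.sheaf f) (OmegaSh.dOmega f) hd _ (OmegaSh.dOmega (pullback.snd f g)) hd'
  haveI := Groth.Agent.S9386.result f g (pullback.fst f g) (pullback.snd f g) (IsPullback.of_hasPullback f g)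
    _ _ hd _ _ hd' c hc
  rw [Groth.Agent.FittX.sheafIdeal_comap (pullback.fst f g) hQ hT]
  exact Groth.Agent.FittX.sheafIdeal_eq_of_iso (asIso c) (Groth.Agent.QCoh.isQCoh_pullback _ hQ)
    (Groth.Agent.FittX.isFT_pullback _ hQ hT) i

end Groth.Agent.S8917
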