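import Groth.Statements.S8919
import Groth.Agent.S5974
import Groth.Agent.S8679
import Groth.Agent.ConormalFrame.H1
import Groth.Agent.RegImmLib.FlatKinds
import Mathlib

set_option backward.isDefEq.respectTransparency false
set_option backward.isDefEq.respectTransparency.types false
set_option linter.style.haveILetI false
set_option maxHeartbeats 1000000

set_option autoImplicit false
universe u
open CategoryTheory CategoryTheory.Limits AlgebraicGeometry TopologicalSpace
open SDiv

namespace Groth.Agent.S8919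

open Groth.Agent.Synt29 Groth.Agent.Synt29.OmegaStalk Groth.Agent.Synt29.ConormalStalk
open Groth.Agent.S5974 (Cls cls_of_sect cls_exists cls_sect cls_mem cls_exists_of_mem cls_inj cls_zero_mem_sq phi_gen)

/-- Let i : Z ⟶ Y and j : Y ⟶ X be quasi-compact immersions of schemes with i an H_1-regular immersion,
and let a : i^*C_{Y/X} ⟶ C_{Z/X} and b : C_{Z/X} ⟶ C_{Z/Y} be the canonical maps of conormal
sheaves. Then the canonical sequence 0 → i^*C_{Y/X} → C_{Z/X} → C_{Z/Y} → 0 is exact and locally
split; here local splitting is recorded through C_{Z/Y} being finite locally free. The published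
statement allows arbitrary immersions; this row takes both immersions quasi-compact, the case in
which the conormal sheaves used here are those of the immersions. -/
theorem result {Z Y X : Scheme.{u}} (i : Z ⟶ Y) (j : Y ⟶ X) [IsImmersion i] [IsImmersion j]
    [QuasiCompact i] [QuasiCompact j]
    (a : (Scheme.Modules.pullback i).obj (Omega.conormal j) ⟶ Omega.conormal (i ≫ j))
    (ha : OmegaSh.IsConormalMap (i ≫ j) j (𝟙 X) i a)
    (b : (Scheme.Modules.pullback (𝟙 Z)).obj (Omega.conormal (i ≫ j)) ⟶ Omega.conormal i)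
    (hb : OmegaSh.IsConormalMap i (i ≫ j) j (𝟙 Z) b)
    (hi : RegImm.IsRegularImmersion RegImm.Kind.h1 i) :
    a ≫ ((Scheme.Modules.pullbackId Z).inv.app (Omega.conormal (i ≫ j)) ≫ b) = 0 ∧
      (∀ w : a ≫ ((Scheme.Modules.pullbackId Z).inv.app (Omega.conormal (i ≫ j)) ≫ b) = 0, (ShortComplex.mk a ((Scheme.Modules.pullbackId Z).inv.app (Omega.conormal (i ≫ j)) ≫ b) w).ShortExact) ∧
      FlatMod.IsFinLocFree (Omega.conormal i) := by
  classical
  obtain ⟨hepi, him⟩ := S5974.result j i a ha b hb
  have hw : a ≫ ((Scheme.Modules.pullbackId Z).inv.app (Omega.conormal (i ≫ j)) ≫ b) = 0 := by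
    rw [← imageSubobject_arrow_comp a, Category.assoc]
    have h0 : (imageSubobject a).arrow ≫
        ((Scheme.Modules.pullbackId Z).inv.app (Omega.conormal (i ≫ j)) ≫ b) = 0 := by
      rw [him]
      exact kernelSubobject_arrow_comp _
    rw [h0, comp_zero]
  haveI : Mono a := by
    rw [mono_iff_stalk]
    intro z
    refine (injective_iff_map_eq_zero _).mpr fun w hw0 => ?_
    obtain ⟨m, hm⟩ := ConormalExact.exists_unit i z (i.stalkMap_surjective z) _ w
    obtain ⟨U, hx, t, rfl⟩ := exists_conormalSect j (i z) m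
    have hw' : w = gm _ (show z ∈ i ⁻¹ᵁ (j ⁻¹ᵁ U) from hx)
        (OmegaSh.pullSect i (Omega.conormal j) (j ⁻¹ᵁ U) (OmegaSh.conormalSect j U t)) :=
      (ConcreteCategory.bijective_of_isIso ((KFlatLib.stalkPullbackIso i z).app _).hom).1
        (hm.trans (stalkPullbackIso_gm i _ z (show z ∈ i ⁻¹ᵁ (j ⁻¹ᵁ U) from hx) _).symm)
    obtain ⟨s, hs, he⟩ := phi_gen j i a ha U t (x := z) hx
    let g : X.presheaf.stalk (j (i z)) := X.presheaf.germ U (j (i z)) hx (OmegaSh.idealSect j.ker U t)
    have hza : Cls j (i z) (gm _ hx (OmegaSh.conormalSect j U t)) g := cls_of_sect j hx t g rfl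
    have hsq : g ∈ RingHom.ker ((i ≫ j).stalkMap z).hom ^ 2 := by
      refine cls_zero_mem_sq (i ≫ j) ((i ≫ j).stalkMap_surjective z) ?_
      rw [← hw0, hw', he]
      exact cls_of_sect (i ≫ j) (show z ∈ (i ≫ j) ⁻¹ᵁ U from hx) s _ (by rw [hs]; rfl)
    -- the equations of `Z` in `Y` near `z`
    obtain ⟨V, hzV, hVcl, rs, hrs, hker⟩ := hi.2 z
    obtain ⟨hVa, hVs⟩ := ConormalFrame.app_surjective_of_restrict i V.1 V.2
    letI : Algebra Γ(Y, V.1) (Y.presheaf.stalk (i z)) := Y.presheaf.algebra_section_stalk ⟨i z, hzV⟩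
    haveI := V.2.isLocalization_stalk ⟨i z, hzV⟩
    haveI : Module.Flat Γ(Y, V.1) (Y.presheaf.stalk (i z)) :=
      IsLocalization.flat _ (V.2.primeIdealOf ⟨i z, hzV⟩).asIdeal.primeCompl
    let e : Fin rs.length → Y.presheaf.stalk (i z) := fun k => algebraMap Γ(Y, V.1) _ (rs.get k)
    have hbe : CAlgX.IsH1Regular e :=
      RegImmLib.isH1Regular_flat_map _ hrs
    have hspan : RingHom.ker (i.stalkMap z).hom = Ideal.span (Set.range e) := by
      rw [RegNear.ker_stalkMap_of_surjective i z V.2 hVa hVs hzV, hker, Ideal.map_ofList]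
      refine congrArg Ideal.span (Set.ext fun y => ?_)
      refine List.mem_map.trans ⟨?_, ?_⟩
      · rintro ⟨r, hr, rfl⟩
        obtain ⟨k, rfl⟩ := List.mem_iff_get.1 hr
        exact ⟨k, rfl⟩
      · rintro ⟨k, rfl⟩
        exact ⟨_, rs.get_mem k, rfl⟩
    have hK : RingHom.ker ((i ≫ j).stalkMap z).hom = (Ideal.span (Set.range e)).comap (j.stalkMap (i z)).hom := by
      rw [← hspan, Scheme.Hom.stalkMap_comp, CommRingCat.hom_comp, ← RingHom.comap_ker]
    have hmul := Groth.Agent.S8679.mem_mul_of_mem_sq (j.stalkMap (i z)).hom (j.stalkMap_surjective (i z)) e hbe _ hK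
      (a := g) (RingHom.mem_ker.2 (cls_mem j hza)) hsq
    -- the class of `a` dies after pullback
    let un : St (Omega.conormal j) (i z) →
        (ModuleCat.extendScalars (i.stalkMap z).hom).obj (St (Omega.conormal j) (i z)) := fun v =>
      ((ModuleCat.extendRestrictScalarsAdj (i.stalkMap z).hom).unit.app (St (Omega.conormal j) (i z))).hom v
    let Kj : Ideal (X.presheaf.stalk (j (i z))) := RingHom.ker ((i ≫ j).stalkMap z).hom
    suffices h : ∀ c ∈ Kj * RingHom.ker (j.stalkMap (i z)).hom,
        ∃ v, Cls j (i z) v c ∧ un v = 0 by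
      obtain ⟨v, hv, hv0⟩ := h g hmul
      rw [cls_inj j hza hv] at hm
      exact (ConcreteCategory.bijective_of_isIso ((KFlatLib.stalkPullbackIso i z).app _).hom).1
        ((hm.trans hv0).trans (map_zero _).symm)
    intro c hc
    refine Submodule.mul_induction_on hc (fun k hk e he' => ?_) fun x y hx hy => ?_
    · obtain ⟨v, m, hm', hv⟩ := cls_exists_of_mem j (i z) (RingHom.mem_ker.1 he')
      refine ⟨j.stalkMap (i z) k • v, ⟨k • m, rep_smul j hm' k, ?_⟩, ?_⟩
      · rw [map_smul, hv, unit1_smul]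
      · refine (map_smul ((ModuleCat.extendRestrictScalarsAdj (i.stalkMap z).hom).unit.app
          (St (Omega.conormal j) (i z))).hom (j.stalkMap (i z) k) v).trans ?_
        have hk0 : i.stalkMap z (j.stalkMap (i z) k) = 0 := by
          have := RingHom.mem_ker.1 hk
          rwa [Scheme.Hom.stalkMap_comp] at this
        show i.stalkMap z (j.stalkMap (i z) k) • un v = 0
        rw [hk0, zero_smul]
    · obtain ⟨v, ⟨m, hm₁, hv⟩, hv0⟩ := hx
      obtain ⟨v', ⟨m', hm₂, hv'⟩, hv0'⟩ := hy
      refine ⟨v + v', ⟨m + m', rep_add j hm₁ hm₂, ?_⟩, ?_⟩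
      · rw [map_add, hv, hv']
        exact (map_add _ m m').symm
      · exact (map_add _ v v').trans ((congrArg₂ (· + ·) hv0 hv0').trans (add_zero _))
  haveI : Epi ((Scheme.Modules.pullbackId Z).inv.app (Omega.conormal (i ≫ j)) ≫ b) := by
    haveI := hepi
    infer_instance
  refine ⟨hw, fun w => ?_, ConormalFrame.isFinLocFree_conormal_h1 i hi⟩
  exact { exact := (ShortComplex.mk a _ w).exact_iff_image_eq_kernel.mpr him
          mono_f := ‹Mono a›
          epi_g := ‹_› }

end Groth.Agent.S8919
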