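import Groth.Statements.S8920
import Groth.Agent.ConormalFrame.SplitKind
import Groth.Agent.KFlatLib.Scheme.GlueD
import Groth.Agent.RegImmLib.FlatKinds
import Mathlib

set_option backward.isDefEq.respectTransparency false
set_option backward.isDefEq.respectTransparency.types false
set_option linter.style.haveILetI false
set_option maxHeartbeats 1000000

set_option autoImplicit false
universe u
open CategoryTheory CategoryTheory.Limits AlgebraicGeometry TopologicalSpace
open SDiv

namespace Groth.Agent.S8920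

open Groth.Agent Groth.Agent.Synt29.ConormalStalk Groth.Agent.Synt29 OmegaStalk
open Groth.Agent.KRegLib Groth.Agent.RegImmLib Groth.Agent.ConormalFrame
open Groth.Agent.WiebeLib (IsExact)

theorem rel_mem_of_quasi {A : Type u} [CommRing A] {n : ℕ} {f : Fin n → A} (hf : CAlgX.IsQuasiRegular f)
    (u : Fin n → A) (hu : ∑ i, u i * f i = 0) (k : Fin n) : u k ∈ Ideal.span (Set.range f) := by
  classical
  have h := hf 1 (∑ i, MvPolynomial.C (u i) * MvPolynomial.X i)
    (MvPolynomial.IsHomogeneous.sum _ _ _ fun i _ => MvPolynomial.isHomogeneous_C_mul_X _ _)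
    (by simp [hu]) (Finsupp.single k 1)
  simpa [MvPolynomial.coeff_sum, MvPolynomial.coeff_C_mul, MvPolynomial.coeff_X', Finsupp.single_left_inj] using h

theorem comp_cast {A : Type u} [CommRing A] {P : ∀ {n : ℕ}, (Fin n → A) → Prop} {n l : ℕ} {f : Fin l → A}
    (hf : P f) (e : n = l) : P fun k => f (Fin.cast e k) := by
  subst e
  exact hf

/-- The two kinds stable without hypotheses on the second map. -/
theorem at_of_split {Z Y X : Scheme.{u}} (i : Z ⟶ Y) (j : Y ⟶ X) [IsImmersion i] [IsImmersion j]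
    [QuasiCompact i] [QuasiCompact j] [LocallyOfFinitePresentation j]
    (a : (Scheme.Modules.pullback i).obj (Omega.conormal j) ⟶ Omega.conormal (i ≫ j))
    (ha : OmegaSh.IsConormalMap (i ≫ j) j (𝟙 X) i a) (z : Z)
    (R : St (Omega.conormal (i ≫ j)) z →ₗ[Z.presheaf.stalk z]
      St ((Scheme.Modules.pullback i).obj (Omega.conormal j)) z)
    (hR : ∀ w, R ((DerSch.stalkFunctor Z z).map a w) = w)
    (k : RegImm.Kind) (hk : k = .h1 ∨ k = .quasi) (hc : RegImm.IsRegularImmersionAt k (i ≫ j) z) :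
    RegImm.IsRegularImmersionAt k i z := by
  classical
  have hk' : k ≠ .regular := by rcases hk with rfl | rfl <;> simp
  obtain ⟨⟨U, hU⟩, hzU, hci, rs, hrs, hker⟩ := hc
  haveI := hci
  obtain ⟨g, hg, hxg⟩ := hU.exists_basicOpen_le (V := j.coborderRange)
    ⟨j (i z), subset_coborder ⟨i z, rfl⟩⟩ hzU
  obtain ⟨hcW, rs₀, hrs₀, hker₀⟩ := restrict_chart (i ≫ j) hk' hU rs hrs hker g _ rfl
  haveI := hcW
  haveI := isClosedImmersion_restrict_coborder j
  haveI : IsClosedImmersion (j ∣_ X.basicOpen g) := isClosedImmersion_restrict_of_le j hg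
  obtain ⟨d, hxd, r, F, hkF, hFrel⟩ := exists_minimal_chart j (i z) (hU.basicOpen g) hxg
  haveI : IsClosedImmersion (j ∣_ X.basicOpen d) := isClosedImmersion_restrict_of_le j (X.basicOpen_le d)
  obtain ⟨hcd, rs₁, hrs₁, hker₁⟩ := restrict_chart (i ≫ j) hk' (hU.basicOpen g) rs₀ hrs₀ hker₀ d _ rfl
  haveI := hcd
  have hrel : ∀ c : Fin rs₁.length → Γ(X, X.basicOpen d), ∑ q, c q * rs₁.get q = 0 →
      ∀ q, c q ∈ Ideal.span (Set.range rs₁.get) := by
    rcases hk with rfl | rfl
    · exact fun c hc q => ConormalFrame.rel_mem_of_h1 hrs₁ c hc q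
    · exact fun c hc q => rel_mem_of_quasi hrs₁ c hc q
  have hW := (hU.basicOpen g).basicOpen d
  obtain ⟨d', hxd', t, g', hn, M, N, hMN, hM, hN, hkF', hkG⟩ := exists_split_chart i j a ha z R hR hW hxd F hkF
    hFrel rs₁.get (hker₁.trans (RegNear.ofList_eq_span_get rs₁)) hrel
  letI : Algebra Γ(X, X.basicOpen d) Γ(X, X.basicOpen d') :=
    (X.presheaf.map (homOfLE (X.basicOpen_le d')).op).hom.toAlgebra
  haveI : IsLocalization.Away d' Γ(X, X.basicOpen d') := hW.isLocalization_basicOpen d'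
  haveI : Module.Flat Γ(X, X.basicOpen d) Γ(X, X.basicOpen d') := IsLocalization.flat _ (Submonoid.powers d')
  haveI : IsClosedImmersion (j ∣_ X.basicOpen d') := isClosedImmersion_restrict_of_le j (X.basicOpen_le d')
  haveI : IsClosedImmersion ((i ≫ j) ∣_ X.basicOpen d') :=
    isClosedImmersion_restrict_of_le (i ≫ j) (X.basicOpen_le d')
  refine regularImmersionAt_of_tail i j k (hW.basicOpen d') z hxd' _ g' hkF' hkG ?_
  have hs : Function.Surjective (j.app (X.basicOpen d')).hom :=
    (Synt29.surjective_app_of_isClosedImmersion_restrict j _ (hW.basicOpen d')).2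
  rcases hk with rfl | rfl
  · exact get_ofFn_pred (P := fun {c} g => CAlgX.IsH1Regular g) _ (tail_h1 _ g' _ hs hkF' (h1_of_mulVec
      (comp_cast (P := fun {c} g => CAlgX.IsH1Regular g)
        (isH1Regular_flat_map (S := Γ(X, X.basicOpen d')) rs₁.get hrs₁) hn) M N hMN hM hN))
  · refine get_ofFn_pred (P := fun {c} g => CAlgX.IsQuasiRegular g) _ (tail_quasi _ g' _ hs hkF'
      (LinType.isQuasiRegular_of_span_eq _ _
        (comp_cast (P := fun {c} g => CAlgX.IsQuasiRegular g)
          (isQuasiRegular_flat_map (S := Γ(X, X.basicOpen d')) rs₁.get hrs₁) hn) ?_))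
    refine le_antisymm (Ideal.span_le.2 ?_) (Ideal.span_le.2 ?_)
    · rintro _ ⟨q, rfl⟩
      rw [← congrFun hM q]
      simp only [SetLike.mem_coe, Matrix.mulVec, dotProduct]
      exact Ideal.sum_mem _ fun p _ => Ideal.mul_mem_left _ _ (Ideal.subset_span (Set.mem_range_self p))
    · rintro _ ⟨q, rfl⟩
      beta_reduce
      rw [← congrFun hN q]
      simp only [SetLike.mem_coe, Matrix.mulVec, dotProduct]
      exact Ideal.sum_mem _ fun p _ => Ideal.mul_mem_left _ _ (Ideal.subset_span (Set.mem_range_self p))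

/-- The Koszul kind. -/
theorem at_of_split_koszul {Z Y X : Scheme.{u}} (i : Z ⟶ Y) (j : Y ⟶ X) [IsImmersion i] [IsImmersion j]
    [QuasiCompact i] [QuasiCompact j]
    (a : (Scheme.Modules.pullback i).obj (Omega.conormal j) ⟶ Omega.conormal (i ≫ j))
    (ha : OmegaSh.IsConormalMap (i ≫ j) j (𝟙 X) i a) (z : Z)
    (R : St (Omega.conormal (i ≫ j)) z →ₗ[Z.presheaf.stalk z]
      St ((Scheme.Modules.pullback i).obj (Omega.conormal j)) z)
    (hR : ∀ w, R ((DerSch.stalkFunctor Z z).map a w) = w)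
    (hj : RegImm.IsRegularImmersionAt .koszul j (i z)) (hc : RegImm.IsRegularImmersionAt .koszul (i ≫ j) z) :
    RegImm.IsRegularImmersionAt .koszul i z := by
  classical
  obtain ⟨⟨U, hU⟩, hzU, hcU, fs, hfs, hkf⟩ := hj
  obtain ⟨⟨V, hV⟩, hzV, hcV, rs, hrs, hker⟩ := hc
  haveI := hcU
  haveI := hcV
  obtain ⟨gU, gV, hgg, hxg⟩ := exists_basicOpen_le_affine_inter hU hV (j (i z)) ⟨hzU, hzV⟩
  obtain ⟨hcW, fs₁, hfs₁, hkf₁⟩ := restrict_chart j (by simp) hU fs hfs hkf gU (X.basicOpen gU) rfl
  obtain ⟨hcW', rs₁, hrs₁, hker₁⟩ := restrict_chart (i ≫ j) (by simp) hV rs hrs hker gV (X.basicOpen gU) hgg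
  haveI := hcW
  haveI := hcW'
  have hW := hU.basicOpen gU
  have hF : IsExact fs₁.get :=
    WiebeLib.isExact_of_isKoszulRegularSeq fs₁.get (by rw [List.ofFn_get]; exact hfs₁)
  have hH : IsExact rs₁.get :=
    WiebeLib.isExact_of_isKoszulRegularSeq rs₁.get (by rw [List.ofFn_get]; exact hrs₁)
  have hkF : RingHom.ker (j.app (X.basicOpen gU)).hom = Ideal.span (Set.range fs₁.get) :=
    hkf₁.trans (RegNear.ofList_eq_span_get fs₁)
  letI : Algebra Γ(X, X.basicOpen gU) (X.presheaf.stalk (j (i z))) :=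
    X.presheaf.algebra_section_stalk ⟨j (i z), hxg⟩
  haveI := hW.isLocalization_stalk ⟨j (i z), hxg⟩
  haveI : Module.Flat Γ(X, X.basicOpen gU) (X.presheaf.stalk (j (i z))) :=
    IsLocalization.flat _ (hW.primeIdealOf ⟨j (i z), hxg⟩).asIdeal.primeCompl
  have hFrel : ∀ c : Fin fs₁.length → X.presheaf.stalk (j (i z)),
      ∑ q, c q * X.presheaf.germ _ (j (i z)) hxg (fs₁.get q) = 0 → ∀ q, c q ∈ IsLocalRing.maximalIdeal _ := by
    intro c hc q
    refine (show Ideal.span (Set.range fun q => algebraMap Γ(X, X.basicOpen gU) (X.presheaf.stalk (j (i z))) (fs₁.get q)) ≤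
      IsLocalRing.maximalIdeal _ from ?_) (KRegLib.mem_span_of_sum_eq_zero (WiebeLib.isExact_map hF) c hc q)
    obtain ⟨hjW, hjs⟩ := Synt29.surjective_app_of_isClosedImmersion_restrict j _ hW
    refine le_trans (Eq.le ?_) (IsLocalRing.le_maximalIdeal (RingHom.ker_ne_top (j.stalkMap (i z)).hom))
    rw [RegNear.ker_stalkMap_of_surjective j (i z) hW hjW hjs hxg, hkF, Ideal.map_span, ← Set.range_comp]
    rfl
  obtain ⟨d', hxd', t, g', hn, M, N, hMN, hM, hN, hkF', hkG⟩ := exists_split_chart i j a ha z R hR hW hxg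
    fs₁.get hkF hFrel rs₁.get (hker₁.trans (RegNear.ofList_eq_span_get rs₁))
    (fun c hc q => KRegLib.mem_span_of_sum_eq_zero hH c hc q)
  letI : Algebra Γ(X, X.basicOpen gU) Γ(X, X.basicOpen d') :=
    (X.presheaf.map (homOfLE (X.basicOpen_le d')).op).hom.toAlgebra
  haveI : IsLocalization.Away d' Γ(X, X.basicOpen d') := hW.isLocalization_basicOpen d'
  haveI : Module.Flat Γ(X, X.basicOpen gU) Γ(X, X.basicOpen d') := IsLocalization.flat _ (Submonoid.powers d')
  haveI : IsClosedImmersion (j ∣_ X.basicOpen d') := isClosedImmersion_restrict_of_le j (X.basicOpen_le d')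
  haveI : IsClosedImmersion ((i ≫ j) ∣_ X.basicOpen d') :=
    isClosedImmersion_restrict_of_le (i ≫ j) (X.basicOpen_le d')
  refine regularImmersionAt_of_tail i j .koszul (hW.basicOpen d') z hxd' _ g' hkF' hkG ?_
  have hs : Function.Surjective (j.app (X.basicOpen d')).hom :=
    (Synt29.surjective_app_of_isClosedImmersion_restrict j _ (hW.basicOpen d')).2
  refine KoszulFlatLib.isKoszulRegularSeq_of_isExact (isExact_of_appendSeq (WiebeLib.isExact_map hF) hs hkF' g'
    (isExact_appendSeq_iff ?_))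
  have hdet : IsUnit N.det := IsUnit.of_mul_eq_one_right _ (by rw [← Matrix.det_mul, hMN, Matrix.det_one])
  exact KRegLib.isExact_of_isUnit_det
    (comp_cast (P := fun {c} g => IsExact g) (WiebeLib.isExact_map (S := Γ(X, X.basicOpen d')) hH) hn) N hdet
    fun q => (congrFun hN q).symm

/-- Let i : Z ⟶ Y and j : Y ⟶ X be quasi-compact immersions of schemes with j locally of finite
presentation, and let a : i^*C_{Y/X} ⟶ C_{Z/X}, b : C_{Z/X} ⟶ C_{Z/Y} be the canonical maps of
conormal sheaves. Assume the sequence 0 → i^*C_{Y/X} → C_{Z/X} → C_{Z/Y} → 0 is exact and locally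
split (every point of Z has an open neighbourhood over which b admits a section). Then: (1)
quasi-regularity of j ∘ i passes to i; (2) likewise for H_1-regularity; (3) if both j and j ∘ i are
Koszul-regular then i is Koszul-regular too. The published statement allows arbitrary immersions;
this row takes both immersions quasi-compact, the case in which the conormal sheaves used here are
those of the immersions. -/
theorem result {Z Y X : Scheme.{u}} (i : Z ⟶ Y) (j : Y ⟶ X) [IsImmersion i] [IsImmersion j]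
    [QuasiCompact i] [QuasiCompact j]
    (a : (Scheme.Modules.pullback i).obj (Omega.conormal j) ⟶ Omega.conormal (i ≫ j))
    (ha : OmegaSh.IsConormalMap (i ≫ j) j (𝟙 X) i a)
    (b : (Scheme.Modules.pullback (𝟙 Z)).obj (Omega.conormal (i ≫ j)) ⟶ Omega.conormal i)
    (hb : OmegaSh.IsConormalMap i (i ≫ j) j (𝟙 Z) b)
    [LocallyOfFinitePresentation j]
    (w : a ≫ ((Scheme.Modules.pullbackId Z).inv.app (Omega.conormal (i ≫ j)) ≫ b) = 0) (hex : (ShortComplex.mk a ((Scheme.Modules.pullbackId Z).inv.app (Omega.conormal (i ≫ j)) ≫ b) w).ShortExact)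
    (hsplit : ∀ z : ↥Z, ∃ U : Z.Opens, z ∈ U ∧
      ∃ r : (Scheme.Modules.restrictFunctor U.ι).obj (Omega.conormal i) ⟶
          (Scheme.Modules.restrictFunctor U.ι).obj (Omega.conormal (i ≫ j)),
        r ≫ (Scheme.Modules.restrictFunctor U.ι).map ((Scheme.Modules.pullbackId Z).inv.app (Omega.conormal (i ≫ j)) ≫ b) = 𝟙 _) :
    (RegImm.IsRegularImmersion RegImm.Kind.quasi (i ≫ j) → RegImm.IsRegularImmersion RegImm.Kind.quasi i) ∧
      (RegImm.IsRegularImmersion RegImm.Kind.h1 (i ≫ j) → RegImm.IsRegularImmersion RegImm.Kind.h1 i) ∧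
      (RegImm.IsRegularImmersion RegImm.Kind.koszul j → RegImm.IsRegularImmersion RegImm.Kind.koszul (i ≫ j) →
        RegImm.IsRegularImmersion RegImm.Kind.koszul i) := by
  classical
  have hR : ∀ z : Z, ∃ R : St (Omega.conormal (i ≫ j)) z →ₗ[Z.presheaf.stalk z]
      St ((Scheme.Modules.pullback i).obj (Omega.conormal j)) z,
      ∀ v, R ((DerSch.stalkFunctor Z z).map a v) = v := fun z => by
    obtain ⟨U, hz, σ, hσ⟩ := hsplit z
    haveI : Mono a := hex.mono_f
    let F := Scheme.Modules.restrictFunctor U.ι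
    have hS := hex.exact.map F
    let spl := ShortComplex.Splitting.ofExactOfSection _ hS σ hσ (inferInstanceAs (Mono (F.map a)))
    exact H1CNSplit.exists_stalk_retraction a U spl.r spl.f_r (⟨z, hz⟩ : U)
  choose R hR using hR
  refine ⟨fun h => ⟨inferInstance, fun z => ?_⟩, fun h => ⟨inferInstance, fun z => ?_⟩,
    fun hj h => ⟨inferInstance, fun z => ?_⟩⟩
  · exact at_of_split i j a ha z (R z) (hR z) .quasi (Or.inr rfl) (h.2 z)
  · exact at_of_split i j a ha z (R z) (hR z) .h1 (Or.inl rfl) (h.2 z)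
  · exact at_of_split_koszul i j a ha z (R z) (hR z) (hj.2 (i z)) (h.2 z)

end Groth.Agent.S8920
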