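import Groth.Statements.S8921
import Groth.Agent.S5974
import Groth.Agent.ConormalFrame.Mono
import Groth.Agent.ConormalFrame.Split
import Groth.Agent.ConormalFrame.Regular
import Groth.Agent.ExtShX.FundSpread
import Groth.Agent.RegImmLib.RegComp
import Groth.Agent.KRegLib.Closed
import Mathlib

set_option backward.isDefEq.respectTransparency false
set_option backward.isDefEq.respectTransparency.types false
set_option linter.style.haveILetI false
set_option maxHeartbeats 1000000

set_option autoImplicit false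
universe u
open CategoryTheory CategoryTheory.Limits AlgebraicGeometry TopologicalSpace
open SDiv

namespace Groth.Agent.S8921

open Groth.Agent.Synt29 Groth.Agent.Synt29.OmegaStalk Groth.Agent.Synt29.ConormalStalk

theorem h1At_of_regularAt {Z X : Scheme.{u}} {i : Z ⟶ X} {z : Z}
    (h : RegImm.IsRegularImmersionAt RegImm.Kind.regular i z) :
    RegImm.IsRegularImmersionAt RegImm.Kind.h1 i z := by
  obtain ⟨U, hz, hc, rs, hrs, hk⟩ := h
  exact ⟨U, hz, hc, rs, KRegLib.seq_of_isRegular .h1 rs hrs, hk⟩

/-- Let i : Z ⟶ Y and j : Y ⟶ X be immersions of schemes with X locally Noetherian, z a point of Z with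
images y = i z and x, and a : i^*C_{Y/X} ⟶ C_{Z/X}, b : C_{Z/X} ⟶ C_{Z/Y} the canonical maps of
conormal sheaves. The following are equivalent: (1) i is regular near z and j is regular near y; (2)
i and j ∘ i are regular near z; (3) j ∘ i is regular near z and the sequence 0 → i^*C_{Y/X} →
C_{Z/X} → C_{Z/Y} → 0 is split short exact over some open neighbourhood of z. Both immersions are
quasi-compact automatically, X being locally Noetherian; the quasi-compactness binders only make the
conormal sheaves available. -/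
theorem result {Z Y X : Scheme.{u}} (i : Z ⟶ Y) (j : Y ⟶ X) [IsImmersion i] [IsImmersion j]
    [QuasiCompact i] [QuasiCompact j]
    (a : (Scheme.Modules.pullback i).obj (Omega.conormal j) ⟶ Omega.conormal (i ≫ j))
    (ha : OmegaSh.IsConormalMap (i ≫ j) j (𝟙 X) i a)
    (b : (Scheme.Modules.pullback (𝟙 Z)).obj (Omega.conormal (i ≫ j)) ⟶ Omega.conormal i)
    (hb : OmegaSh.IsConormalMap i (i ≫ j) j (𝟙 Z) b)
    [IsLocallyNoetherian X] (z : ↥Z) :
    ((RegImm.IsRegularImmersionAt RegImm.Kind.regular i z ∧ RegImm.IsRegularImmersionAt RegImm.Kind.regular j (i z)) ↔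
      (RegImm.IsRegularImmersionAt RegImm.Kind.regular i z ∧ RegImm.IsRegularImmersionAt RegImm.Kind.regular (i ≫ j) z)) ∧
    ((RegImm.IsRegularImmersionAt RegImm.Kind.regular i z ∧ RegImm.IsRegularImmersionAt RegImm.Kind.regular (i ≫ j) z) ↔
      (RegImm.IsRegularImmersionAt RegImm.Kind.regular (i ≫ j) z ∧
        ∃ U : Z.Opens, z ∈ U ∧
          ∀ w : (Scheme.Modules.restrictFunctor U.ι).map a ≫ (Scheme.Modules.restrictFunctor U.ι).map ((Scheme.Modules.pullbackId Z).inv.app (Omega.conormal (i ≫ j)) ≫ b) = 0,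
            Nonempty (ShortComplex.mk ((Scheme.Modules.restrictFunctor U.ι).map a) ((Scheme.Modules.restrictFunctor U.ι).map ((Scheme.Modules.pullbackId Z).inv.app (Omega.conormal (i ≫ j)) ≫ b)) w).Splitting)) := by
  classical
  haveI : IsLocallyNoetherian Y := LocallyOfFiniteType.isLocallyNoetherian j
  obtain ⟨hepi, him⟩ := S5974.result j i a ha b hb
  let g := (Scheme.Modules.pullbackId Z).inv.app (Omega.conormal (i ≫ j)) ≫ b
  have hw0 : a ≫ g = 0 := by
    rw [← imageSubobject_arrow_comp a, Category.assoc]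
    have h0 : (imageSubobject a).arrow ≫ g = 0 := by
      rw [him]
      exact kernelSubobject_arrow_comp _
    rw [h0, comp_zero]
  have hexact : (ShortComplex.mk a g hw0).Exact :=
    (ShortComplex.mk a g hw0).exact_iff_image_eq_kernel.mpr him
  haveI hge : Epi g := by
    haveI := hepi
    infer_instance
  refine ⟨⟨fun h => ⟨h.1, RegImmLib.regularImmersionAt_comp j i z h.2 h.1⟩,
    fun h => ⟨h.1, ConormalFrame.regularAt_cancel i j z h.1 h.2⟩⟩, ⟨fun h => ⟨h.2, ?_⟩, fun h => ?_⟩⟩
  · obtain ⟨U₀, n, hz₀, s, hs, hreg⟩ := ConormalFrame.exists_frame_of_h1At i z (h1At_of_regularAt h.1)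
    choose v hv using fun k => (epi_iff_stalk g).1 hge z ((Omega.conormal i).presheaf.germ U₀ z hz₀ (s k))
    obtain ⟨U₁, hU₁, hz₁, t, ht⟩ := ExtShX.Fund.exists_common (M := Omega.conormal (i ≫ j)) hz₀ v
    obtain ⟨U, hU, hzU, he⟩ := ExtShX.Fund.exists_res_eq (M := Omega.conormal i) hz₁ (fun k => g.app U₁ (t k))
      (fun k => AModX.res (Omega.conormal i) hU₁ (s k)) (fun k => by
        rw [RefX.germ_res]
        refine Eq.trans ?_ (hv k)
        rw [← ht k]
        exact (DerSch.stalkFunctor_map_germ z g U₁ hz₁ (t k)).symm)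
    refine ⟨U, hzU, fun w => ?_⟩
    let F := Scheme.Modules.restrictFunctor U.ι
    obtain ⟨σ, hσ⟩ := ConormalFrame.exists_section_of_lift g
      (fun k => AModX.res (Omega.conormal (i ≫ j)) hU (t k)) _
      (fun k => (ConcreteCategory.congr_hom (g.mapPresheaf.naturality (homOfLE hU).op) (t k)).trans
        ((he k).trans (AModX.res_res _ _ _)))
      (hs.res (hU.trans hU₁))
    haveI : Mono (F.map a) := by
      rw [mono_iff_stalk]
      intro p x x' hx
      let eA := ((Scheme.Modules.restrictStalkNatIso U.ι p).app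
        ((Scheme.Modules.pullback i).obj (Omega.conormal j))).addCommGroupIsoToAddEquiv
      refine eA.injective (ConormalFrame.stalk_injective_of_h1At i j a ha (U.ι p) (hreg _ (hU₁ (hU p.2))) ?_)
      have nat := fun y => ConcreteCategory.congr_hom ((Scheme.Modules.restrictStalkNatIso U.ι p).hom.naturality a) y
      exact (nat x).symm.trans ((congrArg _ hx).trans (nat x'))
    have hS : (ShortComplex.mk (F.map a) (F.map g) w).Exact := hexact.map F
    exact ⟨ShortComplex.Splitting.ofExactOfSection _ hS σ hσ ‹_›⟩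
  · obtain ⟨hc, U, hzU, hsp⟩ := h
    obtain ⟨spl⟩ := hsp (by rw [← Functor.map_comp]; erw [hw0]; rw [Functor.map_zero])
    obtain ⟨R, hR⟩ := H1CNSplit.exists_stalk_retraction a U spl.r spl.f_r (⟨z, hzU⟩ : U)
    exact ⟨(ConormalFrame.regularAt_of_split i j a ha z R hR hc).1, hc⟩

end Groth.Agent.S8921
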