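import Groth.Statements.S8928
import Mathlib.RingTheory.Ideal.AssociatedPrime.Finiteness
import Mathlib.RingTheory.Localization.BaseChange
import Mathlib.RingTheory.Flat.Stability
import Mathlib.RingTheory.Localization.LocalizationLocalization
import Mathlib.RingTheory.Flat.Localization

set_option autoImplicit false
universe u
open scoped TensorProduct
open Disc

namespace Groth.Agent.S8928

open scoped TensorProduct in
attribute [local instance] Algebra.TensorProduct.rightAlgebra in
lemma flat_of_disjoint (A B : Type u) [CommRing A] [CommRing B] [Algebra A B]
    (h2 : Module.Flat (FractionRing A) (FractionRing A ⊗[A] B)) (q : Ideal B) [q.IsPrime]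
    (hd : ∀ a ∈ nonZeroDivisors A, algebraMap A B a ∉ q) : Module.Flat A (Localization.AtPrime q) := by
  let T := FractionRing A ⊗[A] B
  let M := Algebra.algebraMapSubmonoid B (nonZeroDivisors A)
  haveI : IsLocalization M T := IsLocalization.tensorRight (FractionRing A) (nonZeroDivisors A)
  haveI : IsScalarTower A B T := IsScalarTower.of_algebraMap_eq fun a => by
    rw [RingHom.algebraMap_toAlgebra]
    exact (Algebra.TensorProduct.includeRight.commutes a).symm
  have hM : M ≤ q.primeCompl := by
    rintro _ ⟨a, ha, rfl⟩
    exact hd a ha
  letI : Algebra T (Localization.AtPrime q) := IsLocalization.localizationAlgebraOfSubmonoidLe T _ M q.primeCompl hM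
  haveI : IsScalarTower B T (Localization.AtPrime q) := IsLocalization.localization_isScalarTower_of_submonoid_le T _ M q.primeCompl hM
  haveI : IsScalarTower A T (Localization.AtPrime q) :=
    IsScalarTower.of_algebraMap_eq (R := A) (S := T) (A := Localization.AtPrime q) fun a => by
    rw [IsScalarTower.algebraMap_apply A B T, ← IsScalarTower.algebraMap_apply B T (Localization.AtPrime q),
      ← IsScalarTower.algebraMap_apply A B]
  haveI := IsLocalization.isLocalization_of_submonoid_le T (Localization.AtPrime q) M q.primeCompl hM
  haveI : Module.Flat T (Localization.AtPrime q) := IsLocalization.flat _ (q.primeCompl.map (algebraMap B T))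
  haveI : Module.Flat A T := Module.Flat.trans A (FractionRing A) T
  exact Module.Flat.trans A T _

/-- Let A → B be a map of Noetherian rings such that nonzerodivisors of A map to nonzerodivisors of B
and Q(A) ⊗_A B is flat over the total ring of fractions Q(A). Then B_q is flat over A for every
associated prime q of B and for every prime q of B lying over an associated prime of A. -/
theorem result (A B : Type u) [CommRing A] [CommRing B] [IsNoetherianRing A] [IsNoetherianRing B] [Algebra A B] (h1 : nonZeroDivisors A ≤ (nonZeroDivisors B).comap (algebraMap A B)) (h2 : Module.Flat (FractionRing A) (FractionRing A ⊗[A] B)) : (∀ (q : Ideal B) [q.IsPrime], IsAssociatedPrime q B → Module.Flat A (Localization.AtPrime q)) ∧ (∀ (q : Ideal B) [q.IsPrime], IsAssociatedPrime (q.comap (algebraMap A B)) A → Module.Flat A (Localization.AtPrime q)) := by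
  have key : ∀ (q : Ideal B) [q.IsPrime], (∀ a ∈ nonZeroDivisors A, algebraMap A B a ∉ q) →
      Module.Flat A (Localization.AtPrime q) := fun q _ hd => flat_of_disjoint A B h2 q hd
  refine ⟨fun q _ hq => key q fun a ha haq => ?_, fun q _ hq => key q fun a ha haq => ?_⟩
  · have h : algebraMap A B a ∈ ⋃ p ∈ associatedPrimes B B, (p : Set B) := Set.mem_biUnion hq haq
    rw [biUnion_associatedPrimes_eq_compl_nonZeroDivisors] at h
    exact h (h1 ha)
  · have h : a ∈ ⋃ p ∈ associatedPrimes A A, (p : Set A) := Set.mem_biUnion hq haq
    rw [biUnion_associatedPrimes_eq_compl_nonZeroDivisors] at h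
    exact h ha

end Groth.Agent.S8928
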