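import Groth.Statements.S8929
import Groth.Statements.S8929
import Mathlib
set_option linter.style.haveILetI false

set_option autoImplicit false
universe u
open scoped TensorProduct
open Disc

namespace Groth.Agent.S8929

/-- Let A → B be a map of Noetherian rings with the going-up property. If B_q is flat over A for every
associated prime q of B and for every prime q of B lying over an associated prime of A, then Q(A)
⊗_A B is flat over the total ring of fractions Q(A). -/
theorem result (A B : Type u) [CommRing A] [CommRing B] [IsNoetherianRing A] [IsNoetherianRing B] [Algebra A B] [Algebra.HasGoingUp A B] (h3 : ∀ (q : Ideal B) [q.IsPrime], IsAssociatedPrime q B → Module.Flat A (Localization.AtPrime q)) (h4 : ∀ (q : Ideal B) [q.IsPrime], IsAssociatedPrime (q.comap (algebraMap A B)) A → Module.Flat A (Localization.AtPrime q)) : Module.Flat (FractionRing A) (FractionRing A ⊗[A] B) := by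
  classical
  let S : Submonoid B := Algebra.algebraMapSubmonoid B (nonZeroDivisors A)
  let B' := Localization S
  have key : ∀ (P : Ideal B') [P.IsMaximal], Module.Flat A (Localization.AtPrime P) := by
    intro P _
    let q : Ideal B := P.comap (algebraMap B B')
    haveI hqp : q.IsPrime := Ideal.IsPrime.comap _
    haveI : IsLocalization.AtPrime (Localization.AtPrime P) q :=
      IsLocalization.isLocalization_isLocalization_atPrime_isLocalization S (Localization.AtPrime P) P
    -- the contraction of `q` consists of zero divisors, so lies in an associated prime
    have hsub : ∀ a ∈ q.comap (algebraMap A B), a ∉ nonZeroDivisors A := by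
      intro a ha ha'
      have hu : IsUnit (algebraMap B B' (algebraMap A B a)) :=
        IsLocalization.map_units (M := S) B' ⟨algebraMap A B a, ⟨a, ha', rfl⟩⟩
      exact (Ideal.IsMaximal.ne_top (I := P) inferInstance) (P.eq_top_of_isUnit_mem ha hu)
    obtain ⟨p, hp, hpq⟩ : ∃ p ∈ associatedPrimes A A, q.comap (algebraMap A B) ≤ p :=
      ((q.comap (algebraMap A B)).subset_union_prime_finite (associatedPrimes.finite A A) (f := id) 0 0
        fun _ h _ _ => h.isPrime).1 <| by
          simp_rw [id, biUnion_associatedPrimes_eq_compl_nonZeroDivisors]
          exact fun a ha => hsub a ha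
    haveI : p.IsPrime := hp.isPrime
    haveI : q.LiesOver (q.comap (algebraMap A B)) := ⟨rfl⟩
    obtain ⟨q1, hq1, hq1p, hq1o⟩ := q.exists_ideal_ge_liesOver_of_le (p := q.comap (algebraMap A B)) (q := p) hpq
    haveI : Module.Flat A (Localization.AtPrime q1) := h4 q1 (by rw [show q1.comap (algebraMap A B) = p from hq1o.over.symm]; exact hp)
    have hle : q1.primeCompl ≤ q.primeCompl := fun x hx hxq => hx (hq1 hxq)
    letI := IsLocalization.localizationAlgebraOfSubmonoidLe (Localization.AtPrime q1) (Localization.AtPrime q)
      q1.primeCompl q.primeCompl hle
    haveI := IsLocalization.localization_isScalarTower_of_submonoid_le (R := B) (Localization.AtPrime q1)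
      (Localization.AtPrime q) q1.primeCompl q.primeCompl hle
    haveI : IsLocalization (q.primeCompl.map (algebraMap B (Localization.AtPrime q1))) (Localization.AtPrime q) :=
      IsLocalization.isLocalization_of_submonoid_le _ _ q1.primeCompl q.primeCompl hle
    haveI : Module.Flat (Localization.AtPrime q1) (Localization.AtPrime q) :=
      IsLocalization.flat _ (q.primeCompl.map (algebraMap B (Localization.AtPrime q1)))
    haveI : IsScalarTower A (Localization.AtPrime q1) (Localization.AtPrime q) := by
      refine IsScalarTower.of_algebraMap_eq fun a => ?_
      rw [IsScalarTower.algebraMap_apply A B (Localization.AtPrime q),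
        IsScalarTower.algebraMap_apply A B (Localization.AtPrime q1),
        ← IsScalarTower.algebraMap_apply B (Localization.AtPrime q1) (Localization.AtPrime q)]
    haveI : Module.Flat A (Localization.AtPrime q) :=
      Module.Flat.trans A (Localization.AtPrime q1) (Localization.AtPrime q)
    exact Module.Flat.of_linearEquiv
      ((IsLocalization.algEquiv q.primeCompl (Localization.AtPrime P) (Localization.AtPrime q)).toLinearEquiv.restrictScalars A)
  have hB' : Module.Flat A B' :=
    Module.flat_of_isLocalized_maximal (R := A) (S := B') (M := B') (fun P => Localization.AtPrime P)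
      (fun P => Algebra.linearMap B' (Localization.AtPrime P)) (fun P => key P)
  haveI : IsLocalizedModule (nonZeroDivisors A) (IsScalarTower.toAlgHom A B B').toLinearMap :=
    isLocalizedModule_iff_isLocalization.mpr inferInstance
  haveI : IsLocalizedModule (nonZeroDivisors A) (TensorProduct.mk A (FractionRing A) B 1) :=
    (isLocalizedModule_iff_isBaseChange (nonZeroDivisors A) (FractionRing A) _).mpr
      (TensorProduct.isBaseChange A B (FractionRing A))
  haveI : Module.Flat A (FractionRing A ⊗[A] B) :=
    Module.Flat.of_linearEquiv (IsLocalizedModule.linearEquiv (nonZeroDivisors A)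
      (TensorProduct.mk A (FractionRing A) B 1) (IsScalarTower.toAlgHom A B B').toLinearMap)
  exact (Module.flat_iff_of_isLocalization (FractionRing A) (nonZeroDivisors A) _).mpr inferInstance

end Groth.Agent.S8929
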