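import Groth.Statements.S8930
import Groth.Statements.S8930
import Mathlib.AlgebraicGeometry.AffineScheme
import Mathlib.AlgebraicGeometry.Morphisms.IsIso
import Mathlib.AlgebraicGeometry.Morphisms.OpenImmersion
import Mathlib.RingTheory.TensorProduct.Finite

set_option backward.isDefEq.respectTransparency false
set_option linter.style.haveILetI false
open CategoryTheory AlgebraicGeometry Topology TensorProduct

set_option autoImplicit false
universe u
open AlgebraicGeometry
open Disc

namespace Groth.Agent.S8930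

/-- Given two factorizations A → B' → B and A → B'' → B of a ring map with A → B' and A → B'' finite and
Spec(B) → Spec(B'), Spec(B) → Spec(B'') open immersions, there is an A-subalgebra C of B which is
finite over A, contains the images of B' and B'', and is such that Spec(B) → Spec(C) is an open
immersion. (Such an A → B is quasi-finite; that hypothesis of the published statement is implied by
the factorizations and is not repeated.) -/
theorem result (A B B' B'' : Type u) [CommRing A] [CommRing B] [CommRing B'] [CommRing B''] [Algebra A B] [Algebra A B'] [Algebra A B''] [Algebra B' B] [Algebra B'' B] [IsScalarTower A B' B] [IsScalarTower A B'' B] [Module.Finite A B'] [Module.Finite A B''] (h' : IsOpenImmersion (Spec.map (CommRingCat.ofHom (algebraMap B' B)))) (h'' : IsOpenImmersion (Spec.map (CommRingCat.ofHom (algebraMap B'' B)))) : ∃ C : Subalgebra A B, Module.Finite A C ∧ Set.range (algebraMap B' B) ⊆ (C : Set B) ∧ Set.range (algebraMap B'' B) ⊆ (C : Set B) ∧ IsOpenImmersion (Spec.map (CommRingCat.ofHom C.val.toRingHom))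 := by
  classical
  let α := IsScalarTower.toAlgHom A B' B
  let β := IsScalarTower.toAlgHom A B'' B
  let C := (Algebra.TensorProduct.lift α β fun _ _ => Commute.all _ _).range
  have hfin : Module.Finite A C := Module.Finite.of_surjective
    (Algebra.TensorProduct.lift α β fun _ _ => Commute.all _ _).rangeRestrict.toLinearMap
    (AlgHom.rangeRestrict_surjective _)
  have hC' : Set.range (algebraMap B' B) ⊆ (C : Set B) := by
    rintro _ ⟨x, rfl⟩
    exact ⟨x ⊗ₜ 1, by simp [α]⟩
  have hC'' : Set.range (algebraMap B'' B) ⊆ (C : Set B) := by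
    rintro _ ⟨x, rfl⟩
    exact ⟨1 ⊗ₜ x, by simp [β]⟩
  refine ⟨C, hfin, hC', hC'', ?_⟩
  let φ := CommRingCat.ofHom (algebraMap B' B)
  let j : B' →+* C := (algebraMap B' B).codRestrict C fun x => hC' ⟨x, rfl⟩
  let f := Spec.map (CommRingCat.ofHom C.val.toRingHom)
  let h := Spec.map φ
  haveI : IsOpenImmersion h := h'
  have hfac : f ≫ Spec.map (CommRingCat.ofHom j) = h := by
    rw [← Spec.map_comp]
    rfl
  -- locally on the source, an open immersion
  have hloc : ∀ x : Spec (CommRingCat.of B), ∃ U : Scheme.Opens (Spec (CommRingCat.of B)), x ∈ U ∧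
      IsOpenImmersion (Scheme.Opens.ι U ≫ f) := by
    intro x
    obtain ⟨_, ⟨g, rfl⟩, hxg, hgU⟩ := PrimeSpectrum.isTopologicalBasis_basic_opens.exists_subset_of_mem_open
      (show h x ∈ Set.range h from ⟨x, rfl⟩) h.isOpenEmbedding.isOpen_range
    haveI : IsIso (h ∣_ PrimeSpectrum.basicOpen g) := by
      rw [isIso_iff_isOpenImmersion_and_surjective]
      refine ⟨inferInstance, ⟨fun y => ?_⟩⟩
      obtain ⟨z, hz⟩ := hgU y.2
      exact ⟨⟨z, (show h z ∈ PrimeSpectrum.basicOpen g by rw [hz]; exact y.2)⟩, Subtype.ext (by rw [morphismRestrict_base]; exact hz)⟩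
    haveI : IsIso (Spec.map (CommRingCat.ofHom (Localization.awayMap (algebraMap B' B) g))) :=
      ((MorphismProperty.isomorphisms Scheme).arrow_mk_iso_iff (SpecMapRestrictBasicOpenIso φ g)).1
        (inferInstanceAs (IsIso (h ∣_ PrimeSpectrum.basicOpen g)))
    haveI : IsIso (CommRingCat.ofHom (Localization.awayMap (algebraMap B' B) g)) :=
      (isIso_op_iff _).1 ((isIso_iff_of_reflects_iso (CommRingCat.ofHom (Localization.awayMap (algebraMap B' B) g)).op Scheme.Spec).1 this)
    have hsurj := (ConcreteCategory.bijective_of_isIso (CommRingCat.ofHom (Localization.awayMap (algebraMap B' B) g))).2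
    let gB := algebraMap B' B g
    let gC : C := j g
    letI : Algebra C (Localization.Away gB) := ((algebraMap B (Localization.Away gB)).comp C.val.toRingHom).toAlgebra
    haveI : IsLocalization.Away gC (Localization.Away gB) := by
      refine ⟨⟨?_, ?_, ?_⟩⟩
      · rintro ⟨_, k, rfl⟩
        exact IsLocalization.map_units (Localization.Away gB) (⟨gB ^ k, k, rfl⟩ : Submonoid.powers gB)
      · intro z
        obtain ⟨a, rfl⟩ := hsurj z
        obtain ⟨⟨b, _, k, rfl⟩, hb⟩ := IsLocalization.surj (Submonoid.powers g) a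
        refine ⟨⟨j b, ⟨gC ^ k, k, rfl⟩⟩, ?_⟩
        have := congrArg (Localization.awayMap (algebraMap B' B) g) hb
        rw [map_mul] at this
        simpa [Localization.awayMap, IsLocalization.Away.map, RingHom.algebraMap_toAlgebra, gC, gB, j] using this
      · intro c₁ c₂ hc
        obtain ⟨⟨_, k, rfl⟩, hk⟩ := IsLocalization.exists_of_eq (M := Submonoid.powers gB) hc
        exact ⟨⟨gC ^ k, k, rfl⟩, Subtype.ext hk⟩
    haveI hoi : IsOpenImmersion (Spec.map (CommRingCat.ofHom (algebraMap C (Localization.Away gB)))) :=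
      IsOpenImmersion.of_isLocalization gC
    refine ⟨PrimeSpectrum.basicOpen gB, hxg, ?_⟩
    have hι : Scheme.Opens.ι (X := Spec (CommRingCat.of B)) (PrimeSpectrum.basicOpen gB) ≫ f =
        (basicOpenIsoSpecAway (R := CommRingCat.of B) gB).hom ≫
          Spec.map (CommRingCat.ofHom (algebraMap C (Localization.Away gB))) := by
      rw [← basicOpenIsoSpecAway_hom_SpecMap (R := CommRingCat.of B) gB, Category.assoc, ← Spec.map_comp]
      rfl
    rw [hι]
    infer_instance
  have hinj : Function.Injective f := by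
    refine Function.Injective.of_comp (f := Spec.map (CommRingCat.ofHom j)) ?_
    have : IsOpenImmersion (f ≫ Spec.map (CommRingCat.ofHom j)) := hfac ▸ inferInstance
    exact fun a b hab => (Scheme.Hom.isOpenEmbedding (f ≫ Spec.map (CommRingCat.ofHom j))).injective hab
  haveI : ∀ x, IsIso (f.stalkMap x) := fun x => by
    obtain ⟨U, hxU, hU⟩ := hloc x
    haveI := hU
    haveI : IsIso (f.stalkMap ((Scheme.Opens.ι U) ⟨x, hxU⟩) ≫ (Scheme.Opens.ι U).stalkMap ⟨x, hxU⟩) := by
      rw [← Scheme.Hom.stalkMap_comp]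
      infer_instance
    exact IsIso.of_isIso_comp_right (f.stalkMap ((Scheme.Opens.ι U) ⟨x, hxU⟩)) ((Scheme.Opens.ι U).stalkMap ⟨x, hxU⟩)
  refine IsOpenImmersion.of_isIso_stalkMap f
    (IsOpenEmbedding.of_continuous_injective_isOpenMap f.continuous hinj fun W hW => ?_)
  refine isOpen_iff_forall_mem_open.2 ?_
  rintro _ ⟨x, hx, rfl⟩
  obtain ⟨U, hxU, hU⟩ := hloc x
  haveI := hU
  refine ⟨((Scheme.Opens.ι U) ≫ f) '' ((Scheme.Opens.ι U) ⁻¹' W), ?_, ((Scheme.Opens.ι U) ≫ f).isOpenEmbedding.isOpenMap _ (hW.preimage (Scheme.Opens.ι U).continuous),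
    ⟨⟨x, hxU⟩, hx, rfl⟩⟩
  rintro _ ⟨y, hy, rfl⟩
  exact ⟨(Scheme.Opens.ι U) y, hy, rfl⟩

end Groth.Agent.S8930
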