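import Groth.Statements.S8933
import Groth.Agent.RGammaD.Univ

set_option autoImplicit false
universe u
open CategoryTheory CategoryTheory.Limits
attribute [local instance] HasDerivedCategory.standard
open LocCoh

namespace Groth.Agent.S8933

set_option backward.isDefEq.respectTransparency false
set_option linter.style.haveILetI false


/-- For a ring A, a finitely generated ideal I and a complex K of A-modules such that multiplication by
some f ∈ I is bijective on every term of K, the object RΓ_I(K) of D(A) is zero; here RΓ_I is the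
right derived functor of the I-power torsion functor, assumed to exist. -/
theorem result (A : Type u) [CommRing A] (I : Ideal A) (hI : I.FG) [DRing.HasRgammaI I] (K : CochainComplex (ModuleCat.{u} A) ℤ) (f : A) (hf : f ∈ I) (hK : ∀ n : ℤ, Function.Bijective (fun x : K.X n => f • x)) : IsZero ((DRing.RgammaI I).obj (DerivedCategory.Q.obj K)) := by
  obtain ⟨J, hJ, -, ⟨eJ⟩⟩ := Groth.Agent.H9Misc.DRingRHomCompl.exists_resolution (DerivedCategory.Q.obj K)
  obtain ⟨e, -⟩ := Groth.Agent.RGammaD.exists_iso_gam I J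
  refine IsZero.of_iso ?_ ((DRing.RgammaI I).mapIso eJ ≪≫ e.symm)
  haveI : IsIso (f • 𝟙 K) := by
    haveI : ∀ n, IsIso ((f • 𝟙 K).f n) := fun n => (ConcreteCategory.isIso_iff_bijective _).2 (hK n)
    exact HomologicalComplex.Hom.isIso_of_components _
  have hL : Groth.Agent.H9Misc.RlimSmul.Loc f (DerivedCategory.Q.obj J) := by
    refine Groth.Agent.H9Misc.RlimSmul.Loc.of_iso f eJ ?_
    show IsIso (f • 𝟙 _)
    rw [← CategoryTheory.Functor.map_id, ← Functor.map_smul]
    infer_instance
  haveI : IsIso (DerivedCategory.Q.map (f • 𝟙 J)) := by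
    rw [Functor.map_smul, CategoryTheory.Functor.map_id]
    exact hL
  let q := HomotopyCategory.quotient (ModuleCat.{u} A) (ComplexShape.up ℤ)
  haveI : IsIso (DerivedCategory.Qh.map (q.map (f • 𝟙 J))) :=
    (NatIso.isIso_map_iff (DerivedCategory.quotientCompQhIso (ModuleCat.{u} A)) (f • 𝟙 J)).2 inferInstance
  haveI : IsIso (q.map (f • 𝟙 J)) := by
    have hb := CochainComplex.IsKInjective.Qh_map_bijective (q.obj J) J
    obtain ⟨γ, hγ⟩ := hb.2 (inv (DerivedCategory.Qh.map (q.map (f • 𝟙 J))))
    exact ⟨γ, hb.1 (by rw [Functor.map_comp, hγ, IsIso.hom_inv_id, CategoryTheory.Functor.map_id]),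
      hb.1 (by rw [Functor.map_comp, hγ, IsIso.inv_hom_id, CategoryTheory.Functor.map_id])⟩
  have hG : Groth.Agent.H9Misc.RlimSmul.Loc f (DerivedCategory.Q.obj ((Groth.Agent.RGammaD.gam I).obj J)) := by
    have h1 : (Groth.Agent.RGammaD.gam I).map (f • 𝟙 J) = f • 𝟙 ((Groth.Agent.RGammaD.gam I).obj J) := by
      refine HomologicalComplex.hom_ext _ _ fun n => ModuleCat.hom_ext (LinearMap.ext fun x => Subtype.ext ?_)
      rfl
    haveI : IsIso (((DRing.gammaI I).mapHomotopyCategory (ComplexShape.up ℤ)).map (q.map (f • 𝟙 J))) :=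
      inferInstance
    haveI : IsIso (q.map ((Groth.Agent.RGammaD.gam I).map (f • 𝟙 J))) :=
      (NatIso.isIso_map_iff ((DRing.gammaI I).mapHomotopyCategoryFactors (ComplexShape.up ℤ)) (f • 𝟙 J)).1
        (inferInstanceAs (IsIso (((DRing.gammaI I).mapHomotopyCategory (ComplexShape.up ℤ)).map (q.map (f • 𝟙 J)))))
    haveI : IsIso (DerivedCategory.Q.map ((Groth.Agent.RGammaD.gam I).map (f • 𝟙 J))) :=
      (NatIso.isIso_map_iff (DerivedCategory.quotientCompQhIso (ModuleCat.{u} A)) _).1
        (inferInstanceAs (IsIso (DerivedCategory.Qh.map (q.map ((Groth.Agent.RGammaD.gam I).map (f • 𝟙 J))))))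
    show IsIso (f • 𝟙 _)
    rw [← CategoryTheory.Functor.map_id, ← Functor.map_smul, ← h1]
    infer_instance
  exact (IsZero.iff_id_eq_zero _).2
    (Groth.Agent.RGammaD.hom_eq_zero_of_torsD I (Groth.Agent.RGammaD.torsD_gam I J) hf hG (𝟙 _))

end Groth.Agent.S8933
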