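import Groth.Statements.S8935
import Groth.Agent.S9141
import Groth.Agent.S9145
import Groth.Agent.QFD.GorFibre
import Groth.Agent.QFD.Frobenius
import Groth.Agent.LC.GorRing
import Mathlib.RingTheory.Jacobson.Artinian
import Mathlib.RingTheory.PicardGroup

set_option autoImplicit false
universe u
open Disc

namespace Groth.Agent.S8935

open TensorProduct in
/-- The fibre of an algebra over a field is the algebra. -/
theorem gor_fiber (k B : Type u) [Field k] [CommRing B] [Algebra k B] (hB : LocCoh.IsGorensteinRing B) (p : Ideal k)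
    [p.IsPrime] : LocCoh.IsGorensteinRing (p.Fiber B) := by
  have hp : p = ⊥ := (Ideal.eq_bot_or_top p).resolve_right (Ideal.IsPrime.ne_top inferInstance)
  subst hp
  haveI : (⊥ : Ideal k).IsMaximal := Ideal.bot_isMaximal
  have hbij : Function.Bijective (algebraMap k (⊥ : Ideal k).ResidueField) :=
    ⟨(algebraMap k (⊥ : Ideal k).ResidueField).injective, by
      rw [IsScalarTower.algebraMap_eq k (k ⧸ (⊥ : Ideal k)) (⊥ : Ideal k).ResidueField, RingHom.coe_comp]
      exact (Ideal.bijective_algebraMap_quotient_residueField (⊥ : Ideal k)).2.comp Ideal.Quotient.mk_surjective⟩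
  let e : B ≃ₗ[k] (⊥ : Ideal k).Fiber B :=
    (TensorProduct.lid k B).symm ≪≫ₗ
      TensorProduct.congr (LinearEquiv.ofBijective (Algebra.linearMap k (⊥ : Ideal k).ResidueField) hbij)
        (LinearEquiv.refl k B)
  refine Groth.Agent.LC.gorensteinRing_of_ringEquiv (RingEquiv.ofBijective
    (Algebra.TensorProduct.includeRight : B →ₐ[k] (⊥ : Ideal k).Fiber B).toRingHom ?_) hB
  have he : ∀ b : B, e b = (1 : (⊥ : Ideal k).ResidueField) ⊗ₜ[k] b := fun b => by simp [e]
  convert e.bijective using 1
  exact funext fun b => (he b).symm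

/-- Let k be a field and B = k[x_1, …, x_n]/(f_1, …, f_n), a global complete intersection with as many
equations as variables, of Krull dimension 0. Then ω_{B/k} = Hom_k(B, k), with B acting through the
argument, is an invertible B-module; since B is Artinian this means it is free of rank one, which is
the form stated. -/
theorem result (k : Type u) [Field k] (n : ℕ) (f : Fin n → MvPolynomial (Fin n) k) (h0 : ringKrullDim (MvPolynomial (Fin n) k ⧸ Ideal.span (Set.range f)) = 0) : Nonempty (Disc.Omega k (MvPolynomial (Fin n) k ⧸ Ideal.span (Set.range f)) ≃ₗ[MvPolynomial (Fin n) k ⧸ Ideal.span (Set.range f)] (MvPolynomial (Fin n) k ⧸ Ideal.span (Set.range f))) := by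
  let B := MvPolynomial (Fin n) k ⧸ Ideal.span (Set.range f)
  haveI : Ring.KrullDimLE 0 B := ⟨h0.le⟩
  haveI : IsNoetherianRing B := inferInstance
  haveI : IsArtinianRing B := isArtinianRing_iff_isNoetherianRing_krullDimLE_zero.2 ⟨inferInstance, inferInstance⟩
  haveI : Module.Finite k B := (Module.finite_iff_isArtinianRing k B).2 inferInstance
  have hG : Synt.IsGlobalCI k B := Or.inr ⟨n, n, le_rfl, Ideal.Quotient.mkₐ k _, f, Ideal.Quotient.mk_surjective,
    Ideal.mk_ker, by rw [h0, Nat.sub_self]; rfl⟩
  have hL : Synt.IsLCIOver k B :=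
    ⟨inferInstance, fun p => ⟨1, fun h => p.isPrime.ne_top ((Ideal.eq_top_iff_one _).2 h),
      (Groth.Agent.S9141.result k B 1).1 hG⟩⟩
  have hB : LocCoh.IsGorensteinRing B :=
    { isGorensteinLocalRing_localization := fun p _ =>
        Groth.Agent.QFD.gorenstein_of_isCIOver ((Groth.Agent.S9145.result k B).1.1 hL ⟨p, inferInstance⟩) }
  have hfib : ∀ (p : Ideal k) [p.IsPrime], LocCoh.IsGorensteinRing (p.Fiber B) := fun p _ => gor_fiber k B hB p
  haveI : Module.Invertible B (Disc.Omega k B) := (Groth.Agent.QFD.gorenstein_fibres_iff (A := k) (B := B)).1 hfib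
  haveI : Finite (MaximalSpectrum B) := inferInstance
  haveI : Module.Free B (Disc.Omega k B) := inferInstance
  exact ⟨((Module.Invertible.free_iff_linearEquiv (R := B) (M := Disc.Omega k B)).1 inferInstance).some⟩

end Groth.Agent.S8935
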