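import Groth.Statements.S8939
import Groth.Agent.H1DerLC.Basic
import Groth.Agent.S11623
set_option backward.isDefEq.respectTransparency false
set_option backward.isDefEq.respectTransparency.types false

set_option autoImplicit false
universe u
open LocCoh

namespace Groth.Agent.S8939

/-- Given a derivation θ of a Noetherian ring A and an ideal I, each local cohomology module H^i_I(A)
carries an additive operator D with D(a • ξ) = θ(a) • ξ + a • D(ξ) (existence only; the published
statement is for any ring and a finitely generated ideal with the local cohomology of the extended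
alternating Čech complex, which for Noetherian A is the local cohomology used here). -/
theorem result (A : Type u) [CommRing A] [IsNoetherianRing A] (I : Ideal A) (θ : Derivation ℤ A A) (i : ℕ) : ∃ D : LocCoh.H I i A →+ LocCoh.H I i A, ∀ (a : A) (ξ : LocCoh.H I i A), D (a • ξ) = θ a • ξ + a • D ξ := by
  classical
  obtain ⟨s, hs⟩ := IsNoetherian.noetherian I
  have hI : Ideal.span {x : A | x ∈ (0 : A) :: s.toList} = I := by
    rw [show {x : A | x ∈ (0 : A) :: s.toList} = insert (0 : A) (s : Set A) by ext; simp]
    rw [Ideal.span_insert_zero]
    exact hs
  obtain ⟨e⟩ := Groth.Agent.S11623.result A ((0 : A) :: s.toList) (by simp) A i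
  rw [hI] at e
  obtain ⟨D, hD⟩ := H1DerLC.exists_extCechH θ ((0 : A) :: s.toList) (i : ℤ)
  obtain ⟨D', hD'⟩ := H1DerLC.exists_of_linearEquiv θ e.toLinearEquiv hD
  exact ⟨D', hD'⟩

end Groth.Agent.S8939
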