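import Groth.Statements.S8941
import Groth.Agent.ShriekTri7.Basic

set_option autoImplicit false
universe u
open CategoryTheory CategoryTheory.Pretriangulated
attribute [local instance] HasDerivedCategory.standard
open Dual

namespace Groth.Agent.S8941

/-- Let A be a Noetherian local ring with normalized dualizing complex ω, f a nonzerodivisor in the
maximal ideal and B = A/(f); with R right adjoint to restriction of scalars D(B) → D(A) (so that
R(ω) is RHom_A(B, ω), a normalized dualizing complex for B), there is a distinguished triangle in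
D(A) with vertices R(ω) viewed over A, ω, ω, whose middle morphism ω → ω is multiplication by f. -/
theorem result (A : Type u) [CommRing A] [IsLocalRing A] [IsNoetherianRing A] (ω : Dual.D A) (hω : Dual.IsDualizing A ω) (hn : Dual.IsNormalized A ω) (f : A) (hf : f ∈ IsLocalRing.maximalIdeal A) (hf' : f ∈ nonZeroDivisors A) (R : Dual.D A ⥤ Dual.D (A ⧸ Ideal.span {f})) (adj : DRing.restrictD (Ideal.Quotient.mk (Ideal.span {f})) ⊣ R) : ∃ (u : (DRing.restrictD (Ideal.Quotient.mk (Ideal.span {f}))).obj (R.obj ω) ⟶ ω) (w : ω ⟶ ((DRing.restrictD (Ideal.Quotient.mk (Ideal.span {f}))).obj (R.obj ω))⟦(1 : ℤ)⟧), Triangle.mk u (f • 𝟙 ω) w ∈ distinguishedTriangles := by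
  haveI := Groth.Agent.KFlatLib.hasLTen A
  haveI := Groth.Agent.KFlatLib.hasRHom (A := A)
  haveI := Groth.Agent.KFlatLib.hasLTen₃ A
  haveI := Groth.Agent.KFlatLib.isSymMonoidal A
  let l : A →ₗ[A] A := f • LinearMap.id
  let S : ShortComplex (ModuleCat.{u} A) := ShortComplex.mk
    (f • 𝟙 (ModuleCat.of A A) : ModuleCat.of A A ⟶ ModuleCat.of A A)
    (ModuleCat.ofHom (Submodule.mkQ (Ideal.span {f})) : ModuleCat.of A A ⟶ ModuleCat.of A (A ⧸ Ideal.span {f}))
    (ModuleCat.hom_ext (LinearMap.ext fun x => (Submodule.Quotient.mk_eq_zero _).2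
      (Ideal.mem_span_singleton.2 (dvd_mul_right f x))))
  have hS : S.ShortExact :=
    { exact := by
        rw [ShortComplex.moduleCat_exact_iff]
        intro x hx
        obtain ⟨y, hy⟩ := Ideal.mem_span_singleton.1 ((Submodule.Quotient.mk_eq_zero _).1 hx)
        exact ⟨y, hy.symm⟩
      mono_f := (ModuleCat.mono_iff_injective _).2 fun x y h =>
        (mem_nonZeroDivisors_iff_left.1 hf' (x - y) (by rw [mul_sub]; exact sub_eq_zero.2 h)) |> sub_eq_zero.1
      epi_g := (ModuleCat.epi_iff_surjective _).2 (Submodule.mkQ_surjective _) }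
  obtain ⟨e, v, w, hd⟩ := Groth.Agent.ShriekTri7.exists_triangle (Ideal.span {f}) S hS (Iso.refl _) (Iso.refl _) R adj ω
  have hm : DTen.RHomMap ((DerivedCategory.singleFunctor (ModuleCat.{u} A) 0).map S.f) ω = f • 𝟙 _ := by
    rw [show (DerivedCategory.singleFunctor (ModuleCat.{u} A) 0).map S.f = f • 𝟙 _ by
      show (DerivedCategory.singleFunctor (ModuleCat.{u} A) 0).map (f • 𝟙 _) = _
      rw [Functor.map_smul, CategoryTheory.Functor.map_id]]
    exact Groth.Agent.ShriekTri7.RHomMap_smul_id f _ _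
  rw [hm] at hd
  refine ⟨v, e.inv ≫ w, isomorphic_distinguished _ hd _
    (Triangle.isoMk _ _ (Iso.refl _) (Iso.refl _) e.symm ?_ ?_ ?_)⟩
  · exact (Category.comp_id _).trans (Category.id_comp _).symm
  · show (f • 𝟙 ω) ≫ e.inv = 𝟙 ω ≫ e.inv ≫ (f • 𝟙 _)
    erw [Category.id_comp, Linear.smul_comp, Category.id_comp, Linear.comp_smul, Category.comp_id]
  · show (e.inv ≫ w) ≫ (𝟙 _)⟦(1 : ℤ)⟧' = e.inv ≫ w
    rw [CategoryTheory.Functor.map_id, Category.comp_id]

end Groth.Agent.S8941
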