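import Groth.Statements.S8942
import Groth.Agent.ShriekSupp7.Unbounded
import Groth.Agent.PerfGen7.RelTor.PerfectMor

set_option autoImplicit false
universe u
open CategoryTheory CategoryTheory.Limits AlgebraicGeometry
attribute [local instance] HasDerivedCategory.standard
open Dual3

namespace Groth.Agent.S8942

/-- Suppose X and Y are Noetherian schemes and f : X → Y is a morphism that is both proper and perfect,
and a a right adjoint of Rf_* on D_QCoh (Rf_* assumed to exist and to preserve quasi-coherent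
cohomology). If Q in D_QCoh(O_Y) is supported on a closed subset T (all cohomology sheaves vanish on
the open complement V), then a(Q) is supported on f⁻¹(T). -/
theorem result (X Y : Scheme.{u}) [IsNoetherian X] [IsNoetherian Y] (f : X ⟶ Y) [IsProper f] (hperf : MoreMor.IsPerfectMor f) [DCoh.HasRpush f] (hf : DCoh.RpushPreservesQCoh f) (a : DCoh.DQCoh Y ⥤ DCoh.DQCoh X) (adj : DCoh.RpushQ f hf ⊣ a) (V : Y.Opens) (Q : DCoh.DQCoh Y) (hQV : ∀ i : ℤ, IsZero ((DCoh.HD Q.obj i).restrict V.ι)) (i : ℤ) : IsZero ((DCoh.HD (a.obj Q).obj i).restrict (f ⁻¹ᵁ V).ι) := by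
  refine (ShriekSupp7.isZero_restrict_iff_supp (a.obj Q).obj (f ⁻¹ᵁ V)).2
    (ShriekSupp7.supp_rightAdjoint' f hf adj (fun W hW _ P hP => ?_) V Q
      ((ShriekSupp7.isZero_restrict_iff_supp Q.obj V).1 hQV)) i
  haveI : IsProper (f ∣_ W) := IsZariskiLocalAtTarget.restrict (P := @IsProper) inferInstance W
  haveI : IsLocallyNoetherian W.toScheme := isLocallyNoetherian_of_isOpenImmersion W.ι
  refine PerfGen7.RelTor.isPerfect_rpush_of_perfectMor (f ∣_ W) (fun U V' hU hV' hUV => ?_) hP
  have h := hperf ((f ⁻¹ᵁ W).ι ''ᵁ U) (W.ι ''ᵁ V') (hU.image_of_isOpenImmersion _)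
    (hV'.image_of_isOpenImmersion _)
    ((Set.image_mono hUV).trans (image_morphismRestrict_preimage f W V').le)
  rw [morphismRestrict_appLE]
  exact h

end Groth.Agent.S8942
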