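import Groth.Statements.S8953
import Groth.Statements.S8953
import Groth.Agent.S1799
import Groth.Agent.S1784
import Groth.Agent.S8943
import Groth.Agent.H1DiscOm.Basic
import Groth.Agent.KFlatLib.Ring.DualizingFibre
import Groth.Agent.H9Misc.DRingLBase

set_option backward.isDefEq.respectTransparency false
set_option linter.style.haveILetI false
open CategoryTheory AlgebraicGeometry
open scoped TensorProduct
attribute [local instance] HasDerivedCategory.standard

set_option autoImplicit false
universe u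
open CategoryTheory AlgebraicGeometry
open scoped TensorProduct
attribute [local instance] HasDerivedCategory.standard
open Disc

namespace Groth.Agent.S8953

/-- Let A → B be a quasi-finite map of Noetherian rings, written as a composite A → B′ → B in which the
first map A → B′ is finite and the induced morphism Spec(B) → Spec(B′) is an open immersion, so that
ω_{B/A} = Hom_A(B′, A) ⊗_{B′} B; and let ω^•_{B/A} = φ^!(A[0]) be the algebraic relative dualizing
complex computed through a presentation ψ : A[x_1, …, x_n] → B (derived base change assumed to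
exist, RHom_P(B, −) given as a right adjoint of restriction of scalars). Then there is a
(non-unique) B-linear isomorphism H^0(ω^•_{B/A}) ≅ ω_{B/A}. -/
theorem result (A B B' : Type u) [CommRing A] [CommRing B] [CommRing B'] [IsNoetherianRing A] [IsNoetherianRing B] [Algebra A B] [Algebra A B'] [Algebra B' B] [IsScalarTower A B' B] [Module.Finite A B'] (hopen : IsOpenImmersion (Spec.map (CommRingCat.ofHom (algebraMap B' B)))) (n : ℕ) (ψ : MvPolynomial (Fin n) A →ₐ[A] B) (hψ : Function.Surjective ψ) [DRing.HasLBaseChange (algebraMap A (MvPolynomial (Fin n) A))] (Rψ : Dual.D (MvPolynomial (Fin n) A) ⥤ Dual.D B) (adj : DRing.restrictD ψ.toRingHom ⊣ Rψ) : Nonempty (Dual.HD B (Dual2.shriekVia n Rψ (Dual.inD A A)) 0 ≃ₗ[B] (B ⊗[B'] Disc.Omega A B')) := by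
  haveI : IsNoetherianRing B' := isNoetherian_of_tower A (isNoetherian_of_isNoetherianRing_of_finite A B')
  haveI := hopen
  haveI : Module.Flat B' B :=
    RingHom.flat_algebraMap_iff.1 ((HasRingHomProperty.Spec_iff (P := @Flat) (φ := CommRingCat.ofHom (algebraMap B' B))).1 inferInstance)
  haveI : Algebra.FiniteType B' B :=
    RingHom.finiteType_algebraMap.1 ((HasRingHomProperty.Spec_iff (P := @LocallyOfFiniteType) (φ := CommRingCat.ofHom (algebraMap B' B))).1 inferInstance)
  obtain ⟨n', ψ', hψ'⟩ := Algebra.FiniteType.iff_quotient_mvPolynomial''.1 (inferInstance : Algebra.FiniteType A B')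
  obtain ⟨m, χ, hχ⟩ := Algebra.FiniteType.iff_quotient_mvPolynomial''.1 (inferInstance : Algebra.FiniteType B' B)
  obtain ⟨Rψ', ⟨adj'⟩⟩ := Groth.Agent.KFlatLib.exists_shriek ψ'.toRingHom
  obtain ⟨Rχ, ⟨adjχ⟩⟩ := Groth.Agent.KFlatLib.exists_shriek χ.toRingHom
  obtain ⟨R', ⟨adjR⟩⟩ := Groth.Agent.KFlatLib.exists_shriek (algebraMap A B')
  haveI := Groth.Agent.H9Misc.DRingLBase.hasLBaseChange (algebraMap A (MvPolynomial (Fin n') A))
  haveI := Groth.Agent.H9Misc.DRingLBase.hasLBaseChange (algebraMap B' (MvPolynomial (Fin m) B'))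
  haveI := Groth.Agent.H9Misc.DRingLBase.hasLBaseChange (algebraMap B' B)
  obtain ⟨e₁⟩ := Groth.Agent.S1799.result A B' B n' ψ' hψ' Rψ' adj' m χ hχ Rχ adjχ n ψ hψ Rψ adj (Dual.inD A A) 0
    fun i hi => ModuleCat.subsingleton_of_isZero (DerivedCategory.isZero_of_isGE _ 0 i hi)
  obtain ⟨e₂⟩ := Groth.Agent.S1784.result A B' n' ψ' hψ' Rψ' adj' R' adjR (Dual.inD A A)
  obtain ⟨e₃⟩ := Groth.Agent.S8943.result B' B hopen m χ hχ Rχ adjχ (Dual2.shriekVia n' Rψ' (Dual.inD A A))
  haveI := Groth.Agent.KFlatLib.hasLBase (algebraMap B' B)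
  obtain ⟨η⟩ := Groth.Agent.KFlatLib.nonempty_LBaseChange_iso (algebraMap B' B)
  obtain ⟨c⟩ := Groth.Agent.KFlatLib.exists_hdLBaseLEquiv (B := B) (R'.obj (Dual.inD A A)) 0
  obtain ⟨w⟩ := Groth.Agent.H1DiscOm.nonempty_hd_zero_linearEquiv_omega R' adjR
  exact ⟨(((DerivedCategory.homologyFunctor (ModuleCat.{u} B) 0).mapIso
      (e₁ ≪≫ e₃ ≪≫ (DRing.LBaseChange (algebraMap B' B)).mapIso e₂ ≪≫ η.app _)).toLinearEquiv.trans c).trans
        (TensorProduct.AlgebraTensorModule.congr (LinearEquiv.refl B B) w)⟩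

end Groth.Agent.S8953
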