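import Groth.Statements.S8944
import Groth.Statements.S8944
import Groth.Agent.S8953
import Groth.Agent.S1790
import Groth.Agent.H9Misc.DRingRestrict
import Mathlib.AlgebraicGeometry.Morphisms.QuasiFinite

set_option backward.isDefEq.respectTransparency false
set_option linter.style.haveILetI false
open CategoryTheory CategoryTheory.Limits AlgebraicGeometry
open scoped TensorProduct
attribute [local instance] HasDerivedCategory.standard

set_option autoImplicit false
universe u
open AlgebraicGeometry
open scoped TensorProduct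
open Disc

namespace Groth.Agent.S8944

/-- Let A → B be a flat homomorphism of Noetherian rings, and suppose it factors through a ring B′ as A
→ B′ → B, where B′ is finite over A and the induced map of spectra Spec(B) → Spec(B′) is an open
immersion, so that the relative dualizing module is ω_{B/A} = Hom_A(B′, A) ⊗_{B′} B (B′ acting on
Hom_A(B′, A) through the argument). Then ω_{B/A} is a flat A-module. -/
theorem result (A B B' : Type u) [CommRing A] [CommRing B] [CommRing B'] [IsNoetherianRing A] [IsNoetherianRing B] [Algebra A B] [Module.Flat A B] [Algebra A B'] [Algebra B' B] [IsScalarTower A B' B] [Module.Finite A B'] (hopen : IsOpenImmersion (Spec.map (CommRingCat.ofHom (algebraMap B' B)))) : Module.Flat A (B ⊗[B'] Disc.Omega A B') := by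
  haveI := hopen
  haveI : Algebra.FiniteType B' B :=
    RingHom.finiteType_algebraMap.1 ((HasRingHomProperty.Spec_iff (P := @LocallyOfFiniteType)
      (φ := CommRingCat.ofHom (algebraMap B' B))).1 inferInstance)
  haveI : Algebra.FiniteType A B := Algebra.FiniteType.trans (S := B') inferInstance inferInstance
  haveI : LocallyQuasiFinite (Spec.map (CommRingCat.ofHom (algebraMap A B))) := by
    rw [IsScalarTower.algebraMap_eq A B' B, CommRingCat.ofHom_comp, Spec.map_comp]
    haveI : IsFinite (Spec.map (CommRingCat.ofHom (algebraMap A B'))) :=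
      (IsFinite.SpecMap_iff _).2 (RingHom.finite_algebraMap.2 inferInstance)
    infer_instance
  obtain ⟨n, ψ, hψ⟩ := Algebra.FiniteType.iff_quotient_mvPolynomial''.1 (inferInstance : Algebra.FiniteType A B)
  obtain ⟨Rψ, ⟨adj⟩⟩ := Groth.Agent.KFlatLib.exists_shriek ψ.toRingHom
  haveI := Groth.Agent.H9Misc.DRingLBase.hasLBaseChange (algebraMap A (MvPolynomial (Fin n) A))
  have hdim : ∀ q : PrimeSpectrum B,
      FlatMor.fibreDimAt (Spec.map (CommRingCat.ofHom (algebraMap A B))) q ≤ ((0 : ℕ) : WithBot ℕ∞) := fun q => by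
    refine (iInf_le _ ⟨⊤, trivial⟩).trans ((topologicalKrullDim_subspace_le _ _).trans ?_)
    exact_mod_cast topologicalKrullDim_zero_of_discreteTopology _
  obtain ⟨E, hz, hflat, ⟨e⟩⟩ := (Groth.Agent.S1790.result A B n ψ hψ Rψ adj 0).2 hdim
  haveI : CochainComplex.IsStrictlyGE E 0 :=
    (CochainComplex.isStrictlyGE_iff _ _).2 fun i hi => hz i (Or.inl (by simpa using hi))
  haveI : CochainComplex.IsStrictlyLE E 0 := (CochainComplex.isStrictlyLE_iff _ _).2 fun i hi => hz i (Or.inr hi)
  obtain ⟨F, ⟨eF⟩⟩ := CochainComplex.exists_iso_single E 0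
  haveI : Module.Flat A (E.X 0) := hflat 0
  haveI : Module.Flat A F :=
    Module.Flat.of_linearEquiv ((HomologicalComplex.Hom.isoApp eF 0) ≪≫
      HomologicalComplex.singleObjXSelf (ComplexShape.up ℤ) 0 F).toLinearEquiv.symm
  obtain ⟨w⟩ := Groth.Agent.S8953.result A B B' hopen n ψ hψ Rψ adj
  let X := Dual2.shriekVia n Rψ (Dual.inD A A)
  let H := DerivedCategory.homologyFunctor (ModuleCat.{u} A) 0
  let i₁ : H.obj ((DRing.restrictD (algebraMap A B)).obj X) ≅ F :=
    H.mapIso (e.symm ≪≫ DerivedCategory.Q.mapIso eF ≪≫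
      ((DerivedCategory.singleFunctorIsoCompQ (ModuleCat.{u} A) 0).app F).symm) ≪≫
      (DerivedCategory.singleFunctorCompHomologyFunctorIso (ModuleCat.{u} A) 0).app F
  let i₂ := (Groth.Agent.H9Misc.DRingRestrict.HDRestrictIso (algebraMap A B) X 0).toLinearEquiv
  let L : ((ModuleCat.restrictScalars (algebraMap A B)).obj
      ((DerivedCategory.homologyFunctor (ModuleCat.{u} B) 0).obj X) : Type u) ≃ₗ[A] B ⊗[B'] Disc.Omega A B' :=
    { w.toAddEquiv with
      map_smul' := fun a x => by
        show w (algebraMap A B a • _) = a • w _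
        rw [map_smul, algebraMap_smul] }
  exact Module.Flat.of_linearEquiv (L.symm.trans (i₂.symm.trans i₁.toLinearEquiv))

end Groth.Agent.S8944
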