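import Groth.Statements.S8945
import Groth.Agent.ShriekTri7.Basic

set_option autoImplicit false
universe u
open CategoryTheory CategoryTheory.Pretriangulated
attribute [local instance] HasDerivedCategory.standard
open Dual

namespace Groth.Agent.S8945

/-- Suppose A is a Noetherian local ring with maximal ideal m and residue field κ, and that ω is a
normalized dualizing complex on A; take an ideal I ⊆ m of finite length, set B = A/I, and let E be
an injective hull of κ; with R right adjoint to restriction of scalars D(B) → D(A) (so that R(ω) =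
RHom_A(B, ω) is a normalized dualizing complex for B), there is a distinguished triangle in D(A)
with vertices R(ω) viewed over A, ω, and the module Hom_A(I, E) placed in degree 0. -/
theorem result (A : Type u) [CommRing A] [IsLocalRing A] [IsNoetherianRing A] (ω : Dual.D A) (hω : Dual.IsDualizing A ω) (hn : Dual.IsNormalized A ω) (I : Ideal A) (hI : I ≤ IsLocalRing.maximalIdeal A) (hIl : IsFiniteLength A I) (E : Type u) [AddCommGroup E] [Module A E] (e : IsLocalRing.ResidueField A →ₗ[A] E) (he : InjHull.IsInjectiveHull e) (R : Dual.D A ⥤ Dual.D (A ⧸ I)) (adj : DRing.restrictD (Ideal.Quotient.mk I) ⊣ R) : ∃ (u : (DRing.restrictD (Ideal.Quotient.mk I)).obj (R.obj ω) ⟶ ω) (v : ω ⟶ Dual.inD A (I →ₗ[A] E)) (w : Dual.inD A (I →ₗ[A] E) ⟶ ((DRing.restrictD (Ideal.Quotient.mk I)).obj (R.obj ω))⟦(1 : ℤ)⟧), Triangle.mk u v w ∈ distinguishedTriangles := by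
  haveI := Groth.Agent.KFlatLib.hasLTen A
  haveI := Groth.Agent.KFlatLib.hasRHom (A := A)
  haveI := Groth.Agent.KFlatLib.hasLTen₃ A
  haveI := Groth.Agent.KFlatLib.isSymMonoidal A
  let S : ShortComplex (ModuleCat.{u} A) := ShortComplex.mk
    (ModuleCat.ofHom (Submodule.subtype I) : ModuleCat.of A I ⟶ ModuleCat.of A A)
    (ModuleCat.ofHom (Submodule.mkQ I) : ModuleCat.of A A ⟶ ModuleCat.of A (A ⧸ I))
    (ModuleCat.hom_ext (LinearMap.ext fun x => (Submodule.Quotient.mk_eq_zero I).2 x.2))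
  have hS : S.ShortExact :=
    { exact := by
        rw [ShortComplex.moduleCat_exact_iff]
        intro x hx
        exact ⟨⟨x, (Submodule.Quotient.mk_eq_zero I).1 hx⟩, rfl⟩
      mono_f := (ModuleCat.mono_iff_injective _).2 Subtype.val_injective
      epi_g := (ModuleCat.epi_iff_surjective _).2 (Submodule.mkQ_surjective _) }
  obtain ⟨e₀, v, w, hd⟩ := Groth.Agent.ShriekTri7.exists_triangle I S hS (Iso.refl _) (Iso.refl _) R adj ω
  obtain ⟨μ⟩ := Groth.Agent.ShriekTri7.nonempty_RHomR_iso_matlis hω hn I hIl E e he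
  refine ⟨v, e₀.inv ≫ DTen.RHomMap ((DerivedCategory.singleFunctor (ModuleCat.{u} A) 0).map S.f) ω ≫ μ.hom,
    μ.inv ≫ w, isomorphic_distinguished _ hd _
    (Triangle.isoMk _ _ (Iso.refl _) (Iso.refl _) μ.symm ?_ ?_ ?_)⟩
  · exact (Category.comp_id _).trans (Category.id_comp _).symm
  · show (e₀.inv ≫ DTen.RHomMap _ ω ≫ μ.hom) ≫ μ.inv = 𝟙 ω ≫ e₀.inv ≫ DTen.RHomMap _ ω
    erw [Category.id_comp, Category.assoc, Category.assoc, μ.hom_inv_id, Category.comp_id]
  · show (μ.inv ≫ w) ≫ (𝟙 _)⟦(1 : ℤ)⟧' = μ.inv ≫ w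
    rw [CategoryTheory.Functor.map_id, Category.comp_id]

end Groth.Agent.S8945
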