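import Groth.Statements.S8946
import Groth.Agent.H1ExtLC.Main

set_option autoImplicit false
universe u
open CategoryTheory
open LocCoh

namespace Groth.Agent.S8946

/-- Let A be a Noetherian ring of finite dimension, T ⊆ Spec A a specialization-stable subset, (M_n) an
inverse system of A-modules and i ≥ 0. Suppose m′(m) ≥ m is such that for every p ∈ T: the maps
H^{i-1}_{pA_p}(M_{k,p}) → H^{i-1}_{pA_p}(M_{m,p}) vanish for k ≥ m′(m) (no condition when i = 0),
and the maps H^i_{pA_p}(M_{k,p}) → H^i_{pA_p}(M_{m,p}) have the same image for all k ≥ m′(m), this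
image mapping injectively into H^i_{pA_p}(M_{0,p}). Then there is m₀ such that for every m ≥ m₀
there is m″ ≥ m such that for k ≥ m″ the image of H^i_T(M_k) → H^i_T(M_m) maps injectively into
H^i_T(M_{m₀}). -/
theorem result (A : Type u) [CommRing A] [IsNoetherianRing A] (hA : ringKrullDim A < ⊤) (T : Set (PrimeSpectrum A)) (hT : StableUnderSpecialization T) (M : ℕ → Type u) [∀ n, AddCommGroup (M n)] [∀ n, Module A (M n)] (φ : ∀ k m : ℕ, m ≤ k → (M k →ₗ[A] M m)) (hφ : ∀ (k l m : ℕ) (h₁ : m ≤ l) (h₂ : l ≤ k), φ k m (h₁.trans h₂) = φ l m h₁ ∘ₗ φ k l h₂) (i : ℕ) (m' : ℕ → ℕ) (hm' : ∀ m, m ≤ m' m) (h1 : 0 < i → ∀ (p : PrimeSpectrum A), p ∈ T → ∀ (m k : ℕ) (h : m ≤ k), m' m ≤ k → (localCohomology (IsLocalRing.maximalIdeal (Localization.AtPrime p.asIdeal)) (i - 1)).map (ModuleCat.ofHom (LocalizedModule.map p.asIdeal.primeCompl (φ k m h))) = 0) (h2 : ∀ (p : PrimeSpectrum A), p ∈ T → ∀ (m k : ℕ) (h : m ≤ k), m' m ≤ k → LinearMap.range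 ((localCohomology (IsLocalRing.maximalIdeal (Localization.AtPrime p.asIdeal)) i).map (ModuleCat.ofHom (LocalizedModule.map p.asIdeal.primeCompl (φ k m h)))).hom = LinearMap.range ((localCohomology (IsLocalRing.maximalIdeal (Localization.AtPrime p.asIdeal)) i).map (ModuleCat.ofHom (LocalizedModule.map p.asIdeal.primeCompl (φ (m' m) m (hm' m))))).hom) (h3 : ∀ (p : PrimeSpectrum A), p ∈ T → ∀ (m : ℕ) (x : ↑((localCohomology (IsLocalRing.maximalIdeal (Localization.AtPrime p.asIdeal)) i).obj (ModuleCat.of (Localization.AtPrime p.asIdeal) (LocalizedModule p.asIdeal.primeCompl (M m))))), x ∈ LinearMap.range ((localCohomology (IsLocalRing.maximalIdeal (Localization.AtPrime p.asIdeal)) i).map (ModuleCat.ofHom (LocalizedModule.map p.asIdeal.primeCompl (φ (m' m) m (hm' m))))).hom → ((localCohomology (IsLocalRing.maximalIdeal (Localization.AtPrime p.asIdeal)) i).map (ModuleCat.ofHom (LocalizedModule.map p.asIdeal.primeCompl (φ m 0 (Nat.zero_le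 m))))).hom x = 0 → x = 0) : ∃ m₀ : ℕ, ∀ m : ℕ, ∀ (hm : m₀ ≤ m), ∃ m'' : ℕ, m ≤ m'' ∧ ∀ (k : ℕ) (h : m ≤ k), m'' ≤ k → ∀ x : ↑((localCohomology.ofDiagram (Dual2.idealsInDiagram T) i).obj (ModuleCat.of A (M m))), x ∈ LinearMap.range ((localCohomology.ofDiagram (Dual2.idealsInDiagram T) i).map (ModuleCat.ofHom (φ k m h))).hom → ((localCohomology.ofDiagram (Dual2.idealsInDiagram T) i).map (ModuleCat.ofHom (φ m m₀ hm))).hom x = 0 → x = 0 := by
  classical
  obtain ⟨e, he⟩ : ∃ e : ℕ, Order.krullDim ↥T ≤ (e : WithBot ℕ∞) := by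
    have h0 : Order.krullDim ↥T ≤ ringKrullDim A :=
      Order.krullDim_le_of_strictMono Subtype.val (fun _ _ h => h)
    rcases hd : ringKrullDim A with _ | _ | e
    · exact ⟨0, h0.trans (hd.le.trans bot_le)⟩
    · exact absurd hA (by rw [hd]; exact lt_irrefl _)
    · exact ⟨e, h0.trans hd.le⟩
  obtain ⟨c, hc, hce⟩ := Groth.Agent.H1ExtLC.exists_dimFun he
  refine ⟨m'^[e + 1] 0, fun m hm => ⟨m'^[e + 1] m, Function.id_le_iterate_of_id_le hm' (e + 1) m,
    fun k h hk x hx hx0 => ?_⟩⟩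
  obtain ⟨z, rfl⟩ := hx
  obtain ⟨J, hJ, ξ, rfl⟩ := Groth.Agent.H1ExtLC.exists_toT _ i z
  refine (Groth.Agent.H1ExtLC.toT_natural _ i hJ ξ).trans ?_
  refine Groth.Agent.H1ExtLC.eq_zero_of_locInj (T := T) (fun n => ModuleCat.of A (M n))
    (fun k m h => ModuleCat.ofHom (φ k m h)) (fun a b d h₁ h₂ => congrArg ModuleCat.ofHom (hφ a b d h₁ h₂))
    m' hm' hc i h1 ?_ (e + 1) (fun p => Nat.lt_succ_of_le (hce p)) (e + 1) J hJ
    (fun p _ => Nat.lt_succ_of_le (hce p)) m k h hm hk ξ ?_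
  · intro p hp a b hab hb y hy
    exact h3 p hp a _ (h2 p hp a b hab hb ▸ LinearMap.mem_range_self _ y) hy
  · refine Eq.trans ?_ hx0
    rw [← Groth.Agent.H1ExtLC.toT_natural, hφ k m _ hm h, ModuleCat.ofHom_comp, Functor.map_comp]
    rfl

end Groth.Agent.S8946
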