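import Groth.Statements.S8947
import Groth.Agent.PerfGen7.ShriekSerre
import Groth.Agent.Alg6.LocLoc

set_option autoImplicit false
universe u
open CategoryTheory AlgebraicGeometry
attribute [local instance] HasDerivedCategory.standard
open Dual2

namespace Groth.Agent.S8947

/-- Let R → A be a finite type map of Noetherian rings with relative dualizing complex ω_{A/R} =
φ^!(R[0]) (computed through a presentation ψ : R[x_1, …, x_n] → A as RHom_P(A, R ⊗^L_R P)[n], the
derived base change being assumed to exist and RHom_P(A, −) being a right adjoint of restriction of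
scalars). Let p be a prime of R such that R_p is Cohen–Macaulay, and r a natural number bounding the
transcendence degree of κ(q) over κ(R ∩ q) for every minimal prime q of A. Then, S denoting the
image of R ∖ p in A, the localization S⁻¹H^i(ω_{A/R}) is nonzero only if −r ≤ i, and
S⁻¹H^{−r}(ω_{A/R}) satisfies Serre's condition (S_2) as an S⁻¹A-module. -/
theorem result (R A : Type u) [CommRing R] [CommRing A] [IsNoetherianRing R] [IsNoetherianRing A] [Algebra R A] (n : ℕ) (ψ : MvPolynomial (Fin n) R →ₐ[R] A) (hψ : Function.Surjective ψ) [DRing.HasLBaseChange (algebraMap R (MvPolynomial (Fin n) R))] (Rψ : Dual.D (MvPolynomial (Fin n) R) ⥤ Dual.D A) (adj : DRing.restrictD ψ.toRingHom ⊣ Rψ) (p : Ideal R) [p.IsPrime] [LocCoh.IsCohenMacaulayLocalRing (Localization.AtPrime p)] (r : ℕ) (hr : ∀ q : PrimeSpectrum A, q.asIdeal ∈ minimalPrimes A → Dual3.resTrdeg (Spec.map (CommRingCat.ofHom (algebraMap R A))) q ≤ (r : Cardinal.{u})) : (∀ i : ℤ, Nontrivial (LocalizedModule (Algebra.algebraMapSubmonoid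 A p.primeCompl) (Dual.HD A (Dual2.shriekVia n Rψ (Dual.inD R R)) i)) → -(r : ℤ) ≤ i) ∧ LocCoh.HasSk 2 (Localization (Algebra.algebraMapSubmonoid A p.primeCompl)) (LocalizedModule (Algebra.algebraMapSubmonoid A p.primeCompl) (Dual.HD A (Dual2.shriekVia n Rψ (Dual.inD R R)) (-(r : ℤ)))) := by
  refine ⟨fun i h => ?_, ?_⟩
  · by_contra hi
    replace hi : i < -(r : ℤ) := not_le.1 hi
    refine not_subsingleton_iff_nontrivial.2 h (LocalizedModule.subsingleton_iff.2 fun x => ?_)
    rcases lt_or_ge ((n : ℤ) + i) 0 with hneg | hpos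
    · haveI := Groth.Agent.PerfGen7.ShriekExt.subsingleton_shriekVia_neg ψ adj i hneg
      exact ⟨1, Submonoid.one_mem _, Subsingleton.elim _ _⟩
    obtain ⟨j, hj⟩ := Int.eq_ofNat_of_zero_le hpos
    obtain ⟨e, he⟩ := Groth.Agent.PerfGen7.ShriekExt.exists_shriekVia_ext ψ hψ adj i j hj
    let J : Ideal A := LinearMap.ker (LinearMap.toSpanSingleton A _ x)
    by_contra hx
    have hdis : Disjoint (J : Set A) (Algebra.algebraMapSubmonoid A p.primeCompl : Set A) :=
      Set.disjoint_left.2 fun s hs hs' => hx ⟨s, hs', (LinearMap.toSpanSingleton_apply A _ x s).symm.trans (LinearMap.mem_ker.1 hs)⟩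
    obtain ⟨q, hq, hJq, hqS⟩ := Ideal.exists_le_prime_disjoint J (Algebra.algebraMapSubmonoid A p.primeCompl) hdis
    have hqp : q.comap (algebraMap R A) ≤ p := fun a ha => by
      by_contra hap
      exact Set.disjoint_left.1 hqS ha ⟨a, hap, rfl⟩
    have hd := Groth.Agent.PerfGen7.ShriekSerre.sub_le_idealDepth ψ hψ p r hr ⟨q, hq⟩ hqp
    haveI : IsNoetherianRing (Localization (q.comap ψ.toRingHom).primeCompl) :=
      IsLocalization.isNoetherianRing (q.comap ψ.toRingHom).primeCompl _ inferInstance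
    rw [Groth.Agent.LC.idealDepth_congr _ (Groth.Agent.LC.selfLoc _)] at hd
    haveI := (Groth.Agent.LC.le_idealDepth_iff_ext _ _ (n - r)).1 hd j (by omega)
    obtain ⟨l⟩ := Groth.Agent.PerfGen7.ShriekSerre.exists_extLoc_ker ψ ⟨q, hq⟩ j
    have hsub := l.toEquiv.subsingleton
    obtain ⟨s, hs, hsx⟩ := LocalizedModule.subsingleton_iff.1 hsub (e x)
    refine hs (Ideal.mem_comap.2 (hJq ?_))
    show LinearMap.toSpanSingleton A _ x (ψ.toRingHom s) = 0
    exact e.injective ((he s x).trans (hsx.trans (map_zero e).symm))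
  · rw [Groth.Agent.Alg6.hasSk_localization_iff]
    intro q _ hq
    rcases lt_or_ge n r with hnr | hrn
    · haveI := Groth.Agent.PerfGen7.ShriekExt.subsingleton_shriekVia_neg ψ adj (-(r : ℤ)) (by omega)
      haveI : Subsingleton (LocalizedModule q.primeCompl (Dual.HD A (Dual2.shriekVia n Rψ (Dual.inD R R)) (-(r : ℤ)))) :=
        LocalizedModule.subsingleton_iff.2 fun m => ⟨1, Submonoid.one_mem _, Subsingleton.elim _ _⟩
      rw [Module.supportDim_eq_bot_of_subsingleton]
      simp
    obtain ⟨e, he⟩ := Groth.Agent.PerfGen7.ShriekExt.exists_shriekVia_ext ψ hψ adj (-(r : ℤ)) (n - r) (by omega)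
    obtain ⟨h1, h2⟩ := Groth.Agent.PerfGen7.ShriekSerre.semilinear_loc ψ hψ _ _ e he q
    rw [h1, h2]
    have hqp : q.comap (algebraMap R A) ≤ p := fun a ha => by
      by_contra hap
      exact Set.disjoint_left.1 hq ⟨a, hap, rfl⟩ ha
    obtain ⟨l⟩ := Groth.Agent.PerfGen7.ShriekSerre.exists_extLoc_ker ψ ⟨q, inferInstance⟩ (n - r)
    haveI : IsNoetherianRing (Localization (q.comap ψ.toRingHom).primeCompl) :=
      IsLocalization.isNoetherianRing (q.comap ψ.toRingHom).primeCompl _ inferInstance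
    have hd := Groth.Agent.PerfGen7.ShriekSerre.sub_le_idealDepth ψ hψ p r hr ⟨q, inferInstance⟩ hqp
    rw [Groth.Agent.LC.idealDepth_congr _ (Groth.Agent.LC.selfLoc _)] at hd
    have hCM := Groth.Agent.PerfGen7.ShriekSerre.isCM_poly p (q.comap ψ.toRingHom) (fun a ha => hqp (by
      simpa [Ideal.mem_comap] using ha))
    rw [Module.supportDim_eq_of_equiv l, Groth.Agent.FlatLoc6.depth_congr' l]
    exact Groth.Agent.PerfGen7.ExtS2.skTwo_ext hCM _ _ hd

end Groth.Agent.S8947
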