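import Groth.Statements.S8950
import Groth.Agent.VBPnX.CIKoszul
import Groth.Agent.S2843
import Groth.Agent.KRegLib.Regular

set_option autoImplicit false
set_option backward.isDefEq.respectTransparency false
set_option backward.isDefEq.respectTransparency.types false
universe u
open scoped TensorProduct
open CategoryTheory CategoryTheory.Limits AlgebraicGeometry
open CInt

namespace Groth.Agent.S8950

/-- Base change of the local complete intersection property along finitely generated field extensions.
Suppose R is a Noetherian k-algebra, k a field, with every local ring of R a complete intersection,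
and suppose K is finitely generated as a field over k; then the tensor product K ⊗_k R is again a
Noetherian ring, and every localization of it at a prime is a complete intersection. -/
theorem result (k K R : Type u) [Field k] [Field K] [Algebra k K] (hK : ∃ s : Finset K, IntermediateField.adjoin k (s : Set K) = ⊤) [CommRing R] [Algebra k R] [IsNoetherianRing R] (hR : ∀ (p : Ideal R) [p.IsPrime], Pi1.IsCompleteIntersection (Localization.AtPrime p)) : IsNoetherianRing (K ⊗[k] R) ∧ ∀ (P : Ideal (K ⊗[k] R)) [P.IsPrime], Pi1.IsCompleteIntersection (Localization.AtPrime P) := by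
  classical
  obtain ⟨s, hs⟩ := hK
  let A := Algebra.adjoin k (s : Set K)
  haveI : Algebra.FiniteType k A := A.fg_iff_finiteType.1 ⟨s, rfl⟩
  haveI : IsFractionRing A K := by
    refine IsFractionRing.of_field A K fun z => ?_
    have hz : z ∈ IntermediateField.adjoin k (s : Set K) := hs ▸ IntermediateField.mem_top
    obtain ⟨a, ha, b, hb, rfl⟩ := IntermediateField.mem_adjoin_iff_div.1 hz
    exact ⟨⟨a, ha⟩, ⟨b, hb⟩, rfl⟩
  letI : Algebra (A ⊗[k] R) (K ⊗[k] R) :=
    (Algebra.TensorProduct.map (IsScalarTower.toAlgHom k A K) (AlgHom.id k R)).toRingHom.toAlgebra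
  haveI : IsScalarTower A (A ⊗[k] R) (K ⊗[k] R) := IsScalarTower.of_algebraMap_eq fun a => by
    show algebraMap A K a ⊗ₜ[k] (1 : R) = Algebra.TensorProduct.map (IsScalarTower.toAlgHom k A K) (AlgHom.id k R) (a ⊗ₜ[k] (1 : R))
    rw [Algebra.TensorProduct.map_tmul]
    rfl
  haveI hloc : IsLocalization (Algebra.algebraMapSubmonoid (A ⊗[k] R) (nonZeroDivisors A)) (K ⊗[k] R) :=
    IsLocalization.tensorProduct_tensorProduct k R (nonZeroDivisors A) K (RingHom.ext fun r => by
      show Algebra.TensorProduct.map (IsScalarTower.toAlgHom k A K) (AlgHom.id k R) ((1 : A) ⊗ₜ[k] r) = (1 : K) ⊗ₜ[k] r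
      rw [Algebra.TensorProduct.map_tmul, map_one]
      rfl)
  haveI hN : IsNoetherianRing (A ⊗[k] R) := by
    haveI : Algebra.FiniteType R (R ⊗[k] A) := inferInstance
    haveI : IsNoetherianRing (R ⊗[k] A) := Algebra.FiniteType.isNoetherianRing R _
    exact isNoetherianRing_of_ringEquiv _ (Algebra.TensorProduct.comm k R A).toRingEquiv
  refine ⟨IsLocalization.isNoetherianRing (Algebra.algebraMapSubmonoid (A ⊗[k] R) (nonZeroDivisors A)) _ hN,
    fun P hP => ?_⟩
  let P0 : Ideal (A ⊗[k] R) := P.comap (algebraMap (A ⊗[k] R) (K ⊗[k] R))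
  haveI : IsLocalization.AtPrime (Localization.AtPrime P) P0 :=
    IsLocalization.isLocalization_isLocalization_atPrime_isLocalization
      (Algebra.algebraMapSubmonoid (A ⊗[k] R) (nonZeroDivisors A)) (Localization.AtPrime P) P
  have eP := (IsLocalization.algEquiv P0.primeCompl (Localization.AtPrime P0) (Localization.AtPrime P)).toRingEquiv
  haveI : IsNoetherianRing (K ⊗[k] R) :=
    IsLocalization.isNoetherianRing (Algebra.algebraMapSubmonoid (A ⊗[k] R) (nonZeroDivisors A)) _ hN
  haveI : IsNoetherianRing (Localization.AtPrime P) := IsLocalization.isNoetherianRing P.primeCompl _ inferInstance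
  haveI : IsNoetherianRing (Localization.AtPrime P0) := IsLocalization.isNoetherianRing P0.primeCompl _ hN
  refine (Groth.Agent.AvramovLib.isCI_ringEquiv_iff (A := Localization.AtPrime P0) (A' := Localization.AtPrime P) eP).1 ?_
  let gA : Spec (CommRingCat.of A) ⟶ Spec (CommRingCat.of k) := Spec.map (CommRingCat.ofHom (algebraMap k A))
  let gR : Spec (CommRingCat.of R) ⟶ Spec (CommRingCat.of k) := Spec.map (CommRingCat.ofHom (algebraMap k R))
  haveI : LocallyOfFiniteType gA :=
    (HasRingHomProperty.Spec_iff (P := @LocallyOfFiniteType)).2 (RingHom.finiteType_algebraMap.2 inferInstance)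
  haveI : Flat gA := Groth.Agent.S2843.flat_over_field k gA
  haveI : Flat gR := Groth.Agent.S2843.flat_over_field k gR
  let x₀ : Spec (CommRingCat.of (A ⊗[k] R)) := ⟨P0, inferInstance⟩
  let x' : ↥(pullback gA gR) := (pullbackSpecIso k A R).inv x₀
  haveI : IsLocallyNoetherian (Spec (CommRingCat.of (A ⊗[k] R))) := inferInstance
  haveI : IsLocallyNoetherian (pullback gA gR) := isLocallyNoetherian_of_isOpenImmersion (pullbackSpecIso k A R).hom
  haveI : IsDomain A := inferInstance
  have hfst : (pullback.fst gA gR) x' = (⟨⊥, Ideal.isPrime_bot⟩ : PrimeSpectrum A) := by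
    show ((pullbackSpecIso k A R).inv ≫ pullback.fst gA gR) x₀ = _
    rw [pullbackSpecIso_inv_fst]
    refine PrimeSpectrum.ext ((eq_bot_iff).2 fun a ha => ?_)
    by_contra hne
    refine hP.ne_top (Ideal.eq_top_of_isUnit_mem P ha ?_)
    exact IsLocalization.map_units (K ⊗[k] R)
      (⟨_, a, mem_nonZeroDivisors_of_ne_zero hne, rfl⟩ : Algebra.algebraMapSubmonoid (A ⊗[k] R) (nonZeroDivisors A))
  have hξ : Pi1.IsCompleteIntersection ((Spec (CommRingCat.of A)).presheaf.stalk ((pullback.fst gA gR) x')) := by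
    rw [hfst]
    obtain ⟨e⟩ := Groth.Agent.VBPnX.CIKoszul.exists_spec_stalk_equiv (CommRingCat.of A) ⟨⊥, Ideal.isPrime_bot⟩
    haveI : IsNoetherianRing A := Algebra.FiniteType.isNoetherianRing k A
    haveI : IsLocalization.AtPrime K (⊥ : Ideal A) := by
      show IsLocalization (⊥ : Ideal A).primeCompl K
      rw [Ideal.primeCompl_bot]
      infer_instance
    let e' : Localization.AtPrime (⊥ : Ideal A) ≃+* K :=
      (IsLocalization.algEquiv (⊥ : Ideal A).primeCompl (Localization.AtPrime (⊥ : Ideal A)) K).toRingEquiv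
    haveI : IsRegularLocalRing ((Spec (CommRingCat.of A)).presheaf.stalk (⟨⊥, Ideal.isPrime_bot⟩ : PrimeSpectrum A)) :=
      IsRegularLocalRing.of_ringEquiv (R := K) (e.trans e').symm
    exact Groth.Agent.KRegLib.isCompleteIntersection_of_regular _
  have hY : IsPullback gR (𝟙 _) (𝟙 (Spec (CommRingCat.of k))) gR := IsPullback.of_vert_isIso ⟨by simp⟩
  haveI : Flat (gA ≫ 𝟙 _) := by rwa [Category.comp_id]
  haveI : LocallyOfFinitePresentation gA := inferInstance
  haveI : LocallyOfFinitePresentation (gA ≫ 𝟙 _) := by rwa [Category.comp_id]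
  have hK1 : Synt.IsKoszulAt gA ((pullback.fst gA gR) x') :=
    (Groth.Agent.VBPnX.CIKoszul.isCI_fiberStalk_iff_isKoszulAt gA _).1
      ((Groth.Agent.S2843.isCI_fiberStalk_iff_stalk k gA _).2 hξ)
  have hK2 : Synt.IsKoszulAt (pullback.snd gA gR) x' :=
    (Groth.Agent.KRegLib.isKoszulAt_baseChange_iff gA (𝟙 _) hY (IsPullback.of_hasPullback gA gR) x').2 hK1
  have hbase : Pi1.IsCompleteIntersection ((Spec (CommRingCat.of R)).presheaf.stalk ((pullback.snd gA gR).base x')) := by
    obtain ⟨e⟩ := Groth.Agent.VBPnX.CIKoszul.exists_spec_stalk_equiv (CommRingCat.of R) ((pullback.snd gA gR).base x')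
    haveI : IsNoetherianRing (Localization.AtPrime ((pullback.snd gA gR).base x').asIdeal) :=
      IsLocalization.isNoetherianRing ((pullback.snd gA gR).base x').asIdeal.primeCompl _ inferInstance
    haveI := isNoetherianRing_of_ringEquiv _ e.symm
    exact (Groth.Agent.AvramovLib.isCI_ringEquiv_iff e).2 (hR _)
  have hci := Groth.Agent.VBPnX.CIKoszul.ci_stalk (pullback.snd gA gR) x' hbase
    ((Groth.Agent.VBPnX.CIKoszul.isCI_fiberStalk_iff_isKoszulAt _ _).2 hK2)
  obtain ⟨e⟩ := Groth.Agent.VBPnX.CIKoszul.exists_spec_stalk_equiv (CommRingCat.of (A ⊗[k] R)) x₀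
  let e2 : (pullback gA gR).presheaf.stalk x' ≃+* (Spec (CommRingCat.of (A ⊗[k] R))).presheaf.stalk x₀ :=
    (asIso ((pullbackSpecIso k A R).inv.stalkMap x₀)).commRingCatIsoToRingEquiv
  haveI := isNoetherianRing_of_ringEquiv _ e.symm
  exact (Groth.Agent.AvramovLib.isCI_ringEquiv_iff (e2.trans e)).1 hci

end Groth.Agent.S8950
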