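import Groth.Statements.S8951
import Groth.Agent.VBPnX.CIFibres
import Groth.Agent.KRegLib.Regular
import Groth.Agent.FlatLoc6.RegCM

set_option autoImplicit false
universe u
open scoped TensorProduct
open CInt

namespace Groth.Agent.S8951

/-- Complete intersection fibres are preserved by composing with a regular map. For flat maps A → B → C
of Noetherian rings, if all local rings of the fibres of A → B are complete intersections and B → C
is regular, then all local rings of the fibres of A → C are complete intersections. -/
theorem result (A B C : Type u) [CommRing A] [CommRing B] [CommRing C] [IsNoetherianRing A] [IsNoetherianRing B] [IsNoetherianRing C] [Algebra A B] [Algebra B C] [Algebra A C] [IsScalarTower A B C] [Module.Flat A B] [Module.Flat B C] (hAB : ∀ (q : Ideal A) [q.IsPrime] (P : Ideal (q.Fiber B)) [P.IsPrime], Pi1.IsCompleteIntersection (Localization.AtPrime P)) (hBC : CAlg.IsRegularHom B C) : ∀ (q : Ideal A) [q.IsPrime] (P : Ideal (q.Fiber C)) [P.IsPrime], Pi1.IsCompleteIntersection (Localization.AtPrime P) := by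
  intro q _ P _
  refine Groth.Agent.VBPnX.CIFibres.ci_fibres_comp A B C hAB (fun p _ Q _ => ?_) q P
  haveI := (hBC.2 p).1
  haveI := Groth.Agent.FlatLoc6.isRegularRing_of_geometricallyRegular (hBC.2 p).2
  haveI := IsRegularRing.isRegularLocalRing_localization (R := p.Fiber C) Q
  exact Groth.Agent.KRegLib.isCompleteIntersection_of_regular _

end Groth.Agent.S8951
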