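import Groth.Statements.S8954
import Groth.Agent.S9143
import Groth.Agent.S9145
import Groth.Agent.S9147
import Groth.Agent.S5338
import Groth.Agent.Synt29.SyntomicAt
import Groth.Agent.CMOpen5.Params
import Mathlib.RingTheory.RegularLocalRing.Polynomial
import Mathlib.RingTheory.KrullDimension.Polynomial

set_option autoImplicit false
universe u
open Synt

namespace Groth.Agent.S8954

open MvPolynomial IsLocalRing in
open scoped TensorProduct in
theorem local_gens {A B : Type u} [CommRing A] [IsLocalRing A] [CommRing B] [Algebra A B] [Module.Finite A B]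
    [Module.Flat A B] {n : ℕ} (π : MvPolynomial (Fin n) A →ₐ[A] B) (hπ : Function.Surjective π)
    (hL : Synt.IsLCIOver (maximalIdeal A).ResidueField ((maximalIdeal A).Fiber B))
    (Q : Ideal (MvPolynomial (Fin n) A)) [Q.IsMaximal] (hIQ : RingHom.ker π ≤ Q) :
    ∃ g : Fin n → MvPolynomial (Fin n) A, (∀ i, g i ∈ RingHom.ker π) ∧
      RingHom.ker π ≤ Ideal.span (Set.range g) ⊔ Q * RingHom.ker π := by
  classical
  let m := maximalIdeal A
  let k := m.ResidueField
  let F := k ⊗[A] B
  let φ : MvPolynomial (Fin n) A →+* MvPolynomial (Fin n) k := MvPolynomial.map (algebraMap A k)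
  have hb : Function.Bijective (algebraMap (A ⧸ m) k) := Ideal.bijective_algebraMap_quotient_residueField m
  have hks : Function.Surjective (algebraMap A k) := by
    intro c
    obtain ⟨c, rfl⟩ := hb.2 c
    obtain ⟨a, rfl⟩ := Ideal.Quotient.mk_surjective c
    exact ⟨a, (IsScalarTower.algebraMap_apply A (A ⧸ m) k a)⟩
  have hφs : Function.Surjective φ := MvPolynomial.map_surjective _ hks
  have hφk : RingHom.ker φ = m.map C := by
    rw [MvPolynomial.ker_map, Ideal.ker_algebraMap_residueField]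
  have hmQ : m.map C ≤ Q := by
    rw [Ideal.map_le_iff_le_comap]
    haveI : (Q.map π).IsMaximal := (Ideal.map_eq_top_or_isMaximal_of_surjective π hπ inferInstance).resolve_left fun h => by
      have h' := Ideal.comap_map_of_surjective π hπ Q
      rw [h, Ideal.comap_top, ← RingHom.ker_eq_comap_bot, sup_eq_left.2 hIQ] at h'
      exact (inferInstance : Q.IsMaximal).ne_top h'.symm
    have h1 := IsLocalRing.eq_maximalIdeal (Ideal.isMaximal_comap_of_isIntegral_of_isMaximal (R := A) (Q.map π))
    intro a ha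
    rw [show m = maximalIdeal A from rfl, ← h1, Ideal.mem_comap, ← π.commutes,
      ← Ideal.mem_comap, Ideal.comap_map_of_surjective π hπ, ← RingHom.ker_eq_comap_bot, sup_eq_left.2 hIQ] at ha
    exact ha
  -- the fibre presentation
  let πk : MvPolynomial (Fin n) k →ₐ[k] F := aeval fun i => (1 : k) ⊗ₜ[A] π (X i)
  have hcomp : ∀ p, πk (φ p) = (1 : k) ⊗ₜ[A] π p := fun p => by
    rw [show φ p = MvPolynomial.map (algebraMap A k) p from rfl, show πk = aeval fun i => (1 : k) ⊗ₜ[A] π (X i) from rfl,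
      MvPolynomial.aeval_map_algebraMap]
    exact congr($(show aeval (fun i => (1 : k) ⊗ₜ[A] π (X i)) =
      (Algebra.TensorProduct.includeRight (R := A) (A := k) (B := B)).comp π from MvPolynomial.algHom_ext fun i => by simp) p)
  have hπk : Function.Surjective πk := by
    intro z
    induction z using TensorProduct.induction_on with
    | zero => exact ⟨0, map_zero _⟩
    | tmul c b =>
      obtain ⟨p, rfl⟩ := hπ b
      refine ⟨c • φ p, ?_⟩
      rw [map_smul, hcomp, TensorProduct.smul_tmul', smul_eq_mul, mul_one]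
    | add x y hx hy =>
      obtain ⟨x, rfl⟩ := hx
      obtain ⟨y, rfl⟩ := hy
      exact ⟨x + y, map_add _ _ _⟩
  have hker : ∀ y, πk y = 0 → ∃ p ∈ RingHom.ker π, φ p = y := by
    intro y hy
    obtain ⟨p, rfl⟩ := hφs y
    rw [hcomp] at hy
    let e : (A ⧸ m) ≃ₐ[A] k := AlgEquiv.ofBijective (IsScalarTower.toAlgHom A (A ⧸ m) k) hb
    let J : Ideal B := m.map (algebraMap A B)
    let s : (A ⧸ m) →ₐ[A] B ⧸ J := Ideal.Quotient.liftₐ m (Algebra.ofId A (B ⧸ J)) fun a ha =>
      Ideal.Quotient.eq_zero_iff_mem.2 (Ideal.mem_map_of_mem _ ha)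
    have h0 := congrArg (Algebra.TensorProduct.lift (s.comp e.symm.toAlgHom) (Ideal.Quotient.mkₐ A J)
      fun _ _ => .all _ _) hy
    rw [Algebra.TensorProduct.lift_tmul, map_one, one_mul, map_zero] at h0
    have hp : p ∈ m.map C ⊔ RingHom.ker π := by
      rw [RingHom.ker_eq_comap_bot, ← Ideal.comap_map_of_surjective π hπ, Ideal.mem_comap]
      have hJ : (m.map C).map π = J := by
        rw [← Ideal.map_coe (f := π), Ideal.map_map]
        exact congrArg (Ideal.map · m) π.comp_algebraMap
      exact hJ ▸ Ideal.Quotient.eq_zero_iff_mem.1 h0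
    obtain ⟨a, ha, b, hb', rfl⟩ := Submodule.mem_sup.1 hp
    exact ⟨b, hb', by rw [map_add, RingHom.mem_ker.1 (hφk.ge ha), zero_add]⟩
  -- the primes
  let Qk := Q.map φ
  have hQc : Qk.comap φ = Q := by
    rw [Ideal.comap_map_of_surjective φ hφs, ← RingHom.ker_eq_comap_bot, sup_eq_left.2 (hφk.le.trans hmQ)]
  haveI : Qk.IsPrime := Ideal.map_isPrime_of_surjective hφs (hφk.le.trans hmQ)
  have hkle : RingHom.ker πk ≤ Qk := fun y hy => by
    obtain ⟨p, hp, rfl⟩ := hker y hy
    exact Ideal.mem_map_of_mem φ (hIQ hp)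
  let q := Qk.map πk
  haveI : q.IsPrime := Ideal.map_isPrime_of_surjective hπk hkle
  have hqc : q.comap πk = Qk := by
    rw [Ideal.comap_map_of_surjective πk hπk, ← RingHom.ker_eq_comap_bot, sup_eq_left.2 hkle]
  haveI : IsRegularLocalRing (Localization.AtPrime Qk) := isRegularRing_iff.1 inferInstance Qk
  let πL : Localization.AtPrime Qk →ₐ[k] Localization.AtPrime q :=
    ⟨Localization.localRingHom Qk q πk.toRingHom hqc.symm, fun c => by
      show Localization.localRingHom Qk q πk.toRingHom hqc.symm _ = _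
      rw [IsScalarTower.algebraMap_apply k (MvPolynomial (Fin n) k) (Localization.AtPrime Qk),
        Localization.localRingHom_to_map, IsScalarTower.algebraMap_apply k F (Localization.AtPrime q)]
      exact congrArg _ (πk.commutes c)⟩
  have hπL : Function.Surjective πL := fun z => by
    obtain ⟨f, ⟨t, ht⟩, rfl⟩ := IsLocalization.exists_mk'_eq q.primeCompl z
    obtain ⟨f, rfl⟩ := hπk f
    obtain ⟨t, rfl⟩ := hπk t
    refine ⟨IsLocalization.mk' _ f (⟨t, fun h => ht (Ideal.mem_map_of_mem πk h)⟩ : Qk.primeCompl), ?_⟩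
    show Localization.localRingHom Qk q πk.toRingHom hqc.symm _ = _
    rw [Localization.localRingHom_mk']
    rfl
  haveI : Algebra.FiniteType k F := hL.1
  haveI : Algebra.EssFiniteType k (Localization.AtPrime q) := Algebra.EssFiniteType.comp k F _
  obtain ⟨rs, hrs, hrk⟩ := ((S9143.result k (Localization.AtPrime q)).1.1 ((S9145.result k F).1.1 hL ⟨q, inferInstance⟩))
    (Localization.AtPrime Qk) (Algebra.EssFiniteType.comp k (MvPolynomial (Fin n) k) _) πL hπL
  have hlen : rs.length ≤ n := by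
    have h1 := Groth.Agent.CMOpen5.length_le_ringKrullDim rs hrs.toIsWeaklyRegular fun r hr => by
      have h2 : RingHom.ker πL.toRingHom ≤ maximalIdeal _ := le_maximalIdeal (RingHom.ker_ne_top _)
      exact h2 (hrk.ge (Ideal.subset_span hr))
    rw [IsLocalization.AtPrime.ringKrullDim_eq_height Qk] at h1
    have h2 := h1.trans (Ideal.height_le_ringKrullDim_of_ne_top (Ideal.IsPrime.ne_top (inferInstance : Qk.IsPrime)))
    rw [MvPolynomial.ringKrullDim_of_isNoetherianRing, ringKrullDim_eq_zero_of_field, zero_add,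
      Nat.card_eq_fintype_card, Fintype.card_fin] at h2
    exact_mod_cast h2
  have hch : ∀ r ∈ RingHom.ker πL.toRingHom, ∃ p ∈ RingHom.ker π, ∃ u : Localization.AtPrime Qk, IsUnit u ∧
      u * r = algebraMap (MvPolynomial (Fin n) k) _ (φ p) := by
    intro r hr
    obtain ⟨f, ⟨t, ht⟩, rfl⟩ := IsLocalization.exists_mk'_eq Qk.primeCompl r
    have h : Localization.localRingHom Qk q πk.toRingHom hqc.symm (IsLocalization.mk' _ f ⟨t, ht⟩) = 0 := hr
    rw [Localization.localRingHom_mk', IsLocalization.mk'_eq_zero_iff] at h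
    obtain ⟨⟨w, hw⟩, hw'⟩ := h
    obtain ⟨w, rfl⟩ := hπk w
    obtain ⟨p, hp, hpe⟩ := hker (w * f) (by rw [map_mul]; exact hw')
    refine ⟨p, hp, algebraMap _ _ (w * t), IsLocalization.map_units _ (⟨w * t, ?_⟩ : Qk.primeCompl), ?_⟩
    · exact mul_mem (show w ∈ Qk.primeCompl from fun h => hw (Ideal.mem_map_of_mem πk h)) ht
    · rw [hpe, map_mul, map_mul, mul_assoc, IsLocalization.mk'_spec'_mk]
  choose p hp u hu hup using fun i : Fin rs.length => hch rs[i] (hrk.ge (Ideal.subset_span (List.getElem_mem _)))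
  let g : Fin n → MvPolynomial (Fin n) A := fun i => if h : (i : ℕ) < rs.length then p ⟨i, h⟩ else 0
  have hg : ∀ i, g i ∈ RingHom.ker π := fun i => by
    simp only [g]
    split_ifs with h
    exacts [hp _, zero_mem _]
  refine ⟨g, hg, fun x hx => ?_⟩
  have hx' : algebraMap (MvPolynomial (Fin n) k) (Localization.AtPrime Qk) (φ x) ∈
      ((Ideal.span (Set.range g)).map φ).map (algebraMap _ (Localization.AtPrime Qk)) := by
    have h1 : algebraMap (MvPolynomial (Fin n) k) (Localization.AtPrime Qk) (φ x) ∈ RingHom.ker πL.toRingHom := by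
      show Localization.localRingHom Qk q πk.toRingHom hqc.symm _ = 0
      rw [Localization.localRingHom_to_map]
      show algebraMap F _ (πk (φ x)) = 0
      rw [hcomp, RingHom.mem_ker.1 hx, TensorProduct.tmul_zero, map_zero]
    rw [hrk] at h1
    refine (Ideal.span_le.2 ?_ : Ideal.ofList rs ≤ _) h1
    intro r hr
    obtain ⟨i, hi, rfl⟩ := List.getElem_of_mem hr
    refine (Ideal.unit_mul_mem_iff_mem _ (hu ⟨i, hi⟩)).1 ?_
    rw [show u ⟨i, hi⟩ * rs[i] = _ from hup ⟨i, hi⟩]
    refine Ideal.mem_map_of_mem _ (Ideal.mem_map_of_mem _ (Ideal.subset_span ⟨⟨i, hi.trans_le hlen⟩, ?_⟩))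
    simp [g, hi]
  obtain ⟨s, hs, hsx⟩ := (IsLocalization.algebraMap_mem_map_algebraMap_iff Qk.primeCompl _ _ _).1 hx'
  obtain ⟨s, rfl⟩ := hφs s
  rw [← map_mul, ← Ideal.mem_comap, Ideal.comap_map_of_surjective φ hφs, ← RingHom.ker_eq_comap_bot, hφk] at hsx
  obtain ⟨a, ha, b, hb', hab⟩ := Submodule.mem_sup.1 hsx
  have hbI : b ∈ RingHom.ker π := by
    have : π (a + b) = 0 := by rw [hab, map_mul, RingHom.mem_ker.1 hx, mul_zero]
    rwa [map_add, RingHom.mem_ker.1 ((Ideal.span_le.2 (by rintro _ ⟨i, rfl⟩; exact hg i) : _ ≤ RingHom.ker π) ha),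
      zero_add] at this
  have hbQ : b ∈ Q * RingHom.ker π := by
    have hb2 : b ∈ m • (⊤ : Submodule A (MvPolynomial (Fin n) A)) :=
      S5338.exists_mem_of_quotient_eq m _ rfl hb'
    refine Submodule.smul_induction_on (S5338.ker_inf_smul_top_le π.toLinearMap hπ m ⟨hbI, hb2⟩) (fun r hr y hy => ?_)
      fun x y hx hy => add_mem hx hy
    rw [Algebra.smul_def]
    exact Ideal.mul_mem_mul (hmQ (Ideal.mem_map_of_mem C hr)) hy
  obtain ⟨t, z, hz, htz⟩ := (inferInstance : Q.IsMaximal).exists_inv (fun h => hs (Ideal.mem_map_of_mem φ h))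
  have e : x = t * a + (t * b + z * x) := by
    calc x = (t * s + z) * x := by rw [htz, one_mul]
      _ = t * (a + b) + z * x := by rw [hab]; ring
      _ = _ := by ring
  rw [e]
  exact add_mem (Ideal.mem_sup_left (Ideal.mul_mem_left _ t ha))
    (Ideal.mem_sup_right (add_mem (Ideal.mul_mem_left _ t hbQ) (Ideal.mul_mem_mul hz hx)))

open MvPolynomial in
theorem square_presentation {A B : Type u} [CommRing A] [IsLocalRing A] [CommRing B] [Algebra A B] [Module.Finite A B]
    (h : Synt.IsSyntomic A B) :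
    ∃ (n : ℕ) (F : Fin n → MvPolynomial (Fin n) A), Nonempty (B ≃ₐ[A] Synt.RelGCIRing A n n F) := by
  classical
  haveI : Module.Flat A B := h.1
  haveI : Algebra.FinitePresentation A B := h.2.1
  obtain ⟨n, π, hπ⟩ := Algebra.FiniteType.iff_quotient_mvPolynomial''.1 (inferInstance : Algebra.FiniteType A B)
  set I : Ideal (MvPolynomial (Fin n) A) := RingHom.ker π with hI
  have hIfg : I.FG := Algebra.FinitePresentation.ker_fG_of_surjective π hπ
  have hL := h.2.2 ⟨IsLocalRing.maximalIdeal A, inferInstance⟩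
  have hfin : {N : Ideal B | N.IsMaximal}.Finite := by
    refine (Algebra.QuasiFinite.finite_primesOver (R := A) (S := B) (IsLocalRing.maximalIdeal A)).subset fun N (hN : N.IsMaximal) => ⟨hN.isPrime, ⟨?_⟩⟩
    exact (IsLocalRing.eq_maximalIdeal (Ideal.isMaximal_comap_of_isIntegral_of_isMaximal (R := A) N)).symm
  haveI : Fintype {N : Ideal B | N.IsMaximal} := hfin.fintype
  let ι := {N : Ideal B | N.IsMaximal}
  let Q : ι → Ideal (MvPolynomial (Fin n) A) := fun j => j.1.comap π
  have hQm : ∀ j, (Q j).IsMaximal := fun j => by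
    haveI : j.1.IsMaximal := j.2
    exact Ideal.comap_isMaximal_of_surjective π hπ
  choose g hg hgle using fun j => haveI := hQm j; local_gens π hπ hL (Q j) (Ideal.ker_le_comap _)
  have hQi : ∀ i j, i ≠ j → IsCoprime (Q i) (Q j) := fun i j hij => by
    rw [Ideal.isCoprime_iff_sup_eq]
    refine (hQm i).coprime_of_ne (hQm j) fun he => hij (Subtype.ext ?_)
    exact Ideal.comap_injective_of_surjective π hπ he
  choose e he using fun j => Ideal.exists_forall_sub_mem_ideal hQi (fun i => if i = j then 1 else 0)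
  let f : Fin n → MvPolynomial (Fin n) A := fun i => ∑ j, e j * g j i
  have hf : ∀ i, f i ∈ I := fun i => Ideal.sum_mem _ fun j _ => Ideal.mul_mem_left _ _ (hg j i)
  set S : Ideal (MvPolynomial (Fin n) A) := Ideal.span (Set.range f) with hS
  have hSI : S ≤ I := Ideal.span_le.2 (by rintro _ ⟨i, rfl⟩; exact hf i)
  have hstep : ∀ j, I ≤ S ⊔ Q j * I := fun j => by
    refine (hgle j).trans (sup_le (Ideal.span_le.2 ?_) le_sup_right)
    rintro _ ⟨i, rfl⟩
    have : g j i = f i - ∑ l, (e l - if j = l then 1 else 0) * g l i := by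
      simp only [f, sub_mul, Finset.sum_sub_distrib, ite_mul, one_mul, zero_mul, Finset.sum_ite_eq,
        Finset.mem_univ, if_true, sub_sub_cancel]
    rw [SetLike.mem_coe, this]
    exact sub_mem (Ideal.mem_sup_left (Ideal.subset_span ⟨i, rfl⟩))
      (Ideal.mem_sup_right (Ideal.sum_mem _ fun l _ => Ideal.mul_mem_mul (he l j) (hg l i)))
  have hprod : ∀ T : Finset ι, I ≤ S ⊔ (∏ j ∈ T, Q j) * I := by
    intro T
    induction T using Finset.induction_on with
    | empty => simp
    | @insert j T hj ih =>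
      rw [Finset.prod_insert hj]
      refine ih.trans (sup_le le_sup_left ((Ideal.mul_mono_right (hstep j)).trans ?_))
      rw [Ideal.mul_sup, mul_comm (Q j) (∏ l ∈ T, Q l)]
      exact sup_le (fun x hx => Ideal.mem_sup_left ((Ideal.mul_le_right (I := ∏ l ∈ T, Q l) (J := S)) hx))
        (fun x hx => Ideal.mem_sup_right (by rw [mul_assoc]; exact hx))
  let M : Submodule (MvPolynomial (Fin n) A) (MvPolynomial (Fin n) A ⧸ S) := Submodule.map S.mkQ I
  obtain ⟨r, hr1, hr2⟩ := Submodule.exists_sub_one_mem_and_smul_eq_zero_of_fg_of_le_smul (∏ j, Q j) M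
    (Submodule.FG.map _ hIfg) (by
      rintro _ ⟨x, hx, rfl⟩
      obtain ⟨a, ha, b, hb, rfl⟩ := Submodule.mem_sup.1 (hprod Finset.univ hx)
      rw [map_add, show S.mkQ a = 0 from (Submodule.Quotient.mk_eq_zero _).2 ha, zero_add]
      refine Submodule.mul_induction_on hb (fun p hp y hy => ?_) fun x y hx hy => by
        rw [map_add]; exact add_mem hx hy
      rw [← smul_eq_mul, map_smul]
      exact Submodule.smul_mem_smul hp (Submodule.mem_map_of_mem hy))
  have hrS : ∀ x ∈ I, r * x ∈ S := fun x hx => by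
    have := hr2 _ (Submodule.mem_map_of_mem (f := S.mkQ) hx)
    rwa [← map_smul, Submodule.mkQ_apply, Submodule.Quotient.mk_eq_zero, smul_eq_mul] at this
  have hru : IsUnit (π r) := by
    by_contra hc
    obtain ⟨N, hN, hrN⟩ := exists_max_ideal_of_mem_nonunits hc
    have h1 : r - 1 ∈ Q ⟨N, hN⟩ :=
      (Ideal.prod_le_inf.trans (Finset.inf_le (Finset.mem_univ (⟨N, hN⟩ : ι)))) hr1
    have h2 : r ∈ Q ⟨N, hN⟩ := Ideal.mem_comap.2 hrN
    exact (hQm ⟨N, hN⟩).ne_top ((Ideal.eq_top_iff_one _).2 (by simpa using sub_mem h2 h1))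
  -- invert `r`
  let ι' : MvPolynomial (Fin n) A →ₐ[A] MvPolynomial (Fin (n + 1)) A := rename Fin.castSucc
  let F : Fin (n + 1) → MvPolynomial (Fin (n + 1)) A := Fin.lastCases (ι' r * X (Fin.last n) - 1) (fun i => ι' (f i))
  refine ⟨n + 1, F, ?_⟩
  let π' : MvPolynomial (Fin (n + 1)) A →ₐ[A] B := aeval (Fin.lastCases (hru.unit⁻¹ : Bˣ).1 (fun i => π (X i)))
  have hπ' : ∀ p, π' (ι' p) = π p := fun p => by
    exact congr($(show π'.comp ι' = π from MvPolynomial.algHom_ext fun i => by
      simp [π', ι']) p)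
  let q := Ideal.Quotient.mkₐ A (Ideal.span (Set.range F))
  have hq0 : ∀ i, q (F i) = 0 := fun i => Ideal.Quotient.eq_zero_iff_mem.2 (Ideal.subset_span ⟨i, rfl⟩)
  have hqr : IsUnit (q (ι' r)) := IsUnit.of_mul_eq_one (q (X (Fin.last n))) (by
    have := hq0 (Fin.last n)
    rwa [show F (Fin.last n) = ι' r * X (Fin.last n) - 1 by simp [F], map_sub, map_mul, map_one, sub_eq_zero] at this)
  have hI0 : ∀ x ∈ I, q (ι' x) = 0 := fun x hx => by
    refine hqr.mul_right_eq_zero.1 ?_
    rw [← map_mul, ← map_mul]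
    refine (Ideal.span_le.2 ?_ : S ≤ RingHom.ker ((q.comp ι').toRingHom)) (hrS x hx)
    rintro _ ⟨i, rfl⟩
    show q (ι' (f i)) = 0
    simpa [F] using hq0 (Fin.castSucc i)
  obtain ⟨ψ, hψ⟩ : ∃ ψ : B →ₐ[A] Synt.RelGCIRing A (n + 1) (n + 1) F, ∀ p, ψ (π p) = q (ι' p) :=
    ⟨(Ideal.Quotient.liftₐ (RingHom.ker π) (q.comp ι') hI0).comp
      (Ideal.quotientKerAlgEquivOfSurjective hπ).symm.toAlgHom, fun p => by
      show Ideal.Quotient.liftₐ (RingHom.ker π) (q.comp ι') hI0 ((Ideal.quotientKerAlgEquivOfSurjective hπ).symm (π p)) = _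
      rw [show (Ideal.quotientKerAlgEquivOfSurjective hπ).symm (π p) = Ideal.Quotient.mk _ p from
        (Ideal.quotientKerAlgEquivOfSurjective hπ).symm_apply_eq.2 rfl]
      rfl⟩
  let θ : Synt.RelGCIRing A (n + 1) (n + 1) F →ₐ[A] B := Ideal.Quotient.liftₐ _ π' fun a ha => by
    refine (Ideal.span_le.2 ?_ : _ ≤ RingHom.ker π') ha
    rintro _ ⟨i, rfl⟩
    refine Fin.lastCases ?_ (fun i => ?_) i
    · simp [F, hπ']
      simp [π']
    · simp [F, hπ', RingHom.mem_ker.1 (hf i)]
  refine ⟨(AlgEquiv.ofAlgHom θ ψ ?_ ?_).symm⟩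
  · refine AlgHom.ext fun b => ?_
    obtain ⟨p, rfl⟩ := hπ b
    show θ (ψ (π p)) = π p
    rw [hψ]
    exact hπ' p
  · refine Ideal.Quotient.algHom_ext _ (MvPolynomial.algHom_ext fun i => ?_)
    show ψ (θ (q (X i))) = q (X i)
    refine Fin.lastCases ?_ (fun i => ?_) i
    · rw [show θ (q (X (Fin.last n))) = (hru.unit⁻¹ : Bˣ).1 by simp [θ, q, π']]
      refine hqr.mul_left_cancel ?_
      have h1 := hq0 (Fin.last n)
      rw [show F (Fin.last n) = ι' r * X (Fin.last n) - 1 by simp [F], map_sub, map_mul, map_one, sub_eq_zero] at h1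
      rw [h1, ← hψ r, ← map_mul, IsUnit.mul_val_inv, map_one]
    · rw [show θ (q (X (Fin.castSucc i))) = π (X i) by simp [θ, q, π'], hψ]
      simp [ι']

/-- The equivalence of being finite syntomic with having a square presentation, stated over a local
base. For a local ring A and a finite A-algebra B, the map A → B is syntomic if and only if B ≅
A[x_1, …, x_n]/(f_1, …, f_n) as A-algebras for some n and f_1, …, f_n ∈ A[x_1, …, x_n]. (The
published statement is for a finite morphism of schemes and asserts such a presentation over some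
affine open neighbourhood of each point of the base; over a local base that neighbourhood is the
whole spectrum.) -/
theorem result (A B : Type u) [CommRing A] [IsLocalRing A] [CommRing B] [Algebra A B] [Module.Finite A B] : Synt.IsSyntomic A B ↔ ∃ (n : ℕ) (F : Fin n → MvPolynomial (Fin n) A), Nonempty (B ≃ₐ[A] Synt.RelGCIRing A n n F) := by
  constructor
  · exact square_presentation
  · rintro ⟨n, F, ⟨e⟩⟩
    haveI : Module.Finite A (Synt.RelGCIRing A n n F) := Module.Finite.equiv e.toLinearEquiv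
    refine Groth.Agent.Synt29.isSyntomic_of_algEquiv e.symm (S9147.result A n n F fun p hp => ⟨le_rfl, ?_⟩)
    haveI hart := IsArtinianRing.of_finite p.asIdeal.ResidueField (p.asIdeal.Fiber (Synt.RelGCIRing A n n F))
    have hart' : @IsArtinianRing (p.asIdeal.Fiber (Synt.RelGCIRing A n n F)) CommRing.toCommSemiring.toSemiring := by
      convert! hart
    haveI := ((isArtinianRing_iff_isNoetherianRing_krullDimLE_zero (R := p.asIdeal.Fiber (Synt.RelGCIRing A n n F))).1 hart').2
    rw [Nat.sub_self]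
    exact ringKrullDimZero_iff_ringKrullDim_eq_zero.1 inferInstance

end Groth.Agent.S8954
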