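import Groth.Statements.S8957
import Groth.Agent.Disc957.Main
import Groth.Agent.S1830
import Groth.Agent.S9287
import Groth.Agent.S2217
import Groth.Agent.S2221
import Groth.Agent.LC.GorRing

set_option autoImplicit false
universe u
open Disc

namespace Groth.Agent.S8957

/-- Affine case of a finite free syntomic morphism. Let A be a Noetherian ring and B a finite free
A-algebra with A → B syntomic. Then the different of B over A (the elements b with b · Hom_A(B, A) ⊆
B · Trace_{B/A}) coincides, as a subset of B, with the Kähler different Fit_0(Ω_{B/A}). (The
published statement is for a flat quasi-finite local complete intersection morphism of Noetherian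
schemes and the different as an ideal sheaf; this row is its affine finite free case, where the
relative dualizing module is Hom_A(B, A) and the trace element is the trace.) -/
theorem result (A B : Type u) [CommRing A] [CommRing B] [Algebra A B] [IsNoetherianRing A] [Module.Finite A B] [Module.Free A B] (h : Synt.IsSyntomic A B) : Disc.differentSet A B = (Fitt.ideal B (KaehlerDifferential A B) 0 : Set B) := by
  have hl := (Groth.Agent.S9287.result A B).mp h
  haveI : Module.Invertible B (Disc.Omega A B) :=
    (Groth.Agent.S2217.result (A := A) (B := B)).mp fun p _ =>
      Groth.Agent.LC.gorensteinRing_of_ringEquiv (Algebra.TensorProduct.comm A B p.ResidueField).toRingEquiv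
        (Groth.Agent.S1830.result A B hl.2 ⟨p, inferInstance⟩)
  rw [Groth.Agent.S2221.result, Groth.Agent.Disc957.noether_eq_fitting A B h]

end Groth.Agent.S8957
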