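import Groth.Statements.S8969
import Groth.Agent.H1Tate.Basic
import Groth.Agent.S9147
import Groth.Agent.S9287
import Groth.Agent.S2217
import Groth.Agent.S1830
import Groth.Agent.LC.GorRing

set_option autoImplicit false
universe u
open Disc

namespace Groth.Agent.S8969

/-- Case h = 1 with B finite free. Suppose A is a Noetherian ring, fix n ≥ 1 and polynomials f_1, …, f_n
∈ A[x_1, …, x_n], and assume that the quotient B = A[x_1, …, x_n]/(f_1, …, f_n) is finite free over
A. Then one can find a B-linear isomorphism B → ω_{B/A} = Hom_A(B, A), where B acts on Hom_A(B, A)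
via the argument, carrying the class of the Jacobian determinant det(∂f_i/∂x_j) to the trace element
Trace_{B/A}. (In the published version B is allowed to be A[x_1, …, x_n, 1/h]/(f_1, …, f_n)
quasi-finite over A, using the relative dualizing module together with its trace element; when h = 1
and B is finite free these reduce to Hom_A(B, A) and Trace_{B/A}, which is the situation treated
here.) -/
theorem result (A : Type u) [CommRing A] [IsNoetherianRing A] (n : ℕ) (hn : 1 ≤ n) (f : Fin n → MvPolynomial (Fin n) A) [Module.Finite A (MvPolynomial (Fin n) A ⧸ Ideal.span (Set.range f))] [Module.Free A (MvPolynomial (Fin n) A ⧸ Ideal.span (Set.range f))] : ∃ e : (MvPolynomial (Fin n) A ⧸ Ideal.span (Set.range f)) ≃ₗ[MvPolynomial (Fin n) A ⧸ Ideal.span (Set.range f)] Disc.Omega A (MvPolynomial (Fin n) A ⧸ Ideal.span (Set.range f)), e (Ideal.Quotient.mk (Ideal.span (Set.range f)) (Matrix.det (Matrix.of fun i j : Fin n => MvPolynomial.pderiv j (f i)))) = Disc.Omega.trace A (MvPolynomial (Fin n) A ⧸ Ideal.span (Set.range f)) := by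
  have hgci := Disc957.isRelGCI_of_quasiFinite f
  have hl := (S9287.result A _).mp (S9147.result A n n f hgci)
  haveI : Module.Invertible (MvPolynomial (Fin n) A ⧸ Ideal.span (Set.range f))
      (Disc.Omega A (MvPolynomial (Fin n) A ⧸ Ideal.span (Set.range f))) :=
    (S2217.result (A := A) (B := MvPolynomial (Fin n) A ⧸ Ideal.span (Set.range f))).mp fun p _ =>
      LC.gorensteinRing_of_ringEquiv
        (Algebra.TensorProduct.comm A (MvPolynomial (Fin n) A ⧸ Ideal.span (Set.range f)) p.ResidueField).toRingEquiv
        (S1830.result A _ hl.2 ⟨p, inferInstance⟩)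
  obtain ⟨ξ, hJ, hξ⟩ := H1Tate.exists_generator f
  obtain ⟨e, he⟩ := H1Tate.exists_equiv ξ hJ
  exact ⟨e, hξ ▸ he⟩

end Groth.Agent.S8969
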