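import Groth.Statements.S8972
import Mathlib
import Groth.Prelude.Def_W4stkdualitygroupp2Univ

set_option autoImplicit false
open Synt

namespace Groth.Agent.S8972

/-- The non-constant indices. -/
abbrev Rest (n d : ℕ) : Type := {E : Synt.UnivIdx n d // E.exponent ≠ 0}

open MvPolynomial in
theorem univAlg_equiv (n d : ℕ) :
    ∃ (σ : Type) (_ : Finite σ), Nonempty (Synt.UnivAlg n d ≃+* MvPolynomial σ ℤ) := by
  classical
  refine ⟨Fin n ⊕ (Fin n × Rest n d), inferInstance, ?_⟩
  let x : Fin n → MvPolynomial (Fin n ⊕ (Fin n × Rest n d)) ℤ := fun j => X (Sum.inl j)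
  let τ : Fin n × Synt.UnivIdx n d → MvPolynomial (Fin n ⊕ (Fin n × Rest n d)) ℤ := fun iE =>
    if h : iE.2.exponent ≠ 0 then X (Sum.inr (iE.1, ⟨iE.2, h⟩))
    else -∑ E : Rest n d, X (Sum.inr (iE.1, E)) * E.1.exponent.prod (fun j k => x j ^ k)
  let Φ : MvPolynomial (Fin n) (Synt.UnivBase n d) →+* MvPolynomial (Fin n ⊕ (Fin n × Rest n d)) ℤ :=
    eval₂Hom (eval₂Hom (Int.castRingHom _) τ) x
  have hE0 : ∃ E₀ : Synt.UnivIdx n d, E₀.exponent = 0 :=
    ⟨⟨fun _ => 0, by simp⟩, by ext i; simp [Synt.UnivIdx.exponent]⟩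
  obtain ⟨E₀, hE₀⟩ := hE0
  have huniq : ∀ E : Synt.UnivIdx n d, E.exponent = 0 → E = E₀ := fun E hE => by
    refine Subtype.ext (funext fun i => Fin.ext ?_)
    have h1 := DFunLike.congr_fun (hE.trans hE₀.symm) i
    simpa [Synt.UnivIdx.exponent] using h1
  have hsplit : ∀ {M : Type} [AddCommMonoid M] (g : Synt.UnivIdx n d → M),
      ∑ E, g E = g E₀ + ∑ E : Rest n d, g E.1 := by
    intro M _ g
    rw [← Finset.add_sum_erase _ _ (Finset.mem_univ E₀)]
    congr 1
    refine Finset.sum_subtype (Finset.univ.erase E₀) (fun E => ?_) g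
    simp only [Finset.mem_erase, Finset.mem_univ, and_true]
    exact ⟨fun h h0 => h (huniq E h0), fun h h0 => h (h0 ▸ hE₀)⟩
  have hpoly : ∀ i, Φ (Synt.univPoly n d i) = 0 := by
    intro i
    rw [Synt.univPoly, map_sum, hsplit]
    have h0 : Φ (monomial E₀.exponent (X (i, E₀))) =
        -∑ E : Rest n d, X (Sum.inr (i, E)) * E.1.exponent.prod (fun j k => x j ^ k) := by
      simp [Φ, τ, eval₂_monomial, hE₀]
    have h1 : ∀ E : Rest n d, Φ (monomial E.1.exponent (X (i, E.1))) =
        X (Sum.inr (i, E)) * E.1.exponent.prod (fun j k => x j ^ k) := fun E => by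
      simp [Φ, τ, eval₂_monomial, E.2]
    rw [h0, Finset.sum_congr rfl fun E _ => h1 E, neg_add_cancel]
  let mk : MvPolynomial (Fin n) (Synt.UnivBase n d) →+* Synt.UnivAlg n d := (Synt.UnivAlg.mk n d).toRingHom
  let ρ : Fin n ⊕ (Fin n × Rest n d) → MvPolynomial (Fin n) (Synt.UnivBase n d) :=
    Sum.elim (fun j => X j) (fun iE => C (X (iE.1, iE.2.1)))
  let ι : MvPolynomial (Fin n ⊕ (Fin n × Rest n d)) ℤ →+* MvPolynomial (Fin n) (Synt.UnivBase n d) :=
    eval₂Hom (Int.castRingHom _) ρ
  have hΦι : Φ.comp ι = RingHom.id _ := by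
    refine MvPolynomial.ringHom_ext (fun r => by simp) (fun s => ?_)
    rcases s with j | ⟨i, E⟩
    · simp [Φ, ι, ρ, x]
    · simp [Φ, ι, ρ, τ, E.2]
  have hker0 : ∀ i, mk (Synt.univPoly n d i) = 0 := fun i =>
    Ideal.Quotient.eq_zero_iff_mem.2 (Ideal.subset_span ⟨i, rfl⟩)
  have hιΦ : (mk.comp ι).comp Φ = mk := by
    refine MvPolynomial.ringHom_ext' (MvPolynomial.ringHom_ext (fun r => by simp) fun iE => ?_) (fun j => ?_)
    · obtain ⟨i, E⟩ := iE
      by_cases hE : E.exponent ≠ 0
      · simp [Φ, ι, ρ, τ, hE]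
      · rw [huniq E (not_not.1 hE)]
        have hh := hker0 i
        rw [Synt.univPoly, map_sum, hsplit, add_eq_zero_iff_eq_neg] at hh
        have hm0 : monomial E₀.exponent (X (i, E₀) : Synt.UnivBase n d) = C (X (i, E₀)) := by
          rw [hE₀]; rfl
        rw [hm0] at hh
        refine Eq.trans ?_ hh.symm
        have ht : Φ (C (X (i, E₀))) =
            -∑ E : Rest n d, X (Sum.inr (i, E)) * E.1.exponent.prod (fun j k => x j ^ k) := by
          simp [Φ, τ, hE₀]
        show mk (ι (Φ (C (X (i, E₀))))) = _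
        rw [ht, map_neg, map_sum, map_neg, map_sum]
        refine congrArg Neg.neg (Finset.sum_congr rfl fun E _ => congrArg mk ?_)
        rw [map_mul, Finsupp.prod, map_prod, MvPolynomial.monomial_eq, Finsupp.prod]
        simp [ι, ρ, x]
    · simp [Φ, ι, ρ, x]
  have hker : Synt.univIdeal n d = RingHom.ker Φ := by
    refine le_antisymm (Ideal.span_le.2 ?_) fun g hg => ?_
    · rintro _ ⟨i, rfl⟩; exact RingHom.mem_ker.2 (hpoly i)
    · refine Ideal.Quotient.eq_zero_iff_mem.1 ?_
      show mk g = 0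
      rw [← hιΦ, RingHom.comp_apply, RingHom.mem_ker.1 hg, map_zero]
  exact ⟨(Ideal.quotEquivOfEq hker).trans (RingHom.quotientKerEquivOfSurjective
    (f := Φ) fun y => ⟨ι y, RingHom.congr_fun hΦι y⟩)⟩

/-- Let n, d ≥ 1 and let B = A[x_1, …, x_n]/(f_1, …, f_n) be the universal algebra over A = ℤ[a_{i,E}],
f_i = Σ_E a_{i,E} x^E summed over exponent vectors E with |E| ≤ d. Then B is an integral domain and
every localization of B at a prime ideal is a regular local ring. (The published statement says that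
X_{n,d} = Spec A and the quasi-finite locus Y_{n,d} ⊆ Spec B are regular and irreducible; for A, a
polynomial ring over ℤ, this is standard, and for the open Y_{n,d} it follows from the assertion
about all of Spec B made here, which is what the printed argument shows. The published statement
also asserts that Y_{n,d} → X_{n,d} is locally quasi-finite and syntomic, an instance of the general
characterisation of quasi-finite syntomic maps; that clause is not part of this row.) -/
theorem result (n d : ℕ) (hn : 1 ≤ n) (hd : 1 ≤ d) : IsDomain (Synt.UnivAlg n d) ∧ ∀ q : PrimeSpectrum (Synt.UnivAlg n d), IsRegularLocalRing (Localization.AtPrime q.asIdeal) := by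
  classical
  obtain ⟨σ, hσ, ⟨e⟩⟩ := Groth.Agent.S8972.univAlg_equiv n d
  haveI : IsRegularRing (Synt.UnivAlg n d) := IsRegularRing.of_ringEquiv e.symm
  exact ⟨Function.Injective.isDomain e.toRingHom e.injective, fun q => inferInstance⟩

end Groth.Agent.S8972
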