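import Groth.Statements.S8973
import Groth.Agent.S8974
import Mathlib.RingTheory.Etale.Locus
import Mathlib.RingTheory.Smooth.StandardSmoothCotangent
import Mathlib.RingTheory.Unramified.LocalStructure
import Mathlib.RingTheory.Extension.Presentation.Submersive

set_option autoImplicit false
open Synt

namespace Groth.Agent.S8973

open MvPolynomial in
theorem exists_point {A : Type} [CommRing A] {n : ℕ} (v : Fin n → MvPolynomial (Fin n) A)
    (φ : A →+* ℚ) (hv : ∀ i, MvPolynomial.map φ (v i) = MvPolynomial.X i) :
    ∃ q : PrimeSpectrum (MvPolynomial (Fin n) A ⧸ Ideal.span (Set.range v)),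
      Algebra.QuasiFiniteAt A q.asIdeal ∧ Algebra.IsEtaleAt A q.asIdeal := by
  classical
  let Q := MvPolynomial (Fin n) A ⧸ Ideal.span (Set.range v)
  let e : MvPolynomial (Fin n) A →+* ℚ := (MvPolynomial.eval (0 : Fin n → ℚ)).comp (MvPolynomial.map φ)
  have he : ∀ a ∈ Ideal.span (Set.range v), e a = 0 := fun a ha => by
    refine (Ideal.span_le.2 ?_ : _ ≤ RingHom.ker e) ha
    rintro _ ⟨i, rfl⟩
    simp [e, hv]
  let ψ : Q →+* ℚ := Ideal.Quotient.lift _ e he
  let q : PrimeSpectrum Q := ⟨RingHom.ker ψ, RingHom.ker_isPrime ψ⟩
  haveI hqp : q.asIdeal.IsPrime := q.isPrime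
  let P : Algebra.PreSubmersivePresentation A Q (Fin n) (Fin n) :=
    Algebra.PreSubmersivePresentation.naive id Function.injective_id
  have hψ : ψ P.jacobian = 1 := by
    rw [P.jacobian_eq_jacobiMatrix_det]
    have h : ∀ x : P.Ring, ψ (algebraMap P.Ring Q x) = e x := fun x => by
      rw [Algebra.Generators.algebraMap_apply]
      show ψ _ = _
      have : aeval (R := A) P.val x = Ideal.Quotient.mk _ x := by
        refine congr($(show aeval (R := A) P.val = Ideal.Quotient.mkₐ A _ from algHom_ext fun i => ?_) x)
        simp [P]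
        rfl
      rw [this]
      rfl
    rw [h, RingHom.map_det]
    have : e.mapMatrix P.jacobiMatrix = 1 := by
      ext i j
      rw [RingHom.mapMatrix_apply, Matrix.map_apply, Algebra.PreSubmersivePresentation.jacobiMatrix_naive]
      show MvPolynomial.eval 0 (MvPolynomial.map φ (pderiv (id i) (v j))) = _
      rw [← pderiv_map, hv, pderiv_X]
      simp [Matrix.one_apply, Pi.single_apply, eq_comm]
    rw [this, Matrix.det_one]
  let L := Localization.Away P.jacobian
  let R := (Algebra.PreSubmersivePresentation.localizationAway L P.jacobian).comp P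
  have hR : IsUnit R.jacobian := by
    rw [Algebra.PreSubmersivePresentation.comp_jacobian_eq_jacobian_smul_jacobian, Algebra.smul_def,
      Algebra.PreSubmersivePresentation.localizationAway_jacobian]
    exact (IsLocalization.Away.algebraMap_isUnit P.jacobian).mul (IsLocalization.Away.algebraMap_isUnit P.jacobian)
  let R' : Algebra.SubmersivePresentation A L (Unit ⊕ Fin n) (Unit ⊕ Fin n) := ⟨R, hR⟩
  haveI : Algebra.IsStandardSmoothOfRelativeDimension 0 A L :=
    ⟨_, _, inferInstance, inferInstance, R', by simp [Algebra.Presentation.dimension]⟩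
  haveI : Algebra.Etale A L := inferInstance
  haveI : Algebra.FinitePresentation A Q :=
    Algebra.FinitePresentation.quotient (Submodule.fg_span (Set.finite_range v))
  have hq : Algebra.IsEtaleAt A q.asIdeal := by
    refine Algebra.mem_etaleLocus_iff.1 ((Algebra.basicOpen_subset_etaleLocus_iff_etale (f := P.jacobian)).2 inferInstance ?_)
    show ¬ ψ P.jacobian = 0
    rw [hψ]
    exact one_ne_zero
  refine ⟨q, ?_, hq⟩
  haveI : Algebra.EssFiniteType A (Localization.AtPrime q.asIdeal) := Algebra.EssFiniteType.comp A Q _
  haveI : Algebra.FormallyUnramified A (Localization.AtPrime q.asIdeal) :=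
    (Algebra.FormallyEtale.iff_formallyUnramified_and_formallySmooth.1 hq).1
  exact inferInstanceAs (Algebra.QuasiFinite A (Localization.AtPrime q.asIdeal))

/-- Let n, d ≥ 1 and let B = A[x_1, …, x_n]/(f_1, …, f_n) be the universal algebra over A = ℤ[a_{i,E}],
f_i = Σ_E a_{i,E} x^E summed over exponent vectors E with |E| ≤ d. Then there is a prime q of B at
which B is quasi-finite over A and étale over A (that is, B_q is quasi-finite and formally étale
over A). (The published statement asserts a dense open V of the quasi-finite locus Y_{n,d} ⊆ Spec B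
that is étale over Spec A; as Spec B is irreducible and the étale locus is open, that amounts to the
existence of one such point, which is what is stated here and what the printed argument exhibits.) -/
theorem result (n d : ℕ) (hn : 1 ≤ n) (hd : 1 ≤ d) : ∃ q : PrimeSpectrum (Synt.UnivAlg n d), Algebra.QuasiFiniteAt (Synt.UnivBase n d) q.asIdeal ∧ Algebra.IsEtaleAt (Synt.UnivBase n d) q.asIdeal := by
  classical
  obtain ⟨φ, hφ⟩ := S8974.result ℚ n d hn hd (fun i => MvPolynomial.X i)
    (fun i => by rw [MvPolynomial.totalDegree_X]; exact hd)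
  obtain ⟨q, h1, h2⟩ := exists_point (univPoly n d) φ hφ
  exact ⟨q, h1, h2⟩

end Groth.Agent.S8973
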