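import Groth.Statements.S8977
import Groth.Agent.HTopUS.Main

set_option autoImplicit false
universe u
open HTop

namespace Groth.Agent.S8977

open CategoryTheory CategoryTheory.Limits AlgebraicGeometry in
/-- For a Noetherian scheme X and a finite family of finite type morphisms X_i → X, the induced morphism
from the coproduct of the X_i to X is universally submersive if and only if the family is an h
covering. -/
theorem result {X : Scheme.{u}} [IsNoetherian X] (E : PreZeroHypercover.{u} X) [Finite E.I₀] [∀ i, LocallyOfFiniteType (E.f i)] [∀ i, QuasiCompact (E.f i)] : SGA1.UnivSubmersive (Sigma.desc E.f) ↔ HTop.IsHCover E := by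
  haveI : LocallyOfFiniteType (Sigma.desc E.f) :=
    IsZariskiLocalAtSource.sigmaDesc (P := @LocallyOfFiniteType) fun i => inferInstance
  haveI : QuasiCompact (Sigma.desc E.f) := (quasiCompact_iff _).mpr fun U hU hc => by
    have e : (Sigma.desc E.f) ⁻¹' U = ⋃ i, Sigma.ι E.X i '' (E.f i ⁻¹' U) := by
      ext z
      obtain ⟨i, y, rfl⟩ := (sigmaOpenCover E.X).exists_eq z
      simp only [Set.mem_preimage, Set.mem_iUnion]
      constructor
      · intro h
        refine ⟨i, y, ?_, rfl⟩
        change E.f i y ∈ U
        rw [← Sigma.ι_desc E.f i]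
        exact h
      · rintro ⟨j, x, hx, hxy⟩
        change Sigma.desc E.f ((sigmaOpenCover E.X).f i y) ∈ U
        rw [show (sigmaOpenCover E.X).f i y = Sigma.ι E.X j x from hxy.symm]
        change (Sigma.ι E.X j ≫ Sigma.desc E.f) x ∈ U
        rw [Sigma.ι_desc]
        exact hx
    rw [e]
    exact isCompact_iUnion fun i => ((E.f i).isCompact_preimage (U := ⟨U, hU⟩) hc).image (Sigma.ι E.X i).continuous
  refine ⟨fun h => ⟨fun i => inferInstance, (Groth.Agent.HTopCov.isVCover_singleton_sigmaDesc_iff E).1
    (Groth.Agent.HTopCov.isVCover_of_hasValLift _ (Groth.Agent.HTopUS.hasValLift _ h))⟩,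
    fun h => Groth.Agent.HTopCov.univSubmersive_sigmaDesc E h.2⟩

end Groth.Agent.S8977
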