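import Groth.Statements.S8990
import Groth.Agent.HTopPh.Square

set_option autoImplicit false
universe u
open HTop

namespace Groth.Agent.S8990

open CategoryTheory CategoryTheory.Limits AlgebraicGeometry Opposite in
/-- A ph sheaf on schemes over S turns every blow up square (centre a closed subscheme of finite
presentation, X' → X the blowing up, E the inverse image of the centre) into a cartesian square of
sets of sections. -/
theorem result (S : Scheme.{u}) (F : HTop.ShPh S) {E Z X' X : Over S} (e : E ⟶ X') (π : E ⟶ Z) (b : X' ⟶ X) (i : Z ⟶ X) [IsClosedImmersion i.left] [LocallyOfFinitePresentation i.left] (hb : BlowUp.IsBlowUp b.left i.left.ker) (hE : IsPullback e.left π.left b.left i.left) (t : F.obj.obj (op Z)) (s' : F.obj.obj (op X')) (hts : F.obj.map π.op t = F.obj.map e.op s') : ∃! s : F.obj.obj (op X), F.obj.map i.op s = t ∧ F.obj.map b.op s = s' := by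
  haveI : IsProper b.left := Groth.Agent.BlowUpLib.isProper_of_isBlowUp _ hb
    (fun U => Groth.Agent.HTopPh.fg_ker_ideal i.left U)
  have hsupp : ∀ x, x ∈ i.left.ker.support ↔ x ∈ Set.range i.left := fun x => by
    rw [← SetLike.mem_coe, Scheme.Hom.support_ker, i.left.isClosedEmbedding.isClosed_range.closure_eq]
  refine Groth.Agent.HTopPh.existsUnique_glue F e π b i hE (fun x hx => ?_) (fun K _ l₁ l₂ hl hav => ?_) t s' hts
  · obtain ⟨l, hl, -⟩ := hb.2 _ (X.left.fromSpecResidueField x)
      (Groth.Agent.HTopCov.isEffCartier_comap_of_avoid _ _ fun c => by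
        rw [Scheme.fromSpecResidueField_apply, hsupp]
        exact hx)
    refine ⟨l (IsLocalRing.closedPoint (X.left.residueField x)), ?_⟩
    change (l ≫ b.left) _ = x
    rw [hl, Scheme.fromSpecResidueField_apply]
  · exact (hb.2 _ (l₁ ≫ b.left) (Groth.Agent.HTopCov.isEffCartier_comap_of_avoid _ _ fun c => by
      rw [hsupp]
      exact hav c)).unique rfl hl.symm

end Groth.Agent.S8990
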