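import Groth.Statements.S8998
import Groth.Agent.FlatPure.Noeth
import Groth.Agent.FlatPure.QuasiFinite

set_option autoImplicit false
attribute [-instance] CategoryTheory.catToReflQuiver
set_option backward.isDefEq.respectTransparency false
set_option backward.isDefEq.respectTransparency.types false
universe u
open FlatMor

namespace Groth.Agent.S8998

/-- For an affine finite type morphism Spec B → Spec A: if the local ring of A at the prime p is
Noetherian, then a finite B-module is pure along the fibre over p if and only if it is universally
pure along it. -/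
theorem result {A B : Type u} [CommRing A] [CommRing B] [Algebra A B] [Algebra.FiniteType A B] (N : Type u) [AddCommGroup N] [Module B N] [Module.Finite B N] (p : Ideal A) [p.IsPrime] [IsNoetherianRing (Localization.AtPrime p)] : FlatCA.IsPureAlong A B N p ↔ FlatCA.IsUnivPureAlong A B N p := by
  refine ⟨fun hpure => ?_, fun h A' B' N' _ _ _ _ _ _ _ _ _ _ _ _ _ _ f t' t _ _ P _ _ => h A' B' N' f t' t P⟩
  intro A' B' N' _ _ _ _ _ _ _ _ _ _ _ _ _ _ f t' t _ _ P _ himp
  have h : FlatCA.HasImpurity A B N p (fun _ _ _ _ => True) :=
    ⟨A', B', N', inferInstance, inferInstance, inferInstance, inferInstance, inferInstance, inferInstance,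
      inferInstance, inferInstance, inferInstance, inferInstance, inferInstance, inferInstance, inferInstance,
      inferInstance, f, t', t, inferInstance, inferInstance, P, inferInstance, himp, trivial⟩
  obtain ⟨A₁, B₁, N₁, _, _, _, _, _, _, _, _, _, _, _, _, _, _, f₁, t₁', t₁, _, _, P₁, _, himp₁, ⟨_, hnhd⟩⟩ :=
    Groth.Agent.FlatPure.hasImpurity_etaleNhd p (Groth.Agent.FlatPure.hasImpurity_quasiFinite p h)
  exact hpure A₁ B₁ N₁ f₁ t₁' t₁ P₁ hnhd himp₁

end Groth.Agent.S8998
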