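import Groth.Statements.S9000
import Groth.Agent.FlatPure.Contract
import Groth.Agent.Hensel.NbhdPoints
import Groth.Agent.S0506
import Groth.Agent.S0509

set_option autoImplicit false
attribute [-instance] CategoryTheory.catToReflQuiver
set_option backward.isDefEq.respectTransparency false
set_option backward.isDefEq.respectTransparency.types false
universe u
open FlatMor

namespace Groth.Agent.S9000

open IsLocalRing in
/-- For Spec B → Spec A of finite type, a finite B-module N and a prime p of A, an impurity of N above p
over an elementary etale neighbourhood of (A, p) yields an impurity of N above p over the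
henselization of the local ring of A at p, based at its closed point. (The other implications of the
published equivalence are separate results: from the henselization to an elementary etale
neighbourhood, and between elementary etale neighbourhoods and base rings quasi-finite at the
point.) -/
theorem result {A B : Type u} [CommRing A] [CommRing B] [Algebra A B] [Algebra.FiniteType A B] (N : Type u) [AddCommGroup N] [Module B N] [Module.Finite B N] (p : Ideal A) [p.IsPrime] (h : FlatCA.HasImpurity A B N p (fun A' _ _ t => ∃ _ : t.IsPrime, FlatCA.IsEtaleNhd A A' p t)) : FlatCA.HasImpurity A B N p (fun A' _ _ t => ∃ (_ : IsLocalRing A') (_ : Algebra (Localization.AtPrime p) A') (_ : IsScalarTower A (Localization.AtPrime p) A') (_ : IsLocalHom (algebraMap (Localization.AtPrime p) A')), Hensel.IsHenselization (Localization.AtPrime p) A' ∧ t = maximalIdeal A') := by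
  classical
  obtain ⟨A', B', N', _, _, _, _, _, _, _, _, _, _, _, _, _, _, f, t', t, _, _, P, _, himp, ⟨_, hnhd⟩⟩ := h
  obtain ⟨het, htp, hκ⟩ := hnhd
  haveI := het; haveI := htp
  obtain ⟨-, -, hle, -⟩ := id himp
  obtain ⟨Rh, _, _, _, _, hh⟩ := Groth.Agent.S0506.result (Localization.AtPrime p)
  haveI := hh
  letI : Algebra A Rh :=
    ((algebraMap (Localization.AtPrime p) Rh).comp (algebraMap A (Localization.AtPrime p))).toAlgebra
  haveI : IsScalarTower A (Localization.AtPrime p) Rh := IsScalarTower.of_algebraMap_eq' rfl
  obtain ⟨φ, hφ, -⟩ := Groth.Agent.Hensel.existsUnique_algHom_henz A p Rh (S := A') t htp.over hκ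
  letI : Algebra A' Rh := φ.toRingHom.toAlgebra
  haveI : IsScalarTower A A' Rh := IsScalarTower.of_algebraMap_eq fun x => (φ.commutes x).symm
  haveI : Module.FaithfullyFlat (Localization.AtPrime p) Rh :=
    Groth.Agent.S0509.result (Localization.AtPrime p) Rh
  haveI : Module.Flat A (Localization.AtPrime p) := IsLocalization.flat _ p.primeCompl
  haveI : Module.Flat A Rh := Module.Flat.trans A (Localization.AtPrime p) Rh
  haveI : Module.Flat A' Rh := Algebra.FormallyUnramified.flat_of_restrictScalars A A' Rh
  haveI : (IsLocalRing.maximalIdeal Rh).LiesOver t := ⟨hφ.symm⟩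
  obtain ⟨s', hs', hs'p, hs't⟩ :=
    Ideal.exists_ideal_le_liesOver_of_le (R := A') (S := Rh) (IsLocalRing.maximalIdeal Rh) hle
  haveI := hs'p; haveI := hs't
  obtain ⟨B₂, N₂, _, _, _, _, _, _, _, _, _, _, _, _, f₂, P₂, _, himp₂⟩ :=
    Groth.Agent.FlatPure.impurity_up himp Rh s' (IsLocalRing.maximalIdeal Rh) hs'
  exact ⟨Rh, B₂, N₂, inferInstance, inferInstance, inferInstance, inferInstance, inferInstance, inferInstance,
    inferInstance, inferInstance, inferInstance, inferInstance, inferInstance, inferInstance, inferInstance,
    inferInstance, f₂, s', IsLocalRing.maximalIdeal Rh, inferInstance, inferInstance, P₂, inferInstance,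
    himp₂, inferInstance, inferInstance, inferInstance, inferInstance, hh, rfl⟩

end Groth.Agent.S9000
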