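import Groth.Statements.S9006
import Groth.Agent.EtDescX.SubtrLimit
import Groth.Agent.EtDescX.HRefine
import Groth.Agent.HTopCov.Sheaf

set_option autoImplicit false
universe w u
open HTop

namespace Groth.Agent.S9006

set_option backward.isDefEq.respectTransparency false
set_option backward.isDefEq.respectTransparency.types false


open CategoryTheory CategoryTheory.Limits AlgebraicGeometry in
/-- A standard h covering of an affine scheme written as a cofiltered limit of affine schemes is, up to
isomorphism of families over the limit, the base change of a standard h covering of one of the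
schemes in the system. (The further parts of the published statement, on descending morphisms of
such coverings and equalities between them, are not stated here.) -/
theorem result {I : Type u} [SmallCategory I] [IsCofiltered I] (D : I ⥤ Scheme.{u}) [∀ i, IsAffine (D.obj i)] (c : Cone D) (hc : IsLimit c) [IsAffine c.pt] (V : PreZeroHypercover.{w} c.pt) (hV : HTop.IsStandardH V) : ∃ (i : I) (W : PreZeroHypercover.{w} (D.obj i)), HTop.IsStandardH W ∧ ∃ (σ : V.I₀ ≃ W.I₀) (e : ∀ j, V.X j ≅ pullback (c.π.app i) (W.f (σ j))), ∀ j, (e j).hom ≫ pullback.fst (c.π.app i) (W.f (σ j)) = V.f j := by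
  classical
  haveI := hV.finite_index
  haveI := hV.isAffine_obj
  haveI : ∀ {i j : I} (f : i ⟶ j), IsAffineHom (D.map f) := fun f => inferInstance
  haveI : ∀ i, CompactSpace (D.obj i) := fun _ => inferInstance
  haveI : ∀ i, QuasiSeparatedSpace (D.obj i) := fun _ => inferInstance
  have hval : HTop.HasValLift V := fun R _ _ g => by
    obtain ⟨F, hF, hr⟩ := hV.isVCover ⟨⊤, isAffineOpen_top c.pt⟩
    obtain ⟨R', hR, hR', φ, hφ, j, l, hl⟩ := hF.lift R (g ≫ c.pt.topIso.inv)
    obtain ⟨i, h, hh⟩ := hr j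
    refine ⟨R', hR, hR', φ, hφ, i, l ≫ h, ?_⟩
    rw [Category.assoc, hh, reassoc_of% hl]
    exact congrArg _ ((Category.assoc _ _ _).trans ((congrArg (g ≫ ·) c.pt.topIso.inv_hom_id).trans (Category.comp_id g)))
  -- affine models at a stage
  obtain ⟨i₀⟩ := IsCofiltered.nonempty (C := I)
  have hmod : ∀ j : V.I₀, ∃ (i : I) (X : Scheme.{u}) (f : X ⟶ D.obj i) (g : V.X j ⟶ X),
      ConsPropLib.IsModel (V.f j) i f g ∧ IsAffine X := fun j => by
    haveI := hV.finitePresentation j
    haveI : QuasiCompact (V.f j) := quasiCompact_of_compactSpace _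
    obtain ⟨i, X, f, g, hm⟩ := ConsPropLib.hasModel hc (V.f j)
    haveI := hm.qc; haveI := hm.qs
    obtain ⟨k, φ, hk⟩ := MorLib.Desc.descend D c hc i MorLib.Desc.core_affine f trivial
      (MorLib.Desc.of_two @IsAffineHom hm.sq (IsPullback.of_hasPullback _ _) (isAffineHom_of_isAffine (V.f j)))
    exact ⟨k, _, _, _, hm.pushed φ, isAffine_of_isAffineHom (pullback.snd f (D.map φ))⟩
  choose st X f g hm hX using hmod
  obtain ⟨n, ⟨e⟩⟩ := Finite.exists_equiv_fin V.I₀
  obtain ⟨i, hi⟩ := IsCofiltered.inf_objs_exists (insert i₀ (Finset.univ.image fun a : Fin n => st (e.symm a)))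
  let ψ : ∀ j, i ⟶ st j := fun j => (hi (X := st j) (Finset.mem_insert_of_mem
    (Finset.mem_image.2 ⟨e j, Finset.mem_univ _, by rw [e.symm_apply_apply]⟩))).some
  let Wi : ∀ j, Scheme.{u} := fun j => pullback (f j) (D.map (ψ j))
  let wi : ∀ j, Wi j ⟶ D.obj i := fun j => pullback.snd (f j) (D.map (ψ j))
  have hwi : ∀ j, IsAffine (Wi j) := fun j => by
    haveI := hX j
    show IsAffine (pullback (f j) (D.map (ψ j)))
    infer_instance
  have hwl : ∀ j, LocallyOfFinitePresentation (wi j) := fun j => ((hm j).pushed (ψ j)).lfp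
  have hwp : ∀ j, IsPullback ((hm j).push (ψ j)) (V.f j) (wi j) (c.π.app i) := fun j => ((hm j).pushed (ψ j)).sq
  -- the covering property at a later stage
  let K : Type u := ULift.{u} (Fin n)
  let f₀ : (∐ fun a : K => Wi (e.symm a.down)) ⟶ D.obj i := Sigma.desc fun a => wi (e.symm a.down)
  haveI : LocallyOfFinitePresentation f₀ := IsZariskiLocalAtSource.sigmaDesc fun a => hwl _
  haveI : ∀ a : K, IsAffine (Wi (e.symm a.down)) := fun a => hwi _
  haveI : IsAffine c.pt := inferInstance
  have hsub : Subtr.UnivSSubtrusive (pullback.snd f₀ (c.π.app i)) :=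
    EtDescX.univSSubtrusive_of_valLift _ fun R _ _ g₀ => by
      obtain ⟨R', hR, hR', φ, hφ, j, l, hl⟩ := hval R g₀
      obtain ⟨a, rfl⟩ := e.symm.surjective j
      refine ⟨R', hR, hR', φ, pullback.lift (l ≫ (hm _).push (ψ _) ≫ Sigma.ι (fun a : K => Wi (e.symm a.down)) ⟨a⟩)
        (Spec.map φ ≫ g₀) ?_, hφ, pullback.lift_snd _ _ _⟩
      simp only [Category.assoc, f₀, Sigma.ι_desc, (hwp _).w]
      rw [reassoc_of% hl]
  obtain ⟨k, φ, hk⟩ := MorLib.Desc.descend D c hc i EtDescX.core_univSSubtrusive f₀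
    (show LocallyOfFinitePresentation f₀ from inferInstance) hsub
  let W : PreZeroHypercover.{w} (D.obj k) :=
    ⟨V.I₀, fun j => pullback (wi j) (D.map φ), fun j => pullback.snd (wi j) (D.map φ)⟩
  haveI : ∀ j, IsAffine (W.X j) := fun j => by
    haveI := hwi j
    show IsAffine (pullback (wi j) (D.map φ))
    infer_instance
  have hW : HTop.IsStandardV W := ⟨inferInstance, hV.finite_index, inferInstance, fun R _ _ g₀ => by
    obtain ⟨R', hR, hR', ρ, l, hρ, hl⟩ := EtDescX.valLift_of_univSSubtrusive _ hk R g₀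
    obtain ⟨⟨a, z⟩, hz⟩ := (sigmaMk fun a : K => Wi (e.symm a.down)).surjective
      ((l ≫ pullback.fst f₀ (D.map φ)) (IsLocalRing.closedPoint R'))
    obtain ⟨l', hl'⟩ := HTopCov.exists_lift_of_closedPoint (Sigma.ι (fun a : K => Wi (e.symm a.down)) a)
      (l ≫ pullback.fst f₀ (D.map φ)) ⟨z, (sigmaMk_mk _ _ _).symm.trans hz⟩
    refine ⟨R', hR, hR', ρ, hρ, e.symm a.down, pullback.lift l' (Spec.map ρ ≫ g₀) ?_, pullback.lift_snd _ _ _⟩
    have h2 := congrArg (· ≫ f₀) hl'
    simp only [Category.assoc, f₀, Sigma.ι_desc, pullback.condition] at h2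
    rw [h2, reassoc_of% hl, Category.assoc]⟩
  refine ⟨k, W, ⟨inferInstance, hV.finite_index, inferInstance, fun j => ?_, HTopCov.isVCover_of_standardV hW⟩, Equiv.refl _, ?_⟩
  · haveI := hwl j
    exact MorphismProperty.pullback_snd (P := @LocallyOfFinitePresentation) _ _ (hwl j)
  · have sq : ∀ j, IsPullback (V.f j) (((hm j).pushed (ψ j)).push φ) (c.π.app k) (W.f j) := fun j =>
      (((hm j).pushed (ψ j)).pushed φ).sq.flip
    exact ⟨fun j => (sq j).isoPullback, fun j => (sq j).isoPullback_hom_fst⟩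

end Groth.Agent.S9006
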