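import Groth.Statements.S9008
import Mathlib.RingTheory.IsTensorProduct

set_option autoImplicit false
universe u
open FlatMor

namespace Groth.Agent.S9008

/-- For Spec B → Spec A affine of finite type: a finite B-module is universally pure along the fibre
over a prime p of A exactly when every base change of it along a ring map A → A' is pure along the
fibre over every prime of A' above p. -/
theorem result {A B : Type u} [CommRing A] [CommRing B] [Algebra A B] [Algebra.FiniteType A B] (N : Type u) [AddCommGroup N] [Module B N] [Module.Finite B N] (p : Ideal A) [p.IsPrime] : FlatCA.IsUnivPureAlong A B N p ↔ ∀ (A' B' N' : Type u) [CommRing A'] [CommRing B'] [Algebra A A'] [Algebra B B'] [Algebra A' B'] [Algebra A B'] [IsScalarTower A B B'] [IsScalarTower A A' B'] [Algebra.IsPushout A B A' B'] [AddCommGroup N'] [Module B' N'] [Module B N'] [IsScalarTower B B' N'] (g : N →ₗ[B] N'), IsBaseChange B' g → ∀ (p' : Ideal A') [p'.IsPrime], p'.LiesOver p → FlatCA.IsPureAlong A' B' N'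 p' := by
  constructor
  · intro h A₁ B₁ N₁ _ _ _ _ _ _ _ _ hpo _ _ _ _ g hg p₁ _ hover A₂ B₂ N₂ _ _ _ _ _ _ _ _ _ _ _ _ _ _ f t' t _ _ P _ _
      ⟨hpo₂, hf, hle, ht, hP, hass, hno⟩
    letI : Algebra A A₂ := ((algebraMap A₁ A₂).comp (algebraMap A A₁)).toAlgebra
    haveI : IsScalarTower A A₁ A₂ := IsScalarTower.of_algebraMap_eq fun _ => rfl
    letI : Algebra B B₂ := ((algebraMap B₁ B₂).comp (algebraMap B B₁)).toAlgebra
    haveI : IsScalarTower B B₁ B₂ := IsScalarTower.of_algebraMap_eq fun _ => rfl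
    letI : Algebra A B₂ := ((algebraMap B B₂).comp (algebraMap A B)).toAlgebra
    haveI : IsScalarTower A B B₂ := IsScalarTower.of_algebraMap_eq fun _ => rfl
    haveI : IsScalarTower A B₁ B₂ := IsScalarTower.of_algebraMap_eq fun x => by
      show algebraMap B₁ B₂ (algebraMap B B₁ (algebraMap A B x)) = _
      rw [← IsScalarTower.algebraMap_apply A B B₁]
    haveI : IsScalarTower A A₂ B₂ := IsScalarTower.of_algebraMap_eq fun x => by
      show algebraMap A B₂ x = algebraMap A₂ B₂ (algebraMap A₁ A₂ (algebraMap A A₁ x))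
      rw [← IsScalarTower.algebraMap_apply A₁ A₂ B₂, IsScalarTower.algebraMap_apply A₁ B₁ B₂,
        ← IsScalarTower.algebraMap_apply A A₁ B₁, IsScalarTower.algebraMap_apply A B₁ B₂]
    letI : Module B N₂ := Module.compHom N₂ (algebraMap B B₁)
    haveI : IsScalarTower B B₁ N₂ := IsScalarTower.of_algebraMap_smul fun _ _ => rfl
    haveI : IsScalarTower B B₂ N₂ := IsScalarTower.of_algebraMap_smul fun b n => by
      show algebraMap B₁ B₂ (algebraMap B B₁ b) • n = algebraMap B B₁ b • n
      rw [algebraMap_smul]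
    haveI : Algebra.IsPushout A A₁ B B₁ := hpo.symm
    haveI : Algebra.IsPushout A₁ A₂ B₁ B₂ := hpo₂.symm
    have hpush : Algebra.IsPushout A A₂ B B₂ :=
      (Algebra.IsPushout.comp_iff A A₁ B B₁ (T := A₂) (T' := B₂)).2 inferInstance
    exact h A₂ B₂ N₂ ((f.restrictScalars B).comp g) t' t P
      ⟨hpush.symm, hg.comp hf, hle, (haveI := ht; haveI := hover; Ideal.LiesOver.trans t p₁ p), hP, hass, hno⟩
  · intro h A₁ B₁ N₁ _ _ _ _ _ _ _ _ _ _ _ _ _ _ f t' t _ _ P _ ⟨hpo, hf, hle, ht, hP, hass, hno⟩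
    refine h A₁ B₁ N₁ f hf t ht A₁ B₁ N₁ LinearMap.id t' t P ⟨inferInstance, ⟨⟨rfl⟩, ?_⟩⟩
      ⟨inferInstance, ?_, hle, ⟨rfl⟩, hP, hass, hno⟩
    · refine ⟨RingHom.injective _, fun y => ⟨y, ?_⟩⟩
      exact congrFun (congrArg DFunLike.coe (Ideal.ResidueField.mapₐ_id (R := A₁) t)) y
    · exact IsBaseChange.of_equiv (TensorProduct.lid B₁ N₁) fun y => by simp

end Groth.Agent.S9008
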