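import Groth.Statements.S9011
import Groth.Agent.UnivInjProj.Basic
import Groth.Agent.AssFiber.Basic
import Groth.Agent.S0582

set_option autoImplicit false
universe u
open FlatMor

namespace Groth.Agent.S9011

open IsLocalRing in
/-- For a local ring R with maximal ideal m, an R-algebra S with S/mS Noetherian and an S-module N with
N/mN finite over S/mS which is projective as an R-module, every element of S that is a
nonzerodivisor on N/mN acts R-universally injectively on N, and the map from N to its localization
at all such elements is R-universally injective. -/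
theorem result {R S : Type u} [CommRing R] [IsLocalRing R] [CommRing S] [Algebra R S] (N : Type u) [AddCommGroup N] [Module S N] [Module R N] [IsScalarTower R S N] [IsNoetherianRing ((maximalIdeal R).Fiber S)] [Module.Finite ((maximalIdeal R).Fiber S) (FlatCA.fiberMod (maximalIdeal R) S N)] [Module.Projective R N] : (∀ s ∈ FlatCA.nzdFiber R S N, FlatCA.UnivInj R ((LinearMap.lsmul S N s).restrictScalars R)) ∧ FlatCA.UnivInj R ((LocalizedModule.mkLinearMap (FlatCA.nzdFiber R S N) N).restrictScalars R) := by
  haveI : Module.Free R N := Groth.Agent.S0582.result R N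
  have key : ∀ s ∈ FlatCA.nzdFiber R S N, FlatCA.UnivInj R ((LinearMap.lsmul S N s).restrictScalars R) := by
    intro s hs Q _ _
    refine Groth.Agent.UnivInjProj.univInj _ (fun n hn => ?_) Q
    have h0 : FlatCA.toFiberMod (maximalIdeal R) (S := S) N (s • n) = 0 :=
      Groth.Agent.AssFiber.toFiberMod_eq_zero_of_mem _ N (Groth.Agent.AssFiber.smul_mem_pN _ N hn)
    rw [map_smul] at h0
    obtain ⟨r, hr, hrn⟩ := Groth.Agent.AssFiber.exists_smul_mem_of_toFiberMod_eq_zero _ (S := S) N (hs _ h0)
    refine Groth.Agent.AssFiber.mem_smul_top_of_mem_pN _ N ((Submodule.smul_mem_iff_of_isUnit _ ?_).1 hrn)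
    exact ((IsLocalRing.notMem_maximalIdeal).1 hr).map _
  refine ⟨key, fun Q _ _ => ?_⟩
  let T := FlatCA.nzdFiber R S N
  have hsm : ∀ (s : S) (w : TensorProduct R N Q), s • w = ((LinearMap.lsmul S N s).restrictScalars R).rTensor Q w := by
    intro s w
    induction w using TensorProduct.induction_on with
    | zero => simp
    | tmul a b => rfl
    | add a b ha hb => rw [smul_add, map_add, ha, hb]
  have hinj : Function.Injective (((LocalizedModule.mkLinearMap T N).restrictScalars R).rTensor Q) := by
    rw [← LinearMap.ker_eq_bot, LinearMap.ker_eq_bot']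
    intro w hw
    obtain ⟨s, hs⟩ := (IsLocalizedModule.eq_zero_iff T
      (TensorProduct.AlgebraTensorModule.rTensor R Q (LocalizedModule.mkLinearMap T N))).1 hw
    rw [Submonoid.smul_def, hsm] at hs
    exact (LinearMap.lTensor_inj_iff_rTensor_inj _ _).1 (key s s.2 Q) (hs.trans (map_zero _).symm)
  exact (LinearMap.lTensor_inj_iff_rTensor_inj _ _).2 hinj

end Groth.Agent.S9011
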