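import Groth.Statements.S9027
import Groth.Agent.RGLib.GenPFlatDim
import Groth.Agent.S9350
import Groth.Agent.AlgSpLib.EtLocalInst
import Groth.Agent.FibDim.AffineSpaceFibre

set_option autoImplicit false
attribute [-instance] CategoryTheory.catToReflQuiver
set_option backward.isDefEq.respectTransparency false
set_option backward.isDefEq.respectTransparency.types false
universe u
open FlatMor

namespace Groth.Agent.S9027

open CategoryTheory CategoryTheory.Limits AlgebraicGeometry Opposite in
/-- For f : X → S locally of finite type, F a quasi-coherent O_X-module of finite type, an etale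
morphism h : X' → X and n ≥ 0, the functor F_n of F over S is a subfunctor of the functor F_n of the
pullback h^*F on X' over S: for every scheme T over S, if the base change F_T on X ×_S T is flat
over T in dimensions ≥ n (transcendence-degree form) then so is the base change of h^*F on X' ×_S T. -/
theorem result {X X' S : Scheme.{u}} (f : X ⟶ S) [LocallyOfFiniteType f] (F : X.Modules) [Coh.IsQCoh F] (hF : CohB1.IsFT F)
    (h : X' ⟶ X) [Etale h] (n : ℕ) (T : Over S)
    (hT : FlatFun.DimFibresLT n (PicF.XTproj f T)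
        {x | ¬ FlatMod.IsFlatOverAt (PicF.XTproj f T) (FGA.ET f F T) x}) :
    FlatFun.DimFibresLT n (PicF.XTproj (h ≫ f) T)
        {x | ¬ FlatMod.IsFlatOverAt (PicF.XTproj (h ≫ f) T) (FGA.ET (h ≫ f) ((Scheme.Modules.pullback h).obj F) T) x} := by
  let k : PicF.XT (h ≫ f) T ⟶ PicF.XT f T :=
    pullback.map (h ≫ f) T.hom f T.hom h (𝟙 _) (𝟙 _) (by simp) (by simp)
  have h₁ : k ≫ pullback.fst f T.hom = pullback.fst (h ≫ f) T.hom ≫ h := pullback.lift_fst _ _ _
  have h₂ : k ≫ PicF.XTproj f T = PicF.XTproj (h ≫ f) T := by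
    simp only [k, PicF.XTproj, pullback.map, pullback.lift_snd, Category.comp_id]
  have hc : IsPullback k (pullback.fst (h ≫ f) T.hom) (pullback.fst f T.hom) h :=
    IsPullback.of_right (by
      have e : k ≫ pullback.snd f T.hom = pullback.snd (h ≫ f) T.hom := h₂
      rw [e]; exact (IsPullback.of_hasPullback (h ≫ f) T.hom).flip) h₁
      (IsPullback.of_hasPullback f T.hom).flip
  haveI : Etale k := MorphismProperty.of_isPullback hc.flip ‹Etale h›
  haveI : LocallyOfFiniteType (PicF.XTproj f T) := Groth.Agent.RGLib.GenPSheaf.lft_snd f T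
  haveI : LocallyOfFiniteType (PicF.XTproj (h ≫ f) T) := Groth.Agent.RGLib.GenPSheaf.lft_snd (h ≫ f) T
  rw [Groth.Agent.RGLib.GenPSheaf.dimFibresLT_iff] at hT ⊢
  intro x hx
  have hrd : Groth.Agent.FibDim.rd (PicF.XTproj (h ≫ f) T) x =
      Groth.Agent.FibDim.rd (PicF.XTproj f T) (k x) := by
    have e := Groth.Agent.FibDim.rd_comp k (PicF.XTproj f T) x
    rw [Groth.Agent.FibDim.rd_eq_zero_of_quasiFinite k x, add_zero] at e
    rw [← e]
    congr 1
    exact h₂.symm
  rw [hrd]
  refine hT (k x) fun hfl => hx ?_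
  have h3 := (Groth.Agent.S9350.result k (PicF.XTproj f T) (FGA.ET f F T)
    (Groth.Agent.QCoh.isQCoh_pullback _ ‹_›) x (Flat.stalkMap k x)).1 hfl
  rw [h₂] at h3
  exact Groth.Agent.GrFlat5.isFlatOverAt_of_iso _ ((Scheme.Modules.pullbackComp k (pullback.fst f T.hom) ≪≫
      Scheme.Modules.pullbackCongr h₁ ≪≫ (Scheme.Modules.pullbackComp (pullback.fst (h ≫ f) T.hom) h).symm).app F) x h3

end Groth.Agent.S9027
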