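import Groth.Statements.S9032
import Groth.Agent.FlatHens.Chart
import Groth.Agent.S4863
import Groth.Agent.RGLib.Lim8Zero
import Groth.Agent.QCoh.FT

set_option autoImplicit false
attribute [-instance] CategoryTheory.catToReflQuiver
set_option backward.isDefEq.respectTransparency false
set_option backward.isDefEq.respectTransparency.types false
universe u
open FlatMor

namespace Groth.Agent.S9032

open CategoryTheory CategoryTheory.Limits AlgebraicGeometry Opposite in
/-- Let A be a henselian local ring, s the closed point of S = Spec A, f : X → S a morphism locally of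
finite type, F a quasi-coherent O_X-module of finite type and E a subset of the closed fibre X_s.
Then there is a closed subscheme Z = V(I) of S with the following property: for every morphism of
pointed schemes (T, t) → (S, s), the base change F_T on X_T = X ×_S T is T-flat at each point over t
whose image in X lies in E if and only if Spec(O_{T,t}) → S factors through Z, that is, the map A →
O_{T,t} sends I to zero. Assume in addition that the morphism f is locally finitely presented, that
the module F is finitely presented, and that the subset E is both quasi-compact and closed; in that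
case the closed immersion Z → S is finitely presented, meaning the ideal I is finitely generated. -/
theorem result {A : Type u} [CommRing A] [HenselianLocalRing A] {X : Scheme.{u}} (f : X ⟶ Spec (CommRingCat.of A))
    [LocallyOfFiniteType f] (F : X.Modules) [Coh.IsQCoh F] (hF : CohB1.IsFT F)
    (E : Set X) (hE : ∀ x ∈ E, f.base x = IsLocalRing.closedPoint A) :
    ∃ I : Ideal A,
      (∀ (T : Scheme.{u}) (g : T ⟶ Spec (CommRingCat.of A)) (t : T), g.base t = IsLocalRing.closedPoint A →
        ((∀ x' : ↑(pullback f g), (pullback.snd f g).base x' = t → (pullback.fst f g).base x' ∈ E →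
            FlatMod.IsFlatOverAt (pullback.snd f g) ((Scheme.Modules.pullback (pullback.fst f g)).obj F) x') ↔
          ∀ a ∈ I, (T.presheaf.germ ⊤ t trivial).hom
            (g.appTop.hom ((Scheme.ΓSpecIso (CommRingCat.of A)).inv.hom a)) = 0)) ∧
      (LocallyOfFinitePresentation f → CohB1.IsFP F → IsClosed E → IsCompact E → I.FG) := by
  classical
  haveI : Coh.IsQCoh F := ‹_›
  choose U hU hxU hU' using fun x : E => exists_isAffineOpen_mem_and_subset (U := ⊤) (x := (x : X)) trivial
  have hex : ∀ x : E, ∃ J : Ideal A, (letI := (FlatHens.chartMap f (U x)).toAlgebra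
      FlatHens.Flattens A ((hU x).primeIdealOf ⟨x, hxU x⟩).asIdeal Γ(F, U x) J) := fun x => by
    letI := (FlatHens.chartMap f (U x)).toAlgebra
    haveI : Algebra.FiniteType A Γ(X, U x) := (f.finiteType_appLE (isAffineOpen_top _) (hU x) le_top).comp
      (RingHom.FiniteType.of_surjective _
        (ConcreteCategory.bijective_of_isIso (Scheme.ΓSpecIso (CommRingCat.of A)).inv).2)
    haveI : Module.Finite Γ(X, U x) Γ(F, U x) := QCoh.finite_of_isFT inferInstance hF (hU x)
    exact FlatHens.exists_flattens_at Γ(F, U x) _ (by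
      show ((hU x).primeIdealOf ⟨x, hxU x⟩).asIdeal.comap (FlatHens.chartMap f (U x)) = _
      rw [FlatHens.comap_chartMap f (hU x) (hxU x), hE x x.2]
      rfl)
  choose J hJ using hex
  have hchar := fun (x : E) (T : Scheme.{u}) (g : T ⟶ Spec (CommRingCat.of A)) (t : T)
    (ht : g.base t = IsLocalRing.closedPoint A) =>
      FlatHens.chart_iff f (F := F) inferInstance (hU x) (hxU x) (hJ x) g t ht
  refine ⟨⨆ x : E, J x, fun T g t ht => ?_, fun hlfp hfp _ hcpt => ?_⟩
  · let ψ : A →+* T.presheaf.stalk t :=
      (T.presheaf.germ ⊤ t trivial).hom.comp (g.appTop.hom.comp (Scheme.ΓSpecIso (CommRingCat.of A)).inv.hom)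
    show _ ↔ (⨆ x : E, J x) ≤ RingHom.ker ψ
    rw [iSup_le_iff]
    refine ⟨fun H x a ha => (hchar x T g t ht).1 (fun x' h1 h2 => H x' h1 ?_) a ha, fun H x' h1 h2 => ?_⟩
    · show pullback.fst f g x' ∈ E
      rw [h2]; exact x.2
    · exact (hchar ⟨_, h2⟩ T g t ht).2 (fun a ha => H ⟨_, h2⟩ ha) x' h1 rfl
  · haveI := hlfp
    have hfg : ∀ x : E, (J x).FG := fun x => by
      letI := (FlatHens.chartMap f (U x)).toAlgebra
      haveI : Algebra.FinitePresentation A Γ(X, U x) :=
        (f.finitePresentation_appLE (isAffineOpen_top _) (hU x) le_top).comp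
          (RingHom.FinitePresentation.of_bijective
            (ConcreteCategory.bijective_of_isIso (Scheme.ΓSpecIso (CommRingCat.of A)).inv))
      haveI : Module.FinitePresentation Γ(X, U x) Γ(F, U x) := QCoh.finitePresentation_of_isFP hfp (hU x)
      exact FlatHens.fg_of_flattens Γ(F, U x) _ (by
        show ((hU x).primeIdealOf ⟨x, hxU x⟩).asIdeal.comap (FlatHens.chartMap f (U x)) = _
        rw [FlatHens.comap_chartMap f (hU x) (hxU x), hE x x.2]
        rfl) (hJ x)
    have hle : ∀ x : E, J x ≤ IsLocalRing.maximalIdeal A := fun x => by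
      letI := (FlatHens.chartMap f (U x)).toAlgebra
      exact (hJ x).le_maximal
    -- near `x` the ideals are contained in `J x`
    have hnhd : ∀ x : E, ∃ V : Set X, IsOpen V ∧ (x : X) ∈ V ∧ ∀ y : E, (y : X) ∈ V → J y ≤ J x := fun x => by
      haveI : Nontrivial (A ⧸ J x) := Ideal.Quotient.nontrivial_iff.2
        (ne_top_of_le_ne_top (IsLocalRing.maximalIdeal.isMaximal A).ne_top (hle x))
      haveI : IsLocalRing (A ⧸ J x) := IsLocalRing.of_surjective' _ Ideal.Quotient.mk_surjective
      haveI : IsLocalHom (Ideal.Quotient.mk (J x)) := IsLocalHom.of_surjective _ Ideal.Quotient.mk_surjective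
      let T : Scheme.{u} := Spec (CommRingCat.of (A ⧸ J x))
      let g : T ⟶ Spec (CommRingCat.of A) := Spec.map (CommRingCat.ofHom (Ideal.Quotient.mk (J x)))
      haveI : IsClosedImmersion g := IsClosedImmersion.spec_of_surjective _ Ideal.Quotient.mk_surjective
      let t : T := IsLocalRing.closedPoint (A ⧸ J x)
      have ht : g.base t = IsLocalRing.closedPoint A := IsLocalRing.comap_closedPoint _
      have hzero : ∀ a : A, (T.presheaf.germ ⊤ t trivial).hom
          (g.appTop.hom ((Scheme.ΓSpecIso (CommRingCat.of A)).inv.hom a)) = 0 ↔ a ∈ J x := fun a => by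
        have h1 : g.appTop.hom ((Scheme.ΓSpecIso (CommRingCat.of A)).inv.hom a) =
            (Scheme.ΓSpecIso (CommRingCat.of (A ⧸ J x))).inv.hom (Ideal.Quotient.mk (J x) a) :=
          congr($(Scheme.ΓSpecIso_inv_naturality (CommRingCat.ofHom (Ideal.Quotient.mk (J x)))) a).symm
        letI : Algebra (A ⧸ J x) (T.presheaf.stalk t) :=
          ((T.presheaf.germ ⊤ t trivial).hom.comp (Scheme.ΓSpecIso (CommRingCat.of (A ⧸ J x))).inv.hom).toAlgebra
        haveI : IsLocalization.AtPrime (T.presheaf.stalk t) t.asIdeal :=
          inferInstanceAs (IsLocalization.AtPrime ((structurePresheafInCommRingCat (A ⧸ J x)).stalk t) t.asIdeal)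
        rw [h1]
        show algebraMap (A ⧸ J x) (T.presheaf.stalk t) (Ideal.Quotient.mk (J x) a) = 0 ↔ _
        rw [IsLocalization.map_eq_zero_iff t.asIdeal.primeCompl]
        refine ⟨fun ⟨c, hc⟩ => ?_, fun ha => ⟨1, by rw [Ideal.Quotient.eq_zero_iff_mem.2 ha, mul_zero]⟩⟩
        exact Ideal.Quotient.eq_zero_iff_mem.1
          ((IsLocalRing.notMem_maximalIdeal.1 c.2).mul_right_eq_zero.1 hc)
      haveI : LocallyOfFinitePresentation (pullback.snd f g) := inferInstance
      haveI : Coh.IsQCoh ((Scheme.Modules.pullback (pullback.fst f g)).obj F) := QCoh.isQCoh_pullback _ inferInstance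
      have hopen := Groth.Agent.S4863.result (pullback.snd f g)
        ((Scheme.Modules.pullback (pullback.fst f g)).obj F)
        (hF := RGLib.Lim8.isFP_pullback (pullback.fst f g) inferInstance hfp)
      obtain ⟨xb, hxb, hxt⟩ := Scheme.Pullback.exists_preimage_pullback (f := f) (g := g) (x : X) t
        ((hE x x.2).trans ht.symm)
      obtain ⟨V, hV, hVeq⟩ := (pullback.fst f g).isClosedEmbedding.isInducing.isOpen_iff.1 hopen
      refine ⟨V, hV, ?_, fun y hy a ha => ?_⟩
      · rw [← hxb]
        show xb ∈ (pullback.fst f g) ⁻¹' V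
        rw [hVeq]
        exact (hchar x T g t ht).2 (fun a ha => (hzero a).2 ha) xb hxt hxb
      · refine (hzero a).1 ((hchar y T g t ht).1 (fun x' _ h2 => ?_) a ha)
        have hx' : x' ∈ (pullback.fst f g) ⁻¹' V := by
          show pullback.fst f g x' ∈ V
          rw [h2]; exact hy
        rw [hVeq] at hx'
        exact hx'
    choose V hV hxV hJV using hnhd
    obtain ⟨s, hs⟩ := hcpt.elim_finite_subcover V hV fun y hy => Set.mem_iUnion.2 ⟨⟨y, hy⟩, hxV ⟨y, hy⟩⟩
    have heq : (⨆ x : E, J x) = s.sup J := le_antisymm (iSup_le fun y => by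
      obtain ⟨x, hxs, hyx⟩ := Set.mem_iUnion₂.1 (hs y.2)
      exact (hJV x y hyx).trans (Finset.le_sup hxs)) (Finset.sup_le fun x _ => le_iSup J x)
    rw [heq]
    exact Finset.sup_induction Submodule.fg_bot (fun _ h _ h' => Submodule.FG.sup h h') fun x _ => hfg x

end Groth.Agent.S9032
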