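import Groth.Statements.S9036
import Groth.Agent.ModTensor.FreeOn
import Groth.Agent.SiteBase.QcCoprod
import Groth.Agent.SiteBase.ModGroth
import Groth.Agent.CompactRes7.Finite

set_option autoImplicit false
universe u
open CategoryTheory CategoryTheory.Limits Opposite
open ModSite

namespace Groth.Agent.S9036
open CategoryTheory.Limits Opposite

/-- Let (C, O) be a ringed site in which every object has a covering by quasi-compact objects (an object
U is called quasi-compact here when the sheaf h_U^# is a quasi-compact object of the topos, which is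
equivalent to the site-level definition). Then every compact object of D(O) is a retract in D(O) of
the image of a bounded complex whose terms are finite direct sums of modules of the form j_{U!} O_U
with U quasi-compact. The derived category of O-modules, direct sums in it and finite biproducts of
O-modules (automatic) are instance hypotheses. -/
theorem result
    {C : Type u} [SmallCategory C] {J : GrothendieckTopology C} (O : Sheaf J CommRingCat.{u})
    [HasFiniteBiproducts (ModSite.Mod O)]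
    [HasDerivedCategory.{u} (ModSite.Mod O)] [HasCoproducts.{u} (DerivedCategory (ModSite.Mod O))]
    (hC : ∀ V : C, ∃ R ∈ J V, ∀ ⦃W : C⦄ (g : W ⟶ V), R g →
      ∃ (U : C) (a : W ⟶ U) (b : U ⟶ V), CohCx.IsQcObject ((presheafToSheaf J (Type u)).obj (yoneda.obj U)) ∧ a ≫ b = g)
    (K : DerivedCategory (ModSite.Mod O)) (hK : CohDer.IsCompactObject K) :
    ∃ (L : CochainComplex (ModSite.Mod O) ℤ) (a b : ℤ),
      (∀ i : ℤ, i < a ∨ b < i → IsZero (L.X i)) ∧
      (∀ i : ℤ, ∃ (n : ℕ) (U : Fin n → C),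
        (∀ j, CohCx.IsQcObject ((presheafToSheaf J (Type u)).obj (yoneda.obj (U j)))) ∧
        Nonempty (L.X i ≅ ⨁ fun j => ModSite.freeOn O (U j))) ∧
      Nonempty (Retract K (DerivedCategory.Q.obj L)) := by
  classical
  let Q : Set C := {U | CohCx.IsQcObject ((presheafToSheaf J (Type u)).obj (yoneda.obj U))}
  have hG : ∀ X : C, ∃ (ι : Type u) (Y : ι → C) (f : ∀ i, Y i ⟶ X), Sieve.ofArrows Y f ∈ J X ∧ ∀ i, Y i ∈ Q := by
    intro X
    obtain ⟨R, hR, hfac⟩ := hC X
    refine ⟨Σ U : {U : C // U ∈ Q}, (U.1 ⟶ X), fun a => a.1.1, fun a => a.2, ?_, fun a => a.1.2⟩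
    refine J.superset_covering (fun W g hg => ?_) hR
    obtain ⟨U, a, b, hU, rfl⟩ := hfac g hg
    exact ⟨U, a, b, Presieve.ofArrows.mk (⟨⟨U, hU⟩, b⟩ : Σ U : {U : C // U ∈ Q}, (U.1 ⟶ X)), rfl⟩
  have hsep := Groth.Agent.ModTensor.isSeparating_freeOn (O := O) Q hG
  let S : Set (ModSite.Mod O) := {M | ∃ U ∈ Q, M = ModSite.freeOn O U}
  have h1 : ∀ M : ModSite.Mod O, ∃ (ι : Type u) (E : ι → ModSite.Mod O) (π : ∐ E ⟶ M), (∀ i, E i ∈ S) ∧ Epi π := by
    intro M
    refine ⟨Σ U : Q, (ModSite.freeOn O U.1 ⟶ M), fun a => ModSite.freeOn O a.1.1, Sigma.desc fun a => a.2,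
      fun a => ⟨a.1.1, a.1.2, rfl⟩, ⟨fun {Z} g h e => hsep _ _ (by
        rintro _ ⟨U⟩ φ
        have := congrArg (Sigma.ι (fun a : (Σ U : Q, (ModSite.freeOn O U.1 ⟶ M)) => ModSite.freeOn O a.1.1) ⟨U, φ⟩ ≫ ·) e
        simpa using this)⟩⟩
  have h2 : ∀ E ∈ S, ∀ ι : Type u, PreservesColimitsOfShape (Discrete ι) (preadditiveCoyoneda.obj (op E)) := by
    rintro E ⟨U, hU, rfl⟩ ι
    exact Groth.Agent.SiteBase.preservesCoproducts_hom_freeOn hU ι
  obtain ⟨P, a, b, hz, hP, ⟨r⟩⟩ := Groth.Agent.CompactRes7.exists_finite h2 h1 hK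
  refine ⟨P, a, b, hz, fun i => ?_, ⟨r⟩⟩
  obtain ⟨n, E, hE, ⟨e⟩⟩ := hP i
  choose U hU hEU using hE
  obtain rfl : E = fun j => ModSite.freeOn O (U j) := funext hEU
  exact ⟨n, U, hU, ⟨e⟩⟩

end Groth.Agent.S9036
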