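import Groth.Statements.S9037
import Groth.Agent.CompactGen.FiniteDim
import Groth.Agent.SiteBase.QcCoprod
import Groth.Agent.H9Misc.DerCompTel
import Groth.Agent.ModTensor.Flat
import Groth.Agent.SiteBase.ModGroth
import Mathlib.CategoryTheory.Sites.EpiMono

set_option autoImplicit false
universe u
open CategoryTheory CategoryTheory.Limits Opposite
open ModSite

namespace Groth.Agent.S9037
set_option backward.isDefEq.respectTransparency false
set_option backward.isDefEq.respectTransparency.types false
set_option linter.style.haveILetI false
open Opposite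

/-- On a ringed site (C, O), if U is a quasi-compact object (h_U^# is a quasi-compact object of the
topos, which is equivalent to the site-level notion) which is weakly contractible, then j_{U!} O_U,
placed in degree zero, is a compact object of the derived category D(O). The derived category of
O-modules and direct sums in it are instance hypotheses. -/
theorem result
    {C : Type u} [SmallCategory C] {J : GrothendieckTopology C} (O : Sheaf J CommRingCat.{u})
    [HasDerivedCategory.{u} (ModSite.Mod O)] [HasCoproducts.{u} (DerivedCategory (ModSite.Mod O))]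
    (U : C) (hqc : CohCx.IsQcObject ((presheafToSheaf J (Type u)).obj (yoneda.obj U)))
    (hwc : CohSite.IsWeaklyContractible J U) :
    CohDer.IsCompactObject ((DerivedCategory.singleFunctor (ModSite.Mod O) 0).obj (ModSite.freeOn O U)) := by
  classical
  let G := ModSite.freeOn O U
  have hlift : ∀ {M N : ModSite.Mod O} (π : M ⟶ N) [Epi π] (φ : G ⟶ N), ∃ ψ : G ⟶ M, ψ ≫ π = φ := by
    intro M N π _ φ
    let πAb := (SheafOfModules.toSheaf (ModSite.ringSh O)).map π
    have h := (Sheaf.isLocallySurjective_iff_epi' _ πAb).2 inferInstance
    let ψ := (sheafCompose J (forget AddCommGrpCat.{u})).map πAb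
    haveI : Sheaf.IsLocallySurjective ψ :=
      (Presheaf.isLocallySurjective_iff_whisker_forget J πAb.hom).1 h
    obtain ⟨s, hs⟩ := hwc _ _ ψ (Sheaf.epi_of_isLocallySurjective _)
      (Groth.Agent.H9Misc.DerCompTel.secOn U N φ)
    refine ⟨(Groth.Agent.H9Misc.DerCompTel.secOn U M).symm s,
      (Groth.Agent.H9Misc.DerCompTel.secOn U N).injective ?_⟩
    rw [Groth.Agent.H9Misc.DerCompTel.secOn_comp, Equiv.apply_symm_apply]
    exact hs
  intro I M
  haveI : EnoughInjectives (ModSite.Mod O) := IsGrothendieckAbelian.enoughInjectives
  have hG : Groth.Agent.CompactGen.Setup G I :=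
    { Q := fun _ => True
      iso := fun _ _ => trivial
      inj := fun _ _ => trivial
      sum := fun _ _ => trivial
      X₃ := fun _ _ _ => trivial
      lift := fun {S} hS _ φ => by
        haveI := hS.epi_g
        exact hlift S.g φ
      fix := fun N g => by
        let u₀ : ModSite.sect G U := Groth.Agent.H9Misc.DerCompTel.secOn U G (𝟙 G)
        obtain ⟨F, hF⟩ := Groth.Agent.SiteBase.coprod_finite_sum hqc N (Groth.Agent.H9Misc.DerCompTel.secOn U _ g)
        refine ⟨F, (Groth.Agent.H9Misc.DerCompTel.secOn U _).injective ?_⟩
        rw [Groth.Agent.H9Misc.DerCompTel.secOn_comp]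
        conv_lhs => rw [hF]
        conv_rhs => rw [hF]
        rw [map_sum]
        refine Finset.sum_congr rfl fun i hi => ?_
        show (((Sigma.ι N i ≫ Groth.Agent.CompactGen.partProj N F)).val.app (op U)).hom _ = _
        rw [Groth.Agent.CompactGen.ι_partProj_mem N hi] }
  let hd : Groth.Agent.CompactGen.Dim G 0 :=
    { P := fun _ _ => True
      top := fun _ _ _ => trivial
      shift := fun _ _ _ _ => trivial
      lift := fun {S} hS _ φ => by
        haveI := hS.epi_g
        exact hlift S.g φ }
  exact Groth.Agent.CompactGen.bijective_of_dim hd hG M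

end Groth.Agent.S9037
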