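import Groth.Statements.S9047
import Groth.Agent.CompactGen.Bounded
import Groth.Agent.ToposFinLib.CovSum
import Groth.Agent.SiteBase.HKRep
import Groth.Agent.SiteBase.ModKill
import Groth.Agent.SiteBase.ModColim
import Groth.Agent.SiteBase.ModGroth
import Groth.Agent.H9Misc.DerCompTel
import Groth.Agent.ModTensor.Flat

set_option autoImplicit false
universe u
open CategoryTheory CategoryTheory.Limits Opposite
open ModSite

namespace Groth.Agent.S9047
set_option backward.isDefEq.respectTransparency false
set_option backward.isDefEq.respectTransparency.types false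
set_option linter.style.haveILetI false
open Opposite Groth.Agent

/-- Let (C, O) be a ringed site with fibre products, B a class of objects and Cov a class of finite
covering families such that (1) for a family in Cov over U, U and all iterated fibre products of its
members lie in B, and (2) every covering sieve of a member of B contains a family from Cov. Then for
U in B the module j_{U!} O_U behaves as a compact object of D^+(O), meaning: for every family (M_i)
of objects of D(O) which is uniformly bounded below and whose direct sum exists, ⊕_i Hom(j_{U!} O_U,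
M_i) → Hom(j_{U!} O_U, ⊕_i M_i) is bijective. The derived category of O-modules is an instance
hypothesis. -/
theorem result
    {C : Type u} [SmallCategory C] [HasPullbacks C] {J : GrothendieckTopology C} (O : Sheaf J CommRingCat.{u})
    (B : Set C) (Cov : ∀ (U : C) (ι : Type u), (ι → Over U) → Prop)
    (h1 : ∀ (U : C) (ι : Type u) (Y : ι → Over U), Cov U ι Y → Finite ι ∧ U ∈ B ∧
      Sieve.ofArrows (fun i => (Y i).left) (fun i => (Y i).hom) ∈ J U ∧
      ∀ (p : ℕ) (a : Fin (p + 1) → ι), (∏ᶜ fun k => Y (a k)).left ∈ B)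
    (h2 : ∀ U ∈ B, ∀ T ∈ J U, ∃ (ι : Type u) (Y : ι → Over U), Cov U ι Y ∧ ∀ i, T.arrows (Y i).hom)
    [HasDerivedCategory.{u} (ModSite.Mod O)]
    (U : C) (hU : U ∈ B) {I : Type u} (M : I → DerivedCategory (ModSite.Mod O)) [HasCoproduct M]
    (a : ℤ) (hM : ∀ i, (M i).IsGE a) :
    Function.Bijective (CohDer.homSumToHomCoprod
      ((DerivedCategory.singleFunctor (ModSite.Mod O) 0).obj (ModSite.freeOn O U)) M) := by
  classical
  let S : Groth.Agent.CovColim.CovSys J := ⟨B, Cov, h1, h2⟩
  let G := ModSite.freeOn O U
  let toAb := SheafOfModules.toSheaf (ModSite.ringSh O)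
  haveI := Groth.Agent.SiteBase.preservesColimitsOfSize_toSheaf (ModSite.ringSh O)
  haveI : EnoughInjectives (ModSite.Mod O) := IsGrothendieckAbelian.enoughInjectives
  have hlift : ∀ {T : ShortComplex (ModSite.Mod O)}, T.ShortExact →
      Subsingleton (SiteBase.EH (toAb.obj T.X₁) 1 U) → ∀ φ : G ⟶ T.X₃, ∃ ψ : G ⟶ T.X₂, ψ ≫ T.g = φ := by
    intro T hT h φ
    obtain ⟨s, hs⟩ := Groth.Agent.SiteBase.sections_surjective_of_EH_one (hT.map_of_exact toAb) U h
      (Groth.Agent.H9Misc.DerCompTel.secOn U T.X₃ φ)
    refine ⟨(Groth.Agent.H9Misc.DerCompTel.secOn U T.X₂).symm s,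
      (Groth.Agent.H9Misc.DerCompTel.secOn U T.X₃).injective ?_⟩
    rw [Groth.Agent.H9Misc.DerCompTel.secOn_comp, Equiv.apply_symm_apply]
    exact hs
  have hG : Groth.Agent.CompactGen.Setup G I :=
    { Q := fun F => ∀ p : ℕ, Subsingleton (SiteBase.EH (toAb.obj F) (p + 1) U)
      iso := fun {F F'} e hF p => by
        refine subsingleton_of_forall_eq 0 fun x => ?_
        have hx : x = ((x.comp (Abelian.Ext.mk₀ (toAb.map e.inv)) (add_zero _)).comp
            (Abelian.Ext.mk₀ (toAb.map e.hom)) (add_zero _)) := by
          rw [Abelian.Ext.comp_assoc_of_second_deg_zero, Abelian.Ext.mk₀_comp_mk₀, ← Functor.map_comp, e.inv_hom_id,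
            CategoryTheory.Functor.map_id, Abelian.Ext.comp_mk₀_id]
        rw [hx, show x.comp (Abelian.Ext.mk₀ (toAb.map e.inv)) (add_zero _) = 0 from (hF p).elim _ _,
          Abelian.Ext.zero_comp]
      inj := fun F _ p => (Groth.Agent.SiteBase.subsingleton_HU_iff _ _ _).1
        (Groth.Agent.SiteBase.subsingleton_HU_of_totallyAcyclic
          (Groth.Agent.SiteBase.isTotallyAcyclic_toSheaf_injective (ModSite.ringSh O) F) U p)
      sum := fun N _ p => by
        let c : toAb.obj (∐ N) ≅ ∐ fun j => toAb.obj (N j) := (PreservesCoproduct.iso toAb N)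
        have h0 := Groth.Agent.CovColim.subsingleton_EH_sigma S (U := U) hU (fun j => toAb.obj (N j)) (p + 1) fun j =>
          (Groth.Agent.SiteBase.subsingleton_HU_iff _ _ _).1
            (Groth.Agent.SiteBase.subsingleton_HU_of_totallyAcyclic
              (Groth.Agent.SiteBase.isTotallyAcyclic_toSheaf_injective (ModSite.ringSh O) (N j)) U p)
        refine subsingleton_of_forall_eq 0 fun x => ?_
        have hx : x = ((x.comp (Abelian.Ext.mk₀ c.hom) (add_zero _)).comp (Abelian.Ext.mk₀ c.inv) (add_zero _)) := by
          rw [Abelian.Ext.comp_assoc_of_second_deg_zero, Abelian.Ext.mk₀_comp_mk₀, c.hom_inv_id,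
            Abelian.Ext.comp_mk₀_id]
        rw [hx, show x.comp (Abelian.Ext.mk₀ c.hom) (add_zero _) = 0 from h0.elim _ _, Abelian.Ext.zero_comp]
      X₃ := fun {T} hT h1 h2 p =>
        Groth.Agent.SiteBase.subsingleton_EH_X₃ (hT.map_of_exact toAb) U (p + 1) (h1 (p + 1)) (h2 p)
      lift := fun {T} hT h1 φ => hlift hT (h1 0) φ
      fix := fun N g => by
        let c : toAb.obj (∐ N) ≅ ∐ fun j => toAb.obj (N j) := (PreservesCoproduct.iso toAb N)
        obtain ⟨t, a, ha⟩ := Groth.Agent.CovColim.exists_finite_support S (U := U) hU (fun j => toAb.obj (N j))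
          ((c.hom.hom.app (op U)).hom (Groth.Agent.H9Misc.DerCompTel.secOn U _ g))
        refine ⟨t.image Discrete.as, (Groth.Agent.H9Misc.DerCompTel.secOn U _).injective ?_⟩
        rw [Groth.Agent.H9Misc.DerCompTel.secOn_comp]
        let P := toAb.map (Groth.Agent.CompactGen.partProj N (t.image Discrete.as))
        let fs := (CoproductsFromFiniteFiltered.finiteSubcoproductsCocone fun j => toAb.obj (N j)).ι.app t
        have hPt : fs ≫ c.inv ≫ P = fs ≫ c.inv := by
          refine Sigma.hom_ext _ _ fun k => ?_
          have hk : Sigma.ι (fun x : t => toAb.obj (N x.1.as)) k ≫ fs =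
              Sigma.ι (fun j => toAb.obj (N j)) k.1.as := Sigma.ι_desc _ _
          erw [reassoc_of% hk, reassoc_of% hk]
          have hi : Sigma.ι (fun j => toAb.obj (N j)) k.1.as ≫ c.inv = toAb.map (Sigma.ι N k.1.as) := by
            rw [show c.inv = sigmaComparison toAb N from PreservesCoproduct.inv_hom toAb N, ι_comp_sigmaComparison]
          rw [reassoc_of% hi, hi, ← Functor.map_comp,
            Groth.Agent.CompactGen.ι_partProj_mem N (Finset.mem_image_of_mem _ k.2)]
        have hs : Groth.Agent.H9Misc.DerCompTel.secOn U _ g = ((fs ≫ c.inv).hom.app (op U)).hom a := by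
          refine Eq.trans ?_ (congrArg (c.inv.hom.app (op U)).hom ha).symm
          exact (congrArg (fun q : toAb.obj (∐ N) ⟶ toAb.obj (∐ N) =>
            (q.hom.app (op U)).hom (Groth.Agent.H9Misc.DerCompTel.secOn U _ g)) c.hom_inv_id).symm
        show ((P).hom.app (op U)).hom _ = _
        refine (congrArg ((P.hom.app (op U)).hom) hs).trans (Eq.trans ?_ hs.symm)
        exact congrArg (fun q : _ ⟶ toAb.obj (∐ N) => (q.hom.app (op U)).hom a)
          ((Category.assoc _ _ _).trans hPt) }
  exact Groth.Agent.CompactGen.bijective_singleFunctor hG M a hM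

end Groth.Agent.S9047
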