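import Groth.Statements.S9063
import Groth.Agent.SiteCmpLib.TorsionSheaf
import Groth.Agent.H9Misc.SerreDerived
import Groth.Agent.TriCat.KInjRes
-- import your own Groth.Agent.* helpers here

set_option autoImplicit false
universe u
open CategoryTheory CategoryTheory.Limits Opposite
attribute [local instance] HasDerivedCategory.standard
open SiteCmp

namespace Groth.Agent.S9063

open Groth.Agent.SiteCmpLib.TorsionSheaf

variable {C : Type u} [SmallCategory C] (J : GrothendieckTopology C)

lemma mono_app_injective {F G : Sheaf J AddCommGrpCat.{u}} (φ : F ⟶ G) [Mono φ] (U : Cᵒᵖ) :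
    Function.Injective (φ.hom.app U).hom :=
  (AddCommGrpCat.mono_iff_injective _).1 (inferInstanceAs
    (Mono (((sheafToPresheaf J AddCommGrpCat.{u}).map φ).app U)))

lemma isZero_of_torsion {G : Sheaf J AddCommGrpCat.{u}} (hG : SiteCmp.torsionSh J G)
    (hn : ∀ n : ℕ, n ≠ 0 → Mono (n • 𝟙 G)) : IsZero G := by
  refine (IsZero.iff_id_eq_zero G).2 (Sheaf.hom_ext ?_)
  ext ⟨U⟩ s
  obtain ⟨S, hS, hS'⟩ := hG U s
  refine Presheaf.IsSheaf.isSeparated G.property U S hS s 0 fun V g hg => ?_
  obtain ⟨n, hn0, hs⟩ := isOfFinAddOrder_iff_nsmul_eq_zero.1 (hS' g hg)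
  have := hn n hn0.ne'
  show (G.obj.map g.op).hom s = (G.obj.map g.op).hom 0
  rw [map_zero]
  exact mono_app_injective J (n • 𝟙 G) (op V) (hs.trans (map_zero ((n • 𝟙 G).hom.app (op V)).hom).symm)

lemma mono_nsmul_qsh (F : Sheaf J AddCommGrpCat.{u}) {n : ℕ} (hn : n ≠ 0) : Mono (n • 𝟙 (qsh J F)) := by
  refine Preadditive.mono_of_cancel_zero _ fun {Z} g hg => ?_
  let p : pullback g (cokernel.π (incl J F)) ⟶ Z := pullback.fst _ _
  let ψ : pullback g (cokernel.π (incl J F)) ⟶ F := pullback.snd _ _
  have hgn : n • g = 0 := by simpa using hg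
  have h0 : (n • ψ) ≫ cokernel.π (incl J F) = 0 := by
    rw [Preadditive.nsmul_comp, ← pullback.condition, ← Preadditive.comp_nsmul, hgn, comp_zero]
  let z := Abelian.monoLift (incl J F) (n • ψ) h0
  have hz : z ≫ incl J F = n • ψ := Abelian.monoLift_comp _ _ _
  have hmem : ∀ (U : Cᵒᵖ) w, (ψ.hom.app U).hom w ∈ tsub J F U := fun U w => by
    have e : n • (ψ.hom.app U).hom w = ((z.hom.app U).hom w).1 :=
      (ConcreteCategory.congr_hom (congrArg (fun t : pullback g (cokernel.π (incl J F)) ⟶ F => t.hom.app U) hz) w).symm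
    obtain ⟨S, hS, hS'⟩ := ((z.hom.app U).hom w).2
    refine ⟨S, hS, fun V g hg => IsOfFinAddOrder.of_nsmul ?_ hn⟩
    rw [← map_nsmul, e]
    exact hS' g hg
  let l : pullback g (cokernel.π (incl J F)) ⟶ tsh J F :=
    ⟨{ app := fun U => AddCommGrpCat.ofHom ((ψ.hom.app U).hom.codRestrict (tsub J F U) (hmem U))
       naturality := fun U V f => by
        ext w
        exact Subtype.ext (ConcreteCategory.congr_hom (ψ.hom.naturality f) w) }⟩
  have hl : l ≫ incl J F = ψ := by
    apply Sheaf.hom_ext
    ext U w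
    rfl
  have : Epi p := Abelian.epi_pullback_of_epi_g _ _
  rw [← cancel_epi p, comp_zero]
  exact pullback.condition.trans (by rw [show pullback.snd g (cokernel.π (incl J F)) = l ≫ incl J F from hl.symm,
    Category.assoc, cokernel.condition, comp_zero])

variable [(SiteCmp.torsionSh J).IsSerreClass]

noncomputable instance abelianTorsion : Abelian (SiteCmp.torsionSh J).FullSubcategory :=
  @ObjectProperty.instAbelianFullSubcategoryOfContainsZeroOfIsClosedUnderKernelsOfIsClosedUnderCokernelsOfIsClosedUnderFiniteProducts _ _ (SiteCmp.torsionSh J) _ _ _ _ _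

lemma torsion_homology (L : CochainComplex (Sheaf J AddCommGrpCat.{u}) ℤ) (hL : ∀ n, SiteCmp.torsionSh J (L.X n))
    (i : ℤ) : SiteCmp.torsionSh J (L.homology i) :=
  (SiteCmp.torsionSh J).prop_of_epi (L.homologyπ i) ((SiteCmp.torsionSh J).prop_of_mono (L.iCycles i) (hL i))

/-- The torsion subcomplex of a complex of injectives with torsion cohomology. -/
lemma quasiIso_counit (I : CochainComplex (Sheaf J AddCommGrpCat.{u}) ℤ) [∀ n, Injective (I.X n)]
    (hI : ∀ n, SiteCmp.torsionSh J (I.homology n))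
    (f : ((SiteCmp.torsionSh J).ι.mapHomologicalComplex _).obj (((tFunctor J).mapHomologicalComplex _).obj I) ⟶ I)
    (hf : ∀ n, f.f n = incl J (I.X n)) : QuasiIso f := by
  have : ∀ n, Mono (f.f n) := fun n => by rw [hf]; exact mono_incl J _
  have : Mono f := HomologicalComplex.mono_of_mono_f f inferInstance
  let S := ShortComplex.mk f (cokernel.π f) (cokernel.condition f)
  have hS : S.ShortExact := ShortComplex.ShortExact.mk' (ShortComplex.exact_cokernel f) inferInstance inferInstance
  let e : ∀ n, (cokernel f).X n ≅ qsh J (I.X n) := fun n =>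
    PreservesCokernel.iso (HomologicalComplex.eval _ _ n) f ≪≫ cokernelIsoOfEq (hf n)
  have hz : ∀ i, IsZero ((cokernel f).homology i) := fun i => by
    refine isZero_of_torsion J ?_ fun n hn => ?_
    · exact (SiteCmp.torsionSh J).prop_X₂_of_exact (hS.homology_exact₃ i (i + 1) (by simp)) (hI i)
        (torsion_homology J (((SiteCmp.torsionSh J).ι.mapHomologicalComplex (ComplexShape.up ℤ)).obj (((tFunctor J).mapHomologicalComplex _).obj I)) (fun k => (isTorsion_tsh J (I.X k) : SiteCmp.torsionSh J (tsh J (I.X k)))) (i + 1))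
    · have h1 : ∀ k, IsIso ((n • 𝟙 (cokernel f)).f k) := fun k => by
        have := epi_nsmul_qsh J (I.X k) hn
        have := mono_nsmul_qsh J (I.X k) hn
        have hq : IsIso (n • 𝟙 (qsh J (I.X k))) := isIso_of_mono_of_epi _
        rw [show (n • 𝟙 (cokernel f)).f k = (e k).hom ≫ (n • 𝟙 _) ≫ (e k).inv by simp]
        infer_instance
      have : IsIso (n • 𝟙 (cokernel f)) := HomologicalComplex.Hom.isIso_of_components _
      have h2 : IsIso ((HomologicalComplex.homologyFunctor _ _ i).map (n • 𝟙 (cokernel f))) := inferInstance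
      rw [Functor.map_nsmul, CategoryTheory.Functor.map_id] at h2
      exact (inferInstance : Mono (n • 𝟙 ((HomologicalComplex.homologyFunctor _ _ i).obj (cokernel f))))
  refine ⟨fun i => (quasiIsoAt_iff_isIso_homologyMap _ _).2 ?_⟩
  have h1 : Epi (HomologicalComplex.homologyMap f i) :=
    (hS.homology_exact₂ i).epi_f ((hz i).eq_of_tgt _ _)
  have h2 : Mono (HomologicalComplex.homologyMap f i) :=
    (hS.homology_exact₁ (i - 1) i (by simp)).mono_g ((hz (i - 1)).eq_of_src _ _)
  exact isIso_of_mono_of_epi _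

/-- K-injective models in torsion sheaves. -/
lemma exists_model (M : DerivedCategory (SiteCmp.torsionSh J).FullSubcategory) :
    ∃ (I : CochainComplex (Sheaf J AddCommGrpCat.{u}) ℤ) (_ : I.IsKInjective),
      (∀ n, Injective (I.X n)) ∧ (∀ n, SiteCmp.torsionSh J (I.homology n)) ∧
      Nonempty (M ≅ DerivedCategory.Q.obj (((tFunctor J).mapHomologicalComplex _).obj I)) := by
  obtain ⟨L, ⟨e⟩⟩ : ∃ L, Nonempty (DerivedCategory.Q.obj L ≅ M) :=
    ⟨_, ⟨DerivedCategory.Q.objObjPreimageIso M⟩⟩
  obtain ⟨I, r, hI, hr, -, hinj⟩ := Groth.Agent.TriCat.exists_kInjective_resolution' (((SiteCmp.torsionSh J).ι.mapHomologicalComplex (ComplexShape.up ℤ)).obj L)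
  have hh : ∀ n, SiteCmp.torsionSh J (I.homology n) := fun n =>
    (SiteCmp.torsionSh J).prop_of_iso (@isoOfQuasiIsoAt _ _ _ _ _ _ _ r n _ _ (hr.quasiIsoAt n)) (torsion_homology J (((SiteCmp.torsionSh J).ι.mapHomologicalComplex (ComplexShape.up ℤ)).obj L) (fun k => (L.X k).property) n)
  refine ⟨I, hI, hinj, hh, ⟨e.symm ≪≫ ?_⟩⟩
  let c : ((SiteCmp.torsionSh J).ι.mapHomologicalComplex (ComplexShape.up ℤ)).obj (((tFunctor J).mapHomologicalComplex _).obj I) ⟶ I :=
    { f := fun n => incl J (I.X n)
      comm' := fun i j _ => by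
        apply Sheaf.hom_ext
        ext U s
        rfl }
  have : QuasiIso c := quasiIso_counit J I hh c fun _ => rfl
  let g : L ⟶ ((tFunctor J).mapHomologicalComplex _).obj I :=
    { f := fun n => ObjectProperty.homMk (lift (I.X n) (L.X n).property (r.f n))
      comm' := fun i j _ => by
        apply ObjectProperty.hom_ext
        apply Sheaf.hom_ext
        ext U s
        exact Subtype.ext (ConcreteCategory.congr_hom (congrArg (fun t : (((SiteCmp.torsionSh J).ι.mapHomologicalComplex (ComplexShape.up ℤ)).obj L).X i ⟶ I.X j => t.hom.app U) (r.comm i j)) s) }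
  have hgc : ((SiteCmp.torsionSh J).ι.mapHomologicalComplex (ComplexShape.up ℤ)).map g ≫ c = r := by
    ext n : 1
    apply Sheaf.hom_ext
    ext U s
    rfl
  have : QuasiIso (((SiteCmp.torsionSh J).ι.mapHomologicalComplex (ComplexShape.up ℤ)).map g ≫ c) := by rw [hgc]; exact hr
  have : QuasiIso (((SiteCmp.torsionSh J).ι.mapHomologicalComplex (ComplexShape.up ℤ)).map g) := quasiIso_of_comp_right _ c
  have : QuasiIso g := (HomologicalComplex.quasiIso_map_iff_of_preservesHomology g (SiteCmp.torsionSh J).ι).1 this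
  exact asIso (DerivedCategory.Q.map g)

/-- The torsion subcomplex of a K-injective complex is K-injective. -/
lemma isKInjective_tFunctor (I : CochainComplex (Sheaf J AddCommGrpCat.{u}) ℤ) [I.IsKInjective] :
    CochainComplex.IsKInjective (((tFunctor J).mapHomologicalComplex _).obj I) := by
  refine ⟨fun {L} f hL => ⟨HomotopyCategory.homotopyOfEq _ _ ?_⟩⟩
  let a := Groth.Agent.H9Misc.SerreDerived.adjHtpy (ComplexShape.up ℤ) (tAdj J)
  let L' := (HomotopyCategory.quotient (SiteCmp.torsionSh J).FullSubcategory (ComplexShape.up ℤ)).obj L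
  let I' := (HomotopyCategory.quotient (Sheaf J AddCommGrpCat.{u}) (ComplexShape.up ℤ)).obj I
  have hac : (((SiteCmp.torsionSh J).ι.mapHomologicalComplex (ComplexShape.up ℤ)).obj L).Acyclic := fun i => (hL i).map (SiteCmp.torsionSh J).ι
  have hsub : ∀ x y : L' ⟶ ((tFunctor J).mapHomotopyCategory _).obj I', x = y := fun x y => by
    refine (a.homEquiv L' I').symm.injective ?_
    obtain ⟨x', hx⟩ := (HomotopyCategory.quotient _ _).map_surjective ((a.homEquiv L' I').symm x)
    obtain ⟨y', hy⟩ := (HomotopyCategory.quotient _ _).map_surjective ((a.homEquiv L' I').symm y)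
    rw [← hx, ← hy, HomotopyCategory.eq_of_homotopy _ _ (CochainComplex.IsKInjective.homotopyZero x' hac),
      HomotopyCategory.eq_of_homotopy _ _ (CochainComplex.IsKInjective.homotopyZero y' hac)]
  exact hsub _ _

/-- Full faithfulness at a K-injective model. -/
lemma bijective_toDerived (I : CochainComplex (Sheaf J AddCommGrpCat.{u}) ℤ) [I.IsKInjective]
    {M N : DerivedCategory (SiteCmp.torsionSh J).FullSubcategory}
    {L : CochainComplex (SiteCmp.torsionSh J).FullSubcategory ℤ} (eM : DerivedCategory.Q.obj L ≅ M)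
    (eN : DerivedCategory.Q.obj (((tFunctor J).mapHomologicalComplex _).obj I) ≅ N)
    (hh : ∀ n, SiteCmp.torsionSh J (I.homology n)) [∀ n, Injective (I.X n)] :
    Function.Bijective ((WSerre.toDerived (SiteCmp.torsionSh J)).map : (M ⟶ N) → _) := by
  let F := WSerre.toDerived (SiteCmp.torsionSh J)
  let X := ((tFunctor J).mapHomologicalComplex (ComplexShape.up ℤ)).obj I
  have := isKInjective_tFunctor J I
  let a := Groth.Agent.H9Misc.SerreDerived.adjHtpy (ComplexShape.up ℤ) (tAdj J)
  let q := HomotopyCategory.quotient (SiteCmp.torsionSh J).FullSubcategory (ComplexShape.up ℤ)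
  let q' := HomotopyCategory.quotient (Sheaf J AddCommGrpCat.{u}) (ComplexShape.up ℤ)
  let c : ((SiteCmp.torsionSh J).ι.mapHomologicalComplex (ComplexShape.up ℤ)).obj X ⟶ I :=
    { f := fun n => incl J (I.X n)
      comm' := fun i j _ => by
        apply Sheaf.hom_ext
        ext U s
        rfl }
  have : QuasiIso c := quasiIso_counit J I hh c fun _ => rfl
  let τ := (SiteCmp.torsionSh J).ι.mapDerivedCategoryFactors
  have hlift : ∀ h : ((SiteCmp.torsionSh J).ι.mapHomologicalComplex (ComplexShape.up ℤ)).obj L ⟶ I, ∃ f : L ⟶ X, ((SiteCmp.torsionSh J).ι.mapHomologicalComplex (ComplexShape.up ℤ)).map f ≫ c = h := fun h => by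
    refine ⟨{ f := fun n => ObjectProperty.homMk (lift (I.X n) (L.X n).property (h.f n))
              comm' := fun i j _ => by
                apply ObjectProperty.hom_ext
                apply Sheaf.hom_ext
                ext U s
                exact Subtype.ext (ConcreteCategory.congr_hom
                  (congrArg (fun t : (((SiteCmp.torsionSh J).ι.mapHomologicalComplex (ComplexShape.up ℤ)).obj L).X i ⟶ I.X j => t.hom.app U) (h.comm i j)) s) }, ?_⟩
    ext n : 1
    apply Sheaf.hom_ext
    ext U s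
    rfl
  have hQ : ∀ φ : DerivedCategory.Q.obj L ⟶ DerivedCategory.Q.obj X, ∃ f, DerivedCategory.Q.map f = φ := fun φ => by
    let κ := DerivedCategory.quotientCompQhIso (SiteCmp.torsionSh J).FullSubcategory
    obtain ⟨g, hg⟩ := (CochainComplex.IsKInjective.Qh_map_bijective (q.obj L) X).2
      (κ.hom.app L ≫ φ ≫ κ.inv.app X)
    obtain ⟨f, rfl⟩ := q.map_surjective g
    refine ⟨f, ?_⟩
    have := κ.hom.naturality f
    rw [Functor.comp_map, hg, Category.assoc, Category.assoc, Iso.inv_hom_id_app] at this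
    exact ((cancel_epi (κ.hom.app L)).1 this).symm.trans (Category.comp_id φ)
  have hF : ∀ f : L ⟶ X, τ.inv.app L ≫ F.map (DerivedCategory.Q.map f) ≫ τ.hom.app X ≫ DerivedCategory.Q.map c =
      DerivedCategory.Q.map (((SiteCmp.torsionSh J).ι.mapHomologicalComplex (ComplexShape.up ℤ)).map f ≫ c) := fun f => by
    rw [Functor.map_comp, ← Category.assoc (F.map _)]
    rw [show F.map (DerivedCategory.Q.map f) ≫ τ.hom.app X = τ.hom.app L ≫ DerivedCategory.Q.map (((SiteCmp.torsionSh J).ι.mapHomologicalComplex (ComplexShape.up ℤ)).map f) from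
      τ.hom.naturality f, Category.assoc, Iso.inv_hom_id_app_assoc]
  have : Function.Bijective (fun φ : DerivedCategory.Q.obj L ⟶ DerivedCategory.Q.obj X => F.map φ) := by
    constructor
    · intro φ φ' h
      obtain ⟨f, rfl⟩ := hQ φ
      obtain ⟨f', rfl⟩ := hQ φ'
      have e : DerivedCategory.Q.map (((SiteCmp.torsionSh J).ι.mapHomologicalComplex (ComplexShape.up ℤ)).map f ≫ c) = DerivedCategory.Q.map (((SiteCmp.torsionSh J).ι.mapHomologicalComplex (ComplexShape.up ℤ)).map f' ≫ c) := by
        rw [← hF, ← hF]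
        exact congrArg (fun t => τ.inv.app L ≫ t ≫ τ.hom.app X ≫ DerivedCategory.Q.map c) h
      let κ := DerivedCategory.quotientCompQhIso (Sheaf J AddCommGrpCat.{u})
      have e' : q'.map (((SiteCmp.torsionSh J).ι.mapHomologicalComplex (ComplexShape.up ℤ)).map f ≫ c) = q'.map (((SiteCmp.torsionSh J).ι.mapHomologicalComplex (ComplexShape.up ℤ)).map f' ≫ c) := by
        refine (CochainComplex.IsKInjective.Qh_map_bijective (q'.obj (((SiteCmp.torsionSh J).ι.mapHomologicalComplex (ComplexShape.up ℤ)).obj L)) I).1 ?_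
        refine (cancel_mono (κ.hom.app I)).1 ?_
        exact (κ.hom.naturality (((SiteCmp.torsionSh J).ι.mapHomologicalComplex (ComplexShape.up ℤ)).map f ≫ c)).trans
          ((congrArg (κ.hom.app (((SiteCmp.torsionSh J).ι.mapHomologicalComplex (ComplexShape.up ℤ)).obj L) ≫ ·) e).trans (κ.hom.naturality (((SiteCmp.torsionSh J).ι.mapHomologicalComplex (ComplexShape.up ℤ)).map f' ≫ c)).symm)
      have e'' : q.map f = q.map f' := by
        refine (a.homEquiv (q.obj L) (q'.obj I)).symm.injective ?_
        refine ((Adjunction.homEquiv_counit a _ _ _).trans ?_).trans (Adjunction.homEquiv_counit a _ _ _).symm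
        rw [Functor.map_comp, Functor.map_comp] at e'
        exact e'
      let κ' := DerivedCategory.quotientCompQhIso (SiteCmp.torsionSh J).FullSubcategory
      refine (cancel_epi (κ'.hom.app L)).1 ?_
      exact (κ'.hom.naturality f).symm.trans
        ((congrArg (fun t => DerivedCategory.Qh.map t ≫ κ'.hom.app X) e'').trans (κ'.hom.naturality f'))
    · intro g
      let κ := DerivedCategory.quotientCompQhIso (Sheaf J AddCommGrpCat.{u})
      obtain ⟨h, hh'⟩ := (CochainComplex.IsKInjective.Qh_map_bijective (q'.obj (((SiteCmp.torsionSh J).ι.mapHomologicalComplex (ComplexShape.up ℤ)).obj L)) I).2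
        (κ.hom.app (((SiteCmp.torsionSh J).ι.mapHomologicalComplex (ComplexShape.up ℤ)).obj L) ≫ (τ.inv.app L ≫ g ≫ τ.hom.app X ≫ DerivedCategory.Q.map c) ≫ κ.inv.app I)
      obtain ⟨h, rfl⟩ := q'.map_surjective h
      obtain ⟨f, rfl⟩ := hlift h
      refine ⟨DerivedCategory.Q.map f, ?_⟩
      have := κ.hom.naturality (((SiteCmp.torsionSh J).ι.mapHomologicalComplex (ComplexShape.up ℤ)).map f ≫ c)
      rw [Functor.comp_map, hh', Category.assoc, Category.assoc, Iso.inv_hom_id_app] at this
      have := ((cancel_epi (κ.hom.app (((SiteCmp.torsionSh J).ι.mapHomologicalComplex (ComplexShape.up ℤ)).obj L))).1 this).symm.trans (Category.comp_id _)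
      rw [← hF, cancel_epi (τ.inv.app L), ← cancel_mono (τ.hom.app X ≫ DerivedCategory.Q.map c)] at *
      exact this
  have hc : ∀ φ : DerivedCategory.Q.obj L ⟶ DerivedCategory.Q.obj X,
      F.map (eM.inv ≫ φ ≫ eN.hom) = F.map eM.inv ≫ F.map φ ≫ F.map eN.hom := fun φ => by simp
  constructor
  · intro x y h
    refine (cancel_epi eM.hom).1 ((cancel_mono eN.inv).1 (this.1 ?_))
    simp only [Functor.map_comp]
    rw [show F.map x = F.map y from h]
  · intro g
    obtain ⟨φ, hφ⟩ := this.2 (F.map eM.hom ≫ g ≫ F.map eN.inv)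
    refine ⟨eM.inv ≫ φ ≫ eN.hom, ?_⟩
    simp only at hφ
    show F.map _ = g
    rw [hc, hφ]
    simp
    exact Category.comp_id g

end Groth.Agent.S9063

namespace Groth.Agent.S9063

open Groth.Agent.SiteCmpLib.TorsionSheaf

/-- Let C be a site and A ⊂ Ab(C) the Serre subcategory of torsion abelian sheaves. Then the functor
from D(A) to D_A(C) gives an equivalence: the canonical functor D(A) → D(Ab(C)) induced by the exact
inclusion is fully faithful, and a complex lies in its essential image exactly when every cohomology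
sheaf of it is torsion. That torsion abelian sheaves form a Serre subcategory is carried as an
instance hypothesis. -/
theorem result
    {C : Type u} [SmallCategory C] (J : GrothendieckTopology C)
    [(SiteCmp.torsionSh J).IsSerreClass] :
    (WSerre.toDerived (SiteCmp.torsionSh J)).Full ∧ (WSerre.toDerived (SiteCmp.torsionSh J)).Faithful ∧
      ∀ K : DerivedCategory (Sheaf J AddCommGrpCat.{u}),
        WSerre.cohIn (SiteCmp.torsionSh J) K ↔ (WSerre.toDerived (SiteCmp.torsionSh J)).essImage K := by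
  let P := SiteCmp.torsionSh J
  let F := WSerre.toDerived (SiteCmp.torsionSh J)
  have hF : ∀ M N, Function.Bijective (F.map : (M ⟶ N) → _) := by
    intro M N
    obtain ⟨I₀, hI₀, hinj, hh, ⟨eN⟩⟩ := exists_model J N
    obtain ⟨L, ⟨eM⟩⟩ : ∃ L, Nonempty (DerivedCategory.Q.obj L ≅ M) :=
      ⟨_, ⟨DerivedCategory.Q.objObjPreimageIso M⟩⟩
    exact bijective_toDerived J I₀ eM eN.symm hh
  refine ⟨⟨fun {M N} g => (hF M N).2 g⟩, ⟨fun {M N} f g h => (hF M N).1 h⟩, fun K => ⟨fun hK => ?_, ?_⟩⟩
  · obtain ⟨L, ⟨eL⟩⟩ : ∃ L, Nonempty (DerivedCategory.Q.obj L ≅ K) :=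
      ⟨_, ⟨DerivedCategory.Q.objObjPreimageIso K⟩⟩
    obtain ⟨I, r, hI, hr, -, hinj⟩ := Groth.Agent.TriCat.exists_kInjective_resolution' L
    have hh : ∀ n, SiteCmp.torsionSh J (I.homology n) := fun n =>
      (SiteCmp.torsionSh J).prop_of_iso ((DerivedCategory.homologyFunctor _ n).mapIso
        (eL.symm ≪≫ asIso (DerivedCategory.Q.map r)) ≪≫ (DerivedCategory.homologyFunctorFactors _ n).app I) (hK n)
    let c : ((SiteCmp.torsionSh J).ι.mapHomologicalComplex (ComplexShape.up ℤ)).obj
        (((tFunctor J).mapHomologicalComplex _).obj I) ⟶ I :=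
      { f := fun n => incl J (I.X n)
        comm' := fun i j _ => by
          apply Sheaf.hom_ext
          ext U s
          rfl }
    have : QuasiIso c := quasiIso_counit J I hh c fun _ => rfl
    exact ⟨DerivedCategory.Q.obj (((tFunctor J).mapHomologicalComplex _).obj I),
      ⟨(SiteCmp.torsionSh J).ι.mapDerivedCategoryFactors.app _ ≪≫ asIso (DerivedCategory.Q.map c) ≪≫
        (asIso (DerivedCategory.Q.map r)).symm ≪≫ eL⟩⟩
  · rintro ⟨M, ⟨e⟩⟩ n
    obtain ⟨L, ⟨eL⟩⟩ : ∃ L, Nonempty (DerivedCategory.Q.obj L ≅ M) :=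
      ⟨_, ⟨DerivedCategory.Q.objObjPreimageIso M⟩⟩
    exact (SiteCmp.torsionSh J).prop_of_iso ((DerivedCategory.homologyFunctorFactors _ n).symm.app _ ≪≫
      (DerivedCategory.homologyFunctor _ n).mapIso (((SiteCmp.torsionSh J).ι.mapDerivedCategoryFactors.app L).symm ≪≫
        F.mapIso eL ≪≫ e)) (torsion_homology J (((SiteCmp.torsionSh J).ι.mapHomologicalComplex (ComplexShape.up ℤ)).obj L) (fun k => (L.X k).property) n)

end Groth.Agent.S9063
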