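import Groth.Statements.S9071
import Groth.Agent.SiteCmpLib.EpsMod

set_option autoImplicit false
universe u
open CategoryTheory CategoryTheory.Limits Opposite
attribute [local instance] HasDerivedCategory.standard
open SiteCmp

namespace Groth.Agent.S9071

/-- Let τ' be a coarser topology than τ on a category C, O a τ-sheaf of rings and ε the comparison
morphism from (C_τ, O) to (C_τ', O). Let B be a set of objects and A a full subcategory of
presheaves of O-modules such that (1) every object of A is a τ-sheaf, (2) A forms a weak Serre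
subcategory inside Mod(O_τ), (3) each object of C admits a τ'-covering by members of B, and (4)
H^p_τ(U, F) = 0 for U ∈ B, F ∈ A, p > 0. Then the essential image of A under ε_* forms a weak Serre
subcategory inside Mod(O_τ') and ε^*, Rε_* are quasi-inverse equivalences between D_A(O_τ') and
D_A(O_τ): on objects with cohomology sheaves in the respective subcategory, ε^* and Rε_* preserve
that condition and the unit and counit are isomorphisms. In the order of topologies used here the
finer topology τ is the larger one, J, and τ' is J' ≤ J; A is given as a property of τ-sheaves of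
modules (condition (1) built in); flatness of ε, existence of the unbounded Rε_* and an adjunction
ε^* ⊣ Rε_* are hypotheses. -/
theorem result
    {C : Type u} [SmallCategory C] {J J' : GrothendieckTopology C} (h : J' ≤ J) (O : Sheaf J CommRingCat.{u})
    [PreservesFiniteLimits (SiteCmp.eps h O).pull] [SiteCmp.HasRpushD (SiteCmp.eps h O)]
    (adj : SiteCmp.pullD (SiteCmp.eps h O) ⊣ SiteCmp.RpushD (SiteCmp.eps h O))
    (A : ObjectProperty (ModSite.Mod O)) [WSerre.IsWeakSerre A] (B : Set C)
    (h3 : ∀ U : C, ∃ (ι : Type u) (Y : ι → C) (g : ∀ i, Y i ⟶ U), Sieve.ofArrows Y g ∈ J' U ∧ ∀ i, Y i ∈ B)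
    (h4 : ∀ U ∈ B, ∀ F : ModSite.Mod O, A F → ∀ p : ℕ, 0 < p → Subsingleton (ModSite.HU O F p U)) :
    WSerre.IsWeakSerre (A.map (SiteCmp.eps h O).push) ∧
    (∀ Y : DerivedCategory (ModSite.Mod (SiteCmp.epsRing h O)), WSerre.cohIn (A.map (SiteCmp.eps h O).push) Y →
      WSerre.cohIn A ((SiteCmp.pullD (SiteCmp.eps h O)).obj Y) ∧ IsIso (adj.unit.app Y)) ∧
    (∀ X : DerivedCategory (ModSite.Mod O), WSerre.cohIn A X →
      WSerre.cohIn (A.map (SiteCmp.eps h O).push) ((SiteCmp.RpushD (SiteCmp.eps h O)).obj X) ∧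
      IsIso (adj.counit.app X)) := by
  have hw : WSerre.IsWeakSerre (A.map (SiteCmp.eps h O).push) :=
    SiteCmpLib.EpsMod.isWeakSerre_map h h3 A h4
  refine ⟨hw, ?_⟩
  obtain ⟨e⟩ := SiteCmpLib.DerivedAdj.exists_iso_model (SiteCmp.eps h O).push
  have hN := fun M hM => SiteCmpLib.EpsMod.isLE_model_single h h3 A h4 M hM
  have h2c : ∀ F, A F → ∃ F', A.map (SiteCmp.eps h O).push F' ∧
      Nonempty ((SiteCmp.eps h O).pull.obj F' ≅ F) := fun F hF =>
    ⟨_, A.prop_map_obj _ hF, ⟨asIso ((SiteCmp.eps h O).adj.counit.app F)⟩⟩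
  have hu : ∀ F', A.map (SiteCmp.eps h O).push F' →
      IsIso (adj.unit.app (SiteCmp.inD (SiteCmp.epsRing h O) F')) := by
    rintro F' ⟨M, hM, ⟨i⟩⟩
    have hR : ((SiteCmp.RpushD (SiteCmp.eps h O)).obj (SiteCmp.inD O M)).IsLE 0 :=
      have := hN M hM
      DerivedCategory.TStructure.t.isLE_of_iso (e.app _) 0
    obtain ⟨hc, ⟨j⟩⟩ := SiteCmpLib.HeartCounit.counit_single (SiteCmp.eps h O).adj adj M hR
    have : IsIso (adj.unit.app ((SiteCmp.RpushD (SiteCmp.eps h O)).obj (SiteCmp.inD O M))) :=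
      @IsIso.of_isIso_fac_right _ _ _ _ _ _ _ _ ((SiteCmp.RpushD (SiteCmp.eps h O)).map_isIso _) (IsIso.id _)
        (adj.right_triangle_components _)
    exact (NatTrans.isIso_app_iff_of_iso adj.unit
      (j ≪≫ (DerivedCategory.singleFunctor _ 0).mapIso i)).1 this
  refine SiteCmpLib.ModEquiv.equivalence (SiteCmp.eps h O) adj A (A.map (SiteCmp.eps h O).push) h2c hu
    (fun F' ⟨M, hM, ⟨i⟩⟩ => A.prop_of_iso
      ((asIso ((SiteCmp.eps h O).adj.counit.app M)).symm ≪≫ (SiteCmp.eps h O).pull.mapIso i) hM)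
    fun Z b hZ hb => ?_
  exact SiteCmpLib.ModBounded.isLE_model_upstairs (SiteCmp.eps h O)
    (SiteCmpLib.EpsMod.covers h h3) (SiteCmpLib.EpsMod.locCd h h3 A h4 B) 0 hN h3
    (SiteCmpLib.EpsMod.locCd' h3 A h4 B) Z b hZ hb

end Groth.Agent.S9071
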