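import Groth.Statements.S9076
import Groth.Agent.SiteCmpLib.DerivedAdj
import Groth.Agent.SiteCmpLib.Rlim

set_option autoImplicit false
universe u
open CategoryTheory CategoryTheory.Limits Opposite
attribute [local instance] HasDerivedCategory.standard
open SiteCmp

namespace Groth.Agent.S9076

/-- For a morphism f from the ringed site (C, O_C) to the ringed site (D, O_D), Rf_* commutes with
derived limits: if L = R lim K_n in D(O_C) through maps a_n : L → K_n, then Rf_*L = R lim Rf_*K_n
through the maps Rf_*a_n. Rf_* is the unbounded total derived direct image under its existence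
binder; the products of the two systems are instance hypotheses. Stated for ringed sites; the
published statement is for ringed topoi. -/
theorem result
    {C : Type u} [SmallCategory C] {J : GrothendieckTopology C} {O_C : Sheaf J CommRingCat.{u}}
    {D : Type u} [SmallCategory D] {K : GrothendieckTopology D} {O_D : Sheaf K CommRingCat.{u}}
    (f : ModSite.RMor O_C O_D) [SiteCmp.HasRpushD f]
    (E : ℕ → DerivedCategory (ModSite.Mod O_C)) (t : ∀ n, E (n + 1) ⟶ E n) [HasProduct E]
    (L : DerivedCategory (ModSite.Mod O_C)) (a : ∀ n, L ⟶ E n) (hL : CohCx.IsRlimVia E t L a)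
    [HasProduct fun n => (SiteCmp.RpushD f).obj (E n)] :
    CohCx.IsRlimVia (fun n => (SiteCmp.RpushD f).obj (E n)) (fun n => (SiteCmp.RpushD f).map (t n))
      ((SiteCmp.RpushD f).obj L) (fun n => (SiteCmp.RpushD f).map (a n)) := by
  have := Groth.Agent.H9Misc.RpushLeftAdj.isRightAdjoint_RpushD f
  obtain ⟨hc, ht⟩ := Groth.Agent.SiteCmpLib.DerivedAdj.exists_triangulated_model f.push
  obtain ⟨e⟩ := Groth.Agent.SiteCmpLib.DerivedAdj.exists_iso_model f.push
  exact Groth.Agent.SiteCmpLib.Rlim.isRlimVia_map (SiteCmp.RpushD f)
    (Groth.Agent.SiteCmpLib.DerivedAdj.model f.push) e E t L a hL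

end Groth.Agent.S9076
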