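import Groth.Statements.S9078
import Groth.Agent.ModFreeRes.Free

set_option autoImplicit false
universe u
open CategoryTheory CategoryTheory.Limits Opposite
attribute [local instance] HasDerivedCategory.standard
open ModSite

namespace Groth.Agent.S9078

set_option backward.isDefEq.respectTransparency false
set_option linter.style.haveILetI false


/-- Let (C, O) be a ringed site and G a complex of O-modules. There is a commutative diagram of
complexes K_1 → K_2 → … over τ_{≤1}G → τ_{≤2}G → … such that (1) the vertical maps K_n → τ_{≤n}G are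
termwise surjective quasi-isomorphisms, (2) every K_n is bounded above with terms direct sums of
modules of the form j_{U!}O_U, (3) each K_n → K_{n+1} is split injective in every degree, with
cokernel in each degree a direct sum of modules j_{U!}O_U; moreover colim K_n → G is a
quasi-isomorphism. Here the system is indexed by n ≥ 0 with K_n mapping to τ_{≤ n+1}G, commutativity
of the diagram is expressed after composing with the inclusions τ_{≤ m}G → G, 'direct sum of modules
j_{U!}O_U' means isomorphic to a coproduct of such modules, and the map colim K_n → G is the one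
induced by the K_n → τ_{≤ n+1}G → G. -/
theorem result
    {C : Type u} [SmallCategory C] {J : GrothendieckTopology C} (O : Sheaf J CommRingCat.{u})
    (G : CochainComplex (ModSite.Mod O) ℤ) :
    ∃ (Kc : ℕ ⥤ CochainComplex (ModSite.Mod O) ℤ) (π : ∀ n : ℕ, Kc.obj n ⟶ G.truncLE ((n : ℤ) + 1)),
      (∀ n : ℕ, Kc.map (homOfLE (Nat.le_succ n)) ≫ π (n + 1) ≫ G.ιTruncLE (((n + 1 : ℕ) : ℤ) + 1) =
        π n ≫ G.ιTruncLE ((n : ℤ) + 1)) ∧
      (∀ n : ℕ, QuasiIso (π n) ∧ ∀ i : ℤ, Epi ((π n).f i)) ∧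
      (∀ n : ℕ, ∃ b : ℤ, (Kc.obj n).IsStrictlyLE b) ∧
      (∀ (n : ℕ) (i : ℤ), ∃ (ι : Type u) (U : ι → C),
        Nonempty ((Kc.obj n).X i ≅ ∐ fun j => ModSite.freeOn O (U j))) ∧
      (∀ (n : ℕ) (i : ℤ), ∃ r : (Kc.obj (n + 1)).X i ⟶ (Kc.obj n).X i,
        (Kc.map (homOfLE (Nat.le_succ n))).f i ≫ r = 𝟙 _ ∧
        ∃ (ι : Type u) (U : ι → C),
          Nonempty (cokernel ((Kc.map (homOfLE (Nat.le_succ n))).f i) ≅ ∐ fun j => ModSite.freeOn O (U j))) ∧
      ∃ c : colimit Kc ⟶ G, (∀ n : ℕ, colimit.ι Kc n ≫ c = π n ≫ G.ιTruncLE ((n : ℤ) + 1)) ∧ QuasiIso c := by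
  obtain ⟨R, incl, h⟩ := Groth.Agent.ModFreeRes.exists_system O G
  let Kc : ℕ ⥤ CochainComplex (ModSite.Mod O) ℤ :=
    Functor.ofSequence (X := fun n => (R n).Q) incl
  have hKc : ∀ n, Kc.map (homOfLE (Nat.le_succ n)) = incl n :=
    fun n => Functor.ofSequence_map_homOfLE_succ incl n
  let s : Cocone Kc := Cocone.mk G (NatTrans.ofSequence (F := Kc)
    (fun n => (R n).π ≫ G.ιTruncLE ((n : ℤ) + 1)) (fun n => by
      refine (congrArg (· ≫ _) (hKc n)).trans ?_
      exact (h n).1.trans (Category.comp_id _).symm))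
  refine ⟨Kc, fun n => (R n).π, fun n => ?_, fun n => ⟨(R n).qis, (R n).epi⟩, fun n => ?_,
    fun n i => (R n).term i, fun n i => ?_, colimit.desc Kc s, fun n => colimit.ι_desc s n, ?_⟩
  · exact (congrArg (· ≫ _) (hKc n)).trans (h n).1
  · obtain ⟨b, hb⟩ := (R n).bdd
    exact ⟨b, (CochainComplex.isStrictlyLE_iff _ b).2 hb⟩
  · obtain ⟨A, r, hA, hr, ⟨e⟩⟩ := ((h n).2 i).retraction
    obtain ⟨ι, U, ⟨e'⟩⟩ := hA
    rw [hKc]
    exact ⟨r, hr, ι, U, ⟨e ≪≫ e'⟩⟩
  · refine Groth.Agent.ModFreeRes.quasiIso_desc_of_eventually s fun m => ⟨m.toNat, fun k hk => ?_⟩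
    haveI := (R k).qis
    haveI : QuasiIsoAt (G.ιTruncLE ((k : ℤ) + 1)) m :=
      CochainComplex.quasiIsoAt_ιTruncLE G _ _ (by omega)
    show QuasiIsoAt ((R k).π ≫ G.ιTruncLE ((k : ℤ) + 1)) m
    haveI : QuasiIsoAt (R k).π m := (R k).qis.quasiIsoAt m
    exact quasiIsoAt_comp _ _ _

end Groth.Agent.S9078
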