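import Groth.Statements.S9114
import Groth.Agent.FPColim.Basic
import Groth.Agent.ModTensor.FreeOn
import Groth.Agent.SiteBase.QcCoprod

set_option autoImplicit false
universe u
open CategoryTheory CategoryTheory.Limits Opposite
open ModSite

namespace Groth.Agent.S9114
set_option backward.isDefEq.respectTransparency false
open CategoryTheory.Limits Opposite

/-- Let (C, O) be a small ringed site with O commutative and B a set of objects of C such that every
object has a covering family by members of B and each member U of B is quasi-compact (the sheaf of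
sets h_U^# is a quasi-compact object of the topos). Then every O-module F is a filtered colimit of
modules of the form Coker(⊕_{j≤m} j_{V_j!}O_{V_j} → ⊕_{i≤n} j_{U_i!}O_{U_i}) with finitely many Uᵢ,
Vⱼ in B: there are a small filtered category Λ, a diagram D of such modules and a natural map from D
to the constant diagram on F exhibiting F as the colimit. -/
theorem result {C : Type u} [SmallCategory C] {J : GrothendieckTopology C}
    (O : Sheaf J CommRingCat.{u}) (B : Set C)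
    (hB₁ : ∀ X : C, ∃ (κ : Type u) (Y : κ → C) (g : ∀ k, Y k ⟶ X), Sieve.ofArrows Y g ∈ J X ∧ ∀ k, Y k ∈ B)
    (hB₂ : ∀ U ∈ B, CohCx.IsQcObject ((presheafToSheaf J (Type u)).obj (yoneda.obj U))) (F : ModSite.Mod O) :
    ∃ (Λ : Type u) (_ : SmallCategory Λ) (_ : IsFiltered Λ) (D : Λ ⥤ ModSite.Mod O)
      (ι : D ⟶ (Functor.const Λ).obj F),
      (∀ l, (∃ (m' n' : ℕ) (V' : Fin m' → C) (U' : Fin n' → C)
        (ψ : (∐ fun j => ModSite.freeOn O (V' j)) ⟶ ∐ fun i => ModSite.freeOn O (U' i)),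
        (∀ j, V' j ∈ B) ∧ (∀ i, U' i ∈ B) ∧ Nonempty (D.obj l ≅ cokernel ψ))) ∧
      Nonempty (IsColimit (Cocone.mk F ι)) := by
  classical
  haveI : HasColimitsOfSize.{u, u} (ModSite.Mod O) := inferInstance
  let G : Set C := B
  have hG : ∀ X : C, ∃ (ι : Type u) (Y : ι → C) (f : ∀ i, Y i ⟶ X), Sieve.ofArrows Y f ∈ J X ∧ ∀ i, Y i ∈ G :=
    fun X => hB₁ X
  have hsep := Groth.Agent.ModTensor.isSeparating_freeOn (O := O) G hG
  let I₀ := Σ b : B, (ModSite.freeOn O b.1 ⟶ F)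
  let P₀ : I₀ → ModSite.Mod O := fun a => ModSite.freeOn O a.1.1
  let π : (∐ P₀) ⟶ F := Sigma.desc fun a => a.2
  haveI hπ : Epi π := ⟨fun {Z} g h e => hsep _ _ (by
    rintro _ ⟨b⟩ φ
    have := congrArg (Sigma.ι P₀ ⟨b, φ⟩ ≫ ·) e
    simpa [π] using this)⟩
  let I₁ := Σ b : B, (ModSite.freeOn O b.1 ⟶ kernel π)
  let P₁ : I₁ → ModSite.Mod O := fun a => ModSite.freeOn O a.1.1
  let τ : (∐ P₁) ⟶ kernel π := Sigma.desc fun a => a.2
  haveI hτ : Epi τ := ⟨fun {Z} g h e => hsep _ _ (by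
    rintro _ ⟨b⟩ φ
    have := congrArg (Sigma.ι P₁ ⟨b, φ⟩ ≫ ·) e
    simpa [τ] using this)⟩
  let r : ∀ k, P₁ k ⟶ ∐ P₀ := fun k => k.2 ≫ kernel.ι π
  have hr : Sigma.desc r = τ ≫ kernel.ι π := Sigma.hom_ext _ _ fun k => by simp [r, τ]
  have w : Sigma.desc r ≫ π = 0 := by rw [hr, Category.assoc, kernel.condition, comp_zero]
  have hc : IsColimit (CokernelCofork.ofπ π w) :=
    isCokernelEpiComp (Abelian.epiIsCokernelOfKernel _ (kernelIsKernel π)) τ hr
  have hfin : ∀ k : I₁, ∃ S : Finset I₀,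
      r k = ∑ i ∈ S, r k ≫ Groth.Agent.FPColim.proj P₀ i ≫ Sigma.ι P₀ i := fun k => by
    let u₀ : ModSite.sect (ModSite.freeOn O k.1.1) k.1.1 :=
      (Groth.Agent.ModTensor.freeOnCorepr O k.1.1).homEquiv (𝟙 _)
    obtain ⟨S, hS⟩ := Groth.Agent.SiteBase.coprod_finite_sum (O := O) (hB₂ _ k.1.2) P₀
      (((r k).val.app (op k.1.1)).hom u₀)
    refine ⟨S, (Groth.Agent.ModTensor.freeOnCorepr O k.1.1).homEquiv.injective ?_⟩
    rw [Functor.CorepresentableBy.homEquiv_eq, Functor.CorepresentableBy.homEquiv_eq]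
    refine hS.trans (Eq.symm ?_)
    exact map_sum (AddMonoidHom.mk' (fun ψ : P₁ k ⟶ ∐ P₀ => (ψ.val.app (op k.1.1)).hom u₀) fun _ _ => rfl) _ S
  choose supp hsupp using hfin
  refine ⟨Groth.Agent.FPColim.Idx supp, inferInstance, inferInstance,
    Groth.Agent.FPColim.diagram P₀ P₁ r supp hsupp, Groth.Agent.FPColim.cocone P₀ P₁ r supp hsupp π w,
    fun l => ?_, Groth.Agent.FPColim.nonempty_isColimit P₀ P₁ r supp hsupp π w hc⟩
  let eU : Fin l.1.1.card ≃ l.1.1 := l.1.1.equivFin.symm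
  let eV : Fin l.1.2.card ≃ l.1.2 := l.1.2.equivFin.symm
  let φU : (∐ fun i => ModSite.freeOn O (eU i).1.1.1) ≅ ∐ fun i : l.1.1 => P₀ i.1 :=
    Sigma.whiskerEquiv (g := fun i : l.1.1 => P₀ i.1) eU fun i => Iso.refl (ModSite.freeOn O (eU i).1.1.1)
  let φV : (∐ fun i => ModSite.freeOn O (eV i).1.1.1) ≅ ∐ fun i : l.1.2 => P₁ i.1 :=
    Sigma.whiskerEquiv (g := fun i : l.1.2 => P₁ i.1) eV fun i => Iso.refl (ModSite.freeOn O (eV i).1.1.1)
  refine ⟨l.1.2.card, l.1.1.card, fun j => (eV j).1.1.1, fun i => (eU i).1.1.1,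
    φV.hom ≫ Groth.Agent.FPColim.rel P₀ P₁ r supp l ≫ φU.inv, fun j => (eV j).1.1.2, fun i => (eU i).1.1.2,
    ⟨cokernel.mapIso _ _ φV.symm φU.symm (by simp)⟩⟩

end Groth.Agent.S9114
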