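import Groth.Statements.S9115
import Groth.Agent.SiteBase.QcCoprod
import Groth.Agent.ModTensor.FreeOn

set_option autoImplicit false
set_option backward.isDefEq.respectTransparency false
set_option backward.isDefEq.respectTransparency.types false
universe u
open CategoryTheory CategoryTheory.Limits Opposite
open ModSite

namespace Groth.Agent.S9115
open Groth.Agent.ModTensor

variable {C : Type u} [SmallCategory C] {J : GrothendieckTopology C} {O : Sheaf J CommRingCat.{u}}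

/-- The canonical section of `j_{U!} O_U`. -/
noncomputable def unitSec (U : C) : (secFunctor O U).obj (ModSite.freeOn O U) :=
  (freeOnCorepr O U).homEquiv (𝟙 _)

lemma homEquiv_eq {U : C} {M : ModSite.Mod O} (a : ModSite.freeOn O U ⟶ M) :
    (freeOnCorepr O U).homEquiv a = (secFunctor O U).map a (unitSec U) := by
  rw [unitSec, ← (freeOnCorepr O U).homEquiv_comp, Category.id_comp]

/-- Functoriality of `j_{U!} O_U`. -/
noncomputable def freeMap {Y U : C} (y : Y ⟶ U) : ModSite.freeOn O Y ⟶ ModSite.freeOn O U :=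
  (freeOnCorepr O Y).homEquiv.symm (rs ((fg O).obj (ModSite.freeOn O U)) y.op (unitSec U))

lemma freeMap_comp {Y U : C} (y : Y ⟶ U) {M : ModSite.Mod O} (a : ModSite.freeOn O U ⟶ M) :
    (freeOnCorepr O Y).homEquiv (freeMap y ≫ a) =
      rs ((fg O).obj M) y.op ((freeOnCorepr O U).homEquiv a) := by
  rw [(freeOnCorepr O Y).homEquiv_comp, freeMap, Equiv.apply_symm_apply, homEquiv_eq]
  exact app_rs ((fg O).map a) y.op (unitSec U)

lemma epi_desc_freeMap {U : C} {n : ℕ} {W : Fin n → C} (y : ∀ k, W k ⟶ U)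
    (hy : Sieve.ofArrows W y ∈ J U) : Epi (Sigma.desc fun k => freeMap (O := O) (y k)) := by
  refine ⟨fun {M} a b h => (freeOnCorepr O U).homEquiv.injective ?_⟩
  refine eq_of_locally (J := J) (H := (fg O).obj M) M.isSheaf hy fun V g hg => ?_
  obtain ⟨W', i, p, ⟨k⟩, rfl⟩ := hg
  rw [op_comp, rs_comp, rs_comp]
  refine congrArg (rs ((fg O).obj M) i.op) ?_
  rw [← freeMap_comp, ← freeMap_comp]
  exact congrArg _ (by simpa [Category.assoc] using congrArg (Sigma.ι (fun k => ModSite.freeOn O (W k)) k ≫ ·) h)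

/-- Maps out of `j_{U!}O_U`, `U` quasi-compact, lift along epimorphisms after finite refinement. -/
lemma exists_lift' (B : Set C)
    (hB₁ : ∀ X : C, ∃ (κ : Type u) (Y : κ → C) (g : ∀ k, Y k ⟶ X), Sieve.ofArrows Y g ∈ J X ∧ ∀ k, Y k ∈ B)
    {U : C} (hU : CohCx.IsQcObject ((presheafToSheaf J (Type u)).obj (yoneda.obj U)))
    {P G : ModSite.Mod O} (π : P ⟶ G) [Epi π] (φ : ModSite.freeOn O U ⟶ G) :
    ∃ (n : ℕ) (W : Fin n → C) (_ : ∀ k, W k ∈ B) (y : ∀ k, W k ⟶ U) (_ : Sieve.ofArrows W y ∈ J U)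
      (l : (∐ fun k => ModSite.freeOn O (W k)) ⟶ P), l ≫ π = Sigma.desc (fun k => freeMap (y k)) ≫ φ := by
  classical
  haveI := preservesColimits_toSheaf O
  haveI : Epi ((SheafOfModules.toSheaf.{u} (ModSite.ringSh O)).map π) := inferInstance
  haveI hls : Sheaf.IsLocallySurjective ((SheafOfModules.toSheaf.{u} (ModSite.ringSh O)).map π) :=
    (Sheaf.isLocallySurjective_iff_epi' _ _).2 inferInstance
  let s := (freeOnCorepr O U).homEquiv φ
  let Good : ∀ ⦃Y : C⦄, (Y ⟶ U) → Prop := fun Y y =>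
    Y ∈ B ∧ ∃ p : (secFunctor O Y).obj P, (secFunctor O Y).map π p = rs ((fg O).obj G) y.op s
  have hT : Sieve.generate (fun Y y => Good (Y := Y) y : Presieve U) ∈ J U := by
    refine J.transitive (Presheaf.imageSieve_mem J
      ((SheafOfModules.toSheaf.{u} (ModSite.ringSh O)).map π).hom (U := op U) s) _ fun V g hg => ?_
    obtain ⟨κ, Yc, h, hcov, hYB⟩ := hB₁ V
    refine J.superset_covering ?_ hcov
    rintro Z _ ⟨W', i, p, ⟨k⟩, rfl⟩
    obtain ⟨t, ht⟩ := hg
    refine ⟨Yc k, i, h k ≫ g, ⟨hYB k, rs ((fg O).obj P) (h k).op t, ?_⟩, (Category.assoc _ _ _).symm⟩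
    refine (app_rs ((fg O).map π) (h k).op t).trans ?_
    rw [op_comp, rs_comp]
    exact congrArg (rs ((fg O).obj G) (h k).op) ht
  obtain ⟨t, ht⟩ := SiteBase.exists_finite_cover_of_isQcObject hU _ hT
  have hfac : ∀ a : t, ∃ (Y : C) (y : Y ⟶ U), Good y ∧ ∃ h : a.1.1 ⟶ Y, h ≫ y = a.1.2.1 := fun a => by
    obtain ⟨Y, h, y, hy, e⟩ := a.1.2.2
    exact ⟨Y, y, hy, h, e⟩
  choose Yt y hy h he using hfac
  choose hYB p hp using hy
  let e := Fintype.equivFin t
  have hcov : Sieve.ofArrows (fun k => Yt (e.symm k)) (fun k => y (e.symm k)) ∈ J U := by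
    refine J.superset_covering ?_ ht
    rintro Z _ ⟨W', i, q, ⟨a⟩, rfl⟩
    obtain ⟨k, rfl⟩ := e.symm.surjective a
    exact ⟨_, i ≫ h (e.symm k), y (e.symm k), Presieve.ofArrows.mk k,
      by rw [Category.assoc, he]⟩
  refine ⟨_, fun k => Yt (e.symm k), fun k => hYB _, fun k => y (e.symm k), hcov, Sigma.desc fun k => (freeOnCorepr O _).homEquiv.symm (p (e.symm k)), ?_⟩
  refine Sigma.hom_ext _ _ fun k => (freeOnCorepr O _).homEquiv.injective ?_
  rw [Sigma.ι_desc_assoc, Sigma.ι_desc_assoc, (freeOnCorepr O _).homEquiv_comp, Equiv.apply_symm_apply,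
    hp, freeMap_comp]

/-- Maps out of `j_{U!}O_U`, `U` quasi-compact, lift along epimorphisms after finite refinement. -/
lemma exists_lift (B : Set C)
    (hB₁ : ∀ X : C, ∃ (κ : Type u) (Y : κ → C) (g : ∀ k, Y k ⟶ X), Sieve.ofArrows Y g ∈ J X ∧ ∀ k, Y k ∈ B)
    {U : C} (hU : CohCx.IsQcObject ((presheafToSheaf J (Type u)).obj (yoneda.obj U)))
    {P G : ModSite.Mod O} (π : P ⟶ G) [Epi π] (φ : ModSite.freeOn O U ⟶ G) :
    ∃ (n : ℕ) (W : Fin n → C) (_ : ∀ k, W k ∈ B)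
      (q : (∐ fun k => ModSite.freeOn O (W k)) ⟶ ModSite.freeOn O U) (_ : Epi q)
      (l : (∐ fun k => ModSite.freeOn O (W k)) ⟶ P), l ≫ π = q ≫ φ := by
  obtain ⟨n, W, hW, y, hy, l, hl⟩ := exists_lift' B hB₁ hU π φ
  exact ⟨n, W, hW, _, epi_desc_freeMap y hy, l, hl⟩

end Groth.Agent.S9115

namespace Groth.Agent.S9115


/-- Let (C, O) be a small ringed site with O commutative and B a set of objects of C such that every
object has a covering family by members of B and each member of B is quasi-compact (its sheaf h_U^#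
is a quasi-compact object of the topos). If F and G are O-modules of the form Coker(⊕_{j≤m}
j_{V_j!}O_{V_j} → ⊕_{i≤n} j_{U_i!}O_{U_i}) with finitely many Uᵢ, Vⱼ in B, then so is the cokernel
of any morphism F → G. -/
theorem result {C : Type u} [SmallCategory C] {J : GrothendieckTopology C}
    (O : Sheaf J CommRingCat.{u}) (B : Set C)
    (hB₁ : ∀ X : C, ∃ (κ : Type u) (Y : κ → C) (g : ∀ k, Y k ⟶ X), Sieve.ofArrows Y g ∈ J X ∧ ∀ k, Y k ∈ B)
    (hB₂ : ∀ U ∈ B, CohCx.IsQcObject ((presheafToSheaf J (Type u)).obj (yoneda.obj U))) (F G : ModSite.Mod O) (α : F ⟶ G)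
    (hF : (∃ (m' n' : ℕ) (V' : Fin m' → C) (U' : Fin n' → C)
        (ψ : (∐ fun j => ModSite.freeOn O (V' j)) ⟶ ∐ fun i => ModSite.freeOn O (U' i)),
        (∀ j, V' j ∈ B) ∧ (∀ i, U' i ∈ B) ∧ Nonempty (F ≅ cokernel ψ)))
    (hG : (∃ (m' n' : ℕ) (V' : Fin m' → C) (U' : Fin n' → C)
        (ψ : (∐ fun j => ModSite.freeOn O (V' j)) ⟶ ∐ fun i => ModSite.freeOn O (U' i)),
        (∀ j, V' j ∈ B) ∧ (∀ i, U' i ∈ B) ∧ Nonempty (G ≅ cokernel ψ))) :
    (∃ (m' n' : ℕ) (V' : Fin m' → C) (U' : Fin n' → C)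
        (ψ : (∐ fun j => ModSite.freeOn O (V' j)) ⟶ ∐ fun i => ModSite.freeOn O (U' i)),
        (∀ j, V' j ∈ B) ∧ (∀ i, U' i ∈ B) ∧ Nonempty (cokernel α ≅ cokernel ψ)) := by
  classical
  obtain ⟨mF, nF, VF, UF, ψF, hVF, hUF, ⟨eF⟩⟩ := hF
  obtain ⟨mG, nG, VG, UG, ψG, hVG, hUG, ⟨eG⟩⟩ := hG
  let π : (∐ fun i => ModSite.freeOn O (UG i)) ⟶ G := cokernel.π ψG ≫ eG.inv
  let ρ : (∐ fun i => ModSite.freeOn O (UF i)) ⟶ F := cokernel.π ψF ≫ eF.inv
  haveI : Epi π := epi_comp _ _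
  haveI : Epi ρ := epi_comp _ _
  have hl := fun i : Fin nF => exists_lift B hB₁ (hB₂ _ (hUF i)) π
    (Sigma.ι (fun i => ModSite.freeOn O (UF i)) i ≫ ρ ≫ α)
  choose n W hW q hq l hql using hl
  let S := (Σ i : Fin nF, Fin (n i)) ⊕ Fin mG
  let VS : S → C := Sum.elim (fun p => W p.1 p.2) VG
  let comp : ∀ s : S, ModSite.freeOn O (VS s) ⟶ ∐ fun i => ModSite.freeOn O (UG i) := fun
    | .inl p => Sigma.ι (fun k => ModSite.freeOn O (W p.1 k)) p.2 ≫ l p.1
    | .inr j => Sigma.ι (fun j => ModSite.freeOn O (VG j)) j ≫ ψG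
  let e := Fintype.equivFin S
  let ψ : (∐ fun j => ModSite.freeOn O (VS (e.symm j))) ⟶ ∐ fun i => ModSite.freeOn O (UG i) :=
    Sigma.desc fun j => comp (e.symm j)
  refine ⟨_, nG, fun j => VS (e.symm j), UG, ψ, fun j => ?_, hUG, ?_⟩
  · show VS (e.symm j) ∈ B
    rcases e.symm j with p | j
    exacts [hW _ _, hVG _]
  have hψ : ∀ s : S, comp s ≫ cokernel.π ψ = 0 := fun s => by
    obtain ⟨j, rfl⟩ := e.symm.surjective s
    rw [show comp (e.symm j) = Sigma.ι (fun j => ModSite.freeOn O (VS (e.symm j))) j ≫ ψ from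
      (Sigma.ι_desc (fun j => comp (e.symm j)) j).symm, Category.assoc, cokernel.condition, comp_zero]
  have hψG : ψG ≫ cokernel.π ψ = 0 := Sigma.hom_ext _ _ fun j => by
    rw [comp_zero, ← Category.assoc]; exact hψ (.inr j)
  let d : G ⟶ cokernel ψ := eG.hom ≫ cokernel.desc ψG (cokernel.π ψ) hψG
  have hπd : π ≫ d = cokernel.π ψ := by simp [π, d]
  have hαd : α ≫ d = 0 := by
    rw [← cancel_epi ρ, comp_zero]
    refine Sigma.hom_ext _ _ fun i => ?_
    haveI := hq i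
    rw [comp_zero, ← cancel_epi (q i), comp_zero]
    refine Sigma.hom_ext _ _ fun k => ?_
    rw [comp_zero]
    have : q i ≫ (Sigma.ι (fun i => ModSite.freeOn O (UF i)) i ≫ ρ ≫ α ≫ d) = l i ≫ cokernel.π ψ := by
      rw [← hπd, reassoc_of% (hql i)]
    rw [this, ← Category.assoc]
    exact hψ (.inl ⟨i, k⟩)
  have hψπ : ψ ≫ π ≫ cokernel.π α = 0 := Sigma.hom_ext _ _ fun j => by
    rw [comp_zero, ← Category.assoc, Sigma.ι_desc]
    rcases e.symm j with p | j
    · show (Sigma.ι _ p.2 ≫ l p.1) ≫ π ≫ cokernel.π α = 0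
      rw [Category.assoc, reassoc_of% (hql p.1), cokernel.condition]
      simp
    · show (Sigma.ι _ j ≫ ψG) ≫ π ≫ cokernel.π α = 0
      simp [π]
  refine ⟨{ hom := cokernel.desc α d hαd
            inv := cokernel.desc ψ (π ≫ cokernel.π α) hψπ
            hom_inv_id := ?_
            inv_hom_id := ?_ }⟩
  · refine coequalizer.hom_ext ?_
    rw [← cancel_epi π]
    simp [reassoc_of% hπd]
  · refine coequalizer.hom_ext ?_
    simp [hπd]

end Groth.Agent.S9115
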