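import Groth.Statements.S9116
import Groth.Agent.TypeALib.Cech

set_option autoImplicit false
set_option backward.isDefEq.respectTransparency false
set_option backward.isDefEq.respectTransparency.types false
universe u
open CategoryTheory CategoryTheory.Limits Opposite
open ModSite

namespace Groth.Agent.S9116

/-- Let (C, O) be a small ringed site with O commutative and B a set of objects of C such that every
object has a covering family by members of B, each member of B is quasi-compact (its sheaf h_U^# is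
a quasi-compact object of the topos), C has fibre products, and U₁ ×_U U₂ is quasi-compact for all
U, U₁, U₂ in B and maps U₁ → U, U₂ → U. If 0 → F₁ → F₂ → F₃ → 0 is a short exact sequence of
O-modules whose outer terms are of the form Coker(⊕_{j≤m} j_{V_j!}O_{V_j} → ⊕_{i≤n} j_{U_i!}O_{U_i})
with finitely many Uᵢ, Vⱼ in B, then the middle term is of that form too. (The published setting
involves only the fibre products U₁ ×_U U₂ of two members of a covering family of U, which exist in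
its notion of site; this row assumes that C has all fibre products and asks quasi-compactness of U₁
×_U U₂ for all maps U₁ → U, U₂ → U between members of B.) -/
theorem result {C : Type u} [SmallCategory C] {J : GrothendieckTopology C}
    (O : Sheaf J CommRingCat.{u}) (B : Set C)
    (hB₁ : ∀ X : C, ∃ (κ : Type u) (Y : κ → C) (g : ∀ k, Y k ⟶ X), Sieve.ofArrows Y g ∈ J X ∧ ∀ k, Y k ∈ B)
    (hB₂ : ∀ U ∈ B, CohCx.IsQcObject ((presheafToSheaf J (Type u)).obj (yoneda.obj U)))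
    [HasPullbacks C]
    (hB₃ : ∀ (U U₁ U₂ : C) (f₁ : U₁ ⟶ U) (f₂ : U₂ ⟶ U), U ∈ B → U₁ ∈ B → U₂ ∈ B →
      CohCx.IsQcObject ((presheafToSheaf J (Type u)).obj (yoneda.obj (pullback f₁ f₂))))
    (S : ShortComplex (ModSite.Mod O)) (hS : S.ShortExact)
    (h₁ : (∃ (m' n' : ℕ) (V' : Fin m' → C) (U' : Fin n' → C)
        (ψ : (∐ fun j => ModSite.freeOn O (V' j)) ⟶ ∐ fun i => ModSite.freeOn O (U' i)),
        (∀ j, V' j ∈ B) ∧ (∀ i, U' i ∈ B) ∧ Nonempty (S.X₁ ≅ cokernel ψ)))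
    (h₃ : (∃ (m' n' : ℕ) (V' : Fin m' → C) (U' : Fin n' → C)
        (ψ : (∐ fun j => ModSite.freeOn O (V' j)) ⟶ ∐ fun i => ModSite.freeOn O (U' i)),
        (∀ j, V' j ∈ B) ∧ (∀ i, U' i ∈ B) ∧ Nonempty (S.X₃ ≅ cokernel ψ))) :
    (∃ (m' n' : ℕ) (V' : Fin m' → C) (U' : Fin n' → C)
        (ψ : (∐ fun j => ModSite.freeOn O (V' j)) ⟶ ∐ fun i => ModSite.freeOn O (U' i)),
        (∀ j, V' j ∈ B) ∧ (∀ i, U' i ∈ B) ∧ Nonempty (S.X₂ ≅ cokernel ψ)) := by
  open Groth.Agent in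
  obtain ⟨P₁, R₁, r₁, p₁, w₁, hP₁, hR₁, hp₁, hex₁⟩ := TypeALib.TypeA.exists_presentation (O := O) (B := B) h₁
  obtain ⟨P₃, R₃, r₃, p₃, w₃, hP₃, hR₃, hp₃, hex₃⟩ := TypeALib.TypeA.exists_presentation (O := O) (B := B) h₃
  haveI := hp₁; haveI := hp₃; haveI := hS.epi_g; haveI := hS.mono_f
  obtain ⟨P', q, l, hP', hq, hqK, hl⟩ := TypeALib.exists_lift_cech hB₁ hB₂ hB₃ hP₃ S.g p₃
  haveI := hq
  have hK' := TypeALib.genB_kernel_comp hB₁ hB₂ q p₃ hqK (TypeALib.genB_kernel_of_exact hR₃.genB hex₃)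
  have hK₁ := TypeALib.genB_kernel_of_exact hR₁.genB hex₁
  let h : P₁ ⊞ P' ⟶ S.X₂ := biprod.desc (p₁ ≫ S.f) l
  haveI : Epi h := by
    rw [epi_iff_surjective_up_to_refinements]
    intro T x
    obtain ⟨T₁, a, ha, z, hz⟩ := surjective_up_to_refinements_of_epi (q ≫ p₃) (x ≫ S.g)
    obtain ⟨T₂, b, hb, x₁, hx₁⟩ := hS.exact.exact_up_to_refinements (a ≫ x - z ≫ l) (by
      simp [Preadditive.sub_comp, hl, hz])
    obtain ⟨T₃, c, hc, x₂, hx₂⟩ := surjective_up_to_refinements_of_epi p₁ x₁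
    refine ⟨T₃, c ≫ b ≫ a, epi_comp _ _, biprod.lift x₂ (c ≫ b ≫ z), ?_⟩
    have e1 : b ≫ a ≫ x - b ≫ z ≫ l = x₁ ≫ S.f := by rw [← hx₁, Preadditive.comp_sub]
    simp only [h, biprod.lift_desc, Category.assoc]
    rw [← reassoc_of% hx₂, ← e1, Preadditive.comp_sub]
    abel
  have hgs : h ≫ S.g = biprod.snd ≫ q ≫ p₃ := by
    apply biprod.hom_ext' <;> simp [h, hl]
  let g : kernel h ⟶ kernel (q ≫ p₃) := kernel.lift _ (kernel.ι h ≫ biprod.snd) (by
    rw [Category.assoc, ← hgs, kernel.condition_assoc, zero_comp])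
  let f : kernel p₁ ⟶ kernel h := kernel.lift h (kernel.ι p₁ ≫ biprod.inl) (by simp [h])
  have w : f ≫ g = 0 := by rw [← cancel_mono (kernel.ι (q ≫ p₃))]; simp [f, g]
  haveI : Mono (kernel.ι p₁ ≫ (biprod.inl : P₁ ⟶ P₁ ⊞ P')) := mono_comp _ _
  haveI : Mono f := mono_of_mono_fac (kernel.lift_ι _ _ _ : f ≫ kernel.ι h = kernel.ι p₁ ≫ biprod.inl)
  haveI : Epi g := by
    rw [epi_iff_surjective_up_to_refinements]
    intro T x
    obtain ⟨T₁, a, ha, x₁, hx₁⟩ := hS.exact.exact_up_to_refinements (x ≫ kernel.ι (q ≫ p₃) ≫ l) (by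
      simp [hl, kernel.condition])
    obtain ⟨T₂, b, hb, x₂, hx₂⟩ := surjective_up_to_refinements_of_epi p₁ x₁
    refine ⟨T₂, b ≫ a, epi_comp _ _, kernel.lift h (biprod.lift (-x₂) ((b ≫ a) ≫ x ≫ kernel.ι _)) ?_, ?_⟩
    · simp only [h, biprod.lift_desc, Category.assoc, Preadditive.neg_comp]
      rw [← reassoc_of% hx₂, hx₁, neg_add_cancel]
    · rw [← cancel_mono (kernel.ι (q ≫ p₃))]; simp [g]
  have hex : (ShortComplex.mk f g w).Exact := by
    rw [ShortComplex.exact_iff_exact_up_to_refinements]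
    intro T x hx
    have h1 : x ≫ kernel.ι h ≫ biprod.snd = 0 := by simpa [g] using congrArg (· ≫ kernel.ι (q ≫ p₃)) hx
    have h2 : (x ≫ kernel.ι h ≫ biprod.fst) ≫ p₁ = 0 := by
      rw [← cancel_mono S.f, zero_comp]
      have h3 : h = biprod.fst ≫ p₁ ≫ S.f + biprod.snd ≫ l := by
        apply biprod.hom_ext' <;> simp [h]
      calc ((x ≫ kernel.ι h ≫ biprod.fst) ≫ p₁) ≫ S.f
          = (x ≫ kernel.ι h) ≫ (biprod.fst ≫ p₁ ≫ S.f + biprod.snd ≫ l) - (x ≫ kernel.ι h ≫ biprod.snd) ≫ l := by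
            simp [Preadditive.comp_add]
        _ = (x ≫ kernel.ι h) ≫ h - (x ≫ kernel.ι h ≫ biprod.snd) ≫ l :=
            congrArg (fun t => (x ≫ kernel.ι h) ≫ t - (x ≫ kernel.ι h ≫ biprod.snd) ≫ l) h3.symm
        _ = 0 := by rw [h1]; simp
    refine ⟨T, 𝟙 T, inferInstance, kernel.lift p₁ _ h2, ?_⟩
    rw [← cancel_mono (kernel.ι h)]
    apply biprod.hom_ext <;> simp [f, h1]
  exact TypeALib.typeA_of_presentation (hP₁.biprod hP') h
    (TypeALib.GenB.ext hB₁ hB₂ (S := ShortComplex.mk f g w) (.mk' hex inferInstance inferInstance) hK₁ hK')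

end Groth.Agent.S9116
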