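import Groth.Statements.S9119
import Groth.Agent.ConstShMod.Basic

set_option autoImplicit false
universe u
open CategoryTheory Opposite
open CohSite

namespace Groth.Agent.S9119
set_option backward.isDefEq.respectTransparency false
open Groth.Agent

/-- Let Λ be a coherent commutative ring, i.e. every finitely generated ideal of Λ is finitely presented
as a Λ-module, and let M be a flat Λ-module. Then for every object U the Λ-module M̲(U) of sections
over U of the constant sheaf on M is flat. -/
theorem result {C : Type u} [SmallCategory C] (J : GrothendieckTopology C)
    (Λ : Type u) [CommRing Λ] (hΛ : ∀ I : Ideal Λ, I.FG → Module.FinitePresentation Λ I)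
    (M : Type u) [AddCommGroup M] [Module Λ M] [Module.Flat Λ M] (U : C) :
    Module.Flat Λ (((constantSheaf J (ModuleCat.{u} Λ)).obj (ModuleCat.of Λ M)).obj.obj (op U)) := by
  rw [Module.Flat.iff_lTensor_injective]
  intro I hI
  haveI := hΛ I hI
  refine (Function.Injective.of_comp_iff' _ Function.bijective_id).mp ?_
  refine Function.Injective.of_comp (f := ConstShMod.θ J U M Λ) fun a b hab => ?_
  simp only [Function.comp_apply, id_eq, ConstShMod.θ_natural] at hab
  exact (ConstShMod.θ_bijective J U M I).1 (ConstShMod.Γm_injective J U _
    (Module.Flat.lTensor_preserves_injective_linearMap _ Subtype.val_injective) hab)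

end Groth.Agent.S9119
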