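import Groth.Statements.S9120
import Groth.Agent.ShHomColim.Global

set_option autoImplicit false
universe u
open CategoryTheory CategoryTheory.Limits Opposite
open ModSite Opposite

namespace Groth.Agent.S9120

/-- Let (C, O) be a small ringed site with O commutative. Assume there is a set S of sheaves of sets on
C such that (a) for every sheaf of sets F whose map to the final sheaf is an epimorphism there are K
in S, also mapping epimorphically to the final sheaf, and a morphism K → F, and (b) for every K in S
the product K × K is a quasi-compact object of the topos. Then for every O-module F of finite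
presentation and every small filtered diagram of O-modules (G_λ), the functor Hom_O(F, -) (with
values in sets) preserves the colimit: colim_λ Hom_O(F, G_λ) = Hom_O(F, colim_λ G_λ). -/
theorem result {C : Type u} [SmallCategory C] {J : GrothendieckTopology C}
    (O : Sheaf J CommRingCat.{u})
    (S : Set (Sheaf J (Type u)))
    (hSa : ∀ F : Sheaf J (Type u), Epi (terminal.from F) → ∃ K ∈ S, Epi (terminal.from K) ∧ Nonempty (K ⟶ F))
    (hSb : ∀ K ∈ S, CohCx.IsQcObject (K ⨯ K))
    (F : ModSite.Mod O) [SheafOfModules.IsFinitePresentation (R := ModSite.ringSh O) F]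
    {Λ : Type u} [SmallCategory Λ] [IsFiltered Λ] (D : Λ ⥤ ModSite.Mod O) :
    PreservesColimit D (coyoneda.obj (op F)) := by
  refine Groth.Agent.ShHomColim.preserves_hom O S hSa (fun K hK => ?_) F D
  rw [Groth.Agent.ToposFinLib.isQC_iff]
  intro ι G π hπ
  obtain ⟨t, ht⟩ := hSb K hK ι G π fun U s => ⟨_, hπ (U := U) s, fun V g hg => hg⟩
  refine ⟨t, fun U y => ?_⟩
  obtain ⟨T, hT, hT'⟩ := ht U y
  exact J.superset_covering (fun V g hg => hT' V g hg) hT

end Groth.Agent.S9120
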