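import Groth.Statements.S9130
import Groth.Agent.DimFormula.Trdeg
import Mathlib.RingTheory.Noetherian.Basic
import Mathlib.RingTheory.Polynomial.Basic

set_option autoImplicit false
universe u
open CAlg

namespace Groth.Agent.S9130

/-- Let A ⊆ B be domains with B of finite type over A and A Noetherian, and assume every element of B is
algebraic over A. For a height-one prime p of A, only finitely many primes of B lie over p and each
of them has height one. (The published statement assumes that Frac(B) is finite over Frac(A); this
row assumes B algebraic over A, which is equivalent for a finite type extension of domains.) -/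
theorem result (A B : Type u) [CommRing A] [IsDomain A]
    [IsNoetherianRing A] [CommRing B] [IsDomain B] [Algebra A B] [FaithfulSMul A B]
    [Algebra.FiniteType A B] [Algebra.IsAlgebraic A B] (p : Ideal A) [p.IsPrime]
    (hp : p.height = 1) :
    (p.primesOver B).Finite ∧ ∀ q ∈ p.primesOver B, q.height = 1 := by
  haveI : IsNoetherianRing B := Algebra.FiniteType.isNoetherianRing A B
  have hp0 : p ≠ ⊥ := by rintro rfl; simp [Ideal.height_bot] at hp
  have key : ∀ q ∈ p.primesOver B, q.height = 1 := by
    rintro q ⟨hq, hqp⟩
    have h := (DimFormula.trdeg_formula A p q).1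
    rw [trdeg_eq_zero (R := A) (A := B), add_zero, hp] at h
    have h1 : (q.height : Cardinal.{u}) ≤ ((1 : ℕ∞) : Cardinal.{u}) := le_trans le_self_add h
    have h2 : q.height ≠ 0 := by
      intro h0
      have : q ∈ minimalPrimes B := by
        rw [← Ideal.height_eq_zero_iff]; exact h0
      rw [IsDomain.minimalPrimes_eq_singleton_bot] at this
      apply hp0
      rw [hqp.over, Set.mem_singleton_iff.1 this, Ideal.under_bot]
    exact le_antisymm (Cardinal.ofENat_le_ofENat.1 h1) (ENat.one_le_iff_ne_zero.2 h2)
  refine ⟨Set.Finite.subset ((p.map (algebraMap A B)).finite_minimalPrimes_of_isNoetherianRing B) ?_, key⟩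
  rintro q ⟨hq, hqp⟩
  refine ⟨⟨hq, ?_⟩, ?_⟩
  · rw [hqp.over]; exact Ideal.map_comap_le
  rintro r ⟨hr, hpr⟩ hle
  by_contra hne
  have hlt : r < q := lt_of_le_of_ne hle fun he => hne he.ge
  have hrp : r.LiesOver p := ⟨le_antisymm (fun x hx => hpr (Ideal.mem_map_of_mem _ hx))
    (fun x hx => hqp.over ▸ hle hx)⟩
  have e1 := key r ⟨hr, hrp⟩
  have e2 := key q ⟨hq, hqp⟩
  haveI : r.FiniteHeight := ⟨Or.inr (by rw [e1]; exact ENat.one_ne_top)⟩
  have := Ideal.height_strict_mono_of_isPrime hlt
  rw [e1, e2] at this
  exact lt_irrefl _ this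

end Groth.Agent.S9130
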