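import Groth.Statements.S9131
import Mathlib
import Groth.Agent.CAlgOdd.NilProj

set_option autoImplicit false
universe u
open CAlg

namespace Groth.Agent.S9131

open TensorProduct in
theorem comap_eq {R : Type u} [CommRing R] {K P M : Type u} [AddCommGroup K] [Module R K]
    [AddCommGroup P] [Module R P] [AddCommGroup M] [Module R M] [Module.Flat R M]
    (f : K →ₗ[R] P) (g : P →ₗ[R] M) (hf : Function.Injective f) (hg : Function.Surjective g)
    (hfg : Function.Exact f g) (J : Ideal R) (k : K) (hk : f k ∈ (J • ⊤ : Submodule R P)) :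
    k ∈ (J • ⊤ : Submodule R K) := by
  rw [← Groth.Agent.CAlgOdd.one_tmul_quot_eq_zero_iff] at hk ⊢
  exact LinearMap.lTensor_injective_of_exact_of_flat g hg f hf hfg (R ⧸ J)
    (by rw [LinearMap.lTensor_tmul, hk, map_zero])

theorem exists_lift {R : Type u} [CommRing R] (I : Ideal R) {M X Y : Type u} [AddCommGroup M] [Module R M]
    [AddCommGroup X] [Module R X] [AddCommGroup Y] [Module R Y] [Module.Flat R M]
    [Module.Projective (R ⧸ I) (M ⧸ (I • ⊤ : Submodule R M))]
    (q : X →ₗ[R] Y) (hq : Function.Surjective q) (hker : ∀ a ∈ I, ∀ x, q x = 0 → a • x = 0)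
    (u : M →ₗ[R] Y) : ∃ v : M →ₗ[R] X, q ∘ₗ v = u := by
  let E : Submodule R (X × M) := LinearMap.ker (q ∘ₗ LinearMap.fst R X M - u ∘ₗ LinearMap.snd R X M)
  have hE : ∀ e : X × M, e ∈ E ↔ q e.1 = u e.2 := fun e => by simp [E, sub_eq_zero]
  let π : E →ₗ[R] M := LinearMap.snd R X M ∘ₗ E.subtype
  have hπ : Function.Surjective π := fun m => by
    obtain ⟨x, hx⟩ := hq (u m)
    exact ⟨⟨(x, m), (hE _).2 hx⟩, rfl⟩
  have hzero : ∀ e : E, e ∈ (I • ⊤ : Submodule R E) → π e = 0 → e = 0 := fun e he h0 => by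
    have := comap_eq (LinearMap.ker π).subtype π Subtype.val_injective hπ (LinearMap.exact_subtype_ker_map π) I
      (⟨e, h0⟩ : LinearMap.ker π) he
    have hz : (I • ⊤ : Submodule R (LinearMap.ker π)) = ⊥ := by
      rw [eq_bot_iff, Submodule.smul_le]
      rintro a ha ⟨⟨⟨x, m⟩, hxm⟩, hm⟩ -
      have hm : m = 0 := hm
      subst hm
      have hx : q x = 0 := by simpa using (hE _).1 hxm
      rw [Submodule.mem_bot]
      exact Subtype.ext (Subtype.ext (Prod.ext (hker a ha x hx) (smul_zero a)))
    rw [hz, Submodule.mem_bot] at this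
    exact congrArg Subtype.val this
  let πb : (E ⧸ (I • ⊤ : Submodule R E)) →ₗ[R ⧸ I] (M ⧸ (I • ⊤ : Submodule R M)) :=
    π.reduceModIdeal I
  have hπb : Function.Surjective πb := fun z => by
    obtain ⟨m, rfl⟩ := Submodule.Quotient.mk_surjective _ z
    obtain ⟨e, rfl⟩ := hπ m
    exact ⟨Submodule.Quotient.mk e, rfl⟩
  obtain ⟨σ, hσ⟩ := Module.projective_lifting_property πb LinearMap.id hπb
  have hmapE : Submodule.map π (I • ⊤) = (I • ⊤ : Submodule R M) := by
    rw [Submodule.map_smul'', Submodule.map_top, LinearMap.range_eq_top.2 hπ]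
  have h : ∀ m, ∃ e : E, π e = m ∧ Submodule.Quotient.mk e = σ (Submodule.Quotient.mk m) := fun m => by
    obtain ⟨e, he⟩ := Submodule.Quotient.mk_surjective _ (σ (Submodule.Quotient.mk m))
    have h1 : (Submodule.Quotient.mk (π e) : M ⧸ (I • ⊤ : Submodule R M)) = Submodule.Quotient.mk m := by
      have := LinearMap.congr_fun hσ (Submodule.Quotient.mk m)
      rw [LinearMap.comp_apply, ← he] at this
      exact this
    obtain ⟨e1, he1, e2⟩ : π e - m ∈ Submodule.map π (I • ⊤) :=
      hmapE.symm ▸ (Submodule.Quotient.eq _).1 h1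
    refine ⟨e - e1, by rw [map_sub, e2, sub_sub_cancel], ?_⟩
    rw [← he, Submodule.Quotient.eq]
    simpa using Submodule.neg_mem _ he1
  choose w hw1 hw2 using h
  have huniq : ∀ e e' : E, π e = π e' → (Submodule.Quotient.mk e : E ⧸ (I • ⊤ : Submodule R E)) =
      Submodule.Quotient.mk e' → e = e' := fun e e' h1 h2 => sub_eq_zero.1
    (hzero _ ((Submodule.Quotient.eq _).1 h2) (by rw [map_sub, h1, sub_self]))
  have hadd : ∀ a b, w (a + b) = w a + w b := fun a b => huniq _ _ (by simp [hw1])
    (by rw [hw2, Submodule.Quotient.mk_add, map_add, ← hw2, ← hw2, ← Submodule.Quotient.mk_add])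
  have hsmul : ∀ (r : R) a, w (r • a) = r • w a := fun r a => huniq _ _ (by simp [hw1])
    (by rw [hw2, Submodule.Quotient.mk_smul, LinearMap.map_smul_of_tower, ← hw2, ← Submodule.Quotient.mk_smul])
  let w' : M →ₗ[R] E := { toFun := w, map_add' := hadd, map_smul' := hsmul }
  refine ⟨LinearMap.fst R X M ∘ₗ E.subtype ∘ₗ w', LinearMap.ext fun m => ?_⟩
  have := (hE _).1 (w m).2
  rw [show ((w m : E) : X × M).2 = m from hw1 m] at this
  exact this

theorem exists_sections {R : Type u} [CommRing R] (I : Ideal R) {K P M : Type u} [AddCommGroup K] [Module R K]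
    [AddCommGroup P] [Module R P] [AddCommGroup M] [Module R M] [Module.Flat R M]
    [Module.Projective (R ⧸ I) (M ⧸ (I • ⊤ : Submodule R M))]
    (f : K →ₗ[R] P) (g : P →ₗ[R] M) (hf : Function.Injective f) (hg : Function.Surjective g)
    (hfg : Function.Exact f g) :
    ∃ s : ∀ n, M →ₗ[R] (P ⧸ (I ^ n • ⊤ : Submodule R P)),
      (∀ n m, g.reduceModIdeal (I ^ n) (s n m) = Submodule.Quotient.mk m) ∧
      ∀ {a b : ℕ} (hab : a ≤ b) m, AdicCompletion.transitionMap I P hab (s b m) = s a m := by
  have hmap : ∀ J : Ideal R, Submodule.map g (J • ⊤) = (J • ⊤ : Submodule R M) := fun J => by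
    rw [Submodule.map_smul'', Submodule.map_top, LinearMap.range_eq_top.2 hg]
  have step : ∀ n (t : M →ₗ[R] (P ⧸ (I ^ n • ⊤ : Submodule R P))),
      (∀ m, g.reduceModIdeal (I ^ n) (t m) = Submodule.Quotient.mk m) →
      ∃ t' : M →ₗ[R] (P ⧸ (I ^ (n + 1) • ⊤ : Submodule R P)),
        (∀ m, g.reduceModIdeal (I ^ (n + 1)) (t' m) = Submodule.Quotient.mk m) ∧
          ∀ m, AdicCompletion.transitionMap I P n.le_succ (t' m) = t m := by
    intro n t ht
    let q := (AdicCompletion.transitionMap I P n.le_succ).prod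
      ((g.reduceModIdeal (I ^ (n + 1))).restrictScalars R)
    have hmemq : ∀ m, (t m, (Submodule.Quotient.mk m : M ⧸ (I ^ (n + 1) • ⊤ : Submodule R M))) ∈
        LinearMap.range q := fun m => by
      obtain ⟨p, hp⟩ := Submodule.Quotient.mk_surjective _ (t m)
      have h0 := ht m
      rw [← hp] at h0
      have h1 : g p - m ∈ Submodule.map g (I ^ n • ⊤) := (hmap _).symm ▸ (Submodule.Quotient.eq _).1 h0
      obtain ⟨p1, hp1, e⟩ := h1
      refine ⟨Submodule.Quotient.mk (p - p1), Prod.ext ?_ ?_⟩
      · rw [← hp]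
        exact (Submodule.Quotient.eq _).2 (by simpa using Submodule.neg_mem _ hp1)
      · show Submodule.Quotient.mk (g (p - p1)) = Submodule.Quotient.mk m
        rw [map_sub, e, sub_sub_cancel]
    have hker : ∀ a ∈ I, ∀ x, q.rangeRestrict x = 0 → a • x = 0 := by
      intro a ha x hx
      obtain ⟨p, rfl⟩ := Submodule.Quotient.mk_surjective _ x
      have hx' := congrArg Subtype.val hx
      have h1 : p ∈ (I ^ n • ⊤ : Submodule R P) :=
        (Submodule.Quotient.mk_eq_zero _).1 (congrArg Prod.fst hx')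
      have h2 : g p ∈ Submodule.map g (I ^ (n + 1) • ⊤) :=
        (hmap _).symm ▸ (Submodule.Quotient.mk_eq_zero _).1 (congrArg Prod.snd hx')
      obtain ⟨p1, hp1, e⟩ := h2
      obtain ⟨k, hk⟩ := (hfg (p - p1)).1 (by rw [map_sub, e, sub_self])
      have hk' : k ∈ (I ^ n • ⊤ : Submodule R K) := comap_eq f g hf hg hfg _ k (hk ▸ sub_mem h1
        (Submodule.smul_mono_left (Ideal.pow_le_pow_right n.le_succ) hp1))
      have h3 : a • k ∈ (I ^ (n + 1) • ⊤ : Submodule R K) := by
        rw [pow_succ', Submodule.mul_smul]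
        exact Submodule.smul_mem_smul ha hk'
      rw [← Submodule.Quotient.mk_smul, Submodule.Quotient.mk_eq_zero,
        show a • p = a • p1 + f (a • k) by rw [map_smul, hk, smul_sub, add_sub_cancel]]
      refine add_mem (Submodule.smul_mem _ _ hp1) ?_
      have h4 := Submodule.mem_map_of_mem (f := f) h3
      rw [Submodule.map_smul''] at h4
      exact Submodule.smul_mono le_rfl le_top h4
    obtain ⟨v, hv⟩ := exists_lift I q.rangeRestrict q.surjective_rangeRestrict hker
      ((t.prod (Submodule.mkQ _)).codRestrict (LinearMap.range q) hmemq)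
    have hv' : ∀ m, q (v m) = (t m, Submodule.Quotient.mk m) := fun m =>
      congrArg Subtype.val (LinearMap.congr_fun hv m)
    exact ⟨v, fun m => congrArg Prod.snd (hv' m), fun m => congrArg Prod.fst (hv' m)⟩
  choose nx hnx1 hnx2 using step
  haveI : Subsingleton (M ⧸ (I ^ 0 • ⊤ : Submodule R M)) := by
    rw [Submodule.Quotient.subsingleton_iff]; simp
  let sec : ∀ n, { t : M →ₗ[R] (P ⧸ (I ^ n • ⊤ : Submodule R P)) //
      ∀ m, g.reduceModIdeal (I ^ n) (t m) = Submodule.Quotient.mk m } := fun n =>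
    Nat.rec ⟨0, fun _ => Subsingleton.elim _ _⟩ (fun k t => ⟨nx k t.1 t.2, hnx1 k t.1 t.2⟩) n
  refine ⟨fun n => (sec n).1, fun n => (sec n).2, fun {a b} hab m => ?_⟩
  induction b, hab using Nat.le_induction with
  | base =>
    obtain ⟨p, hp⟩ := Submodule.Quotient.mk_surjective _ ((sec a).1 m)
    rw [← hp]; rfl
  | succ b hab ih =>
    have h1 : AdicCompletion.transitionMap I P b.le_succ ((sec (b + 1)).1 m) = (sec b).1 m :=
      hnx2 b (sec b).1 (sec b).2 m
    rw [← ih, ← h1]
    obtain ⟨p, hp⟩ := Submodule.Quotient.mk_surjective _ ((sec (b + 1)).1 m)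
    rw [← hp]; rfl

/-- Let R be a ring, I an ideal, and 0 → K → P → M → 0 a short exact sequence of R-modules with M flat
over R and M/IM projective over R/I. Then the induced sequence of I-adic completions is split short
exact: the map on completions of K → P is injective, the sequence is exact in the middle, and the
map on completions of P → M has a section linear over the completion of R (so it is surjective). -/
theorem result (R : Type u) [CommRing R] (I : Ideal R)
    (K P M : Type u) [AddCommGroup K] [Module R K] [AddCommGroup P] [Module R P]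
    [AddCommGroup M] [Module R M] (f : K →ₗ[R] P) (g : P →ₗ[R] M)
    (hf : Function.Injective f) (hg : Function.Surjective g) (hfg : Function.Exact f g)
    [Module.Flat R M] [Module.Projective (R ⧸ I) (M ⧸ (I • ⊤ : Submodule R M))] :
    Function.Injective (AdicCompletion.map I f) ∧
      Function.Exact (AdicCompletion.map I f) (AdicCompletion.map I g) ∧
      ∃ s : AdicCompletion I M →ₗ[AdicCompletion I R] AdicCompletion I P,
        AdicCompletion.map I g ∘ₗ s = LinearMap.id := by
  have hmem : ∀ (J : Ideal R) (k : K), f k ∈ (J • ⊤ : Submodule R P) → k ∈ (J • ⊤ : Submodule R K) :=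
    fun J k => comap_eq f g hf hg hfg J k
  have hmap : ∀ J : Ideal R, Submodule.map g (J • ⊤) = (J • ⊤ : Submodule R M) := fun J => by
    rw [Submodule.map_smul'', Submodule.map_top, LinearMap.range_eq_top.2 hg]
  have hinj : ∀ n, Function.Injective (f.reduceModIdeal (I ^ n)) := fun n => by
    rw [injective_iff_map_eq_zero]
    intro z
    obtain ⟨k, rfl⟩ := Submodule.Quotient.mk_surjective _ z
    intro hz
    exact (Submodule.Quotient.mk_eq_zero _).2 (hmem _ k ((Submodule.Quotient.mk_eq_zero _).1 hz))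
  refine ⟨fun a b hab => AdicCompletion.ext fun {n} => hinj n (by
      simpa using congrArg (fun z => z.val n) hab), fun x => ⟨fun hx => ?_, ?_⟩, ?_⟩
  · have h : ∀ n, ∃ z, f.reduceModIdeal (I ^ n) z = x.val n := fun n => by
      obtain ⟨p, hp⟩ := Submodule.Quotient.mk_surjective _ (x.val n)
      have h0 : g p ∈ (I ^ n • ⊤ : Submodule R M) := by
        rw [← Submodule.Quotient.mk_eq_zero]
        have := congrArg (fun z => z.val n) hx
        simp only [AdicCompletion.map_val_apply, ← hp] at this
        simpa using this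
      rw [← hmap] at h0
      obtain ⟨p1, hp1, e⟩ := h0
      obtain ⟨k, hk⟩ := (hfg (p - p1)).1 (by rw [map_sub, e, sub_self])
      refine ⟨Submodule.Quotient.mk k, ?_⟩
      rw [← hp]
      exact (Submodule.Quotient.eq _).2 (by rw [hk]; simpa using Submodule.neg_mem _ hp1)
    choose z hz using h
    refine ⟨⟨z, fun {m n} hmn => hinj m ?_⟩, AdicCompletion.ext fun {n} => hz n⟩
    rw [hz m, ← x.2 hmn, ← hz n]
    obtain ⟨k, hk⟩ := Submodule.Quotient.mk_surjective _ (z n)
    rw [← hk]
    rfl
  · rintro ⟨y, rfl⟩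
    refine AdicCompletion.ext fun {n} => ?_
    obtain ⟨k, hk⟩ := Submodule.Quotient.mk_surjective _ (y.val n)
    rw [AdicCompletion.map_val_apply, AdicCompletion.map_val_apply, ← hk]
    simp [hfg.apply_apply_eq_zero]
  obtain ⟨s, hs, hst⟩ := exists_sections I f g hf hg hfg
  let t : ∀ n, (M ⧸ (I ^ n • ⊤ : Submodule R M)) →ₗ[R] (P ⧸ (I ^ n • ⊤ : Submodule R P)) := fun n =>
    Submodule.liftQ _ (s n) (by
      refine Submodule.smul_le.2 fun a ha m _ => ?_
      rw [LinearMap.mem_ker, map_smul]
      obtain ⟨p, hp⟩ := Submodule.Quotient.mk_surjective _ (s n m)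
      rw [← hp, ← Submodule.Quotient.mk_smul, Submodule.Quotient.mk_eq_zero]
      exact Submodule.smul_mem_smul ha trivial)
  have ht : ∀ {m n : ℕ} (hmn : m ≤ n) z, AdicCompletion.transitionMap I P hmn (t n z) =
      t m (AdicCompletion.transitionMap I M hmn z) := fun hmn z => by
    obtain ⟨x, rfl⟩ := Submodule.Quotient.mk_surjective _ z
    exact hst hmn x
  let S₀ := AdicCompletion.lift I (fun n => t n ∘ₗ AdicCompletion.eval I M n)
    (fun {m n} hmn => LinearMap.ext fun x => by
      show AdicCompletion.transitionMap I P hmn (t n (x.val n)) = t m (x.val m)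
      rw [ht, x.2 hmn])
  refine ⟨{ S₀ with map_smul' := fun r x => AdicCompletion.ext fun {n} => ?_ }, ?_⟩
  · show t n ((r • x).val n) = (r • S₀ x).val n
    show t n (r.val n • x.val n) = r.val n • t n (x.val n)
    obtain ⟨a, ha⟩ := Submodule.Quotient.mk_surjective _ (r.val n)
    rw [← ha]
    show t n (a • x.val n) = a • t n (x.val n)
    exact map_smul _ _ _
  · refine LinearMap.ext fun x => AdicCompletion.ext fun {n} => ?_
    show g.reduceModIdeal (I ^ n) (t n (x.val n)) = x.val n
    obtain ⟨m, hm⟩ := Submodule.Quotient.mk_surjective _ (x.val n)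
    rw [← hm]
    exact hs n m

end Groth.Agent.S9131
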