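import Groth.Statements.S9133
import Groth.Agent.KrullAkiExt.Basic

set_option autoImplicit false
universe u
open CAlg

open scoped Pointwise

namespace Groth.Agent.S9133

/-- Let R → S be a homomorphism of domains compatible with field maps K → L of their fraction fields (so
R → S is injective), where R is Noetherian local of dimension one and L is finite over K. Then each
prime n of S whose contraction to R is the maximal ideal of R is a maximal ideal of S, only finitely
many such n exist, and each quotient S/n is a finite R-module (its residue field is a finite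
extension of that of R). -/
theorem result (R S K L : Type u)
    [CommRing R] [IsDomain R] [IsNoetherianRing R] [IsLocalRing R] (hdim : ringKrullDim R = 1)
    [CommRing S] [IsDomain S] [Algebra R S] [Field K] [Field L] [Algebra R K] [IsFractionRing R K]
    [Algebra S L] [IsFractionRing S L] [Algebra K L] [Algebra R L] [IsScalarTower R K L]
    [IsScalarTower R S L] [FiniteDimensional K L] :
    (∀ n ∈ (IsLocalRing.maximalIdeal R).primesOver S, n.IsMaximal) ∧
      ((IsLocalRing.maximalIdeal R).primesOver S).Finite ∧
      ∀ n ∈ (IsLocalRing.maximalIdeal R).primesOver S, Module.Finite R (S ⧸ n) := by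
  haveI : Ring.KrullDimLE 1 R := by
    rw [Ring.krullDimLE_iff, hdim]
    exact le_rfl
  obtain ⟨a, ha, ha0⟩ := Submodule.exists_mem_ne_zero_of_ne_bot (p := IsLocalRing.maximalIdeal R) fun h => by
    rw [ringKrullDim_eq_zero_of_isField (IsLocalRing.isField_iff_maximalIdeal_eq.mpr h)] at hdim
    exact zero_ne_one hdim
  have hfl := KrullAkiExt.isFiniteLength_quotient_map (K := K) L S (IsFractionRing.injective S L) ha0
  have hJ : (Ideal.span {algebraMap R S a}).restrictScalars R = a • (⊤ : Submodule R S) := by
    ext x
    rw [Submodule.restrictScalars_mem, Ideal.mem_span_singleton, Submodule.mem_smul_pointwise_iff_exists]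
    constructor
    · rintro ⟨c, rfl⟩; exact ⟨c, trivial, Algebra.smul_def a c⟩
    · rintro ⟨c, -, rfl⟩; exact ⟨c, Algebra.smul_def a c⟩
  let T := S ⧸ Ideal.span {algebraMap R S a}
  let e : T ≃ₗ[R] S ⧸ (a • (⊤ : Submodule R S)) :=
    (Submodule.Quotient.restrictScalarsEquiv R _).symm.trans (Submodule.quotEquivOfEq _ _ hJ)
  obtain ⟨hN, hA⟩ := isFiniteLength_iff_isNoetherian_isArtinian.mp hfl
  haveI : IsNoetherian R T := isNoetherian_of_linearEquiv e.symm
  haveI : IsArtinian R T := isArtinian_of_linearEquiv e.symm
  haveI : IsArtinianRing T := isArtinian_of_tower R inferInstance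
  haveI : Module.Finite R T := inferInstance
  have hle : ∀ n ∈ (IsLocalRing.maximalIdeal R).primesOver S, Ideal.span {algebraMap R S a} ≤ n := fun n hn => by
    rw [Ideal.span_singleton_le_iff_mem]
    obtain ⟨-, ⟨hn⟩⟩ := hn
    show a ∈ n.comap (algebraMap R S)
    exact hn.le ha
  have hker : RingHom.ker (Ideal.Quotient.mk (Ideal.span {algebraMap R S a})) = Ideal.span {algebraMap R S a} := Ideal.mk_ker
  have hprime : ∀ n ∈ (IsLocalRing.maximalIdeal R).primesOver S, (n.map (Ideal.Quotient.mk (Ideal.span {algebraMap R S a}))).IsPrime := fun n hn => by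
    haveI := hn.1
    exact Ideal.map_isPrime_of_surjective Ideal.Quotient.mk_surjective (by rw [hker]; exact hle n hn)
  have hback : ∀ n ∈ (IsLocalRing.maximalIdeal R).primesOver S,
      (n.map (Ideal.Quotient.mk (Ideal.span {algebraMap R S a}))).comap (Ideal.Quotient.mk _) = n := fun n hn => by
    rw [Ideal.comap_map_of_surjective _ Ideal.Quotient.mk_surjective, ← RingHom.ker_eq_comap_bot, hker,
      sup_eq_left.mpr (hle n hn)]
  refine ⟨fun n hn => ?_, ?_, fun n hn => ?_⟩
  · haveI := hprime n hn
    haveI : (n.map (Ideal.Quotient.mk (Ideal.span {algebraMap R S a}))).IsMaximal := inferInstance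
    rw [← hback n hn]
    exact Ideal.comap_isMaximal_of_surjective _ Ideal.Quotient.mk_surjective
  · haveI : Finite (PrimeSpectrum T) := inferInstance
    refine ((Set.finite_univ (α := PrimeSpectrum T)).image fun P => P.asIdeal.comap (Ideal.Quotient.mk _)).subset fun n hn => ?_
    exact ⟨⟨_, hprime n hn⟩, trivial, hback n hn⟩
  · refine Module.Finite.of_surjective
      ((Ideal.Quotient.factorₐ R (hle n hn)).toLinearMap) ?_
    exact Ideal.Quotient.factor_surjective (hle n hn)

end Groth.Agent.S9133
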