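import Groth.Statements.S9135
import Groth.Statements.S9135
import Mathlib
open scoped TensorProduct
set_option linter.style.haveILetI false
set_option maxHeartbeats 1000000
set_option synthInstance.maxHeartbeats 100000

set_option autoImplicit false
universe u
open CAlg

namespace Groth.Agent.S9135

/-- Let R → S be of finite type and p a minimal prime of R over which only finitely many primes of S
lie. Then for some g ∈ R outside p the localized map R_g → S_g is finite. -/
theorem result (R S : Type u) [CommRing R] [CommRing S]
    [Algebra R S] [Algebra.FiniteType R S] (p : Ideal R) (hp : p ∈ minimalPrimes R)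
    (hfin : (p.primesOver S).Finite) :
    ∃ g : R, g ∉ p ∧ (Localization.awayMap (algebraMap R S) g).Finite := by
  classical
  haveI hpp : p.IsPrime := hp.isPrime
  -- the fibre ring is finite over the residue field
  haveI : Module.Finite p.ResidueField (p.Fiber S) := by
    have hpre : (PrimeSpectrum.comap (algebraMap R S) ⁻¹' {⟨p, hpp⟩}).Finite := by
      refine (hfin.preimage (Function.Injective.injOn (f := PrimeSpectrum.asIdeal) fun _ _ => PrimeSpectrum.ext)).subset ?_
      intro q hq
      exact ⟨q.isPrime, ⟨(congrArg PrimeSpectrum.asIdeal hq).symm⟩⟩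
    rw [Module.finite_iff_isArtinianRing, isArtinianRing_iff_isNoetherianRing_krullDimLE_zero]
    have : IsJacobsonRing (p.Fiber S) := isJacobsonRing_of_finiteType (A := p.ResidueField)
    have : Finite (PrimeSpectrum (p.Fiber S)) :=
      (PrimeSpectrum.preimageEquivFiber R S ⟨p, hpp⟩).finite_iff.mp hpre
    exact ⟨Algebra.FiniteType.isNoetherianRing p.ResidueField _,
      (PrimeSpectrum.discreteTopology_iff_finite_and_krullDimLE_zero.mp inferInstance).right⟩
  -- every element of `S` is a root of a polynomial with leading coefficient outside `p`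
  have key : ∀ x : S, ∃ (G : Polynomial R) (d : ℕ), G.coeff d ∉ p ∧ (∀ i, d < i → G.coeff i = 0) ∧
      Polynomial.aeval x G = 0 := by
    intro x
    let x' : p.Fiber S := (Algebra.TensorProduct.includeRight : S →ₐ[R] p.Fiber S) x
    obtain ⟨f, hf, hfx⟩ := (IsIntegral.of_finite p.ResidueField x')
    set Mq := nonZeroDivisors (R ⧸ p)
    obtain ⟨b, hb, hbm⟩ := IsLocalization.integerNormalization_spec (S := p.ResidueField) Mq f
    set Hb := IsLocalization.integerNormalization (S := p.ResidueField) Mq f
    have hinj : Function.Injective (algebraMap (R ⧸ p) p.ResidueField) := IsFractionRing.injective _ _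
    have hHb : Hb ≠ 0 := by
      intro h
      rw [h, Polynomial.map_zero] at hbm
      have h1 := congrArg (Polynomial.coeff · f.natDegree) hbm
      rw [Polynomial.coeff_zero, Polynomial.coeff_smul, hf.coeff_natDegree, Algebra.smul_def, mul_one] at h1
      exact nonZeroDivisors.ne_zero hb (hinj (h1.symm.trans (map_zero _).symm))
    obtain ⟨H, hH, hHd⟩ := Polynomial.exists_degree_eq_of_mem_lifts
      ((Polynomial.lifts_iff_coeff_lifts _).mpr fun n => Ideal.Quotient.mk_surjective (I := p) (Hb.coeff n))
    set c := H.leadingCoeff with hc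
    have hcp : c ∉ p := fun h => by
      apply Polynomial.leadingCoeff_ne_zero.mpr hHb
      rw [Polynomial.leadingCoeff, ← Polynomial.natDegree_eq_of_degree_eq hHd, ← hH, Polynomial.coeff_map]
      exact Ideal.Quotient.eq_zero_iff_mem.mpr h
    have hy0 : (Algebra.TensorProduct.includeRight : S →ₐ[R] p.Fiber S) (Polynomial.aeval x H) = 0 := by
      rw [← Polynomial.aeval_algHom_apply, ← Polynomial.aeval_map_algebraMap p.ResidueField]
      have : H.map (algebraMap R p.ResidueField) = b • f := by
        rw [← hbm, ← hH, Polynomial.map_map]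
        rfl
      rw [this, Algebra.smul_def, map_mul]
      show _ * Polynomial.aeval x' f = 0
      rw [show Polynomial.aeval x' f = 0 from hfx, mul_zero]
    set y := Polynomial.aeval x H
    let Sp := Localization (Algebra.algebraMapSubmonoid S p.primeCompl)
    have hnil : IsNilpotent (algebraMap S Sp y) := by
      rw [nilpotent_iff_mem_prime]
      intro Q hQ
      set q := Q.comap (algebraMap S Sp)
      have hd : q.comap (algebraMap R S) ≤ p := by
        intro r hr
        by_contra hrp
        exact hQ.ne_top (Q.eq_top_of_isUnit_mem hr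
          (IsLocalization.map_units Sp (⟨algebraMap R S r, r, hrp, rfl⟩ : Algebra.algebraMapSubmonoid S p.primeCompl)))
      haveI : q.IsPrime := hQ.comap _
      have heq : q.comap (algebraMap R S) = p :=
        le_antisymm hd (hp.2 ⟨inferInstance, bot_le⟩ hd)
      let e := PrimeSpectrum.preimageEquivFiber R S ⟨p, hpp⟩
      let qq : PrimeSpectrum.comap (algebraMap R S) ⁻¹' {⟨p, hpp⟩} := ⟨⟨q, inferInstance⟩, PrimeSpectrum.ext heq⟩
      have hy : y ∈ ((e.symm (e qq)).1).asIdeal := by
        show (Algebra.TensorProduct.includeRight : S →ₐ[R] p.Fiber S) y ∈ (e qq).asIdeal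
        rw [hy0]
        exact zero_mem _
      rw [e.symm_apply_apply] at hy
      exact hy
    obtain ⟨N, hN⟩ := hnil
    rw [← map_pow, IsLocalization.map_eq_zero_iff (Algebra.algebraMapSubmonoid S p.primeCompl)] at hN
    obtain ⟨⟨_, u, hu, rfl⟩, hu0⟩ := hN
    refine ⟨Polynomial.C u * H ^ N, N * H.natDegree, ?_, fun i hi => ?_, ?_⟩
    · rw [Polynomial.coeff_C_mul, Polynomial.coeff_pow_mul_natDegree]
      exact fun h => (hpp.mem_or_mem h).elim hu fun h' => hcp (hpp.mem_of_pow_mem N h')
    · refine Polynomial.coeff_eq_zero_of_natDegree_lt (lt_of_le_of_lt ?_ hi)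
      exact (Polynomial.natDegree_C_mul_le _ _).trans Polynomial.natDegree_pow_le
    · rw [map_mul, map_pow, Polynomial.aeval_C]
      exact hu0
  choose G d hGd hGi hGx using key
  obtain ⟨σ, hσ⟩ := (Algebra.FiniteType.out : (⊤ : Subalgebra R S).FG)
  let g : R := ∏ x ∈ σ, (G x).coeff (d x)
  refine ⟨g, fun h => ?_, ?_⟩
  · obtain ⟨x, _, hx⟩ := Ideal.IsPrime.prod_mem_iff.mp h
    exact hGd x hx
  · let Rg := Localization.Away g
    let Sg := Localization.Away (algebraMap R S g)
    let φ : Rg →+* Sg := Localization.awayMap (algebraMap R S) g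
    letI algRS : Algebra Rg Sg := φ.toAlgebra
    haveI : IsScalarTower R Rg Sg := IsScalarTower.of_algebraMap_eq fun r => by
      show algebraMap R Sg r = φ (algebraMap R Rg r)
      simp only [φ, Localization.awayMap, IsLocalization.Away.map, IsLocalization.map_eq]
      exact IsScalarTower.algebraMap_apply R S Sg r
    haveI : Algebra.FiniteType R Sg :=
      Algebra.FiniteType.trans (S := S) inferInstance (IsLocalization.finiteType_of_monoid_fg (Submonoid.powers (algebraMap R S g)) Sg)
    haveI : Algebra.FiniteType Rg Sg := Algebra.FiniteType.of_restrictScalars_finiteType R Rg Sg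
    let C : Subalgebra R S := ((integralClosure Rg Sg).restrictScalars R).comap (IsScalarTower.toAlgHom R S Sg)
    have hC : C = ⊤ := by
      rw [eq_top_iff, ← hσ, Algebra.adjoin_le_iff]
      intro x hx
      show IsIntegral Rg (algebraMap S Sg x)
      have hu : IsUnit (algebraMap R Rg ((G x).coeff (d x))) := by
        refine isUnit_of_dvd_unit ?_ (IsLocalization.Away.algebraMap_isUnit (S := Rg) g)
        exact map_dvd _ (Finset.dvd_prod_of_mem _ hx)
      let M : Polynomial Rg := Polynomial.C ((hu.unit⁻¹ : Rgˣ) : Rg) * (G x).map (algebraMap R Rg)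
      refine ⟨M, Polynomial.monic_of_natDegree_le_of_coeff_eq_one (d x) ?_ ?_, ?_⟩
      · rw [Polynomial.natDegree_le_iff_coeff_eq_zero]
        intro i hi
        rw [Polynomial.coeff_C_mul, Polynomial.coeff_map, hGi x i hi, map_zero, mul_zero]
      · rw [Polynomial.coeff_C_mul, Polynomial.coeff_map, IsUnit.val_inv_mul]
      · show Polynomial.aeval (algebraMap S Sg x) M = 0
        rw [map_mul, show Polynomial.aeval (algebraMap S Sg x) ((G x).map (algebraMap R Rg)) = 0 by
          rw [Polynomial.aeval_map_algebraMap, Polynomial.aeval_algebraMap_apply, hGx, map_zero], mul_zero]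
    haveI : Algebra.IsIntegral Rg Sg := ⟨fun z => by
      obtain ⟨⟨s, ⟨_, n, rfl⟩⟩, hz⟩ := IsLocalization.surj (Submonoid.powers (algebraMap R S g)) z
      have hs : IsIntegral Rg (algebraMap S Sg s) := (show s ∈ C by rw [hC]; trivial)
      have hu : IsUnit (algebraMap R Rg g) := IsLocalization.Away.algebraMap_isUnit g
      obtain ⟨v, hv⟩ := hu.pow n
      have h2 : algebraMap S Sg ((algebraMap R S g) ^ n) = algebraMap Rg Sg (v : Rg) := by
        rw [hv, map_pow, map_pow, ← IsScalarTower.algebraMap_apply R S Sg, ← IsScalarTower.algebraMap_apply R Rg Sg]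
      have : z = algebraMap Rg Sg ((v⁻¹ : Rgˣ) : Rg) * algebraMap S Sg s := by
        rw [← hz]
        show z = _ * (z * algebraMap S Sg ((algebraMap R S g) ^ n))
        rw [h2, mul_left_comm, ← map_mul, Units.inv_mul, map_one, mul_one]
      rw [this]
      exact isIntegral_algebraMap.mul hs⟩
    exact (Algebra.IsIntegral.finite : Module.Finite Rg Sg)

end Groth.Agent.S9135
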