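import Groth.Statements.S9136
import Mathlib
import Groth.Agent.KrullAkiExt.Basic
import Groth.Agent.S9133
import Groth.Agent.S6320
import Groth.Agent.H1GenDepth.Basic

set_option autoImplicit false
universe u
open CAlg

namespace Groth.Agent.S9136

open scoped Pointwise in
theorem length_lattice {A L : Type u} [CommRing A] [IsDomain A] [IsNoetherianRing A] [Ring.KrullDimLE 1 A]
    [AddCommGroup L] [Module A L] {n : ℕ} (N : Submodule A L) [Module.Finite A N] (v : Fin n → N)
    (hv : LinearIndependent A v) (ht : ∀ y : N, ∃ a : A, a ≠ 0 ∧ a • y ∈ Submodule.span A (Set.range v))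
    (x : A) (hx : x ≠ 0) (hreg : Function.Injective (fun y : N => x • y)) :
    Module.length A (N ⧸ (x • (⊤ : Submodule A N))) =
      (n : ℕ∞) * Module.length A (A ⧸ Ideal.span ({x} : Set A)) := by
  classical
  let F : Submodule A N := Submodule.span A (Set.range v)
  let e : (Fin n → A) ≃ₗ[A] F := ((Module.Basis.span hv).equivFun).symm
  obtain ⟨s, hs⟩ := (Module.Finite.iff_fg (R := A) (N := (⊤ : Submodule A N))).1 inferInstance
  choose c hc hcF using ht
  let a := ∏ y ∈ s, c y
  have ha : a ≠ 0 := Finset.prod_ne_zero_iff.2 fun y _ => hc y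
  have haF : ∀ y : N, a • y ∈ F := by
    intro y
    have hy : y ∈ (⊤ : Submodule A N) := trivial
    rw [← hs] at hy
    induction hy using Submodule.span_induction with
    | mem y hy =>
      show a • y ∈ F
      rw [show a = (∏ z ∈ s.erase y, c z) * c y from (Finset.prod_erase_mul s c hy).symm, mul_smul]
      exact F.smul_mem _ (hcF y)
    | zero => rw [smul_zero]; exact F.zero_mem
    | add y z _ _ hy hz => rw [smul_add]; exact F.add_mem hy hz
    | smul r y _ hy => rw [smul_comm]; exact F.smul_mem r hy
  have hNF : Module.length A (N ⧸ F) ≠ ⊤ := by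
    obtain ⟨k, g, hg⟩ := Module.Finite.exists_fin' A (N ⧸ F)
    have h1 : Module.length A (Fin k → A ⧸ Ideal.span ({a} : Set A)) ≠ ⊤ := by
      rw [Module.length_pi_of_fintype]
      simp only [Finset.sum_const, Finset.card_univ, Fintype.card_fin, nsmul_eq_mul]
      exact WithTop.mul_ne_top (ENat.natCast_ne_top _)
        (Module.length_ne_top_iff.2 (isFiniteLength_quotient_span_singleton A (mem_nonZeroDivisors_of_ne_zero ha)))
    refine ne_top_of_le_ne_top h1 ?_
    let π : (Fin k → A) →ₗ[A] (Fin k → A ⧸ Ideal.span ({a} : Set A)) :=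
      LinearMap.pi fun i => (Submodule.mkQ _).comp (LinearMap.proj i)
    have hπ : Function.Surjective π := fun z => ⟨fun i => Function.surjInv Ideal.Quotient.mk_surjective (z i),
      funext fun i => Function.surjInv_eq Ideal.Quotient.mk_surjective (z i)⟩
    have hker : LinearMap.ker π ≤ LinearMap.ker g := by
      intro z hz
      rw [LinearMap.mem_ker] at hz
      have h2 : ∀ i, ∃ r, r * a = z i := fun i =>
        Ideal.mem_span_singleton'.1 (Ideal.Quotient.eq_zero_iff_mem.1 (congrFun hz i))
      choose r hr using h2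
      rw [LinearMap.mem_ker, show z = a • r from funext fun i => by rw [← hr i]; exact mul_comm _ _, map_smul]
      obtain ⟨y, hy⟩ := Submodule.Quotient.mk_surjective F (g r)
      rw [← hy, ← Submodule.Quotient.mk_smul, Submodule.Quotient.mk_eq_zero]
      exact haF y
    refine Module.length_le_of_surjective
      ((Submodule.liftQ _ g hker).comp (π.quotKerEquivOfSurjective hπ).symm.toLinearMap) fun y => ?_
    obtain ⟨z, rfl⟩ := hg y
    exact ⟨(π.quotKerEquivOfSurjective hπ) (Submodule.Quotient.mk z), by simp⟩
  let xF : Submodule A N := x • F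
  have hxFF : xF ≤ F := fun y hy => by
    obtain ⟨z, hz, rfl⟩ := (Submodule.mem_smul_pointwise_iff_exists _ _ _).1 hy
    exact F.smul_mem x hz
  have hxFN : xF ≤ (x • (⊤ : Submodule A N) : Submodule A N) := fun y hy => by
    obtain ⟨z, -, rfl⟩ := (Submodule.mem_smul_pointwise_iff_exists _ _ _).1 hy
    exact (Submodule.mem_smul_pointwise_iff_exists _ _ _).2 ⟨z, trivial, rfl⟩
  let fx : N →ₗ[A] N ⧸ xF := xF.mkQ.comp (x • LinearMap.id)
  have hfx : LinearMap.ker fx = F := by
    ext y
    refine (LinearMap.mem_ker).trans ((Submodule.Quotient.mk_eq_zero _).trans ⟨fun h => ?_, fun h => ?_⟩)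
    · obtain ⟨z, hz, hzy⟩ := (Submodule.mem_smul_pointwise_iff_exists _ _ _).1 h
      rwa [← hreg (show x • z = x • y from hzy)]
    · exact (Submodule.mem_smul_pointwise_iff_exists _ _ _).2 ⟨y, h, rfl⟩
  have e1 : Module.length A (N ⧸ xF) =
      Module.length A (N ⧸ F) + Module.length A (N ⧸ (x • (⊤ : Submodule A N) : Submodule A N)) := by
    refine Module.length_eq_add_of_exact (Submodule.liftQ F fx hfx.ge) (Submodule.factor hxFN) ?_
      (Submodule.factor_surjective hxFN) ?_
    · rw [← LinearMap.ker_eq_bot, Submodule.ker_liftQ_eq_bot' _ _ hfx.symm]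
    · intro z
      obtain ⟨z, rfl⟩ := Submodule.Quotient.mk_surjective _ z
      constructor
      · intro hz
        obtain ⟨y, -, rfl⟩ := (Submodule.mem_smul_pointwise_iff_exists _ _ _).1
          ((Submodule.Quotient.mk_eq_zero _).1 hz)
        exact ⟨Submodule.Quotient.mk y, rfl⟩
      · rintro ⟨y, hy⟩
        obtain ⟨y, rfl⟩ := Submodule.Quotient.mk_surjective _ y
        rw [← hy]
        exact (Submodule.Quotient.mk_eq_zero _).2
          ((Submodule.mem_smul_pointwise_iff_exists _ _ _).2 ⟨y, trivial, rfl⟩)
  have e2 : Module.length A (N ⧸ xF) =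
      Module.length A (F ⧸ xF.comap F.subtype) + Module.length A (N ⧸ F) := by
    refine Module.length_eq_add_of_exact (Submodule.mapQ _ _ F.subtype le_rfl) (Submodule.factor hxFF) ?_
      (Submodule.factor_surjective hxFF) ?_
    · rw [← LinearMap.ker_eq_bot, eq_bot_iff]
      intro y hy
      obtain ⟨y, rfl⟩ := Submodule.Quotient.mk_surjective _ y
      rw [LinearMap.mem_ker, Submodule.mapQ_apply, Submodule.Quotient.mk_eq_zero] at hy
      exact (Submodule.Quotient.mk_eq_zero _).2 hy
    · intro z
      obtain ⟨z, rfl⟩ := Submodule.Quotient.mk_surjective _ z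
      constructor
      · intro hz
        exact ⟨Submodule.Quotient.mk ⟨z, (Submodule.Quotient.mk_eq_zero _).1 hz⟩, rfl⟩
      · rintro ⟨y, hy⟩
        obtain ⟨y, rfl⟩ := Submodule.Quotient.mk_surjective _ y
        rw [← hy]
        exact (Submodule.Quotient.mk_eq_zero _).2 y.2
  have e3 : Module.length A (F ⧸ xF.comap F.subtype) =
      (n : ℕ∞) * Module.length A (A ⧸ Ideal.span ({x} : Set A)) := by
    let π : (Fin n → A) →ₗ[A] (Fin n → A ⧸ Ideal.span ({x} : Set A)) :=
      LinearMap.pi fun i => (Submodule.mkQ _).comp (LinearMap.proj i)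
    have hπ : Function.Surjective π := fun z => ⟨fun i => Function.surjInv Ideal.Quotient.mk_surjective (z i),
      funext fun i => Function.surjInv_eq Ideal.Quotient.mk_surjective (z i)⟩
    let ψ : F →ₗ[A] (Fin n → A ⧸ Ideal.span ({x} : Set A)) := π.comp e.symm.toLinearMap
    have hψs : Function.Surjective ψ := hπ.comp e.symm.surjective
    have hψ : LinearMap.ker ψ = xF.comap F.subtype := by
      ext y
      constructor
      · intro hy
        have h2 : ∀ i, ∃ r, r * x = e.symm y i := fun i =>
          Ideal.mem_span_singleton'.1 (Ideal.Quotient.eq_zero_iff_mem.1 (congrFun hy i))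
        choose r hr using h2
        refine (Submodule.mem_smul_pointwise_iff_exists _ _ _).2 ⟨(e r : F), (e r).2, ?_⟩
        have h3 : x • e r = y := by
          rw [← map_smul, show x • r = e.symm y from funext fun i => by rw [← hr i]; exact mul_comm _ _]
          exact e.apply_symm_apply y
        exact congrArg Subtype.val h3
      · intro hy
        obtain ⟨z, hz, hzy⟩ := (Submodule.mem_smul_pointwise_iff_exists _ _ _).1 hy
        have h3 : y = x • (⟨z, hz⟩ : F) := Subtype.ext hzy.symm
        refine funext fun i => Ideal.Quotient.eq_zero_iff_mem.2 (Ideal.mem_span_singleton'.2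
          ⟨e.symm ⟨z, hz⟩ i, ?_⟩)
        show _ = e.symm y i
        rw [h3, map_smul]
        exact mul_comm _ _
    rw [(Submodule.quotEquivOfEq _ _ hψ.symm).length_eq, (ψ.quotKerEquivOfSurjective hψs).length_eq,
      Module.length_pi_of_fintype]
    simp
  rw [e2, add_comm (Module.length A (N ⧸ F)), e3] at e1
  exact ((WithTop.add_right_cancel hNF) e1).symm

open scoped Pointwise in
theorem isFiniteLength_of_tower (A : Type u) {B M : Type u} [CommRing A] [CommRing B] [Algebra A B] [AddCommGroup M]
    [Module A M] [Module B M] [IsScalarTower A B M] (h : Module.length A M ≠ ⊤) : IsFiniteLength B M := by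
  obtain ⟨h1, h2⟩ := isFiniteLength_iff_isNoetherian_isArtinian.1 (Module.length_ne_top_iff.1 h)
  exact isFiniteLength_iff_isNoetherian_isArtinian.2 ⟨isNoetherian_of_tower A h1, isArtinian_of_tower A h2⟩

open scoped Pointwise in
theorem length_bound (A B K L : Type u)
    [CommRing A] [IsDomain A] [IsNoetherianRing A] [IsLocalRing A] [Ring.KrullDimLE 1 A]
    [CommRing B] [IsDomain B] [Algebra A B] [FaithfulSMul A B]
    [Field K] [Field L] [Algebra A K] [IsFractionRing A K] [Algebra B L] [IsFractionRing B L]
    [Algebra K L] [Algebra A L] [IsScalarTower A K L] [IsScalarTower A B L] [FiniteDimensional K L]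
    (x : A) (hx0 : x ≠ 0) (hxm : x ∈ IsLocalRing.maximalIdeal A) (hBL : Function.Injective (algebraMap B L)) :
    Module.length A (B ⧸ Ideal.span ({algebraMap A B x} : Set B)) ≤
        (Module.finrank K L : ℕ∞) * Module.length A (A ⧸ Ideal.span ({x} : Set A)) ∧
      (Module.length A (B ⧸ Ideal.span ({algebraMap A B x} : Set B)) =
        (Module.finrank K L : ℕ∞) * Module.length A (A ⧸ Ideal.span ({x} : Set A)) ↔ Module.Finite A B) := by
  classical
  let J : Ideal B := Ideal.span ({algebraMap A B x} : Set B)
  let φ : B →ₗ[A] L := (IsScalarTower.toAlgHom A B L).toLinearMap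
  have hAL : Function.Injective (algebraMap A L) := by
    rw [IsScalarTower.algebraMap_eq A K L]
    exact (algebraMap K L).injective.comp (IsFractionRing.injective A K)
  have hregB : ∀ {a : A}, a ≠ 0 → ∀ {b : B}, a • b = 0 → b = 0 := fun {a} ha {b} h => by
    rw [Algebra.smul_def, mul_eq_zero] at h
    exact h.resolve_left fun h' => ha (FaithfulSMul.algebraMap_injective A B (h'.trans (map_zero _).symm))
  -- a basis of `L` inside `B`
  let β := Module.finBasis K L
  have hB : ∀ l : L, ∃ (b : B) (a : A), a ≠ 0 ∧ algebraMap B L b = a • l := by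
    intro l
    obtain ⟨p, q, hq, rfl⟩ := IsFractionRing.div_surjective (A := B) l
    have hq0 : q ≠ 0 := nonZeroDivisors.ne_zero hq
    obtain ⟨a, ha, haJ⟩ := Groth.Agent.KrullAkiExt.exists_ne_zero_mem (R := A) (K := K) L B hBL
      (J := Ideal.span ({q} : Set B)) (by rwa [ne_eq, Ideal.span_singleton_eq_bot])
    obtain ⟨r, hr⟩ := Ideal.mem_span_singleton'.1 haJ
    refine ⟨r * p, a, ha, ?_⟩
    rw [Algebra.smul_def, IsScalarTower.algebraMap_apply A B L, ← hr, map_mul, map_mul,
      mul_assoc, mul_div_cancel₀ _ (fun h => hq0 (hBL (h.trans (map_zero _).symm)))]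
  choose bb aa haa hbb using hB
  have hfinB : IsFiniteLength A (B ⧸ (x • (⊤ : Submodule A B))) :=
    Groth.Agent.KrullAkiExt.isFiniteLength_quotient_map (K := K) L B hBL hx0
  have hJ : J.restrictScalars A = (x • (⊤ : Submodule A B) : Submodule A B) := by
    ext y
    rw [Submodule.restrictScalars_mem, Ideal.mem_span_singleton', Submodule.mem_smul_pointwise_iff_exists]
    exact ⟨fun ⟨r, hr⟩ => ⟨r, trivial, by rw [Algebra.smul_def, mul_comm, hr]⟩,
      fun ⟨r, _, hr⟩ => ⟨r, by rw [mul_comm, ← Algebra.smul_def, hr]⟩⟩
  have hlenJ : Module.length A (B ⧸ J) = Module.length A (B ⧸ (x • (⊤ : Submodule A B))) :=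
    ((Submodule.Quotient.restrictScalarsEquiv A J).symm ≪≫ₗ Submodule.quotEquivOfEq _ _ hJ).length_eq
  obtain ⟨hnoeth, -⟩ := isFiniteLength_iff_isNoetherian_isArtinian.1 hfinB
  obtain ⟨t, ht⟩ := hnoeth.noetherian ⊤
  let lift := Function.surjInv (Submodule.Quotient.mk_surjective (x • (⊤ : Submodule A B)))
  -- the lattice
  have main : ∀ N : Submodule A B, N.FG → (∀ i, bb (β i) ∈ N) →
      Module.length A (N ⧸ (x • (⊤ : Submodule A N))) =
        (Module.finrank K L : ℕ∞) * Module.length A (A ⧸ Ideal.span ({x} : Set A)) := by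
    intro N hN hbN
    haveI : Module.Finite A N := Module.Finite.iff_fg.2 hN
    refine length_lattice N (fun i => ⟨bb (β i), hbN i⟩) ?_ ?_ x hx0 ?_
    · rw [Fintype.linearIndependent_iff]
      intro g hg i
      have h1 : φ ((∑ j, g j • (⟨bb (β j), hbN j⟩ : N) : N) : B) = 0 := by rw [hg]; exact map_zero φ
      simp only [Submodule.coe_sum, Submodule.coe_smul, map_sum, map_smul] at h1
      have h2 : ∑ j, (algebraMap A K (g j * aa (β j))) • β j = 0 := by
        refine Eq.trans (Finset.sum_congr rfl fun j _ => ?_) h1
        rw [algebraMap_smul, mul_smul, ← hbb]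
        rfl
      have h3 := Fintype.linearIndependent_iff.1 β.linearIndependent _ h2 i
      rw [map_eq_zero_iff _ (IsFractionRing.injective A K), mul_eq_zero] at h3
      exact h3.resolve_right (haa _)
    · intro y
      obtain ⟨⟨d, hd⟩, hd'⟩ := IsLocalization.exist_integer_multiples (nonZeroDivisors A) Finset.univ
        fun i => β.repr (φ y) i * (algebraMap A K (aa (β i)))⁻¹
      choose r hr using fun i => hd' i (Finset.mem_univ i)
      refine ⟨d, nonZeroDivisors.ne_zero hd, ?_⟩
      have : d • y = ∑ i, r i • (⟨bb (β i), hbN i⟩ : N) := by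
        refine Subtype.ext (hBL ?_)
        show φ (d • (y : B)) = φ ((∑ i, r i • (⟨bb (β i), hbN i⟩ : N) : N) : B)
        simp only [Submodule.coe_sum, Submodule.coe_smul, map_sum, map_smul]
        conv_lhs => rw [← β.sum_repr (φ y), Finset.smul_sum]
        refine Finset.sum_congr rfl fun i _ => ?_
        show _ = r i • algebraMap B L (bb (β i))
        rw [hbb, ← mul_smul, ← algebraMap_smul K (r i * aa (β i)) (β i), map_mul, hr i, ← algebraMap_smul K d,
          smul_smul]
        congr 1
        show _ = d • (β.repr (φ ↑y) i * (algebraMap A K (aa (β i)))⁻¹) * _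
        rw [Algebra.smul_def, mul_assoc (algebraMap A K d), mul_assoc,
          inv_mul_cancel₀ (fun h => haa (β i) (IsFractionRing.injective A K (h.trans (map_zero _).symm))), mul_one]
      rw [this]
      exact Submodule.sum_mem _ fun i _ => Submodule.smul_mem _ _ (Submodule.subset_span ⟨i, rfl⟩)
    · intro y z h
      have h' : x • ((y : B) - z) = 0 := by
        rw [smul_sub, sub_eq_zero]; exact congrArg Subtype.val h
      exact Subtype.ext (sub_eq_zero.1 (hregB hx0 h'))
  let N : Submodule A B := Submodule.span A (Set.range (fun i => bb (β i)) ∪ lift '' t)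
  have hN : N.FG := Submodule.fg_span ((Set.finite_range _).union (t.finite_toSet.image _))
  have hbN : ∀ i, bb (β i) ∈ N := fun i => Submodule.subset_span (Or.inl ⟨i, rfl⟩)
  let q : (N ⧸ (x • (⊤ : Submodule A N))) →ₗ[A] B ⧸ (x • (⊤ : Submodule A B)) :=
    Submodule.mapQ _ _ N.subtype fun y hy => by
      obtain ⟨z, -, rfl⟩ := (Submodule.mem_smul_pointwise_iff_exists _ _ _).1 hy
      exact (Submodule.mem_smul_pointwise_iff_exists _ _ _).2 ⟨z, trivial, rfl⟩
  have hgen : ∀ b : B, ∃ y ∈ N, ∃ b' : B, b = y + x • b' := by
    intro b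
    have hb : (x • (⊤ : Submodule A B) : Submodule A B).mkQ b ∈ N.map (x • (⊤ : Submodule A B) : Submodule A B).mkQ := by
      have h1 : (x • (⊤ : Submodule A B) : Submodule A B).mkQ b ∈ Submodule.span A (t : Set _) := by
        rw [ht]; trivial
      refine Submodule.span_le.2 (fun z hz => ?_) h1
      exact ⟨lift z, Submodule.subset_span (Or.inr ⟨z, hz, rfl⟩), Function.surjInv_eq _ z⟩
    obtain ⟨y, hy, hyb⟩ := hb
    obtain ⟨z, -, hz⟩ := (Submodule.mem_smul_pointwise_iff_exists _ _ _).1 ((Submodule.Quotient.eq _).1 hyb)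
    refine ⟨y, hy, -z, ?_⟩
    rw [smul_neg, hz]
    abel
  have hq : Function.Surjective q := by
    intro z
    obtain ⟨b, rfl⟩ := Submodule.Quotient.mk_surjective _ z
    obtain ⟨y, hy, b', rfl⟩ := hgen b
    refine ⟨Submodule.Quotient.mk ⟨y, hy⟩, ?_⟩
    show Submodule.Quotient.mk y = Submodule.Quotient.mk (y + x • b')
    refine (Submodule.Quotient.eq _).2 ((Submodule.mem_smul_pointwise_iff_exists _ _ _).2 ⟨-b', trivial, ?_⟩)
    rw [smul_neg]; abel
  refine ⟨?_, fun heq => ?_, fun hfinite => ?_⟩
  · rw [hlenJ, ← main N hN hbN]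
    exact Module.length_le_of_surjective q hq
  · rw [hlenJ] at heq
    have hfl : Module.length A (B ⧸ (x • (⊤ : Submodule A B))) ≠ ⊤ := Module.length_ne_top_iff.2 hfinB
    have hker : LinearMap.ker q = ⊥ := by
      have h1 := Module.length_eq_add_of_exact (LinearMap.ker q).subtype q (Submodule.subtype_injective _) hq
        (LinearMap.exact_subtype_ker_map q)
      rw [main N hN hbN, ← heq] at h1
      have h2 : Module.length A (LinearMap.ker q) = 0 := by
        have h3 : (0 : ℕ∞) + Module.length A (B ⧸ (x • (⊤ : Submodule A B))) =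
            Module.length A (LinearMap.ker q) + Module.length A (B ⧸ (x • (⊤ : Submodule A B))) := by
          rw [zero_add]; exact h1
        exact (WithTop.add_right_cancel hfl h3).symm
      exact Submodule.subsingleton_iff_eq_bot.1 (Module.length_eq_zero_iff.1 h2)
    have hcap : ∀ b : B, x • b ∈ N → b ∈ N := by
      intro b hb
      have h1 : q (Submodule.Quotient.mk ⟨x • b, hb⟩) = 0 := by
        show Submodule.Quotient.mk (x • b) = 0
        exact (Submodule.Quotient.mk_eq_zero _).2
          ((Submodule.mem_smul_pointwise_iff_exists _ _ _).2 ⟨b, trivial, rfl⟩)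
      have h2 := (LinearMap.ker_eq_bot'.1 hker) _ h1
      obtain ⟨z, -, hz⟩ := (Submodule.mem_smul_pointwise_iff_exists _ _ _).1 ((Submodule.Quotient.mk_eq_zero _).1 h2)
      have h3 : x • ((z : B) - b) = 0 := by
        rw [smul_sub, sub_eq_zero]; exact congrArg Subtype.val hz
      rw [← sub_eq_zero.1 (hregB hx0 h3)]
      exact z.2
    have hpow : ∀ (k : ℕ) (b : B), x ^ k • b ∈ N → b ∈ N := by
      intro k
      induction k with
      | zero => intro b hb; rwa [pow_zero, one_smul] at hb
      | succ k ih =>
        intro b hb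
        rw [pow_succ, mul_smul] at hb
        exact hcap b (ih _ hb)
    have htop : N = ⊤ := by
      refine eq_top_iff.2 fun b _ => ?_
      obtain ⟨⟨d, hd⟩, hd'⟩ := IsLocalization.exist_integer_multiples (nonZeroDivisors A) Finset.univ
        fun i => β.repr (φ b) i * (algebraMap A K (aa (β i)))⁻¹
      choose r hr using fun i => hd' i (Finset.mem_univ i)
      have hdb : d • b ∈ N := by
        have : d • b = ∑ i, r i • bb (β i) := by
          refine hBL ?_
          show φ (d • b) = φ (∑ i, r i • bb (β i))
          simp only [map_sum, map_smul]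
          conv_lhs => rw [← β.sum_repr (φ b), Finset.smul_sum]
          refine Finset.sum_congr rfl fun i _ => ?_
          show _ = r i • algebraMap B L (bb (β i))
          rw [hbb, ← mul_smul, ← algebraMap_smul K (r i * aa (β i)) (β i), map_mul, hr i, ← algebraMap_smul K d,
            smul_smul]
          congr 1
          show _ = d • (β.repr (φ b) i * (algebraMap A K (aa (β i)))⁻¹) * _
          rw [Algebra.smul_def, mul_assoc (algebraMap A K d), mul_assoc,
            inv_mul_cancel₀ (fun h => haa (β i) (IsFractionRing.injective A K (h.trans (map_zero _).symm))), mul_one]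
        rw [this]
        exact Submodule.sum_mem _ fun i _ => Submodule.smul_mem _ _ (hbN i)
      obtain ⟨k, hk⟩ : ∃ k, x ^ k ∈ Ideal.span ({d} : Set A) := by
        refine Ideal.mem_radical_iff.1 ?_
        rw [Ideal.radical_eq_sInf]
        refine Submodule.mem_sInf.2 fun P hP => ?_
        obtain ⟨hdP, hPp⟩ := hP
        haveI := hPp
        have hne : P ≠ ⊥ := fun h => nonZeroDivisors.ne_zero hd (by
          have := hdP (Ideal.mem_span_singleton_self d)
          rwa [h, Ideal.mem_bot] at this)
        rw [IsLocalRing.eq_maximalIdeal (Groth.Agent.KrullAki.isMaximal_of_ne_bot hne)]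
        exact hxm
      obtain ⟨c, hc⟩ := Ideal.mem_span_singleton'.1 hk
      refine hpow k b ?_
      rw [← hc, mul_smul]
      exact N.smul_mem c hdb
    haveI : Module.Finite A N := Module.Finite.iff_fg.2 hN
    exact Module.Finite.equiv ((LinearEquiv.ofEq N ⊤ htop).trans Submodule.topEquiv)
  · haveI := hfinite
    rw [hlenJ, ← main ⊤ Module.Finite.fg_top fun _ => trivial]
    refine (LinearEquiv.length_eq ?_).symm
    exact Submodule.Quotient.equiv _ _ Submodule.topEquiv (by
      rw [Submodule.map_pointwise_smul, Submodule.map_top, LinearEquiv.range])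

/-- Let A ⊆ B be a finite type extension of domains, A Noetherian local of dimension one, with
compatible fraction fields K ⊆ L and L finite over K. Then B has finitely many maximal ideals, and
for a nonzero x in the maximal ideal of A the sum over the maximal ideals m of B of (length of B/m
over A, i.e. the residue degree) times (length of B_m / x B_m over B_m) is at most the degree of L
over K times the length of A/xA; equality holds exactly when B is a finite A-module. -/
theorem result (A B K L : Type u)
    [CommRing A] [IsDomain A] [IsNoetherianRing A] [IsLocalRing A] (hdim : ringKrullDim A = 1)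
    [CommRing B] [IsDomain B] [Algebra A B] [FaithfulSMul A B] [Algebra.FiniteType A B]
    [Field K] [Field L] [Algebra A K] [IsFractionRing A K] [Algebra B L] [IsFractionRing B L]
    [Algebra K L] [Algebra A L] [IsScalarTower A K L] [IsScalarTower A B L] [FiniteDimensional K L]
    (x : A) (hx : x ∈ IsLocalRing.maximalIdeal A) (hx0 : x ≠ 0) :
    Finite (MaximalSpectrum B) ∧
      (∑ᶠ m : MaximalSpectrum B,
          Module.length A (B ⧸ m.asIdeal) *
            Module.length (Localization.AtPrime m.asIdeal)
              (Localization.AtPrime m.asIdeal ⧸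
                Ideal.span ({algebraMap A (Localization.AtPrime m.asIdeal) x} : Set _)) ≤
        (Module.finrank K L : ℕ∞) * Module.length A (A ⧸ Ideal.span ({x} : Set A))) ∧
      ((∑ᶠ m : MaximalSpectrum B,
          Module.length A (B ⧸ m.asIdeal) *
            Module.length (Localization.AtPrime m.asIdeal)
              (Localization.AtPrime m.asIdeal ⧸
                Ideal.span ({algebraMap A (Localization.AtPrime m.asIdeal) x} : Set _)) =
        (Module.finrank K L : ℕ∞) * Module.length A (A ⧸ Ideal.span ({x} : Set A))) ↔ Module.Finite A B) := by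
  haveI : Ring.KrullDimLE 1 A := ⟨le_of_eq hdim⟩
  haveI : IsNoetherianRing B := Algebra.FiniteType.isNoetherianRing A B
  have hBL : Function.Injective (algebraMap B L) := IsFractionRing.injective B L
  have hn : 0 < Module.finrank K L := Module.finrank_pos
  have hxu : ¬ IsUnit x := (IsLocalRing.mem_maximalIdeal x).1 hx
  have hA1 : Module.length A (A ⧸ Ideal.span ({x} : Set A)) ≠ 0 := by
    haveI : Nontrivial (A ⧸ Ideal.span ({x} : Set A)) := Ideal.Quotient.nontrivial_iff.mpr
      (Ideal.span_singleton_ne_top hxu)
    exact Module.length_pos.ne'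
  by_cases hB : IsField B
  · have hbot : ∀ m : MaximalSpectrum B, m.asIdeal = ⊥ := fun m =>
      ((Ring.isField_iff_maximal_bot.1 hB).eq_of_le m.isMaximal.ne_top bot_le).symm
    haveI : Subsingleton (MaximalSpectrum B) := ⟨fun a b => MaximalSpectrum.ext ((hbot a).trans (hbot b).symm)⟩
    have hzero : ∀ m : MaximalSpectrum B, Module.length (Localization.AtPrime m.asIdeal)
        (Localization.AtPrime m.asIdeal ⧸
          Ideal.span ({algebraMap A (Localization.AtPrime m.asIdeal) x} : Set _)) = 0 := fun m => by
      haveI : Subsingleton (Localization.AtPrime m.asIdeal ⧸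
          Ideal.span ({algebraMap A (Localization.AtPrime m.asIdeal) x} : Set _)) :=
        Ideal.Quotient.subsingleton_iff.2 (Ideal.span_singleton_eq_top.2 (by
          rw [IsScalarTower.algebraMap_apply A B (Localization.AtPrime m.asIdeal)]
          refine IsLocalization.map_units (Localization.AtPrime m.asIdeal)
            (⟨algebraMap A B x, fun h => ?_⟩ : m.asIdeal.primeCompl)
          have h' : algebraMap A B x ∈ m.asIdeal := h
          rw [hbot m, Ideal.mem_bot] at h'
          exact hx0 (FaithfulSMul.algebraMap_injective A B (h'.trans (map_zero _).symm))))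
      exact Module.length_eq_zero
    have hsum : (∑ᶠ m : MaximalSpectrum B, Module.length A (B ⧸ m.asIdeal) *
        Module.length (Localization.AtPrime m.asIdeal) (Localization.AtPrime m.asIdeal ⧸
          Ideal.span ({algebraMap A (Localization.AtPrime m.asIdeal) x} : Set _))) = 0 := by
      simp only [hzero, mul_zero, finsum_zero]
    refine ⟨inferInstance, by rw [hsum]; exact zero_le, ?_⟩
    rw [hsum]
    refine ⟨fun h => ?_, fun h => ?_⟩
    · exact absurd h.symm (mul_ne_zero (Nat.cast_ne_zero.2 hn.ne') hA1)
    · haveI := h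
      have hAf : IsField A := isField_of_isIntegral_of_isField (FaithfulSMul.algebraMap_injective A B) hB
      haveI := hAf.toField
      exact absurd (ringKrullDim_eq_zero_of_isField hAf) (by rw [hdim]; exact one_ne_zero)
  · have hmax : ∀ m : MaximalSpectrum B, m.asIdeal.comap (algebraMap A B) = IsLocalRing.maximalIdeal A := by
      intro m
      have hm : m.asIdeal ≠ ⊥ := fun h => hB (Ring.isField_iff_maximal_bot.2 (h ▸ m.isMaximal))
      obtain ⟨a, ha, ham⟩ := Groth.Agent.KrullAkiExt.exists_ne_zero_mem (R := A) (K := K) L B hBL hm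
      have hne : m.asIdeal.comap (algebraMap A B) ≠ ⊥ := fun h => ha (by
        have h2 : a ∈ m.asIdeal.comap (algebraMap A B) := ham
        rwa [h, Ideal.mem_bot] at h2)
      exact IsLocalRing.eq_maximalIdeal (Groth.Agent.KrullAki.isMaximal_of_ne_bot hne)
    obtain ⟨-, hfinp, hfinq⟩ := Groth.Agent.S9133.result A B K L hdim
    have hover : ∀ m : MaximalSpectrum B, m.asIdeal ∈ (IsLocalRing.maximalIdeal A).primesOver B := fun m =>
      ⟨m.isMaximal.isPrime, ⟨(hmax m).symm⟩⟩
    haveI : Finite (MaximalSpectrum B) := by
      haveI := hfinp.to_subtype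
      exact Finite.of_injective (fun m => (⟨m.asIdeal, hover m⟩ : (IsLocalRing.maximalIdeal A).primesOver B))
        fun a b h => MaximalSpectrum.ext (congrArg Subtype.val h)
    obtain ⟨hle, hiff⟩ := length_bound A B K L x hx0 hx hBL
    have hsum : Module.length A (B ⧸ Ideal.span ({algebraMap A B x} : Set B)) =
        ∑ᶠ m : MaximalSpectrum B, Module.length A (B ⧸ m.asIdeal) *
          Module.length (Localization.AtPrime m.asIdeal) (Localization.AtPrime m.asIdeal ⧸
            Ideal.span ({algebraMap A (Localization.AtPrime m.asIdeal) x} : Set _)) := by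
      have hfl : IsFiniteLength B (B ⧸ Ideal.span ({algebraMap A B x} : Set B)) := by
        refine isFiniteLength_of_tower A ?_
        exact ne_top_of_le_ne_top (WithTop.mul_ne_top (ENat.natCast_ne_top _)
          (Module.length_ne_top_iff.2 (isFiniteLength_quotient_span_singleton A (mem_nonZeroDivisors_of_ne_zero hx0)))) hle
      have hfin : ∀ n : MaximalSpectrum B, Module.Finite (A ⧸ n.asIdeal.comap (algebraMap A B)) (B ⧸ n.asIdeal) :=
        fun n => by
          haveI := hfinq n.asIdeal (hover n)
          exact Module.Finite.of_restrictScalars_finite A _ _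
      rw [Groth.Agent.S6320.result hmax hfin _ hfl]
      refine finsum_congr fun m => ?_
      congr 1
      · haveI : (m.asIdeal.comap (algebraMap A B)).IsMaximal := by rw [hmax m]; infer_instance
        letI := Ideal.Quotient.field (m.asIdeal.comap (algebraMap A B))
        haveI := hfin m
        rw [Module.length_eq_of_surjective (R := A ⧸ m.asIdeal.comap (algebraMap A B)) (S := A)
          Ideal.Quotient.mk_surjective, Module.length_eq_finrank]
      · obtain ⟨e⟩ := Groth.Agent.H1GenDepth.exists_equiv_quot (Ideal.span ({algebraMap A B x} : Set B)) m.asIdeal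
        rw [e.length_eq, Ideal.map_span, Set.image_singleton, ← IsScalarTower.algebraMap_apply]
    refine ⟨inferInstance, hsum ▸ hle, ?_⟩
    rw [← hsum]
    exact hiff

end Groth.Agent.S9136
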