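import Groth.Statements.S9138
import Mathlib.RingTheory.AdicCompletion.Algebra
import Mathlib.RingTheory.LocalRing.ResidueField.Fiber
import Mathlib.RingTheory.TensorProduct.Quotient
import Mathlib.RingTheory.Artinian.Algebra

set_option autoImplicit false
universe u
open CAlg

namespace Groth.Agent.S9138

theorem ext_mk {A : Type u} [CommRing A] (I : Ideal A) (a b : AdicCompletion.AdicCauchySequence I A)
    (h : ∀ n, a.val n - b.val n ∈ I ^ n) : AdicCompletion.mk I A a = AdicCompletion.mk I A b :=
  AdicCompletion.ext fun n => (Submodule.Quotient.eq _).2 (by rw [smul_eq_mul, Ideal.mul_top]; exact h n)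

theorem eq_of_mk_eq {A : Type u} [CommRing A] (I : Ideal A) (a b : AdicCompletion.AdicCauchySequence I A)
    (h : AdicCompletion.mk I A a = AdicCompletion.mk I A b) (n : ℕ) : a.val n - b.val n ∈ I ^ n := by
  have h1 := congrArg (AdicCompletion.evalₐ I n) h
  rwa [AdicCompletion.evalₐ_mk, AdicCompletion.evalₐ_mk, Ideal.Quotient.eq] at h1

theorem cauchy_mem {A : Type u} [CommRing A] (I : Ideal A) (a : AdicCompletion.AdicCauchySequence I A) {m n : ℕ}
    (hmn : m ≤ n) : a.val m - a.val n ∈ I ^ m := by
  have h := a.2 hmn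
  rwa [SModEq.sub_mem, smul_eq_mul, Ideal.mul_top] at h

theorem exists_seq {A : Type u} [CommRing A] (I : Ideal A) (f : ℕ → A) (hf : ∀ n, f n - f (n + 1) ∈ I ^ n) :
    ∃ a : AdicCompletion.AdicCauchySequence I A, a.val = f :=
  ⟨AdicCompletion.AdicCauchySequence.mk I A f fun n => by
    rw [SModEq.sub_mem, smul_eq_mul, Ideal.mul_top]; exact hf n, rfl⟩

theorem complMap_mk {A B : Type u} [CommRing A] [CommRing B] (I : Ideal A) (K : Ideal B) (g : A →+* B)
    (h : I.map g ≤ K) (a : AdicCompletion.AdicCauchySequence I A) (n : ℕ) :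
    AdicCompletion.evalₐ K n (FSch.complMap I K g h (AdicCompletion.mk I A a)) = Ideal.Quotient.mk (K ^ n) (g (a.val n)) := by
  unfold FSch.complMap
  rw [AdicCompletion.evalₐ_liftRingHom]
  · simp [AdicCompletion.evalₐ_mk]
  intro m n hle
  refine RingHom.ext fun x => ?_
  obtain ⟨y, rfl⟩ := AdicCompletion.mk_surjective I A x
  simp only [RingHom.coe_comp, Function.comp_apply, AlgHom.toRingHom_eq_coe, AlgHom.coe_toRingHom,
    AdicCompletion.evalₐ_mk, Ideal.quotientMap_mk, Ideal.Quotient.factorPow, Ideal.Quotient.factor_mk]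
  rw [Ideal.Quotient.eq, ← map_sub, ← neg_sub, map_neg]
  exact (K ^ m).neg_mem (FSch.pow_le_comap_pow_of_map_le I K g h m (cauchy_mem I y hle))

theorem eq_of_evalₐ {A : Type u} [CommRing A] (I : Ideal A) (x y : AdicCompletion I A)
    (h : ∀ n, AdicCompletion.evalₐ I n x = AdicCompletion.evalₐ I n y) : x = y := by
  obtain ⟨a, rfl⟩ := AdicCompletion.mk_surjective I A x
  obtain ⟨b, rfl⟩ := AdicCompletion.mk_surjective I A y
  refine ext_mk I a b fun n => ?_
  have h1 := h n
  rwa [AdicCompletion.evalₐ_mk, AdicCompletion.evalₐ_mk, Ideal.Quotient.eq] at h1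

theorem complMap_id_bijective {S : Type u} [CommRing S] (I K : Ideal S) (h' : I.map (RingHom.id S) ≤ K)
    (hIK : I ≤ K) {N : ℕ} (hN : K ^ (N + 1) ≤ I) :
    Function.Bijective (FSch.complMap I K (RingHom.id S) h') := by
  have hpow : ∀ n, K ^ ((N + 1) * n) ≤ I ^ n := fun n => by rw [pow_mul]; exact Ideal.pow_right_mono hN n
  refine ⟨(injective_iff_map_eq_zero _).2 fun x hx => ?_, fun z => ?_⟩
  · obtain ⟨a, rfl⟩ := AdicCompletion.mk_surjective I S x
    refine eq_of_evalₐ I _ _ fun n => ?_
    rw [map_zero, AdicCompletion.evalₐ_mk, Ideal.Quotient.eq_zero_iff_mem]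
    have h1 := congrArg (AdicCompletion.evalₐ K ((N + 1) * n)) hx
    rw [complMap_mk, map_zero, RingHom.id_apply, Ideal.Quotient.eq_zero_iff_mem] at h1
    have h2 := cauchy_mem I a (Nat.le_mul_of_pos_left n (Nat.succ_pos N))
    have h3 := (I ^ n).add_mem h2 (hpow n h1)
    rwa [sub_add_cancel] at h3
  · obtain ⟨b, rfl⟩ := AdicCompletion.mk_surjective K S z
    obtain ⟨a, ha⟩ := exists_seq I (fun n => b.val ((N + 1) * n))
      (fun n => hpow n (cauchy_mem K b (Nat.mul_le_mul_left _ (Nat.le_succ n))))
    refine ⟨AdicCompletion.mk I S a, eq_of_evalₐ K _ _ fun n => ?_⟩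
    rw [complMap_mk, AdicCompletion.evalₐ_mk, Ideal.Quotient.eq, RingHom.id_apply, ha, ← neg_sub]
    exact (K ^ n).neg_mem (cauchy_mem K b (Nat.le_mul_of_pos_left n (Nat.succ_pos N)))

theorem finite_complMap {R S : Type u} [CommRing R] [CommRing S] [Algebra R S] (m : Ideal R) (K : Ideal S)
    (h : m.map (algebraMap R S) ≤ K) (G : Finset S)
    (hG : ∀ z : S, ∃ w ∈ Submodule.span R (G : Set S), z - w ∈ m.map (algebraMap R S))
    {h' : (m.map (algebraMap R S)).map (RingHom.id S) ≤ K}
    (hsurj : Function.Surjective (FSch.complMap (m.map (algebraMap R S)) K (RingHom.id S) h')) :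
    (FSch.complMap m K (algebraMap R S) h).Finite := by
  classical
  have step : ∀ (k : ℕ) (z : S), z ∈ (m ^ k).map (algebraMap R S) →
      ∃ r : G → R, (∀ i, r i ∈ m ^ k) ∧ z - ∑ i, r i • (i : S) ∈ (m ^ (k + 1)).map (algebraMap R S) := by
    intro k z hz
    induction hz using Submodule.span_induction with
    | mem w hw =>
      obtain ⟨c, hc, rfl⟩ := hw
      obtain ⟨w', hw', hmem⟩ := hG 1
      obtain ⟨r, -, hr⟩ := Submodule.mem_span_finset.1 hw'
      refine ⟨fun i => c * r i, fun i => Ideal.mul_mem_right _ _ hc, ?_⟩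
      have he : ∑ i : G, (c * r i) • (i : S) = algebraMap R S c * w' := by
        rw [Finset.sum_coe_sort G (fun i => (c * r i) • i), ← hr, Finset.mul_sum]
        refine Finset.sum_congr rfl fun i _ => ?_
        rw [mul_smul, Algebra.smul_def]
      rw [he, ← mul_one (algebraMap R S c), mul_assoc, one_mul, ← mul_sub, pow_succ, Ideal.map_mul]
      exact Ideal.mul_mem_mul (Ideal.mem_map_of_mem _ hc) hmem
    | zero => exact ⟨0, fun i => Submodule.zero_mem _, by simp⟩
    | add a b _ _ ha hb =>
      obtain ⟨r, hr, hra⟩ := ha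
      obtain ⟨r', hr', hrb⟩ := hb
      refine ⟨r + r', fun i => Submodule.add_mem _ (hr i) (hr' i), ?_⟩
      simp only [Pi.add_apply, add_smul, Finset.sum_add_distrib]
      rw [add_sub_add_comm]
      exact Submodule.add_mem _ hra hrb
    | smul c a _ ha =>
      obtain ⟨r, hr, hra⟩ := ha
      choose w hw hwm using fun i : G => hG (c * i)
      choose s _ hs using fun i => Submodule.mem_span_finset.1 (hw i)
      refine ⟨fun j => ∑ i : G, r i * s i j, fun j => Ideal.sum_mem _ fun i _ => Ideal.mul_mem_right _ _ (hr i), ?_⟩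
      have he : ∑ j : G, (∑ i : G, r i * s i j) • (j : S) = ∑ i : G, r i • w i := by
        simp only [Finset.sum_smul, mul_smul]
        rw [Finset.sum_comm]
        refine Finset.sum_congr rfl fun i _ => ?_
        rw [← hs i, Finset.smul_sum, Finset.sum_coe_sort G (fun j => r i • s i j • j)]
      have hd : c • a - ∑ i : G, r i • w i = c * (a - ∑ i : G, r i • (i : S)) + ∑ i : G, algebraMap R S (r i) * (c * i - w i) := by
        simp only [smul_eq_mul, mul_sub, Finset.sum_sub_distrib, Finset.mul_sum, Algebra.smul_def]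
        simp only [mul_left_comm c]
        ring
      rw [he, hd]
      refine Submodule.add_mem _ (Ideal.mul_mem_left _ _ hra) (Ideal.sum_mem _ fun i _ => ?_)
      rw [pow_succ, Ideal.map_mul]
      exact Ideal.mul_mem_mul (Ideal.mem_map_of_mem _ (hr i)) (hwm i)
  letI := (FSch.complMap m K (algebraMap R S) h).toAlgebra
  refine ⟨⟨G.image (AdicCompletion.of K S), eq_top_iff.2 fun z _ => ?_⟩⟩
  obtain ⟨x, rfl⟩ := hsurj z
  obtain ⟨y, rfl⟩ := AdicCompletion.mk_surjective (m.map (algebraMap R S)) S x
  have hexr : ∀ n (r : G → R), y.val n - ∑ i, r i • (i : S) ∈ (m ^ n).map (algebraMap R S) →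
      ∃ r' : G → R, (∀ i, r i - r' i ∈ m ^ n) ∧ y.val (n + 1) - ∑ i, r' i • (i : S) ∈ (m ^ (n + 1)).map (algebraMap R S) := by
    intro n r hr
    have hc := cauchy_mem (m.map (algebraMap R S)) y (Nat.le_succ n)
    rw [← Ideal.map_pow] at hc
    obtain ⟨t, ht, htz⟩ := step n _ (Ideal.sub_mem _ hr hc)
    refine ⟨r + t, fun i => by simpa using (m ^ n).neg_mem (ht i), ?_⟩
    simp only [Pi.add_apply, add_smul, Finset.sum_add_distrib]
    convert htz using 1
    abel
  choose nxt hnxt1 hnxt2 using hexr
  let rs : (n : ℕ) → {r : G → R // y.val n - ∑ i, r i • (i : S) ∈ (m ^ n).map (algebraMap R S)} :=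
    Nat.rec ⟨0, by rw [pow_zero, Ideal.one_eq_top, Ideal.map_top]; exact Submodule.mem_top⟩
      (fun n r => ⟨nxt n r.1 r.2, hnxt2 n r.1 r.2⟩)
  choose ρ hρ using fun i : G => exists_seq m (fun n => (rs n).1 i) (fun n => hnxt1 n (rs n).1 (rs n).2 i)
  have he : FSch.complMap (m.map (algebraMap R S)) K (RingHom.id S) h' (AdicCompletion.mk _ S y) =
      ∑ i : G, AdicCompletion.mk m R (ρ i) • AdicCompletion.of K S (i : S) := by
    refine eq_of_evalₐ K _ _ fun n => ?_
    rw [complMap_mk]
    simp only [Algebra.smul_def, RingHom.algebraMap_toAlgebra, map_mul, complMap_mk, AdicCompletion.evalₐ_of,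
      RingHom.id_apply]
    rw [map_sum]
    simp only [map_mul, complMap_mk, AdicCompletion.evalₐ_of, hρ]
    simp only [← map_mul]
    rw [← map_sum, Ideal.Quotient.eq]
    refine Ideal.pow_right_mono h n ?_
    rw [← Ideal.map_pow]
    simpa only [Algebra.smul_def] using (rs n).2
  rw [he]
  exact Submodule.sum_mem _ fun i _ => Submodule.smul_mem _ _
    (Submodule.subset_span (Finset.mem_coe.2 (Finset.mem_image_of_mem _ i.2)))

theorem exists_pow_le (R S : Type u) [CommRing R] [CommRing S] [IsLocalRing R] [IsLocalRing S] [Algebra R S]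
    (h : (IsLocalRing.maximalIdeal R).map (algebraMap R S) ≤ IsLocalRing.maximalIdeal S)
    (hfin : Module.Finite R (S ⧸ (IsLocalRing.maximalIdeal R).map (algebraMap R S))) :
    ∃ N : ℕ, IsLocalRing.maximalIdeal S ^ (N + 1) ≤ (IsLocalRing.maximalIdeal R).map (algebraMap R S) := by
  letI := Ideal.Quotient.field (IsLocalRing.maximalIdeal R)
  haveI : Module.Finite (R ⧸ IsLocalRing.maximalIdeal R) (S ⧸ (IsLocalRing.maximalIdeal R).map (algebraMap R S)) :=
    Module.Finite.of_restrictScalars_finite R _ _
  haveI : IsArtinianRing (S ⧸ (IsLocalRing.maximalIdeal R).map (algebraMap R S)) :=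
    IsArtinianRing.of_finite (R ⧸ IsLocalRing.maximalIdeal R) _
  obtain ⟨k, hk⟩ := IsArtinianRing.isNilpotent_jacobson_bot (R := S ⧸ (IsLocalRing.maximalIdeal R).map (algebraMap R S))
  refine ⟨k, (Ideal.pow_le_pow_right k.le_succ).trans ?_⟩
  rw [← Ideal.mk_ker (I := (IsLocalRing.maximalIdeal R).map (algebraMap R S)), RingHom.ker_eq_comap_bot, ← Ideal.map_le_iff_le_comap,
    Ideal.map_pow, ← Ideal.zero_eq_bot, ← hk]
  refine Ideal.pow_right_mono (le_sInf fun J hJ => ?_) k
  haveI := hJ.2
  rw [Ideal.map_le_iff_le_comap]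
  exact (IsLocalRing.eq_maximalIdeal (Ideal.comap_isMaximal_of_surjective _ Ideal.Quotient.mk_surjective)).ge

/-- Let R → S be a local ring homomorphism between local rings with finitely generated maximal ideals m
and n, such that S/mS is a finite-dimensional κ(m)-vector space. Then (1) the canonical ring map
from the mS-adic completion of S to the n-adic completion of S is bijective, and (2) the induced
ring map from the m-adic completion of R to the n-adic completion of S is finite. (The hypotheses h
and h' record the inclusion mS ⊆ n, which holds for any local homomorphism; they are the arguments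
the completion maps take.) -/
theorem result (R S : Type u) [CommRing R] [CommRing S]
    [IsLocalRing R] [IsLocalRing S] [Algebra R S] [IsLocalHom (algebraMap R S)]
    (hm : (IsLocalRing.maximalIdeal R).FG) (hn : (IsLocalRing.maximalIdeal S).FG)
    (hfib : Module.Finite (IsLocalRing.maximalIdeal R).ResidueField ((IsLocalRing.maximalIdeal R).Fiber S))
    (h : (IsLocalRing.maximalIdeal R).map (algebraMap R S) ≤ IsLocalRing.maximalIdeal S)
    (h' : ((IsLocalRing.maximalIdeal R).map (algebraMap R S)).map (RingHom.id S) ≤ IsLocalRing.maximalIdeal S) :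
    Function.Bijective (FSch.complMap ((IsLocalRing.maximalIdeal R).map (algebraMap R S))
        (IsLocalRing.maximalIdeal S) (RingHom.id S) h') ∧
      (FSch.complMap (IsLocalRing.maximalIdeal R) (IsLocalRing.maximalIdeal S) (algebraMap R S) h).Finite := by
  classical
  haveI : Module.Finite R ((IsLocalRing.maximalIdeal R).ResidueField) :=
    Module.Finite.of_surjective (Algebra.linearMap R _) ((IsLocalRing.maximalIdeal R).bijective_algebraMap_quotient_residueField.surjective.comp Ideal.Quotient.mk_surjective)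
  haveI : Module.Finite R ((IsLocalRing.maximalIdeal R).Fiber S) := Module.Finite.trans (IsLocalRing.maximalIdeal R).ResidueField _
  let eκ : (R ⧸ IsLocalRing.maximalIdeal R) ≃ₗ[R] (IsLocalRing.maximalIdeal R).ResidueField :=
    LinearEquiv.ofBijective ((IsScalarTower.toAlgHom R (R ⧸ IsLocalRing.maximalIdeal R) _).toLinearMap)
      (IsLocalRing.maximalIdeal R).bijective_algebraMap_quotient_residueField
  haveI hfin : Module.Finite R (S ⧸ (IsLocalRing.maximalIdeal R).map (algebraMap R S)) :=
    Module.Finite.equiv (((Algebra.TensorProduct.quotIdealMapEquivTensorQuot S (IsLocalRing.maximalIdeal R)).toLinearEquiv.restrictScalars R).trans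
      ((TensorProduct.comm R S _).trans (TensorProduct.congr eκ (LinearEquiv.refl R S)))).symm
  obtain ⟨N, hN⟩ := exists_pow_le R S h hfin
  refine ⟨complMap_id_bijective _ _ h' ?_ hN, ?_⟩
  · rwa [Ideal.map_id] at h'
  obtain ⟨G, hG⟩ := hfin.fg_top
  choose σ hσ using Ideal.Quotient.mk_surjective (I := (IsLocalRing.maximalIdeal R).map (algebraMap R S))
  exact finite_complMap (IsLocalRing.maximalIdeal R) (IsLocalRing.maximalIdeal S) h (G.image σ) (fun z => by
    have hz : Ideal.Quotient.mk ((IsLocalRing.maximalIdeal R).map (algebraMap R S)) z ∈ Submodule.span R (G : Set _) := hG ▸ Submodule.mem_top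
    rw [show (G : Set (S ⧸ (IsLocalRing.maximalIdeal R).map (algebraMap R S))) = (Ideal.Quotient.mkₐ R ((IsLocalRing.maximalIdeal R).map (algebraMap R S))).toLinearMap '' ((G.image σ : Finset S) : Set S) by
      rw [Finset.coe_image, ← Set.image_comp]
      exact ((Set.image_congr fun g _ => hσ g).trans (Set.image_id' _)).symm,
      ← Submodule.map_span] at hz
    obtain ⟨w, hw, hwz⟩ := hz
    exact ⟨w, hw, Ideal.Quotient.eq.1 hwz.symm⟩) (complMap_id_bijective _ _ h' (by rwa [Ideal.map_id] at h') hN).2

end Groth.Agent.S9138
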