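import Groth.Statements.S9154
import Groth.Agent.H1Sop.Partial
import Groth.Agent.LC.GorLoc
import Groth.Agent.VarDim.Basic

set_option autoImplicit false
universe u
open CAlg

namespace Groth.Agent.S9154

/-- Let S be a Cohen–Macaulay finite type algebra over a field k, equidimensional of dimension d, and
f_1, …, f_i elements (i ≤ d) generating a proper ideal whose zero locus has dimension at most d − i.
Then that dimension equals d − i and the f_j form a regular sequence in S_q for every prime q
containing them. (The published statement also allows the f_j to generate the unit ideal, where the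
zero locus is empty and the equality fails, e.g. f_1 = 1 in k[x]; this row assumes the ideal is
proper.) -/
theorem result (k S : Type u) [Field k] [CommRing S] [Algebra k S]
    [Algebra.FiniteType k S] [LocCoh.IsCohenMacaulayRing S] (d : ℕ)
    (heq : ∀ p ∈ minimalPrimes S, ringKrullDim (S ⧸ p) = d) (f : List S) (hi : f.length ≤ d)
    (hne : Ideal.ofList f ≠ ⊤)
    (hle : ringKrullDim (S ⧸ Ideal.ofList f) ≤ ((d - f.length : ℕ) : WithBot ℕ∞)) :
    ringKrullDim (S ⧸ Ideal.ofList f) = ((d - f.length : ℕ) : WithBot ℕ∞) ∧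
      ∀ (q : Ideal S) [q.IsPrime], Ideal.ofList f ≤ q →
        RingTheory.Sequence.IsRegular (Localization.AtPrime q)
          (f.map (algebraMap S (Localization.AtPrime q))) := by
  have : IsNoetherianRing S := Algebra.FiniteType.isNoetherianRing k S
  obtain ⟨dd, hdd⟩ : ∃ c : ℕ, c = d - f.length := ⟨_, rfl⟩
  let J := Ideal.ofList f
  have hform : ∀ (p : Ideal S) [p.IsPrime],
      (d : ℕ∞) ≤ p.height + Order.coheight (⟨p, ‹_›⟩ : PrimeSpectrum S) := by
    intro p hp
    obtain ⟨P, hP, hPp⟩ := Ideal.exists_minimalPrimes_le (bot_le : (⊥ : Ideal S) ≤ p)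
    haveI := hP.1.1
    let π := Ideal.Quotient.mk P
    haveI hp' : (p.map π).IsPrime := Ideal.map_isPrime_of_surjective Ideal.Quotient.mk_surjective (by rwa [Ideal.mk_ker])
    let p' : PrimeSpectrum (S ⧸ P) := ⟨p.map π, hp'⟩
    have hform' := VarDim.height_add_coheight_eq (k := k) d (S ⧸ P) (heq P hP) p'
    rw [← hform']
    have hcp : PrimeSpectrum.comap π p' = ⟨p, hp⟩ := PrimeSpectrum.ext (by
      show (p.map π).comap π = p
      rw [Ideal.comap_map_of_surjective' π Ideal.Quotient.mk_surjective, Ideal.mk_ker, sup_eq_left.2 hPp])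
    have hmono : StrictMono (PrimeSpectrum.comap π) :=
      RingHom.strictMono_comap_of_surjective Ideal.Quotient.mk_surjective
    refine add_le_add ?_ ?_
    · rw [PrimeSpectrum.height_eq_orderHeight ⟨p, hp⟩]
      show Order.height p' ≤ Order.height (⟨p, hp⟩ : PrimeSpectrum S)
      rw [← hcp]
      exact Order.height_le_height_apply_of_strictMono _ hmono p'
    · rw [← hcp]
      exact Order.coheight_le_coheight_apply_of_strictMono _ hmono p'
  have hco : ∀ (p : Ideal S) [p.IsPrime], J ≤ p →
      Order.coheight (⟨p, ‹_›⟩ : PrimeSpectrum S) ≤ ((d - f.length : ℕ) : ℕ∞) := by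
    intro p hp hJp
    refine WithBot.coe_le_coe.1 ?_
    rw [VarDim.coheight_eq_ringKrullDim_quotient]
    exact (ringKrullDim_le_of_surjective (Ideal.Quotient.factor hJp) (Ideal.Quotient.factor_surjective _)).trans hle
  have hht : ∀ (p : Ideal S) [p.IsPrime], J ≤ p → (f.length : ℕ∞) ≤ p.height := by
    intro p hp hJp
    by_contra hlt
    rw [not_le] at hlt
    have h1 : (d : ℕ∞) ≤ p.height + ((d - f.length : ℕ) : ℕ∞) :=
      (hform p).trans (add_le_add le_rfl (hco p hJp))
    obtain ⟨a, ha⟩ := ENat.ne_top_iff_exists.1 hlt.ne_top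
    rw [← ha] at h1 hlt
    have h3 : a < f.length := by exact_mod_cast hlt
    have h4 : d ≤ a + (d - f.length) := by exact_mod_cast h1
    omega
  refine ⟨le_antisymm hle ?_, fun q hq hJq => ?_⟩
  · obtain ⟨p, hp⟩ := Ideal.nonempty_minimalPrimes hne
    haveI := hp.1.1
    have hp2 : p.height ≤ (f.length : ℕ∞) := by
      classical
      refine (Ideal.height_le_card_of_mem_minimalPrimes_span_finset (s := f.toFinset) ?_).trans
        (Nat.cast_le.2 (List.toFinset_card_le f))
      rwa [List.coe_toFinset]
    have h1 : (d : ℕ∞) ≤ (f.length : ℕ∞) + Order.coheight (⟨p, hp.1.1⟩ : PrimeSpectrum S) :=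
      (hform p).trans (add_le_add hp2 le_rfl)
    have h2 : ((d - f.length : ℕ) : ℕ∞) ≤ Order.coheight (⟨p, hp.1.1⟩ : PrimeSpectrum S) := by
      generalize hc : Order.coheight (⟨p, hp.1.1⟩ : PrimeSpectrum S) = c at h1
      induction c using ENat.recTopCoe with
      | top => exact le_top
      | coe c =>
        have : d ≤ f.length + c := by exact_mod_cast h1
        exact Nat.cast_le.2 (by omega)
    refine le_trans ?_ (ringKrullDim_le_of_surjective (Ideal.Quotient.factor hp.1.2) (Ideal.Quotient.factor_surjective _))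
    rw [← VarDim.coheight_eq_ringKrullDim_quotient ⟨p, hp.1.1⟩]
    exact WithBot.coe_le_coe.2 h2
  · let A := Localization.AtPrime q
    let al := algebraMap S A
    haveI := LocCoh.IsCohenMacaulayRing.isCohenMacaulayLocalRing_localization q
    have hmem : ∀ r ∈ f.map al, r ∈ IsLocalRing.maximalIdeal A := by
      intro r hr
      obtain ⟨s, hs, rfl⟩ := List.mem_map.1 hr
      exact (IsLocalization.AtPrime.to_map_mem_maximal_iff A q s).2 (hJq (Ideal.subset_span hs))
    have hI : Ideal.ofList (f.map al) ≠ ⊤ := fun h =>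
      (IsLocalRing.maximalIdeal.isMaximal A).ne_top (top_le_iff.1 (h ▸ Ideal.span_le.2 hmem))
    have hbig : (f.length : ℕ∞) ≤ (Ideal.ofList (f.map al)).height := by
      rw [Ideal.height_eq_inf_minimalPrimes]
      refine le_iInf₂ fun P hP => ?_
      haveI := hP.1.1
      rw [← IsLocalization.height_comap q.primeCompl P]
      refine hht _ (Ideal.span_le.2 fun s hs => ?_)
      exact hP.1.2 (Ideal.subset_span (List.mem_map.2 ⟨s, hs, rfl⟩))
    obtain ⟨D, hD⟩ := LC.exists_supportDim_eq_nat (R := A) A
    rw [Module.supportDim_self_eq_ringKrullDim] at hD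
    haveI : Nontrivial (A ⧸ Ideal.ofList (f.map al)) := Ideal.Quotient.nontrivial_iff.2 hI
    obtain ⟨e, he⟩ := LC.exists_supportDim_eq_nat (R := A) (A ⧸ Ideal.ofList (f.map al))
    rw [Module.supportDim_quotient_eq_ringKrullDim] at he
    have hsum := LC.height_add_ringKrullDim_quotient (R := A) (Ideal.ofList (f.map al)) hI
    have hlen : e + f.length ≤ D := by
      have hfin : (Ideal.ofList (f.map al)).height ≠ ⊤ := Ideal.height_ne_top hI
      obtain ⟨a, ha⟩ := ENat.ne_top_iff_exists.1 hfin
      rw [he, hD, ← ha] at hsum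
      rw [← ha] at hbig
      have h1 : e + a = D := by exact_mod_cast hsum
      have h2 : f.length ≤ a := by exact_mod_cast hbig
      omega
    exact RingTheory.Sequence.IsRegular.of_isWeaklyRegular_of_mem_maximalIdeal A hmem
      (H1Sop.isWeaklyRegular_of_dim_le LocCoh.IsCohenMacaulayLocalRing.supportDim_eq_depth D hD _ hmem e he.le
        (by rwa [List.length_map]))

end Groth.Agent.S9154
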