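import Groth.Statements.S9156
import Groth.Agent.LC.GorLoc
import Groth.Agent.VarDim.Basic
import Mathlib.RingTheory.Ideal.Quotient.Operations
import Mathlib.RingTheory.Nilpotent.Lemmas

set_option autoImplicit false
universe u
open CAlg

namespace Groth.Agent.S9156

/-- A Cohen–Macaulay finite type algebra S over a field k decomposes as a finite product of k-algebras
S_0 × ⋯ × S_N in which every maximal ideal of the factor S_d has height d (so Spec S is a finite
disjoint union of equidimensional open and closed pieces). -/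
theorem result (k S : Type u) [Field k] [CommRing S]
    [Algebra k S] [Algebra.FiniteType k S] [LocCoh.IsCohenMacaulayRing S] :
    ∃ (N : ℕ) (T : Fin (N + 1) → Type u) (_ : ∀ d, CommRing (T d)) (_ : ∀ d, Algebra k (T d)),
      Nonempty (S ≃ₐ[k] ((d : Fin (N + 1)) → T d)) ∧
        ∀ (d : Fin (N + 1)) (m : Ideal (T d)), m.IsMaximal → m.height = (d : ℕ) := by
  classical
  have : IsNoetherianRing S := Algebra.FiniteType.isNoetherianRing k S
  have hex : ∀ P : minimalPrimes S, ∃ n : ℕ, ringKrullDim (S ⧸ P.1) = n := fun P => by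
    haveI := P.2.1.1
    obtain ⟨n, hn, -⟩ := VarDim.exists_dim_eq_trdeg k (S ⧸ P.1)
    exact ⟨n, hn⟩
  choose dP hdP using hex
  haveI : Finite (minimalPrimes S) := (minimalPrimes.finite_of_isNoetherianRing S).to_subtype
  obtain ⟨N, hN⟩ := Finite.exists_le dP
  have hkey : ∀ (m : Ideal S) (_ : m.IsMaximal) (P : minimalPrimes S), P.1 ≤ m → m.height = (dP P : ℕ∞) := by
    intro m hm P hPm
    haveI := P.2.1.1
    let π := Ideal.Quotient.mk P.1
    haveI hm' : (m.map π).IsPrime := Ideal.map_isPrime_of_surjective Ideal.Quotient.mk_surjective (by rwa [Ideal.mk_ker])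
    let m' : PrimeSpectrum (S ⧸ P.1) := ⟨m.map π, hm'⟩
    have hcm : PrimeSpectrum.comap π m' = ⟨m, hm.isPrime⟩ := PrimeSpectrum.ext (by
      show (m.map π).comap π = m
      rw [Ideal.comap_map_of_surjective' π Ideal.Quotient.mk_surjective, Ideal.mk_ker, sup_eq_left.2 hPm])
    have hmax : IsMax m' := fun q hq => by
      have h1 : m ≤ q.asIdeal.comap π := by
        conv_lhs => rw [show m = (PrimeSpectrum.comap π m').asIdeal from (congrArg PrimeSpectrum.asIdeal hcm).symm]
        exact Ideal.comap_mono hq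
      have h2 := hm.eq_of_le (q.2.comap π).ne_top h1
      show q.asIdeal ≤ m.map π
      rw [h2, Ideal.map_comap_of_surjective π Ideal.Quotient.mk_surjective]
    have hform := VarDim.height_add_coheight_eq (k := k) (dP P) (S ⧸ P.1) (hdP P) m'
    rw [Order.coheight_eq_zero.2 hmax, add_zero] at hform
    rw [← hform]
    let A := Localization.AtPrime m
    haveI := LocCoh.IsCohenMacaulayRing.isCohenMacaulayLocalRing_localization m
    let al := algebraMap S A
    have hdisj : Disjoint (m.primeCompl : Set S) (P.1 : Set S) :=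
      Set.disjoint_left.2 fun z hz hzP => hz (hPm hzP)
    haveI hPA : (P.1.map al).IsPrime := IsLocalization.isPrime_of_isPrime_disjoint m.primeCompl A _ P.2.1.1 hdisj
    have hcomap : (P.1.map al).comap al = P.1 :=
      IsLocalization.comap_map_of_isPrime_disjoint m.primeCompl A P.2.1.1 hdisj
    have hz : (P.1.map al).height = 0 := by
      have h := IsLocalization.height_comap m.primeCompl (P.1.map al)
      rw [show Ideal.under S (P.1.map al) = P.1 from hcomap] at h
      rw [← h, Ideal.height_eq_zero_iff.2 P.2]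
    refine le_antisymm ?_ ?_
    · have hsum := LC.height_add_ringKrullDim_quotient (R := A) (P.1.map al) hPA.ne_top
      rw [hz, WithBot.coe_zero, add_zero, IsLocalization.AtPrime.ringKrullDim_eq_height m A,
        ← VarDim.coheight_eq_ringKrullDim_quotient ⟨P.1.map al, hPA⟩] at hsum
      rw [← WithBot.coe_inj.1 hsum]
      refine Order.coheight_le fun l hl => ?_
      have hge : ∀ i, P.1.map al ≤ (l i).asIdeal := fun i => by
        have := LTSeries.head_le l i
        rw [hl] at this
        exact this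
      have hPc : ∀ i, P.1 ≤ (l i).asIdeal.comap al := fun i => Ideal.map_le_iff_le_comap.1 (hge i)
      let g : Fin (l.length + 1) → PrimeSpectrum (S ⧸ P.1) := fun i =>
        ⟨((l i).asIdeal.comap al).map π, Ideal.map_isPrime_of_surjective Ideal.Quotient.mk_surjective (by
          rw [Ideal.mk_ker]; exact hPc i)⟩
      have hgc : ∀ i, ((g i).asIdeal).comap π = (l i).asIdeal.comap al := fun i => by
        show (((l i).asIdeal.comap al).map π).comap π = _
        rw [Ideal.comap_map_of_surjective' π Ideal.Quotient.mk_surjective, Ideal.mk_ker, sup_eq_left.2 (hPc i)]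
      have hg : StrictMono g := by
        intro i j hij
        have h1 : (l i).asIdeal.comap al < (l j).asIdeal.comap al := by
          refine lt_of_le_of_ne (Ideal.comap_mono (l.strictMono hij).le) fun he => (l.strictMono hij).ne ?_
          exact PrimeSpectrum.ext (by
            rw [← IsLocalization.map_comap m.primeCompl A (l i).asIdeal,
              ← IsLocalization.map_comap m.primeCompl A (l j).asIdeal]
            exact congrArg (Ideal.map al) he)
        rw [← hgc, ← hgc] at h1
        exact lt_of_le_of_ne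
          (show (g i).asIdeal ≤ (g j).asIdeal from Ideal.map_mono (Ideal.comap_mono (l.strictMono hij).le))
          fun he => h1.ne (by rw [he])
      refine Order.length_le_height (p := LTSeries.mk l.length g hg) (x := m') ?_
      show ((l (Fin.last _)).asIdeal.comap al).map π ≤ m.map π
      refine Ideal.map_mono fun z hz => ?_
      exact (IsLocalization.AtPrime.to_map_mem_maximal_iff A m z).1
        (IsLocalRing.le_maximalIdeal (l (Fin.last _)).2.ne_top hz)
    · rw [PrimeSpectrum.height_eq_orderHeight ⟨m, hm.isPrime⟩, ← hcm]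
      exact Order.height_le_height_apply_of_strictMono _
        (RingHom.strictMono_comap_of_surjective Ideal.Quotient.mk_surjective) m'
  let J : Fin (N + 1) → Ideal S := fun d => ⨅ P : {P : minimalPrimes S // dP P = (d : ℕ)}, P.1.1
  have hJmem : ∀ (q : Ideal S) [q.IsPrime] (d : Fin (N + 1)), J d ≤ q →
      ∃ P : minimalPrimes S, dP P = (d : ℕ) ∧ P.1 ≤ q := by
    intro q hq d hle
    haveI := Fintype.ofFinite {P : minimalPrimes S // dP P = (d : ℕ)}
    have h' : Finset.univ.inf (fun P : {P : minimalPrimes S // dP P = (d : ℕ)} => P.1.1) ≤ q := by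
      rwa [Finset.inf_univ_eq_iInf]
    obtain ⟨P, -, hP⟩ := (Ideal.IsPrime.inf_le' hq).1 h'
    exact ⟨P.1, P.2, hP⟩
  have hcop : Pairwise (Function.onFun IsCoprime J) := by
    intro d d' hne
    rw [Function.onFun, Ideal.isCoprime_iff_sup_eq]
    by_contra h
    obtain ⟨m, hm, hle⟩ := Ideal.exists_le_maximal _ h
    obtain ⟨P, hP, hPm⟩ := hJmem m d (le_sup_left.trans hle)
    obtain ⟨P', hP', hPm'⟩ := hJmem m d' (le_sup_right.trans hle)
    have e1 := hkey m hm P hPm
    rw [hkey m hm P' hPm', hP, hP', Nat.cast_inj] at e1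
    exact hne (Fin.ext e1.symm)
  have hnil : ∏ d, J d ≤ nilradical S := by
    rw [nilradical_eq_sInf]
    refine le_sInf fun q (hq : q.IsPrime) => ?_
    obtain ⟨P, hP, hPq⟩ := Ideal.exists_minimalPrimes_le (bot_le : (⊥ : Ideal S) ≤ q)
    let d : Fin (N + 1) := ⟨dP ⟨P, hP⟩, Nat.lt_succ_of_le (hN _)⟩
    exact (Ideal.prod_le_inf.trans (Finset.inf_le (Finset.mem_univ d))).trans
      ((iInf_le (fun P : {P : minimalPrimes S // dP P = (d : ℕ)} => P.1.1) ⟨⟨P, hP⟩, rfl⟩).trans hPq)
  obtain ⟨e, he⟩ := IsNoetherianRing.isNilpotent_nilradical S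
  have hcop' : Pairwise (Function.onFun IsCoprime fun d => J d ^ (e + 1)) := fun d d' h => (hcop h).pow
  have hbot : ⨅ d, J d ^ (e + 1) = ⊥ := by
    rw [← Finset.inf_univ_eq_iInf, Finset.inf_eq_iInf, ← Ideal.prod_eq_iInf_of_pairwise_isCoprime
      (fun i _ j _ hij => hcop' hij), Finset.prod_pow, eq_bot_iff]
    refine (Ideal.pow_right_mono hnil (e + 1)).trans ?_
    rw [pow_succ, he, Ideal.zero_eq_bot, Ideal.bot_mul]
  let f := ((RingEquiv.quotientBot S).symm.trans (Ideal.quotEquivOfEq hbot.symm)).trans
    (Ideal.quotientInfRingEquivPiQuotient _ hcop')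
  refine ⟨N, fun d => S ⧸ J d ^ (e + 1), inferInstance, inferInstance, ⟨AlgEquiv.ofRingEquiv (f := f) fun c => ?_⟩, ?_⟩
  · rfl
  intro d M hM
  let π := Ideal.Quotient.mk (J d ^ (e + 1))
  have hπs : Function.Surjective π := Ideal.Quotient.mk_surjective
  haveI hm : (M.comap π).IsMaximal := Ideal.comap_isMaximal_of_surjective π hπs
  have hJM : J d ≤ M.comap π := by
    refine hm.isPrime.le_of_pow_le (n := e + 1) fun z hz => ?_
    show π z ∈ M
    rw [Ideal.Quotient.eq_zero_iff_mem.2 hz]
    exact zero_mem _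
  obtain ⟨P, hP, hPm⟩ := hJmem _ d hJM
  have hm' := hkey _ hm P hPm
  rw [hP] at hm'
  rw [← hm', PrimeSpectrum.height_eq_orderHeight ⟨M, hM.isPrime⟩,
    PrimeSpectrum.height_eq_orderHeight ⟨M.comap π, hm.isPrime⟩]
  have hmono := RingHom.strictMono_comap_of_surjective hπs
  refine le_antisymm (Order.height_le_height_apply_of_strictMono _ hmono ⟨M, hM.isPrime⟩) ?_
  refine Order.height_le fun l hl => ?_
  have hge : ∀ i, J d ^ (e + 1) ≤ (l i).asIdeal := fun i => by
    haveI := (l i).2
    obtain ⟨P', hP', hPi⟩ := Ideal.exists_minimalPrimes_le (bot_le : (⊥ : Ideal S) ≤ (l i).asIdeal)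
    have hle : (l i).asIdeal ≤ M.comap π := by
      have := LTSeries.monotone l (Fin.le_last i)
      rw [show l (Fin.last _) = l.last from rfl, hl] at this
      exact this
    have h2 := hkey _ hm ⟨P', hP'⟩ (hPi.trans hle)
    rw [hkey _ hm P hPm, Nat.cast_inj, hP] at h2
    exact (Ideal.pow_le_self (Nat.succ_ne_zero e)).trans
      ((iInf_le (fun P : {P : minimalPrimes S // dP P = (d : ℕ)} => P.1.1) ⟨⟨P', hP'⟩, h2.symm⟩).trans hPi)
  let g : Fin (l.length + 1) → PrimeSpectrum (S ⧸ J d ^ (e + 1)) := fun i =>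
    ⟨(l i).asIdeal.map π, Ideal.map_isPrime_of_surjective hπs (by rw [Ideal.mk_ker]; exact hge i)⟩
  have hgc : ∀ i, (g i).asIdeal.comap π = (l i).asIdeal := fun i => by
    show ((l i).asIdeal.map π).comap π = _
    rw [Ideal.comap_map_of_surjective' π hπs, Ideal.mk_ker, sup_eq_left.2 (hge i)]
  have hg : StrictMono g := fun i j hij => lt_of_le_of_ne
    (show (g i).asIdeal ≤ (g j).asIdeal from Ideal.map_mono (l.strictMono hij).le)
    fun he' => (l.strictMono hij).ne (PrimeSpectrum.ext (by rw [← hgc, ← hgc, he']))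
  refine Order.length_le_height (p := LTSeries.mk l.length g hg) (x := ⟨M, hM.isPrime⟩) ?_
  show (l (Fin.last _)).asIdeal.map π ≤ M
  rw [show (l (Fin.last _)) = l.last from rfl, hl]
  exact (Ideal.map_comap_of_surjective π hπs M).le

end Groth.Agent.S9156
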