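import Groth.Statements.S9162
import Groth.Agent.H1CotSch.Basic

set_option autoImplicit false
universe u
set_option backward.isDefEq.respectTransparency false
open CAlg

namespace Groth.Agent.S9162

/-- Let S be an R-algebra and α : R[x_1, …, x_n] → S, β : R[y_1, …, y_m] → S surjective R-algebra maps
(presentations by polynomial rings in finitely many variables; the kernels I and J need not be
finitely generated). Then I/I² ⊕ S^m and J/J² ⊕ S^n are isomorphic S-modules. -/
theorem result (R S : Type u) [CommRing R] [CommRing S]
    [Algebra R S] (n m : ℕ) (α : MvPolynomial (Fin n) R →ₐ[R] S) (hα : Function.Surjective α)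
    (β : MvPolynomial (Fin m) R →ₐ[R] S) (hβ : Function.Surjective β) :
    Nonempty (((Algebra.Extension.ofSurjective α hα).Cotangent × (Fin m → S)) ≃ₗ[S]
      ((Algebra.Extension.ofSurjective β hβ).Cotangent × (Fin n → S))) := by
  let P := Algebra.Extension.ofSurjective α hα
  let P' := Algebra.Extension.ofSurjective β hβ
  choose a ha using fun i => hβ (α (MvPolynomial.X i))
  choose b hb using fun j => hα (β (MvPolynomial.X j))
  let F : P.Ring →ₐ[R] P'.Ring := MvPolynomial.aeval a
  let G : P'.Ring →ₐ[R] P.Ring := MvPolynomial.aeval b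
  have hF : β.comp (MvPolynomial.aeval a) = α := MvPolynomial.algHom_ext fun i => by
    rw [AlgHom.comp_apply, MvPolynomial.aeval_X]; exact ha i
  have hG : α.comp (MvPolynomial.aeval b) = β := MvPolynomial.algHom_ext fun i => by
    rw [AlgHom.comp_apply, MvPolynomial.aeval_X]; exact hb i
  let f : P.Hom P'.infinitesimal := P'.toInfinitesimal.comp (Algebra.Extension.Hom.ofAlgHom F
    (AlgHom.ext fun x => DFunLike.congr_fun hF x))
  let g : P'.Hom P.infinitesimal := P.toInfinitesimal.comp (Algebra.Extension.Hom.ofAlgHom G
    (AlgHom.ext fun x => DFunLike.congr_fun hG x))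
  let b0 : Module.Basis (Fin n) P.Ring (KaehlerDifferential R P.Ring) :=
    KaehlerDifferential.mvPolynomialBasis R (Fin n)
  let b0' : Module.Basis (Fin m) P'.Ring (KaehlerDifferential R P'.Ring) :=
    KaehlerDifferential.mvPolynomialBasis R (Fin m)
  let bP : Module.Basis (Fin n) S P.CotangentSpace := b0.baseChange S
  let bP' : Module.Basis (Fin m) S P'.CotangentSpace :=
    b0'.baseChange S
  haveI : Module.Free S P'.CotangentSpace := Module.Free.of_basis bP'
  obtain ⟨e⟩ := H1CotSch.nonempty_equiv P P' f g
  exact ⟨((LinearEquiv.refl S P.Cotangent).prodCongr bP'.equivFun.symm).trans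
    (e.trans ((LinearEquiv.refl S P'.Cotangent).prodCongr bP.equivFun))⟩

end Groth.Agent.S9162
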