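import Groth.Statements.S9165
import Groth.Agent.H1CMDim.Alg
import Groth.Agent.FlatLoc6.TensorField
import Mathlib
set_option backward.isDefEq.respectTransparency false
set_option backward.isDefEq.respectTransparency.types false
set_option maxHeartbeats 1000000
set_option linter.style.haveILetI false
open TensorProduct

set_option autoImplicit false
universe u
open CAlg

namespace Groth.Agent.S9165

/-- A flat, finitely presented ring map R → S whose fibre rings κ(p) ⊗ S are Cohen–Macaulay decomposes S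
as a finite product of R-algebras S_d (d = 0, …, N), each again flat, finitely presented with
Cohen–Macaulay fibres, and with every irreducible component of every fibre of S_d of dimension d. -/
theorem result (R S : Type u) [CommRing R]
    [CommRing S] [Algebra R S] [Module.Flat R S] [Algebra.FinitePresentation R S]
    (hCM : ∀ p : PrimeSpectrum R, LocCoh.IsCohenMacaulayRing (p.asIdeal.Fiber S)) :
    ∃ (N : ℕ) (T : Fin (N + 1) → Type u) (_ : ∀ d, CommRing (T d)) (_ : ∀ d, Algebra R (T d)),
      Nonempty (S ≃ₐ[R] ((d : Fin (N + 1)) → T d)) ∧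
        ∀ d : Fin (N + 1), Module.Flat R (T d) ∧ Algebra.FinitePresentation R (T d) ∧
          (∀ p : PrimeSpectrum R, LocCoh.IsCohenMacaulayRing (p.asIdeal.Fiber (T d))) ∧
          ∀ (p : PrimeSpectrum R), ∀ P ∈ minimalPrimes (p.asIdeal.Fiber (T d)),
            ringKrullDim (p.asIdeal.Fiber (T d) ⧸ P) = ((d : ℕ) : WithBot ℕ∞) := by
  classical
  let U : ℕ → Set (PrimeSpectrum S) := fun d =>
    {q | H1AssDim.Gen R (fun t => H1AssDim.AssOne R S t → H1AssDim.cd R t = (d : ℕ∞)) q}
  have hopen : ∀ d, IsOpen (U d) := fun d => H1AssDim.isOpen_assGen (A := R) (B := S) (M := S) {(d : ℕ∞)}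
  have hcover : ∀ q, ∃ d, q ∈ U d := H1CMDim.exists_gen hCM
  have huniq : ∀ q d d', q ∈ U d → q ∈ U d' → d = d' := fun q d d' h h' => by
    let φ := PrimeSpectrum.preimageOrderIsoFiber R S (PrimeSpectrum.comap (algebraMap R S) q)
    obtain ⟨P, hP, hPQ⟩ := Ideal.exists_minimalPrimes_le
      (bot_le : (⊥ : Ideal ((PrimeSpectrum.comap (algebraMap R S) q).asIdeal.Fiber S)) ≤ (φ ⟨q, rfl⟩).asIdeal)
    let t := φ.symm ⟨P, hP.1.1⟩
    have htq : t ≤ ⟨q, rfl⟩ := φ.le_iff_le.1 (by
      rw [show φ t = _ from φ.apply_symm_apply _]; exact hPQ)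
    have ha := (H1CMDim.assOne_iff_isMin hCM _ t).2 (φ.symm.isMin_apply.2 fun R' hR => hP.2 ⟨R'.2, bot_le⟩ hR)
    exact_mod_cast (h t.1 htq t.2 ha).symm.trans (h' t.1 htq t.2 ha)
  obtain ⟨s, hs⟩ := isCompact_univ.elim_finite_subcover U hopen (fun q _ => Set.mem_iUnion.2 (hcover q))
  let N := s.sup id
  have hN : ∀ q d, q ∈ U d → d < N + 1 := fun q d h => by
    obtain ⟨d', hd', hq⟩ := Set.mem_iUnion₂.1 (hs (Set.mem_univ q))
    rw [huniq q d d' h hq]
    exact Nat.lt_succ_of_le (Finset.le_sup (f := id) hd')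
  have hclopen : ∀ d, IsClopen (U d) := fun d => by
    refine ⟨?_, hopen d⟩
    have hc : U d = (⋃ d' ∈ {d' | d' ≠ d}, U d')ᶜ := Set.ext fun q => by
      simp only [Set.mem_compl_iff, Set.mem_iUnion₂, not_exists]
      refine ⟨fun h d' hd' h' => hd' (huniq q d' d h' h), fun h => ?_⟩
      obtain ⟨d', hd'⟩ := hcover q
      by_cases hdd : d' = d
      · exact hdd ▸ hd'
      · exact absurd hd' (h d' hdd)
    rw [hc]
    exact (isOpen_biUnion fun d' _ => hopen d').isClosed_compl
  choose e he heU using fun d : Fin (N + 1) =>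
    PrimeSpectrum.exists_idempotent_basicOpen_eq_of_isClopen (hclopen (d : ℕ))
  have hmem : ∀ (d : Fin (N + 1)) (q : PrimeSpectrum S), e d ∉ q.asIdeal ↔ q ∈ U d := fun d q => by
    rw [heU d]; exact Iff.rfl
  have horth : OrthogonalIdempotents e := ⟨he, fun i j hij => ((he i).mul (he j)).eq_zero_of_isNilpotent (by
    rw [nilpotent_iff_mem_prime]
    intro P hP
    by_cases hi : e i ∈ P
    · exact Ideal.mul_mem_right _ _ hi
    · refine Ideal.mul_mem_left _ _ (by_contra fun hj => hij ?_)
      exact Fin.ext (huniq _ _ _ ((hmem i ⟨P, hP⟩).1 hi) ((hmem j ⟨P, hP⟩).1 hj)))⟩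
  have hsum : CompleteOrthogonalIdempotents e := ⟨horth, by
    have h0 : (1 : S) - ∑ i, e i = 0 := horth.isIdempotentElem_sum.one_sub.eq_zero_of_isNilpotent (by
      rw [nilpotent_iff_mem_prime]
      intro P hP
      obtain ⟨d, hd⟩ := hcover ⟨P, hP⟩
      let i : Fin (N + 1) := ⟨d, hN _ d hd⟩
      have hi : e i ∉ P := (hmem i ⟨P, hP⟩).2 hd
      refine (hP.mem_or_mem (show e i * (1 - ∑ j, e j) ∈ P from ?_)).resolve_left hi
      rw [mul_sub, mul_one, horth.mul_sum_of_mem (Finset.mem_univ i), sub_self]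
      exact P.zero_mem)
    exact (sub_eq_zero.1 h0).symm⟩
  let T : Fin (N + 1) → Type u := fun d => S ⧸ Ideal.span {1 - e d}
  refine ⟨N, T, fun d => inferInstanceAs (CommRing (S ⧸ Ideal.span {1 - e d})),
    fun d => inferInstanceAs (Algebra R (S ⧸ Ideal.span {1 - e d})),
    ⟨AlgEquiv.ofBijective (Pi.algHom R _ fun d => Ideal.Quotient.mkₐ R (Ideal.span {1 - e d})) hsum.bijective_pi⟩,
    fun d => ?_⟩
  let I : Ideal S := Ideal.span {1 - e d}
  haveI : IsLocalization.Away (e d) (S ⧸ I) :=
    IsLocalization.away_of_isIdempotentElem (he d) Ideal.mk_ker Ideal.Quotient.mk_surjective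
  haveI : Algebra.FinitePresentation S (S ⧸ I) := IsLocalization.Away.finitePresentation (e d)
  haveI : Module.Flat S (S ⧸ I) := IsLocalization.flat (S ⧸ I) (Submonoid.powers (e d))
  refine ⟨Module.Flat.trans R S (S ⧸ I), ?_, fun p => ?_, fun p P hP => ?_⟩
  · exact Algebra.FinitePresentation.trans R S (S ⧸ I)
  all_goals
    let F := p.asIdeal.Fiber S
    let F' := p.asIdeal.Fiber (S ⧸ I)
    let π : F →ₐ[R] F' := Algebra.TensorProduct.map (AlgHom.id R p.asIdeal.ResidueField) (Ideal.Quotient.mkₐ R I)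
    have hπ : Function.Surjective π := LinearMap.lTensor_surjective _ Ideal.Quotient.mk_surjective
    let ē : F := Algebra.TensorProduct.includeRight (e d)
    have hker : RingHom.ker π.toRingHom = Ideal.span {1 - ē} := by
      refine (Algebra.TensorProduct.lTensor_ker (A := p.asIdeal.ResidueField) (g := Ideal.Quotient.mkₐ R I)
        Ideal.Quotient.mk_surjective).trans ?_
      rw [show RingHom.ker (Ideal.Quotient.mkₐ R I) = I from Ideal.mk_ker, Ideal.map_span, Set.image_singleton,
        map_sub, map_one]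
    letI : Algebra F F' := π.toRingHom.toAlgebra
    haveI hloc : IsLocalization.Away ē F' :=
      IsLocalization.away_of_isIdempotentElem ((he d).map _) hker hπ
  · haveI := hCM p
    haveI : IsNoetherianRing F' := isNoetherianRing_of_surjective F F' π.toRingHom hπ
    refine ⟨fun Q _ => ?_⟩
    haveI : IsLocalization.AtPrime (Localization.AtPrime Q) (Q.comap (algebraMap F F')) :=
      IsLocalization.isLocalization_isLocalization_atPrime_isLocalization (Submonoid.powers ē) _ Q
    exact Triage.CMMor.isCM_of_equiv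
      (IsLocalization.algEquiv (Q.comap (algebraMap F F')).primeCompl (Localization.AtPrime (Q.comap (algebraMap F F')))
        (Localization.AtPrime Q)).toRingEquiv
      (LocCoh.IsCohenMacaulayRing.isCohenMacaulayLocalRing_localization (Q.comap (algebraMap F F')))
  · haveI : P.IsPrime := hP.1.1
    let P₀ : PrimeSpectrum F := PrimeSpectrum.comap π.toRingHom ⟨P, inferInstance⟩
    have hkerle : RingHom.ker π.toRingHom ≤ P₀.asIdeal := fun z hz => by
      show π.toRingHom z ∈ P
      rw [hz]; exact P.zero_mem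
    have heP : ē ∉ P₀.asIdeal := fun h => by
      refine P₀.2.ne_top ((Ideal.eq_top_iff_one _).2 ?_)
      have := P₀.asIdeal.add_mem h (hkerle (hker ▸ Ideal.subset_span rfl : (1 : F) - ē ∈ RingHom.ker π.toRingHom))
      rwa [add_sub_cancel] at this
    have hmin : IsMin P₀ := fun R' hR => by
      have h1 : RingHom.ker π.toRingHom ≤ R'.asIdeal := by
        rw [hker, Ideal.span_singleton_le_iff_mem]
        refine (R'.2.mem_or_mem (show ē * (1 - ē) ∈ R'.asIdeal from ?_)).resolve_left fun h => heP (hR h)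
        rw [mul_sub, mul_one, ((he d).map Algebra.TensorProduct.includeRight).eq, sub_self]
        exact R'.asIdeal.zero_mem
      haveI hp' : (R'.asIdeal.map π.toRingHom).IsPrime := Ideal.map_isPrime_of_surjective hπ h1
      have h2 : P ≤ R'.asIdeal.map π.toRingHom := hP.2 ⟨hp', bot_le⟩
        ((Ideal.map_mono hR).trans Ideal.map_comap_le)
      have := Ideal.comap_mono (f := π.toRingHom) h2
      rw [Ideal.comap_map_of_surjective π.toRingHom hπ, ← RingHom.ker_eq_comap_bot, sup_eq_left.2 h1] at this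
      exact this
    let φ := PrimeSpectrum.preimageOrderIsoFiber R S p
    let t := φ.symm P₀
    have hes : e d ∉ t.1.asIdeal := heP
    have ht : PrimeSpectrum.comap (algebraMap R S) t.1 = p := t.2
    have ha := (H1CMDim.assOne_iff_isMin hCM p t).2 (φ.symm.isMin_apply.2 hmin)
    have hcd := (hmem d t.1).1 hes t.1 le_rfl rfl ha
    rw [H1CMDim.cd_eq p t, φ.apply_symm_apply] at hcd
    have e1 : ringKrullDim (F ⧸ P₀.asIdeal) = ringKrullDim (F' ⧸ P) := by
      let g : F →+* F' ⧸ P := (Ideal.Quotient.mk P).comp π.toRingHom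
      have hg : Function.Surjective g := Ideal.Quotient.mk_surjective.comp hπ
      have hgk : RingHom.ker g = P₀.asIdeal := by
        rw [← RingHom.comap_ker, Ideal.mk_ker]; rfl
      exact ringKrullDim_eq_of_ringEquiv ((Ideal.quotEquivOfEq hgk.symm).trans (RingHom.quotientKerEquivOfSurjective hg))
    rw [← e1, ← VarDim.coheight_eq_ringKrullDim_quotient P₀, hcd]
    rfl

end Groth.Agent.S9165
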