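import Groth.Statements.S9174
import Groth.Agent.H1CMDim.FibReg
import Mathlib
set_option backward.isDefEq.respectTransparency false
set_option backward.isDefEq.respectTransparency.types false
set_option maxHeartbeats 1000000
set_option linter.style.haveILetI false

set_option autoImplicit false
universe u
open CAlg

namespace Groth.Agent.S9174

/-- Let R → S be of finite type with every fibre ring κ(p) ⊗ S Cohen–Macaulay and equidimensional of
dimension d, and let f_1, …, f_i ∈ S. The primes q ⊇ (f_1, …, f_i) at which the f_j form a regular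
sequence in the fibre local ring S_q/pS_q (p = q ∩ R) form an open subset of V(f_1, …, f_i): there
is an open U of Spec S whose trace on V(f_1, …, f_i) is exactly this set. -/
theorem result (R S : Type u) [CommRing R] [CommRing S]
    [Algebra R S] [Algebra.FiniteType R S] (d : ℕ)
    (hCM : ∀ p : PrimeSpectrum R, LocCoh.IsCohenMacaulayRing (p.asIdeal.Fiber S))
    (heq : ∀ p : PrimeSpectrum R, ∀ P ∈ minimalPrimes (p.asIdeal.Fiber S),
      ringKrullDim (p.asIdeal.Fiber S ⧸ P) = (d : WithBot ℕ∞))
    (f : List S) :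
    ∃ U : Set (PrimeSpectrum S), IsOpen U ∧ ∀ q : PrimeSpectrum S, Ideal.ofList f ≤ q.asIdeal →
      (q ∈ U ↔ RingTheory.Sequence.IsRegular (EGA4.FibLocRing R S q.asIdeal)
        (f.map (algebraMap S (EGA4.FibLocRing R S q.asIdeal)))) := by
  let B := S ⧸ Ideal.ofList f
  have hs : Function.Surjective (algebraMap S B) := Ideal.Quotient.mk_surjective
  haveI : Algebra.FiniteType R B := Algebra.FiniteType.of_surjective (Ideal.Quotient.mkₐ R (Ideal.ofList f)) Ideal.Quotient.mk_surjective
  let U₀ : Set (PrimeSpectrum B) := {q | H1AssDim.Gen R (fun t => H1AssDim.cd R t + f.length ≤ (d : ℕ∞)) q}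
  have hU₀ : IsOpen U₀ := by
    by_cases hfd : f.length ≤ d
    · convert H1CMDim.isOpen_gen_cd_le (A := R) (B := B) (d - f.length) using 1
      ext q
      refine forall_congr' fun t => forall_congr' fun _ => forall_congr' fun _ => ?_
      have hgen : ∀ a : ℕ∞, a + (f.length : ℕ∞) ≤ d ↔ a ≤ ((d - f.length : ℕ) : ℕ∞) := fun a => by
        induction a using ENat.recTopCoe with
        | top => exact ⟨fun h => absurd (top_add (a := (f.length : ℕ∞)) ▸ h) (by simp), fun h => absurd h (by simp [-ENat.natCast_sub])⟩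
        | coe a => norm_cast; omega
      exact hgen _
    · convert isOpen_empty
      refine Set.eq_empty_of_forall_notMem fun q hq => hfd ?_
      exact_mod_cast (le_add_self (b := H1AssDim.cd R q)).trans (hq q le_rfl rfl)
  let ι := PrimeSpectrum.comap (algebraMap S B)
  have hι : Topology.IsClosedEmbedding ι := PrimeSpectrum.isClosedEmbedding_comap_of_surjective _ _ hs
  have hrange : Set.range ι = {t : PrimeSpectrum S | Ideal.ofList f ≤ t.asIdeal} := by
    rw [range_comap_of_surjective _ _ hs]
    show PrimeSpectrum.zeroLocus ((RingHom.ker (Ideal.Quotient.mk (Ideal.ofList f)) : Ideal S) : Set S) = _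
    rw [Ideal.mk_ker]
    rfl
  obtain ⟨U, hU, hUeq⟩ := hι.isInducing.isOpen_iff.1 hU₀
  refine ⟨U, hU, fun q hq => ?_⟩
  obtain ⟨q', rfl⟩ := hrange.ge hq
  rw [H1CMDim.isRegular_fibLocRing_iff hCM heq f _ hq]
  have key := H1AssDim.gen_iff_of_surjective (A := R) hs
    (fun t => Ideal.ofList f ≤ t.asIdeal → H1AssDim.cd R t + f.length ≤ (d : ℕ∞))
    (fun t => H1AssDim.cd R t + f.length ≤ (d : ℕ∞))
    (fun t => by
      rw [H1AssDim.cd_of_surjective hs]
      exact ⟨fun h => h (hrange.le ⟨t, rfl⟩), fun h _ => h⟩)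
    (fun t ht h => absurd (hrange.ge h) ht) q'
  exact (Set.ext_iff.1 hUeq q').trans key.symm

end Groth.Agent.S9174
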