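import Groth.Statements.S9179
import Mathlib

set_option autoImplicit false
universe u
open CategoryTheory CategoryTheory.Limits
open CAlg

namespace Groth.Agent.S9179

/-- An R-algebra of finite type is the colimit of a filtered system of finitely presented R-algebras
whose transition maps are all surjective. -/
theorem result (R A : Type u) [CommRing R] [CommRing A]
    [Algebra R A] [Algebra.FiniteType R A] :
    ∃ (I : Type u) (_ : SmallCategory I) (_ : IsFiltered I) (D : I ⥤ Under (CommRingCat.of R))
      (c : Cocone D) (_ : IsColimit c),
      (∀ i, (D.obj i).hom.hom.FinitePresentation) ∧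
      (∀ (i j : I) (φ : i ⟶ j), Function.Surjective (D.map φ).right.hom) ∧
      Nonempty (c.pt ≅ Under.mk (CommRingCat.ofHom (algebraMap R A))) := by
  classical
  obtain ⟨n, π, hπ⟩ := Algebra.FiniteType.iff_quotient_mvPolynomial''.mp ‹Algebra.FiniteType R A›
  let P := MvPolynomial (Fin n) R
  let I := Finset (RingHom.ker π)
  let J : I → Ideal P := fun s => Ideal.span (s.image Subtype.val : Set P)
  have hmono : ∀ {s t : I}, s ≤ t → J s ≤ J t := fun h =>
    Ideal.span_mono (Finset.coe_subset.2 (Finset.image_subset_image h))
  have hker : ∀ s, J s ≤ RingHom.ker π := fun s => Ideal.span_le.2 fun x hx => by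
    obtain ⟨y, -, rfl⟩ := Finset.mem_image.1 (Finset.mem_coe.1 hx)
    exact y.2
  let D : I ⥤ Under (CommRingCat.of R) :=
    { obj := fun s => Under.mk (CommRingCat.ofHom (algebraMap R (P ⧸ J s)))
      map := fun {s t} f => Under.homMk (CommRingCat.ofHom (Ideal.Quotient.factor (hmono (leOfHom f))))
        (by ext r; rfl)
      map_id := fun s => by
        apply Under.UnderMorphism.ext
        ext x
        obtain ⟨x, rfl⟩ := Ideal.Quotient.mk_surjective x
        rfl
      map_comp := fun f g => by
        apply Under.UnderMorphism.ext
        ext x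
        obtain ⟨x, rfl⟩ := Ideal.Quotient.mk_surjective x
        rfl }
  let q : ∀ s, P ⧸ J s →ₐ[R] A := fun s => Ideal.Quotient.liftₐ (J s) π fun x hx => hker s hx
  let c : Cocone D :=
    { pt := Under.mk (CommRingCat.ofHom (algebraMap R A))
      ι :=
        { app := fun s => Under.homMk (CommRingCat.ofHom (q s).toRingHom) (by ext r; exact (q s).commutes r)
          naturality := fun s t f => by
            apply Under.UnderMorphism.ext
            ext x
            obtain ⟨x, rfl⟩ := Ideal.Quotient.mk_surjective x
            rfl } }
  have hc : IsColimit c :=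
    haveI : IsConnected I := IsFiltered.isConnected _
    haveI : PreservesColimit (D ⋙ Under.forget _) (forget CommRingCat.{u}) := inferInstance
    haveI : ReflectsColimit (D ⋙ Under.forget _) (forget CommRingCat.{u}) :=
      reflectsColimit_of_reflectsIsomorphisms _ _
    isColimitOfReflects (Under.forget _) (isColimitOfReflects (forget CommRingCat.{u})
      (Types.FilteredColimit.isColimitOf' _ _
        (fun z => by
          obtain ⟨x, hx⟩ := hπ (show A from z)
          exact ⟨(∅ : I), Ideal.Quotient.mk _ x, hx.symm⟩)
        fun s (x : P ⧸ J s) (y : P ⧸ J s) hxy => by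
          obtain ⟨x, rfl⟩ := Ideal.Quotient.mk_surjective x
          obtain ⟨y, rfl⟩ := Ideal.Quotient.mk_surjective y
          have hxy' : π x = π y := hxy
          let d : RingHom.ker π := ⟨x - y, by rw [RingHom.mem_ker, map_sub, hxy', sub_self]⟩
          refine ⟨insert d s, homOfLE (Finset.subset_insert d s), ?_⟩
          show Ideal.Quotient.mk (J (insert d s)) x = Ideal.Quotient.mk (J (insert d s)) y
          rw [Ideal.Quotient.eq]
          exact Ideal.subset_span (Finset.mem_coe.2 (Finset.mem_image.2 ⟨d, Finset.mem_insert_self d s, rfl⟩))))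
  refine ⟨I, inferInstance, inferInstance, D, c, hc, fun s => ?_, fun s t φ => ?_, ⟨Iso.refl _⟩⟩
  · exact RingHom.finitePresentation_algebraMap.2
      (Algebra.FinitePresentation.quotient (I := J s) (Submodule.fg_span (Finset.finite_toSet _)))
  · exact Ideal.Quotient.factor_surjective (hmono (leOfHom φ))

end Groth.Agent.S9179
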