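import Groth.Statements.S9180
import Groth.Agent.S2141
import Groth.Agent.S2142
import Mathlib.RingTheory.Ideal.KrullsHeightTheorem
import Mathlib.RingTheory.Flat.Localization

set_option autoImplicit false
universe u
open CAlg

namespace Groth.Agent.S9180

theorem fibLoc_isLocalRing {A B : Type u} [CommRing A] [CommRing B] [Algebra A B] (P : Ideal B) [P.IsPrime] :
    IsLocalRing (EGA4.FibLocRing A B P) := by
  haveI : Nontrivial (EGA4.FibLocRing A B P) := Ideal.Quotient.nontrivial_iff.2 (ne_top_of_le_ne_top
    (IsLocalRing.maximalIdeal.isMaximal _).ne_top (Ideal.map_le_iff_le_comap.2 (by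
      rw [IsScalarTower.algebraMap_eq A B (Localization.AtPrime P), ← Ideal.comap_comap]
      exact Ideal.comap_mono (le_of_eq (Localization.AtPrime.comap_maximalIdeal (I := P)).symm))))
  exact IsLocalRing.of_surjective' _ Ideal.Quotient.mk_surjective

theorem fibre_dim {A B : Type u} [CommRing A] [CommRing B] [Algebra A B] [IsNoetherianRing B] [Module.Flat A B]
    [IsNoetherianRing A] (q : Ideal A) [q.IsPrime] (P : Ideal B) [P.IsPrime] [P.LiesOver q] :
    ringKrullDim (EGA4.FibLocRing A B P) + ringKrullDim (Localization.AtPrime q) =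
      ringKrullDim (Localization.AtPrime P) := by
  haveI := fibLoc_isLocalRing (A := A) P
  haveI : Module.Flat A (Localization.AtPrime P) := Module.Flat.trans A B (Localization.AtPrime P)
  haveI : IsNoetherianRing (Localization.AtPrime P) := IsLocalization.isNoetherianRing P.primeCompl _ inferInstance
  haveI : (IsLocalRing.maximalIdeal (Localization.AtPrime P)).LiesOver q := ⟨by
    rw [Ideal.under_def, IsScalarTower.algebraMap_eq A B (Localization.AtPrime P), ← Ideal.comap_comap]
    exact (Ideal.LiesOver.over (p := q) (P := P)).trans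
      (congrArg (Ideal.comap (algebraMap A B)) (Localization.AtPrime.comap_maximalIdeal (I := P)).symm)⟩
  have h := Ideal.height_eq_height_add_of_liesOver_of_hasGoingDown q (IsLocalRing.maximalIdeal (Localization.AtPrime P))
  have hm : (IsLocalRing.maximalIdeal (Localization.AtPrime P)).map
      (Ideal.Quotient.mk ((P.comap (algebraMap A B)).map (algebraMap A (Localization.AtPrime P)))) =
      IsLocalRing.maximalIdeal (EGA4.FibLocRing A B P) := by
    refine IsLocalRing.eq_maximalIdeal ((Ideal.map_eq_top_or_isMaximal_of_surjective (Ideal.Quotient.mk ((P.comap (algebraMap A B)).map (algebraMap A (Localization.AtPrime P)))) Ideal.Quotient.mk_surjective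
      (IsLocalRing.maximalIdeal.isMaximal _)).resolve_left fun htop => ?_)
    have h1 := Ideal.comap_map_of_surjective
      (Ideal.Quotient.mk ((P.comap (algebraMap A B)).map (algebraMap A (Localization.AtPrime P))))
      Ideal.Quotient.mk_surjective (IsLocalRing.maximalIdeal (Localization.AtPrime P))
    rw [htop, Ideal.comap_top, ← RingHom.ker_eq_comap_bot, Ideal.mk_ker] at h1
    refine (IsLocalRing.maximalIdeal.isMaximal (Localization.AtPrime P)).ne_top (eq_top_iff.2 (h1.le.trans (sup_le le_rfl ?_)))
    rw [Ideal.map_le_iff_le_comap, IsScalarTower.algebraMap_eq A B (Localization.AtPrime P), ← Ideal.comap_comap]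
    exact Ideal.comap_mono (le_of_eq (Localization.AtPrime.comap_maximalIdeal (I := P)).symm)
  have hq : P.comap (algebraMap A B) = q := (Ideal.LiesOver.over (p := q) (P := P)).symm
  subst hq
  rw [hm] at h
  rw [← IsLocalRing.maximalIdeal_height_eq_ringKrullDim, ← IsLocalRing.maximalIdeal_height_eq_ringKrullDim (R := Localization.AtPrime P),
    IsLocalization.AtPrime.ringKrullDim_eq_height (P.comap (algebraMap A B)) (Localization.AtPrime (P.comap (algebraMap A B))), h, ← WithBot.coe_add,
    add_comm]

theorem fibre_dim_zero {A B : Type u} [CommRing A] [CommRing B] [Algebra A B] (q : Ideal A) (P : Ideal B) [P.IsPrime]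
    [P.LiesOver q] (hP : P ∈ (q.map (algebraMap A B)).minimalPrimes) :
    ringKrullDim (EGA4.FibLocRing A B P) = 0 := by
  haveI := fibLoc_isLocalRing (A := A) P
  haveI : Ring.KrullDimLE 0 (EGA4.FibLocRing A B P) := by
    rw [Ring.krullDimLE_zero_iff]
    intro I hI
    let J : Ideal B := I.comap ((Ideal.Quotient.mk _).comp (algebraMap B (Localization.AtPrime P)))
    haveI : J.IsPrime := Ideal.comap_isPrime _ _
    have hJP : J ≤ P := by
      rw [← Localization.AtPrime.comap_maximalIdeal (I := P)]
      show (I.comap (Ideal.Quotient.mk _)).comap _ ≤ _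
      exact Ideal.comap_mono (IsLocalRing.le_maximalIdeal (Ideal.IsPrime.ne_top (Ideal.comap_isPrime _ _)))
    have hqJ : q.map (algebraMap A B) ≤ J := by
      rw [Ideal.map_le_iff_le_comap, Ideal.LiesOver.over (p := q) (P := P)]
      intro x hx
      show Ideal.Quotient.mk _ (algebraMap B (Localization.AtPrime P) (algebraMap A B x)) ∈ I
      rw [← IsScalarTower.algebraMap_apply, Ideal.Quotient.eq_zero_iff_mem.2 (Ideal.mem_map_of_mem _ hx)]
      exact zero_mem _
    have hPJ : P ≤ J := hP.2 ⟨inferInstance, hqJ⟩ hJP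
    refine (IsLocalRing.le_maximalIdeal hI.ne_top).antisymm ?_ ▸ IsLocalRing.maximalIdeal.isMaximal _
    intro x hx
    obtain ⟨y, rfl⟩ := Ideal.Quotient.mk_surjective x
    obtain ⟨b, s, rfl⟩ := IsLocalization.exists_mk'_eq P.primeCompl y
    have hb : b ∈ P := by
      by_contra hb
      exact hx ((IsLocalization.AtPrime.isUnit_mk'_iff (Localization.AtPrime P) P b s).2 hb |>.map _)
    have h1 := hPJ hb
    rw [IsLocalization.mk'_eq_mul_mk'_one, map_mul]
    exact I.mul_mem_right _ h1
  exact ringKrullDimZero_iff_ringKrullDim_eq_zero.1 inferInstance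

open TensorProduct in
/-- Let S be of finite type over a field k, K an extension field of k, S_K = S ⊗_k K, q a prime of S
whose residue field has transcendence degree r over k, and q_K a prime of S_K lying over q whose
residue field has transcendence degree r_K over K. Then the local ring at q_K of the fibre of S →
S_K over q has dimension dim (S_K)_{q_K} − dim S_q = r − r_K (stated additively), and there is a
prime of S_K over q for which this dimension is zero. -/
theorem result (k S K : Type u) [Field k] [CommRing S] [Algebra k S]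
    [Algebra.FiniteType k S] [Field K] [Algebra k K] (q : Ideal S) [q.IsPrime] (r : ℕ)
    (hr : Algebra.trdeg k q.ResidueField = r) (qK : Ideal (S ⊗[k] K)) [qK.IsPrime] [qK.LiesOver q]
    (rK : ℕ)
    (hrK : letI : Algebra K (S ⊗[k] K) := Algebra.TensorProduct.rightAlgebra
      Algebra.trdeg K qK.ResidueField = rK) :
    ringKrullDim (EGA4.FibLocRing S (S ⊗[k] K) qK) + ringKrullDim (Localization.AtPrime q) =
        ringKrullDim (Localization.AtPrime qK) ∧
      ringKrullDim (EGA4.FibLocRing S (S ⊗[k] K) qK) + (rK : WithBot ℕ∞) = (r : WithBot ℕ∞) ∧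
      ∃ (q' : Ideal (S ⊗[k] K)) (_ : q'.IsPrime), q'.LiesOver q ∧
        ringKrullDim (EGA4.FibLocRing S (S ⊗[k] K) q') = 0 := by
  classical
  letI : Algebra K (S ⊗[k] K) := Algebra.TensorProduct.rightAlgebra
  haveI : IsScalarTower k K (S ⊗[k] K) := IsScalarTower.of_algebraMap_eq fun x => by
    show _ = Algebra.TensorProduct.includeRight (algebraMap k K x)
    rw [AlgHom.commutes]
  haveI : IsNoetherianRing (S ⊗[k] K) :=
    haveI : IsNoetherianRing (K ⊗[k] S) := Algebra.FiniteType.isNoetherianRing K _
    isNoetherianRing_of_ringEquiv (K ⊗[k] S) (Algebra.TensorProduct.comm k K S).toRingEquiv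
  let e : (K ⊗[k] S) ≃ₐ[K] (S ⊗[k] K) :=
    { (Algebra.TensorProduct.comm k K S).toRingEquiv with
      commutes' := fun x => by
        show Algebra.TensorProduct.comm k K S (x ⊗ₜ 1) = _
        rw [Algebra.TensorProduct.comm_tmul]
        rfl }
  haveI : IsNoetherianRing S := Algebra.FiniteType.isNoetherianRing k S
  have hfib : ∀ (P : Ideal (S ⊗[k] K)) [P.IsPrime] [P.LiesOver q],
      ringKrullDim (EGA4.FibLocRing S (S ⊗[k] K) P) + ringKrullDim (Localization.AtPrime q) =
        ringKrullDim (Localization.AtPrime P) := fun P _ _ => fibre_dim q P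
  refine ⟨hfib qK, ?_, ?_⟩
  · let Q : Ideal (K ⊗[k] S) := qK.comap e.toAlgHom
    haveI : Q.IsPrime := Ideal.comap_isPrime _ _
    have hQq : Q.comap (Algebra.TensorProduct.includeRight.toRingHom : S →+* K ⊗[k] S) = q := by
      rw [Ideal.LiesOver.over (p := q) (P := qK)]
      ext x
      show Algebra.TensorProduct.comm k K S (1 ⊗ₜ x) ∈ qK ↔ _
      rw [Algebra.TensorProduct.comm_tmul]
      rfl
    have hQr : Algebra.trdeg K Q.ResidueField = rK := by
      refine le_antisymm ?_ ?_ |>.trans hrK
      · exact trdeg_le_of_injective (Ideal.ResidueField.mapₐ Q qK e.toAlgHom rfl) (RingHom.injective _)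
      · refine trdeg_le_of_injective (Ideal.ResidueField.mapₐ qK Q e.symm.toAlgHom ?_) (RingHom.injective _)
        ext x
        show x ∈ qK ↔ e (e.symm x) ∈ qK
        rw [e.apply_symm_apply]
    have h1 := S2141.result (k := K) (S := K ⊗[k] S) Q rK hQr
    have h2 := S2141.result (k := k) (S := S) q r hr
    have h3 := S2142.result (k := k) (K := K) (S := S) q Q hQq
    have hG : ringKrullDim (Localization.AtPrime qK) = ringKrullDim (Localization.AtPrime Q) := by
      rw [IsLocalization.AtPrime.ringKrullDim_eq_height qK, IsLocalization.AtPrime.ringKrullDim_eq_height Q]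
      exact congrArg _ (e.toRingEquiv.height_comap qK).symm
    have h4 := hfib qK
    rw [hG] at h4
    rw [h2] at h3
    rw [h1] at h3
    rw [IsLocalization.AtPrime.ringKrullDim_eq_height Q (Localization.AtPrime Q)] at h3 h4
    rw [IsLocalization.AtPrime.ringKrullDim_eq_height q (Localization.AtPrime q)] at h3 h4
    haveI : IsNoetherianRing S := Algebra.FiniteType.isNoetherianRing k S
    haveI : IsNoetherianRing (K ⊗[k] S) := Algebra.FiniteType.isNoetherianRing K _
    obtain ⟨H, hH⟩ := WithTop.ne_top_iff_exists.1 (Ideal.height_ne_top_of_isPrime (I := q))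
    obtain ⟨G, hG'⟩ := WithTop.ne_top_iff_exists.1 (Ideal.height_ne_top_of_isPrime (I := Q))
    haveI : IsLocalRing (EGA4.FibLocRing S (S ⊗[k] K) qK) := fibLoc_isLocalRing qK
    rw [← IsLocalRing.maximalIdeal_height_eq_ringKrullDim] at h4 ⊢
    generalize (IsLocalRing.maximalIdeal (EGA4.FibLocRing S (S ⊗[k] K) qK)).height = F at h4 ⊢
    rw [← hH, ← hG'] at h3 h4
    cases F with
    | top =>
      rw [← WithBot.coe_add, WithBot.coe_inj, top_add] at h4
      exact absurd h4.symm WithTop.coe_ne_top
    | coe F =>
      have h3' : (G : ℕ) + rK = H + r := ENat.natCast_inj.1 (WithBot.coe_inj.1 h3)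
      have h4' : (F : ℕ) + H = G := ENat.natCast_inj.1 (WithBot.coe_inj.1 h4)
      exact congrArg (fun n : ℕ => ((n : ℕ∞) : WithBot ℕ∞)) (show F + rK = r by omega)
  · haveI : Module.FaithfullyFlat S (S ⊗[k] K) := inferInstance
    obtain ⟨P, hP⟩ := PrimeSpectrum.comap_surjective_of_faithfullyFlat (A := S) (B := S ⊗[k] K) ⟨q, inferInstance⟩
    have hle : q.map (algebraMap S (S ⊗[k] K)) ≤ P.asIdeal :=
      Ideal.map_le_iff_le_comap.2 (le_of_eq (congrArg PrimeSpectrum.asIdeal hP).symm)
    obtain ⟨q', hq', hq'le⟩ := Ideal.exists_minimalPrimes_le hle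
    haveI := hq'.1.1
    haveI hlo : q'.LiesOver q := ⟨le_antisymm (Ideal.map_le_iff_le_comap.1 hq'.1.2)
      ((Ideal.comap_mono hq'le).trans (le_of_eq (congrArg PrimeSpectrum.asIdeal hP)))⟩
    exact ⟨q', inferInstance, hlo, fibre_dim_zero q q' hq'⟩

end Groth.Agent.S9180
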