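import Groth.Statements.S9181
import Groth.Agent.FibDim.Alg
import Groth.Agent.H1Quasi.AtPrime
import Mathlib.RingTheory.RingHom.QuasiFinite
import Mathlib

set_option autoImplicit false
universe u
open CAlg

namespace Groth.Agent.S9181

/-- Let R → S be of finite type, q a prime of S over p, Q the prime of κ(p) ⊗ S over q, with the fibre
of local dimension n at Q and κ(q) of transcendence degree r over κ(p). Then for some f ∉ p and g ∉
q there is an R-algebra map φ : R_f[x_1, …, x_n] → S_g, of finite type and quasi-finite, such that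
the inverse image of q S_g under φ is the ideal generated by p and the variables x_{r+1}, …, x_n. -/
theorem result (R S : Type u) [CommRing R] [CommRing S]
    [Algebra R S] [Algebra.FiniteType R S] (p : Ideal R) [p.IsPrime] (q : Ideal S) [q.IsPrime] [q.LiesOver p]
    [Algebra (Localization.AtPrime p) (Localization.AtPrime q)]
    [Localization.AtPrime.IsLiesOverAlgebra p q] (Q : PrimeSpectrum (p.Fiber S))
    (hQ : Q.asIdeal.comap (Algebra.TensorProduct.includeRight.toRingHom) = q) (n r : ℕ)
    (hdim : FlatMor.localDim (PrimeSpectrum (p.Fiber S)) Q = (n : WithBot ℕ∞))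
    (hr : Algebra.trdeg p.ResidueField q.ResidueField = r) :
    ∃ (f : R) (g : S), f ∉ p ∧ g ∉ q ∧
      ∃ φ : MvPolynomial (Fin n) (Localization.Away f) →ₐ[R] Localization.Away g,
        φ.toRingHom.FiniteType ∧ φ.toRingHom.QuasiFinite ∧
        (q.map (algebraMap S (Localization.Away g))).comap φ =
          p.map (algebraMap R (MvPolynomial (Fin n) (Localization.Away f))) ⊔
            Ideal.span (Set.range fun i : {i : Fin n // r ≤ (i : ℕ)} =>
              (MvPolynomial.X (i : Fin n) : MvPolynomial (Fin n) (Localization.Away f))) := by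
  classical
  have hrdeg := hr
  let y : PrimeSpectrum R := ⟨p, inferInstance⟩
  let e := PrimeSpectrum.preimageHomeomorphFiber R S y
  let qq : PrimeSpectrum S := ⟨q, inferInstance⟩
  have hqy : PrimeSpectrum.comap (algebraMap R S) qq = y :=
    PrimeSpectrum.ext (Ideal.LiesOver.over (P := q) (p := p)).symm
  have heQ : e.symm Q = (⟨qq, hqy⟩ : ↥(PrimeSpectrum.comap (algebraMap R S) ⁻¹' {y})) :=
    Subtype.ext (PrimeSpectrum.ext hQ)
  have hdim' : (⨅ U : {U : TopologicalSpace.Opens (PrimeSpectrum (p.Fiber S)) // Q ∈ U},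
      topologicalKrullDim (U.1 : Set (PrimeSpectrum (p.Fiber S)))) = n := hdim
  haveI : Nonempty {U : TopologicalSpace.Opens (PrimeSpectrum (p.Fiber S)) // Q ∈ U} := ⟨⟨⊤, trivial⟩⟩
  obtain ⟨⟨U, hU⟩, hUdim⟩ := ciInf_mem fun U : {U : TopologicalSpace.Opens
    (PrimeSpectrum (p.Fiber S)) // Q ∈ U} => topologicalKrullDim (U.1 : Set (PrimeSpectrum (p.Fiber S)))
  have hUdim' : topologicalKrullDim (U : Set (PrimeSpectrum (p.Fiber S))) = n := hUdim.trans hdim'
  obtain ⟨W, hW, hWU⟩ := isOpen_induced_iff.mp (U.isOpen.preimage e.continuous)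
  have hqW : qq ∈ W := by
    have h1 : e.symm Q ∈ Subtype.val ⁻¹' W := by
      rw [hWU, Set.mem_preimage, e.apply_symm_apply]
      exact hU
    rw [heQ] at h1
    exact h1
  obtain ⟨_, ⟨g₀, rfl⟩, hg₀, hsub⟩ :=
    PrimeSpectrum.isTopologicalBasis_basic_opens.exists_subset_of_mem_open hqW hW
  let V : TopologicalSpace.Opens (PrimeSpectrum (p.Fiber S)) :=
    ⟨(fun z => (e.symm z).1) ⁻¹' (PrimeSpectrum.basicOpen g₀ : Set (PrimeSpectrum S)),
      (PrimeSpectrum.basicOpen g₀).isOpen.preimage (continuous_subtype_val.comp e.symm.continuous)⟩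
  have hQV : Q ∈ V := by
    show (e.symm Q).1 ∈ (PrimeSpectrum.basicOpen g₀ : Set (PrimeSpectrum S))
    rw [heQ]
    exact hg₀
  have hVU : (V : Set (PrimeSpectrum (p.Fiber S))) ⊆ U := fun z hz => by
    have h1 : e.symm z ∈ Subtype.val ⁻¹' W := hsub hz
    rw [hWU, Set.mem_preimage, e.apply_symm_apply] at h1
    exact h1
  have hV : topologicalKrullDim (V : Set (PrimeSpectrum (p.Fiber S))) = n := by
    refine le_antisymm ?_ ?_
    · refine le_trans ?_ hUdim'.le
      exact Topology.IsInducing.topologicalKrullDim_le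
        (Topology.IsEmbedding.inclusion hVU).isInducing
    · rw [← hdim']
      exact iInf_le (fun U : {U : TopologicalSpace.Opens (PrimeSpectrum (p.Fiber S)) // Q ∈ U} =>
        topologicalKrullDim (U.1 : Set (PrimeSpectrum (p.Fiber S)))) ⟨V, hQV⟩
  -- pass to the chart
  let B₀ := Localization.Away g₀
  haveI : Algebra.FiniteType R B₀ :=
    .trans (S := S) inferInstance (IsLocalization.finiteType_of_monoid_fg (.powers g₀) _)
  set ι := PrimeSpectrum.comap (algebraMap S B₀) with hιdef
  have hι : Topology.IsOpenEmbedding ι := PrimeSpectrum.localization_away_isOpenEmbedding B₀ g₀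
  have hr : Set.range ι = (PrimeSpectrum.basicOpen g₀ : Set (PrimeSpectrum S)) :=
    PrimeSpectrum.localization_away_comap_range B₀ g₀
  have hcomp : ∀ z, PrimeSpectrum.comap (algebraMap R B₀) z =
      PrimeSpectrum.comap (algebraMap R S) (ι z) := fun z => by
    rw [hιdef, ← PrimeSpectrum.comap_comp_apply, ← IsScalarTower.algebraMap_eq]
  obtain ⟨P₀, hP₀⟩ := hr.ge hg₀
  have hy₀ : PrimeSpectrum.comap (algebraMap R B₀) P₀ = y := by rw [hcomp, hP₀, hqy]
  let Dfib : Set (PrimeSpectrum S) :=
    (PrimeSpectrum.basicOpen g₀ : Set (PrimeSpectrum S)) ∩ PrimeSpectrum.comap (algebraMap R S) ⁻¹' {y}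
  have hD : topologicalKrullDim ↥Dfib = topologicalKrullDim (V : Set (PrimeSpectrum (p.Fiber S))) := by
    refine le_antisymm ?_ ?_
    · refine Topology.IsInducing.topologicalKrullDim_le (f := fun z : ↥Dfib =>
        (⟨e ⟨z.1, z.2.2⟩, ?_⟩ : ↥(V : Set (PrimeSpectrum (p.Fiber S))))) ?_
      · show (e.symm (e ⟨z.1, z.2.2⟩)).1 ∈ (PrimeSpectrum.basicOpen g₀ : Set (PrimeSpectrum S))
        rw [e.symm_apply_apply]
        exact z.2.1
      · exact ((e.isEmbedding.isInducing.comp
          (Topology.IsInducing.subtypeVal.codRestrict fun z : ↥Dfib => z.2.2))).codRestrict _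
    · refine Topology.IsInducing.topologicalKrullDim_le
        (f := fun z : ↥(V : Set (PrimeSpectrum (p.Fiber S))) =>
          (⟨(e.symm z.1).1, z.2, (e.symm z.1).2⟩ : ↥Dfib)) ?_
      have h1 : Topology.IsInducing (fun z : ↥(V : Set (PrimeSpectrum (p.Fiber S))) => (e.symm z.1).1) :=
        Topology.IsInducing.subtypeVal.comp (e.symm.isEmbedding.isInducing.comp
          (Topology.IsInducing.subtypeVal (t := (V : Set (PrimeSpectrum (p.Fiber S))))))
      exact h1.codRestrict (s := Dfib) (fun z => ⟨z.2, (e.symm z.1).2⟩)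
  have hdim₀ : ringKrullDim ((PrimeSpectrum.comap (algebraMap R B₀) P₀).asIdeal.Fiber B₀) = n := by
    rw [← Groth.Agent.FibDim.topologicalKrullDim_fib, hy₀, ← hV, ← hD]
    have hset : ι '' Groth.Agent.FibDim.fib (B := B₀) y = Dfib := by
      ext z
      constructor
      · rintro ⟨w, hw, rfl⟩
        exact ⟨hr.le ⟨w, rfl⟩, (hcomp w).symm.trans hw⟩
      · rintro ⟨hz, hz'⟩
        obtain ⟨w, rfl⟩ := hr.ge hz
        exact ⟨w, (hcomp w).trans hz', rfl⟩
    rw [← hset]
    exact (hι.isEmbedding.homeomorphImage _).isHomeomorph.topologicalKrullDim_eq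
  obtain ⟨m, -, b, -, hm, hfin, -, -⟩ := Groth.Agent.FibDim.exists_quasiFinite P₀ n hdim₀.le
  obtain rfl : m = n := by exact_mod_cast hm.symm.trans hdim₀
  have hp₀ : (PrimeSpectrum.comap (algebraMap R B₀) P₀).asIdeal = p := congrArg PrimeSpectrum.asIdeal hy₀
  obtain ⟨r', hr', b', g, hg, hQF, hmem, hfinψ⟩ := H1Quasi.exists_adapted P₀ p hp₀ b hfin
  letI := (MvPolynomial.aeval (R := R) b').toRingHom.toAlgebra
  haveI : IsScalarTower R (MvPolynomial (Fin m) R) B₀ :=
    IsScalarTower.of_algebraMap_eq fun a => ((MvPolynomial.aeval (R := R) b').commutes a).symm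
  haveI := hQF
  let B₁ := Localization.Away g
  haveI : IsScalarTower R (MvPolynomial (Fin m) R) B₁ :=
    IsScalarTower.to₁₂₄ R (MvPolynomial (Fin m) R) B₀ B₁
  haveI : Algebra.FiniteType R B₁ :=
    .trans (S := B₀) inferInstance (IsLocalization.finiteType_of_monoid_fg (.powers g) _)
  haveI : Algebra.FiniteType (MvPolynomial (Fin m) R) B₁ :=
    Algebra.FiniteType.of_restrictScalars_finiteType R _ B₁
  obtain ⟨k, a, hka⟩ := IsLocalization.Away.surj g₀ g
  have hass : Associated (algebraMap S B₀ a) g := by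
    rw [← hka]
    exact associated_mul_unit_left g _ ((IsLocalization.Away.algebraMap_isUnit g₀).pow k)
  haveI : IsLocalization.Away (g₀ * a) B₁ :=
    IsLocalization.Away.mul_of_associated g₀ a g hass
  have hP₀q : ∀ x : S, algebraMap S B₀ x ∈ P₀.asIdeal ↔ x ∈ q := fun x =>
    Iff.of_eq (congrArg (fun z : PrimeSpectrum S => x ∈ z.asIdeal) hP₀)
  have hga : g₀ * a ∉ q := by
    intro h
    rcases Ideal.IsPrime.mem_or_mem ‹_› h with h | h
    · exact hg₀ h
    · refine hg ((Ideal.unit_mul_mem_iff_mem P₀.asIdeal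
        ((IsLocalization.Away.algebraMap_isUnit (S := B₀) g₀).pow k)).mp ?_)
      rw [mul_comm, hka]
      exact (hP₀q a).2 h
  -- evaluation in `κ(q)`
  let χ₀ : B₀ →+* q.ResidueField := IsLocalization.Away.lift g₀
    (g := algebraMap S q.ResidueField) (isUnit_iff_ne_zero.2 fun h0 =>
      hg₀ ((Ideal.algebraMap_residueField_eq_zero).1 h0))
  have hχ₀ : ∀ x, χ₀ (algebraMap S B₀ x) = algebraMap S q.ResidueField x := fun x => IsLocalization.Away.lift_eq g₀ _ x
  haveI : IsScalarTower R p.ResidueField q.ResidueField := inferInstance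
  let χ : B₀ →ₐ[R] q.ResidueField :=
    { χ₀ with
      commutes' := fun x => by
        show χ₀ (algebraMap R B₀ x) = _
        rw [IsScalarTower.algebraMap_apply R S B₀, hχ₀, ← IsScalarTower.algebraMap_apply R S q.ResidueField] }
  have hχker : ∀ x, χ x = 0 ↔ x ∈ P₀.asIdeal := fun x => by
    obtain ⟨j, c, hc⟩ := IsLocalization.Away.surj g₀ x
    have hu := (IsLocalization.Away.algebraMap_isUnit (S := B₀) g₀).pow j
    have h1 : χ x = 0 ↔ c ∈ q := by
      rw [← Ideal.algebraMap_residueField_eq_zero, ← hχ₀, ← hc]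
      show χ₀ x = 0 ↔ _
      rw [map_mul]
      exact ((hu.map χ₀).mul_left_eq_zero).symm
    rw [h1, ← hP₀q, ← hc, mul_comm, Ideal.unit_mul_mem_iff_mem _ hu]
  let y : Fin m → q.ResidueField := fun i => χ (b' i)
  have hy : ∀ H : MvPolynomial (Fin m) R, MvPolynomial.aeval (R := p.ResidueField) y
      (MvPolynomial.map (algebraMap R p.ResidueField) H) = χ (MvPolynomial.aeval b' H) := fun H => by
    rw [MvPolynomial.aeval_map_algebraMap]
    exact (MvPolynomial.comp_aeval_apply b' χ H).symm
  have hzero : ∀ H : MvPolynomial (Fin m) R, χ (MvPolynomial.aeval b' H) = 0 ↔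
      MvPolynomial.map (algebraMap R p.ResidueField) H ∈ H1Quasi.spanGE p.ResidueField m r' := fun H => by
    rw [hχker, hmem]
  -- `r' = r`
  obtain rfl : r' = r := by
    let x : ULift.{u} (Fin r') → q.ResidueField := fun i => y (Fin.castLE hr' i.down)
    have hind : AlgebraicIndependent p.ResidueField x := by
      rw [algebraicIndependent_iff]
      intro G hG
      obtain ⟨s, hs, H, hH⟩ := Groth.Agent.FibDim.exists_C_mul_mem_range (A := R) p
        (MvPolynomial.rename (fun i : ULift.{u} (Fin r') => Fin.castLE hr' i.down) G)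
      have h1 : χ (MvPolynomial.aeval b' H) = 0 := by
        rw [← hy, ← hH, map_mul, MvPolynomial.aeval_rename]
        exact mul_eq_zero_of_right _ hG
      have h2 := H1Quasi.killGE_eq_zero_of_mem _ _ ((hzero H).1 h1)
      rw [← hH, map_mul] at h2
      have hr'' : MvPolynomial.rename (fun i : ULift.{u} (Fin r') => Fin.castLE hr' i.down) G =
          MvPolynomial.rename (Fin.castLE hr') (MvPolynomial.rename ULift.down G) := by
        rw [MvPolynomial.rename_rename]
        rfl
      rw [hr'', H1Quasi.killGE_rename] at h2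
      have hs0 : algebraMap R p.ResidueField s ≠ 0 := by simpa using hs
      rcases mul_eq_zero.1 h2 with h3 | h3
      · refine absurd h3 ?_
        simp [H1Quasi.killGE]
        exact hs
      · exact MvPolynomial.rename_injective _ ULift.down_injective (h3.trans (map_zero _).symm)
    let L := IntermediateField.adjoin p.ResidueField (Set.range x)
    have hyL : ∀ i, y i ∈ L := by
      intro i
      by_cases hi : (i : ℕ) < r'
      · exact IntermediateField.subset_adjoin _ _ ⟨⟨⟨i, hi⟩⟩, congrArg y (Fin.ext rfl)⟩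
      · have h1 : χ (b' i) = 0 := by
          have := (hzero (MvPolynomial.X i)).2 (by
            rw [MvPolynomial.map_X]
            exact Ideal.subset_span ⟨⟨i, not_lt.1 hi⟩, rfl⟩)
          rwa [MvPolynomial.aeval_X] at this
        exact (show y i = 0 from h1) ▸ zero_mem L
    let Φ : p.Fiber B₀ →ₐ[p.ResidueField] q.ResidueField :=
      Algebra.TensorProduct.lift (Algebra.ofId p.ResidueField q.ResidueField) χ fun _ _ => Commute.all _ _
    let ψ : MvPolynomial (Fin m) p.ResidueField →ₐ[p.ResidueField] p.Fiber B₀ :=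
      MvPolynomial.aeval fun i => (1 : p.ResidueField) ⊗ₜ[R] b' i
    have hΦψ : ∀ G, Φ (ψ G) = MvPolynomial.aeval y G := fun G => by
      rw [← AlgHom.comp_apply, show Φ.comp ψ = MvPolynomial.aeval y from MvPolynomial.algHom_ext fun i => by
        simp [Φ, ψ, y]]
    have hL : ∀ G : MvPolynomial (Fin m) p.ResidueField, MvPolynomial.aeval y G ∈ L := fun G => by
      induction G using MvPolynomial.induction_on with
      | C c => rw [MvPolynomial.aeval_C]; exact L.algebraMap_mem c
      | add p q hp hq => rw [map_add]; exact add_mem hp hq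
      | mul_X p i hp => rw [map_mul, MvPolynomial.aeval_X]; exact mul_mem hp (hyL i)
    let evL : MvPolynomial (Fin m) p.ResidueField →+* L :=
      (MvPolynomial.aeval y).toRingHom.codRestrict L.toSubfield.toSubring hL
    have hint : ∀ c : S, IsIntegral L (algebraMap S q.ResidueField c) := fun c => by
      letI := ψ.toRingHom.toAlgebra
      haveI : Module.Finite (MvPolynomial (Fin m) p.ResidueField) (p.Fiber B₀) := hfinψ
      obtain ⟨Pl, hPm, hP⟩ := Algebra.IsIntegral.isIntegral (R := MvPolynomial (Fin m) p.ResidueField)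
        ((1 : p.ResidueField) ⊗ₜ[R] algebraMap S B₀ c : p.Fiber B₀)
      refine ⟨Pl.map evL, hPm.map _, ?_⟩
      have h1 := congrArg Φ.toRingHom hP
      rw [map_zero, Polynomial.hom_eval₂] at h1
      rw [Polynomial.eval₂_map]
      refine Eq.trans ?_ h1
      congr 1
      · exact RingHom.ext fun G => (hΦψ G).symm
      · show _ = Φ ((1 : p.ResidueField) ⊗ₜ[R] algebraMap S B₀ c)
        simp [Φ]
        exact (hχ₀ c).symm
    have halg : Algebra.IsAlgebraic L q.ResidueField := by
      refine ⟨fun z => IsIntegral.isAlgebraic ?_⟩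
      obtain ⟨⟨u', ⟨w, hw⟩⟩, hz⟩ := IsLocalization.surj (nonZeroDivisors (S ⧸ q)) z
      obtain ⟨u', rfl⟩ := Ideal.Quotient.mk_surjective u'
      obtain ⟨w, rfl⟩ := Ideal.Quotient.mk_surjective w
      have hw0 : algebraMap S q.ResidueField w ≠ 0 := by
        rw [Ne, Ideal.algebraMap_residueField_eq_zero]
        exact fun h => nonZeroDivisors.ne_zero hw (Ideal.Quotient.eq_zero_iff_mem.mpr h)
      have hz' : z = algebraMap S q.ResidueField u' * (algebraMap S q.ResidueField w)⁻¹ := by
        rw [eq_mul_inv_iff_mul_eq₀ hw0]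
        simpa [← Ideal.Quotient.algebraMap_eq, ← IsScalarTower.algebraMap_apply] using hz
      rw [hz']
      exact (hint u').mul ((hint w).inv)
    have hbasis : IsTranscendenceBasis p.ResidueField x :=
      hind.isTranscendenceBasis_iff_isAlgebraic.2
        (IntermediateField.isAlgebraic_adjoin_iff_top.1 halg)
    have := hbasis.cardinalMk_eq_trdeg
    rw [hrdeg] at this
    simpa using this
  -- assemble
  let ε : B₁ ≃ₐ[S] Localization.Away (g₀ * a) :=
    IsLocalization.algEquiv (Submonoid.powers (g₀ * a)) _ _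
  let e1 : R ≃ₐ[R] Localization.Away (1 : R) :=
    IsLocalization.atUnits R (Submonoid.powers (1 : R)) (by
      rintro _ ⟨j, rfl⟩; simp)
  let E := MvPolynomial.mapAlgEquiv (Fin m) e1
  let φ₀ : MvPolynomial (Fin m) R →ₐ[R] Localization.Away (g₀ * a) :=
    ((ε.restrictScalars R).toAlgHom).comp (IsScalarTower.toAlgHom R (MvPolynomial (Fin m) R) B₁)
  refine ⟨1, g₀ * a, fun h1 => (Ideal.IsPrime.ne_top ‹p.IsPrime›) ((Ideal.eq_top_iff_one p).2 h1), hga,
    φ₀.comp E.symm.toAlgHom, ?_, ?_, ?_⟩
  · refine RingHom.FiniteType.comp (g := φ₀.toRingHom) ?_ (RingHom.FiniteType.of_surjective _ E.symm.surjective)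
    exact RingHom.FiniteType.comp
      (RingHom.FiniteType.of_surjective (ε.toRingEquiv.toRingHom) ε.surjective)
      (RingHom.finiteType_algebraMap.2 inferInstance)
  · show (φ₀.toRingHom.comp E.symm.toRingEquiv.toRingHom).QuasiFinite
    refine RingHom.QuasiFinite.comp ?_
      (RingHom.QuasiFinite.of_finite (RingHom.Finite.of_surjective E.symm.toRingEquiv.toRingHom E.symm.surjective))
    exact RingHom.QuasiFinite.comp
      (RingHom.QuasiFinite.of_finite (RingHom.Finite.of_surjective ε.toRingEquiv.toRingHom ε.surjective))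
      (RingHom.quasiFinite_algebraMap.2 hQF)
  · let χg : Localization.Away (g₀ * a) →+* q.ResidueField := IsLocalization.Away.lift (g₀ * a)
      (g := algebraMap S q.ResidueField) (isUnit_iff_ne_zero.2 fun h0 =>
        hga ((Ideal.algebraMap_residueField_eq_zero).1 h0))
    have hχg : ∀ x, χg (algebraMap S _ x) = algebraMap S q.ResidueField x := fun x => IsLocalization.Away.lift_eq _ _ x
    have hqmap : q.map (algebraMap S (Localization.Away (g₀ * a))) = RingHom.ker χg := by
      rw [← IsLocalization.map_comap (Submonoid.powers (g₀ * a)) (Localization.Away (g₀ * a)) (RingHom.ker χg)]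
      congr 1
      ext x
      rw [Ideal.mem_comap, RingHom.mem_ker, hχg, Ideal.algebraMap_residueField_eq_zero]
    have hcomp : χg.comp ((ε.restrictScalars R).toAlgHom.toRingHom.comp (algebraMap B₀ B₁)) = χ.toRingHom := by
      refine IsLocalization.ringHom_ext (Submonoid.powers g₀) (RingHom.ext fun x => ?_)
      show χg (ε (algebraMap B₀ B₁ (algebraMap S B₀ x))) = χ₀ (algebraMap S B₀ x)
      rw [← IsScalarTower.algebraMap_apply S B₀ B₁, ε.commutes, hχg, hχ₀]
    have hval : ∀ G : MvPolynomial (Fin m) R, φ₀ G ∈ q.map (algebraMap S (Localization.Away (g₀ * a))) ↔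
        χ (MvPolynomial.aeval b' G) = 0 := fun G => by
      rw [hqmap, RingHom.mem_ker]
      show χg (ε (algebraMap (MvPolynomial (Fin m) R) B₁ G)) = 0 ↔ _
      rw [IsScalarTower.algebraMap_apply (MvPolynomial (Fin m) R) B₀ B₁]
      exact Iff.of_eq (congrArg (· = 0) (RingHom.congr_fun hcomp _))
    ext G
    obtain ⟨G, rfl⟩ := E.surjective G
    rw [Ideal.mem_comap]
    show φ₀ (E.symm (E G)) ∈ _ ↔ _
    rw [E.symm_apply_apply, hval, hzero, H1Quasi.mem_map_sup_spanGE_iff p hr']
    have hmap : ∀ J : Ideal (MvPolynomial (Fin m) R), E G ∈ J.map E.toRingEquiv.toRingHom ↔ G ∈ J := fun J =>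
      ⟨fun hG => by
        obtain ⟨x, hx, hxG⟩ := (Ideal.mem_map_iff_of_surjective E.toRingEquiv.toRingHom E.surjective).1 hG
        exact E.injective hxG ▸ hx, fun hG => Ideal.mem_map_of_mem _ hG⟩
    rw [← hmap, Ideal.map_sup, Ideal.map_map, Ideal.map_span, ← Set.range_comp]
    refine Iff.of_eq (congrArg (E G ∈ ·) ?_)
    congr 1
    · congr 1
      ext c
      simp [E]
      rw [show e1 c = algebraMap R (Localization.Away (1 : R)) c from e1.commutes c]
    · congr 1
      refine congrArg Set.range (funext fun i => ?_)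
      simp [E]

end Groth.Agent.S9181
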