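import Groth.Statements.S9182
import Groth.Agent.H1CotSch.Basic
import Mathlib.RingTheory.Etale.Kaehler

set_option autoImplicit false
universe u
set_option backward.isDefEq.respectTransparency false
open CAlg

namespace Groth.Agent.S9182

/-- For presentations α : R[x_1, …, x_n] → S and β : R[y_1, …, y_m] → S_g (g ∈ S) with kernels I and J,
the S_g-modules (I/I²)_g ⊕ S_g^m and J/J² ⊕ S_g^n are isomorphic. -/
theorem result (R S : Type u) [CommRing R] [CommRing S] [Algebra R S]
    (g : S) (n m : ℕ) (α : MvPolynomial (Fin n) R →ₐ[R] S) (hα : Function.Surjective α)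
    (β : MvPolynomial (Fin m) R →ₐ[R] Localization.Away g) (hβ : Function.Surjective β) :
    Nonempty ((LocalizedModule (Submonoid.powers g) (Algebra.Extension.ofSurjective α hα).Cotangent ×
        (Fin m → Localization.Away g)) ≃ₗ[Localization.Away g]
      ((Algebra.Extension.ofSurjective β hβ).Cotangent × (Fin n → Localization.Away g))) := by
  classical
  obtain ⟨h, rfl⟩ := hα g
  let Rh := Localization.Away h
  let T := Localization.Away (α h)
  let π : Rh →ₐ[R] T := IsLocalization.Away.mapₐ Rh T α h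
  have hπA : ∀ x, π (algebraMap (MvPolynomial (Fin n) R) Rh x) = algebraMap S T (α x) := fun x => by
    simp [π, IsLocalization.Away.mapₐ, IsLocalization.Away.map]
  have hπ : Function.Surjective π := by
    intro y
    obtain ⟨⟨s, ⟨_, k, rfl⟩⟩, hy⟩ := IsLocalization.surj (Submonoid.powers (α h)) y
    obtain ⟨x, rfl⟩ := hα s
    refine ⟨IsLocalization.mk' Rh x (⟨h ^ k, k, rfl⟩ : Submonoid.powers h), ?_⟩
    have h1 := congrArg π (IsLocalization.mk'_spec Rh x (⟨h ^ k, k, rfl⟩ : Submonoid.powers h))
    rw [map_mul, hπA, hπA, map_pow α] at h1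
    have hu : IsUnit (algebraMap S T (α h ^ k)) :=
      IsLocalization.map_units T (⟨α h ^ k, k, rfl⟩ : Submonoid.powers (α h))
    exact hu.mul_right_cancel (h1.trans hy.symm)
  let P := Algebra.Extension.ofSurjective α hα
  let Pg := Algebra.Extension.ofSurjective π hπ
  let P' := Algebra.Extension.ofSurjective β hβ
  -- the two homs up to squares
  choose a ha using fun i => hβ (algebraMap S T (α (MvPolynomial.X i)))
  choose b hb using fun j => hπ (β (MvPolynomial.X j))
  let G : P'.Ring →ₐ[R] Pg.Ring := MvPolynomial.aeval b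
  have hG : π.comp (MvPolynomial.aeval b) = β := MvPolynomial.algHom_ext fun i => by
    rw [AlgHom.comp_apply, MvPolynomial.aeval_X]; exact hb i
  let g' : P'.Hom Pg.infinitesimal := Pg.toInfinitesimal.comp (Algebra.Extension.Hom.ofAlgHom G
    (AlgHom.ext fun x => DFunLike.congr_fun hG x))
  let F0 : MvPolynomial (Fin n) R →ₐ[R] P'.infinitesimal.Ring :=
    P'.toInfinitesimal.toAlgHom.comp (MvPolynomial.aeval a)
  have hF0 : ∀ x, algebraMap P'.infinitesimal.Ring T (F0 x) = algebraMap S T (α x) := fun x => by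
    show algebraMap P'.infinitesimal.Ring T (P'.toInfinitesimal.toRingHom (MvPolynomial.aeval a x)) = _
    rw [Algebra.Extension.Hom.algebraMap_toRingHom]
    show β (MvPolynomial.aeval a x) = algebraMap S T (α x)
    rw [← AlgHom.comp_apply, show β.comp (MvPolynomial.aeval a) = (IsScalarTower.toAlgHom R S T).comp α from
      MvPolynomial.algHom_ext fun i => by rw [AlgHom.comp_apply, MvPolynomial.aeval_X]; exact ha i]
    rfl
  have hunit : ∀ y : Submonoid.powers h, IsUnit (F0 (y : MvPolynomial (Fin n) R)) := by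
    rintro ⟨_, k, rfl⟩
    refine H1CotSch.isUnit_infinitesimal P' _ ?_
    rw [hF0, map_pow]
    exact IsLocalization.map_units T (⟨α h ^ k, k, rfl⟩ : Submonoid.powers (α h))
  let F : Rh →ₐ[R] P'.infinitesimal.Ring :=
    (IsLocalization.liftAlgHom hunit : Rh →ₐ[R] P'.infinitesimal.Ring)
  have hF : ∀ x : Rh, algebraMap P'.infinitesimal.Ring T (F x) = π x := by
    intro x
    refine RingHom.congr_fun (IsLocalization.ringHom_ext (Submonoid.powers h)
      (j := (algebraMap P'.infinitesimal.Ring T).comp F.toRingHom) (k := π.toRingHom)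
      (RingHom.ext fun y => ?_)) x
    show algebraMap P'.infinitesimal.Ring T
      (IsLocalization.liftAlgHom hunit (algebraMap _ Rh y)) = π (algebraMap _ Rh y)
    rw [hπA, IsLocalization.liftAlgHom_apply, IsLocalization.lift_eq]
    exact hF0 y
  let f : Pg.Hom P'.infinitesimal := Algebra.Extension.Hom.ofAlgHom (P := Pg) F (AlgHom.ext fun x => hF x)
  -- the bases
  let b0 : Module.Basis (Fin n) Rh (KaehlerDifferential R Rh) :=
    (KaehlerDifferential.mvPolynomialBasis R (Fin n)).ofIsLocalizedModule Rh (Submonoid.powers h)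
      (KaehlerDifferential.map R R (MvPolynomial (Fin n) R) Rh)
  let b0g : Module.Basis (Fin n) Pg.Ring (KaehlerDifferential R Pg.Ring) := b0
  let bP : Module.Basis (Fin n) T Pg.CotangentSpace := b0g.baseChange T
  let b0' : Module.Basis (Fin m) P'.Ring (KaehlerDifferential R P'.Ring) :=
    KaehlerDifferential.mvPolynomialBasis R (Fin m)
  let bP' : Module.Basis (Fin m) T P'.CotangentSpace := b0'.baseChange T
  haveI : Module.Free T P'.CotangentSpace := Module.Free.of_basis bP'
  obtain ⟨e⟩ := H1CotSch.nonempty_equiv Pg P' f g'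
  -- localisation of the cotangent module
  let ι : P.Hom Pg :=
    { toRingHom := algebraMap (MvPolynomial (Fin n) R) Rh
      toRingHom_algebraMap := fun x => (IsScalarTower.algebraMap_apply R (MvPolynomial (Fin n) R) Rh x).symm
      algebraMap_toRingHom := fun x => hπA x }
  let L := Algebra.Extension.Cotangent.map ι
  have hker : RingHom.ker π = (RingHom.ker α).map (algebraMap (MvPolynomial (Fin n) R) Rh) := by
    apply le_antisymm
    · intro z hz
      obtain ⟨⟨x, y⟩, hxy⟩ := IsLocalization.surj (Submonoid.powers h) (z : Rh)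
      have h0 : algebraMap S T (α x) = 0 := by
        rw [← hπA, ← hxy, map_mul, show π z = 0 from hz, zero_mul]
      obtain ⟨⟨_, k, rfl⟩, hk⟩ := (IsLocalization.map_eq_zero_iff (Submonoid.powers (α h)) T _).1 h0
      refine (IsLocalization.mem_map_algebraMap_iff (Submonoid.powers h) Rh).2
        ⟨(⟨h ^ k * x, ?_⟩, ⟨h ^ k * y, mul_mem ⟨k, rfl⟩ y.2⟩), ?_⟩
      · show α (h ^ k * x) = 0
        rw [map_mul, map_pow]; exact hk
      · show z * algebraMap _ Rh (h ^ k * (y : MvPolynomial (Fin n) R)) = algebraMap _ Rh (h ^ k * x)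
        rw [map_mul, map_mul, ← hxy]; ring
    · refine Ideal.map_le_iff_le_comap.2 fun x hx => ?_
      show π (algebraMap (MvPolynomial (Fin n) R) Rh x) = 0
      rw [hπA, show α x = 0 from hx, map_zero]
  haveI hloc : IsLocalizedModule (Submonoid.powers (α h)) L := by
    refine ⟨fun s => ?_, fun y => ?_, fun {x₁ x₂} hx => ?_⟩
    · rw [Module.End.isUnit_iff]
      have hu := IsLocalization.map_units T s
      constructor
      · intro x y hxy
        have hxy' : algebraMap S T s • x = algebraMap S T s • y := by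
          rw [algebraMap_smul, algebraMap_smul]; exact hxy
        exact hu.smul_left_cancel.1 hxy'
      · intro y
        refine ⟨(↑hu.unit⁻¹ : T) • y, ?_⟩
        show (s : S) • ((↑hu.unit⁻¹ : T) • y) = y
        rw [← algebraMap_smul T (s : S), smul_smul, IsUnit.mul_val_inv, one_smul]
    · obtain ⟨⟨z, hz⟩, rfl⟩ := Algebra.Extension.Cotangent.mk_surjective y
      obtain ⟨⟨⟨x, hx⟩, ⟨_, k, rfl⟩⟩, hxy⟩ :=
        (IsLocalization.mem_map_algebraMap_iff (Submonoid.powers h) Rh).1 ((le_of_eq hker) hz)
      refine ⟨(Algebra.Extension.Cotangent.mk ⟨x, hx⟩, ⟨α h ^ k, k, rfl⟩), ?_⟩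
      show (α h ^ k : S) • Algebra.Extension.Cotangent.mk (P := Pg) ⟨z, hz⟩ = L _
      rw [← algebraMap_smul T, show algebraMap S T (α h ^ k)
        = algebraMap Pg.Ring T (algebraMap (MvPolynomial (Fin n) R) Rh (h ^ k)) from
          (by rw [← map_pow]; exact (hπA (h ^ k)).symm), algebraMap_smul, ← map_smul]
      refine congrArg Algebra.Extension.Cotangent.mk (Subtype.ext ?_)
      exact (@mul_comm Rh _ _ _).trans hxy
    · rw [← sub_eq_zero, ← map_sub] at hx
      obtain ⟨⟨x, hx0⟩, hxeq⟩ := Algebra.Extension.Cotangent.mk_surjective (x₁ - x₂)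
      rw [← hxeq] at hx
      have h2 : algebraMap (MvPolynomial (Fin n) R) Rh x ∈ Pg.ker ^ 2 :=
        (Algebra.Extension.Cotangent.mk_eq_zero_iff _).1 hx
      replace h2 : algebraMap (MvPolynomial (Fin n) R) Rh x ∈ RingHom.ker π ^ 2 := h2
      rw [hker, ← Ideal.map_pow] at h2
      obtain ⟨_, ⟨k, rfl⟩, hk⟩ :=
        (IsLocalization.algebraMap_mem_map_algebraMap_iff (Submonoid.powers h) Rh _ _).1 h2
      refine ⟨⟨α h ^ k, k, rfl⟩, sub_eq_zero.1 ?_⟩
      show (α h ^ k) • x₁ - (α h ^ k) • x₂ = 0
      rw [← smul_sub, ← hxeq, ← map_pow,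
        show α (h ^ k) = algebraMap P.Ring S (h ^ k) from rfl, algebraMap_smul, ← map_smul,
        Algebra.Extension.Cotangent.mk_eq_zero_iff]
      exact hk
  let eL := (IsLocalizedModule.iso (Submonoid.powers (α h)) L).extendScalarsOfIsLocalization
    (Submonoid.powers (α h)) T
  exact ⟨(eL.prodCongr bP'.equivFun.symm).trans
    (e.trans ((LinearEquiv.refl T P'.Cotangent).prodCongr bP.equivFun))⟩

end Groth.Agent.S9182
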