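import Groth.Statements.S9184
import Groth.Agent.H1FibInj.Exact
import Mathlib
set_option backward.isDefEq.respectTransparency false
set_option backward.isDefEq.respectTransparency.types false
set_option maxHeartbeats 1000000
set_option linter.style.haveILetI false

set_option autoImplicit false
universe u
open CAlg

namespace Groth.Agent.S9184

/-- Let R be Noetherian, R → S flat of finite type whose fibre rings are Cohen–Macaulay and
equidimensional of dimension d, and let 0 → S^{n_e} → ⋯ → S^{n_1} → S^{n_0} be a complex of finite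
free S-modules, the map S^{n_{i+1}} → S^{n_i} being given by the matrix φ_i. Then the set of primes
q of S such that the complex is exact (exact at each S^{n_i} with 0 < i < e and injective at
S^{n_e}) after base change to the fibre local ring S_q/pS_q, p = q ∩ R, is open in Spec S. (The
published statement asks only that the fibres be Cohen–Macaulay of dimension d; this row assumes
them equidimensional of dimension d, the hypothesis the printed argument uses.) -/
theorem result (R S : Type u) [CommRing R] [IsNoetherianRing R] [CommRing S]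
    [Algebra R S] [Algebra.FiniteType R S] [Module.Flat R S] (d : ℕ)
    (hCM : ∀ p : PrimeSpectrum R, LocCoh.IsCohenMacaulayRing (p.asIdeal.Fiber S))
    (heq : ∀ p : PrimeSpectrum R, ∀ P ∈ minimalPrimes (p.asIdeal.Fiber S),
      ringKrullDim (p.asIdeal.Fiber S ⧸ P) = (d : WithBot ℕ∞))
    (e : ℕ) (n : ℕ → ℕ) (φ : (i : ℕ) → Matrix (Fin (n i)) (Fin (n (i + 1))) S)
    (hφ : ∀ i, i + 2 ≤ e → φ i * φ (i + 1) = 0) :
    IsOpen {q : PrimeSpectrum S |
      (∀ i, i + 2 ≤ e →
        LinearMap.ker (Matrix.mulVecLin ((φ i).map (algebraMap S (EGA4.FibLocRing R S q.asIdeal)))) =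
          LinearMap.range (Matrix.mulVecLin ((φ (i + 1)).map (algebraMap S (EGA4.FibLocRing R S q.asIdeal))))) ∧
      (1 ≤ e → Function.Injective
        (Matrix.mulVecLin ((φ (e - 1)).map (algebraMap S (EGA4.FibLocRing R S q.asIdeal)))))} := by
  haveI : IsNoetherianRing S := Algebra.FiniteType.isNoetherianRing R S
  haveI : Algebra.FinitePresentation R S := Algebra.FinitePresentation.of_finiteType.mp inferInstance
  let U : ℕ → Set (PrimeSpectrum S) := fun i => if i + 2 ≤ e then
      {q | LinearMap.ker ((φ i).map (algebraMap S (EGA4.FibLocRing R S q.asIdeal))).mulVecLin ≤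
        LinearMap.range ((φ (i + 1)).map (algebraMap S (EGA4.FibLocRing R S q.asIdeal))).mulVecLin}
    else {q | LinearMap.ker ((φ i).map (algebraMap S (EGA4.FibLocRing R S q.asIdeal))).mulVecLin ≤
        LinearMap.range ((0 : Matrix (Fin (n (i + 1))) (Fin 0) S).map (algebraMap S (EGA4.FibLocRing R S q.asIdeal))).mulVecLin}
  have hU : ∀ i, IsOpen (U i) := fun i => by
    by_cases hi : i + 2 ≤ e
    · simp only [U, if_pos hi]
      exact H1FibInj.isOpen_fibre_ker_le_range (A := R) (φ i) (φ (i + 1)) (hφ i hi)
    · simp only [U, if_neg hi]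
      exact H1FibInj.isOpen_fibre_ker_le_range (A := R) (φ i) 0 (Matrix.mul_zero _)
  convert (Set.finite_lt_nat e).isOpen_biInter fun i _ => hU i using 1
  ext q
  simp only [Set.mem_ofPred_eq, Set.mem_iInter]
  let f := algebraMap S (EGA4.FibLocRing R S q.asIdeal)
  constructor
  · rintro ⟨h1, h2⟩ i (hi : i < e)
    by_cases hi2 : i + 2 ≤ e
    · simp only [U, if_pos hi2, Set.mem_ofPred_eq]
      exact (h1 i hi2).le
    · simp only [U, if_neg hi2, Set.mem_ofPred_eq]
      obtain rfl : i = e - 1 := by omega
      rw [LinearMap.ker_eq_bot.2 (h2 (by omega))]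
      exact bot_le
  · intro h
    refine ⟨fun i hi => le_antisymm ?_ ?_, fun he => ?_⟩
    · have := h i (show i < e by omega)
      simpa only [U, if_pos hi, Set.mem_ofPred_eq] using this
    · rintro _ ⟨x, rfl⟩
      rw [LinearMap.mem_ker, Matrix.mulVecLin_apply, Matrix.mulVecLin_apply, Matrix.mulVec_mulVec, ← Matrix.map_mul,
        hφ i hi, Matrix.map_zero _ (map_zero f), Matrix.zero_mulVec]
    · have := h (e - 1) (show e - 1 < e by omega)
      simp only [U, if_neg (show ¬ e - 1 + 2 ≤ e by omega), Set.mem_ofPred_eq] at this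
      rw [← LinearMap.ker_eq_bot, eq_bot_iff]
      refine this.trans ?_
      rintro _ ⟨x, rfl⟩
      simp [Matrix.map_zero _ (map_zero f)]

end Groth.Agent.S9184
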