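import Groth.Statements.S9195
import Groth.Agent.ConsPropLib.Cores
import Groth.Agent.FibDim.RelDim
import Groth.Agent.FibDim.Semicont

set_option autoImplicit false
universe u
open CategoryTheory AlgebraicGeometry
open Lim

namespace Groth.Agent.S9195

/-- Let S = lim S_i be a cofiltered limit of schemes with affine transition morphisms, S_{i₀} a
quasi-compact quasi-separated stage, f₀ : X₀ → Y₀ a morphism of quasi-compact quasi-separated
schemes over S_{i₀}, and f : X → Y its base change along S → S_{i₀} (base changes expressed by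
pullback squares). Let d be a natural number. If f₀ is locally of finite type and f has relative
dimension at most d (every fibre of f has local dimension at most d at each of its points), then for
some index i over i₀ the base change f_i : X_i → Y_i of f₀ along S_i → S_{i₀} has relative dimension
at most d. -/
theorem result {I : Type u} [SmallCategory I] [IsCofiltered I]
    (D : I ⥤ Scheme.{u}) (c : Limits.Cone D) (hc : Limits.IsLimit c)
    [∀ (i j : I) (f : i ⟶ j), IsAffineHom (D.map f)] (i₀ : I) [CompactSpace (D.obj i₀)]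
    [QuasiSeparatedSpace (D.obj i₀)] {X₀ Y₀ : Scheme.{u}} (f₀ : X₀ ⟶ Y₀) (g₀ : Y₀ ⟶ D.obj i₀)
    [CompactSpace X₀] [QuasiSeparatedSpace X₀] [CompactSpace Y₀] [QuasiSeparatedSpace Y₀]
    [LocallyOfFiniteType f₀] (d : ℕ)
    {X Y : Scheme.{u}} (f : X ⟶ Y) (g : Y ⟶ c.pt) (qY : Y ⟶ Y₀) (qX : X ⟶ X₀)
    (hY : IsPullback qY g g₀ (c.π.app i₀)) (hX : IsPullback qX f f₀ qY) (hd : ∀ x : X, FlatMor.fibreDimAt f x ≤ d) :
    ∃ (i : I) (φ : i ⟶ i₀) (Xi Yi : Scheme.{u}) (fi : Xi ⟶ Yi) (gi : Yi ⟶ D.obj i) (pY : Yi ⟶ Y₀)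
      (pX : Xi ⟶ X₀), IsPullback pY gi g₀ (D.map φ) ∧ IsPullback pX fi f₀ pY ∧ ∀ x : Xi, FlatMor.fibreDimAt fi x ≤ d := by
  haveI : ∀ {i j : I} (f : i ⟶ j), IsAffineHom (D.map f) := fun {i j} f => inferInstance
  haveI : LocallyOfFiniteType f := MorphismProperty.of_isPullback hX ‹_›
  have hopen := Groth.Agent.FibDim.isOpen_fibreDimAt_le f₀ d
  have sq : IsPullback qX (f ≫ g) (f₀ ≫ g₀) (c.π.app i₀) := hX.paste_vert hY
  obtain ⟨j, φ, hj⟩ := Groth.Agent.ConsPropLib.exists_stage_subset hc (f₀ ≫ g₀) sq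
    (Groth.Agent.MorLib.LimCons.ind_of_isOpen hopen) fun x => by
      show FlatMor.fibreDimAt f₀ (qX x) ≤ _
      rw [← Groth.Agent.FibDim.fibreDimAt_baseChange hX x]
      exact hd x
  let pY := Limits.pullback.fst g₀ (D.map φ)
  let pX := Limits.pullback.fst f₀ pY
  have hYi : IsPullback pY (Limits.pullback.snd g₀ (D.map φ)) g₀ (D.map φ) := IsPullback.of_hasPullback _ _
  have hXi : IsPullback pX (Limits.pullback.snd f₀ pY) f₀ pY := IsPullback.of_hasPullback _ _
  haveI : LocallyOfFiniteType (Limits.pullback.snd f₀ pY) := MorphismProperty.of_isPullback hXi ‹_›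
  refine ⟨j, φ, _, _, Limits.pullback.snd f₀ pY, _, pY, pX, hYi, hXi, fun x => ?_⟩
  rw [Groth.Agent.FibDim.fibreDimAt_baseChange hXi x]
  have hp := hXi.paste_vert hYi
  have h2 : pX x = Limits.pullback.fst (f₀ ≫ g₀) (D.map φ) (hp.isoPullback.hom x) := by
    rw [← Scheme.Hom.comp_apply, hp.isoPullback_hom_fst]
  rw [h2]
  exact hj _

end Groth.Agent.S9195
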