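import Groth.Statements.S9214
import Groth.Agent.AlgGlue.Models
import Groth.Agent.MorLib.EventuallyCI

set_option backward.isDefEq.respectTransparency false

set_option autoImplicit false
set_option linter.style.haveILetI false
set_option backward.isDefEq.respectTransparency false
set_option backward.isDefEq.respectTransparency.types false
universe u
open CategoryTheory CategoryTheory.Limits AlgebraicGeometry
open Lim

namespace Groth.Agent.S9214

/-- Let S = lim S_i be a cofiltered limit of Noetherian schemes with affine transition morphisms, and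
suppose X → S is of finite type and quasi-separated. One can then find an index i, a finite type
morphism W → S_i and a morphism X → W over S_i (compatible with X → S → S_i) for which the resulting
map X → S ×_{S_i} W into the fibre product is a closed immersion. -/
theorem result {I : Type u} [SmallCategory I] [IsCofiltered I]
    (D : I ⥤ Scheme.{u}) (c : Limits.Cone D) (hc : Limits.IsLimit c)
    [∀ (i j : I) (f : i ⟶ j), IsAffineHom (D.map f)] [∀ i, IsNoetherian (D.obj i)]
    {X : Scheme.{u}} (a : X ⟶ c.pt) [QuasiSeparated a] [QuasiCompact a] [LocallyOfFiniteType a] :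
    ∃ (i : I) (W : Scheme.{u}) (w : W ⟶ D.obj i) (b : X ⟶ W) (hb : a ≫ c.π.app i = b ≫ w),
      LocallyOfFiniteType w ∧ QuasiCompact w ∧ IsClosedImmersion (pullback.lift a b hb) := by
  haveI : ∀ {i j : I} (f : i ⟶ j), IsAffineHom (D.map f) := fun {i j} f => inferInstance
  let i₀ : I := IsCofiltered.nonempty.some
  haveI : IsAffineHom (c.π.app i₀) := isAffineHom_π_app D c hc i₀
  haveI : CompactSpace c.pt := QuasiCompact.compactSpace_of_compactSpace (c.π.app i₀)
  haveI : QuasiSeparatedSpace c.pt := quasiSeparatedSpace_of_quasiSeparated (c.π.app i₀)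
  haveI : CompactSpace X := QuasiCompact.compactSpace_of_compactSpace a
  haveI : QuasiSeparatedSpace X := quasiSeparatedSpace_of_quasiSeparated a
  let ρ : c.pt ⟶ D.obj i₀ := c.π.app i₀
  obtain ⟨J, hJ, hdir, hne, E, t, π, hw, hlim, hπt, hfp, haffE, -⟩ :=
    Groth.Agent.AlgGlue.exists_fp_system (a ≫ ρ)
  haveI : ∀ {j k : Jᵒᵖ} (g : j ⟶ k), IsAffineHom (E.map g) := fun g => haffE g
  let P : Jᵒᵖ ⥤ Scheme.{u} :=
    { obj := fun j => Limits.pullback (t.app j) ρ
      map := fun {j k} g => Limits.pullback.lift (Limits.pullback.fst (t.app j) ρ ≫ E.map g)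
        (Limits.pullback.snd (t.app j) ρ) (by
          rw [Category.assoc, t.naturality]
          exact (congrArg (_ ≫ ·) (Category.comp_id _)).trans Limits.pullback.condition)
      map_id := fun j => Limits.pullback.hom_ext (by simp) (by simp)
      map_comp := fun g g' => Limits.pullback.hom_ext (by simp) (by simp) }
  haveI : ∀ {j k : Jᵒᵖ} (g : j ⟶ k), IsAffineHom (P.map g) := fun {j k} g => by
    have hfst : P.map g ≫ Limits.pullback.fst (t.app k) ρ = Limits.pullback.fst (t.app j) ρ ≫ E.map g :=
      Limits.pullback.lift_fst _ _ _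
    haveI : IsAffineHom (Limits.pullback.fst (t.app k) ρ) :=
      MorphismProperty.pullback_fst (P := @IsAffineHom) _ _ inferInstance
    haveI : IsAffineHom (Limits.pullback.fst (t.app j) ρ) :=
      MorphismProperty.pullback_fst (P := @IsAffineHom) _ _ inferInstance
    haveI : IsAffineHom (P.map g ≫ Limits.pullback.fst (t.app k) ρ) := by
      rw [hfst]; exact MorphismProperty.comp_mem _ _ _ inferInstance inferInstance
    exact IsAffineHom.of_comp _ (Limits.pullback.fst (t.app k) ρ)
  let pr : ∀ j, Limits.pullback (a ≫ ρ) ρ ⟶ P.obj j := fun j =>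
    Limits.pullback.lift (Limits.pullback.fst _ _ ≫ π j) (Limits.pullback.snd _ _)
      (by rw [Category.assoc, hπt]; exact Limits.pullback.condition)
  let cP : Limits.Cone P :=
    { pt := Limits.pullback (a ≫ ρ) ρ
      π :=
        { app := pr
          naturality := fun j k g => by
            refine (Category.id_comp _).trans (Limits.pullback.hom_ext ?_ ?_)
            · simp only [pr, P, Category.assoc, Limits.pullback.lift_fst,
                Limits.pullback.lift_fst_assoc, hw]
            · simp [pr, P] } }
  obtain ⟨e₀⟩ : Nonempty Jᵒᵖ := ⟨Opposite.op hne.some⟩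
  have hcomm : ∀ (s : Limits.Cone P) (j : Jᵒᵖ),
      s.π.app j ≫ Limits.pullback.snd (t.app j) ρ = s.π.app e₀ ≫ Limits.pullback.snd (t.app e₀) ρ := by
    intro s j
    obtain ⟨m, g, g', -⟩ := IsCofilteredOrEmpty.cone_objs j e₀
    rw [← s.w g, ← s.w g', Category.assoc, Category.assoc]
    simp [P]
  let sE : Limits.Cone P → Limits.Cone E := fun s =>
    { pt := s.pt
      π :=
        { app := fun j => s.π.app j ≫ Limits.pullback.fst (t.app j) ρ
          naturality := fun j k g => by
            refine (Category.id_comp _).trans ?_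
            rw [← s.w g]
            simp [P] } }
  have hl : ∀ s, hlim.lift (sE s) ≫ a ≫ ρ = (s.π.app e₀ ≫ Limits.pullback.snd (t.app e₀) ρ) ≫ ρ := by
    intro s
    rw [← hπt e₀, ← Category.assoc, Category.assoc (s.π.app e₀), ← Limits.pullback.condition]
    have := hlim.fac (sE s) e₀
    refine (congrArg (· ≫ t.app e₀) this).trans ?_
    exact Category.assoc _ _ _
  let hcP : Limits.IsLimit cP :=
    { lift := fun s => Limits.pullback.lift (hlim.lift (sE s)) _ (hl s)
      fac := fun s j => by
        refine Limits.pullback.hom_ext ?_ ?_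
        · simp only [cP, pr, Category.assoc, Limits.pullback.lift_fst,
            Limits.pullback.lift_fst_assoc]
          exact hlim.fac (sE s) j
        · simp only [cP, pr, Category.assoc, Limits.pullback.lift_snd]
          exact (hcomm s j).symm
      uniq := fun s m hm => by
        refine Limits.pullback.hom_ext ?_ ?_
        · rw [Limits.pullback.lift_fst]
          refine hlim.uniq (sE s) _ fun j => ?_
          show (m ≫ Limits.pullback.fst (a ≫ ρ) ρ) ≫ π j = s.π.app j ≫ Limits.pullback.fst (t.app j) ρ
          rw [← hm j]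
          simp [cP, pr]
        · rw [Limits.pullback.lift_snd, ← hm e₀]
          simp [cP, pr] }
  let h : X ⟶ cP.pt := Limits.pullback.lift (𝟙 X) a (Category.id_comp _)
  haveI : IsClosedImmersion h := by
    have hfst : h ≫ Limits.pullback.fst (a ≫ ρ) ρ = 𝟙 X := Limits.pullback.lift_fst _ _ _
    haveI : IsSeparated (Limits.pullback.fst (a ≫ ρ) ρ) :=
      MorphismProperty.pullback_fst (P := @IsSeparated) _ _ inferInstance
    haveI : IsClosedImmersion (h ≫ Limits.pullback.fst (a ≫ ρ) ρ) := by rw [hfst]; infer_instance
    exact IsClosedImmersion.of_comp h (Limits.pullback.fst (a ≫ ρ) ρ)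
  haveI : CompactSpace (P.obj e₀) := by
    haveI := (hfp e₀).2.1
    exact QuasiCompact.compactSpace_of_compactSpace (Limits.pullback.snd (t.app e₀) ρ)
  haveI : LocallyOfFiniteType (h ≫ cP.π.app e₀ ≫ Limits.pullback.snd (t.app e₀) ρ) := by
    have e : h ≫ cP.π.app e₀ ≫ Limits.pullback.snd (t.app e₀) ρ = a := by simp [h, cP, pr]
    rw [e]; infer_instance
  obtain ⟨j, hj⟩ := Groth.Agent.MorLib.EvCI.exists_isClosedImmersion hcP e₀
    (Limits.pullback.snd (t.app e₀) ρ) h
  haveI := (hfp j.left).1
  refine ⟨i₀, E.obj j.left, t.app j.left, π j.left, (hπt _).symm, inferInstance, (hfp _).2.1, ?_⟩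
  have hk := hj j (𝟙 j)
  have e1 : h ≫ cP.π.app j.left = Limits.pullback.lift (π j.left) a (hπt _) :=
    Limits.pullback.hom_ext (by simp [h, cP, pr]; exact Category.id_comp _) (by simp [h, cP, pr])
  rw [e1] at hk
  have e2 : Limits.pullback.lift a (π j.left) (hπt j.left).symm =
      Limits.pullback.lift (π j.left) a (hπt _) ≫ (Limits.pullbackSymmetry (t.app j.left) ρ).hom :=
    Limits.pullback.hom_ext (by simp) (by simp)
  show IsClosedImmersion (Limits.pullback.lift a (π j.left) (hπt j.left).symm)
  rw [e2]
  infer_instance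

end Groth.Agent.S9214
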