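import Groth.Statements.S9227
import Groth.Agent.RegLoc6.Basic
import Mathlib

set_option autoImplicit false
universe u
open CAlg

namespace Groth.Agent.S9227

/-- Let R be a regular ring, f an element of R and D a derivation of R with D(f) a unit of R. Then for
every polynomial p with integer coefficients the ring R[z]/(p(z) - f) is regular; in particular
R[z]/(z^n - f) is regular for every n ≥ 1. -/
theorem result (R : Type u) [CommRing R]
    [IsRegularRing R] (f : R) (D : Derivation ℤ R R) (hD : IsUnit (D f)) (p : Polynomial ℤ) :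
    IsRegularRing (Polynomial R ⧸
      Ideal.span ({Polynomial.map (Int.castRingHom R) p - Polynomial.C f} : Set (Polynomial R))) := by
  classical
  let P : Polynomial R := Polynomial.map (Int.castRingHom R) p - Polynomial.C f
  let I : Ideal (Polynomial R) := Ideal.span {P}
  show IsRegularRing (Polynomial R ⧸ I)
  let E : Derivation ℤ (Polynomial R) (Polynomial R) :=
    ((PolynomialModule.equivPolynomialSelf (R := R)).toLinearMap).compDer D.mapCoeffs
  have hco : ∀ (x : Polynomial R) (i : ℕ), (E x).coeff i = D (x.coeff i) := by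
    intro x i
    exact Derivation.mapCoeffs_apply D x i
  have hEP : IsUnit (E P) := by
    have : E P = -Polynomial.C (D f) := by
      refine Polynomial.ext fun i => ?_
      rw [hco, Polynomial.coeff_neg, Polynomial.coeff_sub, map_sub, Polynomial.coeff_map,
        Polynomial.coeff_C, Polynomial.coeff_C]
      have h0 : D (Int.castRingHom R (p.coeff i)) = 0 := D.map_algebraMap _
      rw [h0, apply_ite D, map_zero, zero_sub]
    rw [this]
    exact (hD.map Polynomial.C).neg
  refine isRegularRing_iff.2 fun q' hq' => ?_
  let q : Ideal (Polynomial R) := q'.comap (Ideal.Quotient.mk I)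
  haveI : q.IsPrime := Ideal.IsPrime.comap _
  have hIq : I ≤ q := fun x hx => by
    show Ideal.Quotient.mk I x ∈ q'
    rw [Ideal.Quotient.eq_zero_iff_mem.2 hx]
    exact q'.zero_mem
  let S := Localization.AtPrime q
  haveI : IsRegularLocalRing S := (isRegularRing_iff (R := Polynomial R)).1 inferInstance q
  let x : S := algebraMap (Polynomial R) S P
  have hxm : x ∈ IsLocalRing.maximalIdeal S :=
    (IsLocalization.AtPrime.to_map_mem_maximal_iff S q P).2 (hIq (Ideal.mem_span_singleton_self P))
  have hx2 : x ∉ IsLocalRing.maximalIdeal S ^ 2 := by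
    rw [← Localization.AtPrime.map_eq_maximalIdeal, ← Ideal.map_pow,
      IsLocalization.algebraMap_mem_map_algebraMap_iff q.primeCompl]
    rintro ⟨s, hs, hsP⟩
    have h1 : ∀ y ∈ q ^ 2, E y ∈ q := by
      intro y hy
      rw [pow_two] at hy
      induction hy using Submodule.mul_induction_on' with
      | mem_mul_mem a ha b hb =>
        rw [Derivation.leibniz, smul_eq_mul, smul_eq_mul]
        exact q.add_mem (Ideal.mul_mem_right _ _ ha) (Ideal.mul_mem_right _ _ hb)
      | add a _ b _ ha hb => rw [map_add]; exact q.add_mem ha hb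
    have h2 := h1 _ hsP
    rw [Derivation.leibniz, smul_eq_mul, smul_eq_mul,
      Ideal.add_mem_iff_left _ (Ideal.mul_mem_right _ _ (hIq (Ideal.mem_span_singleton_self P)))] at h2
    exact hs ((Ideal.mul_unit_mem_iff_mem q hEP).1 h2)
  haveI := Groth.Agent.RegLoc6.isLocalRing_quot hxm
  haveI hreg : IsRegularLocalRing (S ⧸ I.map (algebraMap (Polynomial R) S)) := by
    rw [Ideal.map_span, Set.image_singleton]
    exact (Groth.Agent.RegLoc6.isRegularLocalRing_quot_and hxm hx2).1
  have hsub : Algebra.algebraMapSubmonoid (Polynomial R ⧸ I) q.primeCompl = q'.primeCompl := by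
    ext z
    constructor
    · rintro ⟨y, hy, rfl⟩
      exact hy
    · intro hz
      obtain ⟨y, rfl⟩ := Ideal.Quotient.mk_surjective z
      exact ⟨y, hz, rfl⟩
  haveI : IsLocalization q'.primeCompl (S ⧸ I.map (algebraMap (Polynomial R) S)) := hsub ▸ inferInstance
  exact @IsRegularLocalRing.of_ringEquiv (S ⧸ I.map (algebraMap (Polynomial R) S)) _ hreg _ _
    (IsLocalization.algEquiv q'.primeCompl (S ⧸ I.map (algebraMap (Polynomial R) S)) (Localization.AtPrime q')).toRingEquiv

end Groth.Agent.S9227
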