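import Groth.Statements.S9232
import Mathlib.RingTheory.AdicCompletion.LocalRing
import Mathlib.RingTheory.Flat.FaithfullyFlat.Algebra

set_option autoImplicit false
universe u
open CAlg

namespace Groth.Agent.S9232

/-- Suppose A → B is a flat local ring map between Noetherian local rings, the maximal ideal of A
generates that of B, and the residue field map is bijective. Then the induced map between the
completions of A and B (a ring map of the completions compatible with A → B; it is unique since A is
Noetherian) is an isomorphism. -/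
theorem result (A B : Type u) [CommRing A]
    [CommRing B] [IsLocalRing A] [IsLocalRing B] [IsNoetherianRing A] [IsNoetherianRing B]
    [Algebra A B] [IsLocalHom (algebraMap A B)] [Module.Flat A B]
    (hm : Ideal.map (algebraMap A B) (IsLocalRing.maximalIdeal A) = IsLocalRing.maximalIdeal B)
    (hk : Function.Bijective (IsLocalRing.ResidueField.map (algebraMap A B)))
    (ψ : AdicCompletion (IsLocalRing.maximalIdeal A) A →+* AdicCompletion (IsLocalRing.maximalIdeal B) B)
    (hψ : ψ.comp (algebraMap A (AdicCompletion (IsLocalRing.maximalIdeal A) A)) =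
      (algebraMap B (AdicCompletion (IsLocalRing.maximalIdeal B) B)).comp (algebraMap A B)) :
    Function.Bijective ψ := by
  classical
  haveI : Module.FaithfullyFlat A B := Module.FaithfullyFlat.of_flat_of_isLocalHom
  let I := IsLocalRing.maximalIdeal A
  let J := IsLocalRing.maximalIdeal B
  let α := algebraMap A B
  have hJ : ∀ n, J ^ n = (I ^ n).map α := fun n => by rw [Ideal.map_pow]; exact congrArg (· ^ n) hm.symm
  have inj : ∀ n a, α a ∈ J ^ n → a ∈ I ^ n := fun n a ha => by
    rw [hJ n, ← Ideal.mem_comap, Ideal.comap_map_eq_self_of_faithfullyFlat] at ha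
    exact ha
  have surj1 : ∀ b : B, ∃ a, b - α a ∈ J := by
    intro b
    obtain ⟨q, hq⟩ := hk.2 (IsLocalRing.residue B b)
    obtain ⟨a, rfl⟩ := IsLocalRing.residue_surjective q
    refine ⟨a, ?_⟩
    rw [← IsLocalRing.residue_eq_zero_iff, map_sub, ← hq, IsLocalRing.ResidueField.map_residue]
    exact sub_self _
  have surj : ∀ n (b : B), ∃ a, b - α a ∈ J ^ n := by
    intro n
    induction n with
    | zero => exact fun b => ⟨0, by simp⟩
    | succ n ih =>
      intro b
      obtain ⟨a, ha⟩ := ih b
      suffices h : ∀ z ∈ J ^ n, ∃ c, z - α c ∈ J ^ (n + 1) by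
        obtain ⟨c, hc⟩ := h _ ha
        exact ⟨a + c, by rw [map_add, ← sub_sub]; exact hc⟩
      intro z hz
      rw [hJ n, Ideal.map] at hz
      induction hz using Submodule.span_induction with
      | mem x hx =>
        obtain ⟨c, hc, rfl⟩ := hx
        exact ⟨c, by rw [sub_self]; exact zero_mem _⟩
      | zero => exact ⟨0, by simp⟩
      | add x y _ _ hx hy =>
        obtain ⟨c, hc⟩ := hx
        obtain ⟨d, hd⟩ := hy
        refine ⟨c + d, ?_⟩
        have := add_mem hc hd
        rwa [map_add, add_sub_add_comm]
      | smul r x hx hx' =>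
        obtain ⟨c, hc⟩ := hx'
        obtain ⟨s, hs⟩ := surj1 r
        refine ⟨s * c, ?_⟩
        have hx2 : x ∈ J ^ n := by rw [hJ n]; exact hx
        have h1 : (r - α s) * x ∈ J ^ (n + 1) := by
          rw [pow_succ']; exact Ideal.mul_mem_mul hs hx2
        have h2 := add_mem h1 (Ideal.mul_mem_left _ (α s) hc)
        convert h2 using 1
        rw [map_mul, smul_eq_mul]; ring
  have key : ∀ n (x : AdicCompletion I A) (a : A), AdicCompletion.evalₐ I n x = Ideal.Quotient.mk _ a →
      AdicCompletion.evalₐ J n (ψ x) = Ideal.Quotient.mk _ (α a) := by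
    intro n x a hxa
    have h1 : x - algebraMap A (AdicCompletion I A) a ∈ (I ^ n).map (algebraMap A (AdicCompletion I A)) := by
      rw [← Submodule.restrictScalars_mem A, ← Ideal.smul_top_eq_map,
        AdicCompletion.pow_smul_top_eq_ker_eval I.fg_of_isNoetherianRing, LinearMap.mem_ker]
      have h0 : AdicCompletion.evalₐ I n (x - algebraMap A (AdicCompletion I A) a) = 0 := by
        rw [map_sub, hxa, AlgHom.commutes]; exact sub_self _
      rw [← AdicCompletion.factor_evalₐ_eq_eval (I := I) _ (by simp), h0, map_zero]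
    have h2 := Ideal.mem_map_of_mem ψ h1
    rw [Ideal.map_map, hψ, ← Ideal.map_map] at h2
    have h3 := Ideal.mem_map_of_mem (AdicCompletion.evalₐ J n).toRingHom h2
    rw [Ideal.map_map, AlgHom.toRingHom_eq_coe, AlgHom.comp_algebraMap, ← hJ n] at h3
    have h4 : (J ^ n).map (algebraMap B (B ⧸ J ^ n)) = ⊥ := Ideal.map_quotient_self _
    rw [h4, Ideal.mem_bot] at h3
    change AdicCompletion.evalₐ J n (ψ (x - _)) = 0 at h3
    rw [map_sub, map_sub, sub_eq_zero] at h3
    rw [h3]
    have := RingHom.congr_fun hψ a
    simp only [RingHom.comp_apply] at this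
    rw [this, AlgHom.commutes]
    rfl
  constructor
  · rw [injective_iff_map_eq_zero]
    intro x hx
    apply AdicCompletion.ext_evalₐ
    intro n
    obtain ⟨a, ha⟩ := Ideal.Quotient.mk_surjective (AdicCompletion.evalₐ I n x)
    have := key n x a ha.symm
    rw [hx, map_zero, eq_comm, Ideal.Quotient.eq_zero_iff_mem] at this
    rw [map_zero, ← ha, Ideal.Quotient.eq_zero_iff_mem]
    exact inj n a this
  · intro y
    have : ∀ n, ∃ a : A, AdicCompletion.evalₐ J n y = Ideal.Quotient.mk _ (α a) := fun n => by
      obtain ⟨b, hb⟩ := Ideal.Quotient.mk_surjective (AdicCompletion.evalₐ J n y)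
      obtain ⟨a, ha⟩ := surj n b
      exact ⟨a, hb.symm.trans (Ideal.Quotient.eq.2 ha)⟩
    choose a ha using this
    obtain ⟨f, hf⟩ := AdicCompletion.mk_surjective J B y
    have hc : AdicCompletion.IsAdicCauchy I A a := by
      intro m n hmn
      refine SModEq.sub_mem.2 ?_
      rw [smul_eq_mul, Ideal.mul_top]
      apply inj m
      have e1 : α (a m) - f m ∈ J ^ m := by
        have := ha m
        rw [← hf, AdicCompletion.evalₐ_mk, Ideal.Quotient.eq] at this
        exact neg_mem_iff.1 (by rwa [neg_sub])
      have e2 : α (a n) - f n ∈ J ^ m := by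
        have := ha n
        rw [← hf, AdicCompletion.evalₐ_mk, Ideal.Quotient.eq] at this
        exact Ideal.pow_le_pow_right hmn (neg_mem_iff.1 (by rwa [neg_sub]))
      have e3 : f.1 m - f.1 n ∈ J ^ m := by
        have := SModEq.sub_mem.1 (f.2 hmn)
        rwa [smul_eq_mul, Ideal.mul_top] at this
      rw [map_sub]
      convert add_mem (sub_mem e1 e2) e3 using 1
      ring
    refine ⟨AdicCompletion.mk I A ⟨a, hc⟩, AdicCompletion.ext_evalₐ fun n => ?_⟩
    rw [ha n]
    exact key n _ _ (AdicCompletion.evalₐ_mk _ _ _)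

end Groth.Agent.S9232
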