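import Groth.Statements.S9248
import Groth.Agent.H1PicVal.Basic

set_option autoImplicit false
universe u
open CAlg

namespace Groth.Agent.S9248

/-- Let R be a valuation ring, K its field of fractions and κ its residue field, and let A be a local
ring with a flat, local homomorphism R → A essentially of finite type such that κ ⊗_R A is a regular
ring. Then K ⊗_R A has trivial Picard group. -/
theorem result (R A : Type u) [CommRing R] [IsDomain R]
    [ValuationRing R] [CommRing A] [IsLocalRing A] [Algebra R A] [IsLocalHom (algebraMap R A)]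
    [Module.Flat R A] [Algebra.EssFiniteType R A]
    (hreg : IsRegularRing (TensorProduct R (IsLocalRing.ResidueField R) A)) :
    Subsingleton (CommRing.Pic (TensorProduct R (FractionRing R) A)) := by
  let m := IsLocalRing.maximalIdeal R
  let e₁ : TensorProduct R (IsLocalRing.ResidueField R) A ≃+* A ⧸ m.map (algebraMap R A) :=
    ((Algebra.TensorProduct.comm R (IsLocalRing.ResidueField R) A).toRingEquiv).trans
      (Algebra.TensorProduct.quotIdealMapEquivTensorQuot A m).symm.toRingEquiv
  haveI := hreg
  haveI : IsRegularRing (A ⧸ m.map (algebraMap R A)) := IsRegularRing.of_ringEquiv e₁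
  have hm : m.map (algebraMap R A) ≤ IsLocalRing.maximalIdeal A :=
    ((IsLocalRing.local_hom_TFAE (algebraMap R A)).out 0 2 rfl rfl).mp ‹_›
  haveI : Nontrivial (A ⧸ m.map (algebraMap R A)) := Ideal.Quotient.nontrivial_iff.2 fun h =>
    (IsLocalRing.maximalIdeal.isMaximal A).ne_top (top_le_iff.1 (h ▸ hm))
  haveI : IsLocalRing (A ⧸ m.map (algebraMap R A)) :=
    IsLocalRing.of_surjective' (Ideal.Quotient.mk _) Ideal.Quotient.mk_surjective
  haveI : IsRegularLocalRing (A ⧸ m.map (algebraMap R A)) := IsRegularLocalRing.of_isRegularRing_of_isLocalRing _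
  let S := Algebra.algebraMapSubmonoid A (nonZeroDivisors R)
  haveI := Groth.Agent.H1PicVal.subsingleton_pic A m
  letI : Algebra A (TensorProduct R (FractionRing R) A) := Algebra.TensorProduct.rightAlgebra
  haveI : IsLocalization S (TensorProduct R (FractionRing R) A) :=
    IsLocalization.tensorRight (S := A) (FractionRing R) (nonZeroDivisors R)
  let e : Localization S ≃+* TensorProduct R (FractionRing R) A :=
    (IsLocalization.algEquiv S (Localization S) (TensorProduct R (FractionRing R) A)).toRingEquiv
  refine ⟨fun x y => ?_⟩
  have hc : (e.toRingHom.comp e.symm.toRingHom) = RingHom.id _ := e.toRingHom_comp_symm_toRingHom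
  rw [← CommRing.Pic.mapRingHom_id_apply (M := x), ← CommRing.Pic.mapRingHom_id_apply (M := y), ← hc,
    ← CommRing.Pic.mapRingHom_mapRingHom, ← CommRing.Pic.mapRingHom_mapRingHom]
  exact congrArg _ (Subsingleton.elim _ _)

end Groth.Agent.S9248
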