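import Groth.Statements.S9279
import Groth.Agent.BrnchLib.Punctured

set_option autoImplicit false
universe u
open Brnch

namespace Groth.Agent.S9279

/-- For a Noetherian local ring A with henselization S and completion A^ at its maximal ideal, the
spectrum of A^ with its closed point removed is preconnected exactly when the spectrum of S with its
closed point removed is (the two sets are empty together, namely when A has dimension zero). Stated
as: the complement of the closed point in Spec A^ is preconnected iff the complement of the closed
point in Spec S is. -/
theorem result (A S : Type u) [CommRing A]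
    [IsLocalRing A] [IsNoetherianRing A] [CommRing S] [IsLocalRing S] [Algebra A S]
    [IsLocalHom (algebraMap A S)] [Hensel.IsHenselization A S] :
    IsPreconnected
        ({IsLocalRing.closedPoint (AdicCompletion (IsLocalRing.maximalIdeal A) A)}ᶜ :
          Set (PrimeSpectrum (AdicCompletion (IsLocalRing.maximalIdeal A) A))) ↔
      IsPreconnected ({IsLocalRing.closedPoint S}ᶜ : Set (PrimeSpectrum S)) := by
  haveI := Groth.Agent.FormalFib6.isNoetherianRing_adicCompletion A (IsLocalRing.maximalIdeal A)
  haveI : IsNoetherianRing S :=
    (Groth.Agent.Hensel.isHenzLike_of_isHenselization A S).isNoetherianRing_iff.1 inferInstance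
  haveI : HenselianLocalRing S := Hensel.IsHenselization.henselian A
  haveI := Groth.Agent.BrnchLib.henselianLocalRing_completion A
  obtain ⟨ψ, hψ, -⟩ := Hensel.IsHenselization.universal (R := A) (S := S)
    (AdicCompletion (IsLocalRing.maximalIdeal A) A) (algebraMap A _) inferInstance
  letI := ψ.toAlgebra
  haveI : Module.FaithfullyFlat S (AdicCompletion (IsLocalRing.maximalIdeal A) A) :=
    Groth.Agent.BrnchLib.faithfullyFlat_psi A S ψ hψ
  rw [Groth.Agent.BrnchLib.isPreconnected_punctured_iff, Groth.Agent.BrnchLib.isPreconnected_punctured_iff]
  exact Groth.Agent.BrnchLib.pconn_iff (Groth.Agent.BrnchLib.map_psi_maximalIdeal A S ψ hψ)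
    (Groth.Agent.BrnchLib.psi_dense A S ψ hψ)

end Groth.Agent.S9279
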