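import Groth.Statements.S9306
import Mathlib
import Groth.Agent.TameEt.EssFin

set_option autoImplicit false
universe u
open EtRam

namespace Groth.Agent.S9306

open TensorProduct in
/-- Let A → B be an injective local homomorphism of discrete valuation rings with fraction fields K ⊆ L,
and let K' be a finite separable extension of K that is unramified relative to A. Then every field F
onto which K' ⊗_K L surjects is, as an extension of L, unramified relative to B. (The published
statement also records that K' ⊗_K L is a finite product of fields, whose factors are these F; this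
row does not state that part.) -/
theorem result (A B K L K' : Type u) [CommRing A] [IsDomain A]
    [IsDiscreteValuationRing A] [CommRing B] [IsDomain B] [IsDiscreteValuationRing B] [Algebra A B]
    [IsLocalHom (algebraMap A B)] (hinj : Function.Injective (algebraMap A B))
    [Field K] [Field L] [Field K'] [Algebra A K] [IsFractionRing A K] [Algebra B L] [IsFractionRing B L]
    [Algebra K L] [Algebra A L] [IsScalarTower A K L] [IsScalarTower A B L]
    [Algebra K K'] [FiniteDimensional K K'] [Algebra.IsSeparable K K']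
    (h : EtRam.IsUnramifiedExt A ((algebraMap K K').comp (algebraMap A K)))
    (F : Type u) [Field F] [Algebra (K' ⊗[K] L) F] (hF : Function.Surjective (algebraMap (K' ⊗[K] L) F)) :
    EtRam.IsUnramifiedExt B ((algebraMap (K' ⊗[K] L) F).comp
      ((Algebra.TensorProduct.includeRight : L →ₐ[K] K' ⊗[K] L).toRingHom.comp (algebraMap B L))) := by
  intro W hW
  let algBW : Algebra B W := (RingHom.codRestrict _ W hW.1).toAlgebra
  intro hlocW
  let gA : A →+* K' := (algebraMap K K').comp (algebraMap A K)
  let gB : B →+* F := (algebraMap (K' ⊗[K] L) F).comp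
      ((Algebra.TensorProduct.includeRight : L →ₐ[K] K' ⊗[K] L).toRingHom.comp (algebraMap B L))
  let jL : L →+* F := (algebraMap (K' ⊗[K] L) F).comp
      (Algebra.TensorProduct.includeRight : L →ₐ[K] K' ⊗[K] L).toRingHom
  let j : K' →+* F := (algebraMap (K' ⊗[K] L) F).comp
      (Algebra.TensorProduct.includeLeftRingHom)
  have hcomp : j.comp gA = gB.comp (algebraMap A B) := RingHom.ext fun a => by
    change algebraMap (K' ⊗[K] L) F (algebraMap K K' (algebraMap A K a) ⊗ₜ 1) =
      algebraMap (K' ⊗[K] L) F (1 ⊗ₜ algebraMap B L (algebraMap A B a))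
    rw [Algebra.algebraMap_eq_smul_one (R := K) (A := K'), TensorProduct.smul_tmul,
      ← Algebra.algebraMap_eq_smul_one,
      ← IsScalarTower.algebraMap_apply A K L, ← IsScalarTower.algebraMap_apply A B L]
  let V : ValuationSubring K' := W.comap j
  have hV : EtRam.Dominates A gA V := by
    refine ⟨fun a => ?_, fun a ha => ?_⟩
    · change (j.comp gA) a ∈ W
      rw [hcomp]; exact hW.1 _
    · have h1 : algebraMap A B a ∈ IsLocalRing.maximalIdeal B :=
        fun hu => (IsLocalRing.mem_maximalIdeal a).1 ha (isUnit_of_map_unit _ a hu)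
      have h2 := hW.2 _ h1
      have hm : gA a ∈ V := by
        change (j.comp gA) a ∈ W
        rw [hcomp]; exact hW.1 _
      refine (V.valuation_lt_one_iff ⟨gA a, hm⟩).1 ((IsLocalRing.mem_maximalIdeal _).2 fun hu => ?_)
      have h3 : IsUnit (EtRam.inclOfComap W j ⟨gA a, hm⟩) := hu.map _
      refine (IsLocalRing.mem_maximalIdeal _).1 ((W.valuation_lt_one_iff _).2 ?_) h3
      change W.valuation ((j.comp gA) a) < 1
      rw [hcomp]; exact h2
  let algAV : Algebra A V := (RingHom.codRestrict gA V hV.1).toAlgebra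
  have : IsLocalHom (algebraMap A V) := ⟨fun a hu => by_contra fun ha =>
    (IsLocalRing.mem_maximalIdeal _).1
      ((V.valuation_lt_one_iff ⟨gA a, hV.1 a⟩).2 (hV.2 a ha)) hu⟩
  obtain ⟨hweak, hsep⟩ := h V hV
  have : Algebra.IsSeparable (IsLocalRing.ResidueField A) (IsLocalRing.ResidueField V) := hsep
  have : Algebra.EssFiniteType A V := Groth.Agent.TameEt.essFiniteType_of_dominates A K gA rfl V hV
  have : Algebra.FormallyUnramified A V := Algebra.FormallyUnramified.of_map_maximalIdeal hweak
  have : IsNoetherianRing (B ⊗[A] V) := Algebra.EssFiniteType.isNoetherianRing B _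
  let : Algebra A F := (gB.comp (algebraMap A B)).toAlgebra
  let fB : B →ₐ[A] F := { gB with commutes' := fun a => rfl }
  let fV : V →ₐ[A] F := { j.comp V.subtype with commutes' := fun a => DFunLike.congr_fun hcomp a }
  let φ : B ⊗[A] V →ₐ[A] F := Algebra.TensorProduct.lift fB fV fun _ _ => Commute.all _ _
  have hφ : φ.toRingHom.comp (algebraMap B (B ⊗[A] V)) = gB := RingHom.ext fun b => by
    change φ (b ⊗ₜ 1) = _
    rw [Algebra.TensorProduct.lift_tmul, map_one, mul_one]
    rfl
  have hjL : Function.Injective jL := jL.injective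
  have hginj : Function.Injective gB := hjL.comp (IsFractionRing.injective B L)
  let S : Set F := {v | ∃ b b', φ b' ≠ 0 ∧ v * φ b' = φ b}
  have hb : ∀ b, φ b ∈ S := fun b => ⟨b, 1, by rw [map_one]; exact one_ne_zero, by rw [map_one, mul_one]⟩
  have hadd : ∀ v w, v ∈ S → w ∈ S → v + w ∈ S := by
    rintro v w ⟨a, a', ha', ha⟩ ⟨b, b', hb', hb⟩
    refine ⟨a * b' + b * a', a' * b', by rw [map_mul]; exact mul_ne_zero ha' hb', ?_⟩
    rw [map_add, map_mul, map_mul, map_mul, ← ha, ← hb]; ring
  have hmul : ∀ v w, v ∈ S → w ∈ S → v * w ∈ S := by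
    rintro v w ⟨a, a', ha', ha⟩ ⟨b, b', hb', hb⟩
    refine ⟨a * b, a' * b', by rw [map_mul]; exact mul_ne_zero ha' hb', ?_⟩
    rw [map_mul, map_mul, ← ha, ← hb]; ring
  have hinv : ∀ v, v ∈ S → v⁻¹ ∈ S := by
    rintro v ⟨a, a', ha', ha⟩
    by_cases hv : v = 0
    · rw [hv, inv_zero]; simpa using hb 0
    refine ⟨a', a, ha ▸ mul_ne_zero hv ha', ?_⟩
    rw [← ha, inv_mul_cancel_left₀ hv]
  have hjS : ∀ x, j x ∈ S := by
    intro x
    rcases V.mem_or_inv_mem x with hx | hx
    · have := hb (1 ⊗ₜ (⟨x, hx⟩ : V))
      rwa [Algebra.TensorProduct.lift_tmul, map_one, one_mul] at this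
    · have := hinv _ (hb (1 ⊗ₜ (⟨x⁻¹, hx⟩ : V)))
      rw [Algebra.TensorProduct.lift_tmul, map_one, one_mul] at this
      simpa [fV, map_inv₀] using this
  have hgS : ∀ b, gB b ∈ S := fun b => by
    rw [← hφ]; exact hb (algebraMap B (B ⊗[A] V) b)
  have hLS : ∀ y, jL y ∈ S := by
    intro y
    obtain ⟨b, b', -, rfl⟩ := IsFractionRing.div_surjective B y
    rw [map_div₀, div_eq_mul_inv]
    exact hmul _ _ (hgS b) (hinv _ (hgS b'))
  have hgen : ∀ v, v ∈ S := by
    intro v
    obtain ⟨t, rfl⟩ := hF v
    induction t using TensorProduct.induction_on with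
    | zero => rw [map_zero]; simpa using hb 0
    | tmul x y =>
      rw [← mul_one x, ← one_mul y, ← Algebra.TensorProduct.tmul_mul_tmul, map_mul]
      exact hmul _ _ (hjS x) (hLS y)
    | add a b ha hb => rw [map_add]; exact hadd _ _ ha hb
  have hmem : ∀ t, φ t ∈ W := by
    intro t
    induction t using TensorProduct.induction_on with
    | zero => rw [map_zero]; exact W.zero_mem
    | tmul x y =>
      rw [Algebra.TensorProduct.lift_tmul]
      exact W.mul_mem _ _ (hW.1 x) y.2
    | add a b ha hb => rw [map_add]; exact W.add_mem _ _ ha hb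
  obtain ⟨h1, h2, -⟩ := Groth.Agent.TameEt.unramified_at_of_essFiniteType gB hginj φ.toRingHom hφ
    hgen W hW hmem
  exact ⟨h1, h2⟩

end Groth.Agent.S9306
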