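import Groth.Statements.S9312
import Groth.Agent.H1GalNorm.Basic

set_option autoImplicit false
universe u
open CAlg

namespace Groth.Agent.S9312

/-- Let a finite group G with n elements act on a ring R by ring automorphisms, with invariant ring R^G,
and let A be an algebra over R^G; G acts on A ⊗ R through the factor R. (1) For every G-invariant b
∈ A ⊗ R there is a monic polynomial over A whose image in (A ⊗ R)[T] is (T - b)^n. (2) For every a
in the kernel of A → A ⊗ R, all coefficients of (T - a)^n below degree n vanish, that is (T - a)^n =
T^n in A[T]. -/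
theorem result (R G A : Type u) [CommRing R] [Group G] [Fintype G]
    [MulSemiringAction G R] [CommRing A] [Algebra (FixedPoints.subring R G) A] :
    (∀ b : TensorProduct (FixedPoints.subring R G) A R,
      (∀ σ : G, Algebra.TensorProduct.map (AlgHom.id (FixedPoints.subring R G) A)
        (MulSemiringAction.toAlgHom (FixedPoints.subring R G) R σ) b = b) →
      ∃ P : Polynomial A, P.Monic ∧
        Polynomial.map (algebraMap A (TensorProduct (FixedPoints.subring R G) A R)) P =
          (Polynomial.X - Polynomial.C b) ^ Fintype.card G) ∧
    (∀ a : A, algebraMap A (TensorProduct (FixedPoints.subring R G) A R) a = 0 →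
      ∀ i : ℕ, i < Fintype.card G → ((Polynomial.X - Polynomial.C a) ^ Fintype.card G).coeff i = 0) := by
  have hinj : Function.Injective (algebraMap (FixedPoints.subring R G) R) := Subtype.val_injective
  have hfix : ∀ x : R, (∀ g : G, g • x = x) → x ∈ Set.range (algebraMap (FixedPoints.subring R G) R) :=
    fun x hx => ⟨⟨x, hx⟩, rfl⟩
  refine ⟨fun b hb => H1GalNorm.exists_poly hinj hfix b hb, fun a ha i hi => ?_⟩
  rw [H1GalNorm.pow_eq hinj hfix a ha, Polynomial.coeff_X_pow, if_neg hi.ne]

end Groth.Agent.S9312
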