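import Groth.Statements.S9325
import Mathlib

set_option autoImplicit false
universe u
open CAlg

namespace Groth.Agent.S9325

/-- Let `A` be a ring and `I ⊆ J` ideals of `A` such that the ideal `J/I` of `A/I` is `H_1`-regular: for
every prime `𝔮` of `A/I` containing `J/I` there is `g ∉ 𝔮` such that the extension of `J/I` to
`(A/I)_g` is generated by an `H_1`-regular sequence (a finite sequence all of whose linear relations
are combinations of the trivial ones). Then `I ∩ J² = I J`. -/
theorem result {A : Type u} [CommRing A] (I J : Ideal A)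
    (hIJ : I ≤ J)
    (h : ∀ (𝔮 : Ideal (A ⧸ I)) [𝔮.IsPrime], J.map (Ideal.Quotient.mk I) ≤ 𝔮 →
      ∃ g : A ⧸ I, g ∉ 𝔮 ∧ ∃ (c : ℕ) (f : Fin c → Localization.Away g),
        CAlgX.IsH1Regular f ∧
          Ideal.span (Set.range f) =
            (J.map (Ideal.Quotient.mk I)).map (algebraMap (A ⧸ I) (Localization.Away g))) :
    I ⊓ J ^ 2 = I * J := by
  classical
  refine le_antisymm (fun x hx => ?_) (le_inf Ideal.mul_le_left ?_)
  swap
  · rw [pow_two]; exact Ideal.mul_mono_left hIJ
  by_contra hxn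
  obtain ⟨P, hP, hle⟩ := Ideal.exists_le_maximal (Submodule.colon (I * J) ({x} : Set A))
    (by rw [Ideal.ne_top_iff_one, Submodule.mem_colon_singleton, one_smul]; exact hxn)
  have hkill : ∀ r : A, r * x ∈ I * J → r ∈ P := fun r hr => hle (Submodule.mem_colon_singleton.2 hr)
  have hJP : J ≤ P := fun j hj => hkill j (by rw [mul_comm j x]; exact Ideal.mul_mem_mul hx.1 hj)
  haveI := hP.isPrime
  haveI : (P.map (Ideal.Quotient.mk I)).IsPrime :=
    Ideal.map_isPrime_of_surjective Ideal.Quotient.mk_surjective (by rw [Ideal.mk_ker]; exact hIJ.trans hJP)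
  obtain ⟨g, hg, c, f, hf, hspan⟩ := h (P.map (Ideal.Quotient.mk I)) (Ideal.map_mono hJP)
  obtain ⟨g, rfl⟩ := Ideal.Quotient.mk_surjective g
  have hgP : g ∉ P := fun hh => hg (Ideal.mem_map_of_mem _ hh)
  let A' := Localization.Away g
  let B' := Localization.Away (Ideal.Quotient.mk I g)
  let π : A' →+* B' := IsLocalization.map B' (Ideal.Quotient.mk I)
    (M := Submonoid.powers g) (T := Submonoid.powers (Ideal.Quotient.mk I g))
    (by rintro _ ⟨n, rfl⟩; exact ⟨n, (map_pow _ _ _).symm⟩)
  have hker : RingHom.ker π = I.map (algebraMap A A') :=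
    (IsLocalization.ker_map B' (Ideal.Quotient.mk I) (M := Submonoid.powers g) (T := Submonoid.powers (Ideal.Quotient.mk I g)) (Submonoid.map_powers _ g)).trans (by rw [Ideal.mk_ker])
  have hcomp : π.comp (algebraMap A A') = (algebraMap (A ⧸ I) B').comp (Ideal.Quotient.mk I) :=
    IsLocalization.map_comp _
  have hsurj : Function.Surjective π := fun b => by
    obtain ⟨a, s, rfl⟩ := IsLocalization.exists_mk'_eq (Submonoid.powers (Ideal.Quotient.mk I g)) b
    obtain ⟨a, rfl⟩ := Ideal.Quotient.mk_surjective a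
    obtain ⟨_, n, rfl⟩ := s
    refine ⟨IsLocalization.mk' A' a (⟨g ^ n, n, rfl⟩ : Submonoid.powers g), ?_⟩
    rw [IsLocalization.map_mk']
    congr 1

  let I' := I.map (algebraMap A A')
  let J' := J.map (algebraMap A A')
  have hJmap : J'.map π = Ideal.span (Set.range f) := by
    rw [hspan, Ideal.map_map, Ideal.map_map, hcomp]
  have hfl : ∀ i, ∃ y ∈ J', π y = f i := fun i =>
    (Ideal.mem_map_iff_of_surjective π hsurj).1 (hJmap ▸ Ideal.subset_span ⟨i, rfl⟩)
  choose F hFJ hF using hfl
  have hIJ' : I' ≤ J' := Ideal.map_mono hIJ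
  have hdecomp : ∀ y ∈ J', ∃ s : Fin c → A', ∃ i₀ ∈ I', y = (∑ i, s i * F i) + i₀ := by
    intro y hy
    obtain ⟨s, hs⟩ := Ideal.mem_span_range_iff_exists_fun.1 (hJmap ▸ Ideal.mem_map_of_mem π hy)
    choose t ht using fun i => hsurj (s i)
    refine ⟨t, y - ∑ i, t i * F i, ?_, by ring⟩
    show y - _ ∈ I.map (algebraMap A A')
    rw [← hker, RingHom.mem_ker, map_sub, map_sum, ← hs]
    simp only [map_mul, ht, hF, sub_self]
  have hxm : algebraMap A A' x ∈ I' * J' := by
    have hx2 : algebraMap A A' x ∈ J' * J' := by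
      rw [← pow_two, ← Ideal.map_pow]; exact Ideal.mem_map_of_mem _ hx.2
    have hs : ∃ s : Fin c → A', (∀ i, s i ∈ J') ∧ algebraMap A A' x - ∑ i, s i * F i ∈ I' * J' := by
      refine Submodule.mul_induction_on hx2 (fun a ha b hb => ?_) ?_
      · obtain ⟨s, i₀, hi₀, rfl⟩ := hdecomp a ha
        refine ⟨fun i => s i * b, fun i => Ideal.mul_mem_left _ _ hb, ?_⟩
        rw [add_mul, Finset.sum_mul, Finset.sum_congr rfl (fun i _ => mul_right_comm (s i) (F i) b), add_sub_cancel_left]
        exact Ideal.mul_mem_mul hi₀ hb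
      · rintro a b ⟨s, hs, hs'⟩ ⟨t, ht, ht'⟩
        refine ⟨s + t, fun i => add_mem (hs i) (ht i), ?_⟩
        have := add_mem hs' ht'
        simp only [Pi.add_apply, add_mul, Finset.sum_add_distrib]
        convert this using 1
        ring
    obtain ⟨s, hsJ, hs'⟩ := hs
    have hrel : ∑ i, π (s i) * f i = 0 := by
      have h1 : π (algebraMap A A' x) = 0 := by
        rw [← RingHom.mem_ker, hker]; exact Ideal.mem_map_of_mem _ hx.1
      have h2 : π (algebraMap A A' x - ∑ i, s i * F i) = 0 := by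
        rw [← RingHom.mem_ker, hker]; exact Ideal.mul_le_left hs'
      rw [map_sub, h1, zero_sub, neg_eq_zero, map_sum] at h2
      simpa only [map_mul, hF] using h2
    have hlift : ∀ v ∈ Submodule.span B' {v : Fin c → B' | ∃ i j : Fin c, v = Pi.single i (f j) - Pi.single j (f i)},
        ∃ w : Fin c → A', (∀ i, π (w i) = v i) ∧ ∑ i, w i * F i = 0 := by
      intro v hv
      induction hv using Submodule.span_induction with
      | mem v hv =>
        obtain ⟨i, j, rfl⟩ := hv
        refine ⟨Pi.single i (F j) - Pi.single j (F i), fun k => ?_, ?_⟩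
        · simp only [Pi.sub_apply, map_sub, Pi.single_apply]
          split_ifs <;> simp [hF]
        · simp only [Pi.sub_apply, sub_mul, Finset.sum_sub_distrib, Pi.single_apply, ite_mul, zero_mul,
            Finset.sum_ite_eq', Finset.mem_univ, if_true]
          ring
      | zero => exact ⟨0, fun i => by simp, by simp⟩
      | add a b _ _ ha hb =>
        obtain ⟨wa, h1, h2⟩ := ha; obtain ⟨wb, h3, h4⟩ := hb
        exact ⟨wa + wb, fun i => by simp [h1, h3], by simp [add_mul, Finset.sum_add_distrib, h2, h4]⟩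
      | smul r a _ ha =>
        obtain ⟨wa, h1, h2⟩ := ha
        obtain ⟨t, ht⟩ := hsurj r
        exact ⟨t • wa, fun i => by simp [h1, ht], by simp [mul_assoc, ← Finset.mul_sum, h2]⟩
    obtain ⟨w, hw, hw0⟩ := hlift _ (hf (fun i => π (s i)) hrel)
    have h3 : ∑ i, (s i - w i) * F i ∈ I' * J' := Ideal.sum_mem _ fun i _ => Ideal.mul_mem_mul (by
      show _ ∈ I.map (algebraMap A A')
      rw [← hker, RingHom.mem_ker, map_sub, hw, sub_self]) (hFJ i)
    have := add_mem hs' h3
    simp only [sub_mul, Finset.sum_sub_distrib, hw0, sub_zero, sub_add_cancel] at this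
    exact this
  rw [← Ideal.map_mul, IsLocalization.algebraMap_mem_map_algebraMap_iff (Submonoid.powers g)] at hxm
  obtain ⟨_, ⟨n, rfl⟩, hn⟩ := hxm
  exact hgP (hP.isPrime.mem_of_pow_mem n (hkill _ hn))

end Groth.Agent.S9325
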