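import Groth.Statements.S9327
import Groth.Agent.H1Branch.TensorClosed
import Groth.Agent.BrnchLib.ComplMin
import Mathlib.RingTheory.RingHom.Flat

set_option autoImplicit false
universe u
open Hensel

namespace Groth.Agent.S9327

open TensorProduct in
theorem flat_inl (k A B : Type u) [Field k] [CommRing A] [CommRing B] [Algebra k A] [Algebra k B] :
    (Algebra.TensorProduct.includeLeft : A →ₐ[k] A ⊗[k] B).toRingHom.Flat :=
  (RingHom.flat_algebraMap_iff (R := A) (S := A ⊗[k] B)).2 inferInstance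

open TensorProduct in
theorem flat_inr (k A B : Type u) [Field k] [CommRing A] [CommRing B] [Algebra k A] [Algebra k B] :
    (Algebra.TensorProduct.includeRight : B →ₐ[k] A ⊗[k] B).toRingHom.Flat := by
  have e : (Algebra.TensorProduct.includeRight : B →ₐ[k] A ⊗[k] B).toRingHom =
      (Algebra.TensorProduct.comm k B A).toRingEquiv.toRingHom.comp
        (Algebra.TensorProduct.includeLeft : B →ₐ[k] B ⊗[k] A).toRingHom := RingHom.ext fun b => by simp
  rw [e]
  exact (flat_inl k B A).comp (RingHom.Flat.of_bijective (Algebra.TensorProduct.comm k B A).bijective)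

theorem ff_of_flat {A C : Type u} [CommRing A] [CommRing C] [IsLocalRing A] [IsLocalRing C] (f : A →+* C)
    [IsLocalHom f] (hf : f.Flat) : letI := f.toAlgebra; Module.FaithfullyFlat A C := by
  letI := f.toAlgebra
  haveI : Module.Flat A C := hf
  haveI : IsLocalHom (algebraMap A C) := ‹IsLocalHom f›
  exact Module.FaithfullyFlat.of_flat_of_isLocalHom

theorem exists_normalization {k : Type u} [Field k] (A : Type u) [CommRing A] [HenselianLocalRing A] [Algebra k A]
    (P : Ideal A) [P.IsPrime] :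
    ∃ (A' : Type u) (_ : CommRing A') (_ : Algebra k A') (_ : IsLocalRing A') (_ : IsDomain A')
      (_ : IsIntegrallyClosed A') (fA : A →ₐ[k] A'),
      fA.toRingHom.IsIntegral ∧ (∀ x, ∃ a b, fA b ≠ 0 ∧ fA b * x = fA a) ∧ RingHom.ker fA = P := by
  haveI : IsLocalRing (A ⧸ P) := IsLocalRing.of_surjective' (Ideal.Quotient.mk P) Ideal.Quotient.mk_surjective
  haveI : HenselianLocalRing (A ⧸ P) := Groth.Agent.H1Branch.henselianLocalRing_quotient P
  let N := integralClosure (A ⧸ P) (FractionRing (A ⧸ P))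
  haveI : IsLocalRing N := Groth.Agent.Hensel.isLocalRing_of_isIntegral_domain (A ⧸ P) _
  haveI : IsIntegrallyClosed N := integralClosure.isIntegrallyClosedOfFiniteExtension (FractionRing (A ⧸ P))
  let f : A →+* N := (algebraMap (A ⧸ P) N).comp (Ideal.Quotient.mk P)
  letI : Algebra k N := (f.comp (algebraMap k A)).toAlgebra
  let fA : A →ₐ[k] N := ⟨f, fun _ => rfl⟩
  have hinj : Function.Injective (algebraMap (A ⧸ P) N) := fun a b h =>
    IsFractionRing.injective (A ⧸ P) (FractionRing (A ⧸ P)) (congrArg Subtype.val h)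
  refine ⟨N, inferInstance, inferInstance, inferInstance, inferInstance, inferInstance, fA, fun x => ?_,
    fun x => ?_, ?_⟩
  · obtain ⟨p, hp, hp0⟩ := Algebra.IsIntegral.isIntegral (R := A ⧸ P) x
    have hp' : p ∈ Polynomial.lifts (Ideal.Quotient.mk P) :=
      (Polynomial.mem_lifts _).2 (Polynomial.map_surjective _ Ideal.Quotient.mk_surjective p)
    obtain ⟨q, hqp, -, hq⟩ := Polynomial.lifts_and_degree_eq_and_monic hp' hp
    refine ⟨q, hq, ?_⟩
    rw [← hqp, Polynomial.eval₂_map] at hp0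
    exact hp0
  · obtain ⟨a, b, hb, hab⟩ := IsFractionRing.div_surjective (A := A ⧸ P) (x : FractionRing (A ⧸ P))
    obtain ⟨a, rfl⟩ := Ideal.Quotient.mk_surjective a
    obtain ⟨b, rfl⟩ := Ideal.Quotient.mk_surjective b
    refine ⟨a, b, fun h => nonZeroDivisors.ne_zero hb (hinj (h.trans (map_zero _).symm)), Subtype.ext ?_⟩
    show algebraMap (A ⧸ P) (FractionRing (A ⧸ P)) (Ideal.Quotient.mk P b) * (x : FractionRing (A ⧸ P)) =
      algebraMap (A ⧸ P) (FractionRing (A ⧸ P)) (Ideal.Quotient.mk P a)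
    rw [← hab, mul_div_cancel₀]
    exact IsFractionRing.to_map_ne_zero_of_mem_nonZeroDivisors hb
  · ext a
    rw [RingHom.mem_ker]
    show algebraMap (A ⧸ P) N (Ideal.Quotient.mk P a) = 0 ↔ a ∈ P
    rw [map_eq_zero_iff _ hinj, Ideal.Quotient.eq_zero_iff_mem]

open TensorProduct IsLocalRing in
/-- Let `k` be an algebraically closed field and `A`, `B` henselian local `k`-algebras with residue
field `k` (the composites `k → A → A/m_A` and `k → B → B/m_B` are bijective; as `k` is algebraically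
closed, `A` and `B` are strictly henselian). Let `𝔪 = m_A ⊗ B + A ⊗ m_B`, a maximal ideal of `A ⊗_k
B`, and let `C` be a strict henselization of the local ring `(A ⊗_k B)_𝔪`. Then sending a prime of
`C` to the pair of its preimages in `A` and in `B` is a bijection from the set of minimal primes of
`C` onto the set of pairs (minimal prime of `A`, minimal prime of `B`). -/
theorem result {k A B C : Type u} [Field k]
    [IsAlgClosed k] [CommRing A] [CommRing B] [HenselianLocalRing A] [HenselianLocalRing B]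
    [Algebra k A] [Algebra k B]
    (hA : Function.Bijective ((residue A).comp (algebraMap k A)))
    (hB : Function.Bijective ((residue B).comp (algebraMap k B)))
    (𝔪 : Ideal (A ⊗[k] B)) [𝔪.IsPrime]
    (h𝔪 : 𝔪 = (maximalIdeal A).map (Algebra.TensorProduct.includeLeft : A →ₐ[k] A ⊗[k] B) ⊔
      (maximalIdeal B).map (Algebra.TensorProduct.includeRight : B →ₐ[k] A ⊗[k] B))
    [CommRing C] [IsLocalRing C] [Algebra (Localization.AtPrime 𝔪) C]
    [IsLocalHom (algebraMap (Localization.AtPrime 𝔪) C)]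
    [Hensel.IsStrictHenselization (Localization.AtPrime 𝔪) C] :
    Set.BijOn
      (fun 𝔯 : Ideal C =>
        (𝔯.comap ((algebraMap (Localization.AtPrime 𝔪) C).comp
            ((algebraMap (A ⊗[k] B) (Localization.AtPrime 𝔪)).comp
              (Algebra.TensorProduct.includeLeft : A →ₐ[k] A ⊗[k] B).toRingHom)),
          𝔯.comap ((algebraMap (Localization.AtPrime 𝔪) C).comp
            ((algebraMap (A ⊗[k] B) (Localization.AtPrime 𝔪)).comp
              (Algebra.TensorProduct.includeRight : B →ₐ[k] A ⊗[k] B).toRingHom))))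
      (minimalPrimes C) (minimalPrimes A ×ˢ minimalPrimes B) := by
  let L := Localization.AtPrime 𝔪
  let φ : A ⊗[k] B →+* C := (algebraMap L C).comp (algebraMap (A ⊗[k] B) L)
  let φA : A →+* C := (algebraMap L C).comp ((algebraMap (A ⊗[k] B) L).comp
    (Algebra.TensorProduct.includeLeft : A →ₐ[k] A ⊗[k] B).toRingHom)
  let φB : B →+* C := (algebraMap L C).comp ((algebraMap (A ⊗[k] B) L).comp
    (Algebra.TensorProduct.includeRight : B →ₐ[k] A ⊗[k] B).toRingHom)
  have hm : ∀ z ∈ 𝔪, φ z ∈ maximalIdeal C := fun z hz => by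
    have h1 : algebraMap (A ⊗[k] B) L z ∈ maximalIdeal L :=
      (IsLocalization.AtPrime.to_map_mem_maximal_iff L 𝔪 z).2 hz
    exact map_nonunit (algebraMap L C) _ h1
  have hLC : (algebraMap L C).Flat :=
    (RingHom.flat_algebraMap_iff (R := L) (S := C)).2
      (haveI := (Groth.Agent.Hensel.isHenzLike_of_isStrictHenselization L C).faithfullyFlat; inferInstance)
  have hTL : (algebraMap (A ⊗[k] B) L).Flat :=
    RingHom.flat_algebraMap_iff.2 (IsLocalization.flat L 𝔪.primeCompl)
  have hfA : φA.Flat := ((flat_inl k A B).comp hTL).comp hLC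
  have hfB : φB.Flat := ((flat_inr k A B).comp hTL).comp hLC
  haveI hlA : IsLocalHom φA := ⟨fun a ha => by
    by_contra h
    exact (notMem_maximalIdeal.2 ha) (hm _ (h𝔪 ▸ Ideal.mem_sup_left (Ideal.mem_map_of_mem _ ((mem_maximalIdeal a).2 h))))⟩
  haveI hlB : IsLocalHom φB := ⟨fun a ha => by
    by_contra h
    exact (notMem_maximalIdeal.2 ha) (hm _ (h𝔪 ▸ Ideal.mem_sup_right (Ideal.mem_map_of_mem _ ((mem_maximalIdeal a).2 h))))⟩
  have hffA := ff_of_flat φA hfA
  have hffB := ff_of_flat φB hfB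
  have key : ∀ P ∈ minimalPrimes A, ∀ Q ∈ minimalPrimes B, ∃ R : Ideal C, R.IsPrime ∧ R.comap φA = P ∧ R.comap φB = Q ∧
      R = P.map φA ⊔ Q.map φB := by
    intro P hP Q hQ
    haveI := hP.1.1
    haveI := hQ.1.1
    obtain ⟨A', _, _, _, _, _, fA, hAi, hfrA, hkerA⟩ := exists_normalization (k := k) A P
    obtain ⟨B', _, _, _, _, _, fB, hBi, hfrB, hkerB⟩ := exists_normalization (k := k) B Q
    obtain ⟨hprime, hnot⟩ := Groth.Agent.H1Branch.isPrime_map_tensor fA fB hA hB hAi hBi hfrA hfrB 𝔪 h𝔪 C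
    rw [hkerA, hkerB] at hprime hnot
    have hJ : (P.map (Algebra.TensorProduct.includeLeft : A →ₐ[k] A ⊗[k] B) ⊔
        Q.map (Algebra.TensorProduct.includeRight : B →ₐ[k] A ⊗[k] B)).map φ = P.map φA ⊔ Q.map φB := by
      rw [Ideal.map_sup]
      congr 1
      · exact (Ideal.map_map (Algebra.TensorProduct.includeLeft : A →ₐ[k] A ⊗[k] B).toRingHom φ)
      · exact (Ideal.map_map (Algebra.TensorProduct.includeRight : B →ₐ[k] A ⊗[k] B).toRingHom φ)
    have e : ((algebraMap L C).comp (algebraMap (A ⊗[k] B) L)) = φ := rfl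
    rw [e, hJ] at hprime
    refine ⟨_, hprime, le_antisymm (fun a ha => ?_) (Ideal.map_le_iff_le_comap.1 le_sup_left),
      le_antisymm (fun b hb => ?_) (Ideal.map_le_iff_le_comap.1 le_sup_right), rfl⟩
    · have h := hnot a 1 (by rw [e, hJ]; exact ha)
      rw [← hkerA, RingHom.mem_ker]
      exact h.resolve_right (by simp)
    · have h := hnot 1 b (by rw [e, hJ]; exact hb)
      rw [← hkerB, RingHom.mem_ker]
      exact h.resolve_left (by simp)
  have hcA := fun {R : Ideal C} (hR : R ∈ minimalPrimes C) => Groth.Agent.BrnchLib.comap_mem_minimalPrimes φA hffA hR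
  have hcB := fun {R : Ideal C} (hR : R ∈ minimalPrimes C) => Groth.Agent.BrnchLib.comap_mem_minimalPrimes φB hffB hR
  have huniq : ∀ R ∈ minimalPrimes C, R = (R.comap φA).map φA ⊔ (R.comap φB).map φB := fun R hR => by
    obtain ⟨R', hR', -, -, he⟩ := key _ (hcA hR) _ (hcB hR)
    rw [← he]
    have hle : R' ≤ R := he ▸ sup_le Ideal.map_comap_le Ideal.map_comap_le
    exact le_antisymm (hR.2 ⟨hR', bot_le⟩ hle) hle
  refine ⟨fun R hR => ⟨hcA hR, hcB hR⟩, fun R hR R' hR' h => ?_, fun PQ hPQ => ?_⟩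
  · obtain ⟨h1, h2⟩ := Prod.mk.inj h
    rw [huniq R hR, huniq R' hR']
    exact congrArg₂ (fun a b => Ideal.map φA a ⊔ Ideal.map φB b) h1 h2
  · obtain ⟨hP, hQ⟩ := hPQ
    obtain ⟨R, hR, h1, h2, he⟩ := key _ hP _ hQ
    haveI := hR
    obtain ⟨R₀, hR₀, hle⟩ := Ideal.exists_minimalPrimes_le (I := (⊥ : Ideal C)) (J := R) bot_le
    have e1 : R₀.comap φA = PQ.1 := le_antisymm ((Ideal.comap_mono hle).trans h1.le)
      (hP.2 ⟨(hcA hR₀).1.1, bot_le⟩ ((Ideal.comap_mono hle).trans h1.le))
    have e2 : R₀.comap φB = PQ.2 := le_antisymm ((Ideal.comap_mono hle).trans h2.le)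
      (hQ.2 ⟨(hcB hR₀).1.1, bot_le⟩ ((Ideal.comap_mono hle).trans h2.le))
    exact ⟨R₀, hR₀, Prod.ext e1 e2⟩

end Groth.Agent.S9327
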