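import Groth.Statements.S9334


set_option autoImplicit false
universe u
open QFin

set_option backward.isDefEq.respectTransparency.types false

namespace Groth.Agent.S9334

open AlgebraicGeometry CategoryTheory in
/-- Let f : X → S be locally of finite type, x ∈ X, and write s = f x. The morphism f is quasi-finite at
x exactly when x is a closed point of the fibre X_s and no point x' ≠ x of X_s specializes to x. -/
theorem result {X S : Scheme.{u}} (f : X ⟶ S) [LocallyOfFiniteType f] (x : X) :
    f.QuasiFiniteAt x ↔
      (IsClosed ({f.asFiber x} : Set ↑(f.fiber (f.base x))) ∧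
        ∀ x' : ↑(f.fiber (f.base x)), x' ⤳ f.asFiber x → x' = f.asFiber x) := by
  classical
  rw [Scheme.Hom.quasiFiniteAt_iff_isOpen_singleton_asFiber]
  constructor
  · intro h
    refine ⟨(isClosed_singleton_of_isLocallyClosed_singleton h.isLocallyClosed), fun x' hx' => ?_⟩
    exact hx'.mem_open h rfl
  · rintro ⟨hc, hgen⟩
    haveI : LocallyOfFiniteType (f.fiberToSpecResidueField (f.base x)) :=
      inferInstanceAs (LocallyOfFiniteType (Limits.pullback.snd f (S.fromSpecResidueField (f.base x))))
    haveI : IsLocallyNoetherian (f.fiber (f.base x)) :=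
      LocallyOfFiniteType.isLocallyNoetherian (f.fiberToSpecResidueField (f.base x))
    obtain ⟨U, hU, hxU, -⟩ := exists_isAffineOpen_mem_and_subset
      (TopologicalSpace.Opens.mem_top (f.asFiber x))
    haveI := IsLocallyNoetherian.component_noetherian (X := f.fiber (f.base x)) ⟨U, hU⟩
    haveI : TopologicalSpace.NoetherianSpace ↥U := noetherianSpace_of_isAffineOpen U hU
    let p : ↥U := ⟨f.asFiber x, hxU⟩
    have hpc : IsClosed ({p} : Set ↥U) := by
      have h := hc.preimage (continuous_subtype_val : Continuous (Subtype.val : ↥U → _))
      convert h using 1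
      ext q
      simp [p, Subtype.ext_iff]
    haveI : QuasiSober ↥U := U.isOpen.isOpenEmbedding_subtypeVal.quasiSober
    have hZ : irreducibleComponent p = {p} := by
      obtain ⟨η, hη⟩ := QuasiSober.sober (isIrreducible_irreducibleComponent (x := p))
        isClosed_irreducibleComponent
      have hs : η ⤳ p := hη.specializes mem_irreducibleComponent
      have he : η = p := Subtype.ext (hgen η.1 (hs.map continuous_subtype_val))
      rw [← hη.def, he, hpc.closure_eq]
    obtain ⟨o, ho, hne, hsub⟩ :=
      TopologicalSpace.NoetherianSpace.exists_isOpen_nonempty_subset_irreducibleComponent _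
        (irreducibleComponent_mem_irreducibleComponents p)
    rw [hZ] at hsub
    have hop : o = {p} := Set.Subset.antisymm hsub (by
      obtain ⟨q, hq⟩ := hne
      have : q = p := hsub hq
      exact Set.singleton_subset_iff.mpr (this ▸ hq))
    have himg := U.isOpen.isOpenMap_subtype_val o ho
    rw [hop, Set.image_singleton] at himg
    exact himg

end Groth.Agent.S9334
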