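import Groth.Statements.S9351
import Groth.Agent.S6353

set_option autoImplicit false
set_option backward.isDefEq.respectTransparency false
set_option backward.isDefEq.respectTransparency.types false
universe u
open FlatMod

namespace Groth.Agent.S9351

open AlgebraicGeometry CategoryTheory CategoryTheory.Limits in
theorem flat_of_comp_openImmersion {Z U X : Scheme.{u}} (f : Z ⟶ U) (j : U ⟶ X) [IsOpenImmersion j]
    (h : Flat (f ≫ j)) : Flat f := by
  let l : Z ⟶ pullback (f ≫ j) j := pullback.lift (𝟙 Z) f (Category.id_comp _)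
  haveI : IsIso l := ⟨pullback.fst _ _, pullback.lift_fst _ _ _,
    by rw [← cancel_mono (pullback.fst (f ≫ j) j), Category.assoc, pullback.lift_fst, Category.comp_id, Category.id_comp]⟩
  rw [show f = l ≫ pullback.snd (f ≫ j) j from (pullback.lift_snd _ _ _).symm]
  infer_instance

open AlgebraicGeometry CategoryTheory in
/-- On a scheme X, taking supports is a bijection from the closed subschemes Z ⊆ X with Z → X flat
(indexed by their quasi-coherent ideal sheaves) onto the closed subsets of X stable under
generalization; and any morphism g : Y → X with image inside such a Z factors through Z. -/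
theorem result (X : Scheme.{u}) :
    Set.BijOn (fun I : X.IdealSheafData => I.support) {I : X.IdealSheafData | Flat I.subschemeι}
        {Z : TopologicalSpace.Closeds ↑X | StableUnderGeneralization (Z : Set ↑X)} ∧
      ∀ I : X.IdealSheafData, Flat I.subschemeι → ∀ (Y : Scheme.{u}) (g : Y ⟶ X),
        Set.range g.base ⊆ (I.support : Set ↑X) → ∃ g' : Y ⟶ I.subscheme, g' ≫ I.subschemeι = g := by
  have hsupp : ∀ (I : X.IdealSheafData) (U : X.affineOpens),
      U.2.fromSpec ⁻¹' (I.support : Set X) = PrimeSpectrum.zeroLocus (I.ideal U : Set Γ(X, U.1)) := fun I U => by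
    rw [← U.2.fromSpec_preimage_zeroLocus]
    ext y
    exact Scheme.IdealSheafData.mem_support_iff_of_mem (U := U) (U.2.range_fromSpec.le ⟨y, rfl⟩)
  have hcov : ∀ x : X, ∃ (U : X.affineOpens) (y : Spec Γ(X, U.1)), U.2.fromSpec y = x := fun x => by
    obtain ⟨_, ⟨U, hU, rfl⟩, hx, -⟩ :=
      X.isBasis_affineOpens.exists_subset_of_mem_open (Set.mem_univ x) isOpen_univ
    exact ⟨⟨U, hU⟩, (show x ∈ Set.range hU.fromSpec from hU.range_fromSpec.ge hx)⟩
  have hflat : ∀ I : X.IdealSheafData, Flat I.subschemeι ↔ ∀ U, (I.ideal U).Pure := fun I => by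
    constructor
    · intro h U
      have h1 : Flat (I.subschemeCover.f U ≫ I.subschemeι) := inferInstance
      rw [Scheme.IdealSheafData.subschemeCover_map_subschemeι, Scheme.IdealSheafData.glueDataObjι_ι] at h1
      have h2 : Flat (Spec.map (CommRingCat.ofHom (Ideal.Quotient.mk (I.ideal U)))) :=
        flat_of_comp_openImmersion _ U.2.fromSpec h1
      rw [Flat.SpecMap_iff] at h2
      exact (RingHom.flat_algebraMap_iff (R := Γ(X, U.1)) (S := Γ(X, U.1) ⧸ I.ideal U)).1 h2
    · intro h
      refine IsZariskiLocalAtSource.of_openCover I.subschemeCover.openCover fun U => ?_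
      change Flat (I.subschemeCover.f U ≫ I.subschemeι)
      rw [Scheme.IdealSheafData.subschemeCover_map_subschemeι, Scheme.IdealSheafData.glueDataObjι_ι]
      haveI : Flat (Spec.map (CommRingCat.ofHom (Ideal.Quotient.mk (I.ideal U)))) :=
        Flat.SpecMap_iff.2 ((RingHom.flat_algebraMap_iff (R := Γ(X, U.1)) (S := Γ(X, U.1) ⧸ I.ideal U)).2 (h U))
      infer_instance
  refine ⟨⟨fun I (hI : Flat I.subschemeι) => ?_, fun I hI J hJ hIJ => ?_, fun Z hZ => ?_⟩,
    fun I hI Y g hg => ?_⟩
  · intro x x' hxx' hx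
    obtain ⟨U, y, rfl⟩ := hcov x
    have hx'U : x' ∈ Set.range U.2.fromSpec := by
      rw [U.2.range_fromSpec]; exact hxx'.mem_open U.1.2 (U.2.range_fromSpec.le ⟨y, rfl⟩)
    obtain ⟨y', rfl⟩ := hx'U
    have hs : y' ⤳ y := U.2.fromSpec.isOpenEmbedding.isInducing.specializes_iff.1 hxx'
    have hy : y ∈ U.2.fromSpec ⁻¹' (I.support : Set X) := hx
    rw [hsupp] at hy
    have hy' := (Groth.Agent.S6353.result _).1 _ ((hflat I).1 hI U) hs hy
    rw [← hsupp] at hy'
    exact hy'
  · refine Scheme.IdealSheafData.ext (funext fun U => ?_)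
    haveI := (hflat I).1 hI U
    haveI := (hflat J).1 hJ U
    refine (Ideal.zeroLocus_inj_of_pure).1 ?_
    rw [← hsupp, ← hsupp, show I.support = J.support from hIJ]
  · have hex : ∀ U : X.affineOpens, ∃ I : Ideal Γ(X, U.1), I.Pure ∧
        PrimeSpectrum.zeroLocus (I : Set Γ(X, U.1)) = U.2.fromSpec ⁻¹' (Z : Set X) := fun U =>
      (Groth.Agent.S6353.result _).2 _ (Z.2.preimage U.2.fromSpec.continuous)
        fun a b hab ha => hZ (hab.map U.2.fromSpec.continuous) ha
    choose K hK hKz using hex
    let D : X.IdealSheafData :=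
      { ideal := K
        map_ideal_basicOpen := fun U f => by
          let φ := (X.presheaf.map (homOfLE <| X.basicOpen_le f).op).hom
          letI := φ.toAlgebra
          haveI : ((K U).map φ).Pure := by
            haveI := hK U
            exact Module.Flat.of_linearEquiv
              (Algebra.TensorProduct.quotIdealMapEquivTensorQuot Γ(X, X.basicOpen f) (K U)).toLinearEquiv
          haveI : (K (X.affineBasicOpen f) : Ideal Γ(X, X.basicOpen f)).Pure := hK _
          refine (@Ideal.zeroLocus_inj_of_pure Γ(X, X.basicOpen f) _ ((K U).map φ) (K (X.affineBasicOpen f)) (by assumption) (hK (X.affineBasicOpen f))).1 ?_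
          rw [hKz]
          refine Eq.trans ?_ (congrArg (fun g => (fun z => g z) ⁻¹' (Z : Set X))
            (U.2.map_fromSpec (X.affineBasicOpen f).2 (homOfLE (X.basicOpen_le f)).op))
          rw [Ideal.map, PrimeSpectrum.zeroLocus_span, ← PrimeSpectrum.preimage_comap_zeroLocus, hKz]
          rfl }
    refine ⟨D, (hflat D).2 hK, ?_⟩
    ext x
    obtain ⟨U, y, rfl⟩ := hcov x
    change y ∈ U.2.fromSpec ⁻¹' (D.support : Set X) ↔ y ∈ U.2.fromSpec ⁻¹' (Z : Set X)
    rw [hsupp D U, ← hKz]
  · have hle : I ≤ g.ker := Scheme.IdealSheafData.le_ofIdeals_iff.2 fun U a ha => by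
      haveI := (hflat I).1 hI U
      obtain ⟨b, hb, hab⟩ := Ideal.exists_eq_mul_of_pure ha
      have hu : IsUnit (g.app U.1 (1 - b)) := by
        refine AlgebraicGeometry.RingedSpace.isUnit_of_isUnit_germ Y.toRingedSpace _ _ fun z hz => ?_
        refine (Scheme.mem_basicOpen _ _ _ _).1 ?_
        rw [← Scheme.preimage_basicOpen]
        have hs : g.base z ∈ X.zeroLocus (U := U.1) (I.ideal U) :=
          (Scheme.IdealSheafData.mem_support_iff_of_mem hz).1 (hg ⟨z, rfl⟩)
        have h1 : g.base z ∉ X.basicOpen b := (Scheme.mem_zeroLocus_iff _ _ _).1 hs b hb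
        have h2 : g.base z ∈ X.basicOpen ((1 - b) + b) := by
          rw [sub_add_cancel, Scheme.basicOpen_of_isUnit _ isUnit_one]; exact hz
        exact ((X.basicOpen_add_le (1 - b) b) h2).resolve_right h1
      rw [RingHom.mem_ker]
      refine hu.mul_left_eq_zero.1 ?_
      rw [← map_mul, mul_sub, mul_one, ← hab, sub_self, map_zero]
    exact ⟨IsClosedImmersion.lift I.subschemeι g (by rwa [I.ker_subschemeι]), IsClosedImmersion.lift_fac _ _ _⟩

end Groth.Agent.S9351
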