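import Groth.Statements.S9352
import Groth.Agent.S9351
import Groth.Agent.QCoh.LocFree
import Groth.Agent.QCoh.VanIdeal
import Groth.Agent.QCoh.Qcqs
import Groth.Agent.QCoh.DevissageP
import Groth.Agent.FittX.Sheaf

set_option autoImplicit false
set_option backward.isDefEq.respectTransparency false
set_option backward.isDefEq.respectTransparency.types false
universe u
open FlatMod

namespace Groth.Agent.S9352

open AlgebraicGeometry CategoryTheory in
/-- For a scheme X, every finite type flat quasi-coherent O_X-module is finite locally free if and only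
if every closed subset of X that is stable under generalization is open. -/
theorem result (X : Scheme.{u}) :
    (∀ F : X.Modules, Coh.IsQCoh F → CohB1.IsFT F → FlatMod.IsFlat F → FlatMod.IsFinLocFree F) ↔
      ∀ Z : Set ↑X, IsClosed Z → StableUnderGeneralization Z → IsOpen Z := by
  constructor
  · intro h Z hZc hZ
    obtain ⟨I, hI, hIZ⟩ := (Groth.Agent.S9351.result X).1.surjOn (show (⟨Z, hZc⟩ : TopologicalSpace.Closeds X) ∈
      {Z : TopologicalSpace.Closeds ↑X | StableUnderGeneralization (Z : Set ↑X)} from hZ)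
    haveI : Flat I.subschemeι := hI
    have hIZ' : (I.support : Set X) = Z := congrArg (fun T : TopologicalSpace.Closeds X => (T : Set X)) hIZ
    let ι := I.subschemeι
    let F := (Coh.push ι).obj (Coh.structureModule I.subscheme)
    have hF : Coh.IsQCoh F := Groth.Agent.QCoh.isQCoh_pushforward ι Groth.Agent.QCoh.isQCoh_structureModule
    have hl : ∀ U : X.affineOpens, Nonempty ((Γ(X, U.1) ⧸ I.ideal U) ≃ₗ[Γ(X, U.1)] Γ(F, U.1)) := fun U => by
      let l : Γ(X, U.1) →ₗ[Γ(X, U.1)] Γ(F, U.1) :=
        { toFun := fun a => (show Γ(I.subscheme, ι ⁻¹ᵁ U.1) from ι.app U.1 a)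
          map_add' := fun a b => map_add (ι.app U.1).hom a b
          map_smul' := fun c a => map_mul (ι.app U.1).hom c a }
      have hs : Function.Surjective l := fun y => by
        obtain ⟨a, ha⟩ := I.subschemeι_app_surjective U y
        exact ⟨a, ha⟩
      have hk : LinearMap.ker l = I.ideal U := by
        rw [← I.ker_subschemeι_app U]
        rfl
      exact ⟨(Submodule.quotEquivOfEq _ _ hk.symm).trans (l.quotKerEquivOfSurjective hs)⟩
    have hft : CohB1.IsFT F := (Groth.Agent.QCoh.isFT_iff hF).2 fun U => by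
      obtain ⟨l⟩ := hl U
      exact Module.Finite.equiv l
    have hfl : FlatMod.IsFlat F := fun x => by
      obtain ⟨U, hU, hx⟩ := Groth.Agent.QCoh.exists_affine_mem x
      obtain ⟨l⟩ := hl ⟨U, hU⟩
      refine (Groth.Agent.QCoh.flat_sections_iff hF hU).1 ?_ x hx
      haveI : (I.ideal ⟨U, hU⟩).Pure := by
        have h1 : Flat (I.subschemeCover.f ⟨U, hU⟩ ≫ I.subschemeι) := inferInstance
        rw [Scheme.IdealSheafData.subschemeCover_map_subschemeι, Scheme.IdealSheafData.glueDataObjι_ι] at h1
        have h2 := Groth.Agent.S9351.flat_of_comp_openImmersion _ hU.fromSpec h1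
        rw [Flat.SpecMap_iff] at h2
        exact (RingHom.flat_algebraMap_iff (R := Γ(X, U)) (S := Γ(X, U) ⧸ I.ideal ⟨U, hU⟩)).1 h2
      exact Module.Flat.of_linearEquiv l.symm
    have hlc := Groth.Agent.QCoh.isLocallyConstant_rank (h F hF hft hfl)
    have hZeq : Z = (fun x : X => Module.finrank (X.presheaf.stalk x) (F.presheaf.stalk x)) ⁻¹' {n | n ≠ 0} := by
      ext x
      obtain ⟨U, hU, hx⟩ := Groth.Agent.QCoh.exists_affine_mem x
      obtain ⟨l⟩ := hl ⟨U, hU⟩
      haveI : Module.Flat Γ(X, U) Γ(F, U) := (Groth.Agent.QCoh.flat_sections_iff hF hU).2 fun y _ => hfl y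
      haveI : Module.Finite Γ(X, U) Γ(F, U) := Module.Finite.equiv l
      rw [← hIZ', SetLike.mem_coe, Scheme.IdealSheafData.mem_support_iff_of_mem (U := ⟨U, hU⟩) hx,
        Set.mem_preimage, Set.mem_setOf_eq, ← Groth.Agent.QCoh.rankAtStalk_eq_finrank hF hU hx, ne_eq,
        Module.rankAtStalk_eq_zero_iff_notMem_support, not_not, ← l.support_eq,
        Module.support_eq_zeroLocus, Ideal.annihilator_quotient, ← hU.fromSpec_preimage_zeroLocus,
        Set.mem_preimage, hU.fromSpec_primeIdealOf ⟨x, hx⟩]
    rw [hZeq]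
    exact hlc _
  · intro h F hF hft hfl
    have hfree : ∀ x : X, Module.Free (X.presheaf.stalk x) (F.presheaf.stalk x) := fun x => by
      haveI := Groth.Agent.QCoh.finite_stalk_of_isFT hF hft x
      haveI : Module.Flat (X.presheaf.stalk x) (F.presheaf.stalk x) := hfl x
      exact Module.free_of_flat_of_isLocalRing
    refine Groth.Agent.QCoh.isFinLocFree_of_rank hF hft hfree ?_
    set r := fun x : X => Module.finrank (X.presheaf.stalk x) (F.presheaf.stalk x) with hrdef
    have hA : ∀ n : ℕ, ((Fitt.sheafIdeal F n).support : Set X) = {x | n < r x} := fun n => by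
      ext x
      obtain ⟨U, hU, hx⟩ := Groth.Agent.QCoh.exists_affine_mem x
      haveI : Module.Flat Γ(X, U) Γ(F, U) := (Groth.Agent.QCoh.flat_sections_iff hF hU).2 fun y _ => hfl y
      haveI := Groth.Agent.QCoh.finite_of_isFT hF hft hU
      rw [SetLike.mem_coe, Groth.Agent.FittX.mem_support_sheafIdeal hF hft n hU hx, Set.mem_setOf_eq, hrdef]
      simp only
      rw [← Groth.Agent.QCoh.rankAtStalk_eq_finrank hF hU hx, ← not_le,
        ← Ideal.finrank_fiber_eq_rankAtStalk, ← Groth.Agent.FittX.not_le_iff_fiber, not_not]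
    have hgen : ∀ x y : X, y ⤳ x → r y = r x := fun x y hyx => by
      obtain ⟨U, hU, hx⟩ := Groth.Agent.QCoh.exists_affine_mem x
      have hy : y ∈ U := hyx.mem_open U.2 hx
      haveI : Module.Flat Γ(X, U) Γ(F, U) := (Groth.Agent.QCoh.flat_sections_iff hF hU).2 fun z _ => hfl z
      haveI := Groth.Agent.QCoh.finite_of_isFT hF hft hU
      simp only [hrdef]
      rw [← Groth.Agent.QCoh.rankAtStalk_eq_finrank hF hU hx, ← Groth.Agent.QCoh.rankAtStalk_eq_finrank hF hU hy]
      refine Module.rankAtStalk_eq_of_le_of_finite_of_flat (R := Γ(X, U)) (M := Γ(F, U)) ?_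
      rw [PrimeSpectrum.le_iff_specializes, ← hU.fromSpec.isOpenEmbedding.isInducing.specializes_iff,
        hU.fromSpec_primeIdealOf ⟨x, hx⟩, hU.fromSpec_primeIdealOf ⟨y, hy⟩]
      exact hyx
    have hopen : ∀ n : ℕ, IsOpen {x | n < r x} := fun n =>
      h _ (by rw [← hA]; exact (Fitt.sheafIdeal F n).support.isClosed)
        fun a b hab ha => by simpa only [Set.mem_setOf_eq, hgen a b hab] using ha
    refine IsLocallyConstant.iff_isOpen_fiber.2 fun n => ?_
    have hcl : IsClosed {x | n < r x} := by rw [← hA]; exact (Fitt.sheafIdeal F n).support.isClosed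
    rcases n with _ | n
    · convert hcl.isOpen_compl using 1
      ext x; simp
    · convert (hopen n).inter hcl.isOpen_compl using 1
      ext x; simp only [Set.mem_preimage, Set.mem_singleton_iff, Set.mem_inter_iff, Set.mem_setOf_eq, Set.mem_compl_iff]; omega

end Groth.Agent.S9352
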