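import Groth.Statements.S9380
import Groth.Agent.RelSpecX.AffHom
import Groth.Agent.RelSpecX.Gamma

set_option autoImplicit false
set_option backward.isDefEq.respectTransparency false
set_option backward.isDefEq.respectTransparency.types false
universe u
open QAff

namespace Groth.Agent.S9380

open AlgebraicGeometry CategoryTheory in
/-- A quasi-compact quasi-separated morphism f : X → S is quasi-affine if and only if the canonical
S-morphism X → Spec_S(f_*O_X) (the one inducing the comparison map on direct-image algebras) exists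
as a quasi-compact open immersion. -/
theorem result {X S : Scheme.{u}} (f : X ⟶ S) [QuasiCompact f] [QuasiSeparated f] :
    MoreMor.IsQuasiAffineHom f ↔
      ∃ (c : X ⟶ (RelSpec.QCAlg.directImage f).spec) (e : c ≫ (RelSpec.QCAlg.directImage f).π = f),
        (RelSpec.QCAlg.directImage f).gammaMap = AffAlg.algHom (RelSpec.QCAlg.directImage f).π f c e ∧
          QuasiCompact c ∧ IsOpenImmersion c := by
  let A := RelSpec.QCAlg.directImage f
  have hω : A.π.c ≫ A.gammaMap = f.c := Groth.Agent.RelSpecX.hom_ext_affine f fun U hU => by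
    change A.π.app U ≫ A.gammaMap.app (Opposite.op U) = A.str.app (Opposite.op U)
    rw [A.gammaMap_app U hU]
    exact A.π_app_gammaAff U hU
  let ω : AffAlg.algHoms A.π f := ⟨A.gammaMap, hω⟩
  let c₀ := Groth.Agent.RelSpecX.ofAlgHom A.π f ω
  have hc₀ : c₀ ≫ A.π = f := Groth.Agent.RelSpecX.ofAlgHom_comp A.π f ω
  constructor
  · intro hqa
    haveI : QuasiCompact c₀ := by
      haveI : QuasiCompact (c₀ ≫ A.π) := by rw [hc₀]; infer_instance
      exact QuasiCompact.of_comp c₀ A.π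
    refine ⟨c₀, hc₀, (Groth.Agent.RelSpecX.algHom_ofAlgHom A.π f ω).symm, inferInstance, ?_⟩
    refine IsZariskiLocalAtTarget.of_iSup_eq_top (P := @IsOpenImmersion)
      (fun U : S.affineOpens => A.π ⁻¹ᵁ U.1) (TopologicalSpace.IsOpenCover.comap (iSup_affineOpens_eq_top S) A.π.base.1) fun U => ?_
    haveI := hqa.2 U.1 U.2
    haveI : IsIso (Spec.map (ω.1.app (Opposite.op U.1))) := by
      haveI : IsIso (ω.1.app (Opposite.op U.1)) := (haveI : IsIso A.gammaMap := Groth.Agent.RelSpecX.isIso_gammaMap A; (NatIso.isIso_app_of_isIso A.gammaMap (Opposite.op U.1) :))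
      infer_instance
    haveI h1 : IsOpenImmersion ((f ⁻¹ᵁ U.1).ι ≫ c₀) := by
      rw [Groth.Agent.RelSpecX.ι_ofAlgHom]
      haveI : IsOpenImmersion (f ⁻¹ᵁ U.1).toSpecΓ := by
        haveI : IsOpenImmersion (f ⁻¹ᵁ U.1 : Scheme.{u}).toSpecΓ := inferInstance
        exact IsOpenImmersion.comp _ _
      haveI : IsOpenImmersion (Spec.map (ω.1.app (Opposite.op U.1))) := IsOpenImmersion.of_isIso _
      haveI : IsOpenImmersion (U.2.preimage A.π).fromSpec := IsAffineOpen.isOpenImmersion_fromSpec _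
      haveI := IsOpenImmersion.comp (Spec.map (ω.1.app (Opposite.op U.1))) (U.2.preimage A.π).fromSpec
      exact IsOpenImmersion.comp _ _
    have hpre : c₀ ⁻¹ᵁ (A.π ⁻¹ᵁ U.1) = f ⁻¹ᵁ U.1 := by rw [← Scheme.Hom.comp_preimage, hc₀]
    have e : (c₀ ∣_ (A.π ⁻¹ᵁ U.1)) ≫ (A.π ⁻¹ᵁ U.1).ι = (X.isoOfEq hpre).hom ≫ (f ⁻¹ᵁ U.1).ι ≫ c₀ := by
      rw [morphismRestrict_ι, ← Category.assoc, Scheme.isoOfEq_hom_ι]
    haveI : IsOpenImmersion ((c₀ ∣_ (A.π ⁻¹ᵁ U.1)) ≫ (A.π ⁻¹ᵁ U.1).ι) := by rw [e]; infer_instance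
    exact IsOpenImmersion.of_comp _ (A.π ⁻¹ᵁ U.1).ι
  · rintro ⟨c, e, hg, hqc, hoi⟩
    have hc : c = c₀ := Groth.Agent.RelSpecX.algHom_injective A.π f e hc₀ fun U => by
      rw [Groth.Agent.RelSpecX.algHom_ofAlgHom]
      exact (congrArg (fun α => α.app (Opposite.op U.1)) hg).symm
    subst hc
    refine ⟨inferInstance, fun V hV => ?_⟩
    haveI : IsIso (Spec.map (ω.1.app (Opposite.op V))) := by
      haveI : IsIso (ω.1.app (Opposite.op V)) := (haveI : IsIso A.gammaMap := Groth.Agent.RelSpecX.isIso_gammaMap A; (NatIso.isIso_app_of_isIso A.gammaMap (Opposite.op V) :))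
      infer_instance
    haveI h1 : IsOpenImmersion ((f ⁻¹ᵁ V).toSpecΓ ≫ Spec.map (ω.1.app (Opposite.op V)) ≫ (hV.preimage A.π).fromSpec) := by
      rw [← Groth.Agent.RelSpecX.ι_ofAlgHom A.π f ω ⟨V, hV⟩]; infer_instance
    haveI : IsOpenImmersion (f ⁻¹ᵁ V).toSpecΓ :=
      IsOpenImmersion.of_comp _ (Spec.map (ω.1.app (Opposite.op V)) ≫ (hV.preimage A.π).fromSpec)
    haveI : CompactSpace (f ⁻¹ᵁ V : Scheme.{u}) := isCompact_iff_compactSpace.mp (f.isCompact_preimage hV.isCompact)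
    haveI : IsOpenImmersion (f ⁻¹ᵁ V : Scheme.{u}).toSpecΓ := by
      haveI : IsOpenImmersion ((f ⁻¹ᵁ V : Scheme.{u}).toSpecΓ ≫ Spec.map (f ⁻¹ᵁ V).topIso.inv) :=
        inferInstanceAs (IsOpenImmersion (f ⁻¹ᵁ V).toSpecΓ)
      exact IsOpenImmersion.of_comp _ (Spec.map (f ⁻¹ᵁ V).topIso.inv)
    constructor

end Groth.Agent.S9380
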