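import Groth.Statements.S9383
import Groth.Agent.RingPO.Recognize
import Groth.Agent.RingPO.BaseChange

set_option autoImplicit false
set_option backward.isDefEq.respectTransparency false
set_option backward.isDefEq.respectTransparency.types false
universe u
open QCohSub

namespace Groth.Agent.S9383

open AlgebraicGeometry CategoryTheory in
/-- For closed subschemes X, Y ⊆ S with ideal sheaves I, J, the scheme-theoretic union (ideal sheaf I ⊓
J) is the pushout, in the category of schemes, of X and Y along the scheme-theoretic intersection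
(ideal sheaf I ⊔ J). The exact sequence 0 → O_{X∪Y} → O_X × O_Y → O_{X∩Y} → 0 is not stated. -/
theorem result (S : Scheme.{u}) (I J : S.IdealSheafData) :
    IsPushout (Scheme.IdealSheafData.inclusion (le_sup_left : I ≤ I ⊔ J))
      (Scheme.IdealSheafData.inclusion (le_sup_right : J ≤ I ⊔ J))
      (Scheme.IdealSheafData.inclusion (inf_le_left : I ⊓ J ≤ I))
      (Scheme.IdealSheafData.inclusion (inf_le_right : I ⊓ J ≤ J)) := by
  let a := Scheme.IdealSheafData.inclusion (inf_le_left : I ⊓ J ≤ I)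
  let b := Scheme.IdealSheafData.inclusion (inf_le_right : I ⊓ J ≤ J)
  let i := Scheme.IdealSheafData.inclusion (le_sup_left : I ≤ I ⊔ J)
  let j := Scheme.IdealSheafData.inclusion (le_sup_right : J ≤ I ⊔ J)
  have w : i ≫ a = j ≫ b := by
    rw [← cancel_mono (I ⊓ J).subschemeι]; simp [i, j, a, b]
  show IsPushout i j a b
  have key : ∀ U : S.affineOpens, ∃ M : RingPO.Model i j a b, (I ⊓ J).subschemeι ⁻¹' (U.1 : Set S) ⊆ Set.range M.φ := by
    intro U
    have hU := U.2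
    let W := (I ⊓ J).subschemeι ⁻¹ᵁ U.1
    have hW : IsAffineOpen W := hU.preimage _
    have hX : IsAffineOpen (a ⁻¹ᵁ W) := hW.preimage a
    have hY : IsAffineOpen (b ⁻¹ᵁ W) := hW.preimage b
    have hZ : IsAffineOpen (i ⁻¹ᵁ a ⁻¹ᵁ W) := hX.preimage i
    have eZ : i ⁻¹ᵁ a ⁻¹ᵁ W = j ⁻¹ᵁ b ⁻¹ᵁ W := by
      rw [← Scheme.Hom.comp_preimage, w, Scheme.Hom.comp_preimage]
    let α := a.appLE W (a ⁻¹ᵁ W) le_rfl
    let β := b.appLE W (b ⁻¹ᵁ W) le_rfl
    let p := i.appLE (a ⁻¹ᵁ W) (i ⁻¹ᵁ a ⁻¹ᵁ W) le_rfl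
    let q := j.appLE (b ⁻¹ᵁ W) (i ⁻¹ᵁ a ⁻¹ᵁ W) eZ.le
    let π := (I ⊓ J).subschemeι.appLE U.1 W le_rfl
    have hgen : ∀ (K : S.IdealSheafData) {V : K.subscheme.Opens} (h : V ≤ K.subschemeι ⁻¹ᵁ U.1)
        (hV : V = K.subschemeι ⁻¹ᵁ U.1) (r : Γ(S, U.1)),
        (K.subschemeι.appLE U.1 V h r = 0 ↔ r ∈ K.ideal U) ∧ ∀ z, ∃ r, K.subschemeι.appLE U.1 V h r = z := by
      intro K V h hV r
      subst hV
      simp only [← Scheme.Hom.app_eq_appLE]
      refine ⟨?_, fun z => K.subschemeι.app_surjective U.1 hU z⟩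
      have := congrArg (fun K : S.IdealSheafData => K.ideal U) K.ker_subschemeι
      simp only [Scheme.Hom.ker_apply] at this
      rw [← this, RingHom.mem_ker]
    have hπ : Function.Surjective π ∧ ∀ r, π r = 0 ↔ r ∈ I.ideal U ⊓ J.ideal U :=
      ⟨(hgen (I ⊓ J) le_rfl rfl 0).2, fun r => (hgen (I ⊓ J) le_rfl rfl r).1⟩
    have eX : a ⁻¹ᵁ W = I.subschemeι ⁻¹ᵁ U.1 := by
      show a ⁻¹ᵁ (I ⊓ J).subschemeι ⁻¹ᵁ U.1 = _
      rw [← Scheme.Hom.comp_preimage, Scheme.IdealSheafData.inclusion_subschemeι]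
    have eY : b ⁻¹ᵁ W = J.subschemeι ⁻¹ᵁ U.1 := by
      show b ⁻¹ᵁ (I ⊓ J).subschemeι ⁻¹ᵁ U.1 = _
      rw [← Scheme.Hom.comp_preimage, Scheme.IdealSheafData.inclusion_subschemeι]
    have eZ' : i ⁻¹ᵁ a ⁻¹ᵁ W = (I ⊔ J).subschemeι ⁻¹ᵁ U.1 := by
      rw [eX, ← Scheme.Hom.comp_preimage, Scheme.IdealSheafData.inclusion_subschemeι]
    have hα : ∀ r, α (π r) = I.subschemeι.appLE U.1 (a ⁻¹ᵁ W) eX.le r := fun r => by
      rw [← ConcreteCategory.comp_apply, Scheme.Hom.appLE_comp_appLE]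
      simp only [a, Scheme.IdealSheafData.inclusion_subschemeι]
    have hβ : ∀ r, β (π r) = J.subschemeι.appLE U.1 (b ⁻¹ᵁ W) eY.le r := fun r => by
      rw [← ConcreteCategory.comp_apply, Scheme.Hom.appLE_comp_appLE]
      simp only [b, Scheme.IdealSheafData.inclusion_subschemeι]
    have hp : ∀ r, p (I.subschemeι.appLE U.1 (a ⁻¹ᵁ W) eX.le r) =
        (I ⊔ J).subschemeι.appLE U.1 (i ⁻¹ᵁ a ⁻¹ᵁ W) eZ'.le r := fun r => by
      rw [← ConcreteCategory.comp_apply, Scheme.Hom.appLE_comp_appLE]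
      simp only [i, Scheme.IdealSheafData.inclusion_subschemeι]
    have hq : ∀ r, q (J.subschemeι.appLE U.1 (b ⁻¹ᵁ W) eY.le r) =
        (I ⊔ J).subschemeι.appLE U.1 (i ⁻¹ᵁ a ⁻¹ᵁ W) eZ'.le r := fun r => by
      rw [← ConcreteCategory.comp_apply, Scheme.Hom.appLE_comp_appLE]
      simp only [j, Scheme.IdealSheafData.inclusion_subschemeι]
    have h : RingPO.IsFibreProd p.hom q.hom α.hom β.hom :=
      { surj := fun z => by
          obtain ⟨r, hr⟩ := (hgen (I ⊔ J) eZ'.le eZ' 0).2 z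
          exact ⟨_, (hp r).trans hr⟩
        comm := fun z => by
          obtain ⟨r, rfl⟩ := hπ.1 z
          show p (α (π r)) = q (β (π r))
          rw [hα, hβ, hp, hq]
        ext := fun z z' h1 h2 => by
          obtain ⟨r, rfl⟩ := hπ.1 z
          obtain ⟨r', rfl⟩ := hπ.1 z'
          rw [← sub_eq_zero, ← map_sub, hπ.2]
          refine ⟨((hgen I eX.le eX _).1).1 ?_, ((hgen J eY.le eY _).1).1 ?_⟩
          · rw [map_sub, sub_eq_zero, ← hα, ← hα]; exact h1
          · rw [map_sub, sub_eq_zero, ← hβ, ← hβ]; exact h2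
        exists_of_eq := fun zb za he => by
          obtain ⟨ra, rfl⟩ := (hgen I eX.le eX 0).2 za
          obtain ⟨rb, rfl⟩ := (hgen J eY.le eY 0).2 zb
          have he' : ra - rb ∈ I.ideal U ⊔ J.ideal U := by
            have h1 := (hgen (I ⊔ J) eZ'.le eZ' (ra - rb)).1
            rw [Scheme.IdealSheafData.ideal_sup, Pi.sup_apply, map_sub, sub_eq_zero] at h1
            exact h1.1 ((hp ra).symm.trans (he.trans (hq rb)))
          obtain ⟨x, hx, y, hy, hxy⟩ := Submodule.mem_sup.1 he'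
          refine ⟨π (ra - x), ?_, ?_⟩
          · show α (π (ra - x)) = _
            rw [hα, map_sub, ((hgen I eX.le eX x).1).2 hx, sub_zero]
          · show β (π (ra - x)) = _
            rw [hβ, show ra - x = rb + y by linear_combination -hxy, map_add, ((hgen J eY.le eY y).1).2 hy, add_zero] }
    refine ⟨⟨_, _, _, _, p.hom, q.hom, α.hom, β.hom, h, hW.fromSpec, hX.fromSpec, hY.fromSpec, hZ.fromSpec,
      ?_, ?_, ?_, ?_⟩, ?_⟩
    · exact (hX.SpecMap_appLE_fromSpec i hZ le_rfl).symm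
    · exact (hY.SpecMap_appLE_fromSpec j hZ eZ.le).symm
    · exact RingPO.isPullback_fromSpec a hW
    · exact RingPO.isPullback_fromSpec b hW
    · exact hW.range_fromSpec.ge
  choose M hM using key
  refine RingPO.isPushout_of_models w (κ := S.affineOpens) M fun x => ?_
  obtain ⟨_, ⟨U, hU, rfl⟩, hxU, -⟩ := S.isBasis_affineOpens.exists_subset_of_mem_open
    (Set.mem_univ ((I ⊓ J).subschemeι x)) isOpen_univ
  exact ⟨⟨U, hU⟩, hM ⟨U, hU⟩ hxU⟩

end Groth.Agent.S9383
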