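import Groth.Statements.S9440
import Groth.Agent.S2072
import Groth.Agent.S0566
import Groth.Agent.S0576

set_option autoImplicit false
universe u
open CAlg

namespace Groth.Agent.S9440

variable {R : Type u} [CommRing R] [IsLocalRing R] [IsNoetherianRing R]

theorem isN2_quot (p : Ideal R) [p.IsPrime]
    (h : ∀ (S : Type u) [CommRing S] [IsDomain S] [IsLocalRing S] [Algebra R S]
      [IsLocalHom (algebraMap R S)] [Module.Finite R S],
      IsReduced (AdicCompletion (IsLocalRing.maximalIdeal S) S)) : CAlg.IsN2 (R ⧸ p) := by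
  classical
  intro L _ _ _ _ hfd
  let A := R ⧸ p
  let K := FractionRing A
  haveI : IsLocalRing A := .of_surjective' _ Ideal.Quotient.mk_surjective
  have hinj : Function.Injective (algebraMap A L) := by
    rw [IsScalarTower.algebraMap_eq A K L]
    exact (algebraMap K L).injective.comp (IsFractionRing.injective A K)
  haveI : FaithfulSMul A L := (faithfulSMul_iff_algebraMap_injective A L).2 hinj
  by_cases hm : IsLocalRing.maximalIdeal A = ⊥
  · have hF : IsField A := IsLocalRing.isField_iff_maximalIdeal_eq.2 hm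
    have hbij : Function.Bijective (algebraMap A K) := by
      letI := hF.toField
      exact (IsLocalization.atUnits A (nonZeroDivisors A) (S := K)
        (fun x hx => (Ne.isUnit (nonZeroDivisors.ne_zero hx)))).bijective
    haveI : Module.Finite A K := Module.Finite.of_surjective (Algebra.linearMap A K) hbij.2
    haveI : Module.Finite A L := Module.Finite.trans K L
    exact Module.Finite.of_injective (integralClosure A L).val.toLinearMap Subtype.val_injective
  obtain ⟨t, ht, ht0⟩ := (Submodule.ne_bot_iff _).1 hm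
  obtain ⟨s, b, hb⟩ := FiniteDimensional.exists_is_basis_integral A K L
  let B : Subalgebra A L := Algebra.adjoin A (Set.range b)
  have hBfg : B.toSubmodule.FG :=
    fg_adjoin_of_finite (Set.finite_range b) (by rintro _ ⟨i, rfl⟩; exact hb i)
  let N : Submodule A L := IsLocalRing.maximalIdeal A • B.toSubmodule
  have hNB : N ≤ B.toSubmodule := Submodule.smul_le_right
  have hNN : ∀ x ∈ N, ∀ y ∈ B.toSubmodule, x * y ∈ N := by
    intro x hx y hy
    induction hx using Submodule.smul_induction_on' with
    | smul r hr n hn => rw [smul_mul_assoc]; exact Submodule.smul_mem_smul hr (B.mul_mem hn hy)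
    | add x _ y' _ h1 h2 => rw [add_mul]; exact add_mem h1 h2
  let S : Subalgebra A L :=
    { carrier := {z | ∃ a : A, ∃ x ∈ N, z = algebraMap A L a + x}
      mul_mem' := by
        rintro _ _ ⟨a, x, hx, rfl⟩ ⟨c, y, hy, rfl⟩
        refine ⟨a * c, algebraMap A L a * y + x * (algebraMap A L c + y), add_mem ?_ ?_, by rw [map_mul]; ring⟩
        · rw [← Algebra.smul_def]; exact N.smul_mem a hy
        · exact hNN x hx _ (add_mem (B.algebraMap_mem c) (hNB hy))
      add_mem' := by
        rintro _ _ ⟨a, x, hx, rfl⟩ ⟨c, y, hy, rfl⟩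
        exact ⟨a + c, x + y, add_mem hx hy, by rw [map_add]; ring⟩
      algebraMap_mem' := fun a => ⟨a, 0, zero_mem _, by rw [add_zero]⟩ }
  have hSB : S.toSubmodule ≤ B.toSubmodule := by
    rintro _ ⟨a, x, hx, rfl⟩
    exact add_mem (B.algebraMap_mem a) (hNB hx)
  haveI : IsNoetherian A B.toSubmodule := isNoetherian_of_fg_of_noetherian _ hBfg
  haveI : Module.Finite A S := Module.Finite.of_injective (Submodule.inclusion hSB) (Submodule.inclusion_injective hSB)
  haveI : Algebra.IsIntegral A S := Algebra.IsIntegral.of_finite A S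
  have hmem : ∀ x ∈ N, x ∈ S := fun x hx => ⟨0, x, hx, by rw [map_zero, zero_add]⟩
  have hover : ∀ M : Ideal S, M.IsMaximal → M.comap (algebraMap A S) = IsLocalRing.maximalIdeal A := by
    intro M hM
    exact IsLocalRing.eq_maximalIdeal (Ideal.isMaximal_comap_of_isIntegral_of_isMaximal M)
  have hNM : ∀ M : Ideal S, M.IsMaximal → ∀ x (hx : x ∈ N), (⟨x, hmem x hx⟩ : S) ∈ M := by
    intro M hM x hx
    refine hM.isPrime.mem_of_pow_mem 2 ?_
    have key : ∀ y ∈ N, ∀ hy : x * y ∈ S, (⟨x * y, hy⟩ : S) ∈ M := by
      intro y hy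
      induction hy using Submodule.smul_induction_on' with
      | smul r hr n hn =>
        intro hxy
        have e : (⟨x * (r • n), hxy⟩ : S) = algebraMap A S r * ⟨x * n, hmem _ (hNN x hx n hn)⟩ := by
          apply Subtype.ext
          simp [Algebra.smul_def]; ring
        rw [e]
        exact M.mul_mem_right _ (by rw [← Ideal.mem_comap, hover M hM]; exact hr)
      | add y₁ h₁ y₂ h₂ i₁ i₂ =>
        intro hxy
        have e : (⟨x * (y₁ + y₂), hxy⟩ : S) =
            ⟨x * y₁, hmem _ (hNN x hx _ (hNB h₁))⟩ + ⟨x * y₂, hmem _ (hNN x hx _ (hNB h₂))⟩ :=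
          Subtype.ext (mul_add x y₁ y₂)
        rw [e]
        exact add_mem (i₁ _) (i₂ _)
    have := key x hx (hmem _ (hNN x hx x (hNB hx)))
    rwa [pow_two]
  haveI : IsLocalRing S := by
    obtain ⟨M₀, hM₀⟩ := Ideal.exists_maximal S
    refine IsLocalRing.of_unique_max_ideal ⟨M₀, hM₀, fun M hM => hM.eq_of_le hM₀.ne_top ?_⟩
    intro z hz
    obtain ⟨a, x, hx, hzx⟩ := z.2
    have e : z = algebraMap A S a + ⟨x, hmem x hx⟩ := Subtype.ext (by simpa using hzx)
    rw [e] at hz ⊢
    have ha : algebraMap A S a ∈ M := (add_mem_cancel_right (hNM M hM x hx)).1 hz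
    refine add_mem ?_ (hNM M₀ hM₀ x hx)
    rw [← Ideal.mem_comap, hover M hM] at ha
    rw [← Ideal.mem_comap, hover M₀ hM₀]
    exact ha
  letI : Algebra R S := ((algebraMap A S).comp (Ideal.Quotient.mk p)).toAlgebra
  haveI : IsScalarTower R A S := IsScalarTower.of_algebraMap_eq' rfl
  haveI : Module.Finite R S := Module.Finite.trans A S
  haveI : IsLocalHom (algebraMap R S) := by
    refine ⟨fun r hr => ?_⟩
    haveI : IsLocalHom (Ideal.Quotient.mk p) := IsLocalHom.of_surjective _ Ideal.Quotient.mk_surjective
    refine isUnit_of_map_unit (Ideal.Quotient.mk p) r ?_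
    by_contra hn
    obtain ⟨M, hM, hrM⟩ := exists_max_ideal_of_mem_nonunits (a := (Ideal.Quotient.mk p r)) hn
    have hmax := hover (IsLocalRing.maximalIdeal S) inferInstance
    have : Ideal.Quotient.mk p r ∈ IsLocalRing.maximalIdeal A := hn
    rw [← hmax, Ideal.mem_comap] at this
    exact this hr
  haveI : IsNoetherianRing S := IsNoetherianRing.of_finite A S
  haveI := h S
  have hN1 : CAlg.IsN1 S := Groth.Agent.S2072.result
  haveI : IsFractionRing S L := by
    refine IsFractionRing.of_field S L fun z => ?_
    obtain ⟨a, ha0, hz⟩ : ∃ a : A, a ≠ 0 ∧ a • z ∈ B.toSubmodule := by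
      obtain ⟨d, hd⟩ := IsLocalization.exist_integer_multiples (nonZeroDivisors A) Finset.univ (fun i => b.repr z i)
      refine ⟨d, nonZeroDivisors.ne_zero d.2, ?_⟩
      rw [← b.sum_repr z, Finset.smul_sum]
      refine Submodule.sum_mem _ fun i _ => ?_
      obtain ⟨c, hc⟩ := hd i (Finset.mem_univ i)
      rw [← smul_assoc, ← hc, algebraMap_smul]
      exact Submodule.smul_mem _ c (Algebra.subset_adjoin ⟨i, rfl⟩)
    refine ⟨⟨t • (a • z), hmem _ (Submodule.smul_mem_smul ht hz)⟩, algebraMap A S (t * a), ?_⟩
    show z = t • (a • z) / algebraMap A L (t * a)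
    rw [eq_div_iff ((map_ne_zero_iff _ hinj).2 (mul_ne_zero ht0 ha0)), smul_smul, Algebra.smul_def, mul_comm]
  haveI : Module.Finite S (integralClosure S (FractionRing S)) := hN1
  have hfinS : Module.Finite S (integralClosure S L) :=
    Module.Finite.equiv (((FractionRing.algEquiv S L).mapIntegralClosure).toLinearEquiv)
  haveI := hfinS
  haveI : Module.Finite A (integralClosure S L) := Module.Finite.trans S _
  let f : integralClosure A L →ₗ[A] integralClosure S L :=
    { toFun := fun z => ⟨z.1, IsIntegral.tower_top z.2⟩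
      map_add' := fun _ _ => rfl
      map_smul' := fun _ _ => rfl }
  exact Module.Finite.of_injective f fun z w hzw => Subtype.ext (congrArg (fun u : integralClosure S L => (u : L)) hzw)

/-- (1) ⇔ (3): a Noetherian local ring R is a Nagata ring if and only if for every finite local
homomorphism R → S of local rings with S a domain, the completion of S is reduced. -/
theorem result (R : Type u) [CommRing R]
    [IsLocalRing R] [IsNoetherianRing R] :
    CAlg.IsNagata R ↔ ∀ (S : Type u) [CommRing S] [IsDomain S] [IsLocalRing S] [Algebra R S]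
      [IsLocalHom (algebraMap R S)] [Module.Finite R S],
      IsReduced (AdicCompletion (IsLocalRing.maximalIdeal S) S) := by
  constructor
  · intro hR S _ _ _ _ _ _
    exact Groth.Agent.S0576.result S (Groth.Agent.S0566.result R hR S)
  · intro h
    exact ⟨inferInstance, fun p _ => isN2_quot p h⟩

end Groth.Agent.S9440
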