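import Groth.Statements.S9485
import Groth.Agent.Pi1X.FEtBasic
import Mathlib.RingTheory.Ideal.KrullsHeightTheorem

set_option autoImplicit false
set_option backward.isDefEq.respectTransparency.types false
universe u
open Pi1

namespace Groth.Agent.S9485

open AlgebraicGeometry CategoryTheory CategoryTheory.Limits in
/-- Let A be a Noetherian local ring with maximal ideal m and f ∈ m, U the punctured spectrum of A and
U₀ that of A/fA (realised as U ×_{Spec A} Spec(A/fA)). Let U' ⊆ U be an open through which U₀ ⟶ Spec
A factors (as u'). If dim(A/p) ≥ 2 for every minimal prime p of A which lies in U' and does not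
contain f, then restriction of finite etale covers along u' is faithful. (Such U' exist, e.g. the
complement in U of the one-dimensional irreducible components not meeting U₀, and the condition
passes to smaller such opens, so restriction from the system of these opens is faithful.) -/
theorem result (A : Type u) [CommRing A] [IsNoetherianRing A] [IsLocalRing A] (f : A) (hf : f ∈ IsLocalRing.maximalIdeal A)
    (U' : (Spec (CommRingCat.of A)).Opens) (hU' : U' ≤ FEt.puncturedSpec A)
    (u' : pullback (FEt.puncturedSpec A).ι (Spec.map (CommRingCat.ofHom (Ideal.Quotient.mk (Ideal.span {f})))) ⟶ (U' : Scheme.{u})) (hu' : u' ≫ U'.ι = (pullback.fst (FEt.puncturedSpec A).ι (Spec.map (CommRingCat.ofHom (Ideal.Quotient.mk (Ideal.span {f})))) ≫ (FEt.puncturedSpec A).ι))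
    (hdim : ∀ p : PrimeSpectrum A, p.asIdeal ∈ minimalPrimes A → p ∈ U' → f ∉ p.asIdeal →
      (2 : WithBot ℕ∞) ≤ ringKrullDim (A ⧸ p.asIdeal)) :
    (FEt.restrict u').Faithful := by
  haveI hF : (FEt.restrict u').Faithful := by
    refine Groth.Agent.Pi1X.restrict_faithful u' fun C hC hne => ?_
    obtain ⟨x, hx⟩ := hne
    obtain ⟨p, hp, hpx⟩ := Ideal.exists_minimalPrimes_le (I := (⊥ : Ideal A)) (J := (U'.ι x).asIdeal) bot_le
    let P : PrimeSpectrum A := ⟨p, hp.1.1⟩
    have hxU : U'.ι x ∈ U' := x.2
    have hspec : P ⤳ U'.ι x := (PrimeSpectrum.le_iff_specializes P (U'.ι x)).1 hpx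
    have hPU : P ∈ U' := hspec.mem_open U'.2 hxU
    let P' : (U' : Scheme.{u}) := ⟨P, hPU⟩
    have hspec' : P' ⤳ x := (U'.ι.isOpenEmbedding.isInducing.specializes_iff).1 hspec
    have hP'C : P' ∈ C := hspec'.mem_open hC.2 hx
    obtain ⟨q, hpq, hfq, hqm⟩ : ∃ q : PrimeSpectrum A, p ≤ q.asIdeal ∧ f ∈ q.asIdeal ∧
        q.asIdeal ≠ IsLocalRing.maximalIdeal A := by
      by_cases hfp : f ∈ p
      · refine ⟨P, le_rfl, hfp, fun h => ?_⟩
        have := hU' hPU
        exact this (PrimeSpectrum.ext h)
      · haveI : p.IsPrime := hp.1.1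
        haveI : IsLocalRing (A ⧸ p) := IsLocalRing.of_surjective' (Ideal.Quotient.mk p) Ideal.Quotient.mk_surjective
        haveI := IsLocalHom.of_surjective (Ideal.Quotient.mk p) Ideal.Quotient.mk_surjective
        have hfm : Ideal.Quotient.mk p f ∈ IsLocalRing.maximalIdeal (A ⧸ p) :=
          map_nonunit (Ideal.Quotient.mk p) f hf
        obtain ⟨Q, hQ, -⟩ := Ideal.exists_minimalPrimes_le
          (I := Ideal.span {Ideal.Quotient.mk p f}) (J := IsLocalRing.maximalIdeal (A ⧸ p))
          ((Ideal.span_singleton_le_iff_mem _).2 hfm)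
        haveI : Q.IsPrime := hQ.1.1
        refine ⟨⟨Q.comap (Ideal.Quotient.mk p), inferInstance⟩, fun a ha => ?_, ?_, fun h => ?_⟩
        · rw [Ideal.mem_comap, Ideal.Quotient.eq_zero_iff_mem.2 ha]
          exact zero_mem _
        · exact Ideal.mem_comap.2 (hQ.1.2 (Ideal.mem_span_singleton_self _))
        · have hh : Q.height ≤ 1 := Ideal.height_le_one_of_isPrincipal_of_mem_minimalPrimes _ Q hQ
          have hQm : Q = IsLocalRing.maximalIdeal (A ⧸ p) := by
            have hmax : (Q.comap (Ideal.Quotient.mk p)).IsMaximal := by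
              rw [show Q.comap (Ideal.Quotient.mk p) = IsLocalRing.maximalIdeal A from h]
              infer_instance
            have := Ideal.map_eq_top_or_isMaximal_of_surjective (Ideal.Quotient.mk p)
              Ideal.Quotient.mk_surjective hmax
            rw [Ideal.map_comap_of_surjective _ Ideal.Quotient.mk_surjective] at this
            exact IsLocalRing.eq_maximalIdeal (this.resolve_left (Ideal.IsPrime.ne_top inferInstance))
          have h2 := hdim P hp hPU hfp
          rw [← IsLocalRing.maximalIdeal_height_eq_ringKrullDim, ← hQm] at h2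
          exact absurd (le_trans (WithBot.coe_le_coe.1 (by exact h2)) hh) (by norm_num)
    have hqV : q ∈ Set.range (Spec.map (CommRingCat.ofHom (Ideal.Quotient.mk (Ideal.span {f})))).base := by
      change q ∈ Set.range (PrimeSpectrum.comap (Ideal.Quotient.mk (Ideal.span {f})))
      rw [range_comap_of_surjective _ _ Ideal.Quotient.mk_surjective, Ideal.mk_ker,
        PrimeSpectrum.mem_zeroLocus, SetLike.coe_subset_coe, Ideal.span_singleton_le_iff_mem]
      exact hfq
    have hqP : q ∈ FEt.puncturedSpec A := fun h => hqm (congrArg PrimeSpectrum.asIdeal h)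
    obtain ⟨z, hz⟩ : (⟨q, hqP⟩ : (FEt.puncturedSpec A : Scheme.{u})) ∈ Set.range
        (pullback.fst (FEt.puncturedSpec A).ι (Spec.map (CommRingCat.ofHom (Ideal.Quotient.mk (Ideal.span {f}))))).base := by
      rw [Scheme.Pullback.range_fst]
      exact hqV
    have hzq : U'.ι (u' z) = q := by
      rw [← Scheme.Hom.comp_apply, hu', Scheme.Hom.comp_apply, hz]
      rfl
    refine ⟨u' z, (U'.ι.isOpenEmbedding.isInducing.specializes_iff.1 ?_).mem_closed hC.1 hP'C, z, rfl⟩
    rw [hzq]
    exact (PrimeSpectrum.le_iff_specializes P q).1 hpq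
  exact hF

end Groth.Agent.S9485
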