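import Groth.Statements.S9491
import Groth.Agent.NormUniq.EssImage

set_option autoImplicit false
universe u
open Pi1

namespace Groth.Agent.S9491

open AlgebraicGeometry CategoryTheory CategoryTheory.Limits in
/-- The essential image of restriction of finite etale covers from a normal integral scheme X to its
generic point Spec K consists of the finite etale K-schemes whose points are spectra of finite
extensions L of K in which X is unramified. Precisely: let L be a finite field extension of K and Y₀
the object Spec L → Spec K of the category of finite etale covers of Spec K; then Y₀ is isomorphic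
to the restriction of a finite etale cover of X if and only if the normalization of X in Spec L is
finite etale over X. (With full faithfulness of this restriction functor for normal X, this says
that the fundamental group of X is the Galois group of the union M of all finite subextensions of a
separable closure in which X is unramified.) -/
theorem result {X : Scheme.{u}} [IsIntegral X] (hX : Pi1.IsNormalScheme X)
    (L : Type u) [Field L] [Algebra X.functionField L] [FiniteDimensional X.functionField L]
    [QuasiCompact (Spec.map (CommRingCat.ofHom (algebraMap X.functionField L)) ≫ X.fromSpecStalk (genericPoint X))] [QuasiSeparated (Spec.map (CommRingCat.ofHom (algebraMap X.functionField L)) ≫ X.fromSpecStalk (genericPoint X))]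
    (Y₀ : FEt.Cat (Spec X.functionField)) (e : Y₀.left ≅ Spec (CommRingCat.of L))
    (he : e.hom ≫ Spec.map (CommRingCat.ofHom (algebraMap X.functionField L)) = Y₀.hom) :
    (FEt.restrict (X.fromSpecStalk (genericPoint X))).essImage Y₀ ↔
      (Etale (Spec.map (CommRingCat.ofHom (algebraMap X.functionField L)) ≫ X.fromSpecStalk (genericPoint X)).fromNormalization ∧ IsFinite (Spec.map (CommRingCat.ofHom (algebraMap X.functionField L)) ≫ X.fromSpecStalk (genericPoint X)).fromNormalization) := by
  let φ : X.functionField →+* L := algebraMap X.functionField L
  have hint : φ.IsIntegral := fun y => Algebra.IsIntegral.isIntegral y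
  constructor
  · rintro ⟨Z, ⟨a⟩⟩
    haveI : IsFinite Z.hom := Z.prop.1
    haveI : Etale Z.hom := Z.prop.2
    let b := (MorphismProperty.Over.forget _ _ _ ⋙ CategoryTheory.Over.forget _).mapIso a
    let c : Spec (CommRingCat.of L) ⟶ pullback Z.hom (X.fromSpecStalk (genericPoint X)) := e.inv ≫ b.inv
    haveI : IsIso c := inferInstanceAs (IsIso (e.inv ≫ b.inv))
    refine Groth.Agent.NormUniq.finite_etale_of_generic φ _ rfl hint hX Z.hom c ?_
    show (e.inv ≫ b.inv) ≫ pullback.snd _ _ = _
    have hb : b.inv ≫ pullback.snd Z.hom (X.fromSpecStalk (genericPoint X)) = Y₀.hom := a.inv.w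
    rw [Category.assoc]
    exact (congrArg (e.inv ≫ ·) (hb.trans he.symm)).trans (e.inv_hom_id_assoc _)
  · rintro ⟨h1, h2⟩
    haveI := h1
    obtain ⟨i, hi, hi'⟩ := Groth.Agent.NormUniq.generic_of_finite_etale φ
      (Spec.map (CommRingCat.ofHom (algebraMap X.functionField L)) ≫ X.fromSpecStalk (genericPoint X)) rfl hint
    haveI := hi
    refine ⟨MorphismProperty.Over.mk ⊤ _ (⟨h2, h1⟩ : FEt.prop _), ⟨?_⟩⟩
    refine MorphismProperty.Over.isoMk ((asIso i).symm ≪≫ e.symm) ?_
    show (inv i ≫ e.inv) ≫ Y₀.hom = pullback.snd _ _
    rw [Category.assoc, ← he, e.inv_hom_id_assoc, IsIso.inv_comp_eq]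
    exact hi'.symm

end Groth.Agent.S9491
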