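import Groth.Statements.S9494
import Groth.Agent.InertInv.Level
import Groth.Agent.IndEtLib.Sys

set_option autoImplicit false
set_option maxHeartbeats 1600000
universe u
open Pi1

namespace Groth.Agent.S9494

/-- Let A be an integrally closed domain with fraction field K, L/K a (possibly infinite) Galois
extension with group G = Gal(L/K), B the integral closure of A in L and q a prime of B. Let I ⊆ G be
the inertia group of q: the automorphisms σ with σ(b) - b ∈ q for every b ∈ B. Then the localization
of the ring of invariants B^I = B ∩ L^I at the prime q ∩ B^I is an ind-etale A-algebra, i.e. a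
filtered colimit of etale A-algebras. -/
theorem result (A K L : Type u) [CommRing A] [IsDomain A] [IsIntegrallyClosed A]
    [Field K] [Field L] [Algebra A K] [IsFractionRing A K] [Algebra K L] [Algebra A L] [IsScalarTower A K L]
    [IsGalois K L] (q : Ideal (integralClosure A L)) [q.IsPrime]
    (I : Subgroup (L ≃ₐ[K] L))
    (hI : ∀ σ : L ≃ₐ[K] L, σ ∈ I ↔ ∀ b : integralClosure A L, ∃ c ∈ q, (c : L) = σ b - b) :
    EtPBC.IsIndEtale A (Localization.AtPrime
      (q.comap (Subalgebra.inclusion
        (inf_le_left : integralClosure A L ⊓ (IntermediateField.fixedField I).toSubalgebra.restrictScalars A ≤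
          integralClosure A L)))) := by
  classical
  let C : Subalgebra A L :=
    integralClosure A L ⊓ (IntermediateField.fixedField I).toSubalgebra.restrictScalars A
  let ι : C →ₐ[A] integralClosure A L := Subalgebra.inclusion inf_le_left
  haveI : (q.comap ι).IsPrime := Ideal.IsPrime.comap _
  show EtPBC.IsIndEtale A (Localization.AtPrime (q.comap ι))
  let T := Localization.AtPrime (q.comap ι)
  have hT : Function.Injective (algebraMap C T) :=
    IsLocalization.injective T (q.comap ι).primeCompl_le_nonZeroDivisors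
  -- finitely many integral elements control each invariant
  have hW : ∀ c : C, ∃ W : Finset (integralClosure A L), ∀ σ : L ≃ₐ[K] L,
      (∀ b ∈ W, ∃ d ∈ q, (d : L) = σ b - b) → σ (c : L) = c := fun c =>
    InertInv.exists_finset_fix (fun (b : integralClosure A L) (y : L) => ∃ d ∈ q, (d : L) = y - b)
      (fun b => (b : L)) (c : L) fun σ hσ => c.2.2 ⟨σ, (hI σ).2 hσ⟩
  choose W hW using hW
  refine IndEtLib.isIndEtale_of_factor fun P _ _ _ φ => ?_
  obtain ⟨n, π, hπ, -⟩ := Algebra.FinitePresentation.out (R := A) (A := P)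
  choose c s hcs using fun i : Fin n => IsLocalization.exists_mk'_eq (q.comap ι).primeCompl (φ (π (MvPolynomial.X i)))
  let cs : Fin n ⊕ Fin n → C := Sum.elim c fun i => (s i : C)
  let E := FiniteGaloisIntermediateField.adjoin K
    (↑(Finset.univ.biUnion fun i => insert (cs i : L) ((W (cs i)).image fun b : integralClosure A L => (b : L))) : Set L)
  obtain ⟨CE, g, hg, het, hfix, hmem⟩ := InertInv.exists_level q I hI E
  have hcE : ∀ i, ι (cs i) ∈ CE := fun i => by
    have hsub := FiniteGaloisIntermediateField.subset_adjoin K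
      (↑(Finset.univ.biUnion fun i => insert (cs i : L) ((W (cs i)).image fun b : integralClosure A L => (b : L))) : Set L)
    refine hmem _ (hsub (Finset.mem_coe.2 (Finset.mem_biUnion.2 ⟨i, Finset.mem_univ _, Finset.mem_insert_self _ _⟩)))
      fun σ hσ => hW (cs i) σ fun b hb => hσ b (hsub (Finset.mem_coe.2 (Finset.mem_biUnion.2
        ⟨i, Finset.mem_univ _, Finset.mem_insert_of_mem (Finset.mem_image_of_mem _ hb)⟩)))
  let κ : CE →ₐ[A] C := ((integralClosure A L).val.comp CE.val).codRestrict C fun x => ⟨(x : integralClosure A L).2, hfix x⟩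
  have hκ : Function.Injective κ := fun x y h =>
    Subtype.ext (Subtype.ext (congrArg (fun z : C => (z : L)) h))
  let sE : Fin n → CE := fun i => ⟨ι (cs (Sum.inr i)), hcE _⟩
  let b : CE := ∏ i, sE i
  let S := Localization.Away g
  let N := Localization.Away (algebraMap CE S b)
  haveI : IsLocalization.Away (g * b) N := IsLocalization.Away.mul' S N g b
  haveI : Algebra.Etale S N := Algebra.Etale.of_isLocalizationAway (algebraMap CE S b)
  haveI : Algebra.Etale A N := Algebra.Etale.comp A S N
  have hunit : IsUnit (algebraMap C T (κ (g * b))) := by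
    refine IsLocalization.map_units T (M := (q.comap ι).primeCompl) ⟨κ (g * b), ?_⟩
    intro h
    have h' : ((g * b : CE) : integralClosure A L) ∈ q := h
    rw [MulMemClass.coe_mul] at h'
    refine (Ideal.IsPrime.mem_or_mem ‹q.IsPrime› h').elim hg fun hb => ?_
    have hb' : CE.val b ∈ q := hb
    simp only [b, map_prod] at hb'
    obtain ⟨i, -, hi⟩ := (Ideal.IsPrime.prod_mem_iff (p := q)).1 hb'
    exact (s i).2 hi
  let β₀ : CE →ₐ[A] T := (IsScalarTower.toAlgHom A C T).comp κ
  let β : N →ₐ[A] T := IsLocalization.Away.liftAlgHom (g * b) (f := β₀) hunit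
  have hβ : ∀ x : CE, β (algebraMap CE N x) = algebraMap C T (κ x) := fun x => by
    simp [β, β₀]
  have hβinj : Function.Injective β := by
    rw [injective_iff_map_eq_zero]
    intro z hz
    obtain ⟨⟨x, y⟩, hxy⟩ := IsLocalization.surj (Submonoid.powers (g * b)) z
    have h0 : algebraMap C T (κ x) = 0 := by rw [← hβ, ← hxy, map_mul, hz, zero_mul]
    rw [← map_zero (algebraMap C T)] at h0
    have hx : x = 0 := hκ ((hT h0).trans (map_zero κ).symm)
    rw [hx, map_zero] at hxy
    exact (IsLocalization.map_units N y).mul_left_eq_zero.1 hxy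
  have hsu : ∀ i, IsUnit (algebraMap CE N (sE i)) := fun i =>
    isUnit_of_dvd_unit (map_dvd _ ((Finset.dvd_prod_of_mem sE (Finset.mem_univ i)).trans (dvd_mul_left b g)))
      (IsLocalization.Away.algebraMap_isUnit (g * b))
  let α₀ : MvPolynomial (Fin n) A →ₐ[A] N := MvPolynomial.aeval fun i =>
    algebraMap CE N ⟨ι (cs (Sum.inl i)), hcE _⟩ * ↑(hsu i).unit⁻¹
  have hα₀ : β.comp α₀ = φ.comp π := MvPolynomial.algHom_ext fun i => by
    have hsU : IsUnit (algebraMap C T (s i : C)) := IsLocalization.map_units T (s i)
    refine hsU.mul_right_cancel ?_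
    show β (α₀ (MvPolynomial.X i)) * algebraMap C T (s i : C) = φ (π (MvPolynomial.X i)) * algebraMap C T (s i : C)
    rw [← hcs i, IsLocalization.mk'_spec]
    have h1 : algebraMap C T (s i : C) = β (algebraMap CE N (sE i)) := by rw [hβ]; rfl
    rw [h1, ← map_mul, MvPolynomial.aeval_X, mul_assoc, IsUnit.val_inv_mul, mul_one, hβ]
    rfl
  have hker : RingHom.ker π ≤ RingHom.ker α₀ := fun x hx => by
    rw [RingHom.mem_ker] at hx ⊢
    apply hβinj
    rw [map_zero, ← AlgHom.comp_apply, hα₀, AlgHom.comp_apply, hx, map_zero]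
  refine ⟨N, inferInstance, inferInstance, inferInstance, AlgHom.liftOfSurjective π hπ α₀ hker, β, AlgHom.ext fun p => ?_⟩
  obtain ⟨x, rfl⟩ := hπ p
  rw [AlgHom.comp_apply, AlgHom.liftOfSurjective_apply, ← AlgHom.comp_apply, hα₀]
  rfl

end Groth.Agent.S9494
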