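import Groth.Statements.S9503
import Groth.Agent.ExtShX.Tilde
import Groth.Agent.KFlatLib.Scheme.Tensor

set_option autoImplicit false
universe u
open AffSch

namespace Groth.Agent.S9503

open AlgebraicGeometry in
open CategoryTheory in
/-- Let A be a commutative ring, M a finitely presented A-module and N an A-module, with associated
O_X-modules M~ and N~ on X = Spec A, and let Hom_{O_X}(M~, -) denote the sheaf-Hom functor (the
right adjoint of M~ ⊗ -, assumed to exist). Then Hom_{O_X}(M~, N~) is isomorphic to the O_X-module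
associated to the A-module Hom_A(M, N) (existence of an isomorphism only; the prelude's sheaf Hom is
a chosen right adjoint, so no particular map is singled out). -/
theorem result
    (A : Type u) [CommRing A] (M N : Type u) [AddCommGroup M] [Module A M]
    [Module.FinitePresentation A M] [AddCommGroup N] [Module A N]
    [DCoh.HasSheafHom (tilde (R := CommRingCat.of A) (ModuleCat.of A M))] :
    Nonempty ((DCoh.sheafHom (tilde (R := CommRingCat.of A) (ModuleCat.of A M))).obj
        (tilde (R := CommRingCat.of A) (ModuleCat.of A N)) ≅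
      tilde (R := CommRingCat.of A) (ModuleCat.of A (M →ₗ[A] N))) := by
  let X : Scheme.{u} := Spec (CommRingCat.of A)
  let M' : ModuleCat.{u} (CommRingCat.of A) := ModuleCat.of A M
  let N' : ModuleCat.{u} (CommRingCat.of A) := ModuleCat.of A N
  let T : X.Modules := tilde M'
  let adj' : (DCoh.tensorBi.flip.obj T : X.Modules ⥤ X.Modules) ⊣ DCoh.sheafHom T :=
    (DCoh.sheafHomAdj T).ofNatIsoLeft ((Groth.Agent.KFlatLib.tensorBiFlipIso X).app T).symm
  haveI : ModSite.HasSheafHom (O := X.sheaf) T := ⟨_, ⟨adj'⟩⟩
  let r : DCoh.sheafHom T ≅ ModSite.sheafHom (O := X.sheaf) T :=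
    adj'.rightAdjointUniq (ModSite.sheafHomAdj (O := X.sheaf) T)
  have hM : Module.FinitePresentation (CommRingCat.of A) M' := ‹Module.FinitePresentation A M›
  exact ⟨r.app (tilde N') ≪≫ (Groth.Agent.ExtShX.tildeHomIso (M := M') hM).app N' ≪≫
    (tilde.functor (CommRingCat.of A)).mapIso
      ((ModuleCat.homLinearEquiv (S := A) : (M' ⟶ N') ≃ₗ[A] (M →ₗ[A] N)).toModuleIso)⟩

end Groth.Agent.S9503
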