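import Groth.Statements.S9511
import Mathlib

set_option autoImplicit false
universe u
open LRSImm

namespace Groth.Agent.S9511

open AlgebraicGeometry in
open CategoryTheory TopologicalSpace in
/-- Let X be a locally ringed space and U, V ⊆ X open with X = U ⊔ V (they cover X and are disjoint),
such that the open subspaces X|_U and X|_V are affine schemes. Then X is an affine scheme: the
canonical morphism X → Spec Γ(X, O_X) is an isomorphism of locally ringed spaces. -/
theorem result
    (X : LocallyRingedSpace.{u}) (U V : Opens X.toTopCat) (hUV : IsCompl U V)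
    (A B : CommRingCat.{u})
    (eU : X.restrict U.isOpenEmbedding ≅ (Spec A).toLocallyRingedSpace)
    (eV : X.restrict V.isOpenEmbedding ≅ (Spec B).toLocallyRingedSpace) :
    IsIso X.toΓSpec := by
  have hcov : ∀ x : X, x ∈ U ∨ x ∈ V := fun x => by
    have : x ∈ U ⊔ V := by rw [hUV.sup_eq_top]; trivial
    simpa using this
  have hloc : ∀ x : X, ∃ (W : OpenNhds x) (R : CommRingCat.{u}),
      Nonempty (X.restrict W.isOpenEmbedding ≅ Spec.toLocallyRingedSpace.obj (Opposite.op R)) := fun x => by
    rcases hcov x with h | h
    · exact ⟨⟨U, h⟩, A, ⟨eU⟩⟩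
    · exact ⟨⟨V, h⟩, B, ⟨eV⟩⟩
  let S : Scheme.{u} := { toLocallyRingedSpace := X, local_affine := hloc }
  let U' : S.Opens := U
  let V' : S.Opens := V
  have hU : IsAffineOpen U' := by
    let e : U'.toScheme ≅ Spec A := (Scheme.fullyFaithfulForgetToLocallyRingedSpace).preimageIso eU
    exact .of_isIso e.hom
  have hV : IsAffineOpen V' := by
    let e : V'.toScheme ≅ Spec B := (Scheme.fullyFaithfulForgetToLocallyRingedSpace).preimageIso eV
    exact .of_isIso e.hom
  have htop : IsAffineOpen (⊤ : S.Opens) := hUV.sup_eq_top ▸ hU.sup_of_disjoint hV hUV.disjoint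
  haveI : IsAffine (⊤ : S.Opens).toScheme := htop
  haveI : IsAffine S := .of_isIso S.topIso.inv
  have : IsIso (Scheme.forgetToLocallyRingedSpace.map S.toSpecΓ) := inferInstance
  exact this

end Groth.Agent.S9511
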