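import Groth.Statements.S9523
import Groth.Agent.NormX.IdealMulPush
import Groth.Agent.QCoh.SubCompare

set_option autoImplicit false
set_option backward.isDefEq.respectTransparency.types false
universe u
open CategoryTheory CategoryTheory.Limits AlgebraicGeometry
attribute [local instance] HasDerivedCategory.standard
open Coherent

namespace Groth.Agent.S9523

/-- Let f : Y → X be an affine morphism of schemes, F a quasi-coherent O_Y-module and I a quasi-coherent
sheaf of ideals on X. Then I·f_*F = f_*((f⁻¹I O_Y)·F) as submodules of f_*F: there is an isomorphism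
I·f_*F ≅ f_*((f⁻¹I O_Y)·F) whose composite with f_* of the inclusion (f⁻¹I O_Y)·F → F is the
inclusion I·f_*F → f_*F. (J·M denotes the submodule sheaf Dual3.idealMul J M; f⁻¹I O_Y is the
pulled-back ideal sheaf I.comap f.) -/
theorem result {Y X : Scheme.{u}} (f : Y ⟶ X) [IsAffineHom f]
    (F : Y.Modules) (hF : Coh.IsQCoh F) (I : X.IdealSheafData) :
    ∃ e : (Dual3.idealMul I).obj ((Scheme.Modules.pushforward f).obj F) ≅
        (Scheme.Modules.pushforward f).obj ((Dual3.idealMul (I.comap f)).obj F),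
      e.hom ≫ (Scheme.Modules.pushforward f).map (Dual3.idealMulι (I.comap f) F) =
        Dual3.idealMulι I ((Scheme.Modules.pushforward f).obj F) := by
  have hG : Coh.IsQCoh ((Scheme.Modules.pushforward f).obj F) := Groth.Agent.QCoh.isQCoh_pushforward f hF
  have hJF : Coh.IsQCoh ((Dual3.idealMul (I.comap f)).obj F) := Groth.Agent.QCoh.isQCoh_idealMul _ hF
  haveI : Mono ((Scheme.Modules.pushforward f).map (Dual3.idealMulι (I.comap f) F)) := inferInstance
  have h : Subobject.mk (Dual3.idealMulι I ((Scheme.Modules.pushforward f).obj F)) =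
      Subobject.mk ((Scheme.Modules.pushforward f).map (Dual3.idealMulι (I.comap f) F)) := by
    refine Groth.Agent.QCoh.subobject_eq_of_cover (Groth.Agent.QCoh.isQCoh_idealMul I hG)
      (Groth.Agent.QCoh.isQCoh_pushforward f hJF) hG _ _ (fun U : X.affineOpens => U.1) (fun U => U.2)
      (fun x => by
        obtain ⟨_, ⟨U, hU, rfl⟩, hx, -⟩ :=
          X.isBasis_affineOpens.exists_subset_of_mem_open (Set.mem_univ x) isOpen_univ
        exact ⟨⟨U, hU⟩, hx⟩) fun U => ?_
    rw [Groth.Agent.QCoh.range_idealMul I hG U.2]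
    have hV : IsAffineOpen (f ⁻¹ᵁ U.1) := U.2.preimage f
    have hr := Groth.Agent.QCoh.range_idealMul (I.comap f) hF hV
    rw [ModPairLib.ideal_comap I f U ⟨f ⁻¹ᵁ U.1, hV⟩ le_rfl, ← Scheme.Hom.app_eq_appLE] at hr
    refine le_antisymm ?_ ?_
    · refine Submodule.smul_le.2 fun a ha m _ => ?_
      have h1 : ((f.app U.1).hom a • (show Γ(F, f ⁻¹ᵁ U.1) from m)) ∈
          LinearMap.range (Groth.Agent.QCoh.appLin (Dual3.idealMulι (I.comap f) F) (f ⁻¹ᵁ U.1)) := by
        rw [hr]
        exact Submodule.smul_mem_smul (Ideal.mem_map_of_mem _ ha) trivial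
      obtain ⟨w, hw⟩ := h1
      exact ⟨w, hw⟩
    · rintro _ ⟨w, rfl⟩
      have h1 : (Dual3.idealMulι (I.comap f) F).app (f ⁻¹ᵁ U.1) w ∈
          LinearMap.range (Groth.Agent.QCoh.appLin (Dual3.idealMulι (I.comap f) F) (f ⁻¹ᵁ U.1)) := ⟨w, rfl⟩
      rw [hr] at h1
      refine Submodule.smul_induction_on (p := fun (z : Γ(F, f ⁻¹ᵁ U.1)) =>
        (show Γ((Scheme.Modules.pushforward f).obj F, U.1) from z) ∈ I.ideal U • (⊤ : Submodule Γ(X, U.1)
          Γ((Scheme.Modules.pushforward f).obj F, U.1)))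
        h1 (fun b hb m _ => ?_) fun z z' hz hz' => add_mem hz hz'
      refine Submodule.span_induction
        (p := fun b _ => ∀ m : Γ(F, f ⁻¹ᵁ U.1), (show Γ((Scheme.Modules.pushforward f).obj F, U.1) from
          (show Γ(F, f ⁻¹ᵁ U.1) from b • m)) ∈ I.ideal U • (⊤ : Submodule Γ(X, U.1)
            Γ((Scheme.Modules.pushforward f).obj F, U.1))) ?_ ?_ ?_ ?_ hb m
      · rintro _ ⟨a, ha, rfl⟩ m
        exact Submodule.smul_mem_smul ha
          (Submodule.mem_top (x := (show Γ((Scheme.Modules.pushforward f).obj F, U.1) from m)))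
      · intro m; rw [zero_smul]; exact zero_mem _
      · intro b b' _ _ hb hb' m; rw [add_smul]; exact add_mem (hb m) (hb' m)
      · intro c b _ hb m
        rw [smul_eq_mul, mul_comm, mul_smul]
        exact hb (c • m)
  exact ⟨Subobject.isoOfMkEqMk _ _ h, Subobject.ofMkLEMk_comp _⟩

end Groth.Agent.S9523
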