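import Groth.Statements.S9527
import Groth.Agent.ExtShX.Stalk
import Groth.Agent.KZ.LFRes
import Groth.Agent.QCoh.Stalk
import Groth.Agent.S6876
import Groth.Agent.S9503
import Groth.Agent.S2854

set_option autoImplicit false
set_option backward.isDefEq.respectTransparency false
set_option backward.isDefEq.respectTransparency.types false
universe u
open CategoryTheory CategoryTheory.Limits AlgebraicGeometry
attribute [local instance] HasDerivedCategory.standard
open Coherent

namespace Groth.Agent.S9527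

theorem nonempty_stalk_sheafHom (X : Scheme.{u}) [IsLocallyNoetherian X] (F G : X.Modules)
    (hF : Coh.IsCoh F) (hG : Coh.IsCoh G) [DCoh.HasSheafHom F] (x : X) :
    True ∧ Nonempty (↑(((DCoh.sheafHom F).obj G).presheaf.stalk x) ≃ₗ[X.presheaf.stalk x]
      (↑(F.presheaf.stalk x) →ₗ[X.presheaf.stalk x] ↑(G.presheaf.stalk x))) := by
  let adj' : (DCoh.tensorBi.flip.obj F : X.Modules ⥤ X.Modules) ⊣ DCoh.sheafHom F :=
    (DCoh.sheafHomAdj F).ofNatIsoLeft ((Groth.Agent.KFlatLib.tensorBiFlipIso X).app F).symm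
  haveI : ModSite.HasSheafHom (O := X.sheaf) F := ⟨_, ⟨adj'⟩⟩
  let r : DCoh.sheafHom F ≅ ModSite.sheafHom (O := X.sheaf) F :=
    adj'.rightAdjointUniq (ModSite.sheafHomAdj (O := X.sheaf) F)
  refine ⟨trivial, ⟨?_⟩⟩
  exact ((DerSch.stalkFunctor X x).mapIso (r.app G) ≪≫
    (Groth.Agent.ExtShX.stalkHomIso F (Groth.Agent.KZ.LFRes.isFP_of_isCoh hF) x).app G).toLinearEquiv ≪≫ₗ
      ModuleCat.homLinearEquiv (S := X.presheaf.stalk x)

/-- Let X be a locally Noetherian scheme, F and G coherent O_X-modules, x ∈ X, and H = Hom_{O_X}(F, G)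
the sheaf Hom. (1) If depth G_x ≥ 1 then depth H_x ≥ 1. (2) If depth G_x ≥ 2 then depth H_x ≥ 2.
(Depths over the local ring O_{X,x}; the sheaf Hom is the right adjoint of F ⊗ − under its existence
binder; the zero module has depth ∞ in this convention.) -/
theorem result (X : Scheme.{u}) [IsLocallyNoetherian X] (F G : X.Modules)
    (hF : Coh.IsCoh F) (hG : Coh.IsCoh G) [DCoh.HasSheafHom F] (x : X) :
    ((1 : ℕ∞) ≤ LocCoh.depth (X.presheaf.stalk x) ↑(G.presheaf.stalk x) →
      (1 : ℕ∞) ≤ LocCoh.depth (X.presheaf.stalk x) ↑(((DCoh.sheafHom F).obj G).presheaf.stalk x)) ∧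
    ((2 : ℕ∞) ≤ LocCoh.depth (X.presheaf.stalk x) ↑(G.presheaf.stalk x) →
      (2 : ℕ∞) ≤ LocCoh.depth (X.presheaf.stalk x) ↑(((DCoh.sheafHom F).obj G).presheaf.stalk x)) := by
  obtain ⟨_, ⟨e⟩⟩ := nonempty_stalk_sheafHom X F G hF hG x
  haveI := Groth.Agent.QCoh.finite_stalk_of_isFT hF.1 hF.2 x
  haveI := Groth.Agent.QCoh.finite_stalk_of_isFT hG.1 hG.2 x
  have h := Groth.Agent.S6876.result (X.presheaf.stalk x) ↑(F.presheaf.stalk x) ↑(G.presheaf.stalk x)
  have he : LocCoh.depth (X.presheaf.stalk x) ↑(((DCoh.sheafHom F).obj G).presheaf.stalk x) =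
      LocCoh.depth (X.presheaf.stalk x) (↑(F.presheaf.stalk x) →ₗ[X.presheaf.stalk x] ↑(G.presheaf.stalk x)) :=
    Groth.Agent.S2854.idealDepth_congr_univ _ e
  rw [he]
  exact h

end Groth.Agent.S9527
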