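import Groth.Statements.S9529
import Groth.Agent.S9527

set_option autoImplicit false
set_option backward.isDefEq.respectTransparency false
set_option backward.isDefEq.respectTransparency.types false
universe u
open CategoryTheory CategoryTheory.Limits AlgebraicGeometry
attribute [local instance] HasDerivedCategory.standard
open Coherent

namespace Groth.Agent.S9529

/-- Let X be a locally Noetherian scheme, F and G coherent O_X-modules and H = Hom_{O_X}(F, G). If G has
property (S_1), so has H; if G has property (S_2), so has H. Here a coherent module M has (S_k) when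
depth M_x ≥ min(k, dim Supp M_x) for every x ∈ X, with M_x regarded as a module over O_{X,x} (the
zero module has depth ∞ and support dimension −∞); the sheaf Hom is the right adjoint of F ⊗ − under
its existence binder. -/
theorem result (X : Scheme.{u}) [IsLocallyNoetherian X] (F G : X.Modules)
    (hF : Coh.IsCoh F) (hG : Coh.IsCoh G) [DCoh.HasSheafHom F] (k : ℕ) (hk : k = 1 ∨ k = 2)
    (hS : ∀ x : X, min (k : WithBot ℕ∞) (Module.supportDim (X.presheaf.stalk x) ↑(G.presheaf.stalk x)) ≤
      ((LocCoh.depth (X.presheaf.stalk x) ↑(G.presheaf.stalk x) : ℕ∞) : WithBot ℕ∞)) (x : X) :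
    min (k : WithBot ℕ∞)
        (Module.supportDim (X.presheaf.stalk x) ↑(((DCoh.sheafHom F).obj G).presheaf.stalk x)) ≤
      ((LocCoh.depth (X.presheaf.stalk x) ↑(((DCoh.sheafHom F).obj G).presheaf.stalk x) : ℕ∞) :
        WithBot ℕ∞) := by
  obtain ⟨_, ⟨e⟩⟩ := Groth.Agent.S9527.nonempty_stalk_sheafHom X F G hF hG x
  haveI := Groth.Agent.QCoh.finite_stalk_of_isFT hF.1 hF.2 x
  haveI := Groth.Agent.QCoh.finite_stalk_of_isFT hG.1 hG.2 x
  have hle : Module.supportDim (X.presheaf.stalk x) ↑(((DCoh.sheafHom F).obj G).presheaf.stalk x) ≤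
      Module.supportDim (X.presheaf.stalk x) ↑(G.presheaf.stalk x) := by
    rw [Module.supportDim_eq_of_equiv (N := (↑(F.presheaf.stalk x) →ₗ[X.presheaf.stalk x] ↑(G.presheaf.stalk x))) e,
      Module.supportDim_eq_ringKrullDim_quotient_annihilator, Module.supportDim_eq_ringKrullDim_quotient_annihilator]
    refine ringKrullDim_le_of_surjective (Ideal.Quotient.factor fun a ha => ?_) (Ideal.Quotient.factor_surjective _)
    rw [Module.mem_annihilator] at ha ⊢
    exact fun φ => LinearMap.ext fun m => by simpa using ha (φ m)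
  obtain ⟨h1, h2⟩ := Groth.Agent.S9527.result X F G hF hG x
  rcases lt_or_ge (((LocCoh.depth (X.presheaf.stalk x) ↑(G.presheaf.stalk x) : ℕ∞))) ((k : ℕ) : ℕ∞) with hd | hd
  · have hs := hS x
    have hdk : ((LocCoh.depth (X.presheaf.stalk x) ↑(G.presheaf.stalk x) : ℕ∞) : WithBot ℕ∞) < (k : WithBot ℕ∞) := by
      exact WithBot.coe_lt_coe.2 hd
    have hsupp : Module.supportDim (X.presheaf.stalk x) ↑(G.presheaf.stalk x) ≤
        ((LocCoh.depth (X.presheaf.stalk x) ↑(G.presheaf.stalk x) : ℕ∞) : WithBot ℕ∞) := by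
      rcases le_total (k : WithBot ℕ∞) (Module.supportDim (X.presheaf.stalk x) ↑(G.presheaf.stalk x)) with h | h
      · rw [min_eq_left h] at hs
        exact absurd hs (not_le.2 hdk)
      · rwa [min_eq_right h] at hs
    refine (min_le_right _ _).trans (hle.trans (hsupp.trans ?_))
    refine WithBot.coe_le_coe.2 ?_
    rcases hk with rfl | rfl
    · rw [show ((1 : ℕ) : ℕ∞) = 1 from rfl, ENat.lt_one_iff_eq_zero] at hd
      rw [hd]; exact zero_le
    · rcases eq_or_ne (LocCoh.depth (X.presheaf.stalk x) ↑(G.presheaf.stalk x)) 0 with h0 | h0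
      · rw [h0]; exact zero_le
      · have h1' := h1 (Order.one_le_iff_pos.2 (pos_iff_ne_zero.2 h0))
        exact le_trans (ENat.lt_add_one_iff (by simp) |>.1 (by simpa [one_add_one_eq_two] using hd)) h1'
  · refine (min_le_left _ _).trans ?_
    refine WithBot.coe_le_coe.2 ?_
    rcases hk with rfl | rfl
    · exact h1 hd
    · exact h2 hd

end Groth.Agent.S9529
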