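import Groth.Statements.S9541
import Groth.Agent.H1LCZ.Affine
import Groth.Agent.KFlatLib.Scheme.TildePull

set_option autoImplicit false
universe u
open CategoryTheory
open Formal2

namespace Groth.Agent.S9541
set_option backward.isDefEq.respectTransparency false
set_option backward.isDefEq.respectTransparency.types false
set_option linter.style.haveILetI false
set_option maxHeartbeats 800000
open CategoryTheory CategoryTheory.Limits AlgebraicGeometry TopologicalSpace Opposite

open AlgebraicGeometry in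
/-- Second assertion, for the short exact sequence of coherent modules on U attached to a short exact
sequence 0 → M' → M → M'' → 0 of finite A-modules; I ⊆ 𝔞 ideals of a Noetherian ring A, U = Spec A ∖
V(𝔞). If the comparison map (colimit over the opens V ⊆ U containing U ∩ V(I) of the sections over
V, to the limit of the sections of the quotients by powers of I over U) is bijective for M and for
M'', then it is bijective for M'. (The published sentence reads 'if the middle and left arrows are
isomorphisms, so is the left'; the diagram chase its proof describes, with both rows left exact,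
gives the left arrow from the middle and right ones, which is what is stated here.) -/
theorem result (A : Type u) [CommRing A] [IsNoetherianRing A] (I 𝔞 : Ideal A) (hI : I ≤ 𝔞)
    (M' M M'' : Type u) [AddCommGroup M'] [Module A M'] [AddCommGroup M] [Module A M] [AddCommGroup M''] [Module A M'']
    [Module.Finite A M'] [Module.Finite A M] [Module.Finite A M'']
    (f : M' →ₗ[A] M) (g : M →ₗ[A] M'') (hf : Function.Injective f) (hg : Function.Surjective g)
    (hfg : LinearMap.range f = LinearMap.ker g)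
    (h : Formal2.FormalCohColimBijective A I M 0 (LocCoh.puncturedOpen A 𝔞))
    (h'' : Formal2.FormalCohColimBijective A I M'' 0 (LocCoh.puncturedOpen A 𝔞)) :
    Formal2.FormalCohColimBijective A I M' 0 (LocCoh.puncturedOpen A 𝔞) := by
  classical
  obtain ⟨hi₂, hs₂⟩ := h
  obtain ⟨hi₃, -⟩ := h''
  let X := (Spec (CommRingCat.of A)).toTopCat
  -- functoriality
  have hcomp : ∀ {P Q R : Type u} [AddCommGroup P] [Module A P] [AddCommGroup Q] [Module A Q] [AddCommGroup R]
      [Module A R] (a : P →ₗ[A] Q) (b : Q →ₗ[A] R) (V : (Spec (CommRingCat.of A)).Opens) (x : Formal2.HV A P 0 V),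
      Formal2.HVmap A b 0 V (Formal2.HVmap A a 0 V x) = Formal2.HVmap A (b ∘ₗ a) 0 V x := by
    intros P Q R _ _ _ _ _ _ a b V x
    have e : Formal2.tmodMap A (b ∘ₗ a) = Formal2.tmodMap A a ≫ Formal2.tmodMap A b :=
      (tilde.functor (CommRingCat.of A)).map_comp (ModuleCat.ofHom a) (ModuleCat.ofHom b)
    show _ = CohTop.HUmap ((SheafOfModules.toSheaf _).map (Formal2.tmodMap A (b ∘ₗ a))) 0 V x
    rw [e, Functor.map_comp, CohTop.HUmap, Functor.map_comp]
    rfl
  have hres : ∀ {P Q : Type u} [AddCommGroup P] [Module A P] [AddCommGroup Q] [Module A Q]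
      (a : P →ₗ[A] Q) {V V' : (Spec (CommRingCat.of A)).Opens} (hle : V' ≤ V) (x : Formal2.HV A P 0 V),
      Formal2.HVmap A a 0 V' (Formal2.HVres A P 0 hle x) = Formal2.HVres A Q 0 hle (Formal2.HVmap A a 0 V x) := by
    intros P Q _ _ _ _ a V V' hle x
    exact (ConcreteCategory.congr_hom (((Sheaf.cohomologyPresheafFunctor _ 0).map
      ((SheafOfModules.toSheaf _).map (Formal2.tmodMap A a))).naturality (homOfLE hle).op) x)
  have hrr : ∀ {P : Type u} [AddCommGroup P] [Module A P] {V V' V'' : (Spec (CommRingCat.of A)).Opens}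
      (h₁ : V' ≤ V) (h₂ : V'' ≤ V') (x : Formal2.HV A P 0 V),
      Formal2.HVres A P 0 h₂ (Formal2.HVres A P 0 h₁ x) = Formal2.HVres A P 0 (h₂.trans h₁) x := by
    intros P _ _ V V' V'' h₁ h₂ x
    exact (ConcreteCategory.congr_hom ((Sheaf.cohomologyPresheaf.{u} (Coh.toAb (Formal2.tmod A P)) 0).map_comp
      (homOfLE h₁).op (homOfLE h₂).op) x).symm
  have hse : ∀ {P Q R : Type u} [AddCommGroup P] [Module A P] [AddCommGroup Q] [Module A Q] [AddCommGroup R]
      [Module A R] (a : P →ₗ[A] Q) (b : Q →ₗ[A] R) (_ : Function.Injective a) (_ : Function.Surjective b)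
      (_ : LinearMap.range a = LinearMap.ker b) (V : (Spec (CommRingCat.of A)).Opens),
      Function.Injective (Formal2.HVmap A a 0 V) ∧ ∀ y : Formal2.HV A Q 0 V, Formal2.HVmap A b 0 V y = 0 →
        ∃ x, Formal2.HVmap A a 0 V x = y := by
    intros P Q R _ _ _ _ _ _ a b ha hb hab V
    let S : ShortComplex (ModuleCat.{u} (CommRingCat.of A)) := ShortComplex.mk (ModuleCat.ofHom a) (ModuleCat.ofHom b)
      (ModuleCat.hom_ext (LinearMap.ext fun x => (hab.le ⟨x, rfl⟩ : b (a x) = 0)))
    have hS : S.ShortExact :=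
      { exact := (ShortComplex.moduleCat_exact_iff_range_eq_ker S).2 hab
        mono_f := (ModuleCat.mono_iff_injective _).2 ha
        epi_g := (ModuleCat.epi_iff_surjective _).2 hb }
    have hT := H1LCZ.shortExact_tilde_toAb hS
    haveI : Mono ((SheafOfModules.toSheaf (Spec (CommRingCat.of A)).ringCatSheaf).map (Formal2.tmodMap A a)) := hT.mono_f
    refine ⟨(injective_iff_map_eq_zero _).2 fun x hx => ?_, fun y hy => ?_⟩
    · obtain ⟨φ, rfl⟩ := (Abelian.Ext.mk₀_bijective _ _).2 x
      have h1 : Abelian.Ext.mk₀ (φ ≫ _) = (0 : Formal2.HV A Q 0 V) := (Abelian.Ext.mk₀_comp_mk₀ φ _).symm.trans hx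
      have h2 := (Abelian.Ext.mk₀_bijective _ _).1 (h1.trans (Abelian.Ext.mk₀_zero _ _).symm)
      rw [show φ = 0 from (cancel_mono ((SheafOfModules.toSheaf (Spec (CommRingCat.of A)).ringCatSheaf).map (Formal2.tmodMap A a))).1 (h2.trans zero_comp.symm),
        Abelian.Ext.mk₀_zero]
    · exact Abelian.Ext.covariant_sequence_exact₂ _ hT y hy
  have hinjf : ∀ V, Function.Injective (Formal2.HVmap A f 0 V) := fun V => (hse f g hf hg hfg V).1
  let q : ∀ n, Formal2.quotPow A I M' n →ₗ[A] Formal2.quotPow A I M n := fun n =>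
    Submodule.mapQ _ _ f (by rw [← Submodule.map_le_iff_le_comap, Submodule.map_smul'']; exact smul_mono_right _ le_top)
  let q' : ∀ n, Formal2.quotPow A I M n →ₗ[A] Formal2.quotPow A I M'' n := fun n =>
    Submodule.mapQ _ _ g (by rw [← Submodule.map_le_iff_le_comap, Submodule.map_smul'']; exact smul_mono_right _ le_top)
  have hqπ : ∀ n, q n ∘ₗ Formal2.quotPowπ A I M' n = Formal2.quotPowπ A I M n ∘ₗ f := fun n => rfl
  refine ⟨fun V hV x hx => ?_, fun y hy => ?_⟩
  · have h1 : ∀ n, Formal2.HVmap A (Formal2.quotPowπ A I M n) 0 V (Formal2.HVmap A f 0 V x) = 0 := fun n => by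
      rw [hcomp, ← hqπ, ← hcomp, hx n, map_zero]
    obtain ⟨V', hV', hz⟩ := hi₂ V hV _ h1
    exact ⟨V', hV', hinjf V' (by rw [hres, hz, map_zero])⟩
  · have hyM : ∀ n, Formal2.HVmap A (Formal2.quotPowTrans A I M n) 0 (LocCoh.puncturedOpen A 𝔞) (Formal2.HVmap A (q (n + 1)) 0 (LocCoh.puncturedOpen A 𝔞) (y (n + 1))) =
        Formal2.HVmap A (q n) 0 (LocCoh.puncturedOpen A 𝔞) (y n) := fun n => by
      rw [← hy n, hcomp, hcomp]
      refine congrArg (fun a => Formal2.HVmap A a 0 (LocCoh.puncturedOpen A 𝔞) (y (n + 1))) ?_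
      refine Submodule.linearMap_qext _ (LinearMap.ext fun z => ?_)
      simp only [LinearMap.comp_apply, Submodule.mkQ_apply, q, Formal2.quotPowTrans, Submodule.mapQ_apply, LinearMap.id_apply]
    obtain ⟨V, hV, x, hx⟩ := hs₂ (fun n => Formal2.HVmap A (q n) 0 (LocCoh.puncturedOpen A 𝔞) (y n)) hyM
    have hz : ∀ n, Formal2.HVmap A (Formal2.quotPowπ A I M'' n) 0 V (Formal2.HVmap A g 0 V x) = 0 := fun n => by
      rw [hcomp, show Formal2.quotPowπ A I M'' n ∘ₗ g = q' n ∘ₗ Formal2.quotPowπ A I M n from rfl, ← hcomp, ← hx n,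
        hres, hcomp, show q' n ∘ₗ q n = (0 : Formal2.quotPow A I M' n →ₗ[A] Formal2.quotPow A I M'' n) from
          Submodule.linearMap_qext _ (LinearMap.ext fun z => by
            show Submodule.Quotient.mk (g (f z)) = 0
            rw [show g (f z) = 0 from (hfg.le ⟨z, rfl⟩ : f z ∈ LinearMap.ker g)]; rfl)]
      haveI : (tilde.functor (CommRingCat.of A)).Additive := KFlatLib.tilde_additive _
      have e : Formal2.tmodMap A (0 : Formal2.quotPow A I M' n →ₗ[A] Formal2.quotPow A I M'' n) = 0 :=
        (tilde.functor (CommRingCat.of A)).map_zero _ _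
      show Formal2.HVres A _ 0 hV.1 (CohTop.HUmap _ 0 (LocCoh.puncturedOpen A 𝔞) (y n)) = 0
      rw [e, Functor.map_zero]
      refine (congrArg _ ?_).trans (map_zero _)
      show Abelian.Ext.comp (y n) (Abelian.Ext.mk₀ _) (add_zero 0) = 0
      exact (congrArg (fun t => Abelian.Ext.comp (y n) t (add_zero 0)) (Abelian.Ext.mk₀_zero _ _)).trans (Abelian.Ext.comp_zero ..)
    obtain ⟨V', ⟨hV', hle⟩, hz'⟩ := hi₃ V hV _ hz
    obtain ⟨x', hx'⟩ := (hse f g hf hg hfg V').2 (Formal2.HVres A M 0 hle x) (by rw [hres, hz'])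
    refine ⟨V', hV', x', fun n => ?_⟩
    obtain ⟨c, hc⟩ := Ideal.exists_pow_inf_eq_pow_smul I (LinearMap.range f)
    -- Artin–Rees: `f⁻¹(I^(m+1) M) ⊆ I^(n+1) M'` for `m` large
    let m := n + c
    have hm : Submodule.comap f (I ^ (m + 1) • ⊤) ≤ I ^ (n + 1) • (⊤ : Submodule A M') := by
      intro z hz
      have h1 : f z ∈ I ^ (m + 1) • (⊤ : Submodule A M) ⊓ LinearMap.range f := ⟨hz, ⟨z, rfl⟩⟩
      rw [hc (m + 1) (by omega)] at h1
      have h2 : f z ∈ Submodule.map f (I ^ (m + 1 - c) • (⊤ : Submodule A M')) := by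
        rw [Submodule.map_smul'', Submodule.map_top]
        exact (smul_mono_right _ inf_le_right : _ ≤ I ^ (m + 1 - c) • LinearMap.range f) h1
      obtain ⟨z', hz', e⟩ := h2
      rw [hf e] at hz'
      rwa [show m + 1 - c = n + 1 by omega] at hz'
    let tr : ∀ k, Formal2.quotPow A I M' (n + k) →ₗ[A] Formal2.quotPow A I M' n := fun k =>
      Submodule.mapQ _ _ LinearMap.id (by
        rw [Submodule.comap_id]; exact Submodule.smul_mono_left (Ideal.pow_le_pow_right (by omega)))
    have htr : ∀ k, Formal2.HVmap A (tr k) 0 (LocCoh.puncturedOpen A 𝔞) (y (n + k)) = y n := fun k => by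
      induction k with
      | zero =>
        have e : tr 0 = LinearMap.id := Submodule.linearMap_qext _ rfl
        have e' : Formal2.tmodMap A (LinearMap.id : Formal2.quotPow A I M' n →ₗ[A] _) = 𝟙 _ :=
          (tilde.functor (CommRingCat.of A)).map_id _
        rw [e]
        show CohTop.HUmap ((SheafOfModules.toSheaf _).map _) 0 (LocCoh.puncturedOpen A 𝔞) (y n) = y n
        rw [e', CategoryTheory.Functor.map_id, CohTop.HUmap, CategoryTheory.Functor.map_id]
        rfl
      | succ k ih =>
        rw [← ih, ← hy (n + k), hcomp]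
        refine congrArg (fun a => Formal2.HVmap A a 0 (LocCoh.puncturedOpen A 𝔞) (y (n + k + 1))) ?_
        refine Submodule.linearMap_qext _ (LinearMap.ext fun z => ?_)
        simp only [LinearMap.comp_apply, Submodule.mkQ_apply, tr, Formal2.quotPowTrans, Submodule.mapQ_apply, LinearMap.id_apply]
        rfl
    rw [← htr c, ← hres, show Formal2.quotPowπ A I M' n = tr c ∘ₗ Formal2.quotPowπ A I M' (n + c) from rfl, ← hcomp,
      ← sub_eq_zero, ← map_sub]
    set d := Formal2.HVres A (Formal2.quotPow A I M' (n + c)) 0 hV'.1 (y (n + c)) -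
      Formal2.HVmap A (Formal2.quotPowπ A I M' (n + c)) 0 V' x' with hd
    have hd0 : Formal2.HVmap A (q (n + c)) 0 V' d = 0 := by
      rw [hd, map_sub, sub_eq_zero, hres, hcomp, hqπ, ← hcomp, hx', hres, ← hx (n + c), hrr]
    -- factor the transition map through the image
    let N := LinearMap.range (q (n + c))
    let p := (q (n + c)).rangeRestrict
    have hker : LinearMap.ker p ≤ LinearMap.ker (tr c) := by
      rw [LinearMap.ker_rangeRestrict]
      intro w hw
      obtain ⟨z, rfl⟩ := Submodule.mkQ_surjective _ w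
      exact (Submodule.Quotient.mk_eq_zero _).2 (hm ((Submodule.Quotient.mk_eq_zero _).1 (show Submodule.Quotient.mk (f z) = (0 : Formal2.quotPow A I M (n + c)) from hw) : f z ∈ _))
    obtain ⟨s, hs⟩ : ∃ s : N →ₗ[A] Formal2.quotPow A I M' n, s ∘ₗ p = tr c :=
      ⟨(Submodule.liftQ _ (tr c) hker) ∘ₗ (p.quotKerEquivOfSurjective (LinearMap.surjective_rangeRestrict _)).symm.toLinearMap,
        LinearMap.ext fun w => by
          show Submodule.liftQ _ (tr c) hker ((p.quotKerEquivOfSurjective _).symm (p w)) = _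
          rw [show (p.quotKerEquivOfSurjective (LinearMap.surjective_rangeRestrict _)).symm (p w) = Submodule.Quotient.mk w
            from (LinearEquiv.symm_apply_eq _).2 rfl]
          rfl⟩
    have hp0 : Formal2.HVmap A p 0 V' d = 0 :=
      (hse N.subtype N.mkQ N.injective_subtype N.mkQ_surjective (by rw [Submodule.range_subtype, Submodule.ker_mkQ]) V').1
        (by rw [hcomp, map_zero]; exact hd0)
    rw [← hs, ← hcomp, hp0, map_zero]

end Groth.Agent.S9541
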