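import Groth.Statements.S9567
import Mathlib

set_option autoImplicit false
set_option linter.style.haveILetI false
universe u
open EtLocal

namespace Groth.Agent.S9567

open AlgebraicGeometry CategoryTheory in
theorem exists_openImmersion_of_presentation {R S : Type u} [CommRing R] [CommRing S] [Algebra R S]
    (P : StandardEtalePresentation R S) :
    ∃ ψ : Localization.Away (AdjoinRoot.mk P.f (Polynomial.derivative P.f)) →+* S,
      IsOpenImmersion (Spec.map (CommRingCat.ofHom ψ)) ∧
      ψ.comp (algebraMap R _) = algebraMap R S := by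
  set d := AdjoinRoot.mk P.f (Polynomial.derivative P.f)
  set a := AdjoinRoot.mk P.f P.g
  let e : S ≃ₐ[R] Localization.Away a := P.equivRing.trans P.P.equivAwayAdjoinRoot
  have hu : IsUnit (algebraMap (AdjoinRoot P.f) (Localization.Away a) d) := by
    have := (P.hasMap.map e.toAlgHom).isUnit_derivative_f
    have hx : e P.x = algebraMap (AdjoinRoot P.f) (Localization.Away a) (AdjoinRoot.root P.f) := by
      simp [e, StandardEtalePair.equivAwayAdjoinRoot]
      rfl
    rw [AlgEquiv.toAlgHom_apply, hx, Polynomial.aeval_algebraMap_apply, AdjoinRoot.aeval_eq] at this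
    exact this
  let l : Localization.Away d →+* Localization.Away a := IsLocalization.Away.lift d hu
  have hl : l.comp (algebraMap (AdjoinRoot P.f) _) = algebraMap _ _ := IsLocalization.Away.lift_comp d hu
  have hl' : IsOpenImmersion (Spec.map (CommRingCat.ofHom l)) := by
    have : IsOpenImmersion (Spec.map (CommRingCat.ofHom l) ≫
        Spec.map (CommRingCat.ofHom (algebraMap (AdjoinRoot P.f) (Localization.Away d)))) := by
      rw [← Spec.map_comp, ← CommRingCat.ofHom_comp, hl]
      exact IsOpenImmersion.of_isLocalization a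
    haveI : IsOpenImmersion (Spec.map (CommRingCat.ofHom (algebraMap (AdjoinRoot P.f) (Localization.Away d)))) :=
      IsOpenImmersion.of_isLocalization d
    exact IsOpenImmersion.of_comp _
      (Spec.map (CommRingCat.ofHom (algebraMap (AdjoinRoot P.f) (Localization.Away d))))
  refine ⟨e.symm.toRingEquiv.toRingHom.comp l, ?_, ?_⟩
  · rw [CommRingCat.ofHom_comp, Spec.map_comp]
    haveI : IsIso (CommRingCat.ofHom e.symm.toRingEquiv.toRingHom) :=
      inferInstanceAs (IsIso e.symm.toRingEquiv.toCommRingCatIso.hom)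
    infer_instance
  · ext r
    simp only [RingHom.comp_apply, IsScalarTower.algebraMap_apply R (AdjoinRoot P.f) (Localization.Away d)]
    rw [show l (algebraMap (AdjoinRoot P.f) _ (algebraMap R _ r)) = _ from RingHom.congr_fun hl _,
      ← IsScalarTower.algebraMap_apply]
    exact e.symm.commutes r


open AlgebraicGeometry CategoryTheory in
/-- Let φ : X ⟶ Y be any morphism of schemes, x a point of X and V an affine open neighbourhood of φ(x),
with ring R = Γ(Y, V). If φ is étale on some open neighbourhood of x, then there are an affine open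
neighbourhood U of x with φ(U) ⊆ V, a monic polynomial p over R and an open immersion j of U into
Spec of (R[t]/(p))[1/p′] (the localization of R[t]/(p) away from the image of the derivative of p)
such that j followed by the projection to Spec R is the morphism U → Spec R induced by φ. -/
theorem result {X Y : Scheme.{u}} (φ : X ⟶ Y) (x : X)
    (V : Y.Opens) (hV : IsAffineOpen V) (hxV : φ.base x ∈ V)
    (hφ : ∃ W : X.Opens, x ∈ W ∧ Etale (W.ι ≫ φ)) :
    ∃ (U : X.Opens) (hU : IsAffineOpen U) (_ : x ∈ U) (e : U ≤ φ ⁻¹ᵁ V)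
      (p : Polynomial Γ(Y, V)) (_ : p.Monic)
      (j : U.toScheme ⟶ Spec (CommRingCat.of (Localization.Away (AdjoinRoot.mk p (Polynomial.derivative p))))),
      IsOpenImmersion j ∧
        j ≫ Spec.map (CommRingCat.ofHom
            (algebraMap Γ(Y, V) (Localization.Away (AdjoinRoot.mk p (Polynomial.derivative p))))) =
          hU.isoSpec.hom ≫ Spec.map (φ.appLE V U e) := by
  obtain ⟨W, hxW, hW⟩ := hφ
  obtain ⟨_, ⟨(U0 : X.Opens), hU0', rfl⟩, hxU0, hU0le⟩ :=
    X.isBasis_affineOpens.exists_subset_of_mem_open (Set.mem_inter hxW hxV)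
      (W.2.inter (V.2.preimage φ.continuous))
  have hU0 : IsAffineOpen U0 := hU0'
  have e0 : U0 ≤ φ ⁻¹ᵁ V := fun y hy => (hU0le hy).2
  have eW : U0 ≤ W := fun y hy => (hU0le hy).1
  have h1 : Etale (U0.ι ≫ φ) := by
    rw [← X.homOfLE_ι eW, Category.assoc]; infer_instance
  have h2 : Etale (Spec.map (φ.appLE V U0 e0)) := by
    have : Etale (Spec.map (φ.appLE V U0 e0) ≫ hV.fromSpec) := by
      rw [IsAffineOpen.SpecMap_appLE_fromSpec φ hV hU0 e0, IsAffineOpen.fromSpec, Category.assoc]
      infer_instance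
    exact Etale.of_comp _ hV.fromSpec
  have h3 : (φ.appLE V U0 e0).hom.Etale := (HasRingHomProperty.Spec_iff (P := @Etale)).mp h2
  letI algR : Algebra Γ(Y, V) Γ(X, U0) := (φ.appLE V U0 e0).hom.toAlgebra
  haveI : Algebra.Etale Γ(Y, V) Γ(X, U0) := h3
  obtain ⟨f, hfQ, hf⟩ := Algebra.IsEtaleAt.exists_isStandardEtale (R := Γ(Y, V)) (hU0.primeIdealOf ⟨x, hxU0⟩).asIdeal
  have hxU : x ∈ X.basicOpen f := by
    have h : hU0.primeIdealOf ⟨x, hxU0⟩ ∈ hU0.fromSpec ⁻¹ᵁ X.basicOpen f := by
      rw [hU0.fromSpec_preimage_basicOpen]; exact hfQ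
    have h' := hU0.fromSpec_primeIdealOf ⟨x, hxU0⟩
    change hU0.fromSpec (hU0.primeIdealOf ⟨x, hxU0⟩) ∈ X.basicOpen f at h
    rw [h'] at h
    exact h
  have hU := hU0.basicOpen f
  have e : X.basicOpen f ≤ φ ⁻¹ᵁ V := (X.basicOpen_le f).trans e0
  letI algS : Algebra Γ(Y, V) Γ(X, X.basicOpen f) := (φ.appLE V _ e).hom.toAlgebra
  haveI := hU0.isLocalization_basicOpen f
  haveI : IsScalarTower Γ(Y, V) Γ(X, U0) Γ(X, X.basicOpen f) :=
    IsScalarTower.of_algebraMap_eq' (congrArg CommRingCat.Hom.hom
      (φ.appLE_map e0 (homOfLE (X.basicOpen_le f)).op)).symm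
  haveI : Algebra.IsStandardEtale Γ(Y, V) Γ(X, X.basicOpen f) :=
    Algebra.IsStandardEtale.of_equiv
      ((IsLocalization.algEquiv (Submonoid.powers f) (Localization.Away f) Γ(X, X.basicOpen f)).restrictScalars Γ(Y, V))
  obtain ⟨P⟩ := Algebra.IsStandardEtale.nonempty_standardEtalePresentation (R := Γ(Y, V)) (S := Γ(X, X.basicOpen f))
  obtain ⟨ψ, hψ1, hψ2⟩ := exists_openImmersion_of_presentation P
  refine ⟨X.basicOpen f, hU, hxU, e, P.f, P.monic_f, hU.isoSpec.hom ≫ Spec.map (CommRingCat.ofHom ψ),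
    inferInstance, ?_⟩
  rw [Category.assoc, ← Spec.map_comp, ← CommRingCat.ofHom_comp, hψ2]
  rfl

end Groth.Agent.S9567
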