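import Groth.Statements.S9592
import Groth.Agent.RGLib.FreePiece
import Mathlib.RingTheory.RingHom.Flat

set_option autoImplicit false
universe u
open CAlg

namespace Groth.Agent.S9592

open scoped TensorProduct
open TensorProduct

variable {k K R : Type u} [Field k] [Field K] [Algebra k K] [CommRing R] [Algebra k R]
  {RK : Type u} [CommRing RK] [Algebra R RK]

/-- The map from the model over a subalgebra. -/
noncomputable def phi (e : R ⊗[k] K ≃ₐ[R] RK) (D : Subalgebra k K) : R ⊗[k] D →ₐ[R] RK :=
  e.toAlgHom.comp (Algebra.TensorProduct.map (AlgHom.id R R) D.val)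

theorem phi_tmul (e : R ⊗[k] K ≃ₐ[R] RK) (D : Subalgebra k K) (r : R) (d : D) :
    phi e D (r ⊗ₜ d) = e (r ⊗ₜ (d : K)) := rfl

theorem exists_model_ring (e : R ⊗[k] K ≃ₐ[R] RK) (x : RK) :
    ∃ s : Finset K, ∀ D : Subalgebra k K, (s : Set K) ⊆ D → ∃ w, phi e D w = x := by
  classical
  obtain ⟨x, rfl⟩ := e.surjective x
  induction x using TensorProduct.induction_on with
  | zero => exact ⟨∅, fun D _ => ⟨0, by simp⟩⟩
  | tmul r a => exact ⟨{a}, fun D hD => ⟨r ⊗ₜ ⟨a, hD (by simp)⟩, rfl⟩⟩
  | add a b ha hb =>
    obtain ⟨s, hs⟩ := ha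
    obtain ⟨t, ht⟩ := hb
    refine ⟨s ∪ t, fun D hD => ?_⟩
    rw [Finset.coe_union, Set.union_subset_iff] at hD
    obtain ⟨w, hw⟩ := hs D hD.1
    obtain ⟨w', hw'⟩ := ht D hD.2
    exact ⟨w + w', by rw [map_add, map_add, hw, hw']⟩

theorem exists_model {M : Type u} [AddCommGroup M] [Module R M] (e : R ⊗[k] K ≃ₐ[R] RK) (y : RK ⊗[R] M) :
    ∃ D : Subalgebra k K, D.FG ∧ ∃ y0 : (R ⊗[k] D) ⊗[R] M, (phi e D).toLinearMap.rTensor M y0 = y := by
  classical
  suffices h : ∃ s : Finset K, ∀ D : Subalgebra k K, (s : Set K) ⊆ D →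
      ∃ y0 : (R ⊗[k] D) ⊗[R] M, (phi e D).toLinearMap.rTensor M y0 = y by
    obtain ⟨s, hs⟩ := h
    exact ⟨Algebra.adjoin k (s : Set K), Subalgebra.fg_adjoin_finset s, hs _ Algebra.subset_adjoin⟩
  induction y using TensorProduct.induction_on with
  | zero => exact ⟨∅, fun D _ => ⟨0, by simp⟩⟩
  | tmul a m =>
    obtain ⟨s, hs⟩ := exists_model_ring e a
    refine ⟨s, fun D hD => ?_⟩
    obtain ⟨w, hw⟩ := hs D hD
    exact ⟨w ⊗ₜ m, by rw [LinearMap.rTensor_tmul, AlgHom.toLinearMap_apply, hw]⟩
  | add a b ha hb =>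
    obtain ⟨s, hs⟩ := ha
    obtain ⟨t, ht⟩ := hb
    refine ⟨s ∪ t, fun D hD => ?_⟩
    rw [Finset.coe_union, Set.union_subset_iff] at hD
    obtain ⟨w, hw⟩ := hs D hD.1
    obtain ⟨w', hw'⟩ := ht D hD.2
    exact ⟨w + w', by rw [map_add, hw, hw']⟩

theorem flat_val (D : Subalgebra k K) : D.val.toRingHom.Flat := by
  letI : Algebra D K := D.val.toRingHom.toAlgebra
  have hinj : Function.Injective (algebraMap D K) := Subtype.coe_injective
  letI : Algebra (FractionRing D) K := (IsFractionRing.lift (A := D) (K := FractionRing D) hinj).toAlgebra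
  haveI : IsScalarTower D (FractionRing D) K := IsScalarTower.of_algebraMap_eq fun d =>
    (IsFractionRing.lift_algebraMap hinj d).symm
  haveI : Module.Flat D (FractionRing D) := IsLocalization.flat _ (nonZeroDivisors D)
  exact Module.Flat.trans D (FractionRing D) K

theorem annihilator_one_tmul {A B N : Type u} [CommRing A] [CommRing B] [Algebra A B] [Module.Flat A B]
    [AddCommGroup N] [Module A N] (y : N) :
    (Submodule.span B {(1 : B) ⊗ₜ[A] y}).annihilator = ((Submodule.span A {y}).annihilator).map (algebraMap A B) := by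
  refine le_antisymm (fun b hb => ?_) (Ideal.map_le_iff_le_comap.mpr fun a ha => ?_)
  · rw [Submodule.mem_annihilator_span_singleton, TensorProduct.smul_tmul', smul_eq_mul, mul_one] at hb
    set J := (Submodule.span A {y}).annihilator
    have hex : Function.Exact (Submodule.subtype J) (LinearMap.toSpanSingleton A N y) := fun a => by
      rw [LinearMap.toSpanSingleton_apply, ← Submodule.mem_annihilator_span_singleton]
      exact ⟨fun h => ⟨⟨a, h⟩, rfl⟩, fun ⟨w, hw⟩ => hw ▸ w.2⟩
    have h2 := (Module.Flat.lTensor_exact B hex (b ⊗ₜ[A] (1 : A))).mp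
      (by rw [LinearMap.lTensor_tmul, LinearMap.toSpanSingleton_apply, one_smul, hb])
    obtain ⟨w, hw⟩ := h2
    have h3 : ∀ w : B ⊗[A] J, TensorProduct.rid A B (J.subtype.lTensor B w) ∈ J.map (algebraMap A B) := by
      intro w
      induction w using TensorProduct.induction_on with
      | zero => simp
      | tmul b j =>
        rw [LinearMap.lTensor_tmul, TensorProduct.rid_tmul, Submodule.subtype_apply, Algebra.smul_def, mul_comm]
        exact Ideal.mul_mem_left _ b (Ideal.mem_map_of_mem _ j.2)
      | add u v hu hv => rw [map_add, map_add]; exact add_mem hu hv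
    simpa [hw] using h3 w
  · rw [Ideal.mem_comap, Submodule.mem_annihilator_span_singleton, algebraMap_smul, ← TensorProduct.tmul_smul,
      Submodule.mem_annihilator_span_singleton _ _ |>.mp ha, TensorProduct.tmul_zero]

theorem main {M : Type u} [AddCommGroup M] [Module R M] (D : Subalgebra k K) [Algebra.FiniteType R (R ⊗[k] D)]
    (e : R ⊗[k] K ≃ₐ[R] RK) (y0 : (R ⊗[k] D) ⊗[R] M) (q : Ideal RK) [q.IsPrime]
    (hq : q ∈ (Submodule.span RK {(phi e D).toLinearMap.rTensor M y0}).annihilator.minimalPrimes) :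
    q.comap (algebraMap R RK) ∈ FlatCA.weakAss R M := by
  let S := R ⊗[k] D
  letI : Algebra S RK := (phi e D).toRingHom.toAlgebra
  haveI : IsScalarTower R S RK := IsScalarTower.of_algebraMap_eq fun r => ((phi e D).commutes r).symm
  haveI : Module.Flat S RK := by
    show (phi e D).toRingHom.Flat
    refine RingHom.Flat.comp (f := (Algebra.TensorProduct.map (AlgHom.id R R) D.val).toRingHom)
      (g := e.toAlgHom.toRingHom) ?_ (RingHom.Flat.of_bijective e.bijective)
    exact RingHom.Flat.tensorProductMap (RingHom.Flat.of_bijective Function.bijective_id) (flat_val D)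
  haveI : Algebra.HasGoingDown S RK := inferInstance
  let c := TensorProduct.AlgebraTensorModule.cancelBaseChange R S RK RK M
  have hc : ∀ w, c ((1 : RK) ⊗ₜ[S] w) = (phi e D).toLinearMap.rTensor M w := by
    intro w
    induction w using TensorProduct.induction_on with
    | zero => simp
    | tmul w m =>
      rw [TensorProduct.AlgebraTensorModule.cancelBaseChange_tmul, LinearMap.rTensor_tmul, Algebra.smul_def, mul_one]
      rfl
    | add u v hu hv => rw [TensorProduct.tmul_add, map_add, map_add, hu, hv]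
  have hann : (Submodule.span RK {(phi e D).toLinearMap.rTensor M y0}).annihilator =
      ((Submodule.span S {y0}).annihilator).map (algebraMap S RK) := by
    rw [← annihilator_one_tmul (B := RK) y0, ← hc y0]
    ext r
    simp only [Submodule.mem_annihilator_span_singleton, ← map_smul, LinearEquiv.map_eq_zero_iff]
  rw [hann] at hq
  set J := (Submodule.span S {y0}).annihilator
  have hqS : q.comap (algebraMap S RK) ∈ J.minimalPrimes := by
    refine ⟨⟨Ideal.IsPrime.comap _, Ideal.map_le_iff_le_comap.mp hq.1.2⟩, fun p ⟨hp, hJp⟩ hle => ?_⟩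
    haveI := hp
    obtain ⟨q', hq'le, hq', ho⟩ := Ideal.exists_ideal_le_liesOver_of_le (p := p) (q := q.comap (algebraMap S RK)) q hle
    haveI := hq'
    have hJ' : J.map (algebraMap S RK) ≤ q' := Ideal.map_le_iff_le_comap.mpr (by
      rw [← Ideal.under_def, ← ho.over]; exact hJp)
    have := hq.2 ⟨hq', hJ'⟩ hq'le
    rw [show q = q' from le_antisymm this hq'le, ← Ideal.under_def, ← ho.over]
  haveI : Module.Flat R S := inferInstance
  have hfl : Module.Flat R (LocalizedModule (q.comap (algebraMap S RK)).primeCompl S) := by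
    haveI : Module.Flat S (Localization.AtPrime (q.comap (algebraMap S RK))) :=
      IsLocalization.flat _ (q.comap (algebraMap S RK)).primeCompl
    exact Module.Flat.trans R S (Localization.AtPrime (q.comap (algebraMap S RK)))
  refine RGLib.mem_weakAss_base (S := S) (N := S) (q.comap (algebraMap R RK)) (q.comap (algebraMap S RK)) (fun r => ?_) hfl ?_
  · rw [Ideal.mem_comap, Ideal.mem_comap, ← IsScalarTower.algebraMap_apply]
  · exact ⟨y0, hqS⟩

/-- Let K/k be a field extension, R a k-algebra and M an R-module; let R_K = R ⊗_k K (any pushout of k →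
K along k → R) and let M_K be the base change of M to R_K. If a prime q of R_K is weakly associated
to M_K, then its inverse image in R is weakly associated to M. -/
theorem result {k K R : Type u} [Field k] [Field K] [Algebra k K] [CommRing R] [Algebra k R] (RK : Type u) [CommRing RK] [Algebra k RK] [Algebra K RK] [Algebra R RK] [IsScalarTower k K RK] [IsScalarTower k R RK] [Algebra.IsPushout k K R RK] (M : Type u) [AddCommGroup M] [Module R M] (MK : Type u) [AddCommGroup MK] [Module RK MK] [Module R MK] [IsScalarTower R RK MK] (f : M →ₗ[R] MK) (hf : IsBaseChange RK f) (q : Ideal RK) [q.IsPrime] (hq : q ∈ FlatCA.weakAss RK MK) :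
    q.comap (algebraMap R RK) ∈ FlatCA.weakAss R M := by
  classical
  obtain ⟨z0, hz⟩ := hq
  obtain ⟨y, rfl⟩ := hf.equiv.surjective z0
  have hann : (Submodule.span RK {hf.equiv y}).annihilator = (Submodule.span RK {y}).annihilator := by
    ext r
    simp only [Submodule.mem_annihilator_span_singleton, ← map_smul, LinearEquiv.map_eq_zero_iff]
  rw [hann] at hz
  haveI : Algebra.IsPushout k R K RK := Algebra.IsPushout.symm inferInstance
  let e : R ⊗[k] K ≃ₐ[R] RK := Algebra.IsPushout.equiv k R K RK
  obtain ⟨D, hD, y0, hy0⟩ := exists_model (M := M) e y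
  haveI : Algebra.FiniteType k D := (D.fg_iff_finiteType).mp hD
  haveI : Algebra.FiniteType R (R ⊗[k] D) := inferInstance
  exact main (M := M) D e y0 q (hy0 ▸ hz)

end Groth.Agent.S9592
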