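import Groth.Statements.S9654
import Mathlib

set_option autoImplicit false
universe u
open CAlg

namespace Groth.Agent.S9654

/-- Let R be a ring and x, y ∈ R nonzerodivisors. In the localization R_{xy} let a = x/y and b = y/x,
and let R[a], R[b], R[a, b] be the R-subalgebras they generate. If R is integrally closed in R_x or
in R_y, then the sequence 0 → R → R[a] ⊕ R[b] → R[a, b] → 0 (difference map, then sum map) is short
exact; equivalently R[a] ∩ R[b] is the image of R and R[a] + R[b] = R[a, b] inside R_{xy}. -/
theorem result {R : Type u} [CommRing R] (x y : R) (hx : x ∈ nonZeroDivisors R) (hy : y ∈ nonZeroDivisors R)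
    (hint : IsIntegrallyClosedIn R (Localization.Away x) ∨ IsIntegrallyClosedIn R (Localization.Away y)) :
    (Algebra.adjoin R {algebraMap R (Localization.Away (x * y)) (x * x) * IsLocalization.Away.invSelf (x * y)}).toSubmodule ⊓
        (Algebra.adjoin R {algebraMap R (Localization.Away (x * y)) (y * y) * IsLocalization.Away.invSelf (x * y)}).toSubmodule =
        (⊥ : Subalgebra R (Localization.Away (x * y))).toSubmodule ∧
      (Algebra.adjoin R {algebraMap R (Localization.Away (x * y)) (x * x) * IsLocalization.Away.invSelf (x * y)}).toSubmodule ⊔
        (Algebra.adjoin R {algebraMap R (Localization.Away (x * y)) (y * y) * IsLocalization.Away.invSelf (x * y)}).toSubmodule =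
        (Algebra.adjoin R {algebraMap R (Localization.Away (x * y)) (x * x) * IsLocalization.Away.invSelf (x * y), algebraMap R (Localization.Away (x * y)) (y * y) * IsLocalization.Away.invSelf (x * y)}).toSubmodule := by
  classical
  set L := Localization.Away (x * y)
  set i := IsLocalization.Away.invSelf (S := L) (x * y) with hi
  set a : L := algebraMap R L (x * x) * i with ha'
  set b : L := algebraMap R L (y * y) * i with hb'
  have h1 : algebraMap R L x * algebraMap R L y * i = 1 := by
    rw [← map_mul]; exact IsLocalization.Away.mul_invSelf (x * y)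
  have ha : a * algebraMap R L y = algebraMap R L x := by
    rw [ha', map_mul]; linear_combination (algebraMap R L x) * h1
  have hb : b * algebraMap R L x = algebraMap R L y := by
    rw [hb', map_mul]; linear_combination (algebraMap R L y) * h1
  have hab : a * b = 1 := by
    rw [ha', hb', map_mul, map_mul]
    linear_combination (algebraMap R L x * algebraMap R L y * i + 1) * h1
  have hinjL : Function.Injective (algebraMap R L) :=
    IsLocalization.injective _ (Submonoid.powers_le.2 (mul_mem hx hy))
  refine ⟨le_antisymm ?_ (le_inf (Subalgebra.toSubmodule.monotone bot_le) (Subalgebra.toSubmodule.monotone bot_le)), ?_⟩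
  · rintro z ⟨hza, hzb⟩
    have hint : IsIntegral R z := by
      obtain ⟨P, hP⟩ := (Algebra.adjoin_singleton_eq_range_aeval R a ▸ hza :
        z ∈ (Polynomial.aeval (R := R) a).range)
      obtain ⟨Q, hQ⟩ := (Algebra.adjoin_singleton_eq_range_aeval R b ▸ hzb :
        z ∈ (Polynomial.aeval (R := R) b).range)
      let N := P.natDegree
      let D := Q.natDegree
      let G : Finset L := (Finset.range (N + 1)).image (a ^ ·) ∪ (Finset.range (D + 1)).image (b ^ ·)
      let M : Submodule R L := Submodule.span R (G : Set L)
      have haM : ∀ k, k ≤ N → a ^ k ∈ M := fun k hk => Submodule.subset_span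
        (Finset.mem_union_left _ (Finset.mem_image_of_mem _ (Finset.mem_range.2 (by omega))))
      have hbM : ∀ k, k ≤ D → b ^ k ∈ M := fun k hk => Submodule.subset_span
        (Finset.mem_union_right _ (Finset.mem_image_of_mem _ (Finset.mem_range.2 (by omega))))
      have hmix : ∀ k l, k ≤ N → l ≤ D → a ^ k * b ^ l ∈ M := by
        intro k l hk hl
        rcases le_total k l with h | h
        · rw [← Nat.sub_add_cancel h, pow_add, mul_left_comm, ← mul_pow, hab, one_pow, mul_one]
          exact hbM _ (by omega)
        · rw [← Nat.sub_add_cancel h, pow_add, mul_assoc, ← mul_pow, hab, one_pow, mul_one]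
          exact haM _ (by omega)
      have hzM : ∀ w ∈ M, z * w ∈ M := by
        intro w hw
        induction hw using Submodule.span_induction with
        | mem w hw =>
          rcases Finset.mem_union.1 hw with hw | hw
          · obtain ⟨k, hk, rfl⟩ := Finset.mem_image.1 hw
            rw [Finset.mem_range] at hk
            rw [show z = Polynomial.aeval b Q from hQ.symm, Polynomial.aeval_eq_sum_range, Finset.sum_mul]
            refine M.sum_mem fun l hl => ?_
            rw [Finset.mem_range] at hl
            rw [smul_mul_assoc, mul_comm (b ^ l)]
            exact M.smul_mem _ (hmix k l (by omega) (by omega))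
          · obtain ⟨l, hl, rfl⟩ := Finset.mem_image.1 hw
            rw [Finset.mem_range] at hl
            rw [show z = Polynomial.aeval a P from hP.symm, Polynomial.aeval_eq_sum_range, Finset.sum_mul]
            refine M.sum_mem fun k hk => ?_
            rw [Finset.mem_range] at hk
            rw [smul_mul_assoc]
            exact M.smul_mem _ (hmix k l (by omega) (by omega))
        | zero => simp
        | add u v _ _ hu hv => rw [mul_add]; exact M.add_mem hu hv
        | smul r u _ hu => rw [mul_smul_comm]; exact M.smul_mem _ hu
      haveI : Module.Finite R M := Module.Finite.iff_fg.2 ⟨G, rfl⟩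
      let f : M →ₗ[R] M := LinearMap.restrict (LinearMap.mulLeft R z) hzM
      obtain ⟨F, hFm, hF⟩ := LinearMap.exists_monic_and_aeval_eq_zero R f
      have hev : ∀ (F : Polynomial R) (m : M), ((Polynomial.aeval f F m : M) : L) = Polynomial.aeval z F * (m : L) := by
        intro F
        induction F using Polynomial.induction_on with
        | C r => intro m; simp [Algebra.smul_def]; rfl
        | add p q hp hq => intro m; simp [hp, hq, add_mul]
        | monomial k r hk =>
          intro m
          rw [pow_succ, ← mul_assoc, map_mul, map_mul (Polynomial.aeval z), Polynomial.aeval_X, Polynomial.aeval_X,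
            Module.End.mul_apply, hk]
          show _ * (z * (m : L)) = _
          rw [← mul_assoc]
      refine ⟨F, hFm, ?_⟩
      have h := hev F ⟨1, by simpa using haM 0 (Nat.zero_le _)⟩
      rw [hF] at h
      simpa [Polynomial.aeval_def] using h.symm
    -- integrally closed side
    have side : ∀ (v w : R), w ∈ nonZeroDivisors R → IsUnit (algebraMap R L w) →
        ∀ c : L, c * algebraMap R L w = algebraMap R L v → z ∈ Algebra.adjoin R {c} →
        IsIntegrallyClosedIn R (Localization.Away w) → z ∈ (⊥ : Subalgebra R L) := by
      intro v w hw hu c hc hzc hcl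
      let ι : Localization.Away w →ₐ[R] L :=
        { IsLocalization.Away.lift (S := Localization.Away w) w (g := algebraMap R L) hu with
          commutes' := fun r => IsLocalization.Away.lift_eq w hu r }
      have hι : Function.Injective ι := by
        refine (injective_iff_map_eq_zero ι).2 fun q hq => ?_
        obtain ⟨⟨r, s, hs⟩, hrs⟩ := IsLocalization.surj (Submonoid.powers w) q
        have h0 : algebraMap R L r = 0 := by
          rw [← ι.commutes r, ← hrs, map_mul, hq, zero_mul]
        obtain rfl := hinjL (h0.trans (map_zero _).symm)
        rw [map_zero] at hrs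
        exact ((IsLocalization.map_units (Localization.Away w) (⟨s, hs⟩ : Submonoid.powers w)).mul_left_eq_zero).1 hrs
      have hcmem : c ∈ ι.range := by
        refine ⟨algebraMap R _ v * IsLocalization.Away.invSelf w, hu.mul_right_cancel ?_⟩
        rw [hc, ← ι.commutes w]
        show ι _ * ι _ = _
        rw [← map_mul, mul_assoc, mul_comm (IsLocalization.Away.invSelf w), IsLocalization.Away.mul_invSelf,
          mul_one, ι.commutes]
      obtain ⟨q, rfl⟩ := (Algebra.adjoin_le (Set.singleton_subset_iff.2 hcmem) : _ ≤ ι.range) hzc
      have hq : IsIntegral R q := (isIntegral_algHom_iff ι hι).1 hint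
      obtain ⟨r, rfl⟩ := (IsIntegralClosure.isIntegral_iff (A := R)).1 hq
      exact ⟨r, (ι.commutes r).symm⟩
    have hxu : IsUnit (algebraMap R L x) :=
      IsUnit.of_mul_eq_one (algebraMap R L y * i) (by rw [← mul_assoc, h1])
    have hyu : IsUnit (algebraMap R L y) :=
      IsUnit.of_mul_eq_one (algebraMap R L x * i) (by rw [← mul_assoc, mul_comm (algebraMap R L y), h1])
    rcases ‹IsIntegrallyClosedIn R (Localization.Away x) ∨ IsIntegrallyClosedIn R (Localization.Away y)› with hcl | hcl
    · exact side y x hx hxu b hb hzb hcl
    · exact side x y hy hyu a ha hza hcl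
  · refine le_antisymm (sup_le (Subalgebra.toSubmodule.monotone (Algebra.adjoin_mono (by simp)))
      (Subalgebra.toSubmodule.monotone (Algebra.adjoin_mono (by simp)))) ?_
    rw [Algebra.adjoin_eq_span]
    refine Submodule.span_le.2 fun w hw => ?_
    obtain ⟨k, l, rfl⟩ : ∃ k l : ℕ, a ^ k * b ^ l = w := by
      exact (Submonoid.mem_closure_pair _ _ _).1 hw
    rcases le_total k l with h | h
    · refine Submodule.mem_sup_right ?_
      rw [← Nat.sub_add_cancel h, pow_add, mul_left_comm, ← mul_pow, hab, one_pow, mul_one]
      exact Subalgebra.pow_mem _ (Algebra.self_mem_adjoin_singleton R b) _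
    · refine Submodule.mem_sup_left ?_
      rw [← Nat.sub_add_cancel h, pow_add, mul_assoc, ← mul_pow, hab, one_pow, mul_one]
      exact Subalgebra.pow_mem _ (Algebra.self_mem_adjoin_singleton R a) _

end Groth.Agent.S9654
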