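import Groth.Statements.S9659
import Mathlib.RingTheory.GradedAlgebra.Radical
import Mathlib.RingTheory.Spectrum.Prime.RingHom
import Mathlib.Topology.Homeomorph.Lemmas

set_option autoImplicit false
universe u
open CAlg

namespace Groth.Agent.S9659

/-- Let S be a ℤ-graded ring which contains an invertible homogeneous element of positive degree. Then
the set of homogeneous prime ideals of S, with the topology induced from Spec(S), maps
homeomorphically onto Spec(S₀) by p ↦ p ∩ S₀. -/
theorem result {R S : Type u} [CommRing R] [CommRing S] [Algebra R S] (𝒜 : ℤ → Submodule R S) [GradedAlgebra 𝒜]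
    (f : S) (d : ℤ) (hd : 0 < d) (hf : f ∈ 𝒜 d) (hu : IsUnit f) :
    IsHomeomorph (fun p : {p : PrimeSpectrum S // p.asIdeal.IsHomogeneous 𝒜} => PrimeSpectrum.comap (SetLike.GradeZero.subring 𝒜).subtype p.1) := by
  classical
  let S0 := SetLike.GradeZero.subring 𝒜
  let F : {p : PrimeSpectrum S // p.asIdeal.IsHomogeneous 𝒜} → PrimeSpectrum S0 := fun p => PrimeSpectrum.comap S0.subtype p.1
  obtain ⟨D, rfl⟩ : ∃ D : ℕ, d = D := ⟨d.toNat, (Int.toNat_of_nonneg hd.le).symm⟩
  obtain ⟨v, hv, hfv⟩ : ∃ v, v ∈ 𝒜 (-(D : ℤ)) ∧ f * v = 1 := by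
    obtain ⟨w, hw⟩ := hu.exists_right_inv
    refine ⟨_, SetLike.coe_mem (DirectSum.decompose 𝒜 w (-(D : ℤ))), ?_⟩
    rw [← DirectSum.coe_decompose_mul_add_of_left_mem 𝒜 hf, hw, add_neg_cancel]
    exact DirectSum.decompose_of_mem_same 𝒜 (SetLike.one_mem_graded 𝒜)
  have hvu : IsUnit v := IsUnit.of_mul_eq_one f (by rw [mul_comm]; exact hfv)
  -- a degree zero replacement of a homogeneous element
  have hφ : ∀ (n : ℤ) (g : S), g ∈ 𝒜 n → ∃ h : S0, ∀ p : Ideal S, p.IsPrime → (g ∈ p ↔ (h : S) ∈ p) := by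
    intro n g hg
    have key : ∀ (w : S) (e : ℕ), IsUnit w → g ^ D * w ^ e ∈ 𝒜 0 →
        ∃ h : S0, ∀ p : Ideal S, p.IsPrime → (g ∈ p ↔ (h : S) ∈ p) := fun w e hw hm =>
      ⟨⟨g ^ D * w ^ e, hm⟩, fun p hp => by
        show g ∈ p ↔ g ^ D * w ^ e ∈ p
        refine ⟨fun h => p.mul_mem_right _ (p.pow_mem_of_mem h D (by omega)), fun h => ?_⟩
        rcases hp.mem_or_mem h with h | h
        · exact hp.mem_of_pow_mem D h
        · exact absurd (p.eq_top_of_isUnit_mem h (hw.pow e)) hp.ne_top⟩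
    rcases le_or_gt 0 n with hn | hn
    · refine key v n.toNat hvu ?_
      have h := SetLike.mul_mem_graded (SetLike.pow_mem_graded D hg) (SetLike.pow_mem_graded n.toNat hv)
      rwa [show D • n + n.toNat • (-(D : ℤ)) = 0 by
        rw [nsmul_eq_mul, nsmul_eq_mul, Int.toNat_of_nonneg hn]; ring] at h
    · refine key f (-n).toNat hu ?_
      have h := SetLike.mul_mem_graded (SetLike.pow_mem_graded D hg) (SetLike.pow_mem_graded (-n).toNat hf)
      rwa [show D • n + (-n).toNat • (D : ℤ) = 0 by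
        rw [nsmul_eq_mul, nsmul_eq_mul, Int.toNat_of_nonneg (by omega)]; ring] at h
  have hinj : Function.Injective F := by
    rintro ⟨p, hp⟩ ⟨q, hq⟩ h
    have h' : ∀ x : S0, (x : S) ∈ p.asIdeal ↔ (x : S) ∈ q.asIdeal := fun x =>
      SetLike.ext_iff.1 (congrArg PrimeSpectrum.asIdeal h) x
    refine Subtype.ext (PrimeSpectrum.ext ?_)
    ext s
    have hiff : ∀ i, (DirectSum.decompose 𝒜 s i : S) ∈ p.asIdeal ↔ (DirectSum.decompose 𝒜 s i : S) ∈ q.asIdeal := fun i => by
      obtain ⟨g, hg⟩ := hφ i _ (SetLike.coe_mem (DirectSum.decompose 𝒜 s i))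
      rw [hg _ p.isPrime, hg _ q.isPrime, h' g]
    constructor <;> intro hs <;> rw [← DirectSum.sum_support_decompose 𝒜 s] <;> refine Ideal.sum_mem _ fun i _ => ?_
    · exact (hiff i).1 (hp i hs)
    · exact (hiff i).2 (hq i hs)
  have hsurj : Function.Surjective F := by
    intro q
    have hc : (q.asIdeal.map S0.subtype).comap S0.subtype = q.asIdeal := by
      refine le_antisymm (fun x hx => ?_) Ideal.le_comap_map
      have hx0 : ∀ y ∈ q.asIdeal.map S0.subtype, ∃ z ∈ q.asIdeal, (DirectSum.decompose 𝒜 y 0 : S) = z := by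
        intro y hy
        induction hy using Submodule.span_induction with
        | mem y hy =>
          obtain ⟨z, hz, rfl⟩ := hy
          exact ⟨z, hz, DirectSum.decompose_of_mem_same 𝒜 z.2⟩
        | zero => exact ⟨0, zero_mem _, by simp⟩
        | add a b _ _ ha hb =>
          obtain ⟨z, hz, hz'⟩ := ha
          obtain ⟨z', hz1, hz2⟩ := hb
          exact ⟨z + z', add_mem hz hz1, by simp [hz', hz2]⟩
        | smul a y hy ih =>
          clear ih
          revert a
          induction hy using Submodule.span_induction with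
          | mem y hy =>
            intro a
            obtain ⟨z, hz, rfl⟩ := hy
            refine ⟨⟨(DirectSum.decompose 𝒜 a 0 : S), SetLike.coe_mem _⟩ * z, Ideal.mul_mem_left _ _ hz, ?_⟩
            have h := DirectSum.coe_decompose_mul_add_of_left_mem (b := a) (j := (0 : ℤ)) 𝒜 z.2
            rw [add_zero] at h
            rw [smul_eq_mul, mul_comm a]
            exact h.trans (mul_comm _ _)
          | zero => exact fun a => ⟨0, zero_mem _, by simp⟩
          | add b c _ _ hb hc =>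
            intro a
            obtain ⟨z, hz, hz'⟩ := hb a
            obtain ⟨z', hz1, hz2⟩ := hc a
            refine ⟨z + z', add_mem hz hz1, ?_⟩
            rw [smul_add]
            simp only [smul_eq_mul] at hz' hz2 ⊢
            rw [DirectSum.decompose_add]
            simp only [DirectSum.add_apply, Submodule.coe_add, Subring.coe_add, hz', hz2]
          | smul b y _ ih =>
            intro a
            rw [smul_smul]
            exact ih (a * b)
      obtain ⟨z, hz, hz'⟩ := hx0 _ (Ideal.mem_comap.1 hx)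
      rw [show DirectSum.decompose 𝒜 (S0.subtype x) 0 = (⟨x.1, x.2⟩ : 𝒜 0) from
        Subtype.ext (DirectSum.decompose_of_mem_same 𝒜 x.2)] at hz'
      rwa [show x = z from Subtype.ext hz']
    obtain ⟨P, hP⟩ : ∃ P : PrimeSpectrum S, PrimeSpectrum.comap S0.subtype P = q := by
      obtain ⟨P, hP1, hP2⟩ := (Ideal.comap_map_eq_self_iff_of_isPrime (p := q.asIdeal) (f := S0.subtype)).1 hc
      exact ⟨⟨P, hP1⟩, PrimeSpectrum.ext hP2⟩
    refine ⟨⟨⟨(P.asIdeal.homogeneousCore 𝒜).toIdeal, P.isPrime.homogeneousCore⟩, (P.asIdeal.homogeneousCore 𝒜).isHomogeneous⟩,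
      PrimeSpectrum.ext (le_antisymm ?_ ?_)⟩
    · rw [← hP]
      exact Ideal.comap_mono (Ideal.toIdeal_homogeneousCore_le 𝒜 _)
    · intro x hx
      rw [← hP] at hx
      exact Ideal.mem_homogeneousCore_of_homogeneous_of_mem ⟨0, x.2⟩ hx
  refine ⟨(PrimeSpectrum.continuous_comap S0.subtype).comp continuous_subtype_val, ?_, hinj, hsurj⟩
  intro U hU
  rw [isOpen_induced_iff] at hU
  obtain ⟨V, hV, rfl⟩ := hU
  rw [isOpen_iff_forall_mem_open]
  rintro _ ⟨p, hp, rfl⟩
  obtain ⟨_, ⟨g, rfl⟩, hpg, hgV⟩ := PrimeSpectrum.isTopologicalBasis_basic_opens.exists_subset_of_mem_open hp hV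
  obtain ⟨i, hi⟩ : ∃ i, (DirectSum.decompose 𝒜 g i : S) ∉ p.1.asIdeal := by
    by_contra hc
    push Not at hc
    refine hpg ?_
    rw [← DirectSum.sum_support_decompose 𝒜 g]
    exact Ideal.sum_mem _ fun i _ => hc i
  obtain ⟨h, hh⟩ := hφ i _ (SetLike.coe_mem (DirectSum.decompose 𝒜 g i))
  refine ⟨PrimeSpectrum.basicOpen h, ?_, (PrimeSpectrum.basicOpen h).2, fun hm => hi ((hh _ p.1.isPrime).2 hm)⟩
  intro q hq
  obtain ⟨r, rfl⟩ := hsurj q
  exact ⟨r, hgV fun hg => hq ((hh _ r.1.isPrime).1 (r.2 i hg)), rfl⟩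

end Groth.Agent.S9659
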