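import Groth.Statements.S9676
import Groth.Agent.NormDVR.Basic
import Groth.Agent.NagataLib.IntClosure

set_option autoImplicit false
set_option linter.style.haveILetI false
attribute [-instance] CategoryTheory.catToReflQuiver
set_option backward.isDefEq.respectTransparency false
universe u
open CategoryTheory CategoryTheory.Limits AlgebraicGeometry
open Mor

namespace Groth.Agent.S9676

open AlgebraicGeometry in
theorem finite_integralClosure {X Y : Scheme.{u}} (f : Y ⟶ X) [LocallyOfFiniteType f] [QuasiCompact f] [IsReduced Y]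
    {U : X.Opens} (hU : IsAffineOpen U) (hA : CAlg.IsNagata Γ(X, U)) :
    letI := (f.app U).hom.toAlgebra
    Module.Finite Γ(X, U) (integralClosure Γ(X, U) Γ(Y, f ⁻¹ᵁ U)) := by
  letI := (f.app U).hom.toAlgebra
  haveI := hA.1
  obtain ⟨s, hs, e⟩ := isCompact_iff_finite_and_eq_biUnion_affineOpens.mp (f.isCompact_preimage hU.isCompact)
  haveI := hs.to_subtype
  have hle : ∀ i : s, (i.1.1 : Y.Opens) ≤ f ⁻¹ᵁ U := fun i => by
    rw [e]
    exact le_iSup₂_of_le i.1 i.2 le_rfl
  let res : ∀ i : s, Γ(Y, f ⁻¹ᵁ U) →+* Γ(Y, i.1.1) := fun i =>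
    (Y.presheaf.map (homOfLE (hle i)).op).hom
  letI : ∀ i : s, Algebra Γ(X, U) Γ(Y, i.1.1) := fun i => (f.appLE U i.1.1 (hle i)).hom.toAlgebra
  haveI : ∀ i : s, Algebra.FiniteType Γ(X, U) Γ(Y, i.1.1) := fun i => f.finiteType_appLE hU i.1.2 (hle i)
  haveI : ∀ i : s, Module.Finite Γ(X, U) (integralClosure Γ(X, U) Γ(Y, i.1.1)) := fun i =>
    NagataLib.finite_integralClosure_of_reduced hA Γ(Y, i.1.1)
  haveI : IsNoetherian Γ(X, U) ((i : s) → integralClosure Γ(X, U) Γ(Y, i.1.1)) :=
    isNoetherian_of_isNoetherianRing_of_finite _ _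
  let resA : ∀ i : s, Γ(Y, f ⁻¹ᵁ U) →ₐ[Γ(X, U)] Γ(Y, i.1.1) := fun i =>
    { res i with commutes' := fun a => rfl }
  let L : integralClosure Γ(X, U) Γ(Y, f ⁻¹ᵁ U) →ₗ[Γ(X, U)] ((i : s) → integralClosure Γ(X, U) Γ(Y, i.1.1)) :=
    LinearMap.pi fun i => ((resA i).comp (integralClosure Γ(X, U) Γ(Y, f ⁻¹ᵁ U)).val).toLinearMap.codRestrict
      (integralClosure Γ(X, U) Γ(Y, i.1.1)).toSubmodule fun z => z.2.map (resA i)
  refine Module.Finite.of_injective L fun a b h => Subtype.ext ?_
  refine Y.IsSheaf.section_ext fun y hy => ?_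
  rw [e] at hy
  simp only [TopologicalSpace.Opens.mem_iSup] at hy
  obtain ⟨i, hi, hyi⟩ := hy
  exact ⟨i.1, hle ⟨i, hi⟩, hyi, congrArg Subtype.val (congrFun h ⟨i, hi⟩)⟩

/-- Let f : Y ⟶ X be of finite type with Y reduced and every affine open of X having Nagata coordinate
ring, and let X' be the normalization of X in Y. If x' is a point of X' whose local ring has
dimension 1 and over which the fibre of Y ⟶ X' is empty, then the local ring of X' at x' is a
discrete valuation ring. (Such an f is automatically quasi-separated; the binder is carried only to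
form the relative normalization.) -/
theorem result {X Y : Scheme.{u}} (f : Y ⟶ X)
    [LocallyOfFiniteType f] [QuasiCompact f] [QuasiSeparated f] [IsReduced Y]
    (hX : ∀ U : X.affineOpens, CAlg.IsNagata Γ(X, U))
    (x' : ↥f.normalization) (hdim : ringKrullDim (f.normalization.presheaf.stalk x') = 1)
    (hx' : x' ∉ Set.range f.toNormalization.base) :
    ∃ _ : IsDomain (f.normalization.presheaf.stalk x'),
      IsDiscreteValuationRing (f.normalization.presheaf.stalk x') := by
  obtain ⟨U, hU, hxU, -⟩ := exists_isAffineOpen_mem_and_subset (U := (⊤ : X.Opens)) (x := f.fromNormalization x') trivial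
  let W : f.normalization.Opens := f.fromNormalization ⁻¹ᵁ U
  have hW : IsAffineOpen W := hU.preimage f.fromNormalization
  letI := (f.app U).hom.toAlgebra
  haveI := (hX ⟨U, hU⟩).1
  haveI hfin : Module.Finite Γ(X, U) (integralClosure Γ(X, U) Γ(Y, f ⁻¹ᵁ U)) :=
    Groth.Agent.S9676.finite_integralClosure f hU (hX ⟨U, hU⟩)
  let C := integralClosure Γ(X, U) Γ(Y, f ⁻¹ᵁ U)
  haveI : IsNoetherianRing C := IsNoetherianRing.of_finite Γ(X, U) C
  let e : Γ(f.normalization, W) ≃+* C := (f.normalizationObjIso hU).commRingCatIsoToRingEquiv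
  haveI : IsNoetherianRing Γ(f.normalization, W) := isNoetherianRing_of_ringEquiv C e.symm
  letI alg : Algebra Γ(f.normalization, W) Γ(Y, f.toNormalization ⁻¹ᵁ W) := (f.toNormalization.app W).hom.toAlgebra
  have hUW : f.toNormalization ⁻¹ᵁ W = f ⁻¹ᵁ U := by
    show f.toNormalization ⁻¹ᵁ f.fromNormalization ⁻¹ᵁ U = _
    rw [← Scheme.Hom.comp_preimage, f.toNormalization_fromNormalization]
  let k : Γ(Y, f.toNormalization ⁻¹ᵁ W) ≃+* Γ(Y, f ⁻¹ᵁ U) :=
    (Y.presheaf.mapIso (eqToIso hUW.symm).op).commRingCatIsoToRingEquiv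
  have hk : ∀ z : Γ(f.normalization, W), k (algebraMap Γ(f.normalization, W) _ z) = (e z : Γ(Y, f ⁻¹ᵁ U)) := fun z =>
    (congrArg (fun m : Γ(f.normalization, f.fromNormalization ⁻¹ᵁ U) ⟶ Γ(Y, f ⁻¹ᵁ U) => m.hom z)
      (f.normalizationObjIso_hom_val hU)).symm
  have hinj : Function.Injective (algebraMap Γ(f.normalization, W) Γ(Y, f.toNormalization ⁻¹ᵁ W)) := fun a b h =>
    e.injective (Subtype.ext ((hk a).symm.trans ((congrArg k h).trans (hk b))))
  have hcl : ∀ z : Γ(Y, f.toNormalization ⁻¹ᵁ W), IsIntegral Γ(f.normalization, W) z →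
      z ∈ Set.range (algebraMap Γ(f.normalization, W) Γ(Y, f.toNormalization ⁻¹ᵁ W)) := by
    intro z hz
    obtain ⟨p, hp, hpz⟩ := hz
    haveI : Algebra.IsIntegral Γ(X, U) C := ⟨fun c => integralClosure.isIntegral c⟩
    have h2 : IsIntegral C (k z) := ⟨p.map e.toRingHom, hp.map _, by
      rw [Polynomial.eval₂_map, show (algebraMap C Γ(Y, f ⁻¹ᵁ U)).comp e.toRingHom =
        k.toRingHom.comp (algebraMap Γ(f.normalization, W) _) from RingHom.ext fun c => (hk c).symm,
        show k z = k.toRingHom z from rfl, ← Polynomial.hom_eval₂, hpz, map_zero]⟩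
    have h3 : k z ∈ C := isIntegral_trans (R := Γ(X, U)) (A := C) (k z) h2
    exact ⟨e.symm ⟨k z, h3⟩, k.injective ((hk _).trans (congrArg Subtype.val (e.apply_symm_apply _)))⟩
  let P := hW.primeIdealOf ⟨x', hxU⟩
  letI := f.normalization.presheaf.algebra_section_stalk (⟨x', hxU⟩ : W)
  haveI := hW.isLocalization_stalk ⟨x', hxU⟩
  refine Groth.Agent.NormDVR.isDVR hinj hcl P.asIdeal hdim fun t ht => ?_
  obtain ⟨s, b, hs, hb⟩ := Groth.Agent.NormDVR.exists_inverse_multiple f.toNormalization hW P.asIdeal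
    (by rwa [show (⟨P.asIdeal, inferInstance⟩ : PrimeSpectrum Γ(f.normalization, W)) = P from rfl,
      hW.fromSpec_primeIdealOf]) t ht
  exact ⟨s, b, hs, hb⟩

end Groth.Agent.S9676
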