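import Groth.Statements.S9682
import Groth.Agent.S9334


set_option autoImplicit false
universe u
open CategoryTheory CategoryTheory.Limits AlgebraicGeometry
open Mor

namespace Groth.Agent.S9682

/-- Take f : X ⟶ Y locally of finite type and η the generic point of some irreducible component of Y.
Three conditions turn out to coincide: (1) each point of X mapping to η is the generic point of some
irreducible component of X; (2) f is quasi-finite at every point over η; (3) f is quasi-finite at
each point over η that is generic in some irreducible component of X. Stated as (1) iff (2) together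
with (1) iff (3). -/
theorem result {X Y : Scheme.{u}} (f : X ⟶ Y)
    [LocallyOfFiniteType f] (η : Y) (hη : closure {η} ∈ irreducibleComponents ↥Y) :
    ((∀ x : X, f.base x = η → closure {x} ∈ irreducibleComponents ↥X) ↔
      (∀ x : X, f.base x = η → f.QuasiFiniteAt x)) ∧
    ((∀ x : X, f.base x = η → closure {x} ∈ irreducibleComponents ↥X) ↔
      (∀ x : X, f.base x = η → closure {x} ∈ irreducibleComponents ↥X → f.QuasiFiniteAt x)) := by
  have hmax : ∀ y : Y, y ⤳ η → y = η := fun y hy => by
    have hsub : closure {η} ⊆ closure {y} :=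
      closure_minimal (Set.singleton_subset_iff.mpr hy.mem_closure) isClosed_closure
    have := Set.Subset.antisymm hsub (hη.2 isIrreducible_singleton.closure hsub)
    exact ((show IsGenericPoint η (closure {y}) from this).eq rfl).symm
  have hgen : ∀ x : X, f.base x = η → ∃ ξ : X, ξ ⤳ x ∧ f.base ξ = η ∧
      closure {ξ} ∈ irreducibleComponents ↥X := by
    intro x hx
    obtain ⟨ξ, hξ⟩ := QuasiSober.sober (isIrreducible_irreducibleComponent (x := x))
      isClosed_irreducibleComponent
    have hs : ξ ⤳ x := hξ.specializes mem_irreducibleComponent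
    refine ⟨ξ, hs, hmax _ (hx ▸ hs.map f.continuous), ?_⟩
    rw [hξ.def]
    exact irreducibleComponent_mem_irreducibleComponents x
  have hqf : ∀ a b : X, f.base a = η → f.base b = η → a ⤳ b → f.QuasiFiniteAt a ∨ f.QuasiFiniteAt b → a = b := by
    intro a b ha hb hab hq
    have key : ∀ (s : Y) (a' b' : ↑(f.fiber s)), a' ⤳ b' →
        IsClopen ({a'} : Set ↑(f.fiber s)) ∨ IsClopen ({b'} : Set ↑(f.fiber s)) → a' = b' := by
      rintro s a' b' h (h' | h')
      · exact (h.mem_closed h'.1 rfl).symm
      · exact h.mem_open h'.2 rfl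
    have hlift : ∀ z : X, f.base z = η → ∃ z' : ↑(f.fiber η), f.fiberι η z' = z ∧
        (f.QuasiFiniteAt z → IsClopen ({z'} : Set ↑(f.fiber η))) := by
      intro z hz
      subst hz
      exact ⟨f.asFiber z, f.fiberι_asFiber z, fun h => h.isClopen_singleton_asFiber⟩
    obtain ⟨a', ha', hca⟩ := hlift a ha
    obtain ⟨b', hb', hcb⟩ := hlift b hb
    rw [← ha', ← hb'] at hab ⊢
    exact congrArg _ (key η a' b' ((f.fiberι η).isEmbedding.isInducing.specializes_iff.mp hab)
      (hq.imp hca hcb))
  have h12 : (∀ x : X, f.base x = η → closure {x} ∈ irreducibleComponents ↥X) →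
      ∀ x : X, f.base x = η → f.QuasiFiniteAt x := by
    intro h1 x hx
    have huniq : ∀ a b : X, f.base a = η → f.base b = η → a ⤳ b → a = b := by
      intro a b ha hb hab
      have hsub : closure {b} ⊆ closure {a} :=
        closure_minimal (Set.singleton_subset_iff.mpr hab.mem_closure) isClosed_closure
      have := Set.Subset.antisymm hsub ((h1 b hb).2 isIrreducible_singleton.closure hsub)
      exact ((show IsGenericPoint b (closure {a}) from this).eq rfl).symm
    subst hx
    have hfib : ∀ w : ↑(f.fiber (f.base x)), f.base (f.fiberι _ w) = f.base x := fun w => by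
      have : f.fiberι _ w ∈ Set.range (f.fiberι (f.base x)) := ⟨w, rfl⟩
      rwa [Scheme.Hom.range_fiberι] at this
    refine (Groth.Agent.S9334.result f x).mpr ⟨?_, fun x' hx' => ?_⟩
    · refine isClosed_of_closure_subset fun w hw => ?_
      have hs : f.asFiber x ⤳ w := specializes_iff_mem_closure.mpr hw
      have := huniq _ _ (hfib _) (hfib _) (hs.map (f.fiberι _).continuous)
      exact ((f.fiberι _).isEmbedding.injective this).symm
    · exact (f.fiberι _).isEmbedding.injective (huniq _ _ (hfib _) (hfib _) (hx'.map (f.fiberι _).continuous))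
  refine ⟨⟨h12, fun h2 x hx => ?_⟩, ⟨fun h1 x hx _ => h12 h1 x hx, fun h3 x hx => ?_⟩⟩
  · obtain ⟨ξ, hs, hξ, hc⟩ := hgen x hx
    exact (hqf ξ x hξ hx hs (Or.inr (h2 x hx))) ▸ hc
  · obtain ⟨ξ, hs, hξ, hc⟩ := hgen x hx
    exact (hqf ξ x hξ hx hs (Or.inl (h3 ξ hξ hc))) ▸ hc

end Groth.Agent.S9682
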