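import Groth.Statements.S9724
import Mathlib
import Groth.Agent.SmCartier.Main
import Groth.Agent.SmCartier.Sep

set_option autoImplicit false
attribute [-instance] CategoryTheory.catToReflQuiver
set_option linter.style.haveILetI false
set_option backward.isDefEq.respectTransparency false
universe u
open FlatMor

namespace Groth.Agent.S9724

open AlgebraicGeometry CategoryTheory Limits in
/-- Let f : X ⟶ S be a morphism and x a point such that f is smooth on an open neighbourhood of x, the
residue field extension κ(x)/κ(f x) is separable (formally smooth), and x is not the generic point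
of any irreducible component of the fibre over f x, i.e. (the fibre being smooth over a field near
x) the maximal ideal of the local ring of the fibre at x is nonzero. Then there are an affine open U
∋ x and a nonzerodivisor h' of Γ(X, U) vanishing at x such that the closed subscheme V(h') of U, an
effective Cartier divisor through x, is smooth over S. -/
theorem result {X S : Scheme.{u}} (f : X ⟶ S) (x : X)
    (W : X.Opens) (hxW : x ∈ W) (hW : Smooth (W.ι ≫ f))
    (hsep : letI := (f.residueFieldMap x).hom.toAlgebra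
      Algebra.FormallySmooth (S.residueField (f x)) (X.residueField x))
    (hgen : IsLocalRing.maximalIdeal ↑((f.fiber (f x)).presheaf.stalk (f.asFiber x)) ≠ ⊥) :
    ∃ (U : X.Opens) (hU : IsAffineOpen U) (hx : x ∈ U) (h' : Γ(X, U)), h' ∈ nonZeroDivisors Γ(X, U) ∧
      X.presheaf.germ U x hx h' ∈ IsLocalRing.maximalIdeal ↑(X.presheaf.stalk x) ∧
      Smooth (Spec.map (CommRingCat.ofHom (Ideal.Quotient.mk (Ideal.span {h'}))) ≫ hU.fromSpec ≫ f) := by
  obtain ⟨h, hm, hd⟩ : ∃ h ∈ IsLocalRing.maximalIdeal ↑(X.presheaf.stalk x),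
      letI := (f.stalkMap x).hom.toAlgebra
      KaehlerDifferential.D ↑(S.presheaf.stalk (f x)) ↑(X.presheaf.stalk x) h ∉
        IsLocalRing.maximalIdeal ↑(X.presheaf.stalk x) •
          (⊤ : Submodule ↑(X.presheaf.stalk x) Ω[↑(X.presheaf.stalk x)⁄↑(S.presheaf.stalk (f x))]) := by
    by_contra hall
    push Not at hall
    letI := (f.stalkMap x).hom.toAlgebra
    haveI : IsLocalHom (algebraMap ↑(S.presheaf.stalk (f x)) ↑(X.presheaf.stalk x)) :=
      inferInstanceAs (IsLocalHom (f.stalkMap x).hom)
    letI : Algebra (S.residueField (f x)) (X.residueField x) := (f.residueFieldMap x).hom.toAlgebra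
    have hFS : @Algebra.FormallySmooth (IsLocalRing.ResidueField ↑(S.presheaf.stalk (f x)))
        (IsLocalRing.ResidueField ↑(X.presheaf.stalk x)) _ _ IsLocalRing.ResidueField.instAlgebra := by
      convert hsep using 1
      all_goals first | rfl | (refine Algebra.algebra_ext _ _ fun r => ?_; obtain ⟨r, rfl⟩ := IsLocalRing.residue_surjective r; rfl)
    have hle := Groth.Agent.SmCartier.maximalIdeal_le_of_forall_D_mem (A := ↑(S.presheaf.stalk (f x))) hall
    let f' := W.ι ≫ f
    haveI : Smooth f' := hW
    let x' : W.toScheme := ⟨x, hxW⟩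
    let ε := W.ι.stalkMap x'
    have hf'x : (f'.stalkMap x').hom = ε.hom.comp (f.stalkMap x).hom := by
      rw [Scheme.Hom.stalkMap_comp W.ι f x']; rfl
    haveI : Smooth (f'.fiberToSpecResidueField (f' x')) :=
      inferInstanceAs (Smooth (Limits.pullback.snd f' (S.fromSpecResidueField (f' x'))))
    haveI := Groth.Agent.GrpSchLib.isRegularLocalRing_stalk_of_smooth (f'.fiberToSpecResidueField (f' x')) (f'.asFiber x')
    let φ := Groth.Agent.FibFlat.sm (f'.fiberι (f' x')) (f'.asFiber x') x' (f'.fiberι_asFiber x')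
    have hφs : Function.Surjective φ := Groth.Agent.FibFlat.surjective_sm _ _ _
    have hkφ : RingHom.ker φ = Ideal.map (f'.stalkMap x').hom (IsLocalRing.maximalIdeal (S.presheaf.stalk (f' x'))) := by
      rw [← Groth.Agent.FibFlat.sm_self f' x']
      exact Groth.Agent.FibFlat.ker_sm_fiberι f' (f' x') (f'.asFiber x') x' (f'.fiberι_asFiber x')
    let m := IsLocalRing.maximalIdeal ↑(X.presheaf.stalk x)
    let χ : ↑(X.presheaf.stalk x) →+* _ := φ.comp ε.hom
    have hεb : Function.Bijective ε.hom := ConcreteCategory.bijective_of_isIso ε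
    have hχs : Function.Surjective χ := hφs.comp hεb.2
    have hA : ((IsLocalRing.maximalIdeal ↑(S.presheaf.stalk (f x))).map (f.stalkMap x).hom).map χ = ⊥ := by
      rw [← Ideal.map_map ε.hom φ, Ideal.map_map (f.stalkMap x).hom ε.hom, ← hf'x, Ideal.map_eq_bot_iff_le_ker, hkφ]
      exact le_rfl
    haveI : IsLocalHom χ := RingHom.isLocalHom_comp φ ε.hom
    have hmax : m.map χ = IsLocalRing.maximalIdeal _ := IsLocalRing.map_maximalIdeal_of_surjective χ hχs
    have h2 : IsLocalRing.maximalIdeal ((f'.fiber (f' x')).presheaf.stalk (f'.asFiber x')) ≤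
        IsLocalRing.maximalIdeal ((f'.fiber (f' x')).presheaf.stalk (f'.asFiber x')) ^ 2 := by
      conv_lhs => rw [← hmax]
      refine (Ideal.map_mono hle).trans ?_
      rw [Ideal.map_sup, Ideal.map_pow, hmax]
      exact sup_le (hA.trans_le bot_le) le_rfl
    have hfield := by_contra fun hnf => Groth.Agent.RegLoc6.maximalIdeal_sq_ne
      (R := (f'.fiber (f' x')).presheaf.stalk (f'.asFiber x')) hnf h2
    rw [IsLocalRing.isField_iff_maximalIdeal_eq, ← hmax, Ideal.map_eq_bot_iff_le_ker] at hfield
    refine hgen ?_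
    let φ₀ := Groth.Agent.FibFlat.sm (f.fiberι (f x)) (f.asFiber x) x (f.fiberι_asFiber x)
    have hk₀ : RingHom.ker φ₀ = Ideal.map (f.stalkMap x).hom (IsLocalRing.maximalIdeal (S.presheaf.stalk (f x))) := by
      rw [← Groth.Agent.FibFlat.sm_self f x]
      exact Groth.Agent.FibFlat.ker_sm_fiberι f (f x) (f.asFiber x) x (f.fiberι_asFiber x)
    rw [← IsLocalRing.map_maximalIdeal_of_surjective φ₀ (Groth.Agent.FibFlat.surjective_sm _ _ _),
      Ideal.map_eq_bot_iff_le_ker, hk₀]
    intro b hb
    have hb' : φ (ε.hom b) = 0 := RingHom.mem_ker.1 (hfield hb)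
    rw [← RingHom.mem_ker, hkφ, hf'x, ← Ideal.map_map] at hb'
    obtain ⟨y, hy, hye⟩ := (Ideal.mem_map_iff_of_surjective ε.hom hεb.2).1 hb'
    exact hεb.1 hye ▸ hy
  obtain ⟨U, hU, hx, h', hg, hn, hs⟩ := Groth.Agent.SmCartier.exists_cartier f x W hxW hW h hm hd
  exact ⟨U, hU, hx, h', hn, hg ▸ hm, hs⟩

end Groth.Agent.S9724
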