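import Groth.Statements.S9736
import Groth.Agent.Synt29.Descent

set_option autoImplicit false
universe u
open FlatMor

namespace Groth.Agent.S9736

open AlgebraicGeometry CategoryTheory Limits in
/-- Let f : X ⟶ S be a standard syntomic morphism of affine schemes. Then f is the base change of a
morphism of finite type f₀ : X₀ ⟶ S₀ between affine schemes with S₀ of finite type over ℤ and f₀
standard syntomic. -/
theorem result {X S : Scheme.{u}} (f : X ⟶ S) [IsAffine X] [IsAffine S] (hf : Synt.IsStandardSyntomic f) :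
    ∃ (X₀ S₀ : Scheme.{u}) (f₀ : X₀ ⟶ S₀) (g : S ⟶ S₀) (g' : X ⟶ X₀), IsAffine X₀ ∧ IsAffine S₀ ∧ IsPullback g' f f₀ g ∧
      Algebra.FiniteType ℤ Γ(S₀, ⊤) ∧ LocallyOfFiniteType f₀ ∧ Synt.IsStandardSyntomic f₀ := by
  obtain ⟨R, _, n, c, F, hF, e₁, e₂, he⟩ := hf
  obtain ⟨R₀, F₀, hR₀, hmap, h₀⟩ := Groth.Agent.Synt29.exists_descent hF
  have e := Groth.Agent.Synt29.baseChangeEquiv R₀ F₀ R
  rw [show Groth.Agent.Synt29.mapPoly R₀ F₀ R = F from funext hmap] at e
  let φ : CommRingCat.of R₀ ⟶ CommRingCat.of R := CommRingCat.ofHom (algebraMap R₀ R)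
  let π : CommRingCat.of R₀ ⟶ CommRingCat.of (Synt.RelGCIRing R₀ n c F₀) := CommRingCat.ofHom (algebraMap R₀ _)
  let ψ : CommRingCat.of (Synt.RelGCIRing R₀ n c F₀) ⟶ CommRingCat.of (Synt.RelGCIRing R n c F) :=
    CommRingCat.ofHom (e.toRingHom.comp
      (Algebra.TensorProduct.includeRight (R := R₀) (A := R) (B := Synt.RelGCIRing R₀ n c F₀)).toRingHom)
  let E : CommRingCat.of (TensorProduct R₀ R (Synt.RelGCIRing R₀ n c F₀)) ≅ CommRingCat.of (Synt.RelGCIRing R n c F) :=
    RingEquiv.toCommRingCatIso e.toRingEquiv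
  have hp : CategoryTheory.IsPushout φ π (CommRingCat.ofHom (algebraMap R (Synt.RelGCIRing R n c F))) ψ :=
    (CommRingCat.isPushout_tensorProduct R₀ R (Synt.RelGCIRing R₀ n c F₀)).of_iso (Iso.refl _) (Iso.refl _) (Iso.refl _)
      E (by simp [φ]) (by simp [π])
      (CommRingCat.hom_ext (RingHom.ext fun r => e.commutes r)) (CommRingCat.hom_ext (RingHom.ext fun r => rfl))
  haveI : Algebra.FiniteType R₀ (Synt.RelGCIRing R₀ n c F₀) :=
    Algebra.FiniteType.of_surjective (Ideal.Quotient.mkₐ R₀ _) Ideal.Quotient.mk_surjective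
  refine ⟨Spec (CommRingCat.of (Synt.RelGCIRing R₀ n c F₀)), Spec (CommRingCat.of R₀), Spec.map π,
    e₂.hom ≫ Spec.map φ, e₁.hom ≫ Spec.map ψ, inferInstance, inferInstance, ?_, ?_, ?_,
    ⟨R₀, inferInstance, n, c, F₀, h₀, Iso.refl _, Iso.refl _, (Category.id_comp _).trans (Category.comp_id _).symm⟩⟩
  · exact (isPullback_SpecMap_of_isPushout _ _ _ _ hp).flip.of_iso e₁.symm (Iso.refl _) e₂.symm (Iso.refl _)
      (by simp) (by
        show Spec.map _ ≫ e₂.inv = e₁.inv ≫ f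
        rw [Iso.comp_inv_eq, Category.assoc, ← he, Iso.inv_hom_id_assoc])
      (by simp) (by simp)
  · exact Algebra.FiniteType.equiv hR₀
      (Scheme.ΓSpecIso (CommRingCat.of R₀)).commRingCatIsoToRingEquiv.symm.toIntAlgEquiv
  · exact (HasRingHomProperty.Spec_iff (P := @LocallyOfFiniteType)).2 (RingHom.finiteType_algebraMap.2 inferInstance)

end Groth.Agent.S9736
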