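import Groth.Statements.S9750
import Groth.Agent.FEThick.Conormal
import Groth.Agent.MorLib.FormallyEtaleHom
import Groth.Agent.UnivThick.Exists

set_option autoImplicit false
attribute [-instance] CategoryTheory.catToReflQuiver
universe u
open FlatMor

namespace Groth.Agent.S9750

open AlgebraicGeometry CategoryTheory Limits in
/-- (1) ⇔ (2) ⇔ (3): a morphism f : X ⟶ S is formally étale (unique infinitesimal lifting against
square-zero thickenings of affine schemes) if and only if f is formally unramified and X, through
the identity and f, is its own universal square-zero (first order) thickening relative to f; and,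
for f formally unramified with universal first order thickening data (i : X ⟶ X', h' : X' ⟶ S), f is
formally étale if and only if the conormal sheaf of i (the conormal sheaf of f) is zero. The
published statement also lists a fourth equivalent condition, the vanishing of both the sheaf of
differentials and the conormal sheaf; this row omits it. -/
theorem result {X S : Scheme.{u}} (f : X ⟶ S) :
    (MoreMor.IsFormallyEtaleHom f ↔ FormallyUnramified f ∧ OmegaSh.IsUnivThickening f (𝟙 X) f) ∧
    (∀ {X' : Scheme.{u}} (i : X ⟶ X') (h' : X' ⟶ S) [QuasiCompact i], FormallyUnramified f →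
      OmegaSh.IsUnivThickening f i h' → (MoreMor.IsFormallyEtaleHom f ↔ IsZero (Omega.conormal i))) := by
  classical
  have h12 : MoreMor.IsFormallyEtaleHom f →
      FormallyUnramified f ∧ OmegaSh.IsUnivThickening f (𝟙 X) f := fun hf => by
    refine ⟨⟨fun {U} hU {V} hV e => ?_⟩, ?_⟩
    · have := (Groth.Agent.MorLib.isFormallyEtaleHom_iff_appLE f).mp hf V U hV hU e
      let _ := (f.appLE U V e).hom.toAlgebra
      show Algebra.FormallyUnramified _ _
      infer_instance
    · refine ⟨⟨⟨inferInstance, inferInstance⟩, ?_⟩, Category.id_comp f, fun T T' j b a hj w => ?_⟩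
      · rw [Scheme.Hom.ker_eq_bot_of_isIso (𝟙 X)]
        exact Scheme.IdealSheafData.ext (funext fun V => by simp)
      · rw [Category.comp_id]
        exact Groth.Agent.MorLib.existsUnique_lift_of_isFirstOrderThickening hf j hj a b w
  have h21 : OmegaSh.IsUnivThickening f (𝟙 X) f → MoreMor.IsFormallyEtaleHom f := fun hu => by
    intro A _ I hI a b w
    obtain ⟨l, ⟨h1, h2⟩, hl⟩ := hu.2.2 _ _ _ b a
      (Groth.Agent.MorLib.isFirstOrderThickening_quotientMk A I hI) w
    rw [Category.comp_id] at h1
    exact ⟨l, ⟨h1, h2⟩, fun m ⟨m1, m2⟩ => hl m ⟨by rw [Category.comp_id]; exact m1, m2⟩⟩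
  refine ⟨⟨h12, fun h => h21 h.2⟩, fun {X'} i h' _ hfu hu => ?_⟩
  constructor
  · intro hf
    obtain ⟨e, he, -⟩ := Groth.Agent.UnivThick.exists_iso_of_isUniv (h12 hf).2 hu
    rw [Category.id_comp] at he
    subst he
    exact Groth.Agent.FEThick.isZero_conormal_of_isIso e.hom
  · intro hz
    have := Groth.Agent.FEThick.isIso_of_isZero_conormal i hu.1 hz
    refine h21 ?_
    have h1 := Groth.Agent.UnivThick.isUniv_of_iso (Iso.refl X) (asIso i) (𝟙 X) (by simp) hu
    exact Groth.Agent.UnivThick.isUniv_congr (Category.id_comp f) hu.2.1 h1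

end Groth.Agent.S9750
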