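import Groth.Statements.S9769
import Groth.Agent.S1393
import Groth.Prelude.Def_DerSch
import Groth.Agent.QCoh.PullStalk
import Groth.Agent.FlatDvr.FibreStalk
import Groth.Agent.ConsPropLib.Fibre
import Groth.Agent.QCoh.FlatOver

set_option autoImplicit false
attribute [-instance] CategoryTheory.catToReflQuiver
universe u
open FlatMor

namespace Groth.Agent.S9769

open CategoryTheory Limits AlgebraicGeometry

set_option backward.isDefEq.respectTransparency false in
open TensorProduct Groth.Agent in
theorem key {X S : Scheme.{u}} (f : X ⟶ S) (F : X.Modules) (hFq : Coh.IsQCoh F) {s : S} (w : ↥(f.fiber s))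
    (h : Module.Flat ((f.fiber s).presheaf.stalk w) (((Scheme.Modules.pullback (f.fiberι s)).obj F).presheaf.stalk w)) :
    Module.Flat (↑(X.presheaf.stalk (f.fiberι s w)) ⧸ Ideal.map (f.stalkMap (f.fiberι s w)).hom (IsLocalRing.maximalIdeal ↑(S.presheaf.stalk (f (f.fiberι s w)))))
      (↑(F.presheaf.stalk (f.fiberι s w)) ⧸ (Ideal.map (f.stalkMap (f.fiberι s w)).hom (IsLocalRing.maximalIdeal ↑(S.presheaf.stalk (f (f.fiberι s w)))) • (⊤ : Submodule ↑(X.presheaf.stalk (f.fiberι s w)) ↑(F.presheaf.stalk (f.fiberι s w))))) := by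
  have hker := FlatDvr.ker_stalkMap_fiberι f w
  have hsur := (f.fiberι s).stalkMap_surjective w
  obtain ⟨e⟩ := QCoh.nonempty_pullStalkEquiv (f.fiberι s) hFq w
  haveI := h
  set I := Ideal.map (f.stalkMap (f.fiberι s w)).hom (IsLocalRing.maximalIdeal ↑(S.presheaf.stalk (f (f.fiberι s w)))) with hI
  let φ := ((f.fiberι s).stalkMap w).hom
  letI : Algebra (X.presheaf.stalk (f.fiberι s w)) ((f.fiber s).presheaf.stalk w) := φ.toAlgebra
  haveI : Module.Flat ((f.fiber s).presheaf.stalk w) (((f.fiber s).presheaf.stalk w) ⊗[X.presheaf.stalk (f.fiberι s w)] (F.presheaf.stalk (f.fiberι s w))) :=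
    Module.Flat.of_linearEquiv e.symm
  let g : {g : ↑(X.presheaf.stalk (f.fiberι s w)) →+* ↑(X.presheaf.stalk (f.fiberι s w)) ⧸ I // RingHom.ker φ ≤ RingHom.ker g} :=
    ⟨Ideal.Quotient.mk I, by rw [Ideal.mk_ker, hker]⟩
  let θ : ((f.fiber s).presheaf.stalk w) →+* (X.presheaf.stalk (f.fiberι s w)) ⧸ I := φ.liftOfSurjective hsur g
  letI := θ.toAlgebra
  haveI : IsScalarTower (X.presheaf.stalk (f.fiberι s w)) ((f.fiber s).presheaf.stalk w) ((X.presheaf.stalk (f.fiberι s w)) ⧸ I) :=
    IsScalarTower.of_algebraMap_eq' (φ.liftOfSurjective_comp hsur g).symm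
  exact Module.Flat.of_linearEquiv
    (((AlgebraTensorModule.cancelBaseChange (X.presheaf.stalk (f.fiberι s w)) ((f.fiber s).presheaf.stalk w)
      ((X.presheaf.stalk (f.fiberι s w)) ⧸ I) ((X.presheaf.stalk (f.fiberι s w)) ⧸ I) (F.presheaf.stalk (f.fiberι s w))) ≪≫ₗ
      ((quotTensorEquivQuotSMul (F.presheaf.stalk (f.fiberι s w)) I).extendScalarsOfSurjective Ideal.Quotient.mk_surjective)).symm)

open Groth.Agent in
theorem free_at_fibre {X S : Scheme.{u}} (f : X ⟶ S) (F : X.Modules) (hFq : Coh.IsQCoh F) (hF : CohB1.IsFP F)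
    (hfl : FlatMod.IsFlatOver f F) {s : S} (w : ↥(f.fiber s))
    (h : Module.Flat ((f.fiber s).presheaf.stalk w) (((Scheme.Modules.pullback (f.fiberι s)).obj F).presheaf.stalk w)) :
    Module.Free (X.presheaf.stalk (f.fiberι s w)) (F.presheaf.stalk (f.fiberι s w)) := by
  letI := (f.stalkMap (f.fiberι s w)).hom.toAlgebra
  letI := FlatMod.moduleStalkOver f F (f.fiberι s w)
  haveI : IsScalarTower (S.presheaf.stalk (f (f.fiberι s w))) (X.presheaf.stalk (f.fiberι s w)) (F.presheaf.stalk (f.fiberι s w)) :=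
    IsScalarTower.of_algebraMap_smul fun _ _ => rfl
  haveI : Module.Flat (S.presheaf.stalk (f (f.fiberι s w))) (F.presheaf.stalk (f.fiberι s w)) := hfl _
  haveI : IsLocalHom (algebraMap (S.presheaf.stalk (f (f.fiberι s w))) (X.presheaf.stalk (f.fiberι s w))) :=
    inferInstanceAs (IsLocalHom (f.stalkMap (f.fiberι s w)).hom)
  haveI : Module.FinitePresentation (X.presheaf.stalk (f.fiberι s w)) (F.presheaf.stalk (f.fiberι s w)) :=
    S1393.fp_stalk hFq hF _
  exact S1393.free_of_fibre (A := S.presheaf.stalk (f (f.fiberι s w))) (key f F hFq w h)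

open TensorProduct Groth.Agent in
theorem free_of_free_pullback {X S X' S' : Scheme.{u}} (f : X ⟶ S) (F : X.Modules) (hFq : Coh.IsQCoh F) (hF : CohB1.IsFP F)
    (hfl : FlatMod.IsFlatOver f F) (g : S' ⟶ S) (f' : X' ⟶ S') (g' : X' ⟶ X) (hc : IsPullback g' f' f g) (x' : X')
    (hfree : Module.Free (X'.presheaf.stalk x') (((Scheme.Modules.pullback g').obj F).presheaf.stalk x')) :
    Module.Free (X.presheaf.stalk (g' x')) (F.presheaf.stalk (g' x')) := by
  obtain ⟨s', w', rfl⟩ : ∃ (s' : S') (w' : ↥(f'.fiber s')), f'.fiberι s' w' = x' :=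
    ⟨f' x', (show x' ∈ Set.range (f'.fiberι (f' x')) by rw [f'.range_fiberι]; rfl)⟩
  obtain ⟨h, hh, hι⟩ := ConsPropLib.exists_fibre_pullback hc s'
  have hx : f.fiberι (g s') (h w') = g' (f'.fiberι s' w') := by rw [← Scheme.Hom.comp_apply, hι]; rfl
  rw [← hx]
  refine free_at_fibre f F hFq hF hfl (h w') ?_
  let G := (Scheme.Modules.pullback (f.fiberι (g s'))).obj F
  have hG : Coh.IsQCoh G := QCoh.isQCoh_pullback _ hFq
  let e : (Scheme.Modules.pullback h).obj G ≅ (Scheme.Modules.pullback (f'.fiberι s')).obj ((Scheme.Modules.pullback g').obj F) :=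
    (Scheme.Modules.pullbackComp h _).app F ≪≫ (Scheme.Modules.pullbackCongr hι).app F ≪≫
      ((Scheme.Modules.pullbackComp (f'.fiberι s') g').app F).symm
  obtain ⟨e₁⟩ := QCoh.nonempty_pullStalkEquiv h hG w'
  obtain ⟨e₂⟩ := QCoh.nonempty_pullStalkEquiv (f'.fiberι s') (QCoh.isQCoh_pullback g' hFq) w'
  letI : Algebra (X'.presheaf.stalk (f'.fiberι _ w')) ((f'.fiber _).presheaf.stalk w') := ((f'.fiberι _).stalkMap w').hom.toAlgebra
  letI : Algebra ((f.fiber _).presheaf.stalk (h w')) ((f'.fiber _).presheaf.stalk w') := (h.stalkMap w').hom.toAlgebra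
  haveI : Module.Free ((f'.fiber _).presheaf.stalk w') (((Scheme.Modules.pullback (f'.fiberι _)).obj ((Scheme.Modules.pullback g').obj F)).presheaf.stalk w') :=
    haveI := hfree
    Module.Free.of_equiv e₂.symm
  haveI hfl' : Module.Flat ((f'.fiber _).presheaf.stalk w') (((Scheme.Modules.pullback (f'.fiberι s')).obj ((Scheme.Modules.pullback g').obj F)).presheaf.stalk w') :=
    Module.Flat.of_free
  haveI : Module.Flat ((f'.fiber _).presheaf.stalk w') (((Scheme.Modules.pullback h).obj G).presheaf.stalk w') :=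
    @Module.Flat.of_linearEquiv _ _ _ _ _ _ _ _ hfl' ((DerSch.stalkFunctor _ w').mapIso e).toLinearEquiv
  haveI : Module.Flat ((f'.fiber _).presheaf.stalk w') (((f'.fiber _).presheaf.stalk w') ⊗[(f.fiber _).presheaf.stalk (h w')] G.presheaf.stalk (h w')) :=
    Module.Flat.of_linearEquiv e₁.symm
  haveI : Flat (Spec.map (g.residueFieldMap s')) :=
    Flat.SpecMap_iff.2 (by algebraize [(g.residueFieldMap s').hom]; exact Module.Flat.of_free)
  haveI : Flat h := MorphismProperty.of_isPullback hh.flip inferInstance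
  haveI : Module.Flat ((f.fiber _).presheaf.stalk (h w')) ((f'.fiber _).presheaf.stalk w') := Flat.stalkMap h w'
  haveI : IsLocalHom (algebraMap ((f.fiber _).presheaf.stalk (h w')) ((f'.fiber _).presheaf.stalk w')) :=
    inferInstanceAs (IsLocalHom (h.stalkMap w').hom)
  haveI : Module.FaithfullyFlat ((f.fiber _).presheaf.stalk (h w')) ((f'.fiber _).presheaf.stalk w') :=
    Module.FaithfullyFlat.of_flat_of_isLocalHom
  exact Module.Flat.of_flat_tensorProduct _ _ ((f'.fiber _).presheaf.stalk w')


open AlgebraicGeometry CategoryTheory Limits in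
/-- Let f : X ⟶ S be locally of finite presentation and F a finitely presented O_X-module which is flat
over S. Then the formation of the locus of points of X near which F is free (equivalently, for
finitely presented F, where the stalk of F is a free module) commutes with arbitrary base change:
for a cartesian square with g' : X' ⟶ X over S' ⟶ S, the free locus of (g')^*F is the preimage of
that of F. The published statement also asserts that this locus is open; this row states only that
its formation commutes with base change. -/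
theorem result {X S X' S' : Scheme.{u}} (f : X ⟶ S) [LocallyOfFinitePresentation f]
    (F : X.Modules) (hF : CohB1.IsFP F) (hfl : FlatMod.IsFlatOver f F)
    (g : S' ⟶ S) (f' : X' ⟶ S') (g' : X' ⟶ X) (hc : IsPullback g' f' f g) :
    {x' : ↑X' | Module.Free ↑(X'.presheaf.stalk x') ↑(((Scheme.Modules.pullback g').obj F).presheaf.stalk x')} =
      g' ⁻¹' {x : ↑X | Module.Free ↑(X.presheaf.stalk x) ↑(F.presheaf.stalk x)} := by
  have hFq : Coh.IsQCoh F := Groth.Agent.QCoh.isQCoh_of_isFP hF
  ext x'
  refine ⟨fun hfree => ?_, fun hfree => ?_⟩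
  · exact Groth.Agent.S9769.free_of_free_pullback f F hFq hF hfl g f' g' hc x' hfree
  · obtain ⟨e⟩ := Groth.Agent.QCoh.nonempty_pullStalkEquiv g' hFq x'
    letI : Algebra (X.presheaf.stalk (g' x')) (X'.presheaf.stalk x') := (g'.stalkMap x').hom.toAlgebra
    haveI : Module.Free (X.presheaf.stalk (g' x')) (F.presheaf.stalk (g' x')) := hfree
    exact Module.Free.of_equiv e.symm

end Groth.Agent.S9769
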