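import Groth.Statements.S9772
import Groth.Agent.ConormalFrame.UnivEtale
import Groth.Agent.UnivThick.Scheme
import Groth.Agent.KRegLib.Mor
import Groth.Agent.ExtShX.FundCon

set_option backward.isDefEq.respectTransparency false
set_option backward.isDefEq.respectTransparency.types false
set_option linter.style.haveILetI false

set_option autoImplicit false
universe u
open OmegaSh

namespace Groth.Agent.S9772

open Groth.Agent Groth.Agent.Synt29 Groth.Agent.Synt29.OmegaStalk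

open AlgebraicGeometry CategoryTheory Limits in
/-- Shrink an affine open of the thickening to one cut out by a function on the thickened scheme. -/
theorem exists_basic {X X' : Scheme.{u}} (i : X ⟶ X') [IsClosedImmersion i] {V' : X'.Opens} (hV' : IsAffineOpen V')
    (g : Γ(X, i ⁻¹ᵁ V')) :
    ∃ (V'' : X'.Opens) (_ : IsAffineOpen V'') (hle : V'' ≤ V'), i ⁻¹ᵁ V'' = X.basicOpen g := by
  obtain ⟨g', rfl⟩ := i.app_surjective V' hV' g
  exact ⟨X'.basicOpen g', hV'.basicOpen g', X'.basicOpen_le g', Scheme.preimage_basicOpen i g'⟩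

theorem away_map {A E0 C0 C2 : Type u} [CommRing A] [CommRing E0] [CommRing C0] [CommRing C2]
    [Algebra A E0] [Algebra A C0] [Algebra A C2] [Algebra C0 C2] [IsScalarTower A C0 C2]
    (q0 : E0 →ₐ[A] C0) (hq0 : Function.Surjective q0) (g : E0) [IsLocalization.Away (q0 g) C2] :
    ∃ q : Localization.Away g →ₐ[A] C2, Function.Surjective q ∧
      RingHom.ker q.toRingHom = (RingHom.ker q0.toRingHom).map (algebraMap E0 (Localization.Away g)) := by
  let E := Localization.Away g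
  have hg : ∀ y : Submonoid.powers g, IsUnit (((IsScalarTower.toAlgHom A C0 C2).comp q0) y) := by
    rintro ⟨_, k, rfl⟩
    rw [map_pow]
    exact (IsLocalization.Away.algebraMap_isUnit (q0 g)).pow k
  let q : E →ₐ[A] C2 := IsLocalization.liftAlgHom (f := (IsScalarTower.toAlgHom A C0 C2).comp q0) hg
  have hq : ∀ e, q (algebraMap E0 E e) = algebraMap C0 C2 (q0 e) := fun e => IsLocalization.lift_eq _ e
  refine ⟨q, fun x => ?_, le_antisymm (fun x hx => ?_) (Ideal.map_le_iff_le_comap.2 fun e he => ?_)⟩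
  · obtain ⟨c, ⟨_, k, rfl⟩, rfl⟩ := IsLocalization.exists_mk'_eq (Submonoid.powers (q0 g)) x
    obtain ⟨e, rfl⟩ := hq0 c
    refine ⟨IsLocalization.mk' E e (⟨g ^ k, k, rfl⟩ : Submonoid.powers g), IsLocalization.eq_mk'_iff_mul_eq.2 ?_⟩
    show _ * algebraMap C0 C2 (q0 g ^ k) = _
    rw [← map_pow q0, ← hq, ← map_mul, IsLocalization.mk'_spec E e (⟨g ^ k, k, rfl⟩ : Submonoid.powers g), hq]
  · obtain ⟨e, ⟨_, k, rfl⟩, rfl⟩ := IsLocalization.exists_mk'_eq (Submonoid.powers g) x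
    have h0 : algebraMap C0 C2 (q0 e) = algebraMap C0 C2 0 := by
      have h1 := congrArg q (IsLocalization.mk'_spec E e (⟨g ^ k, k, rfl⟩ : Submonoid.powers g))
      rw [map_mul, show q (IsLocalization.mk' E e _) = 0 from hx, zero_mul, hq] at h1
      rw [map_zero]
      exact h1.symm
    obtain ⟨⟨_, l, rfl⟩, hl⟩ := (IsLocalization.eq_iff_exists (Submonoid.powers (q0 g)) C2).1 h0
    rw [mul_zero] at hl
    change q0 g ^ l * q0 e = 0 at hl
    rw [← map_pow q0, ← map_mul] at hl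
    rw [IsLocalization.mk'_mem_map_algebraMap_iff (Submonoid.powers g)]
    exact ⟨g ^ l, ⟨l, rfl⟩, hl⟩
  · show q (algebraMap E0 E e) = 0
    rw [hq, show q0 e = 0 from he, map_zero]


open AlgebraicGeometry CategoryTheory Limits in
/-- Suppose f : X ⟶ Y is Koszul at every point of X (a local complete intersection morphism) and
formally unramified, and (i : X ⟶ X', h' : X' ⟶ Y) is universal first order thickening data for f.
Then the conormal sheaf of i (the conormal sheaf of f) is finite locally free. The published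
statement also asserts that for a local complete intersection morphism unramified and formally
unramified are equivalent; this row states only the conormal clause. -/
theorem result {X Y X' : Scheme.{u}} (f : X ⟶ Y)
    (hf : ∀ x : X, Synt.IsKoszulAt f x) [FormallyUnramified f] (i : X ⟶ X') (h' : X' ⟶ Y)
    (hu : OmegaSh.IsUnivThickening f i h') : FlatMod.IsFinLocFree (Omega.conormal i) := by
  classical
  haveI := hu.1.1.1
  haveI : QuasiCompact i := inferInstance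
  have hL := (KRegLib.forall_isKoszulAt_iff f).1 hf
  rw [KRegLib.isLCI'_iff] at hL
  intro z
  obtain ⟨V, hV, hzV, -⟩ := exists_isAffineOpen_mem_and_subset (U := ⊤) (x := h' (i z)) trivial
  obtain ⟨V0, hV0, hzV0, hV0le⟩ := exists_isAffineOpen_mem_and_subset (U := h' ⁻¹ᵁ V) (x := i z) hzV
  let str : ∀ {W : X'.Opens}, W ≤ V0 → (Γ(Y, V) →+* Γ(X, i ⁻¹ᵁ W)) := fun {W} hW =>
    (i.app W).hom.comp (h'.appLE V W (hW.trans hV0le)).hom
  have hstr : ∀ {W : X'.Opens} (hW : W ≤ V0), ∃ e : i ⁻¹ᵁ W ≤ f ⁻¹ᵁ V, str hW = (f.appLE V (i ⁻¹ᵁ W) e).hom := by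
    intro W hW
    obtain rfl := hu.2.1
    refine ⟨fun x hx => hV0le (hW hx), ?_⟩
    show (h'.appLE V W _ ≫ i.app W).hom = _
    rw [Scheme.Hom.app_eq_appLE, Scheme.Hom.appLE_comp_appLE]
  have hprop : ∀ {W : X'.Opens} (hWa : IsAffineOpen W) (hW : W ≤ V0),
      letI := (str hW).toAlgebra
      Algebra.FormallyUnramified Γ(Y, V) Γ(X, i ⁻¹ᵁ W) ∧ LCI.IsLCI Γ(Y, V) Γ(X, i ⁻¹ᵁ W) := by
    intro W hWa hW
    obtain ⟨e, he⟩ := hstr hW
    rw [he]
    exact ⟨f.formallyUnramified_appLE hV (hWa.preimage i) e, hL _ _ (hWa.preimage i) hV e⟩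
  have htow : ∀ {W W' : X'.Opens} (hW : W ≤ V0) (hW' : W' ≤ V0) (hle : W' ≤ W) (r : Γ(Y, V)),
      str hW' r = X.presheaf.map (homOfLE (show i ⁻¹ᵁ W' ≤ i ⁻¹ᵁ W from fun x hx => hle hx)).op (str hW r) := by
    intro W W' hW hW' hle r
    obtain ⟨e, he⟩ := hstr hW
    obtain ⟨e', he'⟩ := hstr hW'
    rw [he, he']
    exact (congr($(Scheme.Hom.appLE_map f e (homOfLE (show i ⁻¹ᵁ W' ≤ i ⁻¹ᵁ W from fun x hx => hle hx)).op) r)).symm
  -- a standard etale algebra surjecting onto a neighbourhood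
  have hW0 : IsAffineOpen (i ⁻¹ᵁ V0) := hV0.preimage i
  letI : Algebra Γ(Y, V) Γ(X, i ⁻¹ᵁ V0) := (str le_rfl).toAlgebra
  haveI := (hprop hV0 le_rfl).1
  haveI := (hprop hV0 le_rfl).2.1
  let Q := (hW0.primeIdealOf ⟨z, hzV0⟩).asIdeal
  haveI : Algebra.IsUnramifiedAt Γ(Y, V) Q := inferInstance
  obtain ⟨g1, hg1, P, φ, hφ⟩ := Algebra.IsUnramifiedAt.exists_hasStandardEtaleSurjectionOn (R := Γ(Y, V)) Q
  obtain ⟨V1, hV1, hV1le, hV1eq⟩ := exists_basic i hV0 g1
  have hzV1 : z ∈ i ⁻¹ᵁ V1 := by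
    rw [hV1eq, ← hW0.fromSpec_image_basicOpen g1]
    exact ⟨_, hg1, hW0.fromSpec_primeIdealOf _⟩
  letI : Algebra Γ(Y, V) Γ(X, i ⁻¹ᵁ V1) := (str hV1le).toAlgebra
  let res1 : i ⁻¹ᵁ V1 ⟶ i ⁻¹ᵁ V0 := homOfLE fun x hx => hV1le hx
  letI : Algebra Γ(X, i ⁻¹ᵁ V0) Γ(X, i ⁻¹ᵁ V1) := (X.presheaf.map res1.op).hom.toAlgebra
  haveI : IsScalarTower Γ(Y, V) Γ(X, i ⁻¹ᵁ V0) Γ(X, i ⁻¹ᵁ V1) := IsScalarTower.of_algebraMap_eq (htow (le_rfl : V0 ≤ V0) hV1le hV1le)
  haveI : IsLocalization.Away g1 Γ(X, i ⁻¹ᵁ V1) := hW0.isLocalization_of_eq_basicOpen g1 res1 hV1eq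
  let e1 := (IsLocalization.algEquiv (Submonoid.powers g1) (Localization.Away g1) Γ(X, i ⁻¹ᵁ V1)).restrictScalars Γ(Y, V)
  let q0 : P.Ring →ₐ[Γ(Y, V)] Γ(X, i ⁻¹ᵁ V1) := e1.toAlgHom.comp φ
  have hq0 : Function.Surjective q0 := e1.surjective.comp hφ
  haveI : Algebra.Smooth Γ(Y, V) P.Ring := inferInstance
  let Qz := (hV1.preimage i).primeIdealOf ⟨z, hzV1⟩
  obtain ⟨g, hg, hon⟩ := (KRegLib.kReg_of_isLCI (hprop hV1 hV1le).2 q0 hq0 Qz.asIdeal).exists_on
  -- the neighbourhood on which the kernel is generated by a Koszul regular sequence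
  obtain ⟨V2, hV2, hV2le, hV2eq⟩ := exists_basic i hV1 (q0 g)
  have hzV2 : z ∈ i ⁻¹ᵁ V2 := by
    rw [hV2eq, ← (hV1.preimage i).fromSpec_image_basicOpen (q0 g)]
    exact ⟨Qz, hg, (hV1.preimage i).fromSpec_primeIdealOf ⟨z, hzV1⟩⟩
  have hV20 : V2 ≤ V0 := hV2le.trans hV1le
  let e2 : V2 ≤ h' ⁻¹ᵁ V := hV20.trans hV0le
  letI : Algebra Γ(Y, V) Γ(X', V2) := (h'.appLE V V2 e2).hom.toAlgebra
  letI : Algebra Γ(Y, V) Γ(X, i ⁻¹ᵁ V2) := ((i.app V2).hom.comp (h'.appLE V V2 e2).hom).toAlgebra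
  let res2 : i ⁻¹ᵁ V2 ⟶ i ⁻¹ᵁ V1 := homOfLE fun x hx => hV2le hx
  letI : Algebra Γ(X, i ⁻¹ᵁ V1) Γ(X, i ⁻¹ᵁ V2) := (X.presheaf.map res2.op).hom.toAlgebra
  haveI : IsScalarTower Γ(Y, V) Γ(X, i ⁻¹ᵁ V1) Γ(X, i ⁻¹ᵁ V2) := IsScalarTower.of_algebraMap_eq (htow hV1le hV20 hV2le)
  haveI : IsLocalization.Away (q0 g) Γ(X, i ⁻¹ᵁ V2) :=
    (hV1.preimage i).isLocalization_of_eq_basicOpen (q0 g) res2 hV2eq
  obtain ⟨q, hq, hqker⟩ := away_map (C2 := Γ(X, i ⁻¹ᵁ V2)) q0 hq0 g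
  haveI : Module.Flat P.Ring (Localization.Away g) := IsLocalization.flat _ (Submonoid.powers g)
  obtain ⟨n, fs, hfs, hfI⟩ := hon (Localization.Away g) (IsLocalization.Away.algebraMap_isUnit g)
  haveI : Algebra.FormallyEtale Γ(Y, V) (Localization.Away g) := inferInstance
  have hR := UnivThick.isUnivRing_of_affineOpens hu hV hV2 e2 (i.app V2) rfl
  obtain ⟨fv, hfv, hrel⟩ := ConormalFrame.univ_gens _ hR q hq fs hfs (hqker.trans hfI)
  have hfv0 : ∀ j, i.app V2 (fv j) = 0 := fun j =>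
    RingHom.mem_ker.1 (hfv.ge (Ideal.subset_span (Set.mem_range_self j)))
  choose s hs using fun j => OmegaUniv.exists_idealSect_of_app_eq_zero i V2 (fv j) (hfv0 j)
  refine ⟨i ⁻¹ᵁ V2, n, hzV2, H23.Frame.exists_iso_of_frame _ (ExtShX.Fund.isFrame_of_germs
    (fun j => OmegaSh.conormalSect i V2 (s j)) fun a ha => ?_)⟩
  refine ConormalFrame.thick_germs_bijective i hu.1.2 V2 fv s hs a ha ?_ ?_
  · rw [RegNear.ker_stalkMap i a hV2 ha]
    refine (congrArg (Ideal.map _) hfv).trans ?_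
    rw [Ideal.map_span, ← Set.range_comp]
    rfl
  · intro c hc j
    letI : Algebra Γ(X', V2) (X'.presheaf.stalk (i a)) := X'.presheaf.algebra_section_stalk ⟨i a, ha⟩
    haveI := hV2.isLocalization_stalk ⟨i a, ha⟩
    exact ConormalFrame.rel_loc (i.app V2).hom (hV2.primeIdealOf ⟨i a, ha⟩).asIdeal.primeCompl
      (i.stalkMap a).hom (X.presheaf.germ (i ⁻¹ᵁ V2) a ha).hom
      (fun b => Scheme.Hom.germ_stalkMap_apply i V2 a ha b) fv hrel c hc j

end Groth.Agent.S9772
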