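import Groth.Statements.S9779
import Mathlib
import Groth.Agent.QFSlice.Main

set_option autoImplicit false
attribute [-instance] CategoryTheory.catToReflQuiver
universe u
open FlatMor

namespace Groth.Agent.S9779

open AlgebraicGeometry CategoryTheory Limits in
/-- Suppose S is locally Noetherian and the morphism f : X ⟶ S is locally of finite type; take x a point
of X closed in its fibre, and U ⊆ X an open subscheme not meeting the fibre through x but with x in
the closure of U. Then there is a closed subscheme Z of X passing through x such that Z ⟶ S is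
quasi-finite at x and Z contains a point z of U specializing to x with f z ≠ f x. -/
theorem result {X S : Scheme.{u}} (f : X ⟶ S) [LocallyOfFiniteType f] [IsLocallyNoetherian S] (x : X)
    (hcl : IsClosed (Subtype.val ⁻¹' {x} : Set ↑(f ⁻¹' {f x}))) (U : X.Opens)
    (hU : ∀ x' ∈ U, f x' ≠ f x) (hxU : x ∈ closure (U : Set ↑X)) :
    ∃ (I : X.IdealSheafData) (z₀ x₀ : ↑I.subscheme), I.subschemeι x₀ = x ∧ (I.subschemeι ≫ f).QuasiFiniteAt x₀ ∧
      I.subschemeι z₀ ∈ U ∧ I.subschemeι z₀ ⤳ x ∧ f (I.subschemeι z₀) ≠ f x := by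
  have : IsLocallyNoetherian X := LocallyOfFiniteType.isLocallyNoetherian f
  obtain ⟨A, hA, hxA, -⟩ := exists_isAffineOpen_mem_and_subset (U := (⊤ : X.Opens)) (x := x) trivial
  have : IsAffine A.toScheme := hA
  have : IsNoetherian A.toScheme := { }
  obtain ⟨C, hC, hxC⟩ : ∃ C ∈ irreducibleComponents ↥(A.ι ⁻¹ᵁ U).toScheme,
      (⟨x, hxA⟩ : A.toScheme) ∈ closure ((A.ι ⁻¹ᵁ U).ι '' C) := by
    have : TopologicalSpace.NoetherianSpace ↥(A.ι ⁻¹ᵁ U).toScheme :=
      (A.ι ⁻¹ᵁ U).ι.isOpenEmbedding.isInducing.noetherianSpace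
    have hx : (⟨x, hxA⟩ : A.toScheme) ∈ closure ((A.ι ⁻¹ᵁ U : A.toScheme.Opens) : Set A.toScheme) := by
      rw [Scheme.Hom.coe_preimage, ← A.ι.isOpenEmbedding.isOpenMap.preimage_closure_eq_closure_preimage A.ι.continuous]
      exact hxU
    rw [← Scheme.Opens.range_ι (A.ι ⁻¹ᵁ U), ← Set.image_univ, ← sUnion_irreducibleComponents,
      Set.sUnion_eq_biUnion, Set.image_iUnion₂,
      (TopologicalSpace.NoetherianSpace.finite_irreducibleComponents).closure_biUnion] at hx
    obtain ⟨C, hC, h⟩ := Set.mem_iUnion₂.1 hx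
    exact ⟨C, hC, h⟩
  obtain ⟨η, hη⟩ := QuasiSober.sober hC.1 (isClosed_of_mem_irreducibleComponents C hC)
  have hsp : A.ι ((A.ι ⁻¹ᵁ U).ι η) ⤳ x := by
    have h := hη.image (A.ι ⁻¹ᵁ U).ι.continuous
    exact ((isGenericPoint_iff_specializes.1 h _).2 hxC).map A.ι.continuous
  refine Groth.Agent.QFSlice.exists_slice f x hcl U ⟨_, η.2, hsp, hU _ η.2⟩

end Groth.Agent.S9779
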