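import Groth.Statements.S9783
import Groth.Agent.UnivThick.Scheme
import Groth.Agent.UnivThick.Loc
import Groth.Agent.UnivThick.Diff
import Groth.Agent.Synt29.OmegaMaps
import Groth.Agent.Synt29.OmegaBase

set_option backward.isDefEq.respectTransparency false
set_option backward.isDefEq.respectTransparency.types false
set_option linter.style.haveILetI false
set_option maxHeartbeats 1000000

set_option autoImplicit false
universe u
open OmegaSh

namespace Groth.Agent.S9783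

open Groth.Agent

open AlgebraicGeometry CategoryTheory Limits in
/-- Universal thickenings on stalks. -/
theorem stalk_isUnivRing {Z X Z' : Scheme.{u}} {h : Z ⟶ X} {i : Z ⟶ Z'} {h' : Z' ⟶ X}
    (hu : OmegaSh.IsUnivThickening h i h') (z : Z) :
    letI := (h'.stalkMap (i z)).hom.toAlgebra
    letI := ((i.stalkMap z).hom.comp (h'.stalkMap (i z)).hom).toAlgebra
    OmegaSh.IsUnivThickeningRing (X.presheaf.stalk (h' (i z))) (Z.presheaf.stalk z) (Z'.presheaf.stalk (i z))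
      ⟨(i.stalkMap z).hom, fun _ => rfl⟩ := by
  haveI := hu.1.1.1
  obtain ⟨U, hU, hxU, -⟩ := exists_isAffineOpen_mem_and_subset (U := ⊤) (x := h' (i z)) trivial
  obtain ⟨V', hV', hzV', e⟩ := exists_isAffineOpen_mem_and_subset (U := h' ⁻¹ᵁ U) (x := i z) hxU
  have hV : IsAffineOpen (i ⁻¹ᵁ V') := hV'.preimage i
  have hR := UnivThick.isUnivRing_of_affineOpens hu hU hV' e (i.app V') rfl
  letI : Algebra (X.presheaf.stalk (h' (i z))) (Z'.presheaf.stalk (i z)) := (h'.stalkMap (i z)).hom.toAlgebra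
  letI : Algebra (X.presheaf.stalk (h' (i z))) (Z.presheaf.stalk z) :=
    ((i.stalkMap z).hom.comp (h'.stalkMap (i z)).hom).toAlgebra
  letI : Algebra Γ(X, U) Γ(Z', V') := (h'.appLE U V' e).hom.toAlgebra
  letI : Algebra Γ(X, U) Γ(Z, i ⁻¹ᵁ V') := ((i.app V').hom.comp (h'.appLE U V' e).hom).toAlgebra
  letI : Algebra Γ(X, U) (X.presheaf.stalk (h' (i z))) := X.presheaf.algebra_section_stalk ⟨h' (i z), hxU⟩
  letI : Algebra Γ(Z', V') (Z'.presheaf.stalk (i z)) := Z'.presheaf.algebra_section_stalk ⟨i z, hzV'⟩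
  letI : Algebra Γ(Z, i ⁻¹ᵁ V') (Z.presheaf.stalk z) := Z.presheaf.algebra_section_stalk ⟨z, hzV'⟩
  haveI := hU.isLocalization_stalk ⟨h' (i z), hxU⟩
  haveI := hV'.isLocalization_stalk ⟨i z, hzV'⟩
  haveI := hV.isLocalization_stalk ⟨z, hzV'⟩
  letI : Algebra Γ(X, U) (Z'.presheaf.stalk (i z)) :=
    ((algebraMap Γ(Z', V') (Z'.presheaf.stalk (i z))).comp (algebraMap Γ(X, U) Γ(Z', V'))).toAlgebra
  letI : Algebra Γ(X, U) (Z.presheaf.stalk z) :=
    ((algebraMap Γ(Z, i ⁻¹ᵁ V') (Z.presheaf.stalk z)).comp (algebraMap Γ(X, U) Γ(Z, i ⁻¹ᵁ V'))).toAlgebra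
  haveI : IsScalarTower Γ(X, U) Γ(Z', V') (Z'.presheaf.stalk (i z)) := IsScalarTower.of_algebraMap_eq fun _ => rfl
  haveI : IsScalarTower Γ(X, U) Γ(Z, i ⁻¹ᵁ V') (Z.presheaf.stalk z) := IsScalarTower.of_algebraMap_eq fun _ => rfl
  have hA : ∀ a : Γ(X, U), Z'.presheaf.germ V' (i z) hzV' (h'.appLE U V' e a) =
      h'.stalkMap (i z) (X.presheaf.germ U (h' (i z)) hxU a) := fun a => by
    rw [Scheme.Hom.germ_stalkMap_apply, Scheme.Hom.appLE, CommRingCat.comp_apply, TopCat.Presheaf.germ_res_apply]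
  have hB : ∀ a : Γ(Z', V'), Z.presheaf.germ (i ⁻¹ᵁ V') z hzV' (i.app V' a) =
      i.stalkMap z (Z'.presheaf.germ V' (i z) hzV' a) := fun a =>
    (Scheme.Hom.germ_stalkMap_apply i V' z hzV' a).symm
  haveI : IsScalarTower Γ(X, U) (X.presheaf.stalk (h' (i z))) (Z'.presheaf.stalk (i z)) :=
    IsScalarTower.of_algebraMap_eq hA
  haveI : IsScalarTower Γ(X, U) (X.presheaf.stalk (h' (i z))) (Z.presheaf.stalk z) :=
    IsScalarTower.of_algebraMap_eq fun a => (hB _).trans (congrArg (i.stalkMap z) (hA a))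
  let π₀ : Γ(Z', V') →ₐ[Γ(X, U)] Γ(Z, i ⁻¹ᵁ V') := ⟨(i.app V').hom, fun r => rfl⟩
  let πS : Z'.presheaf.stalk (i z) →ₐ[X.presheaf.stalk (h' (i z))] Z.presheaf.stalk z :=
    ⟨(i.stalkMap z).hom, fun _ => rfl⟩
  have hcomap := congrArg PrimeSpectrum.asIdeal
    (IsAffineOpen.comap_primeIdealOf_appLE (f := i) V' hV' (i ⁻¹ᵁ V') hV le_rfl hzV')
  rw [← Scheme.Hom.app_eq_appLE] at hcomap
  have hN : (hV'.primeIdealOf ⟨i z, hzV'⟩).asIdeal.primeCompl.map π₀.toRingHom.toMonoidHom =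
      (hV.primeIdealOf ⟨z, hzV'⟩).asIdeal.primeCompl := by
    refine SetLike.ext fun b => ⟨?_, fun hb => ?_⟩
    · rintro ⟨a, ha, rfl⟩ hb
      exact ha (hcomap ▸ hb)
    · obtain ⟨a, rfl⟩ := i.app_surjective V' hV' b
      exact ⟨a, fun ha => hb (hcomap ▸ ha :), rfl⟩
  exact UnivThick.isUniv_base (hU.primeIdealOf ⟨h' (i z), hxU⟩).asIdeal.primeCompl _ _ _ πS
    (UnivThick.isUniv_localization π₀ hR (hV'.primeIdealOf ⟨i z, hzV'⟩).asIdeal.primeCompl hN
      (Z.presheaf.stalk z) (Z'.presheaf.stalk (i z)) (πS.restrictScalars Γ(X, U)) fun x => (hB x).symm)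

open AlgebraicGeometry CategoryTheory Limits in
theorem bijective_extend_baseMap {R A B' B : CommRingCat.{u}} (φ : R ⟶ A) (ψ : A ⟶ B') (π : B' ⟶ B)
    (hu : letI := ψ.hom.toAlgebra; letI := (π.hom.comp ψ.hom).toAlgebra
      OmegaSh.IsUnivThickeningRing A B B' ⟨π.hom, fun _ => rfl⟩) :
    Function.Bijective ((ModuleCat.extendScalars π.hom).map (Synt29.OmegaStalk.baseMap φ ψ)) := by
  letI := φ.hom.toAlgebra
  letI := ψ.hom.toAlgebra
  letI := (φ ≫ ψ).hom.toAlgebra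
  letI := π.hom.toAlgebra
  letI : Algebra A B := (π.hom.comp ψ.hom).toAlgebra
  haveI : IsScalarTower R A B' := IsScalarTower.of_algebraMap_eq' rfl
  haveI : IsScalarTower A B' B := IsScalarTower.of_algebraMap_eq' rfl
  exact UnivThick.bijective_baseChange_mapBaseChange R A B B' hu


open AlgebraicGeometry CategoryTheory Limits in
/-- Let q : X ⟶ S be a morphism, h : Z ⟶ X formally unramified, and (i : Z ⟶ Z', h' : Z' ⟶ X) the
universal first order thickening attached to h. Let d_X : O_X → Ω_X be a universal S-derivation,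
d_{Z'} : O_{Z'} → Ω_{Z'} a universal S-derivation for Z' over S via h' ≫ q, and c : (h')^*Ω_X ⟶
Ω_{Z'} the O_{Z'}-linear map compatible with them (the canonical map c_{h'}). Then the pullback of c
along i, a map h^*Ω_X ⟶ Ω_{Z'} ⊗ O_Z, is an isomorphism. -/
theorem result {Z X S Z' : Scheme.{u}} (h : Z ⟶ X) (q : X ⟶ S) [FormallyUnramified h]
    (i : Z ⟶ Z') (h' : Z' ⟶ X) (hu : OmegaSh.IsUnivThickening h i h')
    (ΩX : X.Modules) (dX : OmegaSh.Der q ΩX) (hdX : OmegaSh.IsUniversal dX)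
    (ΩZ' : Z'.Modules) (dZ' : OmegaSh.Der (h' ≫ q) ΩZ') (hdZ' : OmegaSh.IsUniversal dZ')
    (c : (Scheme.Modules.pullback h').obj ΩX ⟶ ΩZ') (hc : OmegaSh.IsDiffCompat h' dX dZ' c) :
    IsIso ((Scheme.Modules.pullback i).map c) := by
  refine KFlatLib.isIso_of_stalk _ fun z => ?_
  obtain ⟨i₁, i₂, hγ⟩ := Synt29.OmegaStalk.exists_stalk_square hdX hdZ' c hc (i z)
    (q.stalkMap (h' (i z))) rfl (q.stalkMap (h' (i z)) ≫ h'.stalkMap (i z))
    (Scheme.Hom.stalkMap_comp h' q (i z)).symm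
  have hsq := hγ _ (Synt29.OmegaStalk.baseMap_unit (q.stalkMap (h' (i z))) (h'.stalkMap (i z)))
  have hbij := bijective_extend_baseMap (q.stalkMap (h' (i z))) (h'.stalkMap (i z)) (i.stalkMap z)
    (stalk_isUnivRing hu z)
  haveI : IsIso ((ModuleCat.extendScalars (i.stalkMap z).hom).map
      (Synt29.OmegaStalk.baseMap (q.stalkMap (h' (i z))) (h'.stalkMap (i z)))) :=
    (ConcreteCategory.isIso_iff_bijective _).2 hbij
  haveI : IsIso ((ModuleCat.extendScalars (i.stalkMap z).hom).map ((DerSch.stalkFunctor Z' (i z)).map c)) := by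
    rw [show (DerSch.stalkFunctor Z' (i z)).map c = i₁.inv ≫
        Synt29.OmegaStalk.baseMap (q.stalkMap (h' (i z))) (h'.stalkMap (i z)) ≫ i₂.hom from (Iso.eq_inv_comp _).2 hsq,
      Functor.map_comp, Functor.map_comp]
    infer_instance
  exact (NatIso.isIso_map_iff (KFlatLib.stalkPullbackIso i z) c).2 (by
    exact ‹IsIso ((ModuleCat.extendScalars (i.stalkMap z).hom).map ((DerSch.stalkFunctor Z' (i z)).map c))›)

end Groth.Agent.S9783
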