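import Groth.Statements.S9784
import Groth.Agent.ConormalFrame.Thick
import Groth.Agent.UnivThick.BaseChange
import Groth.Agent.H23.GysinPb
import Mathlib

set_option backward.isDefEq.respectTransparency false
set_option backward.isDefEq.respectTransparency.types false
set_option linter.style.haveILetI false
set_option maxHeartbeats 1000000

set_option autoImplicit false
universe u
open OmegaSh

namespace Groth.Agent.S9784

open Groth.Agent Groth.Agent.KFlatLib Groth.Agent.Synt29 Groth.Agent.Synt29.OmegaStalk Groth.Agent.Synt29.ConormalStalk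
open Groth.Agent.S5974 (Cls cls_of_sect cls_exists cls_sect cls_mem cls_exists_of_mem cls_inj cls_zero_mem_sq)

open AlgebraicGeometry CategoryTheory Limits in
theorem ker_stalk_comp {Z' Y Y' : Scheme.{u}} (j : Y ⟶ Y') [IsClosedImmersion j] (m : Z' ⟶ Y')
    {W : Scheme.{u}} (e : W ⟶ pullback m j) [IsIso e] (w : W) :
    RingHom.ker ((e ≫ pullback.fst m j).stalkMap w).hom =
      Ideal.map (H23.GysinPb.baseMap m j (e w)).hom
        (RingHom.ker (j.stalkMap (pullback.snd m j (e w))).hom) := by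
  rw [Scheme.Hom.stalkMap_comp, CommRingCat.hom_comp, ← RingHom.comap_ker]
  have hb : Function.Injective (e.stalkMap w).hom := (ConcreteCategory.bijective_of_isIso (e.stalkMap w)).1
  rw [(RingHom.injective_iff_ker_eq_bot _).1 hb, ← RingHom.ker_eq_comap_bot]
  exact H23.GysinPb.ker_stalkMap_fst m j (e w)

open AlgebraicGeometry CategoryTheory Limits in
/-- Let i : Z ⟶ Y and b : Y ⟶ X be formally unramified, let (i' : Z ⟶ Z', c) be a first order thickening
over X that is universal for i ≫ b, (j : Y ⟶ Y', d) one universal for b, m : Z' ⟶ Y' the morphism of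
thickenings over X compatible with i, (i'' : Z ⟶ Z'', e) a first order thickening over Y that is
universal for i, and n : Z'' ⟶ Z' the morphism of thickenings over X extending the identity of Z.
Let ψ₁ : i^*C_{Y/Y'} ⟶ C_{Z/Z'} and ψ₂ : C_{Z/Z'} ⟶ C_{Z/Z''} be the canonical maps of conormal
sheaves induced by (i, m) and (id, n). These are the conormal sheaves C_{Y/X}, C_{Z/X}, C_{Z/Y} of
the formally unramified morphisms and the canonical maps between them. Then the sequence i^*C_{Y/X}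
⟶ C_{Z/X} ⟶ C_{Z/Y} ⟶ 0 they form is exact. -/
theorem result {Z Y X Z' Y' Z'' : Scheme.{u}} (i : Z ⟶ Y) (b : Y ⟶ X)
    [FormallyUnramified i] [FormallyUnramified b]
    (i' : Z ⟶ Z') (c : Z' ⟶ X) (hZ' : OmegaSh.IsUnivThickening (i ≫ b) i' c)
    (j : Y ⟶ Y') (d : Y' ⟶ X) (hY' : OmegaSh.IsUnivThickening b j d)
    (m : Z' ⟶ Y') (hm₁ : i' ≫ m = i ≫ j) (hm₂ : m ≫ d = c)
    (i'' : Z ⟶ Z'') (e : Z'' ⟶ Y) (hZ'' : OmegaSh.IsUnivThickening i i'' e)
    (n : Z'' ⟶ Z') (hn₁ : i'' ≫ n = i') (hn₂ : n ≫ c = e ≫ b)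
    (ψ₁ : (Scheme.Modules.pullback i).obj (Omega.conormal j) ⟶ Omega.conormal i') (hψ₁ : OmegaSh.IsConormalMap i' j m i ψ₁)
    (ψ₂ : (Scheme.Modules.pullback (𝟙 Z)).obj (Omega.conormal i') ⟶ Omega.conormal i'') (hψ₂ : OmegaSh.IsConormalMap i'' i' n (𝟙 Z) ψ₂) :
    ∃ w : (Scheme.Modules.pullback (𝟙 Z)).map ψ₁ ≫ ψ₂ = 0, (ShortComplex.mk _ _ w).Exact ∧ Epi ψ₂ := by
  classical
  haveI := hZ'.1.1.1
  haveI := hY'.1.1.1
  haveI := hZ''.1.1.1
  -- the universal thickening of `Z` over `Y` is `Z' ×_{Y'} Y`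
  obtain ⟨m₀, hm₀, hm₀d, hu⟩ := UnivThick.exists_isUniv_of_comp i b i' c hZ' j d hY'
  obtain rfl : m = m₀ := UnivThick.univ_hom_ext hY' hZ'.1 i hm₁ hm₀ (by rw [hm₂, hm₀d])
  obtain ⟨θ, hθ1, hθ2⟩ := UnivThick.exists_iso_of_isUniv hZ'' hu
  have hnθ : n = θ.hom ≫ pullback.snd j m := by
    refine UnivThick.univ_hom_ext hZ' hZ''.1 (𝟙 Z) (by rw [hn₁, Category.id_comp])
      (by rw [reassoc_of% hθ1, pullback.lift_snd, Category.id_comp]) ?_
    rw [hn₂, ← hθ2, Category.assoc, Category.assoc, ← hm₂, ← pullback.condition_assoc, hY'.2.1]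
  let e2 : Z'' ⟶ pullback m j := θ.hom ≫ (pullbackSymmetry j m).hom
  have hn : n = e2 ≫ pullback.fst m j := by
    rw [hnθ, Category.assoc, pullbackSymmetry_hom_comp_fst]
  haveI : IsClosedImmersion (pullback.snd j m) := inferInstance
  haveI : IsClosedImmersion n := by rw [hnθ]; infer_instance
  subst hn₁
  let g := (Scheme.Modules.pullbackId Z).inv.app (Omega.conormal (i'' ≫ n)) ≫ ψ₂
  have hε : ∀ (U : Z.Opens) (x : Γ(Omega.conormal (i'' ≫ n), U)),
      ((Scheme.Modules.pullbackId Z).inv.app (Omega.conormal (i'' ≫ n))).app U x =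
        OmegaSh.pullSect (𝟙 Z) (Omega.conormal (i'' ≫ n)) U x := by
    intro U x
    have h := unit_conjugateEquiv Adjunction.id (Scheme.Modules.pullbackPushforwardAdjunction (𝟙 Z))
      (Scheme.Modules.pullbackId Z).hom (Omega.conormal (i'' ≫ n))
    rw [Scheme.Modules.conjugateEquiv_pullbackId_hom] at h
    have h1 : x = ((Scheme.Modules.pullbackId Z).hom.app (Omega.conormal (i'' ≫ n))).app U
        (OmegaSh.pullSect (𝟙 Z) (Omega.conormal (i'' ≫ n)) U x) :=
      congrArg (fun φ => Scheme.Modules.Hom.app φ U x) h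
    refine (congrArg (((Scheme.Modules.pullbackId Z).inv.app (Omega.conormal (i'' ≫ n))).app U) h1).trans ?_
    exact congrArg (fun φ : (Scheme.Modules.pullback (𝟙 Z)).obj (Omega.conormal (i'' ≫ n)) ⟶
        (Scheme.Modules.pullback (𝟙 Z)).obj (Omega.conormal (i'' ≫ n)) =>
      Scheme.Modules.Hom.app φ U (OmegaSh.pullSect (𝟙 Z) (Omega.conormal (i'' ≫ n)) U x))
      ((Scheme.Modules.pullbackId Z).hom_inv_id_app (Omega.conormal (i'' ≫ n)))
  -- values on classes
  have h2 : ∀ (z : Z) (x : St (Omega.conormal (i'' ≫ n)) z) (a : Z'.presheaf.stalk ((i'' ≫ n) z)),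
      Cls (i'' ≫ n) z x a → Cls i'' z ((DerSch.stalkFunctor Z z).map g x) (n.stalkMap (i'' z) a) := by
    intro z x a hx
    obtain ⟨U, hzU, t, rfl, rfl⟩ := cls_sect (i'' ≫ n) hx
    obtain ⟨hx', hc⟩ := ConormalFrame.conormalMap_cls i'' (i'' ≫ n) n (𝟙 Z) ψ₂ hψ₂ U t (x := z) hzU
    refine Eq.mp (congrArg (fun v => Cls i'' z _ v) (Scheme.Hom.germ_stalkMap_apply n U (i'' z)
      (show n (i'' z) ∈ U from hzU) (OmegaSh.idealSect (i'' ≫ n).ker U t)).symm) ?_
    refine (Eq.trans ?_ rfl : _ = (DerSch.stalkFunctor Z z).map g _) ▸ hc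
    rw [Functor.map_comp, ModuleCat.comp_apply]
    refine congrArg ((DerSch.stalkFunctor Z z).map ψ₂) ?_
    refine Eq.trans ?_ (DerSch.stalkFunctor_map_germ z
      ((Scheme.Modules.pullbackId Z).inv.app (Omega.conormal (i'' ≫ n))) _ _ _).symm
    exact (congrArg (gm ((Scheme.Modules.pullback (𝟙 Z)).obj (Omega.conormal (i'' ≫ n))) hzU) (hε _ _)).symm
  have h1 : ∀ (z : Z) (U : Y'.Opens) (hzU : z ∈ i ⁻¹ᵁ (j ⁻¹ᵁ U)) (t : Γ(ClSub.idealMod j.ker, U)),
      ∃ hx' : (i'' ≫ n) z ∈ m ⁻¹ᵁ U, Cls (i'' ≫ n) z ((DerSch.stalkFunctor Z z).map ψ₁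
        (gm _ hzU (OmegaSh.pullSect i (Omega.conormal j) (j ⁻¹ᵁ U) (OmegaSh.conormalSect j U t))))
        (Z'.presheaf.germ (m ⁻¹ᵁ U) ((i'' ≫ n) z) hx' (m.app U (OmegaSh.idealSect j.ker U t))) :=
    fun z U hzU t => ConormalFrame.conormalMap_cls (i'' ≫ n) j m i ψ₁ hψ₁ U t hzU
  have hkill : ∀ (U : Y'.Opens) (t : Γ(ClSub.idealMod j.ker, U)) (w : Z'') (hw : n w ∈ m ⁻¹ᵁ U),
      n.stalkMap w (Z'.presheaf.germ (m ⁻¹ᵁ U) (n w) hw (m.app U (OmegaSh.idealSect j.ker U t))) = 0 := by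
    intro U t w hw
    rw [Scheme.Hom.germ_stalkMap_apply]
    have h : ∀ (f : Z'' ⟶ Y'), f = (e2 ≫ pullback.snd m j) ≫ j → f.app U (OmegaSh.idealSect j.ker U t) = 0 := by
      rintro f rfl
      show (e2 ≫ pullback.snd m j).app (j ⁻¹ᵁ U) (j.app U (OmegaSh.idealSect j.ker U t)) = 0
      rw [OmegaUniv.app_idealSect, map_zero]
    have h' := h (n ≫ m) (by rw [hn, Category.assoc, Category.assoc, pullback.condition]; simp only [e2, Category.assoc])
    show Z''.presheaf.germ _ w hw ((n ≫ m).app U (OmegaSh.idealSect j.ker U t)) = 0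
    rw [h', map_zero]
  have hw0 : ψ₁ ≫ g = 0 := by
    refine ConormalExact.hom_ext_stalk _ _ fun z w => ?_
    rw [Functor.map_zero, Functor.map_comp, ModuleCat.comp_apply]
    show _ = (0 : St _ z)
    refine ConormalFrame.pullback_stalk_induction i (Omega.conormal j) z
      (fun w => (DerSch.stalkFunctor Z z).map g ((DerSch.stalkFunctor Z z).map ψ₁ w) = 0) ?_ ?_ ?_ ?_ w
    · simp
    · intro v v' hv hv'
      simp only [map_add, hv, hv', add_zero]
    · intro r v hv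
      simp only [map_smul, hv, smul_zero]
    · intro U hzU s
      obtain ⟨U', hx, t, ht⟩ := exists_conormalSect j (i z) (gm (Omega.conormal j) hzU s)
      have he : gm ((Scheme.Modules.pullback i).obj (Omega.conormal j)) hzU (OmegaSh.pullSect i (Omega.conormal j) U s) =
          gm ((Scheme.Modules.pullback i).obj (Omega.conormal j)) (show z ∈ i ⁻¹ᵁ (j ⁻¹ᵁ U') from hx)
            (OmegaSh.pullSect i (Omega.conormal j) (j ⁻¹ᵁ U') (OmegaSh.conormalSect j U' t)) :=
        (ConcreteCategory.bijective_of_isIso ((KFlatLib.stalkPullbackIso i z).app _).hom).1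
          ((stalkPullbackIso_gm i _ z hzU s).trans ((congrArg _ ht.symm).trans (stalkPullbackIso_gm i _ z (show z ∈ i ⁻¹ᵁ (j ⁻¹ᵁ U') from hx) _).symm))
      rw [he]
      obtain ⟨hx', hc⟩ := h1 z U' hx t
      have hg := h2 z _ _ hc
      exact cls_inj i'' (Eq.mp (congrArg (fun v => Cls i'' z _ v) (hkill U' t (i'' z) hx')) hg)
        (H1CNSplit.cls_zero i'')
  have hsurj : ∀ (z : Z) (x : St (Omega.conormal (i'' ≫ n)) z), (DerSch.stalkFunctor Z z).map g x = 0 →
      ∃ w, (DerSch.stalkFunctor Z z).map ψ₁ w = x := by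
    intro z x hx
    obtain ⟨a, ha⟩ := cls_exists (i'' ≫ n) z x
    have hga := h2 z x a ha
    rw [hx] at hga
    have ha0 : n.stalkMap (i'' z) a = 0 := ConormalFrame.thick_cls_zero i'' hZ''.1.2 hga
    have hk : ∀ (f : Z'' ⟶ Z') (hf : f = e2 ≫ pullback.fst m j) (w : Z'') (a : Z'.presheaf.stalk (f w)),
        f.stalkMap w a = 0 → ∃ (a' : Z'.presheaf.stalk (pullback.fst m j (e2 w))),
          a' ∈ Ideal.map (H23.GysinPb.baseMap m j (e2 w)).hom
            (RingHom.ker (j.stalkMap (pullback.snd m j (e2 w))).hom) ∧ HEq a a' := by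
      rintro f rfl w a ha
      exact ⟨a, (ker_stalk_comp j m e2 w).le (RingHom.mem_ker.2 ha), HEq.rfl⟩
    obtain ⟨a', ha', hh⟩ := hk n hn (i'' z) a ha0
    have hpt : pullback.fst m j (e2 (i'' z)) = (i'' ≫ n) z :=
      (congrArg (fun f : Z'' ⟶ Z' => f (i'' z)) hn).symm
    -- every element of the kernel is the class of an image
    suffices H : ∀ (p : Z') (hp : p = (i'' ≫ n) z) (c' : Z'.presheaf.stalk p), HEq c' a →
        (∃ c : Z'.presheaf.stalk ((i'' ≫ n) z), HEq c' c ∧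
          ∃ w, Cls (i'' ≫ n) z ((DerSch.stalkFunctor Z z).map ψ₁ w) c) →
        ∃ w, (DerSch.stalkFunctor Z z).map ψ₁ w = x by
      refine H _ hpt a' hh.symm ?_
      refine Submodule.span_induction (p := fun v _ => ∃ c : Z'.presheaf.stalk ((i'' ≫ n) z), HEq v c ∧
          ∃ w, Cls (i'' ≫ n) z ((DerSch.stalkFunctor Z z).map ψ₁ w) c) ?_ ?_ ?_ ?_ ha'
      · rintro _ ⟨q, hq, rfl⟩
        obtain ⟨U, hU, -, t, ht, rfl⟩ := exists_killed j (x := pullback.snd m j (e2 (i'' z))) q hq ⊤ trivial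
        obtain ⟨k, hk'⟩ := OmegaUniv.exists_idealSect_of_app_eq_zero j U t ht
        have hzU : z ∈ i ⁻¹ᵁ (j ⁻¹ᵁ U) := by
          show (i ≫ j) z ∈ U
          rw [← hm₁]
          show m ((i'' ≫ n) z) ∈ U
          rw [← hpt, H23.GysinPb.apply_fst_eq]
          exact hU
        obtain ⟨hx', hc⟩ := h1 z U hzU k
        refine ⟨_, ?_, _, hc⟩
        rw [hk']
        have hfm : pullback.fst m j (e2 (i'' z)) ∈ m ⁻¹ᵁ U := by rw [hpt]; exact hx'
        have hb : (H23.GysinPb.baseMap m j (e2 (i'' z))).hom (Y'.presheaf.germ U _ hU t) =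
            Z'.presheaf.germ (m ⁻¹ᵁ U) (pullback.fst m j (e2 (i'' z))) hfm (m.app U t) := by
          show (m.stalkMap _).hom (Y'.presheaf.stalkSpecializes _ (Y'.presheaf.germ U _ hU t)) = _
          rw [TopCat.Presheaf.germ_stalkSpecializes_apply]
          exact Scheme.Hom.germ_stalkMap_apply m U _ hfm t
        refine heq_of_eq_of_heq hb ?_
        have key : ∀ (p q : Z') (hpq : p = q) (hp : p ∈ m ⁻¹ᵁ U) (hq : q ∈ m ⁻¹ᵁ U),
            HEq (Z'.presheaf.germ (m ⁻¹ᵁ U) p hp (m.app U t)) (Z'.presheaf.germ (m ⁻¹ᵁ U) q hq (m.app U t)) := by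
          rintro p q rfl hp hq
          rfl
        exact key _ _ hpt hfm hx'
      · refine ⟨0, ?_, 0, by rw [map_zero]; exact H1CNSplit.cls_zero _⟩
        have key : ∀ (p q : Z') (hpq : p = q), HEq (0 : Z'.presheaf.stalk p) (0 : Z'.presheaf.stalk q) := by
          rintro p q rfl; rfl
        exact key _ _ hpt
      · rintro v v' - - ⟨c₁, hc₁, w₁, hw₁⟩ ⟨c₂, hc₂, w₂, hw₂⟩
        refine ⟨c₁ + c₂, ?_, w₁ + w₂, by rw [map_add]; exact H1CNSplit.cls_add _ hw₁ hw₂⟩
        have key : ∀ (p q : Z') (hpq : p = q) (v v' : Z'.presheaf.stalk p) (c₁ c₂ : Z'.presheaf.stalk q),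
            HEq v c₁ → HEq v' c₂ → HEq (v + v') (c₁ + c₂) := by
          rintro p q rfl v v' c₁ c₂ h h'
          rw [eq_of_heq h, eq_of_heq h']
        exact key _ _ hpt v v' c₁ c₂ hc₁ hc₂
      · rintro r v - ⟨c₁, hc₁, w₁, hw₁⟩
        have key : ∀ (p q : Z') (hpq : p = q) (r v : Z'.presheaf.stalk p) (c₁ : Z'.presheaf.stalk q),
            HEq v c₁ → ∃ r' : Z'.presheaf.stalk q, HEq (r • v) (r' * c₁) := by
          rintro p q rfl r v c₁ h
          exact ⟨r, heq_of_eq (by rw [eq_of_heq h, smul_eq_mul])⟩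
        obtain ⟨r', hr'⟩ := key _ _ hpt r v c₁ hc₁
        refine ⟨r' * c₁, hr', (i'' ≫ n).stalkMap z r' • w₁, ?_⟩
        rw [map_smul]
        exact H1CNSplit.cls_smul _ hw₁ r'
    rintro p rfl c' hc' ⟨c, hcc, w, hw⟩
    obtain rfl := eq_of_heq (hcc.symm.trans hc')
    exact ⟨w, cls_inj (i'' ≫ n) hw ha⟩
  have hexact : (ShortComplex.mk ψ₁ g hw0).Exact := by
    rw [exact_iff_stalk]
    intro z
    rw [ShortComplex.moduleCat_exact_iff]
    exact fun x hx => hsurj z x hx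
  have hepi : Epi ψ₂ := by
    haveI : Epi g := by
      rw [epi_iff_stalk]
      intro z y
      obtain ⟨a, ha⟩ := cls_exists i'' z y
      obtain ⟨b', hb'⟩ := n.stalkMap_surjective (i'' z) a
      have hb0 : (i'' ≫ n).stalkMap z b' = 0 := by
        rw [Scheme.Hom.stalkMap_comp]
        show i''.stalkMap z (n.stalkMap (i'' z) b') = 0
        rw [hb']
        exact cls_mem i'' ha
      obtain ⟨x, hx⟩ := cls_exists_of_mem (i'' ≫ n) z hb0
      refine ⟨x, cls_inj i'' (h2 z x b' hx) ?_⟩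
      rw [hb']
      exact ha
    exact epi_of_epi ((Scheme.Modules.pullbackId Z).inv.app (Omega.conormal (i'' ≫ n))) ψ₂
  have hnat : (Scheme.Modules.pullback (𝟙 Z)).map ψ₁ ≫ ψ₂ =
      (Scheme.Modules.pullbackId Z).hom.app _ ≫ (ψ₁ ≫ g) := by
    have h := (Scheme.Modules.pullbackId Z).hom.naturality ψ₁
    simp only [g]
    erw [← reassoc_of% h]
    simp
  refine ⟨by rw [hnat, hw0, comp_zero], ?_, hepi⟩
  refine ShortComplex.exact_of_iso (S₁ := ShortComplex.mk ψ₁ g hw0)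
    (ShortComplex.isoMk ((Scheme.Modules.pullbackId Z).app _).symm
      ((Scheme.Modules.pullbackId Z).app _).symm (Iso.refl _) ?_ ?_) hexact
  · exact ((Scheme.Modules.pullbackId Z).inv.naturality ψ₁).symm
  · simp [g]

end Groth.Agent.S9784
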