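import Groth.Statements.S9785
import Groth.Agent.ConormalFrame.UnivInj
import Groth.Agent.ConormalFrame.Thick
import Groth.Agent.UnivThick.Scheme
import Groth.Agent.KRegLib.Mor
import Groth.Agent.S9784

set_option backward.isDefEq.respectTransparency false
set_option backward.isDefEq.respectTransparency.types false
set_option linter.style.haveILetI false
set_option maxHeartbeats 1000000

set_option autoImplicit false
universe u
open OmegaSh

namespace Groth.Agent.S9785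

open Groth.Agent Groth.Agent.KFlatLib Groth.Agent.Synt29 Groth.Agent.Synt29.OmegaStalk Groth.Agent.Synt29.ConormalStalk
open Groth.Agent.S5974 (Cls cls_of_sect cls_exists cls_sect cls_mem cls_exists_of_mem cls_inj cls_zero_mem_sq)

open AlgebraicGeometry CategoryTheory Limits in
/-- An element of a stalk, pulled back. -/
noncomputable def eps {Z Y : Scheme.{u}} (i : Z ⟶ Y) (M : Y.Modules) (z : Z) (v : St M (i z)) :
    St ((Scheme.Modules.pullback i).obj M) z :=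
  ((KFlatLib.stalkPullbackIso i z).app M).inv
    (((ModuleCat.extendRestrictScalarsAdj (i.stalkMap z).hom).unit.app (St M (i z))).hom v)

open AlgebraicGeometry CategoryTheory Limits in
theorem eps_gm {Z Y : Scheme.{u}} (i : Z ⟶ Y) (M : Y.Modules) (z : Z) {U : Y.Opens} (hU : z ∈ i ⁻¹ᵁ U) (s : Γ(M, U)) :
    eps i M z (gm M (show i z ∈ U from hU) s) = gm ((Scheme.Modules.pullback i).obj M) hU (OmegaSh.pullSect i M U s) := by
  show ((KFlatLib.stalkPullbackIso i z).app M).inv _ = _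
  refine (congrArg _ (stalkPullbackIso_gm i M z hU s).symm).trans ?_
  exact congrArg (fun φ : St _ z ⟶ St _ z => φ (gm ((Scheme.Modules.pullback i).obj M) hU (OmegaSh.pullSect i M U s)))
    ((KFlatLib.stalkPullbackIso i z).app M).hom_inv_id

open AlgebraicGeometry CategoryTheory Limits in
theorem eps_add {Z Y : Scheme.{u}} (i : Z ⟶ Y) (M : Y.Modules) (z : Z) (v w : St M (i z)) :
    eps i M z (v + w) = eps i M z v + eps i M z w := by
  show ((KFlatLib.stalkPullbackIso i z).app M).inv _ = _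
  exact (congrArg _ (map_add ((ModuleCat.extendRestrictScalarsAdj (i.stalkMap z).hom).unit.app (St M (i z))).hom v w)).trans
    (map_add ((KFlatLib.stalkPullbackIso i z).app M).inv.hom _ _)

open AlgebraicGeometry CategoryTheory Limits in
theorem eps_zero {Z Y : Scheme.{u}} (i : Z ⟶ Y) (M : Y.Modules) (z : Z) : eps i M z 0 = 0 := by
  simpa using eps_add i M z 0 0

open AlgebraicGeometry CategoryTheory Limits in
theorem eps_smul {Z Y : Scheme.{u}} (i : Z ⟶ Y) (M : Y.Modules) (z : Z) (r : Y.presheaf.stalk (i z)) (v : St M (i z)) :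
    eps i M z (r • v) = i.stalkMap z r • eps i M z v := by
  show ((KFlatLib.stalkPullbackIso i z).app M).inv _ = _
  exact (congrArg _ (map_smul ((ModuleCat.extendRestrictScalarsAdj (i.stalkMap z).hom).unit.app (St M (i z))).hom r v)).trans
    (map_smul ((KFlatLib.stalkPullbackIso i z).app M).inv.hom _ _)


open AlgebraicGeometry CategoryTheory Limits in
/-- Let i : Z ⟶ Y and b : Y ⟶ X be formally unramified, let (i' : Z ⟶ Z', c) be a first order thickening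
over X that is universal for i ≫ b, (j : Y ⟶ Y', d) one universal for b, m : Z' ⟶ Y' the morphism of
thickenings over X compatible with i, (i'' : Z ⟶ Z'', e) a first order thickening over Y that is
universal for i, and n : Z'' ⟶ Z' the morphism of thickenings over X extending the identity of Z.
Let ψ₁ : i^*C_{Y/Y'} ⟶ C_{Z/Z'} and ψ₂ : C_{Z/Z'} ⟶ C_{Z/Z''} be the canonical maps of conormal
sheaves induced by (i, m) and (id, n); these are the conormal sheaves C_{Y/X}, C_{Z/X}, C_{Z/Y} of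
the formally unramified morphisms and the canonical maps between them. Assume moreover that i is
Koszul at every point of Z, i.e. i is lci. Then 0 ⟶ i^*C_{Y/X} ⟶ C_{Z/X} ⟶ C_{Z/Y} ⟶ 0 is a short
exact sequence. -/
theorem result {Z Y X Z' Y' Z'' : Scheme.{u}} (i : Z ⟶ Y) (b : Y ⟶ X)
    [FormallyUnramified i] [FormallyUnramified b]
    (i' : Z ⟶ Z') (c : Z' ⟶ X) (hZ' : OmegaSh.IsUnivThickening (i ≫ b) i' c)
    (j : Y ⟶ Y') (d : Y' ⟶ X) (hY' : OmegaSh.IsUnivThickening b j d)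
    (m : Z' ⟶ Y') (hm₁ : i' ≫ m = i ≫ j) (hm₂ : m ≫ d = c)
    (i'' : Z ⟶ Z'') (e : Z'' ⟶ Y) (hZ'' : OmegaSh.IsUnivThickening i i'' e)
    (n : Z'' ⟶ Z') (hn₁ : i'' ≫ n = i') (hn₂ : n ≫ c = e ≫ b)
    (ψ₁ : (Scheme.Modules.pullback i).obj (Omega.conormal j) ⟶ Omega.conormal i') (hψ₁ : OmegaSh.IsConormalMap i' j m i ψ₁)
    (ψ₂ : (Scheme.Modules.pullback (𝟙 Z)).obj (Omega.conormal i') ⟶ Omega.conormal i'') (hψ₂ : OmegaSh.IsConormalMap i'' i' n (𝟙 Z) ψ₂)
    (hlci : ∀ z : Z, Synt.IsKoszulAt i z) :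
    ∃ w : (Scheme.Modules.pullback (𝟙 Z)).map ψ₁ ≫ ψ₂ = 0, (ShortComplex.mk _ _ w).ShortExact := by
  classical
  obtain ⟨w0, hexact, hepi⟩ := S9784.result i b i' c hZ' j d hY' m hm₁ hm₂ i'' e hZ'' n hn₁ hn₂ ψ₁ hψ₁ ψ₂ hψ₂
  haveI := hZ'.1.1.1
  haveI := hY'.1.1.1
  suffices hinj : ∀ (z : Z) (w : St ((Scheme.Modules.pullback i).obj (Omega.conormal j)) z),
      (DerSch.stalkFunctor Z z).map ψ₁ w = 0 → w = 0 by
    haveI : Mono ψ₁ := by
      rw [mono_iff_stalk]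
      intro z v v' h
      refine sub_eq_zero.1 (hinj z (v - v') ?_)
      exact (map_sub ((DerSch.stalkFunctor Z z).map ψ₁).hom v v').trans (sub_eq_zero.2 h)
    haveI hm0 : Mono ((Scheme.Modules.pullback (𝟙 Z)).map ψ₁) := by
      have h := (Scheme.Modules.pullbackId Z).hom.naturality ψ₁
      rw [Functor.id_map] at h
      haveI : Mono ((Scheme.Modules.pullback (𝟙 Z)).map ψ₁ ≫ (Scheme.Modules.pullbackId Z).hom.app _) := by
        rw [h]
        exact mono_comp _ _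
      exact mono_of_mono _ ((Scheme.Modules.pullbackId Z).hom.app _)
    haveI : Epi ψ₂ := hepi
    exact ⟨w0, ShortComplex.ShortExact.mk' hexact hm0 hepi⟩
  intro z w hw
  -- affine charts
  obtain ⟨U, hU, hzU, -⟩ := exists_isAffineOpen_mem_and_subset (U := ⊤) (x := d (j (i z))) trivial
  obtain ⟨V', hV', hzV', hV'le⟩ := exists_isAffineOpen_mem_and_subset (U := d ⁻¹ᵁ U) (x := j (i z)) hzU
  have hzm : i' z ∈ m ⁻¹ᵁ V' := by
    show (i' ≫ m) z ∈ V'
    rw [hm₁]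
    exact hzV'
  obtain ⟨W', hW', hzW', hW'le⟩ := exists_isAffineOpen_mem_and_subset (U := m ⁻¹ᵁ V') (x := i' z) hzm
  have ec : W' ≤ c ⁻¹ᵁ U := fun x hx => by
    rw [← hm₂]
    exact hV'le (hW'le hx)
  have ei : i' ⁻¹ᵁ W' ≤ i ⁻¹ᵁ (j ⁻¹ᵁ V') := fun x hx => by
    show (i ≫ j) x ∈ V'
    rw [← hm₁]
    exact hW'le hx
  letI : Algebra Γ(X, U) Γ(Y', V') := (d.appLE U V' hV'le).hom.toAlgebra
  letI : Algebra Γ(X, U) Γ(Y, j ⁻¹ᵁ V') := ((j.app V').hom.comp (d.appLE U V' hV'le).hom).toAlgebra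
  letI : Algebra Γ(X, U) Γ(Z', W') := (c.appLE U W' ec).hom.toAlgebra
  letI : Algebra Γ(X, U) Γ(Z, i' ⁻¹ᵁ W') := ((i'.app W').hom.comp (c.appLE U W' ec).hom).toAlgebra
  letI : Algebra Γ(Y, j ⁻¹ᵁ V') Γ(Z, i' ⁻¹ᵁ W') := (i.appLE (j ⁻¹ᵁ V') (i' ⁻¹ᵁ W') ei).hom.toAlgebra
  have hsq : ∀ (x : Γ(Y', V')), i'.app W' (m.appLE V' W' hW'le x) = i.appLE (j ⁻¹ᵁ V') (i' ⁻¹ᵁ W') ei (j.app V' x) := by
    intro x
    show (m.appLE V' W' hW'le ≫ i'.app W') x = (j.app V' ≫ i.appLE (j ⁻¹ᵁ V') (i' ⁻¹ᵁ W') ei) x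
    rw [Scheme.Hom.app_eq_appLE, Scheme.Hom.app_eq_appLE, Scheme.Hom.appLE_comp_appLE, Scheme.Hom.appLE_comp_appLE]
    have key : ∀ (f g : Z ⟶ Y') (hfg : f = g) (h₁ : i' ⁻¹ᵁ W' ≤ f ⁻¹ᵁ V') (h₂ : i' ⁻¹ᵁ W' ≤ g ⁻¹ᵁ V'),
        f.appLE V' (i' ⁻¹ᵁ W') h₁ x = g.appLE V' (i' ⁻¹ᵁ W') h₂ x := by
      rintro f g rfl h₁ h₂
      rfl
    exact key _ _ hm₁ _ _
  let σ : Γ(Y', V') →ₐ[Γ(X, U)] Γ(Z', W') := ⟨(m.appLE V' W' hW'le).hom, fun r => by
    show (d.appLE U V' hV'le ≫ m.appLE V' W' hW'le) r = c.appLE U W' ec r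
    rw [Scheme.Hom.appLE_comp_appLE]
    subst hm₂
    rfl⟩
  haveI : IsScalarTower Γ(X, U) Γ(Y, j ⁻¹ᵁ V') Γ(Z, i' ⁻¹ᵁ W') := IsScalarTower.of_algebraMap_eq fun r => by
    show i'.app W' (c.appLE U W' ec r) = i.appLE (j ⁻¹ᵁ V') (i' ⁻¹ᵁ W') ei (j.app V' (d.appLE U V' hV'le r))
    rw [← hsq]
    exact congrArg (i'.app W') (σ.commutes r).symm
  have hRB := UnivThick.isUnivRing_of_affineOpens hY' hU hV' hV'le (j.app V') rfl
  have hRC := UnivThick.isUnivRing_of_affineOpens hZ' hU hW' ec (i'.app W') rfl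
  have hL := (KRegLib.forall_isKoszulAt_iff i).1 hlci
  rw [KRegLib.isLCI'_iff] at hL
  have hlci' : LCI.IsLCI Γ(Y, j ⁻¹ᵁ V') Γ(Z, i' ⁻¹ᵁ W') :=
    hL _ _ (hW'.preimage i') (hV'.preimage j) ei
  have hlci'' := hlci'
  obtain ⟨-, l, φ, hφ, -⟩ := hlci''
  haveI : Algebra.Smooth Γ(Y, j ⁻¹ᵁ V') (MvPolynomial (Fin l) Γ(Y, j ⁻¹ᵁ V')) := ⟨inferInstance, inferInstance⟩
  let s : Γ(Z, i' ⁻¹ᵁ W') →+* Z.presheaf.stalk z := (Z.presheaf.germ (i' ⁻¹ᵁ W') z hzW').hom
  -- classes of the kernel of the thickening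
  have hex : ∀ a : Γ(Y', V'), j.app V' a = 0 → ∃ v, Cls j (i z) v (Y'.presheaf.germ V' (j (i z)) hzV' a) :=
    fun a ha => cls_exists_of_mem j (i z) (by rw [Scheme.Hom.germ_stalkMap_apply, ha, map_zero])
  let β : Γ(Y', V') → St ((Scheme.Modules.pullback i).obj (Omega.conormal j)) z := fun a =>
    if ha : j.app V' a = 0 then eps i (Omega.conormal j) z (hex a ha).choose else 0
  have hβ : ∀ a v, j.app V' a = 0 → Cls j (i z) v (Y'.presheaf.germ V' (j (i z)) hzV' a) →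
      β a = eps i (Omega.conormal j) z v := by
    intro a v ha hv
    simp only [β, dif_pos ha]
    exact congrArg _ (cls_inj j (hex a ha).choose_spec hv)
  have hadd : ∀ a a', j.app V' a = 0 → j.app V' a' = 0 → β (a + a') = β a + β a' := by
    intro a a' ha ha'
    obtain ⟨v, hv⟩ := hex a ha
    obtain ⟨v', hv'⟩ := hex a' ha'
    rw [hβ a v ha hv, hβ a' v' ha' hv', ← eps_add]
    refine hβ _ _ (by rw [map_add, ha, ha', add_zero]) ?_
    rw [map_add]
    exact H1CNSplit.cls_add j hv hv'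
  have hsmul : ∀ r a, j.app V' a = 0 →
      β (r * a) = s (algebraMap Γ(Y, j ⁻¹ᵁ V') Γ(Z, i' ⁻¹ᵁ W') (j.app V' r)) • β a := by
    intro r a ha
    obtain ⟨v, hv⟩ := hex a ha
    have h1 : s (algebraMap Γ(Y, j ⁻¹ᵁ V') Γ(Z, i' ⁻¹ᵁ W') (j.app V' r)) =
        i.stalkMap z (j.stalkMap (i z) (Y'.presheaf.germ V' (j (i z)) hzV' r)) := by
      rw [Scheme.Hom.germ_stalkMap_apply, Scheme.Hom.germ_stalkMap_apply]
      show Z.presheaf.germ (i' ⁻¹ᵁ W') z hzW' (i.appLE (j ⁻¹ᵁ V') (i' ⁻¹ᵁ W') ei (j.app V' r)) = _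
      rw [Scheme.Hom.appLE, CommRingCat.comp_apply, TopCat.Presheaf.germ_res_apply]
    rw [hβ a v ha hv, h1, ← eps_smul]
    refine hβ _ _ (by rw [map_mul, ha, mul_zero]) ?_
    rw [map_mul]
    exact H1CNSplit.cls_smul j hv _
  -- values of the map of conormal sheaves
  have hval : ∀ a, j.app V' a = 0 → Cls i' z ((DerSch.stalkFunctor Z z).map ψ₁ (β a))
      (Z'.presheaf.germ W' (i' z) hzW' (σ a)) := by
    intro a ha
    obtain ⟨t, ht⟩ := OmegaUniv.exists_idealSect_of_app_eq_zero j V' a ha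
    have hzp : z ∈ i ⁻¹ᵁ (j ⁻¹ᵁ V') := hzV'
    obtain ⟨hx', hc⟩ := ConormalFrame.conormalMap_cls i' j m i ψ₁ hψ₁ V' t hzp
    rw [hβ a _ ha (cls_of_sect j (show i z ∈ j ⁻¹ᵁ V' from hzV') t _ (by rw [ht])), eps_gm i _ z hzp]
    refine Eq.mp (congrArg (fun v => Cls i' z _ v) ?_) hc
    show _ = Z'.presheaf.germ W' (i' z) hzW' (m.appLE V' W' hW'le a)
    rw [ht, Scheme.Hom.appLE, CommRingCat.comp_apply, TopCat.Presheaf.germ_res_apply]
  -- generators
  have hgen : ∀ v : St (Omega.conormal j) (i z),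
      eps i (Omega.conormal j) z v ∈ Submodule.span (Z.presheaf.stalk z) (β '' {a | j.app V' a = 0}) := by
    intro v
    obtain ⟨a, ha⟩ := cls_exists j (i z) v
    have hmem : a ∈ RingHom.ker (j.stalkMap (i z)).hom := RingHom.mem_ker.2 (cls_mem j ha)
    rw [RegNear.ker_stalkMap j (i z) hV' hzV'] at hmem
    obtain ⟨v', hv', hspan⟩ : ∃ v', Cls j (i z) v' a ∧
        eps i (Omega.conormal j) z v' ∈ Submodule.span (Z.presheaf.stalk z) (β '' {a | j.app V' a = 0}) := by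
      refine Submodule.span_induction (p := fun x _ => ∃ v', Cls j (i z) v' x ∧
        eps i (Omega.conormal j) z v' ∈ Submodule.span (Z.presheaf.stalk z) (β '' {a | j.app V' a = 0}))
        ?_ ?_ ?_ ?_ hmem
      · rintro _ ⟨q, hq, rfl⟩
        obtain ⟨v', hv'⟩ := hex q hq
        exact ⟨v', hv', Submodule.subset_span ⟨q, hq, hβ q v' hq hv'⟩⟩
      · exact ⟨0, H1CNSplit.cls_zero j, by rw [eps_zero]; exact zero_mem _⟩
      · rintro x y - - ⟨v₁, h₁, h₁'⟩ ⟨v₂, h₂, h₂'⟩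
        exact ⟨v₁ + v₂, H1CNSplit.cls_add j h₁ h₂, by rw [eps_add]; exact add_mem h₁' h₂'⟩
      · rintro r x - ⟨v₁, h₁, h₁'⟩
        exact ⟨j.stalkMap (i z) r • v₁, H1CNSplit.cls_smul j h₁ r,
          by rw [eps_smul]; exact Submodule.smul_mem _ _ h₁'⟩
    rwa [cls_inj j ha hv']
  have hw' : w ∈ Submodule.span (Z.presheaf.stalk z) (β '' {a | j.app V' a = 0}) := by
    refine ConormalFrame.pullback_stalk_induction i (Omega.conormal j) z
      (fun w => w ∈ Submodule.span (Z.presheaf.stalk z) (β '' {a | j.app V' a = 0}))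
      (zero_mem _) (fun _ _ => add_mem) (fun r _ => Submodule.smul_mem _ r) (fun U hx t => ?_) w
    rw [← eps_gm i _ z hx]
    exact hgen _
  obtain ⟨k, r, g, hwg⟩ := Submodule.mem_span_set'.1 hw'
  choose a ha hag using fun p => (g p).2
  -- clear denominators
  letI : Algebra Γ(Z, i' ⁻¹ᵁ W') (Z.presheaf.stalk z) := Z.presheaf.algebra_section_stalk ⟨z, hzW'⟩
  haveI := (hW'.preimage i').isLocalization_stalk ⟨z, hzW'⟩
  obtain ⟨u, hu⟩ := IsLocalization.exist_integer_multiples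
    ((hW'.preimage i').primeIdealOf ⟨z, hzW'⟩).asIdeal.primeCompl Finset.univ r
  choose cz hcz using fun p => hu p (Finset.mem_univ _)
  choose c' hc' using fun p => i'.app_surjective W' hW' (cz p)
  have hsu : IsUnit (s u) := IsLocalization.map_units (Z.presheaf.stalk z) u
  refine hsu.smul_eq_zero.1 ?_
  have hw2 : s u • w = ∑ p, s (i'.app W' (c' p)) • β (a p) := by
    rw [← hwg, Finset.smul_sum]
    refine Finset.sum_congr rfl fun p _ => ?_
    rw [smul_smul, hag, hc']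
    congr 1
    exact ((hcz p).trans (Algebra.smul_def _ _)).symm
  rw [hw2]
  have hcls : Cls i' z ((DerSch.stalkFunctor Z z).map ψ₁ (∑ p, s (i'.app W' (c' p)) • β (a p)))
      (Z'.presheaf.germ W' (i' z) hzW' (∑ p, c' p * σ (a p))) := by
    rw [map_sum, map_sum]
    refine Finset.induction_on (Finset.univ : Finset (Fin k)) (by simpa using H1CNSplit.cls_zero i') ?_
    intro p F hp ih
    rw [Finset.sum_insert hp, Finset.sum_insert hp]
    refine H1CNSplit.cls_add i' ?_ ih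
    rw [map_smul, map_mul]
    have := H1CNSplit.cls_smul i' (hval (a p) (ha p)) (Z'.presheaf.germ W' (i' z) hzW' (c' p))
    rwa [Scheme.Hom.germ_stalkMap_apply] at this
  rw [← hw2, map_smul, hw, smul_zero] at hcls
  have h0 := ConormalFrame.thick_cls_zero i' hZ'.1.2 hcls
  letI : Algebra Γ(Z', W') (Z'.presheaf.stalk (i' z)) := Z'.presheaf.algebra_section_stalk ⟨i' z, hzW'⟩
  haveI := hW'.isLocalization_stalk ⟨i' z, hzW'⟩
  obtain ⟨v, hv⟩ := (IsLocalization.eq_iff_exists (hW'.primeIdealOf ⟨i' z, hzW'⟩).asIdeal.primeCompl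
    (Z'.presheaf.stalk (i' z))).1 (h0.trans (map_zero (Z'.presheaf.germ W' (i' z) hzW').hom).symm)
  rw [mul_zero, Finset.mul_sum] at hv
  have hmain := ConormalFrame.univ_rel_zero _ hRB _ hRC σ (fun x => hsq x) φ hφ
    (fun 𝔮 _ => KRegLib.kReg_of_isLCI hlci' φ hφ 𝔮) s β hadd hsmul (fun p => (v : Γ(Z', W')) * c' p) a ha
    (by simpa only [mul_assoc] using hv)
  have hvu : IsUnit (s (i'.app W' v)) := by
    have h1 := (IsLocalization.map_units (Z'.presheaf.stalk (i' z)) v).map (i'.stalkMap z).hom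
    change IsUnit (i'.stalkMap z (Z'.presheaf.germ W' (i' z) hzW' (v : Γ(Z', W')))) at h1
    rwa [Scheme.Hom.germ_stalkMap_apply] at h1
  refine hvu.smul_eq_zero.1 ?_
  rw [Finset.smul_sum, ← hmain]
  refine Finset.sum_congr rfl fun p _ => ?_
  rw [smul_smul, ← map_mul, ← map_mul]
  rfl

end Groth.Agent.S9785
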