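import Groth.Statements.S9786
import Groth.Agent.ConormalFrame.Thick
import Groth.Agent.UnivThick.Scheme
import Groth.Agent.MorLib.FirstOrder
import Groth.Agent.S9371
import Groth.Agent.S9372
import Groth.Agent.S9375
import Groth.Agent.H1CNSplit.Stalk

set_option backward.isDefEq.respectTransparency false
set_option backward.isDefEq.respectTransparency.types false
set_option linter.style.haveILetI false
set_option maxHeartbeats 1000000

set_option autoImplicit false
universe u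
open OmegaSh

namespace Groth.Agent.S9786

open Groth.Agent Groth.Agent.KFlatLib Groth.Agent.Synt29 Groth.Agent.Synt29.OmegaStalk Groth.Agent.Synt29.ConormalStalk
open Groth.Agent.S5974 (Cls cls_of_sect cls_exists cls_sect cls_mem cls_exists_of_mem cls_inj cls_zero_mem_sq)

open CategoryTheory in
theorem split_calc {C D : Type*} [Category C] [Category D] (F G : C ⥤ D) (E : G ≅ F) {P A B : C} (e : P ≅ A)
    (ψ : P ⟶ B) {c : D} (φθ : F.obj B ⟶ c) (φι : F.obj A ⟶ c) [IsIso φι] (key : F.map (e.inv ≫ ψ) ≫ φθ = φι) :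
    G.map ψ ≫ E.hom.app B ≫ (φθ ≫ inv φι ≫ F.map e.inv) ≫ E.inv.app P = 𝟙 _ := by
  have h0 : F.map ψ ≫ φθ ≫ inv φι ≫ F.map e.inv = 𝟙 _ := by
    rw [show ψ = e.hom ≫ e.inv ≫ ψ from (e.hom_inv_id_assoc ψ).symm, F.map_comp, Category.assoc,
      reassoc_of% key, IsIso.hom_inv_id_assoc, ← F.map_comp, e.hom_inv_id, F.map_id]
  simp only [Category.assoc]
  rw [E.hom.naturality_assoc, reassoc_of% h0, Iso.hom_inv_id_app]

open AlgebraicGeometry CategoryTheory Limits in
/-- A lift of a thickened affine open along a formally smooth morphism. -/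
theorem exists_lift {Z Z' X Y : Scheme.{u}} (i : Z ⟶ X) (p : X ⟶ Y) (hp : MoreMor.IsFormallySmoothHom p)
    (i' : Z ⟶ Z') (b : Z' ⟶ Y) (hi' : MoreMor.IsFirstOrderThickening i') (hw : i' ≫ b = i ≫ p)
    {U : Z'.Opens} (hU : IsAffineOpen U) :
    ∃ l : (U : Scheme.{u}) ⟶ X, (i' ∣_ U) ≫ l = (i' ⁻¹ᵁ U).ι ≫ i ∧ l ≫ p = U.ι ≫ b := by
  haveI := hi'.1.1
  have hV : IsAffineOpen (i' ⁻¹ᵁ U) := hU.preimage i'
  let I : Ideal Γ(Z', U) := RingHom.ker (i'.app U).hom
  have hI : I ^ 2 = ⊥ := by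
    have h2 := congr(($(hi'.2)).ideal ⟨U, hU⟩)
    simp only [Scheme.IdealSheafData.ideal_mul, Pi.mul_apply, Scheme.Hom.ker_apply,
      Scheme.IdealSheafData.ideal_bot, Pi.bot_apply] at h2
    rw [pow_two]
    exact h2
  let e : (Γ(Z', U) ⧸ I) ≃+* Γ(Z, i' ⁻¹ᵁ U) :=
    RingHom.quotientKerEquivOfSurjective (i'.app_surjective U hU)
  let s : CommRingCat.of (Γ(Z', U) ⧸ I) ≅ Γ(Z, i' ⁻¹ᵁ U) := e.toCommRingCatIso
  have he : CommRingCat.ofHom (Ideal.Quotient.mk I) ≫ s.hom = i'.app U := by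
    ext x
    rfl
  have hfs : Spec.map (i'.app U) ≫ hU.fromSpec = hV.fromSpec ≫ i' := by
    rw [Scheme.Hom.app_eq_appLE]
    exact IsAffineOpen.SpecMap_appLE_fromSpec i' hU hV _
  have hmk : Spec.map (CommRingCat.ofHom (Ideal.Quotient.mk I)) = Spec.map s.inv ≫ Spec.map (i'.app U) := by
    rw [← he, ← Spec.map_comp, Category.assoc, s.hom_inv_id, Category.comp_id]
  obtain ⟨l0, hl1, hl2⟩ := hp Γ(Z', U) I hI (Spec.map s.inv ≫ hV.fromSpec ≫ i) (hU.fromSpec ≫ b) (by
    rw [hmk, Category.assoc, Category.assoc, Category.assoc, reassoc_of% hfs, hw])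
  refine ⟨hU.isoSpec.hom ≫ l0, ?_, ?_⟩
  · have h1 : (i' ∣_ U) ≫ hU.isoSpec.hom = hV.isoSpec.hom ≫ Spec.map (i'.app U) := by
      haveI : Mono hU.fromSpec := inferInstance
      rw [← cancel_mono hU.fromSpec, Category.assoc, Category.assoc, hfs, IsAffineOpen.isoSpec_hom_fromSpec,
        IsAffineOpen.isoSpec_hom_fromSpec_assoc, morphismRestrict_ι]
    have h2 : Spec.map (i'.app U) = Spec.map s.hom ≫ Spec.map (CommRingCat.ofHom (Ideal.Quotient.mk I)) := by
      rw [← Spec.map_comp, he]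
    rw [reassoc_of% h1, h2, Category.assoc, hl1, ← Spec.map_comp_assoc, s.inv_hom_id, Spec.map_id,
      Category.id_comp, IsAffineOpen.isoSpec_hom_fromSpec_assoc]
  · rw [Category.assoc, hl2, IsAffineOpen.isoSpec_hom_fromSpec_assoc]


open AlgebraicGeometry CategoryTheory Limits in
/-- Let i : Z ⟶ X be a morphism and p : X ⟶ Y a formally smooth morphism (infinitesimal lifting against
square-zero thickenings of affine schemes) with i and i ≫ p formally unramified. Let (i' : Z ⟶ Z',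
a) be the universal first-order thickening attached to i, (i'' : Z ⟶ Z'', b) the one attached to i ≫
p, and k : Z' ⟶ Z'' the morphism of thickenings (i' ≫ k = i'', k ≫ b = a ≫ p). Let d : O_{Z'} → Ω be
a universal derivation over Z'', ψ : C_{Z/Z''} ⟶ C_{Z/Z'} the canonical map of conormal sheaves
induced by (id, k) and φ : C_{Z/Z'} ⟶ (i')^*Ω the map induced by d. Then 0 ⟶ C_{Z/Z''} ⟶ C_{Z/Z'} ⟶
(i')^*Ω ⟶ 0 is short exact and locally split: every point of Z has an open neighbourhood over which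
ψ admits a left inverse. The published statement concerns the conormal–differential sequence of Z in
X over Y; this row states it on the thickenings Z ⊂ Z' ⟶ Z'', whose terms identify with the
published ones by the definition of the conormal sheaf of a formally unramified morphism and by the
isomorphism of (i')^*Ω_{Z'/S} with i^*Ω_{X/S} for a universal thickening (with Ω_{Z'/Z''} =
Ω_{Z'/Y}, as Z'' ⟶ Y is formally unramified). -/
theorem result {Z X Y Z' Z'' : Scheme.{u}} (i : Z ⟶ X) (p : X ⟶ Y)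
    (hp : MoreMor.IsFormallySmoothHom p) [FormallyUnramified i] [FormallyUnramified (i ≫ p)]
    (i' : Z ⟶ Z') (a : Z' ⟶ X) (hZ' : OmegaSh.IsUnivThickening i i' a)
    (i'' : Z ⟶ Z'') (b : Z'' ⟶ Y) (hZ'' : OmegaSh.IsUnivThickening (i ≫ p) i'' b)
    (k : Z' ⟶ Z'') (hk₁ : i' ≫ k = i'') (hk₂ : k ≫ b = a ≫ p)
    (Ω : Z'.Modules) (d : OmegaSh.Der k Ω) (hd : OmegaSh.IsUniversal d)
    (ψ : (Scheme.Modules.pullback (𝟙 Z)).obj (Omega.conormal i'') ⟶ Omega.conormal i') (hψ : OmegaSh.IsConormalMap i' i'' k (𝟙 Z) ψ)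
    (φ : Omega.conormal i' ⟶ (Scheme.Modules.pullback i').obj Ω) (hφ : OmegaSh.IsConormalDiff i' d φ) :
    ∃ w : ψ ≫ φ = 0, (ShortComplex.mk ψ φ w).ShortExact ∧
      ∀ z : Z, ∃ (U : Z.Opens) (r : (Scheme.Modules.restrictFunctor U.ι).obj (Omega.conormal i') ⟶
          (Scheme.Modules.restrictFunctor U.ι).obj ((Scheme.Modules.pullback (𝟙 Z)).obj (Omega.conormal i''))),
        z ∈ U ∧ (Scheme.Modules.restrictFunctor U.ι).map ψ ≫ r = 𝟙 _ := by
  classical
  haveI := hZ'.1.1.1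
  haveI := hZ''.1.1.1
  obtain ⟨w, hexact, hepi⟩ := S9375.result k i' i'' hk₁ Ω d hd ψ hψ φ hφ
  subst hk₁
  have hloc : ∀ z : Z, ∃ (V : Z.Opens) (r : (Scheme.Modules.restrictFunctor V.ι).obj (Omega.conormal i') ⟶
      (Scheme.Modules.restrictFunctor V.ι).obj ((Scheme.Modules.pullback (𝟙 Z)).obj (Omega.conormal (i' ≫ k)))),
      z ∈ V ∧ (Scheme.Modules.restrictFunctor V.ι).map ψ ≫ r = 𝟙 _ := by
    intro z
    obtain ⟨U, hU, hzU, -⟩ := exists_isAffineOpen_mem_and_subset (U := ⊤) (x := (i' ≫ k) z) trivial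
    obtain ⟨l, hl1, hl2⟩ := exists_lift i p hp (i' ≫ k) b hZ''.1 hZ''.2.1 hU
    let V : Z.Opens := (i' ≫ k) ⁻¹ᵁ U
    let q : (V : Scheme.{u}) ⟶ U := (i' ≫ k) ∣_ U
    have hq : MoreMor.IsFirstOrderThickening q := MorLib.isFirstOrderThickening_restrict _ hZ''.1 U
    haveI : IsClosedImmersion q := hq.1.1
    obtain ⟨θ, ⟨hθ1, hθ2⟩, -⟩ := hZ'.2.2 _ _ q l V.ι hq hl1
    have hθk : θ ≫ k = U.ι :=
      UnivThick.univ_hom_ext hZ'' hq V.ι (by rw [reassoc_of% hθ1]) (morphismRestrict_ι _ _)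
        (by rw [Category.assoc, hk₂, reassoc_of% hθ2, hl2])
    obtain ⟨φθ, hφθ, -⟩ := S9371.result q i' θ V.ι hθ1.symm
    obtain ⟨φι, hφι, -⟩ := S9371.result q (i' ≫ k) U.ι V.ι (morphismRestrict_ι _ _).symm
    haveI : IsIso φι := (S9372.result q (i' ≫ k) U.ι V.ι (isPullback_morphismRestrict (i' ≫ k) U) φι hφι).2 inferInstance
    let g := (Scheme.Modules.pullbackId Z).inv.app (Omega.conormal (i' ≫ k)) ≫ ψ
    have key : (Scheme.Modules.pullback V.ι).map g ≫ φθ = φι := by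
      refine ConormalExact.hom_ext_stalk _ _ fun x v => ?_
      rw [Functor.map_comp, ModuleCat.comp_apply]
      refine ConormalFrame.pullback_stalk_induction V.ι (Omega.conormal (i' ≫ k)) x
        (fun v => (DerSch.stalkFunctor (V : Scheme.{u}) x).map φθ ((DerSch.stalkFunctor (V : Scheme.{u}) x).map
          ((Scheme.Modules.pullback V.ι).map g) v) = (DerSch.stalkFunctor (V : Scheme.{u}) x).map φι v) ?_ ?_ ?_ ?_ v
      · simp only [map_zero]
      · intro v v' hv hv'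
        simp only [map_add, hv, hv']
      · intro r v hv
        simp only [map_smul, hv]
      · intro O hxO s
        obtain ⟨W, hxW, t, ht⟩ := exists_conormalSect (i' ≫ k) (V.ι x) (gm (Omega.conormal (i' ≫ k)) (show V.ι x ∈ O from hxO) s)
        have hzW : x ∈ V.ι ⁻¹ᵁ ((i' ≫ k) ⁻¹ᵁ W) := hxW
        have he : gm ((Scheme.Modules.pullback V.ι).obj (Omega.conormal (i' ≫ k))) hxO (OmegaSh.pullSect V.ι _ O s) =
            gm ((Scheme.Modules.pullback V.ι).obj (Omega.conormal (i' ≫ k))) hzW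
              (OmegaSh.pullSect V.ι _ ((i' ≫ k) ⁻¹ᵁ W) (OmegaSh.conormalSect (i' ≫ k) W t)) :=
          (ConcreteCategory.bijective_of_isIso ((KFlatLib.stalkPullbackIso V.ι x).app _).hom).1
            ((stalkPullbackIso_gm V.ι _ x hxO s).trans ((congrArg _ ht.symm).trans (stalkPullbackIso_gm V.ι _ x hzW _).symm))
        rw [he]
        obtain ⟨s', hs'⟩ := OmegaUniv.exists_idealSect_of_app_eq_zero i' (k ⁻¹ᵁ W)
          (k.app W (OmegaSh.idealSect (i' ≫ k).ker W t)) (OmegaUniv.app_idealSect (i' ≫ k) W t)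
        have hgval : g.app ((i' ≫ k) ⁻¹ᵁ W) (OmegaSh.conormalSect (i' ≫ k) W t) =
            OmegaSh.conormalSect i' (k ⁻¹ᵁ W) s' := by
          have hnat := hψ.2 W t s' hs' ((i' ≫ k) ⁻¹ᵁ W) le_rfl le_rfl
          have hid : ∀ (O : Z.Opens) (h : O ≤ O) (y : Γ(Omega.conormal i', O)),
              (Omega.conormal i').presheaf.map (homOfLE h).op y = y := fun O h y => by
            rw [Subsingleton.elim (homOfLE h) (𝟙 _), op_id, (Omega.conormal i').presheaf.map_id]
            rfl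
          refine Eq.trans ?_ (((hid _ _ _).symm.trans hnat).trans (hid _ _ _))
          refine congrArg (ψ.app ((i' ≫ k) ⁻¹ᵁ W)) ?_
          have h := unit_conjugateEquiv Adjunction.id (Scheme.Modules.pullbackPushforwardAdjunction (𝟙 Z))
            (Scheme.Modules.pullbackId Z).hom (Omega.conormal (i' ≫ k))
          rw [Scheme.Modules.conjugateEquiv_pullbackId_hom] at h
          have h1 : OmegaSh.conormalSect (i' ≫ k) W t = ((Scheme.Modules.pullbackId Z).hom.app (Omega.conormal (i' ≫ k))).app _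
              (OmegaSh.pullSect (𝟙 Z) (Omega.conormal (i' ≫ k)) _ (OmegaSh.conormalSect (i' ≫ k) W t)) :=
            congrArg (fun φ => Scheme.Modules.Hom.app φ ((i' ≫ k) ⁻¹ᵁ W) (OmegaSh.conormalSect (i' ≫ k) W t)) h
          refine (congrArg (((Scheme.Modules.pullbackId Z).inv.app (Omega.conormal (i' ≫ k))).app _) h1).trans ?_
          exact congrArg (fun φ : (Scheme.Modules.pullback (𝟙 Z)).obj (Omega.conormal (i' ≫ k)) ⟶
              (Scheme.Modules.pullback (𝟙 Z)).obj (Omega.conormal (i' ≫ k)) =>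
            Scheme.Modules.Hom.app φ ((i' ≫ k) ⁻¹ᵁ W) (OmegaSh.pullSect (𝟙 Z) (Omega.conormal (i' ≫ k)) _ (OmegaSh.conormalSect (i' ≫ k) W t)))
            ((Scheme.Modules.pullbackId Z).hom_inv_id_app (Omega.conormal (i' ≫ k)))
        have hmapg : (DerSch.stalkFunctor (V : Scheme.{u}) x).map ((Scheme.Modules.pullback V.ι).map g)
            (gm _ hzW (OmegaSh.pullSect V.ι _ ((i' ≫ k) ⁻¹ᵁ W) (OmegaSh.conormalSect (i' ≫ k) W t))) =
            gm ((Scheme.Modules.pullback V.ι).obj (Omega.conormal i')) (show x ∈ V.ι ⁻¹ᵁ (i' ⁻¹ᵁ (k ⁻¹ᵁ W)) from hxW)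
              (OmegaSh.pullSect V.ι _ (i' ⁻¹ᵁ (k ⁻¹ᵁ W)) (OmegaSh.conormalSect i' (k ⁻¹ᵁ W) s')) := by
          refine (DerSch.stalkFunctor_map_germ x ((Scheme.Modules.pullback V.ι).map g) _ _ _).trans ?_
          refine congrArg (gm ((Scheme.Modules.pullback V.ι).obj (Omega.conormal i')) hzW) ?_
          rw [← hgval]
          exact congrArg (fun φ => Scheme.Modules.Hom.app φ ((i' ≫ k) ⁻¹ᵁ W) (OmegaSh.conormalSect (i' ≫ k) W t))
            ((Scheme.Modules.pullbackPushforwardAdjunction V.ι).unit.naturality g).symm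
        refine (congrArg _ hmapg).trans ?_
        obtain ⟨hx1, hc1⟩ := ConormalFrame.conormalMap_cls q i' θ V.ι φθ hφθ (k ⁻¹ᵁ W) s' (x := x) hxW
        obtain ⟨hx2, hc2⟩ := ConormalFrame.conormalMap_cls q (i' ≫ k) U.ι V.ι φι hφι W t (x := x) hxW
        refine cls_inj q (Eq.mp (congrArg (fun v => Cls q x _ v) ?_) hc1) hc2
        rw [hs']
        have hgen : ∀ (f₁ f₂ : (U : Scheme.{u}) ⟶ Z'') (hf : f₁ = f₂) (y : (U : Scheme.{u})) (h₁ : y ∈ f₁ ⁻¹ᵁ W) (h₂ : y ∈ f₂ ⁻¹ᵁ W),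
            (U : Scheme.{u}).presheaf.germ _ y h₁ (f₁.app W (OmegaSh.idealSect (i' ≫ k).ker W t)) =
              (U : Scheme.{u}).presheaf.germ _ y h₂ (f₂.app W (OmegaSh.idealSect (i' ≫ k).ker W t)) := by
          rintro f₁ f₂ rfl y h₁ h₂
          rfl
        exact hgen _ _ hθk (q x) hx1 hx2
    let E := Scheme.Modules.restrictFunctorIsoPullback V.ι
    exact ⟨V, _, hzU, split_calc (Scheme.Modules.pullback V.ι) (Scheme.Modules.restrictFunctor V.ι) E
      ((Scheme.Modules.pullbackId Z).app (Omega.conormal (i' ≫ k))) ψ φθ φι key⟩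
  haveI : Mono ψ := by
    rw [mono_iff_stalk]
    intro z v v' h
    obtain ⟨V, r, hzV, hr⟩ := hloc z
    obtain ⟨R, hR⟩ := H1CNSplit.exists_stalk_retraction ψ V r hr (⟨z, hzV⟩ : V)
    exact (hR v).symm.trans ((congrArg R h).trans (hR v'))
  haveI := hepi
  exact ⟨w, ShortComplex.ShortExact.mk' hexact inferInstance inferInstance, hloc⟩

end Groth.Agent.S9786
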