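import Groth.Statements.S9802
import Groth.Agent.H1N2.Transfer
import Groth.Agent.S9833
import Groth.Agent.S0566
import Groth.Agent.QCoh.Devissage

set_option autoImplicit false
set_option backward.isDefEq.respectTransparency false
set_option backward.isDefEq.respectTransparency.types false
universe u
open CategoryTheory AlgebraicGeometry TopologicalSpace
open Props

namespace Groth.Agent.S9802

/-- A locally Noetherian scheme is Nagata (every affine open has a Nagata coordinate ring) if and only
if every integral closed subscheme is Japanese (every nonempty affine open of it has an N-2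
coordinate ring). -/
theorem result (X : Scheme.{u})
    [IsLocallyNoetherian X] :
    (∀ U : X.Opens, IsAffineOpen U → CAlg.IsNagata Γ(X, U)) ↔
      ∀ (Z : Scheme.{u}) (i : Z ⟶ X) [IsClosedImmersion i] [IsIntegral Z]
        (V : Z.Opens) [Nonempty V], IsAffineOpen V → CAlg.IsN2 Γ(Z, V) := by
  constructor
  · intro h Z i _ _ V _ hV
    refine H1N2.isN2_of_isNagata (Groth.Agent.S9833.result Z (fun U : X.affineOpens => i ⁻¹ᵁ U.1) ?_
      (fun U => U.2.preimage i) (fun U => ?_) V hV)
    · rw [← Scheme.Hom.preimage_iSup, iSup_affineOpens_eq_top X, Scheme.Hom.preimage_top]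
    · letI : Algebra Γ(X, U.1) Γ(Z, i ⁻¹ᵁ U.1) := (i.app U.1).hom.toAlgebra
      haveI : Algebra.FiniteType Γ(X, U.1) Γ(Z, i ⁻¹ᵁ U.1) :=
        RingHom.FiniteType.of_surjective (i.app U.1).hom (i.app_surjective U.1 U.2)
      exact Groth.Agent.S0566.result Γ(X, U.1) (h U.1 U.2) Γ(Z, i ⁻¹ᵁ U.1)
  · intro h U hU
    haveI : IsNoetherianRing Γ(X, U) := IsLocallyNoetherian.component_noetherian ⟨U, hU⟩
    refine ⟨inferInstance, fun p _ => ?_⟩
    let ξ : X := hU.fromSpec ⟨p, inferInstance⟩
    let I := Scheme.IdealSheafData.vanishingIdeal (Closeds.closure {ξ})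
    haveI : IsIntegral I.subscheme := Groth.Agent.QCoh.isIntegral_closure_point ξ
    have hI : I.ideal ⟨U, hU⟩ = p := by
      rw [Scheme.IdealSheafData.vanishingIdeal_ideal]
      have e : hU.fromSpec ⁻¹' closure {ξ} = closure {(⟨p, inferInstance⟩ : PrimeSpectrum Γ(X, U))} := by
        rw [hU.fromSpec.isOpenEmbedding.isInducing.closure_eq_preimage_closure_image, Set.image_singleton]
      change PrimeSpectrum.vanishingIdeal (hU.fromSpec ⁻¹' closure {ξ}) = p
      rw [e, PrimeSpectrum.vanishingIdeal_closure, PrimeSpectrum.vanishingIdeal_singleton]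
    have hξU : ξ ∈ U := by
      have : ξ ∈ Set.range hU.fromSpec := ⟨_, rfl⟩
      rwa [hU.range_fromSpec] at this
    haveI : Nonempty (I.subschemeι ⁻¹ᵁ U) := by
      have hr : Set.range I.subschemeι = closure {ξ} := Groth.Agent.H23.RedSub.range_vanishingIdeal _
      obtain ⟨z, hz⟩ : ξ ∈ Set.range I.subschemeι := hr ▸ subset_closure rfl
      exact ⟨⟨z, show I.subschemeι z ∈ U from hz ▸ hξU⟩⟩
    have h2 := h I.subscheme I.subschemeι (I.subschemeι ⁻¹ᵁ U) (hU.preimage _)
    exact H1N2.isN2_of_ringEquiv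
      ((I.subschemeObjIso ⟨U, hU⟩).commRingCatIsoToRingEquiv.trans (Ideal.quotEquivOfEq hI)) h2

end Groth.Agent.S9802
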