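import Groth.Statements.S9803
import Mathlib.AlgebraicGeometry.AffineSpace
import Mathlib.AlgebraicGeometry.QuasiAffine
import Mathlib.RingTheory.MvPolynomial.Basic

set_option autoImplicit false
universe u
open CategoryTheory AlgebraicGeometry TopologicalSpace
open Props

namespace Groth.Agent.S9803

/-- A quasi-affine scheme X admits a morphism from an affine scheme T which, after base change to any
affine scheme over X, becomes isomorphic over that affine scheme to an affine space of fixed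
dimension n. -/
theorem result (X : Scheme.{u}) [X.IsQuasiAffine] :
    ∃ (n : ℕ) (T : Scheme.{u}) (_ : IsAffine T) (p : T ⟶ X),
      ∀ (X' : Scheme.{u}) [IsAffine X'] (g : X' ⟶ X),
        ∃ e : Limits.pullback g p ≅ 𝔸(ULift.{u} (Fin n); X'),
          e.hom ≫ (𝔸(ULift.{u} (Fin n); X') ↘ X') = Limits.pullback.fst g p := by
  obtain ⟨t, ht⟩ := PrimeSpectrum.isCompact_isOpen_iff.1
    (show IsCompact (Set.range X.toSpecΓ) ∧ IsOpen (Set.range X.toSpecΓ) from
      ⟨isCompact_range X.toSpecΓ.continuous, X.toSpecΓ.isOpenEmbedding.isOpen_range⟩)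
  obtain ⟨m, f, hf⟩ : ∃ (m : ℕ) (f : Fin m → Γ(X, ⊤)), Set.range f = (t : Set Γ(X, ⊤)) :=
    ⟨t.card, fun i => (t.equivFin.symm i : Γ(X, ⊤)), by
      ext a
      exact ⟨fun ⟨i, hi⟩ => hi ▸ (t.equivFin.symm i).2, fun ha => ⟨t.equivFin ⟨a, ha⟩, by simp⟩⟩⟩
  let P := MvPolynomial (Option (ULift.{u} (Fin m))) Γ(X, ⊤)
  let r : P := (∑ i : Fin m, MvPolynomial.C (f i) * MvPolynomial.X (some ⟨i⟩)) - 1
  let Q := P ⧸ Ideal.span {r}
  let c : Γ(X, ⊤) →+* Q := (Ideal.Quotient.mk _).comp MvPolynomial.C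
  let q : Spec (CommRingCat.of Q) ⟶ Spec Γ(X, ⊤) := Spec.map (CommRingCat.ofHom c)
  have hq : Set.range q ⊆ Set.range X.toSpecΓ := by
    rintro _ ⟨z, rfl⟩
    have h1 : ∃ i, f i ∉ (q z).asIdeal := by
      by_contra hcon
      push Not at hcon
      refine z.isPrime.ne_top (Ideal.eq_top_iff_one _ |>.2 ?_)
      have hr : Ideal.Quotient.mk (Ideal.span {r}) r = 0 :=
        Ideal.Quotient.eq_zero_iff_mem.2 (Ideal.mem_span_singleton_self r)
      simp only [r, map_sub, map_sum, map_mul, map_one, sub_eq_zero] at hr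
      rw [← hr]
      exact Ideal.sum_mem _ fun i _ => Ideal.mul_mem_right _ _ (hcon i)
    obtain ⟨i, hi⟩ := h1
    rw [← ht]
    exact fun hz => hi (hz (hf ▸ ⟨i, rfl⟩))
  let p : Spec (CommRingCat.of Q) ⟶ X := IsOpenImmersion.lift X.toSpecΓ q hq
  have hp : p ≫ X.toSpecΓ = q := IsOpenImmersion.lift_fac _ _ hq
  refine ⟨m, Spec (CommRingCat.of Q), inferInstance, p, fun X' _ g => ?_⟩
  let ρ : Γ(X, ⊤) →+* Γ(X', ⊤) := g.appTop.hom
  have hg : g ≫ X.toSpecΓ = X'.isoSpec.hom ≫ Spec.map (CommRingCat.ofHom ρ) :=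
    Scheme.toSpecΓ_naturality g
  -- the `f i` generate the unit ideal
  obtain ⟨s, hs⟩ : ∃ s : Fin m → Γ(X', ⊤), ∑ i, s i * ρ (f i) = 1 := by
    refine Ideal.mem_span_range_iff_exists_fun.1 ?_
    by_contra hne
    obtain ⟨M, hM, hle⟩ := Ideal.exists_le_maximal (Ideal.span (Set.range fun i => ρ (f i)))
      (fun h => hne (h ▸ Submodule.mem_top))
    let x : X' := X'.isoSpec.inv ⟨M, hM.isPrime⟩
    have h2 : Spec.map (CommRingCat.ofHom ρ) ⟨M, hM.isPrime⟩ ∈ Set.range X.toSpecΓ := by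
      refine ⟨g x, ?_⟩
      have e1 := congrArg (fun φ => φ x) hg
      simp only [Scheme.Hom.comp_apply] at e1
      rw [e1]
      congr 1
      rw [← Scheme.Hom.comp_apply, X'.isoSpec.inv_hom_id]
      rfl
    rw [← ht] at h2
    refine h2 ?_
    rw [PrimeSpectrum.mem_zeroLocus, ← hf]
    rintro _ ⟨i, rfl⟩
    exact hle (Ideal.subset_span ⟨i, rfl⟩)
  let R := MvPolynomial (ULift.{u} (Fin m)) Γ(X', ⊤)
  let W : R := (∑ i : Fin m, MvPolynomial.C (ρ (f i)) * MvPolynomial.X ⟨i⟩) - 1
  let φ₀ : P →+* R := MvPolynomial.eval₂Hom (MvPolynomial.C.comp ρ)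
    (fun o => o.elim W fun i => MvPolynomial.X i - MvPolynomial.C (s i.down) * W)
  have hC : ∀ a, φ₀ (MvPolynomial.C a) = MvPolynomial.C (ρ a) := fun a => MvPolynomial.eval₂Hom_C _ _ a
  have hXn : φ₀ (MvPolynomial.X none) = W := MvPolynomial.eval₂Hom_X' _ _ none
  have hXs : ∀ i : ULift.{u} (Fin m), φ₀ (MvPolynomial.X (some i)) =
      MvPolynomial.X i - MvPolynomial.C (s i.down) * W := fun i => MvPolynomial.eval₂Hom_X' _ _ (some i)
  have hφr : φ₀ r = 0 := by
    simp only [r, map_sub, map_sum, map_mul, map_one, hC, hXs, mul_sub, Finset.sum_sub_distrib]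
    have e : ∑ i : Fin m, MvPolynomial.C (ρ (f i)) * (MvPolynomial.C (s i) * W) = W := by
      calc _ = (MvPolynomial.C (σ := ULift.{u} (Fin m)) (∑ i, s i * ρ (f i))) * W := by
            rw [map_sum, Finset.sum_mul]
            exact Finset.sum_congr rfl fun i _ => by rw [map_mul]; ring
        _ = W := by rw [hs, map_one, one_mul]
    rw [e]
    ring
  let φ : Q →+* R := Ideal.Quotient.lift _ φ₀ fun a ha => by
    obtain ⟨b, rfl⟩ := Ideal.mem_span_singleton.1 ha
    rw [map_mul, hφr, zero_mul]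
  have hφc : φ.comp c = MvPolynomial.C.comp ρ := RingHom.ext fun a => by
    show φ₀ (MvPolynomial.C a) = _
    exact hC a
  have hpush : IsPushout (CommRingCat.ofHom ρ) (CommRingCat.ofHom c)
      (CommRingCat.ofHom (MvPolynomial.C : Γ(X', ⊤) →+* R)) (CommRingCat.ofHom φ) := by
    let y : Q := Ideal.Quotient.mk _ (MvPolynomial.X none)
    let xx : Fin m → Q := fun i => Ideal.Quotient.mk _ (MvPolynomial.X (some ⟨i⟩))
    have hy : φ y = W := hXn
    have hx : ∀ i, φ (xx i) = MvPolynomial.X ⟨i⟩ - MvPolynomial.C (s i) * W := fun i => hXs ⟨i⟩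
    have hrel : ∑ i, c (f i) * xx i = 1 := by
      have hr : Ideal.Quotient.mk (Ideal.span {r}) r = 0 :=
        Ideal.Quotient.eq_zero_iff_mem.2 (Ideal.mem_span_singleton_self r)
      simp only [r, map_sub, map_sum, map_mul, map_one, sub_eq_zero] at hr
      exact hr
    refine ⟨⟨CommRingCat.hom_ext hφc.symm⟩, ⟨Limits.PushoutCocone.IsColimit.mk _
      (fun S => CommRingCat.ofHom (MvPolynomial.eval₂Hom S.inl.hom
        fun i => S.inr.hom (xx i.down) + S.inl.hom (s i.down) * S.inr.hom y)) ?_ ?_ ?_⟩⟩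
    · intro S
      exact CommRingCat.hom_ext (RingHom.ext fun a => MvPolynomial.eval₂Hom_C _ _ a)
    · intro S
      have hc : ∀ a, S.inl.hom (ρ a) = S.inr.hom (c a) := fun a =>
        congrArg (fun φ => φ.hom a) S.condition
      set h := MvPolynomial.eval₂Hom S.inl.hom (fun i : ULift.{u} (Fin m) => S.inr.hom (xx i.down) + S.inl.hom (s i.down) * S.inr.hom y)
      have hW : h W = S.inr.hom y := by
        simp only [W, h, map_sub, map_sum, map_mul, map_one, MvPolynomial.eval₂Hom_C, MvPolynomial.eval₂Hom_X',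
          mul_add, Finset.sum_add_distrib]
        rw [show ∑ i, S.inl.hom (ρ (f i)) * S.inr.hom (xx i) = 1 by
            simp only [hc, ← map_mul, ← map_sum, hrel, map_one],
          show ∑ i, S.inl.hom (ρ (f i)) * (S.inl.hom (s i) * S.inr.hom y) = S.inr.hom y by
            rw [show (∑ i, S.inl.hom (ρ (f i)) * (S.inl.hom (s i) * S.inr.hom y)) =
                S.inl.hom (∑ i, s i * ρ (f i)) * S.inr.hom y by
              rw [map_sum, Finset.sum_mul]
              exact Finset.sum_congr rfl fun i _ => by rw [map_mul]; ring, hs, map_one, one_mul]]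
        ring
      refine CommRingCat.hom_ext (Ideal.Quotient.ringHom_ext (MvPolynomial.ringHom_ext (fun a => ?_) fun o => ?_))
      · show h (φ₀ (MvPolynomial.C a)) = S.inr.hom (c a)
        rw [hC, ← hc]
        exact MvPolynomial.eval₂Hom_C _ _ _
      · rcases o with _ | ⟨⟨i⟩⟩
        · show h (φ y) = S.inr.hom y
          rw [hy, hW]
        · show h (φ (xx i)) = S.inr.hom (xx i)
          rw [hx, map_sub, map_mul, hW]
          simp [h]
    · intro S k hk1 hk2
      refine CommRingCat.hom_ext (MvPolynomial.ringHom_ext (fun a => ?_) fun i => ?_)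
      · have := congrArg (fun φ => φ.hom a) hk1
        simpa using this
      · have e : MvPolynomial.X i = φ (xx i.down) + MvPolynomial.C (s i.down) * φ y := by
          rw [hx, hy]; ring
        have e1 := congrArg (fun φ => φ.hom (xx i.down)) hk2
        have e2 := congrArg (fun φ => φ.hom (s i.down)) hk1
        have e3 := congrArg (fun φ => φ.hom y) hk2
        simp only [CommRingCat.hom_comp, RingHom.comp_apply, CommRingCat.hom_ofHom] at e1 e2 e3
        rw [e, map_add, map_mul, e1, e2, e3, ← e]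
        simp
  have h1 := isPullback_SpecMap_of_isPushout _ _ _ _ hpush
  let ε : 𝔸(ULift.{u} (Fin m); X') ≅ Spec (CommRingCat.of R) := AffineSpace.isoOfIsAffine _ _
  have hε : (𝔸(ULift.{u} (Fin m); X') ↘ X') ≫ X'.isoSpec.hom =
      ε.hom ≫ Spec.map (CommRingCat.ofHom MvPolynomial.C) := by
    rw [← cancel_epi ε.inv, ε.inv_hom_id_assoc, ← Category.assoc, AffineSpace.isoOfIsAffine_inv_over,
      Category.assoc, X'.isoSpec.inv_hom_id, Category.comp_id]
  have h2 : IsPullback (𝔸(ULift.{u} (Fin m); X') ↘ X') (ε.hom ≫ Spec.map (CommRingCat.ofHom φ)) g p := by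
    have h3 : IsPullback (𝔸(ULift.{u} (Fin m); X') ↘ X') (ε.hom ≫ Spec.map (CommRingCat.ofHom φ))
        (g ≫ X.toSpecΓ) (p ≫ X.toSpecΓ) := by
      rw [hg, hp]
      exact IsPullback.of_iso h1 ε.symm X'.isoSpec.symm (Iso.refl _) (Iso.refl _)
        (by simp [← cancel_mono X'.isoSpec.hom, hε]) (by simp) (by simp) (by simp [q])
    have w : (𝔸(ULift.{u} (Fin m); X') ↘ X') ≫ g = (ε.hom ≫ Spec.map (CommRingCat.ofHom φ)) ≫ p := by
      rw [← cancel_mono X.toSpecΓ, Category.assoc, h3.w, Category.assoc, Category.assoc, Category.assoc]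
    refine ⟨⟨w⟩, ⟨Limits.PullbackCone.IsLimit.mk _
      (fun S => h3.lift S.fst S.snd (by rw [← Category.assoc, S.condition, Category.assoc]))
      (fun S => h3.lift_fst _ _ _) (fun S => h3.lift_snd _ _ _)
      (fun S k hk1 hk2 => h3.hom_ext (by rw [h3.lift_fst]; exact hk1) (by rw [h3.lift_snd]; exact hk2))⟩⟩
  exact ⟨h2.isoPullback.symm, h2.isoPullback_inv_fst⟩

end Groth.Agent.S9803
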