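import Groth.Statements.S9809
import Groth.Agent.S0537
import Groth.Agent.S0539
import Groth.Agent.S0540
import Groth.Agent.S0736
import Groth.Agent.S2135
import Groth.Agent.S7127
import Groth.Agent.S12237
import Groth.Agent.WEStrict.Basic
import Groth.Agent.WEtLib.Stalks
import Groth.Agent.Hensel.HenselizationDescent
import Groth.Agent.NodeLib.NormalFamily

set_option autoImplicit false
universe u
open CategoryTheory AlgebraicGeometry TopologicalSpace
open Props

namespace Groth.Agent.S9809

open IsLocalRing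

variable {X : Scheme.{u}}

theorem exists_proper_generization {x : X} (hx : closure ({x} : Set X) ∉ irreducibleComponents X) :
    ∃ y : X, y ⤳ x ∧ y ≠ x := by
  by_contra hcon
  push Not at hcon
  refine hx ⟨isIrreducible_singleton.closure, fun t ht hle => ?_⟩
  obtain ⟨η, hη⟩ := QuasiSober.sober ht.closure isClosed_closure
  have h1 : η ⤳ x := hη.specializes (subset_closure (hle (subset_closure rfl)))
  have h2 : closure ({η} : Set X) = closure t := hη.def
  rw [hcon η h1] at h2
  exact h2 ▸ subset_closure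

theorem mem_components_of_forall {x : X} (hx : closure ({x} : Set X) ∈ irreducibleComponents X) {y : X}
    (hy : y ⤳ x) : y = x := by
  have h1 : closure ({x} : Set X) ⊆ closure {y} := specializes_iff_closure_subset.mp hy
  have h2 := hx.2 isIrreducible_singleton.closure h1
  exact ((inseparable_iff_specializes_and.2 ⟨hy, specializes_iff_closure_subset.mpr h2⟩)).eq

/-- Forward direction. -/
theorem forward [IsLocallyNoetherian X] (x : X) (hu : CAlg2.IsGeomUnibranch (X.presheaf.stalk x))
    (hx : closure ({x} : Set X) ∉ irreducibleComponents X)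
    (Ash : Type u) [CommRing Ash] [IsLocalRing Ash] [Algebra (X.presheaf.stalk x) Ash]
    [IsLocalHom (algebraMap (X.presheaf.stalk x) Ash)]
    [Hensel.IsStrictHenselization (X.presheaf.stalk x) Ash] :
    ConnectedSpace ↥({IsLocalRing.closedPoint Ash}ᶜ : Set (PrimeSpectrum Ash)) := by
  haveI := Groth.Agent.S0539.result (X.presheaf.stalk x) Ash
  obtain ⟨P0, hP0, huniq⟩ := (Groth.Agent.S2135.result (Ash := Ash)).mp hu
  haveI := hP0.1.1
  obtain ⟨y, hy, hne⟩ := exists_proper_generization hx
  have hmem : y ∈ Set.range (X.fromSpecStalk x) := by rw [Scheme.range_fromSpecStalk]; exact hy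
  obtain ⟨P, hP⟩ := hmem
  obtain ⟨Q, hQ⟩ := PrimeSpectrum.comap_surjective_of_faithfullyFlat (A := X.presheaf.stalk x) (B := Ash) P
  have hQm : Q ≠ IsLocalRing.closedPoint Ash := by
    rintro rfl
    rw [IsLocalRing.comap_closedPoint (algebraMap (X.presheaf.stalk x) Ash)] at hQ
    rw [← hQ] at hP
    exact hne (hP.symm.trans Scheme.fromSpecStalk_closedPoint)
  have hmin : ∀ R : PrimeSpectrum Ash, P0 ≤ R.asIdeal := fun R => by
    obtain ⟨M, hM, hMR⟩ := Ideal.exists_minimalPrimes_le (bot_le : ⊥ ≤ R.asIdeal)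
    exact (huniq M hM) ▸ hMR
  have hP0m : (⟨P0, inferInstance⟩ : PrimeSpectrum Ash) ≠ IsLocalRing.closedPoint Ash := by
    intro he
    apply hQm
    apply PrimeSpectrum.ext
    refine le_antisymm (IsLocalRing.le_maximalIdeal Q.2.ne_top) ?_
    rw [← he]; exact hmin Q
  refine Subtype.connectedSpace ⟨⟨⟨P0, inferInstance⟩, hP0m⟩, ?_⟩
  refine isPreconnected_singleton.subset_closure (s := {(⟨P0, inferInstance⟩ : PrimeSpectrum Ash)}) ?_ ?_
  · simpa using Ne.symm hP0m
  · intro R _
    exact (PrimeSpectrum.le_iff_mem_closure _ _).mp (hmin R)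

/-- Induction step of the backward direction. -/
theorem backward [IsLocallyNoetherian X] (x : X)
    (h : closure ({x} : Set X) ∉ irreducibleComponents X →
      ∀ (Ash : Type u) [CommRing Ash] [IsLocalRing Ash] [Algebra (X.presheaf.stalk x) Ash]
        [IsLocalHom (algebraMap (X.presheaf.stalk x) Ash)]
        [Hensel.IsStrictHenselization (X.presheaf.stalk x) Ash],
        ConnectedSpace ↥({IsLocalRing.closedPoint Ash}ᶜ : Set (PrimeSpectrum Ash)))
    (IH : ∀ y : X, (maximalIdeal (X.presheaf.stalk y)).height < (maximalIdeal (X.presheaf.stalk x)).height →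
      CAlg2.IsGeomUnibranch (X.presheaf.stalk y)) :
    CAlg2.IsGeomUnibranch (X.presheaf.stalk x) := by
  classical
  obtain ⟨Ash, _, _, _, _, hAsh⟩ := Groth.Agent.S0537.result (X.presheaf.stalk x)
  haveI := Groth.Agent.S0539.result (X.presheaf.stalk x) Ash
  haveI : IsNoetherianRing Ash := (Groth.Agent.S0540.result (X.presheaf.stalk x) Ash).mp inferInstance
  have hh := Groth.Agent.Hensel.isHenzLike_of_isStrictHenselization (R := X.presheaf.stalk x) (S := Ash)
  rw [Groth.Agent.S2135.result (Ash := Ash)]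
  obtain ⟨P1, hP1, -⟩ := Ideal.exists_minimalPrimes_le (bot_le : ⊥ ≤ maximalIdeal Ash)
  haveI hP1' := hP1.1.1
  refine ⟨P1, hP1, fun P hP => ?_⟩
  haveI hP' := hP.1.1
  by_contra hne
  by_cases hgen : closure ({x} : Set X) ∈ irreducibleComponents X
  · apply hne
    have hall : ∀ R : Ideal Ash, R.IsPrime → R = maximalIdeal Ash := fun R hR => by
      haveI := hR
      refine hh.eq_of_le_of_comap_eq (IsLocalRing.le_maximalIdeal hR.ne_top) ?_
      have h1 : X.fromSpecStalk x (PrimeSpectrum.comap (algebraMap _ Ash) ⟨R, hR⟩) =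
          X.fromSpecStalk x (closedPoint _) := by
        rw [Scheme.fromSpecStalk_closedPoint]
        exact mem_components_of_forall hgen (Groth.Agent.CDiv6.fromSpecStalk_specializes _)
      have h2 := (X.fromSpecStalk x).isEmbedding.injective h1
      rw [← IsLocalRing.comap_closedPoint (algebraMap (X.presheaf.stalk x) Ash)] at h2
      exact congrArg PrimeSpectrum.asIdeal h2
    exact (hall P hP').trans (hall P1 hP1').symm
  haveI := h hgen Ash
  have hs : _root_.IsPreconnected ({IsLocalRing.closedPoint Ash}ᶜ : Set (PrimeSpectrum Ash)) :=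
    (isConnected_iff_connectedSpace.mpr inferInstance).2
  let t : Set (PrimeSpectrum Ash) := PrimeSpectrum.zeroLocus (P1 : Set Ash)
  let t' : Set (PrimeSpectrum Ash) := ⋃ R ∈ minimalPrimes Ash \ {P1}, PrimeSpectrum.zeroLocus (R : Set Ash)
  have ht' : IsClosed t' := ((minimalPrimes.finite_of_isNoetherianRing Ash).subset Set.sdiff_subset).isClosed_biUnion
    fun R _ => PrimeSpectrum.isClosed_zeroLocus _
  have hcov : ({IsLocalRing.closedPoint Ash}ᶜ : Set (PrimeSpectrum Ash)) ⊆ t ∪ t' := fun R _ => by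
    obtain ⟨M, hM, hMR⟩ := Ideal.exists_minimalPrimes_le (bot_le : ⊥ ≤ R.asIdeal)
    by_cases hM1 : M = P1
    · exact Or.inl (fun a ha => hMR (hM1 ▸ ha))
    · exact Or.inr (Set.mem_biUnion ⟨hM, hM1⟩ (fun a ha => hMR ha))
  have hnm : ∀ M ∈ minimalPrimes Ash, M ≠ maximalIdeal Ash := fun M hM he => by
    have h1 : P1 = M := le_antisymm (he ▸ IsLocalRing.le_maximalIdeal hP1'.ne_top)
      (hM.2 hP1.1 (he ▸ IsLocalRing.le_maximalIdeal hP1'.ne_top))
    have h2 : P = M := le_antisymm (he ▸ IsLocalRing.le_maximalIdeal hP'.ne_top)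
      (hM.2 hP.1 (he ▸ IsLocalRing.le_maximalIdeal hP'.ne_top))
    exact hne (h2.trans h1.symm)
  obtain ⟨R, hRs, hR1, hR2⟩ := isPreconnected_closed_iff.mp hs t t' (PrimeSpectrum.isClosed_zeroLocus _) ht' hcov
    ⟨⟨P1, hP1'⟩, fun he => hnm P1 hP1 (congrArg PrimeSpectrum.asIdeal he), fun a ha => ha⟩
    ⟨⟨P, hP'⟩, fun he => hnm P hP (congrArg PrimeSpectrum.asIdeal he),
      Set.mem_biUnion ⟨hP, hne⟩ (fun a ha => ha)⟩
  obtain ⟨M, ⟨hM, hM1⟩, hR2⟩ := Set.mem_iUnion₂.mp hR2
  let Q : Ideal Ash := R.asIdeal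
  haveI : Q.IsPrime := R.2
  let pp : PrimeSpectrum (X.presheaf.stalk x) := PrimeSpectrum.comap (algebraMap _ Ash) R
  have hlt : pp.asIdeal < maximalIdeal (X.presheaf.stalk x) := by
    refine lt_of_le_of_ne (IsLocalRing.le_maximalIdeal pp.2.ne_top) fun he => hRs ?_
    apply PrimeSpectrum.ext
    refine hh.eq_of_le_of_comap_eq (IsLocalRing.le_maximalIdeal R.2.ne_top) ?_
    have h2 := IsLocalRing.comap_closedPoint (algebraMap (X.presheaf.stalk x) Ash)
    exact he.trans (congrArg PrimeSpectrum.asIdeal h2).symm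
  obtain ⟨alg, hloc⟩ := Groth.Agent.NodeLib.exists_stalk_localization x pp
  letI := alg
  haveI := hloc
  let y : X := X.fromSpecStalk x pp
  have hy : CAlg2.IsGeomUnibranch (X.presheaf.stalk y) := by
    refine IH y ?_
    have h1 : ringKrullDim (X.presheaf.stalk y) = pp.asIdeal.height :=
      IsLocalization.AtPrime.ringKrullDim_eq_height pp.asIdeal _
    rw [← IsLocalRing.maximalIdeal_height_eq_ringKrullDim, WithBot.coe_inj] at h1
    rw [h1]
    exact Ideal.height_strict_mono_of_isPrime hlt
  let AQ := Localization.AtPrime Q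
  have hunit : ∀ a : pp.asIdeal.primeCompl, IsUnit (algebraMap (X.presheaf.stalk x) AQ a) := fun a => by
    rw [IsScalarTower.algebraMap_apply (X.presheaf.stalk x) Ash AQ]
    exact IsLocalization.map_units AQ (⟨algebraMap _ Ash (a : X.presheaf.stalk x), a.2⟩ : Q.primeCompl)
  let ψ : X.presheaf.stalk y →+* AQ := IsLocalization.lift hunit
  haveI : IsLocalHom ψ := ⟨fun b hb => by
    obtain ⟨⟨a, s⟩, hb'⟩ := IsLocalization.surj pp.asIdeal.primeCompl b
    have h1 : IsUnit (algebraMap (X.presheaf.stalk x) AQ a) := by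
      have := congrArg ψ hb'
      rw [map_mul, IsLocalization.lift_eq, IsLocalization.lift_eq] at this
      exact this ▸ hb.mul (hunit s)
    rw [IsScalarTower.algebraMap_apply (X.presheaf.stalk x) Ash AQ, IsLocalization.AtPrime.isUnit_to_map_iff AQ Q] at h1
    have h2 : IsUnit (algebraMap (X.presheaf.stalk x) (X.presheaf.stalk y) a) :=
      IsLocalization.map_units _ (⟨a, h1⟩ : pp.asIdeal.primeCompl)
    exact isUnit_of_mul_isUnit_left (hb' ▸ h2)⟩
  letI : Algebra (X.presheaf.stalk y) AQ := ψ.toAlgebra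
  haveI : IsScalarTower (X.presheaf.stalk x) (X.presheaf.stalk y) AQ :=
    IsScalarTower.of_algebraMap_eq' (IsLocalization.lift_comp hunit).symm
  haveI : IsLocalHom (algebraMap (X.presheaf.stalk y) AQ) := ‹IsLocalHom ψ›
  haveI : Algebra.WeaklyEtale (X.presheaf.stalk x) Ash :=
    Groth.Agent.S0736.result _ _ (Groth.Agent.S12237.result (X.presheaf.stalk x) Ash)
  haveI : Algebra.WeaklyEtale Ash AQ := Groth.Agent.WEtLib.weaklyEtale_localization Q.primeCompl
  haveI : Algebra.WeaklyEtale (X.presheaf.stalk x) AQ := Algebra.WeaklyEtale.trans _ Ash AQ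
  haveI : Algebra.WeaklyEtale (X.presheaf.stalk x) (X.presheaf.stalk y) :=
    Groth.Agent.WEtLib.weaklyEtale_localization pp.asIdeal.primeCompl
  haveI : Algebra.WeaklyEtale (X.presheaf.stalk y) AQ :=
    Groth.Agent.S7127.result (X.presheaf.stalk x) (X.presheaf.stalk y) AQ
  obtain ⟨T, _, _, _, _, hT⟩ := Groth.Agent.S0537.result AQ
  letI : Algebra (X.presheaf.stalk y) T := ((algebraMap AQ T).comp ψ).toAlgebra
  haveI : IsScalarTower (X.presheaf.stalk y) AQ T := IsScalarTower.of_algebraMap_eq' rfl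
  haveI : IsLocalHom (algebraMap (X.presheaf.stalk y) T) := RingHom.isLocalHom_comp (algebraMap AQ T) ψ
  haveI := Groth.Agent.WEStrict.isStrictHenselization_comp (X.presheaf.stalk y) AQ T
  haveI := Groth.Agent.S0539.result AQ T
  obtain ⟨T0, hT0, hTu⟩ := (Groth.Agent.S2135.result (Ash := T)).mp hy
  haveI := hT0.1.1
  let q0 : Ideal Ash := (T0.comap (algebraMap AQ T)).comap (algebraMap Ash AQ)
  have hall : ∀ N ∈ minimalPrimes Ash, N ≤ Q → N = q0 := fun N hN hNQ => by
    haveI := hN.1.1
    haveI hNp : (N.map (algebraMap Ash AQ)).IsPrime := IsLocalization.isPrime_of_isPrime_disjoint Q.primeCompl AQ N hN.1.1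
      (Set.disjoint_left.mpr fun a ha hb => ha (hNQ hb))
    obtain ⟨W, hW⟩ := PrimeSpectrum.comap_surjective_of_faithfullyFlat (A := AQ) (B := T) ⟨_, hNp⟩
    obtain ⟨W0, hW0, hle⟩ := Ideal.exists_minimalPrimes_le (bot_le : ⊥ ≤ W.asIdeal)
    rw [hTu W0 hW0] at hle
    have h1 : q0 ≤ N := by
      have h2 : T0.comap (algebraMap AQ T) ≤ N.map (algebraMap Ash AQ) :=
        le_trans (Ideal.comap_mono hle) (le_of_eq (congrArg PrimeSpectrum.asIdeal hW))
      refine le_trans (Ideal.comap_mono h2) (le_of_eq ?_)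
      exact IsLocalization.under_map_of_isPrime_disjoint Q.primeCompl AQ hN.1.1
        (Set.disjoint_left.mpr fun a ha hb => ha (hNQ hb))
    exact le_antisymm (hN.2 ⟨inferInstance, bot_le⟩ h1) h1
  exact hM1 ((hall M hM hR2).trans (hall P1 hP1 hR1).symm)

/-- A Noetherian scheme is geometrically unibranch (all local rings geometrically unibranch) if and only
if at every point which is not the generic point of an irreducible component, the punctured spectrum
of a strict henselization of the local ring is connected. -/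
theorem result
    (X : Scheme.{u}) [IsNoetherian X] :
    (∀ x : X, CAlg2.IsGeomUnibranch (X.presheaf.stalk x)) ↔
      ∀ (x : X), closure ({x} : Set X) ∉ irreducibleComponents X →
        ∀ (Ash : Type u) [CommRing Ash] [IsLocalRing Ash] [Algebra (X.presheaf.stalk x) Ash]
          [IsLocalHom (algebraMap (X.presheaf.stalk x) Ash)]
          [Hensel.IsStrictHenselization (X.presheaf.stalk x) Ash],
          ConnectedSpace ↥({IsLocalRing.closedPoint Ash}ᶜ : Set (PrimeSpectrum Ash)) := by
  refine ⟨fun h x hx Ash _ _ _ _ _ => forward x (h x) hx Ash, fun h x => ?_⟩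
  have key : ∀ n : ℕ, ∀ x : X, (maximalIdeal (X.presheaf.stalk x)).height < n →
      CAlg2.IsGeomUnibranch (X.presheaf.stalk x) := by
    intro n
    induction n with
    | zero => exact fun x hx => absurd hx (by simp)
    | succ n IH =>
      intro x hx
      refine backward x (h x) fun y hy => IH y ?_
      have h1 : (maximalIdeal (X.presheaf.stalk x)).height ≤ n := by
        rw [Nat.cast_add, Nat.cast_one] at hx
        exact (ENat.lt_add_one_iff (ENat.natCast_ne_top n)).mp hx
      exact lt_of_lt_of_le hy h1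
  have hne : (maximalIdeal (X.presheaf.stalk x)).height ≠ ⊤ :=
    Ideal.height_ne_top (Ideal.IsPrime.ne_top inferInstance)
  obtain ⟨m, hm⟩ := ENat.ne_top_iff_exists.mp hne
  exact key (m + 1) x (by rw [← hm]; exact_mod_cast Nat.lt_succ_self m)

end Groth.Agent.S9809
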