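import Groth.Statements.S9820
import Groth.Agent.RGLib.FPExtend
import Mathlib
-- import your own Groth.Agent.* helpers here

set_option autoImplicit false
universe u
open CategoryTheory CategoryTheory.Limits AlgebraicGeometry TopologicalSpace Opposite
open Props
set_option backward.isDefEq.respectTransparency false
set_option backward.isDefEq.respectTransparency.types false
set_option linter.style.haveILetI false
set_option maxHeartbeats 1000000

namespace Groth.Agent.S9820

/-- On a quasi-compact quasi-separated scheme, a quasi-coherent module of finite type which is of finite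
presentation over a quasi-compact open U is the quotient of a module of finite presentation by a
surjection which is an isomorphism over U. -/
theorem result {X : Scheme.{u}} [CompactSpace X]
    [QuasiSeparatedSpace X] (F : X.Modules) [Coh.IsQCoh F] (hF : CohB1.IsFT F) (U : X.Opens)
    (hU : IsCompact (U : Set X)) (hFU : CohB1.IsFP (F.restrict U.ι)) :
    ∃ (G : X.Modules) (φ : G ⟶ F), CohB1.IsFP G ∧ Epi φ ∧
      IsIso ((Scheme.Modules.restrictFunctor U.ι).map φ) := by
  haveI := ‹Coh.IsQCoh F›
  let R := Scheme.Modules.restrictFunctor U.ι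
  haveI : R.IsLeftAdjoint := inferInstanceAs (Scheme.Modules.restrictFunctor U.ι).IsLeftAdjoint
  haveI : R.PreservesZeroMorphisms := inferInstance
  haveI := QCoh.quasiCompact_ι_of_compact U hU
  obtain ⟨P₀, hP₀, hP₀fp, u, hu⟩ := RGLib.FPCover.exists_fp_epi (𝟙 X) (‹Coh.IsQCoh F›) hF
  haveI := hu
  let P := (Scheme.Modules.pullback (𝟙 X)).obj P₀
  have hP : Coh.IsQCoh P := QCoh.isQCoh_pullback _ hP₀
  have hPfp : CohB1.IsFP P := RGLib.Lim8.isFP_pullback _ hP₀ hP₀fp
  haveI : Epi (R.map u) := inferInstance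
  have hRP : Coh.IsQCoh (R.obj P) := QCoh.isQCoh_restrict U.ι hP
  have hRF : Coh.IsQCoh (R.obj F) := QCoh.isQCoh_restrict U.ι ‹Coh.IsQCoh F›
  have hKt : CohB1.IsFT (kernel (R.map u)) :=
    RGLib.Lim8.isFT_kernel_of_epi (R.map u) hRP hRF (QCoh.isFT_of_isFP (RGLib.FPExtend.isFP_restrict U.ι hPfp)) hFU
  have hKq : Coh.IsQCoh (kernel (R.map u)) := QCoh.isQCoh_kernel hRP hRF _
  have hku : Coh.IsQCoh (kernel u) := QCoh.isQCoh_kernel hP ‹Coh.IsQCoh F› u
  obtain ⟨K, k, eK, -, hKq', hKt', hk⟩ :=
    QCoh.exists_extension' hku (QCoh.extStep_qcqs hU) (PreservesKernel.iso R u).inv hKq hKt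
  let m : K ⟶ P := k ≫ kernel.ι u
  have hm : m ≫ u = 0 := by simp [m]
  refine ⟨cokernel m, cokernel.desc m u hm, RGLib.Lim8.isFP_cokernel m hKq' hKt' hP hPfp,
    epi_of_epi_fac (cokernel.π_desc m u hm), ?_⟩
  have hRm : R.map m = eK.hom ≫ kernel.ι (R.map u) := by
    rw [Functor.map_comp, show R.map k = eK.hom ≫ (PreservesKernel.iso R u).inv from hk.symm, Category.assoc]
    simp
  let d := R.map (cokernel.desc m u hm)
  have hd : R.map (cokernel.π m) ≫ d = R.map u := by rw [← R.map_comp, cokernel.π_desc]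
  let g : R.obj F ⟶ R.obj (cokernel m) := Abelian.epiDesc (R.map u) (R.map (cokernel.π m)) (by
    have : kernel.ι (R.map u) = eK.inv ≫ R.map m := by rw [hRm, Iso.inv_hom_id_assoc]
    rw [this, Category.assoc, ← R.map_comp, cokernel.condition, R.map_zero, comp_zero])
  have hg : R.map u ≫ g = R.map (cokernel.π m) := Abelian.comp_epiDesc _ _ _
  exact ⟨g, by rw [← cancel_epi (R.map (cokernel.π m)), reassoc_of% hd, hg, Category.comp_id],
    by rw [← cancel_epi (R.map u), reassoc_of% hg, hd, Category.comp_id]⟩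

end Groth.Agent.S9820
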