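import Groth.Statements.S9835
import Groth.Agent.H1N2.Transfer
import Groth.Agent.S9394

set_option autoImplicit false
universe u
open CategoryTheory AlgebraicGeometry TopologicalSpace
open Props

namespace Groth.Agent.S9835

/-- If an integral scheme has an affine open covering by spectra of Japanese (N-2) domains, then the
coordinate ring of every nonempty affine open is a Japanese domain. -/
theorem result (X : Scheme.{u}) [IsIntegral X] {ι : Type u}
    (U : ι → X.Opens) [∀ i, Nonempty (U i)] (hU : iSup U = ⊤) (haff : ∀ i, IsAffineOpen (U i))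
    (hJ : ∀ i, CAlg.IsN2 Γ(X, U i)) (V : X.Opens) [Nonempty V] (hV : IsAffineOpen V) :
    CAlg.IsN2 Γ(X, V) := by
  classical
  let s : Set Γ(X, V) := {g | ∃ (i : ι) (f : Γ(X, U i)), X.basicOpen f = X.basicOpen g ∧ Nonempty (X.basicOpen g)}
  have hs : Ideal.span s = ⊤ := by
    rw [← hV.self_le_iSup_basicOpen_iff]
    intro x hx
    obtain ⟨i, hi⟩ := Opens.mem_iSup.1 (hU.ge (Opens.mem_top x))
    obtain ⟨f, g, hfg, hxf⟩ := exists_basicOpen_le_affine_inter (haff i) hV x ⟨hi, hx⟩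
    exact Opens.mem_iSup.2 ⟨⟨g, i, f, hfg, ⟨⟨x, hfg ▸ hxf⟩⟩⟩, hfg ▸ hxf⟩
  obtain ⟨t, hts, ht⟩ := (Ideal.span_eq_top_iff_finite s).1 hs
  haveI : ∀ g : t, Nonempty (X.basicOpen (g.1 : Γ(X, V))) := fun g => by
    obtain ⟨i, f, -, h⟩ := hts g.2; exact h
  letI : ∀ g : t, Algebra Γ(X, V) Γ(X, X.basicOpen (g.1 : Γ(X, V))) := fun g =>
    (X.presheaf.map (homOfLE (X.basicOpen_le (g.1 : Γ(X, V)))).op).hom.toAlgebra
  haveI : ∀ g : t, IsLocalization.Away (g.1 : Γ(X, V)) Γ(X, X.basicOpen (g.1 : Γ(X, V))) := fun g =>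
    hV.isLocalization_basicOpen g.1
  refine Groth.Agent.S9394.result Γ(X, V) (fun g : t => (g.1 : Γ(X, V))) ?_
    (fun g : t => Γ(X, X.basicOpen (g.1 : Γ(X, V)))) fun g => ?_
  · rw [Subtype.range_coe_subtype, Finset.setOf_mem]; exact ht
  · obtain ⟨i, f, hfg, hne⟩ := hts g.2
    haveI : Nonempty (X.basicOpen f) := hfg ▸ hne
    letI : Algebra Γ(X, U i) Γ(X, X.basicOpen f) :=
      (X.presheaf.map (homOfLE (X.basicOpen_le f)).op).hom.toAlgebra
    haveI : IsLocalization.Away f Γ(X, X.basicOpen f) := (haff i).isLocalization_basicOpen f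
    have h := Groth.Agent.S9392.result Γ(X, U i) (Submonoid.powers f) Γ(X, X.basicOpen f) (hJ i)
    exact H1N2.isN2_of_ringEquiv (X.presheaf.mapIso (eqToIso hfg.symm).op).commRingCatIsoToRingEquiv h

end Groth.Agent.S9835
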