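import Groth.Statements.S9836
import Groth.Agent.HomO7.Sections
import Groth.Agent.QCoh.Qcqs
import Groth.Agent.QCoh.Localize
import Mathlib.AlgebraicGeometry.Morphisms.FinitePresentation

set_option autoImplicit false
universe u
open CategoryTheory CategoryTheory.Limits AlgebraicGeometry
open Props

namespace Groth.Agent.S9836

open AlgebraicGeometry

set_option backward.isDefEq.respectTransparency false
set_option backward.isDefEq.respectTransparency.types false

variable {Z X : Scheme.{u}} (i : Z ⟶ X) [IsClosedImmersion i] [LocallyOfFinitePresentation i]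

theorem fg_ker_ideal (U : X.affineOpens) : (i.ker.ideal U).FG := by
  rw [Scheme.Hom.ker_apply]
  have hf : (i.app U.1).hom.FinitePresentation := by
    rw [← Scheme.Hom.appLE_eq_app]
    exact HasRingHomProperty.appLE @LocallyOfFinitePresentation i inferInstance U
      ⟨i ⁻¹ᵁ U.1, U.2.preimage i⟩ le_rfl
  letI := (i.app U.1).hom.toAlgebra
  haveI : Algebra.FinitePresentation Γ(X, U.1) Γ(Z, i ⁻¹ᵁ U.1) := hf
  exact Algebra.FinitePresentation.ker_fG_of_surjective (Algebra.ofId Γ(X, U.1) Γ(Z, i ⁻¹ᵁ U.1))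
    (i.app_surjective U.1 U.2)

variable [Dual3.HasHomO i] (F : X.Modules)

theorem isQCoh (hF : Coh.IsQCoh F) : Coh.IsQCoh ((Scheme.Modules.pushforward i).obj ((Dual3.homO i).obj F)) := by
  let P := (Scheme.Modules.pushforward i).obj ((Dual3.homO i).obj F)
  let c : P ⟶ F := (Dual3.homOAdj i).counit.app F
  have hinj : ∀ (U : X.affineOpens) (s : Γ(P, U.1)), c.app U.1 s = 0 → s = 0 :=
    fun U s => (Groth.Agent.HomO7.main i F U).1 s
  have hres : ∀ {U V : X.Opens} (h : V ≤ U) (s : Γ(P, U)),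
      c.app V (P.presheaf.map (homOfLE h).op s) = F.presheaf.map (homOfLE h).op (c.app U s) :=
    fun h s => Groth.Agent.HomO7.app_res c h s
  refine Groth.Agent.QCoh.isQCoh_of_sections (fun U hU f s => ?_) (fun U hU f t ht => ?_)
  · let D : X.Opens := X.basicOpen f
    let ρ := X.presheaf.map (homOfLE (X.basicOpen_le f)).op
    obtain ⟨n, u, hu⟩ := Groth.Agent.QCoh.exists_pow_smul_eq_map hF hU f (c.app D s)
    obtain ⟨T, hT⟩ := fg_ker_ideal i ⟨U, hU⟩
    have hkill : ∀ a ∈ T, ∃ m : ℕ, f ^ m • a • u = 0 := fun a ha => by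
      refine Groth.Agent.QCoh.exists_pow_smul_eq_zero hF hU f _ ?_
      have haD : ρ a ∈ i.ker.ideal ⟨D, hU.basicOpen f⟩ := by
        show ρ a ∈ i.ker.ideal (X.affineBasicOpen (U := ⟨U, hU⟩) f)
        rw [← i.ker.map_ideal_basicOpen ⟨U, hU⟩ f]
        exact Ideal.mem_map_of_mem _ (hT ▸ Ideal.subset_span ha)
      refine (Scheme.Modules.map_smul F (homOfLE (X.basicOpen_le f)) a u).trans ?_
      refine (congrArg (ρ a • ·) hu).trans ?_
      rw [smul_comm]
      exact (congrArg (ρ f ^ n • ·) ((Groth.Agent.HomO7.main i F ⟨D, hU.basicOpen f⟩).2.1 s (ρ a) haD)).trans (smul_zero _)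
    choose! m hm using hkill
    let N := T.sup m
    have hu' : ∀ a ∈ i.ker.ideal ⟨U, hU⟩, a • (f ^ N • u) = 0 := fun a ha => by
      have hle : Ideal.span (T : Set Γ(X, U)) ≤ LinearMap.ker (LinearMap.toSpanSingleton Γ(X, U) Γ(F, U) (f ^ N • u)) :=
        Ideal.span_le.2 fun b hb => by
          show b • (f ^ N • u) = 0
          obtain ⟨k, hk⟩ := Nat.exists_eq_add_of_le (Finset.le_sup (f := m) hb)
          rw [show N = m b + k from hk, add_comm, pow_add, mul_smul, smul_comm b, smul_comm b, hm b hb, smul_zero]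
      exact hle (hT.symm ▸ ha)
    obtain ⟨t, ht⟩ := (Groth.Agent.HomO7.main i F ⟨U, hU⟩).2.2 (f ^ N • u) hu'
    refine ⟨N + n, t, sub_eq_zero.1 (hinj ⟨D, hU.basicOpen f⟩ _ ?_)⟩
    refine (map_sub (c.app D).hom _ _).trans ?_
    erw [hres, Scheme.Modules.Hom.app_smul, ht]
    refine sub_eq_zero.2 ((Scheme.Modules.map_smul F (homOfLE (X.basicOpen_le f)) (f ^ N) u).trans ?_)
    refine (congrArg (ρ (f ^ N) • ·) hu).trans ?_
    rw [map_pow, smul_smul, ← pow_add]
  · have h0 : F.presheaf.map (homOfLE (X.basicOpen_le f)).op (c.app U t) = 0 := by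
      rw [← hres, ht]
      exact map_zero _
    obtain ⟨n, hn⟩ := Groth.Agent.QCoh.exists_pow_smul_eq_zero hF hU f _ h0
    exact ⟨n, hinj ⟨U, hU⟩ _ ((Scheme.Modules.Hom.app_smul c (f ^ n) t).trans hn)⟩

/-- For a closed immersion i : Z → X with ideal sheaf of finite type and a quasi-coherent O_X-module F,
the subsheaf of sections of F annihilated by the ideal, namely i_* Hom(O_Z, F) for the right adjoint
Hom(O_Z, -) of i_*, is a quasi-coherent O_X-module. -/
theorem result {Z X : Scheme.{u}} (i : Z ⟶ X)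
    [IsClosedImmersion i] [LocallyOfFinitePresentation i] [Dual3.HasHomO i] (F : X.Modules) [Coh.IsQCoh F] :
    Coh.IsQCoh ((Scheme.Modules.pushforward i).obj ((Dual3.homO i).obj F)) := by
  exact isQCoh i F inferInstance

end Groth.Agent.S9836
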