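import Groth.Statements.S9849
import Groth.Agent.RegImmLib.EtDescent
set_option backward.isDefEq.respectTransparency false

set_option autoImplicit false
open CategoryTheory CategoryTheory.Limits AlgebraicGeometry Opposite
universe u
open RegImm

namespace Groth.Agent.S9849

open Groth.Agent.RegImmLib Groth.Agent.KRegLib in
theorem descend {Z X X' Z' : Scheme.{u}} (k : RegImm.Kind) (hk : k ≠ .regular) (i : Z ⟶ X)
    [IsImmersion i] (g : X' ⟶ X) [Flat g] [Surjective g] [QuasiCompact g]
    (i' : Z' ⟶ X') (g' : Z' ⟶ Z) (hsq : IsPullback g' i' i g)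
    (hi' : RegImm.IsRegularImmersion k i') : RegImm.IsRegularImmersion k i := by
  refine ⟨inferInstance, fun z => ?_⟩
  obtain ⟨U, hU, hzU, -, hci⟩ := exists_affine_isClosedImmersion_restrict i z ⊤ trivial
  haveI := hci
  let O : X'.Opens := g ⁻¹ᵁ U
  have hOc : IsCompact (O : Set X') := QuasiCompact.isCompact_preimage (f := g) U U.2 hU.isCompact
  have hOU : O ≤ g ⁻¹ᵁ U := le_rfl
  haveI : CompactSpace (O : X'.Opens) := isCompact_iff_compactSpace.1 hOc
  obtain ⟨W, p, hp, hpl, hW⟩ := O.toScheme.exists_hom_isAffine_of_isZariskiLocalAtSource @IsLocalIso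
  haveI := hW
  haveI : Flat p := (IsLocalIso.le_of_isZariskiLocalAtSource @Flat) _ _ p hpl
  let q : W ⟶ X' := p ≫ O.ι
  let Z'' := Limits.pullback i' q
  let i'' : Z'' ⟶ W := Limits.pullback.snd i' q
  have hsq'' : IsPullback (Limits.pullback.fst i' q ≫ g') i'' i (q ≫ g) :=
    (IsPullback.of_hasPullback i' q).paste_horiz hsq
  have hle : (⊤ : W.Opens) ≤ (q ≫ g) ⁻¹ᵁ U := fun w _ => hOU (p w).2
  have hi'' : RegImm.IsRegularImmersion k i'' :=
    ⟨MorphismProperty.of_isPullback (P := @IsImmersion) (IsPullback.of_hasPullback i' q) hi'.1, fun z' =>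
      isRegularImmersionAt_baseChange (IsPullback.of_hasPullback i' q) k z' (hi'.2 _)⟩
  obtain ⟨hUY, hUs⟩ := Synt29.surjective_app_of_isClosedImmersion_restrict i U hU
  have hWtop : IsAffineOpen (⊤ : W.Opens) := isAffineOpen_top W
  have hUY' : i'' ⁻¹ᵁ ⊤ = (Limits.pullback.fst i' q ≫ g') ⁻¹ᵁ (i ⁻¹ᵁ U) ⊓ i'' ⁻¹ᵁ ⊤ := by
    refine (inf_eq_right.2 fun y hy => ?_).symm
    show i ((Limits.pullback.fst i' q ≫ g') y) ∈ U
    have h1 : i ((Limits.pullback.fst i' q ≫ g') y) = (q ≫ g) (i'' y) :=
      congrArg (fun φ : Z'' ⟶ X => φ y) hsq''.w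
    rw [h1]
    exact hle hy
  have hpo := (isIso_pushoutSection_iff hsq'' hle le_rfl hUY').1
    (isIso_pushoutSection_of_isAffineOpen hsq'' hle le_rfl hUY' hU hWtop hUY)
  have hs : Function.Surjective (i.appLE U (i ⁻¹ᵁ U) le_rfl) := by
    rw [← Scheme.Hom.app_eq_appLE]
    exact hUs
  have hk' := ker_of_isPushout hpo hs
  rw [← Scheme.Hom.app_eq_appLE, ← Scheme.Hom.app_eq_appLE] at hk'
  letI : Algebra Γ(X, U) Γ(W, ⊤) := ((q ≫ g).appLE U ⊤ hle).hom.toAlgebra
  haveI : Module.FaithfullyFlat Γ(X, U) Γ(W, ⊤) := by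
    haveI hflat : Module.Flat Γ(X, U) Γ(W, ⊤) := (q ≫ g).flat_appLE hU hWtop hle
    refine RingHom.FaithfullyFlat.iff_flat_and_comap_surjective.2 ⟨hflat, fun P => ?_⟩
    have hPU : hU.fromSpec P ∈ U := by
      have h0 : hU.fromSpec P ∈ Set.range hU.fromSpec := ⟨P, rfl⟩
      rwa [hU.range_fromSpec] at h0
    obtain ⟨x', hx'⟩ := g.surjective (hU.fromSpec P)
    have hxO : x' ∈ O := show g x' ∈ U by rw [hx']; exact hPU
    haveI := hp
    obtain ⟨w, hw⟩ := p.surjective ⟨x', hxO⟩
    refine ⟨hWtop.primeIdealOf ⟨w, trivial⟩, hU.fromSpec.isOpenEmbedding.injective ?_⟩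
    show (Spec.map ((q ≫ g).appLE U ⊤ hle) ≫ hU.fromSpec) _ = _
    rw [IsAffineOpen.SpecMap_appLE_fromSpec (q ≫ g) hU hWtop hle]
    show (q ≫ g) (hWtop.fromSpec _) = _
    rw [hWtop.fromSpec_primeIdealOf]
    show g (O.ι (p w)) = _
    rw [hw]
    exact hx'
  haveI : IsClosedImmersion (i'' ∣_ ⊤) := by
    have h2 := Scheme.Hom.isPullback_resLE hsq'' hle le_rfl hUY'
    have h3 : IsClosedImmersion (i.resLE U (i ⁻¹ᵁ U) le_rfl) := by
      rw [Scheme.Hom.resLE_eq_morphismRestrict]
      exact hci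
    rw [← Scheme.Hom.resLE_eq_morphismRestrict]
    exact MorphismProperty.of_isPullback (P := @IsClosedImmersion) h2 h3
  exact regImmAt_of_locSeq k hk i z hU hzU
    (locSeq_of_faithfullyFlat (S := Γ(W, ⊤)) k hk _ (hk' ▸ locSeq_ker k hk i'' hi'' hWtop))

/-- Being a Koszul-regular, H_1-regular or quasi-regular immersion is fpqc local on the base; the
descent direction for a single flat surjective quasi-compact base change g : X' ⟶ X: if i : Z ⟶ X is
an immersion whose base change Z ×_X X' ⟶ X' is a regular immersion of kind k (k Koszul, H_1 or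
quasi, not the plain regular-sequence kind), then i is a regular immersion of kind k. (This row
assumes from the start that i is an immersion and descends only the regularity of the defining
ideal; descent of the immersion property itself along such a base change is known for quasi-compact
immersions and is not asserted here.) -/
theorem result {Z X X' : Scheme.{u}} (i : Z ⟶ X) [IsImmersion i] (g : X' ⟶ X)
    [Flat g] [Surjective g] [QuasiCompact g] (k : RegImm.Kind) (hk : k ≠ RegImm.Kind.regular)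
    (h : RegImm.IsRegularImmersion k (pullback.snd i g)) :
    RegImm.IsRegularImmersion k i := by
  exact descend k hk i g _ _ (IsPullback.of_hasPullback i g) h

end Groth.Agent.S9849
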