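import Groth.Statements.S9894
import Groth.Agent.AlgSpDec.ChartEffDescent

set_option autoImplicit false
universe u
open CategoryTheory CategoryTheory.Limits AlgebraicGeometry
open AlgSp

namespace Groth.Agent.S9894

set_option backward.isDefEq.respectTransparency false
set_option backward.isDefEq.respectTransparency.types false

/-- Let `P` be a property of morphisms of schemes which is stable under base change, fppf local on the
base, and such that morphisms of type `P` satisfy descent: for every surjective, flat, locally
finitely presented `p : X' ⟶ S'` every descent datum relative to `p` whose scheme has structure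
morphism in `P` is effective (descent is asked along single fppf covers, the case the argument
uses). Let `F` be an algebraic space over `S`, `G` an fppf sheaf of sets with a map `f : G ⟶ F`, and
`q : h_U ⟶ F` representable etale and surjective such that the base change of `f` along `q` is
represented by a scheme `V` over `S` with `g : V ⟶ U` having `P`. Then `G` is an algebraic space
over `S` and `f` is representable by schemes with property `P`. -/
theorem result (S : Scheme.{u}) (P : MorphismProperty Scheme.{u})
    [P.IsStableUnderBaseChange] [P.IsLocalAtTarget Scheme.fppfPrecoverage]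
    (hdesc : ∀ ⦃X' S' : Scheme.{u}⦄ (p : X' ⟶ S'), Surjective p → Flat p → LocallyOfFinitePresentation p →
      ∀ D : Desc.SchDD p, P D.obj.hom → (Desc.toDD p).essImage D)
    (F : AlgSp.Space S) (G : AlgSp.Sp S) (f : G ⟶ F.obj) {U V : Over S} (q : (AlgSp.yon S).obj U ⟶ F.obj)
    (hqe : AlgSp.RepWith @Etale q) (hqs : AlgSp.RepWith @Surjective q) (fst : (AlgSp.yon S).obj V ⟶ G)
    (g : V ⟶ U) (sq : IsPullback fst ((AlgSp.yon S).map g) f q) (hP : P g.left) :
    AlgSp.IsAlgSpace G ∧ AlgSp.RepWith P f := by
  have hPi : P.RespectsIso := MorphismProperty.IsStableUnderBaseChange.respectsIso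
  have key : ∀ ⦃T : Over S⦄ (a : (AlgSp.yon S).obj T ⟶ F.obj), ∃ (Y : Over S) (φ : (AlgSp.yon S).obj Y ⟶ G)
      (u : Y ⟶ T), IsPullback φ ((AlgSp.yon S).map u) f a ∧ P u.left := by
    intro T a
    have hc₁ : Etale (hqe.rep.snd a).left := hqe.property_snd a
    have hc₂ : Surjective (hqe.rep.snd a).left := hqs.property_snd a
    obtain ⟨t, ht⟩ := (AlgSp.yon S).map_surjective (hqe.rep.fst a)
    have sq' := ((IsPullback.of_hasPullback g t).map (AlgSp.yon S)).paste_horiz sq
    rw [ht, hqe.rep.w a] at sq'
    have hq' : P (pullback.snd g t).left :=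
      MorphismProperty.of_isPullback ((IsPullback.of_hasPullback g t).map (Over.forget S)) hP
    obtain ⟨Y, φ, u, r, h₁, h₂⟩ := Groth.Agent.AlgSpDec.EffDesc.exists_rep sq'
      (hdesc (hqe.rep.snd a).left hc₂ inferInstance inferInstance (Groth.Agent.AlgSpDec.EffDesc.dd sq') hq')
    refine ⟨Y, φ, u, h₁, ?_⟩
    refine MorphismProperty.IsLocalAtTarget.of_forall_pullbackSnd (K := Scheme.fppfPrecoverage)
      (Scheme.Hom.singleton_mem_fppfPrecoverage (hqe.rep.snd a).left) fun {U' g'} _ hg' => ?_
    obtain ⟨⟩ := hg'
    exact (P.cancel_left_of_respectsIso h₂.isoPullback.hom _).1 (by rw [IsPullback.isoPullback_hom_snd]; exact hq')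
  have hrep : AlgSp.RepWith P f := Groth.Agent.AlgSpLib.repWith_of_squares fun T a => key a
  exact ⟨Groth.Agent.AlgSpLib.isAlgSpace_of_representable f hrep.rep F.property, hrep⟩

end Groth.Agent.S9894
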