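import Groth.Statements.S9895
import Groth.Agent.AlgSpDec.DistQuot
import Groth.Agent.AlgSpVal.DvrExt
import Groth.Agent.AlgSpDec.MonoPoint

set_option autoImplicit false
universe u
open CategoryTheory CategoryTheory.Limits AlgebraicGeometry
open AlgSp

namespace Groth.Agent.S9895

set_option backward.isDefEq.respectTransparency false
set_option backward.isDefEq.respectTransparency.types false

open Groth.Agent.AlgSpLib Groth.Agent.AlgSpPts Groth.Agent.AlgSpDec


/-- Let a group `G` act freely (no non-identity element fixes a point together with its residue field)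
by `S`-automorphisms on a scheme `U` over `S`, let `s, t : R = ∐_{g ∈ G} U ⟶ U` be the identity and
the action, and let `ξ : h_{Spec k} ⟶ U/R` be a morphism from the spectrum of a field `k` over `S`
to the quotient sheaf. Then one can find a finite Galois extension `k'/k` together with a finite
subgroup `H ⊆ G`, a group isomorphism `e : H ≅ Gal(k'/k)` and a morphism `x' : Spec k' ⟶ U` over `S`
which is `H`-equivariant (with `h ∈ H` acting on `Spec k'` through `Spec` of `(e h)⁻¹`) and whose
composite with `U ⟶ U/R` is the restriction of `ξ` to `Spec k'`. (The published statement also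
asserts that such data determine a morphism from `Spec k` to the quotient; this row states only the
direction above.) -/
theorem result (S : Scheme.{u}) (U : Over S) (G : Type u) [Group G]
    (ρ : G →* Aut U)
    (hfree : ∀ (g : G) (x : U.left), g ≠ 1 →
      U.left.fromSpecResidueField x ≫ (ρ g).hom.left ≠ U.left.fromSpecResidueField x)
    (c : Cofan (fun _ : G => U)) (hc : IsColimit c) (s t : c.pt ⟶ U)
    (hs : ∀ g, c.inj g ≫ s = 𝟙 U) (ht : ∀ g, c.inj g ≫ t = (ρ g).hom)
    (k : Type u) [Field k] (σ : Spec (CommRingCat.of k) ⟶ S)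
    (ξ : (AlgSp.yon S).obj (Over.mk σ) ⟶ QuotSh.quot Scheme.fppfPrecoverage s t) :
    ∃ (k' : Type u) (_ : Field k') (_ : Algebra k k') (_ : FiniteDimensional k k') (_ : IsGalois k k')
      (H : Subgroup G) (_ : Finite H) (e : H ≃* (k' ≃ₐ[k] k'))
      (x' : Over.mk (Spec.map (CommRingCat.ofHom (algebraMap k k')) ≫ σ) ⟶ U),
      (∀ h : H, Spec.map (CommRingCat.ofHom (e h).symm.toRingEquiv.toRingHom) ≫ x'.left =
        x'.left ≫ (ρ (h : G)).hom.left) ∧
      (AlgSp.yon S).map x' ≫ (QuotSh.repIsoUliftYoneda Scheme.fppfPrecoverage U).inv ≫ QuotSh.quotπ Scheme.fppfPrecoverage s t =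
        (AlgSp.yon S).map (Over.homMk (Spec.map (CommRingCat.ofHom (algebraMap k k'))) :
          Over.mk (Spec.map (CommRingCat.ofHom (algebraMap k k')) ≫ σ) ⟶ Over.mk σ) ≫ ξ := by
  have H₀ := FreeAction.isEtaleEqvRel hfree hc hs ht
  haveI := H₀.etale_left
  haveI := H₀.etale_right
  haveI : Surjective s.left := ⟨fun u => ⟨(c.inj 1).left u, by
    rw [← Scheme.Hom.comp_apply, ← Over.comp_left, hs]; rfl⟩⟩
  haveI : Sheaf.IsLocallySurjective (quotMap s t) := by
    have : Epi (QuotSh.quotπ Scheme.fppfPrecoverage s t) := by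
      unfold QuotSh.quotπ
      infer_instance
    exact (CategoryTheory.Sheaf.isLocallySurjective_iff_epi (quotMap s t)).2 (epi_comp _ _)
  have sq := isPullback_quotMap H₀.toIsEqvRel
  have hrep : Representable (quotMap s t) := representable_of_kernelPair sq
  haveI := isLocalAtTarget_fppf (@Etale : MorphismProperty Scheme.{u})
  haveI := isLocalAtTarget_fppf (@Surjective : MorphismProperty Scheme.{u})
  have he : RepWith @Etale (quotMap s t) :=
    repWith_of_locallySurjective hrep _ sq @Etale ((repWith_yon_map_iff _ _).2 ‹Etale s.left›)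
  have hsj : RepWith @Surjective (quotMap s t) :=
    repWith_of_locallySurjective hrep _ sq @Surjective ((repWith_yon_map_iff _ _).2 ‹Surjective s.left›)
  -- the fibre over the point
  let T : Over S := he.rep.pullback ξ
  let f : T ⟶ U := he.rep.fst' ξ
  let pk : T ⟶ Over.mk σ := he.rep.snd ξ
  have sqT : IsPullback ((yon S).map f) ((yon S).map pk) (quotMap s t) ξ := he.rep.isPullback' ξ
  haveI : Etale pk.left := he.property_snd ξ
  haveI : Surjective pk.left := hsj.property _ _ _ (he.rep.isPullback ξ)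
  obtain ⟨z, -⟩ := pk.left.surjective (IsLocalRing.closedPoint k)
  obtain ⟨ψ, hψ⟩ := Spec.map_surjective (T.left.fromSpecResidueField z ≫ pk.left)
  letI := ψ.hom.toAlgebra
  obtain ⟨_, _⟩ := AlgSpVal.finite_separable_of_etale pk.left z ψ hψ
  let L := ↥(T.left.residueField z)
  let P : Over S := Over.mk (Spec.map (CommRingCat.ofHom (algebraMap k L)) ≫ σ)
  let eP : P ⟶ Over.mk σ := Over.homMk (Spec.map (CommRingCat.ofHom (algebraMap k L))) rfl
  have hψ' : Spec.map (CommRingCat.ofHom (algebraMap k L)) = T.left.fromSpecResidueField z ≫ pk.left := hψ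
  let w : P ⟶ T := Over.homMk (T.left.fromSpecResidueField z) (by
    show T.left.fromSpecResidueField z ≫ T.hom = Spec.map _ ≫ σ
    rw [hψ', Category.assoc]
    exact congrArg (T.left.fromSpecResidueField z ≫ ·) (Over.w pk).symm)
  have hwe : w ≫ pk = eP := Over.OverMorphism.ext hψ'.symm
  let x' : P ⟶ U := w ≫ f
  have hrel : (yon S).map x' ≫ quotMap s t = (yon S).map eP ≫ ξ := by
    rw [← hwe, Functor.map_comp, Functor.map_comp, Category.assoc, Category.assoc, sqT.w]
  -- the action on the fibre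
  have hρ : ∀ g : G, (yon S).map (ρ g).hom ≫ quotMap s t = quotMap s t := fun g => by
    rw [← ht g, Functor.map_comp, Category.assoc, sq.w, ← Category.assoc, ← Functor.map_comp, hs g,
      CategoryTheory.Functor.map_id, Category.id_comp]
  have hα : ∀ g : G, ∃ α : T ⟶ T, α ≫ f = f ≫ (ρ g).hom ∧ α ≫ pk = pk := fun g => by
    obtain ⟨l, hl₁, hl₂⟩ := sqT.exists_lift ((yon S).map (f ≫ (ρ g).hom)) ((yon S).map pk)
      (by rw [Functor.map_comp, Category.assoc, hρ, sqT.w])
    obtain ⟨α, rfl⟩ := (yon S).map_surjective l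
    exact ⟨α, (yon S).map_injective (by rw [Functor.map_comp, hl₁]),
      (yon S).map_injective (by rw [Functor.map_comp, hl₂])⟩
  -- field-valued lifts of the point differ by the action
  let Ω := AlgebraicClosure k
  let strΩ : Spec (CommRingCat.of Ω) ⟶ S := Spec.map (CommRingCat.ofHom (algebraMap k Ω)) ≫ σ
  let pt : (L →ₐ[k] Ω) → (Over.mk strΩ ⟶ P) := fun θ => Over.homMk (Spec.map (CommRingCat.ofHom (θ : L →+* Ω))) (by
    show Spec.map _ ≫ Spec.map _ ≫ σ = strΩ
    rw [← Spec.map_comp_assoc]
    congr 2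
    ext r
    exact θ.commutes r)
  have hpt : ∀ θ θ', pt θ ≫ eP = pt θ' ≫ eP := fun θ θ' => Over.OverMorphism.ext (by
    show Spec.map _ ≫ Spec.map _ = Spec.map _ ≫ Spec.map _
    rw [← Spec.map_comp, ← Spec.map_comp]
    congr 1
    ext r
    exact (θ.commutes r).trans (θ'.commutes r).symm)
  have hdiff : ∀ θ θ', ∃ g : G, pt θ ≫ x' = pt θ' ≫ x' ≫ (ρ g).hom := fun θ θ' => by
    obtain ⟨l, hl₁, hl₂⟩ := sq.exists_lift ((yon S).map (pt θ ≫ x')) ((yon S).map (pt θ' ≫ x')) (by
      rw [(yon S).map_comp (pt θ) x', (yon S).map_comp (pt θ') x', Category.assoc, Category.assoc, hrel, ← Category.assoc,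
        ← Category.assoc, ← Functor.map_comp, ← Functor.map_comp, hpt θ θ'])
    obtain ⟨r, rfl⟩ := (yon S).map_surjective l
    rw [← Functor.map_comp] at hl₁ hl₂
    replace hl₁ := (yon S).map_injective hl₁
    replace hl₂ := (yon S).map_injective hl₂
    obtain ⟨g, v, hv⟩ := FreeAction.exists_inj hc (r.left (IsLocalRing.closedPoint Ω))
    haveI := FreeAction.isOpenImmersion_inj hc g
    have hsub : Set.range r.left ⊆ Set.range (c.inj g).left := by
      rintro _ ⟨p, rfl⟩
      exact ⟨v, hv.trans (congrArg r.left (Subsingleton.elim (α := PrimeSpectrum Ω) _ _))⟩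
    let y : Over.mk strΩ ⟶ U := Over.homMk (IsOpenImmersion.lift (c.inj g).left r.left hsub) (by
      show _ ≫ U.hom = strΩ
      rw [← Over.w (c.inj g), IsOpenImmersion.lift_fac_assoc]
      exact Over.w r)
    have hy : y ≫ c.inj g = r := Over.OverMorphism.ext (IsOpenImmersion.lift_fac _ _ _)
    rw [← hy, Category.assoc, hs, Category.comp_id] at hl₂
    rw [← hy, Category.assoc, ht, hl₂] at hl₁
    exact ⟨g, by rw [← hl₁, Category.assoc]⟩
  have hmapinj : ∀ θ θ' : L →ₐ[k] Ω, pt θ ≫ w = pt θ' ≫ w → θ = θ' := fun θ θ' h => by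
    have h' := congrArg CommaMorphism.left h
    change Spec.map _ ≫ T.left.fromSpecResidueField z = Spec.map _ ≫ T.left.fromSpecResidueField z at h'
    rw [cancel_mono] at h'
    exact AlgHom.ext fun r => congrArg (fun m => m.hom r) (Spec.map_injective h')
  -- every embedding is a twist of a given one
  let ι₀ : L →ₐ[k] Ω := IsAlgClosed.lift
  have htw : ∀ θ : L →ₐ[k] Ω, ∃ φ : L ≃ₐ[k] L, θ = ι₀.comp (φ : L →ₐ[k] L) := fun θ => by
    obtain ⟨g, hg⟩ := hdiff θ ι₀
    obtain ⟨α, hα₁, hα₂⟩ := hα g
    have hw : pt θ ≫ w = pt ι₀ ≫ w ≫ α := by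
      apply (yon S).map_injective
      refine sqT.hom_ext ?_ ?_
      · rw [← Functor.map_comp, ← Functor.map_comp]
        congr 1
        simp only [Category.assoc, hα₁]
        simpa [x', Category.assoc] using hg
      · rw [← Functor.map_comp, ← Functor.map_comp]
        congr 1
        simp only [Category.assoc, hα₂, hwe]
        exact hpt θ ι₀
    haveI : IsReduced P.left := inferInstanceAs (IsReduced (Spec (CommRingCat.of L)))
    obtain ⟨l, hl⟩ := exists_factor_residueField (w ≫ α).left z (fun p => by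
      have h1 : (pt θ ≫ w).left (IsLocalRing.closedPoint Ω) = z := by
        rw [Over.comp_left, Scheme.Hom.comp_apply]
        exact Scheme.fromSpecResidueField_apply _ _
      rw [hw, Over.comp_left, Scheme.Hom.comp_apply] at h1
      exact (congrArg (w ≫ α).left (Subsingleton.elim (α := PrimeSpectrum L) _ _)).trans h1)
    obtain ⟨φ₀, rfl⟩ := Spec.map_surjective l
    have hφ₀ : ∀ r : k, φ₀.hom (algebraMap k L r) = algebraMap k L r := fun r => by
      have h1 : (w ≫ α) ≫ pk = eP := by rw [Category.assoc, hα₂, hwe]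
      have h2 := congrArg CommaMorphism.left h1
      change (w ≫ α).left ≫ pk.left = Spec.map _ at h2
      rw [← hl, Category.assoc, ← hψ', ← Spec.map_comp] at h2
      exact congrArg (fun m => m.hom r) (Spec.map_injective h2)
    let φ₁ : L →ₐ[k] L := { φ₀.hom with commutes' := hφ₀ }
    refine ⟨AlgEquiv.ofBijective φ₁ (Algebra.IsAlgebraic.algHom_bijective φ₁), hmapinj _ _ ?_⟩
    rw [hw]
    apply Over.OverMorphism.ext
    show Spec.map _ ≫ (w ≫ α).left = Spec.map _ ≫ T.left.fromSpecResidueField z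
    rw [← hl, ← Spec.map_comp_assoc]
    rfl
  haveI : IsGalois k L := by
    refine IsGalois.of_card_aut_eq_finrank k L ?_
    rw [← AlgHom.card k L Ω, ← Nat.card_eq_fintype_card]
    refine Nat.card_eq_of_bijective (fun φ : L ≃ₐ[k] L => ι₀.comp (φ : L →ₐ[k] L)) ⟨fun φ φ' h => ?_, fun θ => ?_⟩
    · exact AlgEquiv.ext fun r => ι₀.toRingHom.injective (congrArg (fun m : L →ₐ[k] Ω => m r) h)
    · obtain ⟨φ, hφ⟩ := htw θ
      exact ⟨φ, hφ.symm⟩
  let sp : (L ≃ₐ[k] L) → (Spec (CommRingCat.of L) ⟶ Spec (CommRingCat.of L)) := fun φ =>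
    Spec.map (CommRingCat.ofHom φ.symm.toRingEquiv.toRingHom)
  have hγ : ∀ φ : L ≃ₐ[k] L, ∃ g : G, sp φ ≫ x'.left = x'.left ≫ (ρ g).hom.left := fun φ => by
    obtain ⟨g, hg⟩ := hdiff ι₀ (ι₀.comp (φ : L →ₐ[k] L))
    refine ⟨g, ?_⟩
    have h' := congrArg CommaMorphism.left hg
    change Spec.map _ ≫ x'.left = Spec.map (CommRingCat.ofHom ((ι₀ : L →+* Ω).comp (φ : L →+* L))) ≫ x'.left ≫ _ at h'
    rw [CommRingCat.ofHom_comp, Spec.map_comp, Category.assoc] at h'
    haveI : Flat (Spec.map (CommRingCat.ofHom (ι₀ : L →+* Ω))) := by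
      rw [HasRingHomProperty.Spec_iff (P := @Flat)]
      letI := (ι₀ : L →+* Ω).toAlgebra
      exact inferInstanceAs (Module.Flat L Ω)
    haveI : Surjective (Spec.map (CommRingCat.ofHom (ι₀ : L →+* Ω))) :=
      ⟨fun p => ⟨IsLocalRing.closedPoint _, Subsingleton.elim (α := PrimeSpectrum L) _ _⟩⟩
    haveI := Flat.epi_of_flat_of_surjective (Spec.map (CommRingCat.ofHom (ι₀ : L →+* Ω)))
    rw [cancel_epi] at h'
    have hid : sp φ ≫ Spec.map (CommRingCat.ofHom (φ : L →+* L)) = 𝟙 _ := by
      rw [← Spec.map_comp, ← Spec.map_id]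
      congr 1
      ext r
      exact φ.symm_apply_apply r
    exact (congrArg (sp φ ≫ ·) h').trans (by rw [← Category.assoc, hid, Category.id_comp])
  choose γ hγ using hγ
  have huniq : ∀ (φ : L ≃ₐ[k] L) (g g' : G), sp φ ≫ x'.left = x'.left ≫ (ρ g).hom.left →
      sp φ ≫ x'.left = x'.left ≫ (ρ g').hom.left → g = g' := fun φ g g' h h' => by
    refine FreeAction.eq_of_comp_eq hfree (T := P) (IsLocalRing.closedPoint L) x' ?_
    rw [← h, h']
  let Γ : (L ≃ₐ[k] L) →* G := MonoidHom.mk' γ fun φ χ => huniq _ _ _ (hγ _) (by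
    show Spec.map (CommRingCat.ofHom (φ * χ).symm.toRingEquiv.toRingHom) ≫ x'.left = _
    rw [show CommRingCat.ofHom (φ * χ).symm.toRingEquiv.toRingHom =
      CommRingCat.ofHom φ.symm.toRingEquiv.toRingHom ≫ CommRingCat.ofHom χ.symm.toRingEquiv.toRingHom from rfl,
      Spec.map_comp, Category.assoc]
    change sp χ ≫ sp φ ≫ x'.left = _
    rw [hγ φ, ← Category.assoc, hγ χ, Category.assoc, ← Over.comp_left, ← FreeAction.hom_mul])
  have hinj : Function.Injective Γ := fun φ χ h => by
    have h1 : sp φ ≫ x'.left = sp χ ≫ x'.left := by rw [hγ φ, hγ χ]; exact congrArg (fun g => x'.left ≫ (ρ g).hom.left) h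
    let o : ∀ φ : L ≃ₐ[k] L, P ⟶ P := fun φ => Over.homMk (sp φ) (by
      show Spec.map _ ≫ Spec.map _ ≫ σ = Spec.map _ ≫ σ
      rw [← Spec.map_comp_assoc]
      congr 2
      ext r
      exact φ.symm.commutes r)
    have hoe : ∀ φ, o φ ≫ eP = eP := fun φ => Over.OverMorphism.ext (by
      show Spec.map _ ≫ Spec.map _ = Spec.map _
      rw [← Spec.map_comp]
      congr 1
      ext r
      exact φ.symm.commutes r)
    have h2 : o φ ≫ w = o χ ≫ w := by
      apply (yon S).map_injective
      refine sqT.hom_ext ?_ ?_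
      · rw [← Functor.map_comp, ← Functor.map_comp, Category.assoc, Category.assoc]
        exact congrArg _ (Over.OverMorphism.ext h1)
      · rw [← Functor.map_comp, ← Functor.map_comp, Category.assoc, Category.assoc, hwe, hoe, hoe]
    have h3 := congrArg CommaMorphism.left h2
    change Spec.map _ ≫ T.left.fromSpecResidueField z = Spec.map _ ≫ T.left.fromSpecResidueField z at h3
    rw [cancel_mono] at h3
    exact AlgEquiv.symm_bijective.injective (AlgEquiv.ext fun r => congrArg (fun m => m.hom r) (Spec.map_injective h3))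
  refine ⟨L, inferInstance, inferInstance, inferInstance, inferInstance, Γ.range, Finite.of_equiv _ (MonoidHom.ofInjective hinj).toEquiv,
    (MonoidHom.ofInjective hinj).symm, x', fun h => ?_, hrel⟩
  obtain ⟨φ, rfl⟩ : ∃ φ, MonoidHom.ofInjective hinj φ = h := (MonoidHom.ofInjective hinj).surjective h
  rw [MulEquiv.symm_apply_apply]
  exact hγ φ

end Groth.Agent.S9895
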