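import Groth.Statements.S9967
import Groth.Agent.S9974
import Groth.Agent.AlgSpLib.LocalSourceInst

set_option autoImplicit false
universe u
open CategoryTheory CategoryTheory.Limits AlgebraicGeometry
open AlgSp Groth.Agent.AlgSpLib Groth.Agent.AlgSpPts Groth.Agent.AlgSpDec

namespace Groth.Agent.S9967

set_option backward.isDefEq.respectTransparency false
set_option backward.isDefEq.respectTransparency.types false

/-- For a separated f : X -> Y and a section s of f over a quasi-compact open V of Y, the scheme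
theoretic image of s maps isomorphically to Y over V. -/
theorem result {S : Scheme.{u}} {X Y V Y' : AlgSp.Space S} (f : X ⟶ Y) (j : V ⟶ Y)
    (hj : AlgSp.RepWith @IsOpenImmersion j.hom) (hjq : AlgSp.IsQuasiCompactMor j.hom) (hf : AlgSp.IsSeparatedMor f.hom)
    (s : V ⟶ X) (hs : s ≫ f = j) (c : Y' ⟶ X) (hc : AlgSp.IsSchImage s.hom c.hom)
    {P : AlgSp.Sp S} (fst : P ⟶ Y'.obj) (snd : P ⟶ V.obj) (sq : IsPullback fst snd (c ≫ f).hom j.hom) :
    IsIso snd := by
  have hsf : s.hom ≫ f.hom = j.hom := congrArg (fun k => k.hom) hs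
  have hjm : Mono j.hom := mono_of_repWith (repWith_mono (fun A B p (_ : IsOpenImmersion p) => inferInstanceAs (Mono p)) _ hj)
  have hcm : Mono c.hom := mono_of_closedImmersion hc.1
  have hsq : AlgSp.IsQuasiCompactMor s.hom := by
    have h1 : RepWith @IsClosedImmersion (pullback.lift (𝟙 V.obj) s.hom (by simp) : V.obj ⟶ pullback (s.hom ≫ f.hom) f.hom) :=
      graph_property hf
    have h2 := isQuasiCompactMor_comp (isAlgSpace_pullback V.property X.property Y.property _ _) X.property
      (isProperMor_of_closedImmersion h1).2.1.2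
      (isQuasiCompactMor_of_isPullback (IsPullback.of_hasPullback (s.hom ≫ f.hom) f.hom) (by rw [hsf]; exact hjq))
    rwa [pullback.lift_snd] at h2
  let XV : Space S := ⟨pullback f.hom j.hom, isAlgSpace_pullback X.property V.property Y.property _ _⟩
  let jX : XV ⟶ X := ObjectProperty.homMk (pullback.fst f.hom j.hom)
  let pV : XV.obj ⟶ V.obj := pullback.snd f.hom j.hom
  let σ : V.obj ⟶ XV.obj := pullback.lift s.hom (𝟙 V.obj) (by rw [Category.id_comp]; exact hsf)
  have hσ : RepWith @IsClosedImmersion σ := section_property (pullback.lift_snd _ _ _)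
    (isSeparatedMor_of_isPullback (IsPullback.of_hasPullback f.hom j.hom) hf)
  have hjX : AlgSp.LocP @Flat jX.hom := locP_of_repWith (repWith_mono
    (fun A B p (_ : IsOpenImmersion p) => inferInstanceAs (Flat p)) _
    (repWith_of_isPullback (IsPullback.of_hasPullback f.hom j.hom).flip hj))
  let VX : Space S := ⟨pullback s.hom jX.hom, isAlgSpace_pullback V.property XV.property X.property _ _⟩
  let ZX : Space S := ⟨pullback c.hom jX.hom, isAlgSpace_pullback Y'.property XV.property X.property _ _⟩
  let g₁ : VX ⟶ V := ObjectProperty.homMk (pullback.fst s.hom jX.hom)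
  let gX : VX ⟶ XV := ObjectProperty.homMk (pullback.snd s.hom jX.hom)
  let i₁ : ZX ⟶ Y' := ObjectProperty.homMk (pullback.fst c.hom jX.hom)
  let iX : ZX ⟶ XV := ObjectProperty.homMk (pullback.snd c.hom jX.hom)
  have him := Groth.Agent.S9974.result jX hjX s hsq c hc g₁ gX (IsPullback.of_hasPullback _ _) i₁ iX
    (IsPullback.of_hasPullback _ _)
  obtain ⟨k, hk⟩ := him.2.2 σ V.property hσ ⟨g₁.hom, by
    apply pullback.hom_ext
    · rw [Category.assoc, pullback.lift_fst]; exact pullback.condition
    · rw [Category.assoc, pullback.lift_snd, Category.comp_id]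
      rw [← cancel_mono j.hom, Category.assoc]
      show g₁.hom ≫ j.hom = gX.hom ≫ pullback.snd f.hom j.hom ≫ j.hom
      have e1 : g₁.hom ≫ s.hom = gX.hom ≫ pullback.fst f.hom j.hom := pullback.condition
      calc g₁.hom ≫ j.hom = g₁.hom ≫ s.hom ≫ f.hom := by rw [hsf]
        _ = gX.hom ≫ pullback.fst f.hom j.hom ≫ f.hom := by rw [reassoc_of% e1]
        _ = gX.hom ≫ pullback.snd f.hom j.hom ≫ j.hom := by rw [pullback.condition]⟩
  obtain ⟨s', hs'⟩ := hc.2.1
  have sqw : fst ≫ c.hom ≫ f.hom = snd ≫ j.hom := sq.w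
  let l : V.obj ⟶ P := sq.lift s' (𝟙 _) (by
    show s' ≫ c.hom ≫ f.hom = 𝟙 _ ≫ j.hom
    rw [reassoc_of% hs', hsf, Category.id_comp])
  let m : P ⟶ ZX.obj := pullback.lift fst (pullback.lift (fst ≫ c.hom) snd (by rw [Category.assoc]; exact sqw))
    (by show fst ≫ c.hom = _ ≫ pullback.fst f.hom j.hom; rw [pullback.lift_fst])
  have h1 : fst ≫ c.hom = snd ≫ s.hom := by
    have e := congrArg (fun t => m ≫ t) hk
    have ea := e =≫ pullback.fst f.hom j.hom
    have eb := e =≫ pullback.snd f.hom j.hom
    simp only [σ, iX, ObjectProperty.homMk_hom, m, Category.assoc, pullback.lift_fst, pullback.lift_snd,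
      pullback.lift_snd_assoc, Category.comp_id] at ea eb
    rw [← reassoc_of% eb] at *
    exact ea.symm
  refine ⟨l, sq.hom_ext ?_ ?_, sq.lift_snd _ _ _⟩
  · rw [Category.assoc, sq.lift_fst, Category.id_comp, ← cancel_mono c.hom, Category.assoc, hs', h1]
  · rw [Category.assoc, sq.lift_snd, Category.comp_id, Category.id_comp]

end Groth.Agent.S9967
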